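import Mathlib
import Cfsg.Prelude.Def_Characters

set_option autoImplicit false

namespace Cfsg.Agent.Helper5

open Representation Module

variable {G : Type*} [Group G]

/-- A representation on `Fin 1 → ℂ` has multiplicative character. -/
theorem character_mul_of_fin_one (ρ : Representation ℂ G (Fin 1 → ℂ)) (g k : G) :
    ρ.character (g * k) = ρ.character g * ρ.character k := by
  unfold Representation.character
  rw [map_mul]
  rw [LinearMap.trace_eq_matrix_trace ℂ (Pi.basisFun ℂ (Fin 1)),
    LinearMap.trace_eq_matrix_trace ℂ (Pi.basisFun ℂ (Fin 1)),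
    LinearMap.trace_eq_matrix_trace ℂ (Pi.basisFun ℂ (Fin 1)), LinearMap.toMatrix_mul]
  simp [Matrix.trace, Matrix.mul_apply]

/-- A degree-one character is multiplicative. -/
theorem linChar_mul {lam : G → ℂ} (h : Cfsg.IsCharacter G lam) (h1 : lam 1 = 1) (g k : G) :
    lam (g * k) = lam g * lam k := by
  obtain ⟨n, ρ, rfl⟩ := h
  rw [Representation.char_one, Module.finrank_fin_fun] at h1
  have hn : n = 1 := by exact_mod_cast h1
  subst hn
  exact character_mul_of_fin_one ρ g k

theorem linChar_ne_zero {lam : G → ℂ} (h : Cfsg.IsCharacter G lam) (h1 : lam 1 = 1) (g : G) :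
    lam g ≠ 0 := by
  intro h0
  have := linChar_mul h h1 g g⁻¹
  rw [mul_inv_cancel, h1, h0, zero_mul] at this
  exact one_ne_zero this

theorem linChar_inv {lam : G → ℂ} (h : Cfsg.IsCharacter G lam) (h1 : lam 1 = 1) (g : G) :
    lam g⁻¹ = (lam g)⁻¹ := by
  have := linChar_mul h h1 g g⁻¹
  rw [mul_inv_cancel, h1] at this
  exact eq_inv_of_mul_eq_one_right this.symm

/-- A degree-one character as a monoid hom to `ℂ`. -/
noncomputable def linCharHom {lam : G → ℂ} (h : Cfsg.IsCharacter G lam) (h1 : lam 1 = 1) : G →* ℂ where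
  toFun := lam
  map_one' := h1
  map_mul' := linChar_mul h h1

theorem linChar_pow {lam : G → ℂ} (h : Cfsg.IsCharacter G lam) (h1 : lam 1 = 1) (g : G) (n : ℕ) :
    lam (g ^ n) = lam g ^ n :=
  map_pow (linCharHom h h1) g n

/-- A monoid hom `G →* ℂ` is a degree-one character. -/
theorem isCharacter_of_monoidHom (f : G →* ℂ) : Cfsg.IsCharacter G f ∧ f 1 = 1 := by
  refine ⟨⟨1, ?_, ?_⟩, map_one f⟩
  · exact
      { toFun := fun g => f g • (LinearMap.id : (Fin 1 → ℂ) →ₗ[ℂ] (Fin 1 → ℂ))
        map_one' := by rw [map_one, one_smul]; rfl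
        map_mul' := fun g k => by
          rw [map_mul, Module.End.mul_eq_comp, LinearMap.smul_comp, LinearMap.comp_smul, smul_smul]
          rfl }
  · funext g
    unfold Representation.character
    show LinearMap.trace ℂ (Fin 1 → ℂ) (f g • LinearMap.id) = f g
    rw [map_smul, LinearMap.trace_id, Module.finrank_fin_fun]
    simp

end Cfsg.Agent.Helper5
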