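import Mathlib
import Cfsg.Prelude.Def_Characters
import Cfsg.Agent.Helper24.ColumnOrth

set_option autoImplicit false

namespace Cfsg.Agent.Helper5

open Cfsg Cfsg.Agent.Helper24

variable {G : Type*} [Group G]

/-- `χ(g⁻¹)` is the complex conjugate of `χ(g)`. -/
theorem isCharacter_inv [Finite G] {χ : G → ℂ} (h : IsCharacter G χ) (g : G) :
    χ g⁻¹ = (starRingEnd ℂ) (χ g) := by
  obtain ⟨n, ρ, rfl⟩ := h
  exact char_inv ρ g

theorem irr_inv [Finite G] (χ : IrrCharacter G) (g : G) :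
    (χ : G → ℂ) g⁻¹ = (starRingEnd ℂ) ((χ : G → ℂ) g) :=
  isCharacter_inv (IsIrrCharacter.isCharacter χ.2) g

end Cfsg.Agent.Helper5
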