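import Mathlib
import Cfsg.Prelude.Def_Blocks

set_option autoImplicit false

namespace Cfsg.Agent.Helper5

open Cfsg Polynomial

theorem algInt_quot_charP (p : ℕ) (M : Ideal Cfsg.AlgInt) (hM : Cfsg.IsPModular p M) :
    CharP (Cfsg.AlgInt ⧸ M) p := by
  have := hM.2.1
  let _ := Ideal.Quotient.field M
  obtain ⟨r, hr⟩ := CharP.exists (Cfsg.AlgInt ⧸ M)
  have h0 : ((p : ℕ) : Cfsg.AlgInt ⧸ M) = 0 := by
    have h1 : Ideal.Quotient.mk M (p : Cfsg.AlgInt) = 0 := Ideal.Quotient.eq_zero_iff_mem.mpr hM.2.2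
    rwa [map_natCast] at h1
  have hrp : r ∣ p := (CharP.cast_eq_zero_iff (Cfsg.AlgInt ⧸ M) r p).mp h0
  rcases (Nat.dvd_prime hM.1).mp hrp with h1 | h1
  · exfalso; exact CharP.char_ne_one (Cfsg.AlgInt ⧸ M) r h1
  · exact h1 ▸ hr

/-- A natural number lying in `M` is divisible by `p`. -/
theorem dvd_of_natCast_mem (p : ℕ) (M : Ideal Cfsg.AlgInt) (hM : Cfsg.IsPModular p M) (m : ℕ)
    (hm : (m : Cfsg.AlgInt) ∈ M) : p ∣ m := by
  have := algInt_quot_charP p M hM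
  have h1 : Ideal.Quotient.mk M (m : Cfsg.AlgInt) = 0 := Ideal.Quotient.eq_zero_iff_mem.mpr hm
  rw [map_natCast] at h1
  exact (CharP.cast_eq_zero_iff (Cfsg.AlgInt ⧸ M) p m).mp h1

theorem root_of_unity_inj (p : ℕ) (M : Ideal Cfsg.AlgInt) (hM : Cfsg.IsPModular p M)
    (ε₁ ε₂ : Cfsg.AlgInt) (h₁ : ∃ m : ℕ, ¬ p ∣ m ∧ (ε₁ : ℂ) ^ m = 1)
    (h₂ : ∃ m : ℕ, ¬ p ∣ m ∧ (ε₂ : ℂ) ^ m = 1) (hM12 : ε₁ - ε₂ ∈ M) : ε₁ = ε₂ := by
  obtain ⟨m₁, hm₁, he₁⟩ := h₁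
  obtain ⟨m₂, hm₂, he₂⟩ := h₂
  by_contra hne
  set m := m₁ * m₂ with hm
  have hpm : ¬ p ∣ m := fun h => (hM.1.dvd_mul.mp h).elim hm₁ hm₂
  have hmpos : 0 < m := Nat.pos_of_ne_zero (fun h => hpm (h ▸ dvd_zero p))
  have e₁ : ε₁ ^ m = 1 := by
    apply Subtype.ext
    rw [SubmonoidClass.coe_pow, hm, pow_mul, he₁, one_pow]; rfl
  have e₂ : ε₂ ^ m = 1 := by
    apply Subtype.ext
    rw [SubmonoidClass.coe_pow, hm, mul_comm, pow_mul, he₂, one_pow]; rfl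
  set ζ := ε₂ * ε₁ ^ (m - 1) with hζ
  have hmm : m - 1 + 1 = m := Nat.sub_add_cancel hmpos
  have h1 : ε₁ * ζ = ε₂ := by
    rw [hζ]
    calc ε₁ * (ε₂ * ε₁ ^ (m - 1)) = ε₂ * (ε₁ ^ (m - 1) * ε₁) := by ring
      _ = ε₂ := by rw [← pow_succ, hmm, e₁, mul_one]
  have hζm : ζ ^ m = 1 := by
    rw [hζ, mul_pow, e₂, one_mul, ← pow_mul, mul_comm, pow_mul, e₁, one_pow]
  have hζ1 : ζ ≠ 1 := by
    intro h
    rw [h, mul_one] at h1
    exact hne h1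
  have h1ζ : 1 - ζ ∈ M := by
    have : 1 - ζ = ε₁ ^ (m - 1) * (ε₁ - ε₂) := by
      rw [mul_sub, ← pow_succ, hmm, e₁, hζ]; ring
    rw [this]
    exact M.mul_mem_left _ hM12
  have hsum : ∑ j ∈ Finset.range m, ζ ^ j = 0 := by
    have := geom_sum_mul ζ m
    rw [hζm, sub_self] at this
    rcases mul_eq_zero.mp this with h | h
    · exact h
    · exact absurd (sub_eq_zero.mp h) hζ1
  have hmM : (m : Cfsg.AlgInt) ∈ M := by
    have : (m : Cfsg.AlgInt) = ∑ j ∈ Finset.range m, (1 - ζ ^ j) := by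
      rw [Finset.sum_sub_distrib, hsum, sub_zero]; simp
    rw [this]
    apply Ideal.sum_mem
    intro j _
    have hd : 1 - ζ ∣ 1 ^ j - ζ ^ j := sub_dvd_pow_sub_pow 1 ζ j
    rw [one_pow] at hd
    exact Ideal.mem_of_dvd M hd h1ζ
  exact hpm (dvd_of_natCast_mem p M hM m hmM)

/-- In a field of characteristic `p` in which `x` is integral over `ZMod p`, a nonzero `x`
satisfies `x ^ n = 1` for some `n` prime to `p`. -/
theorem exists_pow_eq_one_of_isIntegral {k : Type*} [Field k] (p : ℕ) [Fact p.Prime] [CharP k p]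
    [Algebra (ZMod p) k] (x : k) (hx0 : x ≠ 0) (hx : IsIntegral (ZMod p) x) :
    ∃ n : ℕ, ¬ p ∣ n ∧ x ^ n = 1 := by
  have hfg := hx.fg_adjoin_singleton
  have hmf : Module.Finite (ZMod p) (Algebra.adjoin (ZMod p) {x}) :=
    Module.Finite.iff_fg.mpr hfg
  have hfin : Finite (Algebra.adjoin (ZMod p) {x}) := Module.finite_of_finite (ZMod p)
  have hxA : x ∈ Algebra.adjoin (ZMod p) {x} := Algebra.subset_adjoin (Set.mem_singleton x)
  -- powers are not injective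
  have hninj : ¬ Function.Injective (fun j : ℕ => (⟨x, hxA⟩ : Algebra.adjoin (ZMod p) {x}) ^ j) :=
    not_injective_infinite_finite _
  rw [Function.Injective] at hninj
  push Not at hninj
  obtain ⟨i, j, hij, hne⟩ := hninj
  have hij' : x ^ i = x ^ j := by
    have := congrArg Subtype.val hij
    simpa using this
  -- get n₀ > 0 with x ^ n₀ = 1
  obtain ⟨n₀, hn₀, hxn₀⟩ : ∃ n₀ : ℕ, 0 < n₀ ∧ x ^ n₀ = 1 := by
    rcases Nat.lt_or_gt_of_ne hne with h | h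
    · refine ⟨j - i, Nat.sub_pos_of_lt h, ?_⟩
      have : x ^ i * x ^ (j - i) = x ^ i * 1 := by
        rw [← pow_add, Nat.add_sub_cancel' h.le, mul_one, hij']
      exact mul_left_cancel₀ (pow_ne_zero i hx0) this
    · refine ⟨i - j, Nat.sub_pos_of_lt h, ?_⟩
      have : x ^ j * x ^ (i - j) = x ^ j * 1 := by
        rw [← pow_add, Nat.add_sub_cancel' h.le, mul_one, hij']
      exact mul_left_cancel₀ (pow_ne_zero j hx0) this
  obtain ⟨s, n', hn', hn₀eq⟩ := Nat.exists_eq_pow_mul_and_not_dvd hn₀.ne' p (Fact.out : p.Prime).ne_one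
  refine ⟨n', hn', ?_⟩
  have h1 : (x ^ n') ^ (p ^ s) = 1 := by
    rw [← pow_mul, mul_comm, ← hn₀eq, hxn₀]
  have h2 : (x ^ n' - 1) ^ (p ^ s) = 0 := by
    rw [sub_pow_char_pow, h1, one_pow, sub_self]
  exact sub_eq_zero.mp (pow_eq_zero_iff (pow_ne_zero s (Fact.out : p.Prime).ne_zero) |>.mp h2)

theorem exists_root_of_unity_lift (p : ℕ) [Fact p.Prime] (M : Ideal Cfsg.AlgInt)
    (hM : Cfsg.IsPModular p M) (a : Cfsg.AlgInt) (ha : a ∉ M) :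
    ∃ ε : Cfsg.AlgInt, (∃ m : ℕ, ¬ p ∣ m ∧ (ε : ℂ) ^ m = 1) ∧ a - ε ∈ M := by
  classical
  have hmax := hM.2.1
  let _ := Ideal.Quotient.field M
  have hchar := algInt_quot_charP p M hM
  let _ := ZMod.algebra (Cfsg.AlgInt ⧸ M) p
  have h0 : Ideal.Quotient.mk M a ≠ 0 := fun h => ha (Ideal.Quotient.eq_zero_iff_mem.mp h)
  have hintZ : IsIntegral ℤ a := IsIntegralClosure.isIntegral ℤ ℂ a
  have hint1 : IsIntegral ℤ (Ideal.Quotient.mk M a) := hintZ.map (Ideal.Quotient.mkₐ ℤ M)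
  have hint : IsIntegral (ZMod p) (Ideal.Quotient.mk M a) := hint1.tower_top
  obtain ⟨n, hpn, hn⟩ := exists_pow_eq_one_of_isIntegral p (Ideal.Quotient.mk M a) h0 hint
  have hnpos : 0 < n := Nat.pos_of_ne_zero (fun h => hpn (h ▸ dvd_zero p))
  have haM : a ^ n - 1 ∈ M := by
    rw [← Ideal.Quotient.eq_zero_iff_mem, map_sub, map_pow, hn, map_one, sub_self]
  have hω := Complex.isPrimitiveRoot_exp n hnpos.ne'
  have hprod := X_pow_sub_one_eq_prod hnpos hω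
  have heval : (a : ℂ) ^ n - 1 = ∏ ζ ∈ nthRootsFinset n (1 : ℂ), ((a : ℂ) - ζ) := by
    have := congrArg (Polynomial.eval (a : ℂ)) hprod
    simpa [Polynomial.eval_prod] using this
  have hroot : ∀ ζ ∈ nthRootsFinset n (1 : ℂ), ζ ∈ Cfsg.AlgInt := by
    intro ζ hζ
    rw [mem_nthRootsFinset hnpos] at hζ
    apply IsIntegral.of_pow hnpos
    rw [hζ]
    exact isIntegral_one
  set P : Cfsg.AlgInt := ∏ ζ ∈ (nthRootsFinset n (1 : ℂ)).attach, (a - ⟨ζ.1, hroot ζ.1 ζ.2⟩) with hP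
  have hPeq : P = a ^ n - 1 := by
    apply Subtype.ext
    rw [hP]
    have h1 : ((∏ ζ ∈ (nthRootsFinset n (1 : ℂ)).attach, (a - ⟨ζ.1, hroot ζ.1 ζ.2⟩) : Cfsg.AlgInt) : ℂ)
        = ∏ ζ ∈ (nthRootsFinset n (1 : ℂ)).attach, ((a : ℂ) - ζ.1) := by
      rw [← Subalgebra.coe_val, map_prod]
      rfl
    rw [h1, Finset.prod_attach (nthRootsFinset n (1 : ℂ)) (fun ζ => (a : ℂ) - ζ), ← heval]
    rfl
  rw [← hPeq, hP] at haM
  obtain ⟨ζ, _, hζM⟩ := (hmax.isPrime.prod_mem_iff).mp haM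
  refine ⟨⟨ζ.1, hroot ζ.1 ζ.2⟩, ⟨n, hpn, ?_⟩, hζM⟩
  exact (mem_nthRootsFinset hnpos _).mp ζ.2

end Cfsg.Agent.Helper5
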