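import Mathlib
import Cfsg.Prelude.Def_Blocks
import Cfsg.Agent.Helper5.AlgIntMod

set_option autoImplicit false

/-!
# The local ring of algebraic integers at a maximal ideal: `MemLocalRing`, `MemLocalIdeal`
-/

namespace Cfsg.Agent.Helper5.Loc

open Cfsg

variable {M : Ideal AlgInt}

theorem isPrime_of_isPModular {p : ℕ} (hM : IsPModular p M) : M.IsPrime :=
  hM.2.1.isPrime

theorem one_not_mem (hM : M.IsPrime) : (1 : AlgInt) ∉ M :=
  (Ideal.ne_top_iff_one M).mp hM.ne_top

theorem coe_injective : Function.Injective (fun a : AlgInt => (a : ℂ)) := Subtype.val_injective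

theorem coe_ne_zero_of_not_mem {b : AlgInt} (hb : b ∉ M) : (b : ℂ) ≠ 0 := by
  intro h
  apply hb
  have : b = 0 := Subtype.ext h
  rw [this]
  exact M.zero_mem

/-! ### The local ring -/

theorem memLocalRing_algInt (hM : M.IsPrime) (a : AlgInt) : MemLocalRing M (a : ℂ) :=
  ⟨a, 1, one_not_mem hM, by simp⟩

theorem memLocalRing_of_isIntegral (hM : M.IsPrime) {z : ℂ} (hz : IsIntegral ℤ z) :
    MemLocalRing M z :=
  memLocalRing_algInt hM ⟨z, hz⟩

theorem memLocalRing_zero (hM : M.IsPrime) : MemLocalRing M 0 :=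
  memLocalRing_of_isIntegral hM isIntegral_zero

theorem memLocalRing_one (hM : M.IsPrime) : MemLocalRing M 1 :=
  memLocalRing_of_isIntegral hM isIntegral_one

theorem memLocalRing_intCast (hM : M.IsPrime) (n : ℤ) : MemLocalRing M (n : ℂ) := by
  have h : IsIntegral ℤ (algebraMap ℤ ℂ n) := isIntegral_algebraMap
  have h2 : algebraMap ℤ ℂ n = (n : ℂ) := rfl
  rw [h2] at h
  exact memLocalRing_of_isIntegral hM h

theorem memLocalRing_natCast (hM : M.IsPrime) (n : ℕ) : MemLocalRing M (n : ℂ) := by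
  have := memLocalRing_intCast hM (n : ℤ)
  simpa using this

theorem lr_add (hM : M.IsPrime) {z w : ℂ} (hz : MemLocalRing M z)
    (hw : MemLocalRing M w) : MemLocalRing M (z + w) := by
  obtain ⟨a, b, hb, rfl⟩ := hz
  obtain ⟨a', b', hb', rfl⟩ := hw
  refine ⟨a * b' + a' * b, b * b', fun h => (hM.mem_or_mem h).elim hb hb', ?_⟩
  have h1 := coe_ne_zero_of_not_mem hb
  have h2 := coe_ne_zero_of_not_mem hb'
  push_cast
  field_simp

theorem lr_mul (hM : M.IsPrime) {z w : ℂ} (hz : MemLocalRing M z)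
    (hw : MemLocalRing M w) : MemLocalRing M (z * w) := by
  obtain ⟨a, b, hb, rfl⟩ := hz
  obtain ⟨a', b', hb', rfl⟩ := hw
  refine ⟨a * a', b * b', fun h => (hM.mem_or_mem h).elim hb hb', ?_⟩
  push_cast
  rw [div_mul_div_comm]

theorem lr_neg {z : ℂ} (hz : MemLocalRing M z) : MemLocalRing M (-z) := by
  obtain ⟨a, b, hb, rfl⟩ := hz
  refine ⟨-a, b, hb, ?_⟩
  push_cast
  rw [neg_div]

theorem lr_sub (hM : M.IsPrime) {z w : ℂ} (hz : MemLocalRing M z)
    (hw : MemLocalRing M w) : MemLocalRing M (z - w) := by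
  rw [sub_eq_add_neg]
  exact lr_add hM hz (lr_neg hw)

theorem lr_sum (hM : M.IsPrime) {ι : Type*} (s : Finset ι) (f : ι → ℂ)
    (h : ∀ i ∈ s, MemLocalRing M (f i)) : MemLocalRing M (∑ i ∈ s, f i) := by
  classical
  induction s using Finset.induction_on with
  | empty => simpa using memLocalRing_zero hM
  | insert a s ha ih =>
    rw [Finset.sum_insert ha]
    exact lr_add hM (h a (Finset.mem_insert_self a s))
      (ih fun i hi => h i (Finset.mem_insert_of_mem hi))

theorem lr_prod (hM : M.IsPrime) {ι : Type*} (s : Finset ι) (f : ι → ℂ)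
    (h : ∀ i ∈ s, MemLocalRing M (f i)) : MemLocalRing M (∏ i ∈ s, f i) := by
  classical
  induction s using Finset.induction_on with
  | empty => simpa using memLocalRing_one hM
  | insert a s ha ih =>
    rw [Finset.prod_insert ha]
    exact lr_mul hM (h a (Finset.mem_insert_self a s))
      (ih fun i hi => h i (Finset.mem_insert_of_mem hi))

theorem lr_pow (hM : M.IsPrime) {z : ℂ} (hz : MemLocalRing M z) (n : ℕ) :
    MemLocalRing M (z ^ n) := by
  induction n with
  | zero => simpa using memLocalRing_one hM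
  | succ n ih => rw [pow_succ]; exact lr_mul hM ih hz

/-- Algebraic integers outside `M` are units of the local ring. -/
theorem memLocalRing_inv_of_not_mem {a : AlgInt} (ha : a ∉ M) :
    MemLocalRing M ((a : ℂ)⁻¹) :=
  ⟨1, a, ha, by simp⟩

/-! ### The local ideal -/

theorem li_lr {z : ℂ} (hz : MemLocalIdeal M z) : MemLocalRing M z := by
  obtain ⟨a, b, -, hb, rfl⟩ := hz
  exact ⟨a, b, hb, rfl⟩

theorem memLocalIdeal_of_mem (hM : M.IsPrime) {a : AlgInt} (ha : a ∈ M) :
    MemLocalIdeal M (a : ℂ) :=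
  ⟨a, 1, ha, one_not_mem hM, by simp⟩

theorem memLocalIdeal_zero (hM : M.IsPrime) : MemLocalIdeal M 0 := by
  have := memLocalIdeal_of_mem hM (M.zero_mem)
  simpa using this

theorem li_add (hM : M.IsPrime) {z w : ℂ} (hz : MemLocalIdeal M z)
    (hw : MemLocalIdeal M w) : MemLocalIdeal M (z + w) := by
  obtain ⟨a, b, ha, hb, rfl⟩ := hz
  obtain ⟨a', b', ha', hb', rfl⟩ := hw
  refine ⟨a * b' + a' * b, b * b',
    M.add_mem (M.mul_mem_right _ ha) (M.mul_mem_right _ ha'),
    fun h => (hM.mem_or_mem h).elim hb hb', ?_⟩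
  have h1 := coe_ne_zero_of_not_mem hb
  have h2 := coe_ne_zero_of_not_mem hb'
  push_cast
  field_simp

theorem li_neg {z : ℂ} (hz : MemLocalIdeal M z) : MemLocalIdeal M (-z) := by
  obtain ⟨a, b, ha, hb, rfl⟩ := hz
  refine ⟨-a, b, M.neg_mem ha, hb, ?_⟩
  push_cast
  rw [neg_div]

theorem li_sub (hM : M.IsPrime) {z w : ℂ} (hz : MemLocalIdeal M z)
    (hw : MemLocalIdeal M w) : MemLocalIdeal M (z - w) := by
  rw [sub_eq_add_neg]
  exact li_add hM hz (li_neg hw)

theorem li_mul_left (hM : M.IsPrime) {r z : ℂ} (hr : MemLocalRing M r)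
    (hz : MemLocalIdeal M z) : MemLocalIdeal M (r * z) := by
  obtain ⟨a, b, hb, rfl⟩ := hr
  obtain ⟨a', b', ha', hb', rfl⟩ := hz
  refine ⟨a * a', b * b', M.mul_mem_left _ ha', fun h => (hM.mem_or_mem h).elim hb hb', ?_⟩
  push_cast
  rw [div_mul_div_comm]

theorem li_mul_right (hM : M.IsPrime) {r z : ℂ} (hz : MemLocalIdeal M z)
    (hr : MemLocalRing M r) : MemLocalIdeal M (z * r) := by
  rw [mul_comm]
  exact li_mul_left hM hr hz

theorem li_sum (hM : M.IsPrime) {ι : Type*} (s : Finset ι) (f : ι → ℂ)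
    (h : ∀ i ∈ s, MemLocalIdeal M (f i)) : MemLocalIdeal M (∑ i ∈ s, f i) := by
  classical
  induction s using Finset.induction_on with
  | empty => simpa using memLocalIdeal_zero hM
  | insert a s ha ih =>
    rw [Finset.sum_insert ha]
    exact li_add hM (h a (Finset.mem_insert_self a s))
      (ih fun i hi => h i (Finset.mem_insert_of_mem hi))

/-- For an algebraic integer, lying in the local ideal means lying in `M`. -/
theorem memLocalIdeal_algInt_iff (hM : M.IsPrime) (a : AlgInt) :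
    MemLocalIdeal M (a : ℂ) ↔ a ∈ M := by
  constructor
  · rintro ⟨a', b, ha', hb, h⟩
    have hb0 := coe_ne_zero_of_not_mem hb
    have h1 : a * b = a' := by
      apply Subtype.ext
      push_cast
      rw [← h]
      field_simp
    have h2 : a * b ∈ M := h1 ▸ ha'
    exact (hM.mem_or_mem h2).resolve_right hb
  · exact memLocalIdeal_of_mem hM

theorem not_memLocalIdeal_one (hM : M.IsPrime) : ¬ MemLocalIdeal M 1 := by
  intro h
  have : MemLocalIdeal M ((1 : AlgInt) : ℂ) := by simpa using h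
  exact one_not_mem hM ((memLocalIdeal_algInt_iff hM 1).mp this)

/-- The local ideal is a prime ideal of the local ring. -/
theorem li_of_mul (hM : M.IsPrime) {z w : ℂ} (hz : MemLocalRing M z)
    (hw : MemLocalRing M w) (h : MemLocalIdeal M (z * w)) :
    MemLocalIdeal M z ∨ MemLocalIdeal M w := by
  obtain ⟨a, b, hb, rfl⟩ := hz
  obtain ⟨a', b', hb', rfl⟩ := hw
  obtain ⟨c, d, hc, hd, hcd⟩ := h
  have hb0 := coe_ne_zero_of_not_mem hb
  have hb0' := coe_ne_zero_of_not_mem hb'
  have hd0 := coe_ne_zero_of_not_mem hd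
  have h1 : a * a' * d = c * (b * b') := by
    apply Subtype.ext
    push_cast
    field_simp at hcd
    linear_combination -hcd
  have h2 : a * a' * d ∈ M := h1 ▸ M.mul_mem_right _ hc
  have h3 : a * a' ∈ M := (hM.mem_or_mem h2).resolve_right hd
  rcases hM.mem_or_mem h3 with h4 | h4
  · left; exact ⟨a, b, h4, hb, rfl⟩
  · right; exact ⟨a', b', h4, hb', rfl⟩

/-- An element of the local ring outside the local ideal is a unit of the local ring. -/
theorem lr_inv_of_not_li {z : ℂ} (hz : MemLocalRing M z)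
    (hz' : ¬ MemLocalIdeal M z) : MemLocalRing M z⁻¹ := by
  obtain ⟨a, b, hb, rfl⟩ := hz
  have ha : a ∉ M := fun h => hz' ⟨a, b, h, hb, rfl⟩
  exact ⟨b, a, ha, by rw [inv_div]⟩

/-- A natural number prime to `p` is a unit in the local ring. -/
theorem natCast_not_mem {p : ℕ} (hM : IsPModular p M) {n : ℕ} (hn : ¬ p ∣ n) :
    (n : AlgInt) ∉ M :=
  fun h => hn (dvd_of_natCast_mem p M hM n h)

theorem memLocalRing_inv_natCast {p : ℕ} (hM : IsPModular p M) {n : ℕ} (hn : ¬ p ∣ n) :
    MemLocalRing M ((n : ℂ)⁻¹) := by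
  have := memLocalRing_inv_of_not_mem (natCast_not_mem hM hn)
  simpa using this

theorem memLocalIdeal_natCast_iff {p : ℕ} (hM : IsPModular p M) (n : ℕ) :
    MemLocalIdeal M (n : ℂ) ↔ p ∣ n := by
  have h := memLocalIdeal_algInt_iff (isPrime_of_isPModular hM) (n : AlgInt)
  have hc : (((n : AlgInt)) : ℂ) = (n : ℂ) := by simp
  rw [hc] at h
  rw [h]
  constructor
  · exact dvd_of_natCast_mem p M hM n
  · rintro ⟨k, rfl⟩
    push_cast
    exact M.mul_mem_right _ hM.2.2

end Cfsg.Agent.Helper5.Loc
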