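import Mathlib
import Cfsg.Prelude.Def_Blocks
import Cfsg.Agent.Helper24.Integrality
import Cfsg.Agent.Helper5.LocalRing
import Cfsg.Agent.Helper5.CharFacts

set_option autoImplicit false

/-!
# Central characters and the centre of the group algebra over the local ring

The centre of `R_M[G]` is modelled by class functions `c : G → ℂ` with values in the local
ring; such a `c` acts on the irreducible character `χ` by the scalar `(∑ t, c t * χ t) / χ 1`.
-/

namespace Cfsg.Agent.Helper5.CC

open Cfsg Cfsg.Agent.Helper24 Cfsg.Agent.Helper5 Cfsg.Agent.Helper5.Loc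

variable {G : Type*} [Group G]

theorem centralChar_def (χ : G → ℂ) (g : G) :
    centralChar χ g = ((Subgroup.centralizer ({g} : Set G)).index : ℂ) * χ g / χ 1 := rfl

/-- Central character values of irreducible characters are algebraic integers. -/
theorem isIntegral_centralChar [Finite G] (χ : IrrCharacter G) (g : G) :
    IsIntegral ℤ (centralChar (χ : G → ℂ) g) := by
  obtain ⟨n, ρ, hirr, hχ⟩ := χ.2
  have := hirr
  have h := isIntegral_index_mul_char_div ρ g
  rw [centralChar_def, ← hχ, Representation.char_one]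
  exact h

theorem memLocalRing_centralChar [Finite G] {M : Ideal AlgInt} (hM : M.IsPrime)
    (χ : IrrCharacter G) (g : G) : MemLocalRing M (centralChar (χ : G → ℂ) g) :=
  memLocalRing_of_isIntegral hM (isIntegral_centralChar χ g)

section Fin

variable [Fintype G]

/-- The scalar by which the "central element" `c` acts on `χ`. -/
noncomputable def act (c : G → ℂ) (χ : IrrCharacter G) : ℂ :=
  (∑ t : G, c t * (χ : G → ℂ) t) / (χ : G → ℂ) 1

theorem act_classIndicator (g : G) (χ : IrrCharacter G) :
    act (classIndicator g) χ = centralChar (χ : G → ℂ) g := by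
  rw [act, centralChar_def]
  congr 1
  have : ∀ x, classIndicator g x * (χ : G → ℂ) x = classIndicator g x * (χ : G → ℂ) g := by
    intro x
    exact classIndicator_mul g _ (isClassFunction_irr χ) x
  simp_rw [this]
  rw [← Finset.sum_mul, sum_classIndicator, index_centralizer_eq_card_conj]

/-- The unit: the delta function at `1`. -/
noncomputable def deltaOne : G → ℂ := classIndicator (1 : G)

omit [Fintype G] in
theorem deltaOne_apply_one : deltaOne (1 : G) = 1 :=
  classIndicator_of_isConj (IsConj.refl 1)

omit [Fintype G] in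
theorem deltaOne_apply_ne {t : G} (ht : t ≠ 1) : deltaOne t = 0 := by
  apply classIndicator_of_not_isConj
  intro h
  apply ht
  rw [isConj_iff] at h
  obtain ⟨c, hc⟩ := h
  rw [← hc]
  group

theorem act_deltaOne (χ : IrrCharacter G) : act deltaOne χ = 1 := by
  classical
  rw [act, Finset.sum_eq_single (1 : G)]
  · rw [deltaOne_apply_one, one_mul, div_self (irr_one_ne_zero χ)]
  · intro t _ ht
    rw [deltaOne_apply_ne ht, zero_mul]
  · intro h; exact absurd (Finset.mem_univ _) h

theorem act_add (c d : G → ℂ) (χ : IrrCharacter G) : act (c + d) χ = act c χ + act d χ := by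
  simp only [act, Pi.add_apply, add_mul, Finset.sum_add_distrib, add_div]

theorem act_smul (r : ℂ) (c : G → ℂ) (χ : IrrCharacter G) : act (r • c) χ = r * act c χ := by
  simp only [act, Pi.smul_apply, smul_eq_mul, mul_assoc, ← Finset.mul_sum, mul_div_assoc]

theorem act_sub (c d : G → ℂ) (χ : IrrCharacter G) : act (c - d) χ = act c χ - act d χ := by
  simp only [act, Pi.sub_apply, sub_mul, Finset.sum_sub_distrib, sub_div]

/-- Convolution of functions on `G`. -/
noncomputable def conv (c d : G → ℂ) : G → ℂ := fun u => ∑ t : G, c t * d (t⁻¹ * u)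

theorem isClassFunction_conv {c d : G → ℂ} (hc : IsClassFunction G c) (hd : IsClassFunction G d) :
    IsClassFunction G (conv c d) := by
  intro g x
  simp only [conv]
  rw [← Equiv.sum_comp (MulAut.conj x).toEquiv]
  refine Finset.sum_congr rfl fun t _ => ?_
  have h1 : c ((MulAut.conj x).toEquiv t) = c t := by
    simp only [MulEquiv.toEquiv_eq_coe, EquivLike.coe_coe, MulAut.conj_apply]
    exact hc t x
  have h2 : d (((MulAut.conj x).toEquiv t)⁻¹ * (x * g * x⁻¹)) = d (t⁻¹ * g) := by
    simp only [MulEquiv.toEquiv_eq_coe, EquivLike.coe_coe, MulAut.conj_apply]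
    have : (x * t * x⁻¹)⁻¹ * (x * g * x⁻¹) = x * (t⁻¹ * g) * x⁻¹ := by group
    rw [this]
    exact hd _ x
  rw [h1, h2]

/-- Convolution corresponds to multiplication of the scalars. -/
theorem act_conv {c d : G → ℂ} (hc : IsClassFunction G c) (χ : IrrCharacter G) :
    act (conv c d) χ = act c χ * act d χ := by
  have h1 : (χ : G → ℂ) 1 ≠ 0 := irr_one_ne_zero χ
  have key : ∀ s : G, ∑ t : G, c t * (χ : G → ℂ) (t * s) =
      (χ : G → ℂ) s * (∑ t : G, c t * (χ : G → ℂ) t) / (χ : G → ℂ) 1 := by
    intro s
    have := irr_sum_mul_char_mul χ c hc s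
    rw [eq_div_iff h1, mul_comm, this]
  simp only [act, conv]
  have e1 : ∑ u : G, (∑ t : G, c t * d (t⁻¹ * u)) * (χ : G → ℂ) u =
      ∑ s : G, d s * ∑ t : G, c t * (χ : G → ℂ) (t * s) := by
    simp_rw [Finset.sum_mul, Finset.mul_sum]
    rw [Finset.sum_comm]
    conv_rhs => rw [Finset.sum_comm]
    refine Finset.sum_congr rfl fun t _ => ?_
    rw [← Equiv.sum_comp (Equiv.mulLeft t)]
    refine Finset.sum_congr rfl fun s _ => ?_
    simp only [Equiv.coe_mulLeft, inv_mul_cancel_left]
    ring
  rw [e1]
  simp_rw [key]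
  have e2 : ∑ x : G, d x * (((χ : G → ℂ) x * ∑ t : G, c t * (χ : G → ℂ) t) / (χ : G → ℂ) 1) =
      ((∑ t : G, c t * (χ : G → ℂ) t) * ∑ x : G, d x * (χ : G → ℂ) x) / (χ : G → ℂ) 1 := by
    rw [Finset.mul_sum, Finset.sum_div]
    refine Finset.sum_congr rfl fun x _ => ?_
    ring
  rw [e2, div_div, div_mul_div_comm]

omit [Fintype G] in
/-- A representative of a conjugacy class. -/
noncomputable def rep (K : ConjClasses G) : G := Classical.choose (ConjClasses.exists_rep K)

omit [Fintype G] in
theorem mk_rep (K : ConjClasses G) : ConjClasses.mk (rep K) = K :=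
  Classical.choose_spec (ConjClasses.exists_rep K)

/-- Sum of a class function over the group, regrouped by conjugacy classes. -/
theorem sum_eq_sum_conjClasses [Fintype (ConjClasses G)] {F : G → ℂ} (hF : IsClassFunction G F) :
    ∑ t : G, F t = ∑ K : ConjClasses G,
      ((Subgroup.centralizer ({rep K} : Set G)).index : ℂ) * F (rep K) := by
  classical
  rw [← Finset.sum_fiberwise Finset.univ (ConjClasses.mk : G → ConjClasses G) F]
  refine Finset.sum_congr rfl fun K _ => ?_
  have hK : ConjClasses.mk (rep K) = K := mk_rep K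
  have h1 : ∀ t ∈ Finset.univ.filter (fun t : G => ConjClasses.mk t = K), F t = F (rep K) := by
    intro t ht
    have h2 : ConjClasses.mk t = ConjClasses.mk (rep K) := by
      rw [hK]; exact (Finset.mem_filter.mp ht).2
    exact IsClassFunction.eq_of_isConj hF (ConjClasses.mk_eq_mk_iff_isConj.mp h2)
  rw [Finset.sum_congr rfl h1, Finset.sum_const, nsmul_eq_mul]
  congr 2
  rw [index_centralizer_eq_card_conj, Nat.card_eq_fintype_card, Fintype.card_subtype]
  congr 1
  ext t
  simp only [Finset.mem_filter, Finset.mem_univ, true_and]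
  conv_lhs => rw [← hK]
  rw [ConjClasses.mk_eq_mk_iff_isConj]
  exact isConj_comm

/-- `act` in terms of central characters at class representatives. -/
theorem act_eq_sum_centralChar [Fintype (ConjClasses G)] {c : G → ℂ} (hc : IsClassFunction G c)
    (χ : IrrCharacter G) :
    act c χ = ∑ K : ConjClasses G, c (rep K) * centralChar (χ : G → ℂ) (rep K) := by
  have hF : IsClassFunction G (fun t => c t * (χ : G → ℂ) t) :=
    isClassFunction_mul hc (isClassFunction_irr χ)
  rw [act, sum_eq_sum_conjClasses hF, Finset.sum_div]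
  refine Finset.sum_congr rfl fun K _ => ?_
  rw [centralChar_def]
  ring

variable [Fintype (IrrCharacter G)]

/-- Fourier inversion: recover the class function `c` from its scalars. -/
theorem coeff_act {c : G → ℂ} (hc : IsClassFunction G c) (g : G) :
    (Nat.card G : ℂ)⁻¹ * ∑ χ : IrrCharacter G,
      act c χ * ((χ : G → ℂ) 1 * (starRingEnd ℂ) ((χ : G → ℂ) g)) = c g := by
  classical
  have e1 : ∀ χ : IrrCharacter G, act c χ * ((χ : G → ℂ) 1 * (starRingEnd ℂ) ((χ : G → ℂ) g)) =
      ∑ t : G, c t * ((χ : G → ℂ) t * (starRingEnd ℂ) ((χ : G → ℂ) g)) := by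
    intro χ
    have h1 := irr_one_ne_zero χ
    rw [act, div_mul_eq_mul_div, mul_comm ((χ : G → ℂ) 1), ← mul_assoc, mul_div_assoc,
      div_self h1, mul_one, Finset.sum_mul]
    refine Finset.sum_congr rfl fun t _ => ?_
    ring
  simp_rw [e1]
  rw [Finset.sum_comm]
  simp_rw [← Finset.mul_sum, sum_irr_mul_conj]
  have e2 : ∀ t : G, c t * (if IsConj t g then
      (Nat.card (Subgroup.centralizer ({t} : Set G)) : ℂ) else 0) =
      classIndicator g t * (c g * (Nat.card (Subgroup.centralizer ({g} : Set G)) : ℂ)) := by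
    intro t
    by_cases h : IsConj t g
    · rw [if_pos h, classIndicator_of_isConj h.symm, one_mul,
        IsClassFunction.eq_of_isConj hc h, card_centralizer_eq_of_isConj h]
    · rw [if_neg h, classIndicator_of_not_isConj (fun h' => h h'.symm), mul_zero, zero_mul]
  simp_rw [e2]
  rw [← Finset.sum_mul, sum_classIndicator]
  have hcard : (Nat.card {x : G // IsConj g x} : ℂ) *
      (Nat.card (Subgroup.centralizer ({g} : Set G)) : ℂ) = (Nat.card G : ℂ) := by
    exact_mod_cast card_conj_mul_card_centralizer g
  have hG : (Nat.card G : ℂ) ≠ 0 := card_ne_zero_complex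
  rw [← hcard] at hG ⊢
  field_simp

end Fin

end Cfsg.Agent.Helper5.CC
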