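import Mathlib
import Cfsg.Prelude.Def_Blocks
import Cfsg.Agent.Helper5.CentralChar

set_option autoImplicit false

/-!
# Osima's theorem: block idempotents have local-integer coefficients
-/

namespace Cfsg.Agent.Helper5.CC

open Cfsg Cfsg.Agent.Helper24 Cfsg.Agent.Helper5 Cfsg.Agent.Helper5.Loc

variable {G : Type*} [Group G] [Fintype G] {M : Ideal AlgInt}

/-- `v` is the family of scalars by which a central element of `R_M[G]` acts on the irreducible
characters. -/
def IsRep (M : Ideal AlgInt) (v : IrrCharacter G → ℂ) : Prop :=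
  ∃ c : G → ℂ, IsClassFunction G c ∧ (∀ t, MemLocalRing M (c t)) ∧ ∀ χ, v χ = act c χ

theorem memLocalRing_classIndicator (hM : M.IsPrime) (g t : G) :
    MemLocalRing M (classIndicator g t) := by
  by_cases h : IsConj g t
  · rw [classIndicator_of_isConj h]; exact memLocalRing_one hM
  · rw [classIndicator_of_not_isConj h]; exact memLocalRing_zero hM

theorem isRep_one (hM : M.IsPrime) : IsRep M (fun _ : IrrCharacter G => (1 : ℂ)) :=
  ⟨deltaOne, isClassFunction_classIndicator 1, memLocalRing_classIndicator hM 1,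
    fun χ => (act_deltaOne χ).symm⟩

theorem isRep_centralChar (hM : M.IsPrime) (g : G) :
    IsRep M (fun χ : IrrCharacter G => centralChar (χ : G → ℂ) g) :=
  ⟨classIndicator g, isClassFunction_classIndicator g, memLocalRing_classIndicator hM g,
    fun χ => (act_classIndicator g χ).symm⟩

theorem isRep_add (hM : M.IsPrime) {v w : IrrCharacter G → ℂ} (hv : IsRep M v) (hw : IsRep M w) :
    IsRep M (fun χ => v χ + w χ) := by
  obtain ⟨c, hc, hcM, hcv⟩ := hv
  obtain ⟨d, hd, hdM, hdw⟩ := hw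
  refine ⟨c + d, isClassFunction_add hc hd, fun t => lr_add hM (hcM t) (hdM t), fun χ => ?_⟩
  beta_reduce
  rw [act_add, hcv, hdw]

theorem isRep_smul (hM : M.IsPrime) {r : ℂ} (hr : MemLocalRing M r) {v : IrrCharacter G → ℂ}
    (hv : IsRep M v) : IsRep M (fun χ => r * v χ) := by
  obtain ⟨c, hc, hcM, hcv⟩ := hv
  refine ⟨r • c, isClassFunction_smul r hc, fun t => lr_mul hM hr (hcM t), fun χ => ?_⟩
  beta_reduce
  rw [act_smul, hcv]

theorem isRep_const (hM : M.IsPrime) {r : ℂ} (hr : MemLocalRing M r) :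
    IsRep M (fun _ : IrrCharacter G => r) := by
  have := isRep_smul hM hr (isRep_one (G := G) hM)
  simpa using this

theorem isRep_sub (hM : M.IsPrime) {v w : IrrCharacter G → ℂ} (hv : IsRep M v) (hw : IsRep M w) :
    IsRep M (fun χ => v χ - w χ) := by
  obtain ⟨c, hc, hcM, hcv⟩ := hv
  obtain ⟨d, hd, hdM, hdw⟩ := hw
  refine ⟨c - d, isClassFunction_sub hc hd, fun t => lr_sub hM (hcM t) (hdM t), fun χ => ?_⟩
  beta_reduce
  rw [act_sub, hcv, hdw]

theorem isRep_mul (hM : M.IsPrime) {v w : IrrCharacter G → ℂ} (hv : IsRep M v) (hw : IsRep M w) :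
    IsRep M (fun χ => v χ * w χ) := by
  obtain ⟨c, hc, hcM, hcv⟩ := hv
  obtain ⟨d, hd, hdM, hdw⟩ := hw
  refine ⟨conv c d, isClassFunction_conv hc hd, fun u => ?_, fun χ => ?_⟩
  · exact lr_sum hM _ _ fun t _ => lr_mul hM (hcM t) (hdM _)
  · beta_reduce
    rw [act_conv hc, hcv, hdw]

theorem isRep_prod (hM : M.IsPrime) {ι : Type*} (s : Finset ι) (v : ι → IrrCharacter G → ℂ)
    (hv : ∀ i ∈ s, IsRep M (v i)) : IsRep M (fun χ => ∏ i ∈ s, v i χ) := by
  classical
  induction s using Finset.induction_on with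
  | empty => simpa using isRep_one (G := G) hM
  | insert a s ha ih =>
    simp_rw [Finset.prod_insert ha]
    exact isRep_mul hM (hv a (Finset.mem_insert_self a s))
      (ih fun i hi => hv i (Finset.mem_insert_of_mem hi))

/-- The coefficients recovered from a representable family are local integers. -/
theorem IsRep.coeff [Fintype (IrrCharacter G)] {v : IrrCharacter G → ℂ} (hv : IsRep M v) (g : G) :
    MemLocalRing M ((Nat.card G : ℂ)⁻¹ * ∑ χ : IrrCharacter G,
      v χ * ((χ : G → ℂ) 1 * (starRingEnd ℂ) ((χ : G → ℂ) g))) := by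
  obtain ⟨c, hc, hcM, hcv⟩ := hv
  simp_rw [hcv]
  rw [coeff_act hc g]
  exact hcM g

theorem finsum_mem_eq_sum_ite {ι : Type*} [Fintype ι] (B : Set ι) [DecidablePred (· ∈ B)]
    (f : ι → ℂ) : ∑ᶠ i ∈ B, f i = ∑ i, if i ∈ B then f i else 0 := by
  rw [finsum_mem_eq_finite_toFinset_sum f (Set.toFinite B), ← Finset.sum_filter]
  congr 1
  ext i
  simp

omit [Fintype G] in
theorem blockCoeff_eq [Fintype (IrrCharacter G)] (B : Set (IrrCharacter G))
    [DecidablePred (· ∈ B)] (g : G) :
    blockCoeff B g = (Nat.card G : ℂ)⁻¹ * ∑ χ : IrrCharacter G,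
      (if χ ∈ B then (1 : ℂ) else 0) * ((χ : G → ℂ) 1 * (starRingEnd ℂ) ((χ : G → ℂ) g)) := by
  rw [blockCoeff, finsum_mem_eq_sum_ite]
  congr 1
  refine Finset.sum_congr rfl fun χ _ => ?_
  by_cases h : χ ∈ B
  · rw [if_pos h, if_pos h, one_mul]
  · rw [if_neg h, if_neg h, zero_mul]

omit [Fintype G] in
/-- Characters in the same block have congruent central characters; a character outside the
block of `χ₀` is separated from it by some class. -/
theorem exists_not_memLocalIdeal_of_not_mem {χ₀ ψ : IrrCharacter G}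
    (h : ψ ∉ blockOf M (χ₀ : G → ℂ)) :
    ∃ g : G, ¬ MemLocalIdeal M (centralChar (χ₀ : G → ℂ) g - centralChar (ψ : G → ℂ) g) := by
  by_contra hcon
  push Not at hcon
  exact h hcon

/-- The indicator function of a block is representable. -/
theorem isRep_indicator_block [Fintype (IrrCharacter G)] (hM : M.IsPrime)
    (B : Set (IrrCharacter G)) (hB : IsPBlock M B) [DecidablePred (· ∈ B)] :
    IsRep M (fun χ : IrrCharacter G => if χ ∈ B then (1 : ℂ) else 0) := by
  classical
  obtain ⟨χ₀, rfl⟩ := hB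
  -- choose separating classes
  let gsel : IrrCharacter G → G := fun ψ =>
    if h : ψ ∈ blockOf M (χ₀ : G → ℂ) then 1 else
      Classical.choose (exists_not_memLocalIdeal_of_not_mem h)
  have hgsel : ∀ ψ, ψ ∉ blockOf M (χ₀ : G → ℂ) →
      ¬ MemLocalIdeal M (centralChar (χ₀ : G → ℂ) (gsel ψ) - centralChar (ψ : G → ℂ) (gsel ψ)) := by
    intro ψ h
    simp only [gsel, dif_neg h]
    exact Classical.choose_spec (exists_not_memLocalIdeal_of_not_mem h)
  let zfac : IrrCharacter G → IrrCharacter G → ℂ := fun ψ χ =>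
    centralChar (χ : G → ℂ) (gsel ψ) - centralChar (ψ : G → ℂ) (gsel ψ)
  have hzfac : ∀ ψ, IsRep M (zfac ψ) := fun ψ =>
    isRep_sub hM (isRep_centralChar hM (gsel ψ))
      (isRep_const hM (memLocalRing_centralChar hM ψ (gsel ψ)))
  let Bc : Finset (IrrCharacter G) := Finset.univ.filter (fun ψ => ψ ∉ blockOf M (χ₀ : G → ℂ))
  let z : IrrCharacter G → ℂ := fun χ => ∏ ψ ∈ Bc, zfac ψ χ
  have hz : IsRep M z := isRep_prod hM Bc zfac fun ψ _ => hzfac ψ
  have hz0 : ∀ ψ, ψ ∉ blockOf M (χ₀ : G → ℂ) → z ψ = 0 := by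
    intro ψ hψ
    apply Finset.prod_eq_zero (i := ψ)
    · exact Finset.mem_filter.mpr ⟨Finset.mem_univ _, hψ⟩
    · simp only [zfac, sub_self]
  have hzfacM : ∀ ψ χ, MemLocalRing M (zfac ψ χ) := fun ψ χ =>
    lr_sub hM (memLocalRing_centralChar hM χ _) (memLocalRing_centralChar hM ψ _)
  have hzM : ∀ χ, MemLocalRing M (z χ) := fun χ => lr_prod hM _ _ fun ψ _ => hzfacM ψ χ
  have hzB : ∀ χ, χ ∈ blockOf M (χ₀ : G → ℂ) → ¬ MemLocalIdeal M (z χ) := by
    intro χ hχ
    -- each factor is outside the local ideal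
    have hfac : ∀ ψ ∈ Bc, ¬ MemLocalIdeal M (zfac ψ χ) := by
      intro ψ hψ hcon
      have hψ' : ψ ∉ blockOf M (χ₀ : G → ℂ) := (Finset.mem_filter.mp hψ).2
      apply hgsel ψ hψ'
      have h1 : MemLocalIdeal M (centralChar (χ₀ : G → ℂ) (gsel ψ) -
          centralChar (χ : G → ℂ) (gsel ψ)) := hχ (gsel ψ)
      have := li_add hM h1 hcon
      simpa [zfac] using this
    -- so the product is
    have : ∀ s : Finset (IrrCharacter G), s ⊆ Bc → ¬ MemLocalIdeal M (∏ ψ ∈ s, zfac ψ χ) := by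
      intro s
      induction s using Finset.induction_on with
      | empty =>
        intro _
        simpa using not_memLocalIdeal_one hM
      | insert a s ha ih =>
        intro hs hcon
        rw [Finset.prod_insert ha] at hcon
        rcases li_of_mul hM (hzfacM a χ) (lr_prod hM _ _ fun ψ _ => hzfacM ψ χ) hcon with h | h
        · exact hfac a (hs (Finset.mem_insert_self a s)) h
        · exact ih (fun x hx => hs (Finset.mem_insert_of_mem hx)) h
    exact this Bc (Finset.Subset.refl _)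
  have hzinv : ∀ χ, χ ∈ blockOf M (χ₀ : G → ℂ) → MemLocalRing M (z χ)⁻¹ := fun χ hχ =>
    lr_inv_of_not_li (hzM χ) (hzB χ hχ)
  let Bf : Finset (IrrCharacter G) := Finset.univ.filter (fun ψ => ψ ∈ blockOf M (χ₀ : G → ℂ))
  let e : IrrCharacter G → ℂ := fun θ => 1 - ∏ χ ∈ Bf, (1 - (z χ)⁻¹ * z θ)
  have he : IsRep M e := by
    apply isRep_sub hM (isRep_one hM)
    apply isRep_prod hM Bf (fun χ θ => 1 - (z χ)⁻¹ * z θ)
    intro χ hχ
    have hχ' : χ ∈ blockOf M (χ₀ : G → ℂ) := (Finset.mem_filter.mp hχ).2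
    exact isRep_sub hM (isRep_one hM) (isRep_smul hM (hzinv χ hχ') hz)
  have heq : e = fun χ : IrrCharacter G => if χ ∈ blockOf M (χ₀ : G → ℂ) then (1 : ℂ) else 0 := by
    funext θ
    by_cases hθ : θ ∈ blockOf M (χ₀ : G → ℂ)
    · rw [if_pos hθ]
      simp only [e]
      have hne : z θ ≠ 0 := by
        intro h0
        apply hzB θ hθ
        rw [h0]
        exact memLocalIdeal_zero hM
      rw [Finset.prod_eq_zero (i := θ) (Finset.mem_filter.mpr ⟨Finset.mem_univ _, hθ⟩)
        (by rw [inv_mul_cancel₀ hne, sub_self]), sub_zero]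
    · rw [if_neg hθ]
      simp only [e]
      rw [hz0 θ hθ]
      simp
  rw [← heq]
  exact he

/-- **Osima's theorem.** -/
theorem osima [Fintype (IrrCharacter G)] (hM : M.IsPrime) (B : Set (IrrCharacter G))
    (hB : IsPBlock M B) (g : G) : MemLocalRing M (blockCoeff B g) := by
  classical
  rw [blockCoeff_eq]
  exact (isRep_indicator_block hM B hB).coeff g

end Cfsg.Agent.Helper5.CC
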