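import Mathlib
import Cfsg.Prelude.Def_Blocks
import Cfsg.Agent.Helper5.Osima

set_option autoImplicit false

/-!
# Basic facts on blocks (`SameBlock`, `blockOf`, `blockCoeff`)
-/

namespace Cfsg.Agent.Helper5.CC

open Cfsg Cfsg.Agent.Helper24 Cfsg.Agent.Helper5 Cfsg.Agent.Helper5.Loc

section General

variable {G : Type*} [Group G] {M : Ideal AlgInt}

theorem sameBlock_refl (hM : M.IsPrime) (χ : G → ℂ) : SameBlock M χ χ := by
  intro g
  rw [sub_self]
  exact memLocalIdeal_zero hM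

theorem sameBlock_symm {χ ψ : G → ℂ} (h : SameBlock M χ ψ) : SameBlock M ψ χ := by
  intro g
  have := li_neg (h g)
  rwa [neg_sub] at this

theorem sameBlock_trans (hM : M.IsPrime) {χ ψ θ : G → ℂ} (h1 : SameBlock M χ ψ)
    (h2 : SameBlock M ψ θ) : SameBlock M χ θ := by
  intro g
  have := li_add hM (h1 g) (h2 g)
  rwa [sub_add_sub_cancel] at this

theorem mem_blockOf_self (hM : M.IsPrime) (χ : IrrCharacter G) : χ ∈ blockOf M (χ : G → ℂ) :=
  sameBlock_refl hM _

theorem mem_blockOf_iff {χ : G → ℂ} {ψ : IrrCharacter G} :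
    ψ ∈ blockOf M χ ↔ SameBlock M χ (ψ : G → ℂ) := Iff.rfl

theorem blockOf_eq_of_sameBlock (hM : M.IsPrime) {χ ψ : G → ℂ} (h : SameBlock M χ ψ) :
    blockOf M χ = blockOf M ψ := by
  ext θ
  constructor
  · intro hθ
    exact sameBlock_trans hM (sameBlock_symm h) hθ
  · intro hθ
    exact sameBlock_trans hM h hθ

theorem isPBlock_blockOf (χ : IrrCharacter G) : IsPBlock M (blockOf M (χ : G → ℂ)) := ⟨χ, rfl⟩

/-- A block is the block of each of its members. -/
theorem IsPBlock_eq_blockOf (hM : M.IsPrime) {B : Set (IrrCharacter G)} (hB : IsPBlock M B)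
    {χ : IrrCharacter G} (hχ : χ ∈ B) : B = blockOf M (χ : G → ℂ) := by
  obtain ⟨χ₀, rfl⟩ := hB
  exact blockOf_eq_of_sameBlock hM hχ

theorem IsPBlock.nonempty (hM : M.IsPrime) {B : Set (IrrCharacter G)} (hB : IsPBlock M B) :
    ∃ χ, χ ∈ B := by
  obtain ⟨χ₀, rfl⟩ := hB
  exact ⟨χ₀, mem_blockOf_self hM χ₀⟩

theorem sameBlock_of_mem (hM : M.IsPrime) {B : Set (IrrCharacter G)} (hB : IsPBlock M B)
    {χ ψ : IrrCharacter G} (hχ : χ ∈ B) (hψ : ψ ∈ B) :
    SameBlock M (χ : G → ℂ) (ψ : G → ℂ) := by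
  obtain ⟨χ₀, rfl⟩ := hB
  exact sameBlock_trans hM (sameBlock_symm hχ) hψ

end General

section Fin

variable {G : Type*} [Group G] [Fintype G] {M : Ideal AlgInt}

/-- Characters in the same block are congruent on the centre of `R_M[G]`. -/
theorem act_sub_act_memLocalIdeal (hM : M.IsPrime) {c : G → ℂ} (hc : IsClassFunction G c)
    (hcM : ∀ t, MemLocalRing M (c t)) {χ ψ : IrrCharacter G}
    (h : SameBlock M (χ : G → ℂ) (ψ : G → ℂ)) : MemLocalIdeal M (act c χ - act c ψ) := by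
  classical
  have : Fintype (ConjClasses G) := Fintype.ofFinite _
  rw [act_eq_sum_centralChar hc, act_eq_sum_centralChar hc, ← Finset.sum_sub_distrib]
  apply li_sum hM
  intro K _
  rw [← mul_sub]
  exact li_mul_left hM (hcM _) (h _)

variable [Fintype (IrrCharacter G)]

omit [Fintype G] in
theorem isClassFunction_blockCoeff (A : Set (IrrCharacter G)) :
    IsClassFunction G (blockCoeff A) := by
  classical
  intro g x
  rw [blockCoeff_eq, blockCoeff_eq]
  congr 1
  refine Finset.sum_congr rfl fun χ _ => ?_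
  rw [isClassFunction_irr χ g x]

/-- The central element with coefficients `blockCoeff A` acts as the indicator of `A`. -/
theorem act_blockCoeff (A : Set (IrrCharacter G)) [DecidablePred (· ∈ A)] (ψ : IrrCharacter G) :
    act (blockCoeff A) ψ = if ψ ∈ A then 1 else 0 := by
  classical
  have h1 : (ψ : G → ℂ) 1 ≠ 0 := irr_one_ne_zero ψ
  rw [act, div_eq_iff h1]
  simp_rw [blockCoeff_eq, Finset.mul_sum, Finset.sum_mul]
  rw [Finset.sum_comm]
  have e : ∀ θ : IrrCharacter G, ∑ t : G, (Nat.card G : ℂ)⁻¹ * ((if θ ∈ A then (1 : ℂ) else 0) *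
      ((θ : G → ℂ) 1 * (starRingEnd ℂ) ((θ : G → ℂ) t))) * (ψ : G → ℂ) t =
      (if θ ∈ A then (1 : ℂ) else 0) * (θ : G → ℂ) 1 * classInner (ψ : G → ℂ) (θ : G → ℂ) := by
    intro θ
    rw [classInner, Finset.mul_sum, Finset.mul_sum]
    refine Finset.sum_congr rfl fun t _ => ?_
    ring
  simp_rw [e, classInner_irr]
  rw [Finset.sum_eq_single ψ]
  · rw [if_pos rfl, mul_one]
  · intro θ _ hθ
    rw [if_neg (Ne.symm hθ), mul_zero]
  · intro h; exact absurd (Finset.mem_univ _) h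

end Fin

end Cfsg.Agent.Helper5.CC
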