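import Mathlib
import Cfsg.Prelude.Def_Blocks
import Cfsg.Agent.Helper5.LocalRing

set_option autoImplicit false

/-!
# Sums of invariant functions over a `p`-group set, modulo `p`
-/

namespace Cfsg.Agent.Helper5.Loc

open Cfsg MulAction

section

variable {p : ℕ} [Fact p.Prime] {P : Type*} [Group P] {X : Type*} [MulAction P X]

/-- The action on a fibre of an invariant function. -/
@[instance_reducible]
def fiberAction (f : X → ℂ) (hf : ∀ (x : P) (t : X), f (x • t) = f t) (v : ℂ) :
    MulAction P {t : X // f t = v} where
  smul x t := ⟨x • t.1, (hf x t.1).trans t.2⟩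
  one_smul _ := Subtype.ext (one_smul _ _)
  mul_smul _ _ _ := Subtype.ext (mul_smul _ _ _)

/-- Fibre sizes are congruent to fixed-point counts. -/
theorem card_fiber_modEq (hP : IsPGroup p P) [Fintype X] [DecidableEq X]
    [DecidablePred (· ∈ fixedPoints P X)] (f : X → ℂ)
    (hf : ∀ (x : P) (t : X), f (x • t) = f t) (v : ℂ) :
    (Finset.univ.filter (fun t : X => f t = v)).card ≡
      ((Finset.univ.filter (fun t : X => t ∈ fixedPoints P X)).filter (fun t => f t = v)).card
        [MOD p] := by
  classical
  let _ := fiberAction f hf v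
  have h := hP.card_modEq_card_fixedPoints {t : X // f t = v}
  have e1 : Nat.card {t : X // f t = v} = (Finset.univ.filter (fun t : X => f t = v)).card := by
    rw [Nat.card_eq_fintype_card, Fintype.card_subtype]
  have e2 : Nat.card (fixedPoints P {t : X // f t = v}) =
      ((Finset.univ.filter (fun t : X => t ∈ fixedPoints P X)).filter (fun t => f t = v)).card := by
    rw [Finset.filter_filter, ← Fintype.card_subtype, Nat.card_eq_fintype_card]
    apply Fintype.card_congr
    exact {
      toFun := fun t => ⟨t.1.1, by
        constructor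
        · intro x
          have := t.2 x
          exact congrArg Subtype.val this
        · exact t.1.2⟩
      invFun := fun t => ⟨⟨t.1, t.2.2⟩, by
        intro x
        apply Subtype.ext
        exact t.2.1 x⟩
      left_inv := fun t => rfl
      right_inv := fun t => rfl }
  rw [e1, e2] at h
  exact h

end

variable {M : Ideal AlgInt}

/-- A sum of a `P`-invariant local-integer valued function over a `P`-set is congruent modulo
the local ideal to the sum over the fixed points, for a `p`-group `P`. -/
theorem sum_sub_sum_fixedPoints_memLocalIdeal {p : ℕ} [Fact p.Prime] (hM : IsPModular p M)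
    {P : Type*} [Group P] (hP : IsPGroup p P) {X : Type*} [Fintype X] [MulAction P X]
    [DecidablePred (· ∈ fixedPoints P X)] (f : X → ℂ)
    (hf : ∀ (x : P) (t : X), f (x • t) = f t) (hfM : ∀ t, MemLocalRing M (f t)) :
    MemLocalIdeal M (∑ t : X, f t -
      ∑ t ∈ Finset.univ.filter (fun t : X => t ∈ fixedPoints P X), f t) := by
  classical
  have hMp := isPrime_of_isPModular hM
  let T : Finset ℂ := Finset.univ.image f
  have key : ∀ s : Finset X, ∑ t ∈ s, f t =
      ∑ v ∈ T, ((s.filter (fun t => f t = v)).card : ℂ) * v := by
    intro s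
    rw [← Finset.sum_fiberwise_of_maps_to (s := s) (t := T) (g := f)
      (fun t _ => Finset.mem_image_of_mem f (Finset.mem_univ t))]
    refine Finset.sum_congr rfl fun v _ => ?_
    rw [Finset.sum_congr rfl (fun t ht => (Finset.mem_filter.mp ht).2), Finset.sum_const,
      nsmul_eq_mul]
  rw [key Finset.univ, key (Finset.univ.filter (fun t : X => t ∈ fixedPoints P X)),
    ← Finset.sum_sub_distrib]
  apply li_sum hMp
  intro v hv
  rw [← sub_mul]
  obtain ⟨t, -, rfl⟩ := Finset.mem_image.mp hv
  apply li_mul_right hMp _ (hfM t)
  have hmod := card_fiber_modEq hP f hf (f t)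
  have hle : ((Finset.univ.filter (fun t : X => t ∈ fixedPoints P X)).filter
      (fun s => f s = f t)).card ≤ (Finset.univ.filter (fun s : X => f s = f t)).card := by
    apply Finset.card_le_card
    intro s hs
    simp only [Finset.mem_filter, Finset.mem_univ, true_and] at hs ⊢
    exact hs.2
  obtain ⟨k, hk⟩ := (Nat.modEq_iff_dvd' hle).mp hmod.symm
  have : ((Finset.univ.filter (fun s : X => f s = f t)).card : ℂ) -
      (((Finset.univ.filter (fun t : X => t ∈ fixedPoints P X)).filter
      (fun s => f s = f t)).card : ℂ) = ((p * k : ℕ) : ℂ) := by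
    rw [← hk, Nat.cast_sub hle]
  rw [this]
  exact (memLocalIdeal_natCast_iff hM _).mpr (Dvd.intro k rfl)

end Cfsg.Agent.Helper5.Loc
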