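import Mathlib
import Cfsg.Prelude.Def_Blocks
import Cfsg.Agent.Helper5.BlockBasic
import Cfsg.Agent.Helper5.FixedSum

set_option autoImplicit false

/-!
# Units in block algebras and the min–max lemma for defect classes
-/

namespace Cfsg.Agent.Helper5.CC

open Cfsg Cfsg.Agent.Helper24 Cfsg.Agent.Helper5 Cfsg.Agent.Helper5.Loc

variable {G : Type*} [Group G] [Fintype G] {M : Ideal AlgInt}

/-- Values of representable families are local integers. -/
theorem IsRep.memLocalRing (hM : M.IsPrime) {v : IrrCharacter G → ℂ} (hv : IsRep M v)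
    (χ : IrrCharacter G) : MemLocalRing M (v χ) := by
  classical
  have : Fintype (ConjClasses G) := Fintype.ofFinite _
  obtain ⟨c, hc, hcM, hcv⟩ := hv
  rw [hcv, act_eq_sum_centralChar hc]
  exact lr_sum hM _ _ fun K _ => lr_mul hM (hcM _) (memLocalRing_centralChar hM χ _)

/-- Class functions are determined by their scalars. -/
theorem eq_of_act_eq [Fintype (IrrCharacter G)] {c d : G → ℂ} (hc : IsClassFunction G c)
    (hd : IsClassFunction G d) (h : ∀ χ : IrrCharacter G, act c χ = act d χ) : c = d := by
  funext g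
  rw [← coeff_act hc g, ← coeff_act hd g]
  simp_rw [h]

/-- If a representable family takes unit values on a block `B`, it is invertible in the block
algebra: some representable `y` has `v * y = 1_B`. -/
theorem isRep_inv_on_block [Fintype (IrrCharacter G)] (hM : M.IsPrime)
    (B : Set (IrrCharacter G)) (hB : IsPBlock M B) [DecidablePred (· ∈ B)]
    {v : IrrCharacter G → ℂ} (hv : IsRep M v) (hunit : ∀ χ ∈ B, ¬ MemLocalIdeal M (v χ)) :
    ∃ y : IrrCharacter G → ℂ, IsRep M y ∧
      ∀ θ, v θ * y θ = if θ ∈ B then (1 : ℂ) else 0 := by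
  classical
  have hind := isRep_indicator_block hM B hB
  let ind : IrrCharacter G → ℂ := fun χ => if χ ∈ B then (1 : ℂ) else 0
  let t : IrrCharacter G → ℂ := fun θ => v θ * ind θ
  have ht : IsRep M t := isRep_mul hM hv hind
  have hinv : ∀ χ ∈ B, MemLocalRing M (v χ)⁻¹ := fun χ hχ =>
    lr_inv_of_not_li (hv.memLocalRing hM χ) (hunit χ hχ)
  let Bf : Finset (IrrCharacter G) := Finset.univ.filter (fun ψ => ψ ∈ B)
  -- polynomial division by induction
  have hq : ∀ S : Finset (IrrCharacter G), S ⊆ Bf → ∃ q : IrrCharacter G → ℂ, IsRep M q ∧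
      ∀ θ, 1 - ∏ ψ ∈ S, (1 - (v ψ)⁻¹ * t θ) = t θ * q θ := by
    intro S
    induction S using Finset.induction_on with
    | empty =>
      intro _
      refine ⟨fun _ => 0, isRep_const hM (memLocalRing_zero hM), fun θ => ?_⟩
      simp
    | insert a S ha ih =>
      intro hS
      obtain ⟨q, hq, hqe⟩ := ih (fun x hx => hS (Finset.mem_insert_of_mem hx))
      have haB : a ∈ B := (Finset.mem_filter.mp (hS (Finset.mem_insert_self a S))).2
      refine ⟨fun θ => q θ + (v a)⁻¹ * ∏ ψ ∈ S, (1 - (v ψ)⁻¹ * t θ), ?_, fun θ => ?_⟩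
      · apply isRep_add hM hq
        apply isRep_smul hM (hinv a haB)
        apply isRep_prod hM S (fun ψ θ => 1 - (v ψ)⁻¹ * t θ)
        intro ψ hψ
        have hψB : ψ ∈ B := (Finset.mem_filter.mp (hS (Finset.mem_insert_of_mem hψ))).2
        exact isRep_sub hM (isRep_one hM) (isRep_smul hM (hinv ψ hψB) ht)
      · rw [Finset.prod_insert ha]
        have := hqe θ
        beta_reduce
        generalize (∏ ψ ∈ S, (1 - (v ψ)⁻¹ * t θ)) = PP at this ⊢
        generalize t θ = X at this ⊢
        linear_combination this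
  obtain ⟨q, hq, hqe⟩ := hq Bf (Finset.Subset.refl _)
  refine ⟨fun θ => ind θ * q θ, isRep_mul hM hind hq, fun θ => ?_⟩
  have h1 := hqe θ
  by_cases hθ : θ ∈ B
  · have hne : v θ ≠ 0 := by
      intro h0
      apply hunit θ hθ
      rw [h0]
      exact memLocalIdeal_zero hM
    have ht' : t θ = v θ := by simp [t, ind, hθ]
    rw [Finset.prod_eq_zero (i := θ) (Finset.mem_filter.mpr ⟨Finset.mem_univ _, hθ⟩)
      (by rw [ht', inv_mul_cancel₀ hne, sub_self]), sub_zero, ht'] at h1
    simp only [ind, if_pos hθ, one_mul]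
    exact h1.symm
  · simp [ind, hθ]

/-- Conjugation action of a subgroup on the whole group. -/
@[instance_reducible]
def conjActAll {G : Type*} [Group G] (Q : Subgroup G) : MulAction Q G where
  smul u t := (u : G) * t * (u : G)⁻¹
  one_smul t := by
    show ((1 : Q) : G) * t * ((1 : Q) : G)⁻¹ = t
    simp
  mul_smul u w t := by
    show ((u * w : Q) : G) * t * ((u * w : Q) : G)⁻¹ = (u : G) * ((w : G) * t * (w : G)⁻¹) * (u : G)⁻¹
    simp [mul_assoc]

/-- **Min–max lemma.** If the central characters of the block `B` do not vanish (mod `M`) at `u`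
and the block idempotent has a unit coefficient at `w`, then every `p`-subgroup of `C_G(w)`
centralizes some conjugate of `u`. -/
theorem exists_conj_mem_centralizer [Fintype (IrrCharacter G)] {p : ℕ} [Fact p.Prime]
    (hM : IsPModular p M) (B : Set (IrrCharacter G)) (hB : IsPBlock M B) (u w : G)
    (hu : ∀ χ ∈ B, ¬ MemLocalIdeal M (centralChar (χ : G → ℂ) u))
    (hw : ¬ MemLocalIdeal M (blockCoeff B w)) (Q : Subgroup G) (hQ : IsPGroup p Q)
    (hQw : Q ≤ Subgroup.centralizer ({w} : Set G)) :
    ∃ t : G, IsConj u t ∧ t ∈ Subgroup.centralizer (Q : Set G) := by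
  classical
  have hMp := isPrime_of_isPModular hM
  obtain ⟨y, ⟨b, hb, hbM, hby⟩, hy⟩ := isRep_inv_on_block hMp B hB (isRep_centralChar hMp u) hu
  -- `1_u * b` is the block idempotent
  have hconv : conv (classIndicator u) b = blockCoeff B := by
    apply eq_of_act_eq (isClassFunction_conv (isClassFunction_classIndicator u) hb)
      (isClassFunction_blockCoeff B)
    intro χ
    rw [act_conv (isClassFunction_classIndicator u), act_classIndicator, ← hby, hy χ,
      act_blockCoeff]
  have hval : blockCoeff B w = ∑ t : G, classIndicator u t * b (t⁻¹ * w) := by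
    rw [← hconv]; rfl
  by_contra hcon
  push Not at hcon
  apply hw
  rw [hval]
  let _ := conjActAll Q
  have hsmul : ∀ (x : Q) (t : G), x • t = (x : G) * t * (x : G)⁻¹ := fun _ _ => rfl
  have hinv : ∀ (x : Q) (t : G), classIndicator u (x • t) * b ((x • t)⁻¹ * w) =
      classIndicator u t * b (t⁻¹ * w) := by
    intro x t
    rw [hsmul, isClassFunction_classIndicator u t (x : G)]
    congr 1
    have hxw : (x : G) * w = w * (x : G) := by
      have := hQw x.2
      rw [Subgroup.mem_centralizer_iff] at this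
      exact (this w (Set.mem_singleton w)).symm
    have : ((x : G) * t * (x : G)⁻¹)⁻¹ * w = (x : G) * (t⁻¹ * w) * (x : G)⁻¹ := by
      have hxw' : w * (x : G)⁻¹ = (x : G)⁻¹ * w := by
        rw [eq_inv_mul_iff_mul_eq, ← mul_assoc, hxw, mul_assoc, mul_inv_cancel, mul_one]
      calc ((x : G) * t * (x : G)⁻¹)⁻¹ * w = (x : G) * t⁻¹ * ((x : G)⁻¹ * w) := by group
        _ = (x : G) * t⁻¹ * (w * (x : G)⁻¹) := by rw [hxw']
        _ = (x : G) * (t⁻¹ * w) * (x : G)⁻¹ := by group
    rw [this]
    exact hb _ _
  have hfix := sum_sub_sum_fixedPoints_memLocalIdeal hM (P := Q) hQ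
    (fun t : G => classIndicator u t * b (t⁻¹ * w)) hinv
    (fun t => lr_mul hMp (memLocalRing_classIndicator hMp u t) (hbM _))
  have hzero : ∑ t ∈ Finset.univ.filter (fun t : G => t ∈ MulAction.fixedPoints Q G),
      classIndicator u t * b (t⁻¹ * w) = 0 := by
    apply Finset.sum_eq_zero
    intro t ht
    have htfix : t ∈ MulAction.fixedPoints Q G := (Finset.mem_filter.mp ht).2
    have htc : t ∈ Subgroup.centralizer (Q : Set G) := by
      rw [Subgroup.mem_centralizer_iff]
      intro x hx
      have := htfix ⟨x, hx⟩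
      rw [hsmul] at this
      calc x * t = x * t * x⁻¹ * x := by group
        _ = t * x := by rw [show x * t * x⁻¹ = t from this]
    have : ¬ IsConj u t := fun h => hcon t h htc
    rw [classIndicator_of_not_isConj this, zero_mul]
  rw [hzero, sub_zero] at hfix
  exact hfix

end Cfsg.Agent.Helper5.CC
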