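import Mathlib
import Cfsg.Prelude.Def_Blocks
import Cfsg.Agent.Helper5.MinMax

set_option autoImplicit false

/-!
# Multiplicative functionals on the centre of the local group ring, and its radical
-/

namespace Cfsg.Agent.Helper5.CC

open Cfsg Cfsg.Agent.Helper24 Cfsg.Agent.Helper5 Cfsg.Agent.Helper5.Loc

variable {G : Type*} [Group G] [Fintype G] {M : Ideal AlgInt}

/-! ### Convolution calculus -/

theorem conv_deltaOne_left (d : G → ℂ) : conv deltaOne d = d := by
  classical
  funext u
  simp only [conv]
  rw [Finset.sum_eq_single (1 : G)]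
  · rw [deltaOne_apply_one, one_mul, inv_one, one_mul]
  · intro t _ ht
    rw [deltaOne_apply_ne ht, zero_mul]
  · intro h; exact absurd (Finset.mem_univ _) h

theorem conv_deltaOne_right (c : G → ℂ) : conv c deltaOne = c := by
  classical
  funext u
  simp only [conv]
  rw [Finset.sum_eq_single u]
  · rw [inv_mul_cancel, deltaOne_apply_one, mul_one]
  · intro t _ ht
    have : t⁻¹ * u ≠ 1 := by
      intro h
      apply ht
      rw [inv_mul_eq_one] at h
      exact h
    rw [deltaOne_apply_ne this, mul_zero]
  · intro h; exact absurd (Finset.mem_univ _) h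

theorem conv_sub_left (c c' d : G → ℂ) : conv (c - c') d = conv c d - conv c' d := by
  funext u
  simp only [conv, Pi.sub_apply, sub_mul, Finset.sum_sub_distrib]

theorem conv_sub_right (c d d' : G → ℂ) : conv c (d - d') = conv c d - conv c d' := by
  funext u
  simp only [conv, Pi.sub_apply, mul_sub, Finset.sum_sub_distrib]

theorem conv_smul_left (r : ℂ) (c d : G → ℂ) : conv (r • c) d = r • conv c d := by
  funext u
  simp only [conv, Pi.smul_apply, smul_eq_mul, Finset.mul_sum, mul_assoc]

theorem act_zero (χ : IrrCharacter G) : act (0 : G → ℂ) χ = 0 := by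
  simp [act]

theorem act_lr (hM : M.IsPrime) {c : G → ℂ} (hc : IsClassFunction G c)
    (hcM : ∀ t, MemLocalRing M (c t)) (χ : IrrCharacter G) : MemLocalRing M (act c χ) := by
  classical
  have : Fintype (ConjClasses G) := Fintype.ofFinite _
  rw [act_eq_sum_centralChar hc]
  exact lr_sum hM _ _ fun K _ => lr_mul hM (hcM _) (memLocalRing_centralChar hM χ _)

theorem act_li (hM : M.IsPrime) {c : G → ℂ} (hc : IsClassFunction G c)
    (hcM : ∀ t, MemLocalIdeal M (c t)) (χ : IrrCharacter G) : MemLocalIdeal M (act c χ) := by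
  classical
  have : Fintype (ConjClasses G) := Fintype.ofFinite _
  rw [act_eq_sum_centralChar hc]
  exact li_sum hM _ _ fun K _ => li_mul_right hM (hcM _) (memLocalRing_centralChar hM χ _)

theorem lr_conv (hM : M.IsPrime) {c d : G → ℂ} (hcM : ∀ t, MemLocalRing M (c t))
    (hdM : ∀ t, MemLocalRing M (d t)) (u : G) : MemLocalRing M (conv c d u) :=
  lr_sum hM _ _ fun t _ => lr_mul hM (hcM t) (hdM _)

theorem li_conv_left (hM : M.IsPrime) {c d : G → ℂ} (hcM : ∀ t, MemLocalIdeal M (c t))
    (hdM : ∀ t, MemLocalRing M (d t)) (u : G) : MemLocalIdeal M (conv c d u) :=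
  li_sum hM _ _ fun t _ => li_mul_right hM (hcM t) (hdM _)

theorem li_conv_right (hM : M.IsPrime) {c d : G → ℂ} (hcM : ∀ t, MemLocalRing M (c t))
    (hdM : ∀ t, MemLocalIdeal M (d t)) (u : G) : MemLocalIdeal M (conv c d u) :=
  li_sum hM _ _ fun t _ => li_mul_left hM (hcM t) (hdM _)

/-! ### Multiplicative functionals are central characters mod `M` -/

/-- A functional on functions that is linear, local-integral and multiplicative modulo `M` on
local-integral class functions agrees modulo `M` with the scalar action on some irreducible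
character. -/
theorem exists_irr_of_multiplicative [Fintype (IrrCharacter G)] (hM : M.IsPrime)
    (lam : (G → ℂ) → ℂ)
    (hsub : ∀ c d, lam (c - d) = lam c - lam d)
    (hsmul : ∀ (r : ℂ) c, lam (r • c) = r * lam c)
    (hone : MemLocalIdeal M (lam deltaOne - 1))
    (hlr : ∀ c, IsClassFunction G c → (∀ t, MemLocalRing M (c t)) → MemLocalRing M (lam c))
    (hmul : ∀ c d, IsClassFunction G c → (∀ t, MemLocalRing M (c t)) → IsClassFunction G d →
      (∀ t, MemLocalRing M (d t)) → MemLocalIdeal M (lam (conv c d) - lam c * lam d)) :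
    ∃ χ : IrrCharacter G, ∀ c, IsClassFunction G c → (∀ t, MemLocalRing M (c t)) →
      MemLocalIdeal M (lam c - act c χ) := by
  classical
  by_contra hcon
  push Not at hcon
  choose c hc hcM hcn using hcon
  let v : IrrCharacter G → ℂ := fun χ => act (c χ) χ
  have hv : ∀ χ, MemLocalRing M (v χ) := fun χ => act_lr hM (hc χ) (hcM χ) χ
  let fac : IrrCharacter G → G → ℂ := fun χ => c χ - v χ • deltaOne
  have hfac_class : ∀ χ, IsClassFunction G (fac χ) := fun χ =>
    isClassFunction_sub (hc χ) (isClassFunction_smul _ (isClassFunction_classIndicator 1))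
  have hfac_lr : ∀ χ t, MemLocalRing M (fac χ t) := by
    intro χ t
    simp only [fac, Pi.sub_apply, Pi.smul_apply, smul_eq_mul]
    exact lr_sub hM (hcM χ t) (lr_mul hM (hv χ) (memLocalRing_classIndicator hM 1 t))
  have hfac_act : ∀ χ ψ, act (fac χ) ψ = act (c χ) ψ - v χ := by
    intro χ ψ
    simp only [fac]
    rw [act_sub, act_smul, act_deltaOne, mul_one]
  have hfac_lam : ∀ χ, ¬ MemLocalIdeal M (lam (fac χ)) := by
    intro χ h
    apply hcn χ
    have e : lam (c χ) - act (c χ) χ = lam (fac χ) + v χ * (lam deltaOne - 1) := by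
      simp only [fac, hsub, hsmul, v]
      ring
    rw [e]
    exact li_add hM h (li_mul_left hM (hv χ) hone)
  have key : ∀ S : Finset (IrrCharacter G), ∃ z : G → ℂ, IsClassFunction G z ∧
      (∀ t, MemLocalRing M (z t)) ∧ (∀ ψ, act z ψ = ∏ χ ∈ S, (act (c χ) ψ - v χ)) ∧
      ¬ MemLocalIdeal M (lam z) := by
    intro S
    induction S using Finset.induction_on with
    | empty =>
      refine ⟨deltaOne, isClassFunction_classIndicator 1, memLocalRing_classIndicator hM 1,
        fun ψ => by rw [act_deltaOne, Finset.prod_empty], ?_⟩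
      intro h
      apply not_memLocalIdeal_one hM
      have := li_sub hM h hone
      rwa [sub_sub_cancel] at this
    | insert a S ha ih =>
      obtain ⟨z, hz, hzM, hza, hzl⟩ := ih
      refine ⟨conv (fac a) z, isClassFunction_conv (hfac_class a) hz,
        lr_conv hM (hfac_lr a) hzM, ?_, ?_⟩
      · intro ψ
        rw [act_conv (hfac_class a), hfac_act, hza, Finset.prod_insert ha]
      · intro h
        have h1 := hmul (fac a) z (hfac_class a) (hfac_lr a) hz hzM
        have h2 : MemLocalIdeal M (lam (fac a) * lam z) := by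
          have := li_sub hM h h1
          rwa [sub_sub_cancel] at this
        rcases li_of_mul hM (hlr _ (hfac_class a) (hfac_lr a)) (hlr _ hz hzM) h2 with h3 | h3
        · exact hfac_lam a h3
        · exact hzl h3
  obtain ⟨z, hz, hzM, hza, hzl⟩ := key Finset.univ
  have hz0 : z = 0 := by
    apply eq_of_act_eq hz isClassFunction_zero
    intro ψ
    rw [hza, act_zero]
    apply Finset.prod_eq_zero (Finset.mem_univ ψ)
    simp only [v, sub_self]
  apply hzl
  rw [hz0]
  have h0 : lam 0 = 0 := by
    have := hsub 0 0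
    simpa using this
  rw [h0]
  exact memLocalIdeal_zero hM

/-! ### The ideal of families represented by functions with values in the local ideal -/

/-- A family of scalars represented by a class function with values in the local ideal. -/
def IsRepI (M : Ideal AlgInt) (v : IrrCharacter G → ℂ) : Prop :=
  ∃ c : G → ℂ, IsClassFunction G c ∧ (∀ t, MemLocalIdeal M (c t)) ∧ ∀ χ, v χ = act c χ

theorem IsRepI.isRep {v : IrrCharacter G → ℂ} (h : IsRepI M v) : IsRep M v := by
  obtain ⟨c, hc, hcM, hcv⟩ := h
  exact ⟨c, hc, fun t => li_lr (hcM t), hcv⟩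

theorem IsRepI.li (hM : M.IsPrime) {v : IrrCharacter G → ℂ} (h : IsRepI M v)
    (χ : IrrCharacter G) : MemLocalIdeal M (v χ) := by
  obtain ⟨c, hc, hcM, hcv⟩ := h
  rw [hcv]
  exact act_li hM hc hcM χ

theorem isRepI_zero (hM : M.IsPrime) : IsRepI M (fun _ : IrrCharacter G => (0 : ℂ)) :=
  ⟨0, isClassFunction_zero, fun _ => memLocalIdeal_zero hM, fun χ => (act_zero χ).symm⟩

theorem isRepI_add (hM : M.IsPrime) {v w : IrrCharacter G → ℂ} (hv : IsRepI M v)
    (hw : IsRepI M w) : IsRepI M (fun χ => v χ + w χ) := by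
  obtain ⟨c, hc, hcM, hcv⟩ := hv
  obtain ⟨d, hd, hdM, hdw⟩ := hw
  refine ⟨c + d, isClassFunction_add hc hd, fun t => li_add hM (hcM t) (hdM t), fun χ => ?_⟩
  beta_reduce
  rw [act_add, hcv, hdw]

theorem isRepI_sub (hM : M.IsPrime) {v w : IrrCharacter G → ℂ} (hv : IsRepI M v)
    (hw : IsRepI M w) : IsRepI M (fun χ => v χ - w χ) := by
  obtain ⟨c, hc, hcM, hcv⟩ := hv
  obtain ⟨d, hd, hdM, hdw⟩ := hw
  refine ⟨c - d, isClassFunction_sub hc hd, fun t => li_sub hM (hcM t) (hdM t), fun χ => ?_⟩
  beta_reduce
  rw [act_sub, hcv, hdw]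

theorem isRepI_mul_left (hM : M.IsPrime) {v w : IrrCharacter G → ℂ} (hv : IsRep M v)
    (hw : IsRepI M w) : IsRepI M (fun χ => v χ * w χ) := by
  obtain ⟨c, hc, hcM, hcv⟩ := hv
  obtain ⟨d, hd, hdM, hdw⟩ := hw
  refine ⟨conv c d, isClassFunction_conv hc hd, li_conv_right hM hcM hdM, fun χ => ?_⟩
  beta_reduce
  rw [act_conv hc, hcv, hdw]

theorem isRepI_smul_of_li (hM : M.IsPrime) {r : ℂ} (hr : MemLocalIdeal M r)
    {v : IrrCharacter G → ℂ} (hv : IsRep M v) : IsRepI M (fun χ => r * v χ) := by
  obtain ⟨c, hc, hcM, hcv⟩ := hv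
  refine ⟨r • c, isClassFunction_smul r hc, fun t => li_mul_right hM hr (hcM t), fun χ => ?_⟩
  beta_reduce
  rw [act_smul, hcv]

theorem isRep_pow (hM : M.IsPrime) {v : IrrCharacter G → ℂ} (hv : IsRep M v) (n : ℕ) :
    IsRep M (fun χ => v χ ^ n) := by
  induction n with
  | zero => simpa using isRep_one (G := G) hM
  | succ n ih =>
    have := isRep_mul hM ih hv
    simpa [pow_succ] using this

theorem isRepI_congr {v w : IrrCharacter G → ℂ} (h : ∀ χ, v χ = w χ) (hv : IsRepI M v) :
    IsRepI M w := by
  have : v = w := funext h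
  rwa [← this]

/-- If a class function has its scalars represented by a function with values in the local
ideal, its own values lie in the local ideal. -/
theorem IsRepI.values [Fintype (IrrCharacter G)] {f : G → ℂ} (hf : IsClassFunction G f)
    (h : IsRepI M (fun χ => act f χ)) (t : G) : MemLocalIdeal M (f t) := by
  obtain ⟨c, hc, hcM, hcv⟩ := h
  have : f = c := eq_of_act_eq hf hc hcv
  rw [this]
  exact hcM t

/-- A representable family with values in the local ideal is nilpotent modulo `IsRepI`. -/
theorem exists_pow_isRepI [Fintype (IrrCharacter G)] (hM : M.IsPrime) {v : IrrCharacter G → ℂ}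
    (hv : IsRep M v) (hli : ∀ ξ, MemLocalIdeal M (v ξ)) :
    IsRepI M (fun ψ => v ψ ^ Fintype.card (IrrCharacter G)) := by
  classical
  have key : ∀ S : Finset (IrrCharacter G), ∃ q : IrrCharacter G → ℂ, IsRepI M q ∧
      ∀ ψ, ∏ ξ ∈ S, (v ψ - v ξ) = v ψ ^ S.card + q ψ := by
    intro S
    induction S using Finset.induction_on with
    | empty => exact ⟨fun _ => 0, isRepI_zero hM, fun ψ => by simp⟩
    | insert a S ha ih =>
      obtain ⟨q, hq, hqe⟩ := ih
      refine ⟨fun ψ => v ψ * q ψ - (v a * v ψ ^ S.card + v a * q ψ), ?_, fun ψ => ?_⟩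
      · apply isRepI_sub hM (isRepI_mul_left hM hv hq)
        apply isRepI_add hM (isRepI_smul_of_li hM (hli a) (isRep_pow hM hv _))
        exact isRepI_smul_of_li hM (hli a) hq.isRep
      · rw [Finset.prod_insert ha, hqe ψ, Finset.card_insert_of_notMem ha, pow_succ]
        ring
  obtain ⟨q, hq, hqe⟩ := key Finset.univ
  have h0 : ∀ ψ, v ψ ^ Fintype.card (IrrCharacter G) = 0 - q ψ := by
    intro ψ
    have h1 := hqe ψ
    rw [Finset.prod_eq_zero (Finset.mem_univ ψ) (sub_self _), Finset.card_univ] at h1
    linear_combination -h1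
  exact isRepI_congr (fun ψ => (h0 ψ).symm) (isRepI_sub hM (isRepI_zero hM) hq)

/-- A representable family that is idempotent modulo `IsRepI` and has values in the local ideal
is itself in `IsRepI`. -/
theorem isRepI_of_idem [Fintype (IrrCharacter G)] (hM : M.IsPrime) {v : IrrCharacter G → ℂ}
    (hv : IsRep M v) (hidem : IsRepI M (fun χ => v χ * v χ - v χ))
    (hli : ∀ ξ, MemLocalIdeal M (v ξ)) : IsRepI M v := by
  have hpow : ∀ n : ℕ, IsRepI M (fun χ => v χ ^ (n + 1) - v χ) := by
    intro n
    induction n with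
    | zero => exact isRepI_congr (fun χ => by simp) (isRepI_zero hM)
    | succ n ih =>
      have := isRepI_add hM (isRepI_mul_left hM hv ih) hidem
      refine isRepI_congr (fun χ => ?_) this
      ring
  have hn := exists_pow_isRepI hM hv hli
  have hcard : 0 < Fintype.card (IrrCharacter G) := by
    have : Nonempty (IrrCharacter G) := by
      obtain ⟨c, _, _, _⟩ := hv
      by_contra hne
      rw [not_nonempty_iff] at hne
      -- no irreducible characters is impossible: the group order is a sum of squares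
      have h1 := coeff_act (isClassFunction_classIndicator (1 : G)) (1 : G)
      rw [Finset.sum_of_isEmpty, mul_zero, classIndicator_of_isConj (IsConj.refl 1)] at h1
      exact zero_ne_one h1
    exact Fintype.card_pos
  obtain ⟨m, hm⟩ := Nat.exists_eq_succ_of_ne_zero hcard.ne'
  rw [hm] at hn
  have := isRepI_sub hM hn (hpow m)
  exact isRepI_congr (fun χ => by rw [Nat.succ_eq_add_one]; ring) this

end Cfsg.Agent.Helper5.CC
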