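import Mathlib

set_option autoImplicit false

/-!
# A Kolchin-type lemma: a finite `p`-group acting on a finite `𝔽_p`-module is unipotent
-/

namespace Cfsg.Agent.Helper5.Kolchin

open Module

universe u

variable {p : ℕ} [Fact p.Prime] {Q : Type*} [Group Q]

/-- The action on the module given by a representation. -/
@[instance_reducible]
def repAction {V : Type u} [AddCommGroup V] [Module (ZMod p) V]
    (ρ : Representation (ZMod p) Q V) : MulAction Q V where
  smul x v := ρ x v
  one_smul v := by show ρ 1 v = v; simp
  mul_smul x y v := by show ρ (x * y) v = ρ x (ρ y v); simp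

/-- A finite `p`-group acting linearly on a nontrivial finite `𝔽_p`-module has a nonzero fixed
vector. -/
theorem invariants_ne_bot [Finite Q] (hQ : IsPGroup p Q) {V : Type u} [AddCommGroup V]
    [Module (ZMod p) V] [Finite V] [Nontrivial V] (ρ : Representation (ZMod p) Q V) :
    ρ.invariants ≠ ⊥ := by
  classical
  let _ := repAction ρ
  have hsmul : ∀ (x : Q) (v : V), x • v = ρ x v := fun _ _ => rfl
  have hcard : p ∣ Nat.card V := by
    have : Fintype V := Fintype.ofFinite V
    have h := Module.card_eq_pow_finrank (K := ZMod p) (V := V)
    rw [Nat.card_eq_fintype_card, h, ZMod.card]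
    have hpos : 0 < finrank (ZMod p) V := Module.finrank_pos
    exact dvd_pow_self p hpos.ne'
  have h0 : (0 : V) ∈ MulAction.fixedPoints Q V := by
    intro x
    rw [hsmul, map_zero]
  obtain ⟨b, hb, hb0⟩ := hQ.exists_fixed_point_of_prime_dvd_card_of_fixed_point V hcard h0
  intro hbot
  have hbinv : b ∈ ρ.invariants := by
    rw [Representation.mem_invariants]
    intro x
    exact hb x
  rw [hbot, Submodule.mem_bot] at hbinv
  exact hb0 hbinv.symm

/-- **Kolchin-type lemma.** Any product of at least `dim V` operators `ρ x - 1` vanishes. -/
theorem prod_sub_one_eq_zero [Finite Q] (hQ : IsPGroup p Q) :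
    ∀ (n : ℕ) {V : Type u} [AddCommGroup V] [Module (ZMod p) V] [Finite V]
      (ρ : Representation (ZMod p) Q V), finrank (ZMod p) V ≤ n →
      ∀ l : List Q, n ≤ l.length → (l.map (fun x => ρ x - 1)).prod = 0 := by
  intro n
  induction n with
  | zero =>
    intro V _ _ _ ρ hV l _
    have h0 : finrank (ZMod p) V = 0 := Nat.le_zero.mp hV
    have : Subsingleton V := by
      rw [← not_nontrivial_iff_subsingleton]
      intro hnt
      have := Module.finrank_pos (R := ZMod p) (M := V)
      omega
    apply LinearMap.ext
    intro v
    exact Subsingleton.elim _ _
  | succ n ih =>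
    intro V _ _ _ ρ hV l hl
    by_cases hnt : Nontrivial V
    · -- nontrivial: use the invariants
      set W := ρ.invariants with hW
      have hWne : W ≠ ⊥ := invariants_ne_bot hQ ρ
      have hWinv : ∀ g, W ≤ W.comap (ρ g) := by
        intro g w hw
        rw [Submodule.mem_comap]
        have hw' : ρ g w = w := (Representation.mem_invariants ρ w).mp hw g
        rw [hw']; exact hw
      let ρq := ρ.quotient W hWinv
      have hfinq : Finite (V ⧸ W) := Finite.of_surjective W.mkQ (Submodule.mkQ_surjective W)
      have hrank : finrank (ZMod p) (V ⧸ W) ≤ n := by
        have h1 := Submodule.finrank_quotient_add_finrank W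
        have h2 : 1 ≤ finrank (ZMod p) W := Submodule.one_le_finrank_iff.mpr hWne
        omega
      cases l with
      | nil => simp at hl
      | cons x l' =>
        have hl' : n ≤ l'.length := by simpa using hl
        have hq := ih ρq hrank l' hl'
        rw [List.map_cons, List.prod_cons]
        -- compatibility with the quotient map
        have hcompat : ∀ (l : List Q) (v : V),
            W.mkQ ((l.map (fun y => ρ y - 1)).prod v) =
              (l.map (fun y => ρq y - 1)).prod (W.mkQ v) := by
          intro l
          induction l with
          | nil => intro v; simp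
          | cons y l ihl =>
            intro v
            rw [List.map_cons, List.prod_cons, List.map_cons, List.prod_cons,
              Module.End.mul_apply, Module.End.mul_apply, ← ihl v]
            simp only [LinearMap.sub_apply, Module.End.one_apply, map_sub]
            rfl
        apply LinearMap.ext
        intro v
        rw [Module.End.mul_apply, LinearMap.zero_apply]
        have hmem : (l'.map (fun y => ρ y - 1)).prod v ∈ W := by
          have := hcompat l' v
          rw [hq, LinearMap.zero_apply] at this
          exact (Submodule.Quotient.mk_eq_zero W).mp this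
        have hfix := (Representation.mem_invariants ρ _).mp hmem x
        rw [LinearMap.sub_apply, hfix, Module.End.one_apply, sub_self]
    · have : Subsingleton V := not_nontrivial_iff_subsingleton.mp hnt
      apply LinearMap.ext
      intro v
      exact Subsingleton.elim _ _

end Cfsg.Agent.Helper5.Kolchin
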