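import Mathlib
import Cfsg.Agent.Helper5.Kolchin

set_option autoImplicit false

/-!
# Class sums avoiding the centralizer of a normal `p`-subgroup are nilpotent mod `p`
-/

namespace Cfsg.Agent.Helper5.NilClass

open MulAction

section General

variable {p : ℕ} [Fact p.Prime] {P : Type*} [Group P] {X : Type*} [MulAction P X]

/-- The action on a fibre of an invariant function (general codomain). -/
@[instance_reducible]
def fiberAct {A : Type*} (f : X → A) (hf : ∀ (x : P) (t : X), f (x • t) = f t) (v : A) :
    MulAction P {t : X // f t = v} where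
  smul x t := ⟨x • t.1, (hf x t.1).trans t.2⟩
  one_smul _ := Subtype.ext (one_smul _ _)
  mul_smul _ _ _ := Subtype.ext (mul_smul _ _ _)

/-- Fibre sizes are congruent to fixed-point counts. -/
theorem card_fiber_modEq_gen (hP : IsPGroup p P) [Fintype X] [DecidableEq X]
    [DecidablePred (· ∈ fixedPoints P X)] {A : Type*} [DecidableEq A] (f : X → A)
    (hf : ∀ (x : P) (t : X), f (x • t) = f t) (v : A) :
    (Finset.univ.filter (fun t : X => f t = v)).card ≡
      ((Finset.univ.filter (fun t : X => t ∈ fixedPoints P X)).filter (fun t => f t = v)).card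
        [MOD p] := by
  classical
  let _ := fiberAct f hf v
  have h := hP.card_modEq_card_fixedPoints {t : X // f t = v}
  have e1 : Nat.card {t : X // f t = v} = (Finset.univ.filter (fun t : X => f t = v)).card := by
    rw [Nat.card_eq_fintype_card, Fintype.card_subtype]
  have e2 : Nat.card (fixedPoints P {t : X // f t = v}) =
      ((Finset.univ.filter (fun t : X => t ∈ fixedPoints P X)).filter (fun t => f t = v)).card := by
    rw [Finset.filter_filter, ← Fintype.card_subtype, Nat.card_eq_fintype_card]
    apply Fintype.card_congr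
    exact {
      toFun := fun t => ⟨t.1.1, by
        constructor
        · intro x
          have := t.2 x
          exact congrArg Subtype.val this
        · exact t.1.2⟩
      invFun := fun t => ⟨⟨t.1, t.2.2⟩, by
        intro x
        apply Subtype.ext
        exact t.2.1 x⟩
      left_inv := fun t => rfl
      right_inv := fun t => rfl }
  rw [e1, e2] at h
  exact h

/-- A sum of a `P`-invariant function with values in a group of exponent `p` over a `P`-set
equals the sum over the fixed points, for a `p`-group `P`. -/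
theorem sum_eq_sum_fixedPoints (hP : IsPGroup p P) [Fintype X]
    [DecidablePred (· ∈ fixedPoints P X)] {A : Type*} [AddCommGroup A]
    (hA : ∀ a : A, p • a = 0) (f : X → A) (hf : ∀ (x : P) (t : X), f (x • t) = f t) :
    ∑ t : X, f t = ∑ t ∈ Finset.univ.filter (fun t : X => t ∈ fixedPoints P X), f t := by
  classical
  let T : Finset A := Finset.univ.image f
  have key : ∀ s : Finset X, ∑ t ∈ s, f t =
      ∑ v ∈ T, (s.filter (fun t => f t = v)).card • v := by
    intro s
    rw [← Finset.sum_fiberwise_of_maps_to (s := s) (t := T) (g := f)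
      (fun t _ => Finset.mem_image_of_mem f (Finset.mem_univ t))]
    refine Finset.sum_congr rfl fun v _ => ?_
    rw [Finset.sum_congr rfl (fun t ht => (Finset.mem_filter.mp ht).2), Finset.sum_const]
  rw [key Finset.univ, key (Finset.univ.filter (fun t : X => t ∈ fixedPoints P X))]
  refine Finset.sum_congr rfl fun v _ => ?_
  have hmod := card_fiber_modEq_gen hP f hf v
  have hle : ((Finset.univ.filter (fun t : X => t ∈ fixedPoints P X)).filter
      (fun s => f s = v)).card ≤ (Finset.univ.filter (fun s : X => f s = v)).card := by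
    apply Finset.card_le_card
    intro s hs
    simp only [Finset.mem_filter, Finset.mem_univ, true_and] at hs ⊢
    exact hs.2
  obtain ⟨k, hk⟩ := (Nat.modEq_iff_dvd' hle).mp hmod.symm
  have hk' : (Finset.univ.filter (fun s : X => f s = v)).card =
      ((Finset.univ.filter (fun t : X => t ∈ fixedPoints P X)).filter
      (fun s => f s = v)).card + p * k := by omega
  rw [hk', add_smul, mul_comm, mul_smul, hA, smul_zero, add_zero]

end General

section Alg

open MonoidAlgebra

variable {G : Type*} [Group G]

/-- Conjugation action of a subgroup on the whole group. -/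
@[instance_reducible]
def conjOn (Q : Subgroup G) : MulAction Q G where
  smul u t := (u : G) * t * (u : G)⁻¹
  one_smul t := by
    show ((1 : Q) : G) * t * ((1 : Q) : G)⁻¹ = t
    simp
  mul_smul u w t := by
    show ((u * w : Q) : G) * t * ((u * w : Q) : G)⁻¹ =
      (u : G) * ((w : G) * t * (w : G)⁻¹) * (u : G)⁻¹
    simp [mul_assoc]

/-- The sum of the elements of a finite set in the monoid algebra. -/
noncomputable def setSum (R : Type*) [Semiring R] (K : Finset G) : MonoidAlgebra R G :=
  ∑ t ∈ K, MonoidAlgebra.single t (1 : R)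

theorem map_setSum {R S : Type*} [Semiring R] [Semiring S] (f : R →+* S) (K : Finset G) :
    MonoidAlgebra.mapRingHom G f (setSum R K) = setSum S K := by
  simp only [setSum, map_sum, mapRingHom_single, map_one]

omit [Group G] in
theorem coeff_setSum [DecidableEq G] (R : Type*) [Semiring R] (K : Finset G) (z : G) :
    (setSum R K).coeff z = if z ∈ K then 1 else 0 := by
  simp only [setSum, coeff_sum, Finsupp.coe_finsetSum, Finset.sum_apply, coeff_single]
  simp only [Finsupp.single_apply]
  rw [Finset.sum_ite_eq' K z]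

/-- The sum over a conjugation-stable set is central. -/
theorem single_mul_setSum {R : Type*} [Semiring R] (K : Finset G)
    (hK : ∀ x t : G, t ∈ K → x * t * x⁻¹ ∈ K) (x : G) :
    MonoidAlgebra.single x (1 : R) * setSum R K = setSum R K * MonoidAlgebra.single x (1 : R) := by
  simp only [setSum, Finset.mul_sum, Finset.sum_mul, single_mul_single, mul_one]
  refine Finset.sum_nbij' (fun t => x * t * x⁻¹) (fun t => x⁻¹ * t * x) ?_ ?_ ?_ ?_ ?_
  · intro t ht; exact hK x t ht
  · intro t ht
    have := hK x⁻¹ t ht
    rwa [inv_inv] at this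
  · intro t _; group
  · intro t _; group
  · intro t _
    congr 1
    group

variable {p : ℕ} [Fact p.Prime]

theorem nsmul_p_eq_zero (a : MonoidAlgebra (ZMod p) G) : p • a = 0 := by
  rw [← Nat.cast_smul_eq_nsmul (ZMod p) p a, ZMod.natCast_self, zero_smul]

/-- The sum over a conjugation-stable set avoiding `C_G(Q)` annihilates the `Q`-fixed vectors. -/
theorem setSum_mul_eq_zero [Fintype G] (K : Finset G)
    (hK : ∀ x t : G, t ∈ K → x * t * x⁻¹ ∈ K) (Q : Subgroup G) [hQn : Q.Normal]
    (hQ : IsPGroup p Q) (hKQ : ∀ t ∈ K, t ∉ Subgroup.centralizer (Q : Set G))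
    (w : MonoidAlgebra (ZMod p) G)
    (hw : ∀ q ∈ Q, MonoidAlgebra.single q (1 : ZMod p) * w = w) :
    setSum (ZMod p) K * w = 0 := by
  classical
  let _ := conjOn Q
  have hsmul : ∀ (x : Q) (t : G), x • t = (x : G) * t * (x : G)⁻¹ := fun _ _ => rfl
  let f : G → MonoidAlgebra (ZMod p) G :=
    fun t => if t ∈ K then MonoidAlgebra.single t (1 : ZMod p) * w else 0
  have e1 : setSum (ZMod p) K * w = ∑ t : G, f t := by
    rw [setSum, Finset.sum_mul]
    simp only [f]
    rw [Finset.sum_ite_mem Finset.univ K, Finset.univ_inter]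
  have hf : ∀ (x : Q) (t : G), f (x • t) = f t := by
    intro x t
    rw [hsmul]
    simp only [f]
    have hmem : (x : G) * t * (x : G)⁻¹ ∈ K ↔ t ∈ K := by
      constructor
      · intro h
        have := hK (x : G)⁻¹ _ h
        rw [inv_inv] at this
        convert this using 1
        group
      · exact hK x t
    by_cases ht : t ∈ K
    · rw [if_pos ht, if_pos (hmem.mpr ht)]
      have hq : t⁻¹ * (x : G) * t * (x : G)⁻¹ ∈ Q := by
        have h1 : t⁻¹ * (x : G) * t⁻¹⁻¹ ∈ Q := hQn.conj_mem _ x.2 t⁻¹
        rw [inv_inv] at h1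
        exact Q.mul_mem h1 (Q.inv_mem x.2)
      have : MonoidAlgebra.single ((x : G) * t * (x : G)⁻¹) (1 : ZMod p) =
          MonoidAlgebra.single t (1 : ZMod p) *
            MonoidAlgebra.single (t⁻¹ * (x : G) * t * (x : G)⁻¹) (1 : ZMod p) := by
        rw [single_mul_single, mul_one]
        congr 1
        group
      rw [this, mul_assoc, hw _ hq]
    · rw [if_neg ht, if_neg (fun h => ht (hmem.mp h))]
  rw [e1, sum_eq_sum_fixedPoints hQ nsmul_p_eq_zero f hf]
  apply Finset.sum_eq_zero
  intro t ht
  have hfix : t ∈ fixedPoints Q G := (Finset.mem_filter.mp ht).2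
  simp only [f]
  rw [if_neg]
  intro htK
  apply hKQ t htK
  rw [Subgroup.mem_centralizer_iff]
  intro q hq
  have := hfix ⟨q, hq⟩
  rw [hsmul] at this
  show q * t = t * q
  calc q * t = q * t * q⁻¹ * q := by group
    _ = t * q := by rw [this]

/-- The representation of `Q` on the group algebra by left multiplication. -/
noncomputable def leftRep (p : ℕ) [Fact p.Prime] (Q : Subgroup G) :
    Representation (ZMod p) Q (MonoidAlgebra (ZMod p) G) :=
  ((Algebra.lmul (ZMod p) (MonoidAlgebra (ZMod p) G) :
      MonoidAlgebra (ZMod p) G →ₐ[ZMod p] Module.End (ZMod p) (MonoidAlgebra (ZMod p) G)) :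
      MonoidAlgebra (ZMod p) G →* Module.End (ZMod p) (MonoidAlgebra (ZMod p) G)).comp
    ((MonoidAlgebra.of (ZMod p) G).comp Q.subtype)

theorem leftRep_prod (Q : Subgroup G) (l : List Q) :
    (l.map (fun q => leftRep p Q q - 1)).prod =
      Algebra.lmul (ZMod p) (MonoidAlgebra (ZMod p) G)
        (l.map (fun q : Q => MonoidAlgebra.single (q : G) (1 : ZMod p) - 1)).prod := by
  induction l with
  | nil => rw [List.map_nil, List.prod_nil, List.map_nil, List.prod_nil, map_one]
  | cons q l ih =>
    rw [List.map_cons, List.prod_cons, List.map_cons, List.prod_cons, ih, map_mul, map_sub,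
      map_one]
    rfl

/-- **Nilpotency.** -/
theorem setSum_pow_mul_prod_eq_zero [Fintype G] (K : Finset G)
    (hK : ∀ x t : G, t ∈ K → x * t * x⁻¹ ∈ K) (Q : Subgroup G) [hQn : Q.Normal]
    (hQ : IsPGroup p Q) (hKQ : ∀ t ∈ K, t ∉ Subgroup.centralizer (Q : Set G)) :
    ∀ (k : ℕ) (l : List Q),
      Module.finrank (ZMod p) (MonoidAlgebra (ZMod p) G) ≤ l.length + k →
      setSum (ZMod p) K ^ k *
        (l.map (fun q : Q => MonoidAlgebra.single (q : G) (1 : ZMod p) - 1)).prod = 0 := by
  intro k
  induction k with
  | zero =>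
    intro l hl
    rw [pow_zero, one_mul]
    have hfin : Finite (MonoidAlgebra (ZMod p) G) := Module.finite_of_finite (ZMod p)
    have h := Kolchin.prod_sub_one_eq_zero hQ _ (leftRep p Q) le_rfl l (by simpa using hl)
    rw [leftRep_prod] at h
    have h1 := LinearMap.congr_fun h 1
    simpa using h1
  | succ k ih =>
    intro l hl
    rw [pow_succ', mul_assoc]
    apply setSum_mul_eq_zero K hK Q hQ hKQ
    intro q hq
    have h0 := ih (⟨q, hq⟩ :: l) (by rw [List.length_cons]; omega)
    rw [List.map_cons, List.prod_cons] at h0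
    have hcomm : Commute (MonoidAlgebra.single q (1 : ZMod p)) (setSum (ZMod p) K ^ k) :=
      Commute.pow_right (single_mul_setSum K hK q) k
    have h2 : (MonoidAlgebra.single q (1 : ZMod p) - 1) * (setSum (ZMod p) K ^ k *
        (l.map (fun q : Q => MonoidAlgebra.single (q : G) (1 : ZMod p) - 1)).prod) = 0 := by
      rw [← mul_assoc, sub_mul, one_mul, hcomm.eq, ← mul_one (setSum (ZMod p) K ^ k),
        mul_assoc (setSum (ZMod p) K ^ k) 1, one_mul, ← mul_sub, mul_assoc]
      exact h0
    rw [sub_mul, one_mul, sub_eq_zero] at h2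
    exact h2

theorem setSum_pow_eq_zero [Fintype G] (K : Finset G)
    (hK : ∀ x t : G, t ∈ K → x * t * x⁻¹ ∈ K) (Q : Subgroup G) [hQn : Q.Normal]
    (hQ : IsPGroup p Q) (hKQ : ∀ t ∈ K, t ∉ Subgroup.centralizer (Q : Set G)) :
    setSum (ZMod p) K ^ Module.finrank (ZMod p) (MonoidAlgebra (ZMod p) G) = 0 := by
  have := setSum_pow_mul_prod_eq_zero K hK Q hQ hKQ
    (Module.finrank (ZMod p) (MonoidAlgebra (ZMod p) G)) [] (by simp)
  simpa using this

/-- Over any ring of characteristic `p`. -/
theorem isNilpotent_setSum [Fintype G] (F : Type*) [Ring F] [CharP F p] (K : Finset G)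
    (hK : ∀ x t : G, t ∈ K → x * t * x⁻¹ ∈ K) (Q : Subgroup G) [hQn : Q.Normal]
    (hQ : IsPGroup p Q) (hKQ : ∀ t ∈ K, t ∉ Subgroup.centralizer (Q : Set G)) :
    IsNilpotent (setSum F K) := by
  rw [← map_setSum (ZMod.castHom (dvd_refl p) F) K]
  exact IsNilpotent.map ⟨_, setSum_pow_eq_zero K hK Q hQ hKQ⟩ _

end Alg

end Cfsg.Agent.Helper5.NilClass
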