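import Mathlib
import Cfsg.Prelude.Def_Blocks
import Cfsg.Agent.Helper5.NilClassSum
import Cfsg.Agent.Helper5.CentralChar

set_option autoImplicit false

/-!
# Central characters vanish mod `M` off the centralizer of a normal `p`-subgroup
-/

namespace Cfsg.Agent.Helper5.CC

open Cfsg Cfsg.Agent.Helper24 Cfsg.Agent.Helper5 Cfsg.Agent.Helper5.Loc
  Cfsg.Agent.Helper5.NilClass

variable {G : Type*} [Group G] [Fintype G]

/-- The complex function of an element of the integral group ring. -/
noncomputable def toFun (x : MonoidAlgebra ℤ G) : G → ℂ := fun t => ((x.coeff t : ℤ) : ℂ)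

theorem toFun_mul (x y : MonoidAlgebra ℤ G) : toFun (x * y) = conv (toFun x) (toFun y) := by
  funext g
  simp only [toFun, conv]
  rw [MonoidAlgebra.coeff_mul_apply_left, Finsupp.sum_fintype _ _ (fun _ => by simp)]
  push_cast
  rfl

omit [Fintype G] in
theorem toFun_one : toFun (1 : MonoidAlgebra ℤ G) = deltaOne := by
  classical
  funext t
  simp only [toFun, MonoidAlgebra.one_def, MonoidAlgebra.coeff_single, Finsupp.single_apply]
  by_cases ht : t = 1
  · subst ht
    rw [if_pos rfl, deltaOne_apply_one]; simp
  · rw [if_neg (fun h => ht h.symm), deltaOne_apply_ne ht]; simp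

theorem toFun_setSum [DecidableEq G] (g : G) [DecidablePred (fun x => IsConj g x)] :
    toFun (setSum ℤ (Finset.univ.filter (fun x => IsConj g x))) = classIndicator g := by
  funext t
  simp only [toFun]
  rw [coeff_setSum]
  by_cases ht : IsConj g t
  · rw [if_pos (by simpa using ht), classIndicator_of_isConj ht]; simp
  · rw [if_neg (by simpa using ht), classIndicator_of_not_isConj ht]; simp

theorem isClassFunction_toFun_pow [DecidableEq G] (g : G) [DecidablePred (fun x => IsConj g x)]
    (n : ℕ) :
    IsClassFunction G (toFun (setSum ℤ (Finset.univ.filter (fun x => IsConj g x)) ^ n)) := by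
  induction n with
  | zero =>
    rw [pow_zero, toFun_one]
    exact isClassFunction_classIndicator 1
  | succ n ih =>
    rw [pow_succ', toFun_mul, toFun_setSum]
    exact isClassFunction_conv (isClassFunction_classIndicator g) ih

theorem act_toFun_pow [DecidableEq G] (g : G) [DecidablePred (fun x => IsConj g x)]
    (χ : IrrCharacter G) (n : ℕ) :
    act (toFun (setSum ℤ (Finset.univ.filter (fun x => IsConj g x)) ^ n)) χ =
      centralChar (χ : G → ℂ) g ^ n := by
  induction n with
  | zero => rw [pow_zero, toFun_one, act_deltaOne, pow_zero]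
  | succ n ih =>
    rw [pow_succ', toFun_mul, toFun_setSum, act_conv (isClassFunction_classIndicator g), ih,
      act_classIndicator, pow_succ']

variable {M : Ideal AlgInt}

theorem li_of_pow (hM : M.IsPrime) {z : ℂ} (hz : MemLocalRing M z) :
    ∀ n : ℕ, MemLocalIdeal M (z ^ n) → MemLocalIdeal M z := by
  intro n
  induction n with
  | zero =>
    intro h
    rw [pow_zero] at h
    exact absurd h (not_memLocalIdeal_one hM)
  | succ n ih =>
    intro h
    rw [pow_succ] at h
    rcases li_of_mul hM (lr_pow hM hz n) hz h with h1 | h1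
    · exact ih h1
    · exact h1

/-- **Claim N.** If `Q` is a normal `p`-subgroup and `g` does not centralize `Q`, then the central
character of any irreducible character at `g` lies in the local ideal. -/
theorem centralChar_memLocalIdeal_of_not_mem_centralizer {p : ℕ} [Fact p.Prime]
    (hM : IsPModular p M) (Q : Subgroup G) [hQn : Q.Normal] (hQ : IsPGroup p Q)
    (χ : IrrCharacter G) (g : G) (hg : g ∉ Subgroup.centralizer (Q : Set G)) :
    MemLocalIdeal M (centralChar (χ : G → ℂ) g) := by
  classical
  have hMp := isPrime_of_isPModular hM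
  have : Fintype (ConjClasses G) := Fintype.ofFinite _
  set K : Finset G := Finset.univ.filter (fun x => IsConj g x) with hKdef
  have hK : ∀ x t : G, t ∈ K → x * t * x⁻¹ ∈ K := by
    intro x t ht
    simp only [K, Finset.mem_filter, Finset.mem_univ, true_and] at ht ⊢
    exact ht.trans (isConj_iff.mpr ⟨x, rfl⟩)
  have hKQ : ∀ t ∈ K, t ∉ Subgroup.centralizer (Q : Set G) := by
    intro t ht htC
    simp only [K, Finset.mem_filter, Finset.mem_univ, true_and] at ht
    obtain ⟨c, hc⟩ := isConj_iff.mp ht
    apply hg
    have hn : (Subgroup.centralizer (Q : Set G)).Normal := Subgroup.normal_centralizer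
    have := hn.conj_mem t htC c⁻¹
    rw [← hc] at this
    convert this using 1
    group
  set N := Module.finrank (ZMod p) (MonoidAlgebra (ZMod p) G) with hN
  have hzero := setSum_pow_eq_zero (p := p) K hK Q hQ hKQ
  -- coefficients of the integral power are divisible by `p`
  have hdiv : ∀ z : G, (p : ℤ) ∣ (setSum ℤ K ^ N).coeff z := by
    intro z
    have h1 : MonoidAlgebra.mapRingHom G (Int.castRingHom (ZMod p)) (setSum ℤ K ^ N) = 0 := by
      rw [map_pow, map_setSum]
      exact hzero
    have h2 := congrArg (fun x => x.coeff z) h1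
    simp only [MonoidAlgebra.coeff_mapRingHom] at h2
    have h3 : (((setSum ℤ K ^ N).coeff z : ℤ) : ZMod p) = 0 := by simpa using h2
    exact (ZMod.intCast_zmod_eq_zero_iff_dvd _ p).mp h3
  apply li_of_pow hMp (memLocalRing_centralChar hMp χ g) N
  rw [← act_toFun_pow g χ N, act_eq_sum_centralChar (isClassFunction_toFun_pow g N) χ]
  apply li_sum hMp
  intro L _
  apply li_mul_right hMp _ (memLocalRing_centralChar hMp χ _)
  obtain ⟨k, hk⟩ := hdiv (rep L)
  simp only [toFun]
  rw [hk]
  push_cast
  exact li_mul_right hMp ((memLocalIdeal_natCast_iff hM p).mpr dvd_rfl) (memLocalRing_intCast hMp k)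

end Cfsg.Agent.Helper5.CC
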