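import Mathlib
import Cfsg.Prelude.Def_Characters

set_option autoImplicit false

namespace Cfsg.Agent.Helper5

open scoped ComplexConjugate

variable {G : Type*} [Group G]

theorem extendByZero_apply_mem (H : Subgroup G) (θ : H → ℂ) {g : G} (hg : g ∈ H) :
    Cfsg.extendByZero H θ g = θ ⟨g, hg⟩ := by
  unfold Cfsg.extendByZero
  exact Subtype.val_injective.extend_apply θ 0 ⟨g, hg⟩

theorem extendByZero_apply_not_mem (H : Subgroup G) (θ : H → ℂ) {g : G} (hg : g ∉ H) :
    Cfsg.extendByZero H θ g = 0 := by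
  unfold Cfsg.extendByZero
  rw [Function.extend_apply']
  · rfl
  · rintro ⟨a, ha⟩
    exact hg (ha ▸ a.2)

theorem extendByZero_apply (H : Subgroup G) (θ : H → ℂ) (g : G) [Decidable (g ∈ H)] :
    Cfsg.extendByZero H θ g = if hg : g ∈ H then θ ⟨g, hg⟩ else 0 := by
  split_ifs with hg
  · exact extendByZero_apply_mem H θ hg
  · exact extendByZero_apply_not_mem H θ hg

/-- The bijection `(G ⧸ H) × H ≃ G`, `(q, h) ↦ q.out * h`. -/
noncomputable def cosetProdEquiv (H : Subgroup G) : (G ⧸ H) × H ≃ G where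
  toFun p := p.1.out * (p.2 : G)
  invFun x := ((x : G ⧸ H), ⟨((x : G ⧸ H)).out⁻¹ * x, by
    rw [← QuotientGroup.eq]; exact QuotientGroup.out_eq' _⟩)
  left_inv p := by
    obtain ⟨q, h⟩ := p
    have h1 : ((q.out * (h : G) : G) : G ⧸ H) = q := by
      rw [QuotientGroup.mk_mul_of_mem _ h.2]; exact QuotientGroup.out_eq' q
    apply Prod.ext
    · exact h1
    · apply Subtype.ext
      simp only [h1]
      group
  right_inv x := by
    simp

theorem cosetProdEquiv_mk (H : Subgroup G) (p : (G ⧸ H) × H) :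
    ((cosetProdEquiv H p : G) : G ⧸ H) = p.1 := by
  obtain ⟨q, h⟩ := p
  show ((q.out * (h : G) : G) : G ⧸ H) = q
  rw [QuotientGroup.mk_mul_of_mem _ h.2]; exact QuotientGroup.out_eq' q

theorem smul_mk_eq_iff (H : Subgroup G) (g x : G) :
    g • (x : G ⧸ H) = (x : G ⧸ H) ↔ x⁻¹ * g * x ∈ H := by
  rw [MulAction.Quotient.smul_mk, eq_comm, QuotientGroup.eq, smul_eq_mul, mul_assoc]

/-- The value of the permutation character of `G ⧸ H` is the number of fixed cosets. -/
theorem indFun_one_eq_card_fixedBy [Fintype G] (H : Subgroup G) (g : G) :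
    Cfsg.indFun H (fun _ => 1) g = (Nat.card (MulAction.fixedBy (G ⧸ H) g) : ℂ) := by
  classical
  unfold Cfsg.indFun
  have hsum : ∑ x : G, Cfsg.extendByZero H (fun _ => (1 : ℂ)) (x⁻¹ * g * x)
      = ∑ p : (G ⧸ H) × H, (if g • p.1 = p.1 then (1 : ℂ) else 0) := by
    rw [← (cosetProdEquiv H).sum_comp]
    apply Finset.sum_congr rfl
    intro p _
    rw [extendByZero_apply]
    have := smul_mk_eq_iff H g (cosetProdEquiv H p)
    rw [cosetProdEquiv_mk] at this
    by_cases h : g • p.1 = p.1
    · rw [if_pos h, dif_pos (this.mp h)]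
    · rw [if_neg h, dif_neg (fun h' => h (this.mpr h'))]
  rw [hsum, Fintype.sum_prod_type]
  have h2 : ∀ q : G ⧸ H, (∑ _h : H, (if g • q = q then (1 : ℂ) else 0))
      = (Fintype.card H : ℂ) * (if g • q = q then (1 : ℂ) else 0) := by
    intro q
    rw [Finset.sum_const, Finset.card_univ, nsmul_eq_mul]
  rw [Finset.sum_congr rfl (fun q _ => h2 q), ← Finset.mul_sum, ← mul_assoc, Nat.card_eq_fintype_card]
  have hH : (Fintype.card H : ℂ) ≠ 0 := by
    exact_mod_cast Fintype.card_ne_zero
  rw [inv_mul_cancel₀ hH, one_mul, Finset.sum_boole]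
  congr 1
  rw [Nat.card_eq_fintype_card, Fintype.card_subtype]
  rfl

/-- Fixed points in a product. -/
theorem card_fixedBy_prod {X Y : Type*} [MulAction G X] [MulAction G Y] (g : G) :
    Nat.card (MulAction.fixedBy (X × Y) g) =
      Nat.card (MulAction.fixedBy X g) * Nat.card (MulAction.fixedBy Y g) := by
  rw [← Nat.card_prod]
  apply Nat.card_congr
  refine ⟨fun p => (⟨p.1.1, congrArg Prod.fst p.2⟩, ⟨p.1.2, congrArg Prod.snd p.2⟩),
    fun q => ⟨(q.1.1, q.2.1), Prod.ext q.1.2 q.2.2⟩, fun p => rfl, fun q => rfl⟩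

/-- Fixed points in the orbit of `x₀` correspond to fixed cosets of the stabilizer. -/
theorem card_fixedBy_orbit {X : Type*} [MulAction G X] (g : G) (x₀ : X) :
    Nat.card {x : X // g • x = x ∧ (Quotient.mk'' x : MulAction.orbitRel.Quotient G X) = Quotient.mk'' x₀} =
      Nat.card (MulAction.fixedBy (G ⧸ MulAction.stabilizer G x₀) g) := by
  symm
  apply Nat.card_congr
  refine Equiv.ofBijective (fun q => ⟨MulAction.ofQuotientStabilizer G x₀ q.1, ?_, ?_⟩) ⟨?_, ?_⟩
  · rw [← MulAction.ofQuotientStabilizer_smul, q.2]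
  · rw [Quotient.eq'']
    exact MulAction.ofQuotientStabilizer_mem_orbit G x₀ q.1
  · intro q q' h
    apply Subtype.ext
    apply MulAction.injective_ofQuotientStabilizer G x₀
    exact congrArg Subtype.val h
  · rintro ⟨x, hx1, hx2⟩
    rw [Quotient.eq''] at hx2
    obtain ⟨a, ha⟩ := hx2
    replace ha : a • x₀ = x := ha
    refine ⟨⟨(a : G ⧸ MulAction.stabilizer G x₀), ?_⟩, ?_⟩
    · apply MulAction.injective_ofQuotientStabilizer G x₀
      rw [MulAction.ofQuotientStabilizer_smul, MulAction.ofQuotientStabilizer_mk]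
      show g • a • x₀ = a • x₀
      rw [ha]; exact hx1
    · apply Subtype.ext
      show MulAction.ofQuotientStabilizer G x₀ (a : G ⧸ MulAction.stabilizer G x₀) = x
      rw [MulAction.ofQuotientStabilizer_mk]; exact ha

/-- Orbit decomposition of the fixed point count, for any choice of orbit representatives. -/
theorem card_fixedBy_eq_sum_orbits {X : Type*} [MulAction G X] [Finite X] (g : G)
    [Fintype (MulAction.orbitRel.Quotient G X)]
    (rep : MulAction.orbitRel.Quotient G X → X) (hrep : ∀ ω, Quotient.mk'' (rep ω) = ω) :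
    Nat.card (MulAction.fixedBy X g) =
      ∑ ω : MulAction.orbitRel.Quotient G X,
        Nat.card (MulAction.fixedBy (G ⧸ MulAction.stabilizer G (rep ω)) g) := by
  classical
  have e : MulAction.fixedBy X g ≃ Σ ω : MulAction.orbitRel.Quotient G X,
      {x : X // g • x = x ∧ (Quotient.mk'' x : MulAction.orbitRel.Quotient G X) = Quotient.mk'' (rep ω)} :=
    { toFun := fun x => ⟨Quotient.mk'' x.1, x.1, x.2, by rw [hrep]⟩
      invFun := fun p => ⟨p.2.1, p.2.2.1⟩
      left_inv := fun x => rfl
      right_inv := fun p => by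
        obtain ⟨ω, x, hx1, hx2⟩ := p
        rw [hrep] at hx2
        subst hx2
        rfl }
  rw [Nat.card_congr e, Nat.card_sigma]
  apply Finset.sum_congr rfl
  intro ω _
  exact card_fixedBy_orbit g (rep ω)

/-- The natural map `N ⧸ H.subgroupOf N → G ⧸ H`. -/
def quotSubgroupOfMap (H N : Subgroup G) : N ⧸ H.subgroupOf N → G ⧸ H :=
  Quotient.map' (fun n : N => (n : G)) (by
    intro a b hab
    rw [QuotientGroup.leftRel_apply] at hab ⊢
    exact hab)

theorem quotSubgroupOfMap_mk (H N : Subgroup G) (n : N) :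
    quotSubgroupOfMap H N (n : N ⧸ H.subgroupOf N) = ((n : G) : G ⧸ H) := rfl

theorem quotSubgroupOfMap_injective (H N : Subgroup G) :
    Function.Injective (quotSubgroupOfMap H N) := by
  intro a b
  induction a using QuotientGroup.induction_on with
  | H a =>
    induction b using QuotientGroup.induction_on with
    | H b =>
      intro h
      rw [quotSubgroupOfMap_mk, quotSubgroupOfMap_mk, QuotientGroup.eq] at h
      rw [QuotientGroup.eq]
      exact h

theorem quotSubgroupOfMap_smul (H N : Subgroup G) (n : N) (q : N ⧸ H.subgroupOf N) :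
    quotSubgroupOfMap H N (n • q) = (n : G) • quotSubgroupOfMap H N q := by
  induction q using QuotientGroup.induction_on with
  | H a => rfl

/-- If every `g` with `g⁻¹ x g ∈ H` lies in `N`, the fixed cosets of `x` in `G ⧸ H`
are those in `N ⧸ H`. -/
theorem card_fixedBy_eq_card_fixedBy_subgroupOf (H N : Subgroup G) (x : G) (hx : x ∈ N)
    (hN : ∀ g : G, g⁻¹ * x * g ∈ H → g ∈ N) :
    Nat.card (MulAction.fixedBy (G ⧸ H) x) =
      Nat.card (MulAction.fixedBy (N ⧸ H.subgroupOf N) (⟨x, hx⟩ : N)) := by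
  symm
  apply Nat.card_congr
  refine Equiv.ofBijective (fun q => ⟨quotSubgroupOfMap H N q.1, ?_⟩) ⟨?_, ?_⟩
  · have := q.2
    rw [MulAction.mem_fixedBy] at this ⊢
    have h2 := quotSubgroupOfMap_smul H N ⟨x, hx⟩ q.1
    rw [this] at h2
    exact h2.symm
  · intro q q' h
    apply Subtype.ext
    apply quotSubgroupOfMap_injective H N
    exact congrArg Subtype.val h
  · rintro ⟨q, hq⟩
    induction q using QuotientGroup.induction_on with
    | H g =>
      rw [MulAction.mem_fixedBy, smul_mk_eq_iff] at hq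
      have hg := hN g hq
      refine ⟨⟨((⟨g, hg⟩ : N) : N ⧸ H.subgroupOf N), ?_⟩, ?_⟩
      · rw [MulAction.mem_fixedBy, smul_mk_eq_iff]
        exact hq
      · rfl

/-- If `x ^ (p ^ a)` acts trivially then the number of fixed points of `x` is congruent to the
cardinality of the set mod `p`. -/
theorem card_modEq_card_fixedBy_of_pow_smul {N T : Type*} [Group N] [MulAction N T] [Finite T]
    (p : ℕ) [Fact p.Prime] (x : N) (a : ℕ) (h : ∀ t : T, x ^ (p ^ a) • t = t) :
    Nat.card T ≡ Nat.card (MulAction.fixedBy T x) [MOD p] := by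
  classical
  let σ : Equiv.Perm T := MulAction.toPermHom N T x
  have hσ : σ ^ (p ^ a) = 1 := by
    ext t
    rw [← map_pow]
    exact h t
  have hZ : IsPGroup p (Subgroup.zpowers σ) := by
    rw [IsPGroup.iff_card, Nat.card_zpowers]
    exact (Nat.dvd_prime_pow Fact.out).mp (orderOf_dvd_of_pow_eq_one hσ) |>.imp fun _ h => h.2
  have key := hZ.card_modEq_card_fixedPoints T
  have hfix : (MulAction.fixedPoints (Subgroup.zpowers σ) T) = MulAction.fixedBy T x := by
    ext t
    rw [MulAction.mem_fixedPoints, MulAction.mem_fixedBy]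
    constructor
    · intro ht
      exact ht ⟨σ, Subgroup.mem_zpowers σ⟩
    · rintro ht ⟨τ, hτ⟩
      obtain ⟨k, rfl⟩ := Subgroup.mem_zpowers_iff.mp hτ
      show (σ ^ k) t = t
      have hσt : σ t = t := ht
      exact Equiv.Perm.zpow_apply_eq_self_of_apply_eq_self hσt k
  rw [hfix] at key
  exact key

end Cfsg.Agent.Helper5
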