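import Mathlib
import Cfsg.Prelude.Def_Characters
import Cfsg.Agent.Helper5.PermChar

set_option autoImplicit false

namespace Cfsg.Agent.Helper5

variable {G : Type*} [Group G]

/-- The fibre of `x ↦ x⁻¹ g x` over a conjugate of `g` has `|C_G(g)|` elements. -/
theorem card_conj_fibre [Fintype G] [DecidableEq G] (g a : G) :
    (Finset.univ.filter (fun x : G => x⁻¹ * g * x = a⁻¹ * g * a)).card =
      Nat.card (Subgroup.centralizer ({g} : Set G)) := by
  rw [← Fintype.card_subtype, ← Nat.card_eq_fintype_card]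
  apply Nat.card_congr
  refine ⟨fun x => ⟨x.1 * a⁻¹, ?_⟩, fun c => ⟨c.1 * a, ?_⟩, fun x => ?_, fun c => ?_⟩
  · rw [Subgroup.mem_centralizer_iff]
    intro z hz
    rw [Set.mem_singleton_iff] at hz
    subst hz
    have h : x.1⁻¹ * z * x.1 = a⁻¹ * z * a := x.2
    have : z * x.1 = x.1 * (a⁻¹ * z * a) := by
      calc z * x.1 = x.1 * (x.1⁻¹ * z * x.1) := by group
        _ = x.1 * (a⁻¹ * z * a) := by rw [h]
    calc z * (x.1 * a⁻¹) = (z * x.1) * a⁻¹ := by group
      _ = x.1 * (a⁻¹ * z * a) * a⁻¹ := by rw [this]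
      _ = x.1 * a⁻¹ * z := by group
  · have h := Subgroup.mem_centralizer_iff.mp c.2 g (Set.mem_singleton g)
    show (c.1 * a)⁻¹ * g * (c.1 * a) = a⁻¹ * g * a
    calc (c.1 * a)⁻¹ * g * (c.1 * a) = a⁻¹ * (c.1⁻¹ * (g * c.1)) * a := by group
      _ = a⁻¹ * (c.1⁻¹ * (c.1 * g)) * a := by rw [h]
      _ = a⁻¹ * g * a := by group
  · apply Subtype.ext; simp
  · apply Subtype.ext; simp

theorem isConj_iff_exists_inv_mul (g y : G) : IsConj g y ↔ ∃ a : G, y = a⁻¹ * g * a := by
  rw [isConj_iff]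
  constructor
  · rintro ⟨c, hc⟩
    exact ⟨c⁻¹, by rw [← hc]; group⟩
  · rintro ⟨a, rfl⟩
    exact ⟨a⁻¹, by group⟩

/-- Summing `f (x⁻¹ g x)` over the group is `|C_G(g)|` times the sum of `f` over the class of `g`. -/
theorem sum_conj_eq [Fintype G] (g : G) (f : G → ℂ) [DecidablePred (IsConj g)] :
    ∑ x : G, f (x⁻¹ * g * x) =
      (Nat.card (Subgroup.centralizer ({g} : Set G)) : ℂ) * ∑ y : G, if IsConj g y then f y else 0 := by
  classical
  rw [Finset.sum_comp f (fun x : G => x⁻¹ * g * x), Finset.mul_sum]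
  simp only [mul_ite, mul_zero]
  rw [← Finset.sum_filter]
  have himg : Finset.univ.image (fun x : G => x⁻¹ * g * x) = Finset.univ.filter (fun y => IsConj g y) := by
    ext y
    rw [Finset.mem_image, Finset.mem_filter, isConj_iff_exists_inv_mul]
    constructor
    · rintro ⟨a, _, rfl⟩; exact ⟨Finset.mem_univ _, a, rfl⟩
    · rintro ⟨_, a, rfl⟩; exact ⟨a, Finset.mem_univ _, rfl⟩
  rw [himg]
  apply Finset.sum_congr rfl
  intro y hy
  rw [Finset.mem_filter, isConj_iff_exists_inv_mul] at hy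
  obtain ⟨_, a, rfl⟩ := hy
  rw [nsmul_eq_mul]
  congr 2
  convert card_conj_fibre g a

theorem sum_extendByZero [Fintype G] (H : Subgroup G) [Fintype H] (F : H → ℂ) :
    ∑ y : G, Cfsg.extendByZero H F y = ∑ h : H, F h := by
  classical
  have h1 : ∀ y : G, Cfsg.extendByZero H F y = if y ∈ H then Cfsg.extendByZero H F y else 0 := by
    intro y
    by_cases hy : y ∈ H
    · rw [if_pos hy]
    · rw [if_neg hy, extendByZero_apply_not_mem H F hy]
  rw [Finset.sum_congr rfl (fun y _ => h1 y), ← Finset.sum_filter,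
    Finset.sum_subtype (Finset.univ.filter (fun y : G => y ∈ H)) (p := fun y => y ∈ H) (by intro y; simp)]
  apply Finset.sum_congr rfl
  intro h _
  exact extendByZero_apply_mem H F h.2

/-- Induced function as a weighted class sum. -/
theorem indFun_eq_class_sum [Fintype G] (H : Subgroup G) [Fintype H] (θ : H → ℂ) (g : G)
    [DecidablePred (IsConj g)] :
    Cfsg.indFun H θ g = (Nat.card H : ℂ)⁻¹ * ((Nat.card (Subgroup.centralizer ({g} : Set G)) : ℂ) *
      ∑ h : H, if IsConj g (h : G) then θ h else 0) := by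
  classical
  unfold Cfsg.indFun
  rw [sum_conj_eq g (Cfsg.extendByZero H θ)]
  congr 2
  rw [← sum_extendByZero H (fun h : H => if IsConj g (h : G) then θ h else 0)]
  apply Finset.sum_congr rfl
  intro y _
  by_cases hy : y ∈ H
  · rw [extendByZero_apply_mem H _ hy, extendByZero_apply_mem H _ hy]
  · rw [extendByZero_apply_not_mem H _ hy, extendByZero_apply_not_mem H _ hy, ite_self]

theorem indFun_apply_one [Fintype G] (H : Subgroup G) (θ : H → ℂ) :
    Cfsg.indFun H θ 1 = (H.index : ℂ) * θ 1 := by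
  unfold Cfsg.indFun
  have : ∀ x : G, Cfsg.extendByZero H θ (x⁻¹ * 1 * x) = θ 1 := by
    intro x
    have h1 : x⁻¹ * 1 * x = 1 := by group
    rw [h1, extendByZero_apply_mem H θ H.one_mem]
    rfl
  rw [Finset.sum_congr rfl (fun x _ => this x), Finset.sum_const, Finset.card_univ, nsmul_eq_mul,
    ← mul_assoc]
  congr 1
  have hH : (Nat.card H : ℂ) ≠ 0 := by exact_mod_cast Nat.card_pos.ne'
  rw [inv_mul_eq_iff_eq_mul₀ hH, ← Nat.card_eq_fintype_card, ← H.card_mul_index]
  push_cast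
  ring

end Cfsg.Agent.Helper5
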