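import Mathlib
import Cfsg.Prelude.Def_Blocks
import Cfsg.Agent.Helper5.CenterFunctional
import Cfsg.Agent.Helper5.ClaimN
import Cfsg.Agent.S0933

set_option autoImplicit false

/-!
# The Brauer map for `C_G(P) ≤ H ≤ N_G(P)`
-/

namespace Cfsg.Agent.Helper5.CC

open Cfsg Cfsg.Agent.Helper24 Cfsg.Agent.Helper5 Cfsg.Agent.Helper5.Loc

variable {G : Type*} [Group G]

/-- Cut a function on `H` down to `C_G(P)`. -/
noncomputable def cut (P H : Subgroup G) (c : H → ℂ) : H → ℂ :=
  fun h => @ite ℂ ((h : G) ∈ Subgroup.centralizer (P : Set G)) (Classical.propDecidable _) (c h) 0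

/-- The Brauer map on functions: restrict to `H` and cut down to `C_G(P)`. -/
noncomputable def brRes (P H : Subgroup G) (c : G → ℂ) : H → ℂ :=
  cut P H (fun h => c (h : G))

theorem cut_of_mem {P H : Subgroup G} (c : H → ℂ) {h : H}
    (hh : (h : G) ∈ Subgroup.centralizer (P : Set G)) : cut P H c h = c h := if_pos hh

theorem cut_of_not_mem {P H : Subgroup G} (c : H → ℂ) {h : H}
    (hh : (h : G) ∉ Subgroup.centralizer (P : Set G)) : cut P H c h = 0 := if_neg hh

theorem conj_mem_centralizer_of_mem_normalizer {P : Subgroup G} {x h : G}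
    (hx : x ∈ Subgroup.normalizer (P : Set G)) (hh : h ∈ Subgroup.centralizer (P : Set G)) :
    x * h * x⁻¹ ∈ Subgroup.centralizer (P : Set G) := by
  rw [Subgroup.mem_centralizer_iff] at hh ⊢
  intro q hq
  have hq' : x⁻¹ * q * x ∈ (P : Set G) := by
    have := (Subgroup.mem_normalizer_iff.mp hx (x⁻¹ * q * x))
    apply this.mpr
    have e : x * (x⁻¹ * q * x) * x⁻¹ = q := by group
    rw [e]
    exact hq
  have h1 := hh _ hq'
  calc q * (x * h * x⁻¹) = x * ((x⁻¹ * q * x) * h) * x⁻¹ := by group
    _ = x * (h * (x⁻¹ * q * x)) * x⁻¹ := by rw [h1]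
    _ = x * h * x⁻¹ * q := by group

theorem conj_mem_centralizer_iff {P : Subgroup G} {x h : G}
    (hx : x ∈ Subgroup.normalizer (P : Set G)) :
    x * h * x⁻¹ ∈ Subgroup.centralizer (P : Set G) ↔ h ∈ Subgroup.centralizer (P : Set G) := by
  constructor
  · intro hh
    have := conj_mem_centralizer_of_mem_normalizer
      ((Subgroup.normalizer (P : Set G)).inv_mem hx) hh
    rw [inv_inv] at this
    convert this using 1
    group
  · exact conj_mem_centralizer_of_mem_normalizer hx

theorem isClassFunction_cut {P H : Subgroup G} (hHN : H ≤ Subgroup.normalizer (P : Set G))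
    {c : H → ℂ} (hc : IsClassFunction H c) : IsClassFunction H (cut P H c) := by
  intro h x
  have hiff : ((x * h * x⁻¹ : H) : G) ∈ Subgroup.centralizer (P : Set G) ↔
      (h : G) ∈ Subgroup.centralizer (P : Set G) := by
    rw [Subgroup.coe_mul, Subgroup.coe_mul, Subgroup.coe_inv]
    exact conj_mem_centralizer_iff (hHN x.2)
  by_cases hh : (h : G) ∈ Subgroup.centralizer (P : Set G)
  · rw [cut_of_mem c hh, cut_of_mem c (hiff.mpr hh), hc]
  · rw [cut_of_not_mem c hh, cut_of_not_mem c (fun h' => hh (hiff.mp h'))]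

theorem isClassFunction_res {H : Subgroup G} {c : G → ℂ} (hc : IsClassFunction G c) :
    IsClassFunction H (fun h => c (h : G)) := by
  intro h x
  simp only [Subgroup.coe_mul, Subgroup.coe_inv]
  exact hc (h : G) (x : G)

theorem isClassFunction_brRes {P H : Subgroup G} (hHN : H ≤ Subgroup.normalizer (P : Set G))
    {c : G → ℂ} (hc : IsClassFunction G c) : IsClassFunction H (brRes P H c) :=
  isClassFunction_cut hHN (isClassFunction_res hc)

variable {M : Ideal AlgInt}

theorem sum_subgroup_eq_sum (H : Subgroup G) [Fintype G] [Fintype H] (F : G → ℂ)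
    (hF : ∀ t, t ∉ H → F t = 0) : ∑ t : H, F (t : G) = ∑ t : G, F t := by
  classical
  rw [← Finset.sum_subtype (Finset.univ.filter (fun t : G => t ∈ H)) (fun t => by simp) F,
    Finset.sum_filter]
  refine Finset.sum_congr rfl fun t _ => ?_
  by_cases ht : t ∈ H
  · rw [if_pos ht]
  · rw [if_neg ht, hF t ht]

theorem lr_cut (hM : M.IsPrime) {P H : Subgroup G} {c : H → ℂ}
    (hcM : ∀ t, MemLocalRing M (c t)) (t : H) : MemLocalRing M (cut P H c t) := by
  by_cases hh : (t : G) ∈ Subgroup.centralizer (P : Set G)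
  · rw [cut_of_mem c hh]; exact hcM t
  · rw [cut_of_not_mem c hh]; exact memLocalRing_zero hM

theorem lr_brRes (hM : M.IsPrime) {P H : Subgroup G} {c : G → ℂ}
    (hcM : ∀ t, MemLocalRing M (c t)) (t : H) : MemLocalRing M (brRes P H c t) :=
  lr_cut hM (fun _ => hcM _) t

theorem brRes_sub (P H : Subgroup G) (c d : G → ℂ) :
    brRes P H (c - d) = brRes P H c - brRes P H d := by
  funext h
  simp only [brRes, Pi.sub_apply]
  by_cases hh : (h : G) ∈ Subgroup.centralizer (P : Set G)
  · rw [cut_of_mem _ hh, cut_of_mem _ hh, cut_of_mem _ hh]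
  · rw [cut_of_not_mem _ hh, cut_of_not_mem _ hh, cut_of_not_mem _ hh, sub_zero]

theorem brRes_smul (P H : Subgroup G) (r : ℂ) (c : G → ℂ) :
    brRes P H (r • c) = r • brRes P H c := by
  funext h
  simp only [brRes, Pi.smul_apply, smul_eq_mul]
  by_cases hh : (h : G) ∈ Subgroup.centralizer (P : Set G)
  · rw [cut_of_mem _ hh, cut_of_mem _ hh]
  · rw [cut_of_not_mem _ hh, cut_of_not_mem _ hh, mul_zero]

theorem brRes_deltaOne (P H : Subgroup G) : brRes P H (deltaOne : G → ℂ) = deltaOne := by
  funext h
  simp only [brRes]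
  by_cases h1 : h = 1
  · subst h1
    rw [cut_of_mem _ (by rw [Subgroup.coe_one]; exact Subgroup.one_mem _), Subgroup.coe_one,
      deltaOne_apply_one, deltaOne_apply_one]
  · have h1' : (h : G) ≠ 1 := fun hh => h1 (Subtype.ext hh)
    rw [deltaOne_apply_ne h1]
    by_cases hh : (h : G) ∈ Subgroup.centralizer (P : Set G)
    · rw [cut_of_mem _ hh, deltaOne_apply_ne h1']
    · rw [cut_of_not_mem _ hh]

section Fin

variable [Fintype G]

/-- **Claim N in `H`**: cutting down to `C_G(P)` does not change the scalars modulo `M`. -/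
theorem act_sub_act_cut {p : ℕ} [Fact p.Prime] (hM : IsPModular p M) (P H : Subgroup G)
    [Fintype H] (hP : IsPGroup p P) (hPH : P ≤ H) (hHN : H ≤ Subgroup.normalizer (P : Set G))
    {c : H → ℂ} (hc : IsClassFunction H c) (hcM : ∀ t, MemLocalRing M (c t))
    (ξ : IrrCharacter H) : MemLocalIdeal M (act c ξ - act (cut P H c) ξ) := by
  classical
  have hMp := isPrime_of_isPModular hM
  have : Fintype (ConjClasses H) := Fintype.ofFinite _
  have hQn : (P.subgroupOf H).Normal := (Subgroup.normal_subgroupOf_iff_le_normalizer hPH).mpr hHN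
  have hQ : IsPGroup p (P.subgroupOf H) := hP.comap_subtype
  rw [← act_sub, act_eq_sum_centralChar (isClassFunction_sub hc (isClassFunction_cut hHN hc))]
  apply li_sum hMp
  intro L _
  rw [Pi.sub_apply]
  by_cases hh : ((rep L : H) : G) ∈ Subgroup.centralizer (P : Set G)
  · rw [cut_of_mem c hh, sub_self, zero_mul]
    exact memLocalIdeal_zero hMp
  · rw [cut_of_not_mem c hh, sub_zero]
    apply li_mul_left hMp (hcM _)
    apply centralChar_memLocalIdeal_of_not_mem_centralizer hM (P.subgroupOf H) hQ ξ
    intro hcon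
    apply hh
    rw [Subgroup.mem_centralizer_iff] at hcon ⊢
    intro q hq
    have := hcon ⟨q, hPH hq⟩ (by
      show (⟨q, hPH hq⟩ : H) ∈ P.subgroupOf H
      rw [Subgroup.mem_subgroupOf]
      exact hq)
    exact congrArg Subtype.val this

omit [Fintype G] in
theorem mem_fixedPoints_conjActAll_iff (P : Subgroup G) (t : G) :
    (letI := conjActAll P; t ∈ MulAction.fixedPoints P G) ↔
      t ∈ Subgroup.centralizer (P : Set G) := by
  let _ := conjActAll P
  have hsmul : ∀ (x : P) (t : G), x • t = (x : G) * t * (x : G)⁻¹ := fun _ _ => rfl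
  rw [Subgroup.mem_centralizer_iff]
  constructor
  · intro h q hq
    have := h ⟨q, hq⟩
    rw [hsmul] at this
    show q * t = t * q
    calc q * t = q * t * q⁻¹ * q := by group
      _ = t * q := by rw [this]
  · intro h q
    rw [hsmul]
    have := h q q.2
    rw [this]
    group

/-- **The Brauer map is multiplicative modulo `M`.** -/
theorem brRes_conv {p : ℕ} [Fact p.Prime] (hM : IsPModular p M) (P H : Subgroup G) [Fintype H]
    (hP : IsPGroup p P) (hCH : Subgroup.centralizer (P : Set G) ≤ H)
    {c d : G → ℂ} (hc : IsClassFunction G c) (hd : IsClassFunction G d)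
    (hcM : ∀ t, MemLocalRing M (c t)) (hdM : ∀ t, MemLocalRing M (d t)) (h : H) :
    MemLocalIdeal M (brRes P H (conv c d) h - conv (brRes P H c) (brRes P H d) h) := by
  classical
  have hMp := isPrime_of_isPModular hM
  by_cases hh : (h : G) ∈ Subgroup.centralizer (P : Set G)
  · -- both sides are sums over `C_G(P)` modulo `M`
    have e1 : brRes P H (conv c d) h = ∑ t : G, c t * d (t⁻¹ * (h : G)) := by
      rw [brRes, cut_of_mem _ hh]
      rfl
    have e2 : conv (brRes P H c) (brRes P H d) h =
        ∑ t ∈ Finset.univ.filter (fun t : G => t ∈ Subgroup.centralizer (P : Set G)),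
          c t * d (t⁻¹ * (h : G)) := by
      simp only [conv]
      have hterm : ∀ t : H, brRes P H c t * brRes P H d (t⁻¹ * h) =
          (fun s : G => if s ∈ Subgroup.centralizer (P : Set G) then c s * d (s⁻¹ * (h : G))
            else 0) (t : G) := by
        intro t
        beta_reduce
        by_cases ht : (t : G) ∈ Subgroup.centralizer (P : Set G)
        · have ht' : ((t⁻¹ * h : H) : G) ∈ Subgroup.centralizer (P : Set G) := by
            rw [Subgroup.coe_mul, Subgroup.coe_inv]
            exact Subgroup.mul_mem _ (Subgroup.inv_mem _ ht) hh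
          rw [if_pos ht, brRes, cut_of_mem _ ht, brRes, cut_of_mem _ ht']
          simp only [Subgroup.coe_mul, Subgroup.coe_inv]
        · rw [if_neg ht, brRes, cut_of_not_mem _ ht, zero_mul]
      rw [Finset.sum_congr rfl (fun t _ => hterm t)]
      -- sum over `H` of a function of `G` supported in `C_G(P) ≤ H`
      rw [sum_subgroup_eq_sum H (fun s : G => if s ∈ Subgroup.centralizer (P : Set G)
          then c s * d (s⁻¹ * (h : G)) else 0)
          (fun t ht => if_neg (fun h' => ht (hCH h'))), Finset.sum_filter]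
    rw [e1, e2]
    let _ := conjActAll P
    have hsmul : ∀ (x : P) (t : G), x • t = (x : G) * t * (x : G)⁻¹ := fun _ _ => rfl
    have hinv : ∀ (x : P) (t : G), c (x • t) * d ((x • t)⁻¹ * (h : G)) =
        c t * d (t⁻¹ * (h : G)) := by
      intro x t
      rw [hsmul, hc t (x : G)]
      congr 1
      have hxw : (x : G) * (h : G) = (h : G) * (x : G) := by
        rw [Subgroup.mem_centralizer_iff] at hh
        exact hh x x.2
      have : ((x : G) * t * (x : G)⁻¹)⁻¹ * (h : G) = (x : G) * (t⁻¹ * (h : G)) * (x : G)⁻¹ := by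
        have hxw' : (h : G) * (x : G)⁻¹ = (x : G)⁻¹ * (h : G) := by
          rw [eq_inv_mul_iff_mul_eq, ← mul_assoc, hxw, mul_assoc, mul_inv_cancel, mul_one]
        calc ((x : G) * t * (x : G)⁻¹)⁻¹ * (h : G) = (x : G) * t⁻¹ * ((x : G)⁻¹ * (h : G)) := by
              group
          _ = (x : G) * t⁻¹ * ((h : G) * (x : G)⁻¹) := by rw [hxw']
          _ = (x : G) * (t⁻¹ * (h : G)) * (x : G)⁻¹ := by group
      rw [this]
      exact hd _ _
    have hfix := sum_sub_sum_fixedPoints_memLocalIdeal hM (P := P) hP
      (fun t : G => c t * d (t⁻¹ * (h : G))) hinv (fun t => lr_mul hMp (hcM t) (hdM _))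
    have hfilter : Finset.univ.filter (fun t : G => t ∈ MulAction.fixedPoints P G) =
        Finset.univ.filter (fun t : G => t ∈ Subgroup.centralizer (P : Set G)) := by
      ext t
      simp only [Finset.mem_filter, Finset.mem_univ, true_and]
      exact mem_fixedPoints_conjActAll_iff P t
    rw [hfilter] at hfix
    exact hfix
  · have e1 : brRes P H (conv c d) h = 0 := by rw [brRes, cut_of_not_mem _ hh]
    have e2 : conv (brRes P H c) (brRes P H d) h = 0 := by
      simp only [conv]
      apply Finset.sum_eq_zero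
      intro t _
      by_cases ht : (t : G) ∈ Subgroup.centralizer (P : Set G)
      · have ht' : ((t⁻¹ * h : H) : G) ∉ Subgroup.centralizer (P : Set G) := by
          intro hcon
          apply hh
          have := Subgroup.mul_mem _ ht hcon
          rw [Subgroup.coe_mul, Subgroup.coe_inv, mul_inv_cancel_left] at this
          exact this
        rw [brRes, brRes, cut_of_not_mem _ ht', mul_zero]
      · rw [brRes, cut_of_not_mem _ ht, zero_mul]
    rw [e1, e2, sub_zero]
    exact memLocalIdeal_zero hMp

/-- **Brauer's functional** `c ↦ ω_ξ(Br_P(c))` agrees modulo `M` with a central character of `G`. -/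
theorem exists_irr_brauer [Fintype (IrrCharacter G)] {p : ℕ} [Fact p.Prime]
    (hM : IsPModular p M) (P H : Subgroup G) [Fintype H] (hP : IsPGroup p P)
    (hCH : Subgroup.centralizer (P : Set G) ≤ H) (hHN : H ≤ Subgroup.normalizer (P : Set G))
    (ξ : IrrCharacter H) :
    ∃ χ : IrrCharacter G, ∀ c, IsClassFunction G c → (∀ t, MemLocalRing M (c t)) →
      MemLocalIdeal M (act (brRes P H c) ξ - act c χ) := by
  have hMp := isPrime_of_isPModular hM
  apply exists_irr_of_multiplicative hMp (fun c => act (brRes P H c) ξ)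
  · intro c d
    rw [brRes_sub, act_sub]
  · intro r c
    rw [brRes_smul, act_smul]
  · rw [brRes_deltaOne, act_deltaOne, sub_self]
    exact memLocalIdeal_zero hMp
  · intro c hc hcM
    exact act_lr hMp (isClassFunction_brRes hHN hc) (lr_brRes hMp hcM) ξ
  · intro c d hc hcM hd hdM
    rw [← act_conv (isClassFunction_brRes hHN hc), ← act_sub]
    apply act_li hMp
    · exact isClassFunction_sub (isClassFunction_brRes hHN (isClassFunction_conv hc hd))
        (isClassFunction_conv (isClassFunction_brRes hHN hc) (isClassFunction_brRes hHN hd))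
    · intro t
      exact brRes_conv hM P H hP hCH hc hd hcM hdM t

theorem brauerCentralChar_eq_act (P H : Subgroup G) [Fintype H] (ξ : IrrCharacter H) (g : G) :
    brauerCentralChar P H (ξ : H → ℂ) g = act (brRes P H (classIndicator g)) ξ := by
  classical
  rw [brauerCentralChar, act, finsum_mem_eq_sum_ite, Finset.sum_div]
  refine Finset.sum_congr rfl fun h _ => ?_
  by_cases hh : (h : G) ∈ Subgroup.centralizer (P : Set G)
  · rw [brRes, cut_of_mem _ hh]
    by_cases hc : IsConj g (h : G)
    · rw [if_pos (by exact ⟨hc, hh⟩), classIndicator_of_isConj hc, one_mul]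
    · rw [if_neg (by exact fun h' => hc h'.1), classIndicator_of_not_isConj hc, zero_mul,
        zero_div]
  · rw [brRes, cut_of_not_mem _ hh, if_neg (by exact fun h' => hh h'.2), zero_mul, zero_div]

/-- The induced and Brauer central characters agree modulo `M`. -/
theorem inducedCentralChar_sub_brauerCentralChar {p : ℕ} [Fact p.Prime] (hM : IsPModular p M)
    (P H : Subgroup G) [Fintype H] (hP : IsPGroup p P) (hPH : P ≤ H)
    (hHN : H ≤ Subgroup.normalizer (P : Set G)) (ξ : IrrCharacter H) (g : G) :
    MemLocalIdeal M (inducedCentralChar H (ξ : H → ℂ) g -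
      brauerCentralChar P H (ξ : H → ℂ) g) := by
  have hMp := isPrime_of_isPModular hM
  rw [Cfsg.Agent.S0933.inducedCentralChar_eq_act, brauerCentralChar_eq_act]
  exact act_sub_act_cut hM P H hP hPH hHN
    (Cfsg.Agent.S0933.isClassFunction_fusionIndicator H g)
    (fun t => memLocalRing_classIndicator hMp g _) ξ

/-- If Brauer's functional for `ξ` is the central character of `χ` modulo `M`, then the block
of `ξ` induces the block of `χ`. -/
theorem isInducedBlock_of_brauer {p : ℕ} [Fact p.Prime]
    (hM : IsPModular p M) (P H : Subgroup G) [Fintype H] (hP : IsPGroup p P) (hPH : P ≤ H)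
    (hHN : H ≤ Subgroup.normalizer (P : Set G)) (ξ : IrrCharacter H) (χ : IrrCharacter G)
    (hχ : ∀ c, IsClassFunction G c → (∀ t, MemLocalRing M (c t)) →
      MemLocalIdeal M (act (brRes P H c) ξ - act c χ)) :
    IsInducedBlock M H (blockOf M (ξ : H → ℂ)) (blockOf M (χ : G → ℂ)) := by
  have hMp := isPrime_of_isPModular hM
  refine ⟨isPBlock_blockOf ξ, isPBlock_blockOf χ, ?_⟩
  intro ξ' hξ' χ' hχ' g
  have h1 : MemLocalIdeal M (inducedCentralChar H (ξ' : H → ℂ) g -
      inducedCentralChar H (ξ : H → ℂ) g) := by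
    rw [Cfsg.Agent.S0933.inducedCentralChar_eq_act, Cfsg.Agent.S0933.inducedCentralChar_eq_act]
    apply act_sub_act_memLocalIdeal hMp (Cfsg.Agent.S0933.isClassFunction_fusionIndicator H g) _
      (sameBlock_symm hξ')
    intro t
    exact memLocalRing_classIndicator hMp g _
  have h2 := inducedCentralChar_sub_brauerCentralChar hM P H hP hPH hHN ξ g
  have h3 : MemLocalIdeal M (brauerCentralChar P H (ξ : H → ℂ) g - centralChar (χ : G → ℂ) g) := by
    rw [brauerCentralChar_eq_act, ← act_classIndicator]
    exact hχ _ (isClassFunction_classIndicator g) (memLocalRing_classIndicator hMp g)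
  have h4 : MemLocalIdeal M (centralChar (χ : G → ℂ) g - centralChar (χ' : G → ℂ) g) := hχ' g
  have := li_add hMp (li_add hMp (li_add hMp h1 h2) h3) h4
  convert this using 1
  ring

end Fin

end Cfsg.Agent.Helper5.CC
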