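import Mathlib
import Cfsg.Prelude.Def_Blocks
import Cfsg.Agent.Helper5.BrauerMap

set_option autoImplicit false

/-!
# Idempotents modulo `M` decompose along blocks; blocks induced from local subgroups
-/

namespace Cfsg.Agent.Helper5.CC

open Cfsg Cfsg.Agent.Helper24 Cfsg.Agent.Helper5 Cfsg.Agent.Helper5.Loc

variable {G : Type*} [Group G] [Fintype G] {M : Ideal AlgInt}

theorem act_sum {ι : Type*} (s : Finset ι) (c : ι → G → ℂ) (χ : IrrCharacter G) :
    act (∑ i ∈ s, c i) χ = ∑ i ∈ s, act (c i) χ := by
  simp only [act, Finset.sum_apply, Finset.sum_mul]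
  rw [Finset.sum_comm, Finset.sum_div]

/-- The block idempotent is idempotent. -/
theorem conv_blockCoeff_self [Fintype (IrrCharacter G)] (B : Set (IrrCharacter G)) :
    conv (blockCoeff B) (blockCoeff B) = blockCoeff B := by
  classical
  apply eq_of_act_eq (isClassFunction_conv (isClassFunction_blockCoeff B)
    (isClassFunction_blockCoeff B)) (isClassFunction_blockCoeff B)
  intro χ
  rw [act_conv (isClassFunction_blockCoeff B), act_blockCoeff]
  split_ifs <;> simp

/-- An idempotent modulo `M` with a unit coefficient at `y` has a block on which it acts as a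
unit and whose idempotent has a unit coefficient at `y`. -/
theorem exists_block_of_idem [Fintype (IrrCharacter G)] (hM : M.IsPrime) {f : G → ℂ}
    (hf : IsClassFunction G f) (hfM : ∀ t, MemLocalRing M (f t))
    (hidem : ∀ t, MemLocalIdeal M (conv f f t - f t)) (y : G) (hy : ¬ MemLocalIdeal M (f y)) :
    ∃ ξ : IrrCharacter G, ¬ MemLocalIdeal M (act f ξ) ∧
      ¬ MemLocalIdeal M (blockCoeff (blockOf M (ξ : G → ℂ)) y) := by
  classical
  by_contra hcon
  push Not at hcon
  apply hy
  let v : IrrCharacter G → ℂ := fun ψ => act f ψ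
  have hv : IsRep M v := ⟨f, hf, hfM, fun _ => rfl⟩
  have hvidem : IsRepI M (fun ψ => v ψ * v ψ - v ψ) := by
    refine ⟨conv f f - f, isClassFunction_sub (isClassFunction_conv hf hf) hf, hidem, fun ψ => ?_⟩
    beta_reduce
    rw [act_sub, act_conv hf]
  have hvli : ∀ ψ, MemLocalIdeal M (v ψ * (v ψ - 1)) := by
    intro ψ
    have := hvidem.li hM ψ
    beta_reduce at this
    convert this using 1
    ring
  let Bl : Finset (Set (IrrCharacter G)) :=
    Finset.univ.image (fun ξ : IrrCharacter G => blockOf M (ξ : G → ℂ))
  -- the decomposition of `f` along blocks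
  have hdecomp : f = ∑ b ∈ Bl, conv f (blockCoeff b) := by
    apply eq_of_act_eq hf
    · apply isClassFunction_sum
      intro b _
      exact isClassFunction_conv hf (isClassFunction_blockCoeff b)
    · intro ψ
      rw [act_sum]
      simp_rw [act_conv hf, act_blockCoeff]
      rw [← Finset.mul_sum, Finset.sum_eq_single (blockOf M (ψ : G → ℂ))]
      · rw [if_pos (mem_blockOf_self hM ψ), mul_one]
      · intro b hb hne
        rw [if_neg]
        intro hψ
        apply hne
        obtain ⟨ξ, -, rfl⟩ := Finset.mem_image.mp hb
        exact blockOf_eq_of_sameBlock hM hψ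
      · intro h
        exact absurd (Finset.mem_image_of_mem _ (Finset.mem_univ ψ)) h
  rw [hdecomp, Finset.sum_apply]
  apply li_sum hM
  intro b hb
  obtain ⟨ξ, -, rfl⟩ := Finset.mem_image.mp hb
  set b := blockOf M (ξ : G → ℂ) with hbdef
  have hbB : IsPBlock M b := isPBlock_blockOf ξ
  let u : IrrCharacter G → ℂ := fun ψ => if ψ ∈ b then (1 : ℂ) else 0
  have hu : IsRep M u := isRep_indicator_block hM b hbB
  have huu : ∀ ψ, u ψ * u ψ = u ψ := by
    intro ψ
    simp only [u]
    split_ifs <;> simp
  -- `act f` is constant modulo `M` on `b`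
  have hconst : ∀ ψ ∈ b, MemLocalIdeal M (v ξ - v ψ) := fun ψ hψ =>
    act_sub_act_memLocalIdeal hM hf hfM hψ
  by_cases hξ : MemLocalIdeal M (act f ξ)
  · -- `f e_b` lies in the radical and is idempotent, hence is zero modulo `M`
    have hw : IsRepI M (fun ψ => v ψ * u ψ) := by
      apply isRepI_of_idem hM (isRep_mul hM hv hu)
      · have := isRepI_mul_left hM hu hvidem
        refine isRepI_congr (fun ψ => ?_) this
        linear_combination (v ψ * v ψ) * (huu ψ).symm
      · intro ψ
        by_cases hψ : ψ ∈ b
        · apply li_mul_right hM _ (hu.memLocalRing hM ψ)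
          have := li_sub hM hξ (hconst ψ hψ)
          rwa [sub_sub_cancel] at this
        · simp only [u, if_neg hψ, mul_zero]
          exact memLocalIdeal_zero hM
    apply IsRepI.values (isClassFunction_conv hf (isClassFunction_blockCoeff b))
    refine isRepI_congr (fun ψ => ?_) hw
    rw [act_conv hf, act_blockCoeff]
  · -- `(1 - f) e_b` lies in the radical and is idempotent, hence is zero modulo `M`
    have hby := hcon ξ hξ
    have hw : IsRepI M (fun ψ => (1 - v ψ) * u ψ) := by
      apply isRepI_of_idem hM (isRep_mul hM (isRep_sub hM (isRep_one hM) hv) hu)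
      · have := isRepI_mul_left hM hu hvidem
        refine isRepI_congr (fun ψ => ?_) this
        linear_combination ((1 - v ψ) * (1 - v ψ)) * (huu ψ).symm
      · intro ψ
        by_cases hψ : ψ ∈ b
        · apply li_mul_right hM _ (hu.memLocalRing hM ψ)
          have hvψ : ¬ MemLocalIdeal M (v ψ) := by
            intro h
            apply hξ
            have := li_add hM (hconst ψ hψ) h
            rwa [sub_add_cancel] at this
          rcases li_of_mul hM (hv.memLocalRing hM ψ)
            (lr_sub hM (hv.memLocalRing hM ψ) (memLocalRing_one hM)) (hvli ψ) with h | h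
          · exact absurd h hvψ
          · have := li_neg h
            rwa [neg_sub] at this
        · simp only [u, if_neg hψ, mul_zero]
          exact memLocalIdeal_zero hM
    have hval : MemLocalIdeal M ((blockCoeff b - conv f (blockCoeff b)) y) := by
      apply IsRepI.values (isClassFunction_sub (isClassFunction_blockCoeff b)
        (isClassFunction_conv hf (isClassFunction_blockCoeff b)))
      refine isRepI_congr (fun ψ => ?_) hw
      rw [act_sub, act_conv hf, act_blockCoeff]
      ring
    rw [Pi.sub_apply] at hval
    have := li_sub hM hby hval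
    rwa [sub_sub_cancel] at this

/-- If the block idempotent of `B` has a unit coefficient at an element `g` of `C_G(P)`, then
some block of `H` induces `B`, and its idempotent has a unit coefficient at `g`. -/
theorem exists_block_induced_of_coeff [Fintype (IrrCharacter G)] {p : ℕ} [Fact p.Prime]
    (hM : IsPModular p M) (P H : Subgroup G) [Fintype H] [Fintype (IrrCharacter H)]
    (hP : IsPGroup p P) (hPH : P ≤ H) (hCH : Subgroup.centralizer (P : Set G) ≤ H)
    (hHN : H ≤ Subgroup.normalizer (P : Set G)) (B : Set (IrrCharacter G)) (hB : IsPBlock M B)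
    (g : H) (hgC : (g : G) ∈ Subgroup.centralizer (P : Set G))
    (hg : ¬ MemLocalIdeal M (blockCoeff B (g : G))) :
    ∃ ξ : IrrCharacter H, IsInducedBlock M H (blockOf M (ξ : H → ℂ)) B ∧
      ¬ MemLocalIdeal M (blockCoeff (blockOf M (ξ : H → ℂ)) g) := by
  classical
  have hMp := isPrime_of_isPModular hM
  have he := isClassFunction_blockCoeff B
  have heM : ∀ t, MemLocalRing M (blockCoeff B t) := osima hMp B hB
  set f : H → ℂ := brRes P H (blockCoeff B) with hfdef
  have hf : IsClassFunction H f := isClassFunction_brRes hHN he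
  have hfM : ∀ t, MemLocalRing M (f t) := lr_brRes hMp heM
  have hidem : ∀ t, MemLocalIdeal M (conv f f t - f t) := by
    intro t
    have := brRes_conv hM P H hP hCH he he heM heM t
    rw [conv_blockCoeff_self] at this
    have h2 := li_neg this
    rwa [neg_sub] at h2
  have hfg : ¬ MemLocalIdeal M (f g) := by
    rw [hfdef, brRes, cut_of_mem _ hgC]
    exact hg
  obtain ⟨ξ, hξ1, hξ2⟩ := exists_block_of_idem hMp hf hfM hidem g hfg
  refine ⟨ξ, ?_, hξ2⟩
  obtain ⟨χ, hχ⟩ := exists_irr_brauer hM P H hP hCH hHN ξ
  have hχB : χ ∈ B := by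
    by_contra hcon
    apply hξ1
    have := hχ _ he heM
    rw [act_blockCoeff, if_neg hcon, sub_zero] at this
    exact this
  have := isInducedBlock_of_brauer hM P H hP hPH hHN ξ χ hχ
  rwa [← IsPBlock_eq_blockOf hMp hB hχB] at this

end Cfsg.Agent.Helper5.CC
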