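import Mathlib
import Cfsg.Prelude.Def_Blocks
import Cfsg.Agent.Helper5.CenterFunctional

set_option autoImplicit false

/-!
# Central idempotents of the local group ring are supported on `p`-regular elements
-/

namespace Cfsg.Agent.Helper5.CC

open Cfsg Cfsg.Agent.Helper24 Cfsg.Agent.Helper5 Cfsg.Agent.Helper5.Loc

/-! ### Lists -/

section Lists

variable {G : Type*} [Group G]

/-- A list commuting (under append) with a block `u` is a power of `u`. -/
theorem prod_eq_pow_of_append_comm (u : List G) :
    ∀ (b : ℕ) (l : List G), l.length = u.length * b → l ++ u = u ++ l →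
      l.prod = u.prod ^ b := by
  intro b
  induction b with
  | zero =>
    intro l hl _
    have : l = [] := List.length_eq_zero_iff.mp (by simpa using hl)
    rw [this, List.prod_nil, pow_zero]
  | succ b ih =>
    intro l hl hcomm
    have hlen : u.length ≤ l.length := by rw [hl]; exact Nat.le_mul_of_pos_right _ (Nat.succ_pos b)
    have htake : l.take u.length = u := by
      have h1 := congrArg (List.take u.length) hcomm
      rw [List.take_append_of_le_length hlen, List.take_left'] at h1
      · exact h1
      · rfl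
    have hsplit : l = u ++ l.drop u.length := by
      conv_lhs => rw [← List.take_append_drop u.length l, htake]
    have hl' : (l.drop u.length).length = u.length * b := by
      rw [List.length_drop, hl, Nat.mul_succ]
      omega
    have hcomm' : l.drop u.length ++ u = u ++ l.drop u.length := by
      have h2 : (u ++ l.drop u.length) ++ u = u ++ (u ++ l.drop u.length) := by
        rw [← hsplit]; exact hcomm
      rw [List.append_assoc] at h2
      exact List.append_cancel_left h2
    rw [hsplit, List.prod_append, ih _ hl' hcomm', pow_succ']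

/-- A list fixed by rotation by `d`, of length `d * b`, has product a `b`-th power. -/
theorem prod_eq_pow_of_rotate_eq (d b : ℕ) (hb : 0 < b) (l : List G) (hl : l.length = d * b)
    (hrot : l.rotate d = l) : ∃ g : G, l.prod = g ^ b := by
  have hdl : d ≤ l.length := by rw [hl]; exact Nat.le_mul_of_pos_right _ hb
  rw [List.rotate_eq_drop_append_take hdl] at hrot
  refine ⟨(l.take d).prod, ?_⟩
  have hlen : (l.take d).length = d := by rw [List.length_take]; omega
  have hcomm : l.drop d ++ l.take d = l.take d ++ l.drop d := by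
    rw [hrot, List.take_append_drop]
  obtain ⟨b', rfl⟩ := Nat.exists_eq_succ_of_ne_zero hb.ne'
  have hl' : (l.drop d).length = (l.take d).length * b' := by
    rw [List.length_drop, hl, hlen, Nat.mul_succ]
    omega
  have := prod_eq_pow_of_append_comm (l.take d) b' (l.drop d) hl' hcomm
  conv_lhs => rw [← List.take_append_drop d l]
  rw [List.prod_append, this, pow_succ']

/-- Rotating a list conjugates its product. -/
theorem isConj_prod_rotate (l : List G) (n : ℕ) : IsConj l.prod (l.rotate n).prod := by
  rw [← List.rotate_mod]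
  by_cases hl : l = []
  · subst hl; simp
  have hlt : n % l.length ≤ l.length := (Nat.mod_lt _ (List.length_pos_of_ne_nil hl)).le
  rw [List.rotate_eq_drop_append_take hlt, List.prod_append]
  conv_lhs => rw [← List.take_append_drop (n % l.length) l, List.prod_append]
  rw [isConj_iff]
  refine ⟨((l.take (n % l.length)).prod)⁻¹, ?_⟩
  group

end Lists

/-! ### Sums over tuples -/

section Tuples

variable {G : Type*} [Group G] [Fintype G]

/-- Iterated convolution powers. -/
noncomputable def convPow (a : G → ℂ) : ℕ → G → ℂ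
  | 0 => deltaOne
  | (m + 1) => conv a (convPow a m)

theorem convPow_succ_of_idem {a : G → ℂ} (hidem : conv a a = a) (m : ℕ) :
    convPow a (m + 1) = a := by
  induction m with
  | zero => show conv a deltaOne = a; exact conv_deltaOne_right a
  | succ m ih => show conv a (convPow a (m + 1)) = a; rw [ih, hidem]

/-- Splitting off the head of a vector. -/
def vecConsEquiv (m : ℕ) : List.Vector G (m + 1) ≃ G × List.Vector G m where
  toFun v := (v.head, v.tail)
  invFun q := q.1 ::ᵥ q.2
  left_inv v := List.Vector.cons_head_tail v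
  right_inv q := by simp

/-- The weighted sum over `m`-tuples, regrouped according to the product. -/
theorem sum_vector_eq (a : G → ℂ) : ∀ (m : ℕ) (φ : G → ℂ),
    ∑ v : List.Vector G m, (v.toList.map a).prod * φ v.toList.prod =
      ∑ u : G, convPow a m u * φ u := by
  classical
  intro m
  induction m with
  | zero =>
    intro φ
    have huniq : ∀ v : List.Vector G 0, v = List.Vector.nil := fun v => List.Vector.eq_nil v
    rw [Fintype.sum_eq_single (List.Vector.nil : List.Vector G 0) (fun v hv => absurd (huniq v) hv)]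
    simp only [List.Vector.toList_nil, List.map_nil, List.prod_nil, one_mul]
    show φ 1 = ∑ u : G, deltaOne u * φ u
    rw [Finset.sum_eq_single (1 : G)]
    · rw [deltaOne_apply_one, one_mul]
    · intro u _ hu
      rw [deltaOne_apply_ne hu, zero_mul]
    · intro h; exact absurd (Finset.mem_univ _) h
  | succ m ih =>
    intro φ
    rw [← Equiv.sum_comp (vecConsEquiv m).symm, Fintype.sum_prod_type]
    have h1 : ∀ (t : G) (v' : List.Vector G m),
        (((vecConsEquiv m).symm (t, v')).toList.map a).prod *
          φ ((vecConsEquiv m).symm (t, v')).toList.prod =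
        a t * ((v'.toList.map a).prod * φ (t * v'.toList.prod)) := by
      intro t v'
      show (((t ::ᵥ v').toList.map a).prod) * φ ((t ::ᵥ v').toList.prod) = _
      rw [List.Vector.toList_cons, List.map_cons, List.prod_cons, List.prod_cons, mul_assoc]
    simp_rw [h1, ← Finset.mul_sum]
    have h2 : ∀ t : G, ∑ v' : List.Vector G m, (v'.toList.map a).prod * φ (t * v'.toList.prod) =
        ∑ u : G, convPow a m u * φ (t * u) := fun t => ih (fun u => φ (t * u))
    simp_rw [h2]
    show _ = ∑ u : G, conv a (convPow a m) u * φ u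
    have h3 : ∀ t : G, a t * ∑ u : G, convPow a m u * φ (t * u) =
        ∑ s : G, a t * convPow a m (t⁻¹ * s) * φ s := by
      intro t
      rw [Finset.mul_sum, ← Equiv.sum_comp (Equiv.mulLeft t⁻¹)]
      refine Finset.sum_congr rfl fun s _ => ?_
      simp only [Equiv.coe_mulLeft, mul_inv_cancel_left]
      ring
    simp_rw [h3]
    rw [Finset.sum_comm]
    refine Finset.sum_congr rfl fun s _ => ?_
    simp only [conv, Finset.sum_mul]

end Tuples

/-! ### Orbit sums -/

section Orbits

variable {M : Ideal AlgInt}

/-- If all orbits meeting the support of an invariant local-integer weight have size divisible by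
`q`, the total weight is `q` times a local integer. -/
theorem sum_eq_mul_of_orbit_card_dvd (hM : M.IsPrime) {P X : Type*} [Group P] [Fintype X]
    [MulAction P X] (W : X → ℂ) (hW : ∀ (g : P) (x : X), W (g • x) = W x)
    (hWM : ∀ x, MemLocalRing M (W x)) (q : ℕ)
    (hq : ∀ x, W x ≠ 0 → q ∣ Nat.card (MulAction.orbit P x)) :
    ∃ r, MemLocalRing M r ∧ ∑ x, W x = (q : ℂ) * r := by
  classical
  have : Fintype (MulAction.orbitRel.Quotient P X) := Fintype.ofFinite _
  rw [← Finset.sum_fiberwise Finset.univ
    (fun x : X => (Quotient.mk'' x : MulAction.orbitRel.Quotient P X)) W]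
  have key : ∀ ω : MulAction.orbitRel.Quotient P X, ∃ r, MemLocalRing M r ∧
      ∑ x ∈ Finset.univ.filter (fun x : X =>
        (Quotient.mk'' x : MulAction.orbitRel.Quotient P X) = ω), W x = (q : ℂ) * r := by
    intro ω
    set x₀ := ω.out with hx₀
    have hout : (Quotient.mk'' x₀ : MulAction.orbitRel.Quotient P X) = ω := Quotient.out_eq' ω
    have hmem : ∀ x : X, (Quotient.mk'' x : MulAction.orbitRel.Quotient P X) = ω ↔
        x ∈ MulAction.orbit P x₀ := by
      intro x
      rw [← hout, Quotient.eq'', MulAction.orbitRel_apply]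
    have hconst : ∀ x ∈ Finset.univ.filter (fun x : X =>
        (Quotient.mk'' x : MulAction.orbitRel.Quotient P X) = ω), W x = W x₀ := by
      intro x hx
      obtain ⟨g, rfl⟩ := (hmem x).mp (Finset.mem_filter.mp hx).2
      exact hW g x₀
    rw [Finset.sum_congr rfl hconst, Finset.sum_const, nsmul_eq_mul]
    have hcard : (Finset.univ.filter (fun x : X =>
        (Quotient.mk'' x : MulAction.orbitRel.Quotient P X) = ω)).card =
        Nat.card (MulAction.orbit P x₀) := by
      rw [Nat.card_eq_fintype_card, ← Fintype.card_subtype]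
      apply Fintype.card_congr
      exact Equiv.subtypeEquivRight hmem
    rw [hcard]
    by_cases h0 : W x₀ = 0
    · exact ⟨0, memLocalRing_zero hM, by rw [h0, mul_zero, mul_zero]⟩
    · obtain ⟨c, hc⟩ := hq x₀ h0
      refine ⟨(c : ℂ) * W x₀, lr_mul hM (memLocalRing_natCast hM c) (hWM x₀), ?_⟩
      rw [hc]
      push_cast
      ring
  choose r hr1 hr2 using key
  refine ⟨∑ ω, r ω, lr_sum hM _ _ (fun ω _ => hr1 ω), ?_⟩
  rw [Finset.mul_sum]
  exact Finset.sum_congr rfl fun ω _ => hr2 ω

/-- **Krull intersection.** A complex number divisible in the local ring by all powers of `p`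
is zero. -/
theorem eq_zero_of_forall_pow_dvd {p : ℕ} (hM : IsPModular p M) (z : ℂ)
    (h : ∀ k : ℕ, ∃ r, MemLocalRing M r ∧ z = (p : ℂ) ^ k * r) : z = 0 := by
  have hMp := isPrime_of_isPModular hM
  have hp : p.Prime := hM.1
  by_contra hz
  obtain ⟨r₀, ⟨a, b, hb, hab⟩, hr₀⟩ := h 0
  rw [pow_zero, one_mul] at hr₀
  have hb0 : (b : ℂ) ≠ 0 := coe_ne_zero_of_not_mem hb
  have ha0 : (a : ℂ) ≠ 0 := by
    intro ha
    apply hz
    rw [hr₀, ← hab, ha, zero_div]
  -- an integer multiple of `a`
  obtain ⟨c, n, hn0, hcn⟩ : ∃ (c : AlgInt) (n : ℤ), n ≠ 0 ∧ (a : ℂ) * (c : ℂ) = (n : ℂ) := by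
    have hint : IsIntegral ℤ (a : ℂ) := a.2
    set f := minpoly ℤ (a : ℂ) with hf
    have hmonic : f.Monic := minpoly.monic hint
    have hf0 : f.coeff 0 ≠ 0 := by
      intro h0
      have hX : Polynomial.X ∣ f := Polynomial.X_dvd_iff.mpr h0
      obtain ⟨g, hg⟩ := hX
      have hgmonic : g.Monic := by
        have : (Polynomial.X * g).Monic := by rw [← hg]; exact hmonic
        exact Polynomial.Monic.of_mul_monic_left Polynomial.monic_X this
      have hga : Polynomial.aeval (a : ℂ) g = 0 := by
        have h1 : Polynomial.aeval (a : ℂ) f = 0 := minpoly.aeval ℤ (a : ℂ)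
        rw [hg, map_mul, Polynomial.aeval_X] at h1
        exact (mul_eq_zero.mp h1).resolve_left ha0
      have hdeg := minpoly.min ℤ (a : ℂ) hgmonic hga
      rw [← hf, hg, Polynomial.degree_mul, Polynomial.degree_X] at hdeg
      have hg0 : g ≠ 0 := hgmonic.ne_zero
      rw [Polynomial.degree_eq_natDegree hg0] at hdeg
      have : ((1 : ℕ) : WithBot ℕ) + (g.natDegree : WithBot ℕ) ≤ (g.natDegree : WithBot ℕ) := by
        simpa using hdeg
      rw [← Nat.cast_add, Nat.cast_le] at this
      omega
    have h1 : Polynomial.aeval (a : ℂ) f = 0 := minpoly.aeval ℤ (a : ℂ)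
    rw [← Polynomial.divX_mul_X_add f, map_add, map_mul, Polynomial.aeval_X,
      Polynomial.aeval_C] at h1
    refine ⟨-(Polynomial.aeval a f.divX), f.coeff 0, hf0, ?_⟩
    have h2 : ((Polynomial.aeval a f.divX : AlgInt) : ℂ) = Polynomial.aeval (a : ℂ) f.divX :=
      Polynomial.aeval_subalgebra_coe f.divX AlgInt a
    have h3 : ((-(Polynomial.aeval a f.divX) : AlgInt) : ℂ) =
        -(Polynomial.aeval (a : ℂ) f.divX) := by
      rw [← h2]; rfl
    rw [h3]
    have h4 : (algebraMap ℤ ℂ) (f.coeff 0) = ((f.coeff 0 : ℤ) : ℂ) := rfl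
    rw [h4] at h1
    linear_combination -h1
  -- the `p`-part of `n`
  obtain ⟨j, n', hn', hnj⟩ : ∃ (j n' : ℕ), ¬ p ∣ n' ∧ n.natAbs = p ^ j * n' := by
    obtain ⟨j, n', hn', hnj⟩ := Nat.exists_eq_pow_mul_and_not_dvd
      (Int.natAbs_ne_zero.mpr hn0) p hp.ne_one
    exact ⟨j, n', hn', hnj⟩
  obtain ⟨r, ⟨a', b', hb', hab'⟩, hr⟩ := h (j + 1)
  have hb'0 : (b' : ℂ) ≠ 0 := coe_ne_zero_of_not_mem hb'
  -- `a b' = p^(j+1) a' b`
  have e1 : (a : ℂ) * (b' : ℂ) = (p : ℂ) ^ (j + 1) * (a' : ℂ) * (b : ℂ) := by
    have : (a : ℂ) / (b : ℂ) = (p : ℂ) ^ (j + 1) * ((a' : ℂ) / (b' : ℂ)) := by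
      rw [hab, hab', ← hr, ← hr₀]
    field_simp at this
    linear_combination this
  -- multiply by `c`
  have e2 : (n : ℂ) * (b' : ℂ) = (p : ℂ) ^ (j + 1) * (a' : ℂ) * (b : ℂ) * (c : ℂ) := by
    rw [← hcn]
    linear_combination (c : ℂ) * e1
  -- `|n| = p^j n'`
  have e3 : ((n.natAbs : ℕ) : ℂ) * (b' : ℂ) = (p : ℂ) ^ (j + 1) * ((a' : ℂ) * (b : ℂ) * (c : ℂ) *
      (if 0 ≤ n then 1 else -1)) := by
    by_cases hpos : 0 ≤ n
    · rw [if_pos hpos]
      have : ((n.natAbs : ℕ) : ℂ) = (n : ℂ) := by
        rw [← Int.cast_natCast, Int.natAbs_of_nonneg hpos]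
      rw [this, e2]; ring
    · rw [if_neg hpos]
      have : ((n.natAbs : ℕ) : ℂ) = -(n : ℂ) := by
        rw [← Int.cast_natCast, Int.ofNat_natAbs_of_nonpos (le_of_not_ge hpos), Int.cast_neg]
      rw [this, neg_mul, e2]; ring
  rw [hnj] at e3
  push_cast at e3
  have hp0 : (p : ℂ) ≠ 0 := Nat.cast_ne_zero.mpr hp.ne_zero
  have e4 : ((n' : ℕ) : ℂ) * (b' : ℂ) = (p : ℂ) * ((a' : ℂ) * (b : ℂ) * (c : ℂ) *
      (if 0 ≤ n then 1 else -1)) := by
    have hpj : (p : ℂ) ^ j ≠ 0 := pow_ne_zero _ hp0
    apply mul_left_cancel₀ hpj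
    rw [pow_succ] at e3
    linear_combination e3
  -- back in the algebraic integers
  have e5 : ((n' : AlgInt) * b' : AlgInt) = (p : AlgInt) * (a' * b * c *
      (if 0 ≤ n then 1 else -1)) := by
    apply coe_injective
    show (((n' : AlgInt) * b' : AlgInt) : ℂ) = (((p : AlgInt) * (a' * b * c *
      (if 0 ≤ n then 1 else -1)) : AlgInt) : ℂ)
    push_cast
    split_ifs at e4 ⊢ <;> simpa using e4
  have hmem : ((n' : AlgInt) * b' : AlgInt) ∈ M := by
    rw [e5]
    exact M.mul_mem_right _ hM.2.2
  rcases hMp.mem_or_mem hmem with h1 | h1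
  · exact natCast_not_mem hM hn' h1
  · exact hb' h1

end Orbits

/-! ### Rotation of tuples -/

section Rotation

variable {G : Type*} [Group G] [Fintype G]

/-- Rotation by one place, as a permutation of the `m`-tuples. -/
noncomputable def rotPerm (m : ℕ) : Equiv.Perm (List.Vector G m) :=
  Equiv.ofBijective (fun v => (⟨v.toList.rotate 1, by simp⟩ : List.Vector G m)) (by
    apply Finite.injective_iff_bijective.mp
    intro v w h
    have h1 : v.toList.rotate 1 = w.toList.rotate 1 := congrArg Subtype.val h
    exact Subtype.ext (List.rotate_injective 1 h1))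

omit [Group G] in
theorem rotPerm_apply_toList (m : ℕ) (v : List.Vector G m) :
    (rotPerm m v).toList = v.toList.rotate 1 := rfl

omit [Group G] in
theorem rotPerm_pow_toList (m d : ℕ) (v : List.Vector G m) :
    ((rotPerm m ^ d) v).toList = v.toList.rotate d := by
  induction d generalizing v with
  | zero => simp
  | succ d ih =>
    rw [pow_succ, Equiv.Perm.mul_apply, ih, rotPerm_apply_toList, List.rotate_rotate, add_comm]

/-- If `g ^ (p ^ E)` with `p ^ E` the full power of `p` in `|G|`, the result is `p`-regular. -/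
theorem not_dvd_orderOf_pow (p : ℕ) [hp : Fact p.Prime] (g : G) :
    ¬ p ∣ orderOf (g ^ (p ^ (Nat.card G).factorization p)) := by
  have hcard : Nat.card G ≠ 0 := Nat.card_pos.ne'
  have h1 : (g ^ (p ^ (Nat.card G).factorization p)) ^ (Nat.card G / p ^ (Nat.card G).factorization p)
      = 1 := by
    rw [← pow_mul, Nat.ordProj_mul_ordCompl_eq_self, pow_card_eq_one']
  have h2 := orderOf_dvd_of_pow_eq_one h1
  intro hdvd
  have h3 : p ∣ Nat.card G / p ^ (Nat.card G).factorization p := dvd_trans hdvd h2
  have h4 := Nat.coprime_ordCompl hp.out hcard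
  exact (Nat.Prime.coprime_iff_not_dvd hp.out).mp h4 h3

variable {M : Ideal AlgInt}

theorem lr_list_prod (hM : M.IsPrime) (l : List ℂ) (h : ∀ x ∈ l, MemLocalRing M x) :
    MemLocalRing M l.prod := by
  induction l with
  | nil => simpa using memLocalRing_one hM
  | cons x l ih =>
    rw [List.prod_cons]
    exact lr_mul hM (h x (List.mem_cons_self ..))
      (ih fun y hy => h y (List.mem_cons_of_mem _ hy))

/-- **Exact Osima support theorem.** A central idempotent of the local group ring vanishes at
every `p`-singular element. -/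
theorem eq_zero_of_idem_of_singular {p : ℕ} [hp : Fact p.Prime] (hM : IsPModular p M)
    {a : G → ℂ} (ha : IsClassFunction G a) (haM : ∀ t, MemLocalRing M (a t))
    (hidem : conv a a = a) (z : G) (hz : p ∣ orderOf z) : a z = 0 := by
  classical
  have hMp := isPrime_of_isPModular hM
  set E := (Nat.card G).factorization p with hE
  set L : Finset G := Finset.univ.filter (fun u => IsConj z u) with hL
  have hLcard : (L.card : ℂ) ≠ 0 := by
    have : 0 < L.card := Finset.card_pos.mpr
      ⟨z, Finset.mem_filter.mpr ⟨Finset.mem_univ _, IsConj.refl z⟩⟩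
    exact_mod_cast this.ne'
  suffices h : (L.card : ℂ) * a z = 0 by
    exact (mul_eq_zero.mp h).resolve_left hLcard
  apply eq_zero_of_forall_pow_dvd hM
  intro k
  set m := p ^ (E + k) with hm
  have hmpos : 0 < m := pow_pos hp.out.pos _
  -- the weight on `m`-tuples
  let W : List.Vector G m → ℂ := fun v => (v.toList.map a).prod * classIndicator z v.toList.prod
  have hsum : ∑ v : List.Vector G m, W v = (L.card : ℂ) * a z := by
    simp only [W]
    rw [sum_vector_eq a m (classIndicator z)]
    obtain ⟨m', hm'⟩ := Nat.exists_eq_succ_of_ne_zero hmpos.ne'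
    rw [hm', convPow_succ_of_idem hidem]
    have h1 : ∀ u : G, a u * classIndicator z u = if IsConj z u then a z else 0 := by
      intro u
      by_cases hu : IsConj z u
      · rw [if_pos hu, classIndicator_of_isConj hu, mul_one]
        exact (IsClassFunction.eq_of_isConj ha hu).symm
      · rw [if_neg hu, classIndicator_of_not_isConj hu, mul_zero]
    simp_rw [h1]
    rw [← Finset.sum_filter, Finset.sum_const, nsmul_eq_mul]
  rw [← hsum]
  -- the rotation group
  set ρ := rotPerm (G := G) m with hρ
  have hWρ : ∀ v, W (ρ v) = W v := by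
    intro v
    simp only [W]
    rw [hρ, rotPerm_apply_toList, List.map_rotate]
    congr 1
    · exact List.Perm.prod_eq (List.rotate_perm _ _)
    · exact IsClassFunction.eq_of_isConj (isClassFunction_classIndicator z)
        (isConj_prod_rotate v.toList 1).symm
  let H : Subgroup (Equiv.Perm (List.Vector G m)) :=
    { carrier := {g | ∀ v, W (g v) = W v}
      mul_mem' := by
        intro g h hg hh v
        rw [Equiv.Perm.mul_apply, hg, hh]
      one_mem' := fun v => rfl
      inv_mem' := by
        intro g hg v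
        have h1 := hg (g⁻¹ v)
        have h2 : g (g⁻¹ v) = v := by
          rw [← Equiv.Perm.mul_apply, mul_inv_cancel, Equiv.Perm.one_apply]
        rw [h2] at h1
        exact h1.symm }
  have hzp : Subgroup.zpowers ρ ≤ H := by
    rw [Subgroup.zpowers_le]
    exact hWρ
  have hWinv : ∀ (g : Subgroup.zpowers ρ) (v : List.Vector G m), W (g • v) = W v :=
    fun g v => hzp g.2 v
  have hWM : ∀ v, MemLocalRing M (W v) := by
    intro v
    apply lr_mul hMp _ (memLocalRing_classIndicator hMp z _)
    apply lr_list_prod hMp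
    intro x hx
    obtain ⟨t, -, rfl⟩ := List.mem_map.mp hx
    exact haM t
  have hq : ∀ v, W v ≠ 0 → p ^ (k + 1) ∣ Nat.card (MulAction.orbit (Subgroup.zpowers ρ) v) := by
    intro v hv
    have hconj : IsConj z v.toList.prod := by
      by_contra hc
      apply hv
      simp only [W]
      rw [classIndicator_of_not_isConj hc, mul_zero]
    rw [Nat.card_eq_fintype_card, ← MulAction.minimalPeriod_eq_card ρ v]
    have hper : Function.IsPeriodicPt (fun x => ρ • x) m v := by
      show (fun x => ρ • x)^[m] v = v
      have : (fun x : List.Vector G m => ρ • x) = ⇑ρ := rfl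
      rw [this, Equiv.Perm.iterate_eq_pow]
      apply Subtype.ext
      show ((ρ ^ m) v).toList = v.toList
      rw [hρ, rotPerm_pow_toList]
      have hl : v.toList.length = m := List.Vector.toList_length v
      have h3 : v.toList.rotate m = v.toList.rotate v.toList.length := by rw [hl]
      rw [h3]
      exact List.rotate_length _
    obtain ⟨j, hj, hjeq⟩ := (Nat.dvd_prime_pow hp.out).mp hper.minimalPeriod_dvd
    rw [hjeq]
    apply pow_dvd_pow
    by_contra hlt
    push Not at hlt
    have hjk : j ≤ k := by omega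
    -- `v` is fixed by rotation by `p ^ k`
    have hper2 : Function.IsPeriodicPt (fun x => ρ • x) (p ^ k) v := by
      rw [Function.isPeriodicPt_iff_minimalPeriod_dvd, hjeq]
      exact pow_dvd_pow p hjk
    have hrot : v.toList.rotate (p ^ k) = v.toList := by
      have h1 : (fun x => ρ • x)^[p ^ k] v = v := hper2
      have : (fun x : List.Vector G m => ρ • x) = ⇑ρ := rfl
      rw [this, Equiv.Perm.iterate_eq_pow] at h1
      have h2 := congrArg List.Vector.toList h1
      rw [hρ, rotPerm_pow_toList] at h2
      exact h2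
    have hlen : v.toList.length = p ^ k * p ^ E := by
      rw [List.Vector.toList_length, hm, pow_add, mul_comm]
    obtain ⟨g, hg⟩ := prod_eq_pow_of_rotate_eq (p ^ k) (p ^ E) (pow_pos hp.out.pos _)
      v.toList hlen hrot
    have hreg := not_dvd_orderOf_pow p g
    rw [← hE, ← hg] at hreg
    apply hreg
    obtain ⟨c, hc⟩ := isConj_iff.mp hconj
    rw [← hc]
    have : orderOf (c * z * c⁻¹) = orderOf z :=
      orderOf_injective (MulAut.conj c).toMonoidHom (MulAut.conj c).injective z
    rw [this]
    exact hz
  obtain ⟨r, hr, hsumr⟩ := sum_eq_mul_of_orbit_card_dvd hMp W hWinv hWM (p ^ (k + 1)) hq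
  refine ⟨(p : ℂ) * r, lr_mul hMp (memLocalRing_natCast hMp p) hr, ?_⟩
  rw [hsumr]
  push_cast
  ring

end Rotation

end Cfsg.Agent.Helper5.CC
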