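import Mathlib
import Cfsg.Prelude.Def_Characters
import Cfsg.Agent.Helper24.CharBasic

set_option autoImplicit false

namespace Cfsg.Agent.Helper5

open Representation Module

variable {G : Type*} [Group G] {V : Type*} [AddCommGroup V] [Module ℂ V]

/-- Schur's lemma: an endomorphism commuting with an irreducible complex representation
is a scalar. -/
theorem schur_scalar [FiniteDimensional ℂ V] (ρ : Representation ℂ G V) [ρ.IsIrreducible]
    (T : V →ₗ[ℂ] V) (hT : ∀ g : G, T ∘ₗ ρ g = ρ g ∘ₗ T) :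
    ∃ c : ℂ, T = c • (LinearMap.id : V →ₗ[ℂ] V) := by
  obtain ⟨c, hc⟩ :=
    (IsIrreducible.algebraMap_intertwiningMap_bijective_of_isAlgClosed (ρ := ρ)).2
      (⟨T, hT⟩ : IntertwiningMap ρ ρ)
  refine ⟨c, ?_⟩
  have := congrArg IntertwiningMap.toLinearMap hc
  rw [IntertwiningMap.algebraMap_apply] at this
  ext v
  have h2 := congrArg (fun f : V →ₗ[ℂ] V => f v) this
  simp only [IntertwiningMap.toLinearMap_smul] at h2
  exact h2.symm

theorem finrank_pos_of_isIrreducible [FiniteDimensional ℂ V] (ρ : Representation ℂ G V)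
    [ρ.IsIrreducible] : 0 < finrank ℂ V := by
  have h := (irreducible_iff_isSimpleModule_asModule (ρ := ρ)).mp inferInstance
  have : Nontrivial ρ.asModule := IsSimpleModule.nontrivial (MonoidAlgebra ℂ G) ρ.asModule
  have : Nontrivial V := this
  exact finrank_pos

/-- The sum of `ρ (a u a⁻¹)` over `a : G`. -/
noncomputable def conjSum [Fintype G] (ρ : Representation ℂ G V) (u : G) : V →ₗ[ℂ] V :=
  ∑ a : G, ρ (a * u * a⁻¹)

theorem conjSum_comm [Fintype G] (ρ : Representation ℂ G V) (u h : G) :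
    conjSum ρ u ∘ₗ ρ h = ρ h ∘ₗ conjSum ρ u := by
  unfold conjSum
  rw [← Module.End.mul_eq_comp, ← Module.End.mul_eq_comp, Finset.sum_mul, Finset.mul_sum]
  rw [← Equiv.sum_comp (Equiv.mulLeft h) (fun a => ρ (a * u * a⁻¹) * ρ h)]
  apply Finset.sum_congr rfl
  intro a _
  simp only [Equiv.coe_mulLeft]
  rw [← map_mul, ← map_mul]
  congr 1
  group

theorem trace_conjSum [Fintype G] [FiniteDimensional ℂ V] (ρ : Representation ℂ G V) (u : G) :
    LinearMap.trace ℂ V (conjSum ρ u) = (Fintype.card G : ℂ) * ρ.character u := by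
  unfold conjSum
  rw [map_sum]
  have : ∀ a : G, LinearMap.trace ℂ V (ρ (a * u * a⁻¹)) = ρ.character u := fun a => char_conj ρ u a
  rw [Finset.sum_congr rfl (fun a _ => this a), Finset.sum_const, Finset.card_univ, nsmul_eq_mul]

/-- The conjugation sum acts as the scalar `|G| χ(u) / χ(1)`. -/
theorem conjSum_eq_smul [Fintype G] [FiniteDimensional ℂ V] (ρ : Representation ℂ G V)
    [ρ.IsIrreducible] (u : G) :
    conjSum ρ u = ((Fintype.card G : ℂ) * ρ.character u / (finrank ℂ V : ℂ)) •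
      (LinearMap.id : V →ₗ[ℂ] V) := by
  obtain ⟨c, hc⟩ := schur_scalar ρ (conjSum ρ u) (conjSum_comm ρ u)
  have htr := trace_conjSum ρ u
  rw [hc, map_smul, LinearMap.trace_id, smul_eq_mul] at htr
  have hd : (finrank ℂ V : ℂ) ≠ 0 := by
    exact_mod_cast (finrank_pos_of_isIrreducible ρ).ne'
  rw [hc, ← htr, mul_div_assoc, div_self hd, mul_one]

end Cfsg.Agent.Helper5
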