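import Mathlib
import Cfsg.Prelude.Def_Blocks
import Cfsg.Agent.Helper5.OsimaSupport
import Cfsg.Agent.Helper5.BrauerMap2
import Cfsg.Agent.Helper5.BlockBasic
import Cfsg.Agent.Helper24.Clifford
import Cfsg.Agent.Helper24.Linear

set_option autoImplicit false

/-!
# Consequences of the exact Osima support theorem

* block idempotents vanish on `p`-singular elements;
* blocks are determined by the central characters on `p`-regular classes;
* `p`-regular elements lie in every normal subgroup of `p`-power index;
* an irreducible character with the trivial character of a normal subgroup as a constituent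
  has that subgroup in its kernel.
-/

namespace Cfsg.Agent.Helper5.CC

open Cfsg Cfsg.Agent.Helper24 Cfsg.Agent.Helper5 Cfsg.Agent.Helper5.Loc

variable {G : Type*} [Group G] [Fintype G] {M : Ideal AlgInt}

/-- Block idempotents vanish on `p`-singular elements. -/
theorem blockCoeff_eq_zero_of_singular [Fintype (IrrCharacter G)] {p : ℕ} [Fact p.Prime]
    (hM : IsPModular p M) {B : Set (IrrCharacter G)} (hB : IsPBlock M B) (z : G)
    (hz : p ∣ orderOf z) : blockCoeff B z = 0 :=
  eq_zero_of_idem_of_singular hM (isClassFunction_blockCoeff B)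
    (fun t => osima (isPrime_of_isPModular hM) B hB t) (conv_blockCoeff_self B) z hz

/-- If the central characters of `χ` and `ψ` are congruent at every element where the class
function `c` does not vanish, then `c` acts on them by congruent scalars. -/
theorem act_sub_act_li_of_support (hM : M.IsPrime) {c : G → ℂ} (hc : IsClassFunction G c)
    (hcM : ∀ t, MemLocalRing M (c t)) {χ ψ : IrrCharacter G}
    (h : ∀ g, c g ≠ 0 →
      MemLocalIdeal M (centralChar (χ : G → ℂ) g - centralChar (ψ : G → ℂ) g)) :
    MemLocalIdeal M (act c χ - act c ψ) := by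
  classical
  have : Fintype (ConjClasses G) := Fintype.ofFinite _
  rw [act_eq_sum_centralChar hc, act_eq_sum_centralChar hc, ← Finset.sum_sub_distrib]
  apply li_sum hM
  intro K _
  rw [← mul_sub]
  by_cases h0 : c (rep K) = 0
  · rw [h0, zero_mul]; exact memLocalIdeal_zero hM
  · exact li_mul_left hM (hcM _) (h _ h0)

/-- **Blocks are determined by the central characters on `p`-regular classes.** -/
theorem sameBlock_of_regular [Fintype (IrrCharacter G)] {p : ℕ} [Fact p.Prime]
    (hM : IsPModular p M) (χ ψ : IrrCharacter G)
    (h : ∀ g : G, ¬ p ∣ orderOf g →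
      MemLocalIdeal M (centralChar (χ : G → ℂ) g - centralChar (ψ : G → ℂ) g)) :
    SameBlock M (χ : G → ℂ) (ψ : G → ℂ) := by
  classical
  have hMp := isPrime_of_isPModular hM
  set B := blockOf M (χ : G → ℂ) with hBdef
  have hB : IsPBlock M B := isPBlock_blockOf χ
  have h1 := act_sub_act_li_of_support hMp (isClassFunction_blockCoeff B)
    (fun t => osima hMp B hB t) (χ := χ) (ψ := ψ) (by
      intro g hg
      apply h g
      intro hdvd
      exact hg (blockCoeff_eq_zero_of_singular hM hB g hdvd))
  rw [act_blockCoeff, act_blockCoeff, if_pos (mem_blockOf_self hMp χ)] at h1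
  by_contra hcon
  have hψ : ψ ∉ B := hcon
  rw [if_neg hψ, sub_zero] at h1
  exact not_memLocalIdeal_one hMp h1

omit [Fintype G] in
/-- `p`-regular elements lie in every normal subgroup of `p`-power index. -/
theorem mem_of_regular_of_index_pow [Finite G] {p : ℕ} [hp : Fact p.Prime] (N : Subgroup G)
    [hN : N.Normal] (hidx : ∃ k : ℕ, N.index = p ^ k) (g : G) (hg : ¬ p ∣ orderOf g) :
    g ∈ N := by
  obtain ⟨k, hk⟩ := hidx
  rw [← QuotientGroup.eq_one_iff (N := N)]
  have h1 : orderOf ((g : G ⧸ N)) ∣ orderOf g :=
    orderOf_dvd_of_pow_eq_one (by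
      rw [← QuotientGroup.mk_pow, pow_orderOf_eq_one, QuotientGroup.mk_one])
  have h2 : orderOf ((g : G ⧸ N)) ∣ p ^ k := by
    rw [← hk, Subgroup.index_eq_card]
    exact orderOf_dvd_natCard _
  obtain ⟨j, -, hj⟩ := (Nat.dvd_prime_pow hp.out).mp h2
  rcases Nat.eq_zero_or_pos j with h0 | hpos
  · rw [h0, pow_zero] at hj
    exact orderOf_eq_one_iff.mp hj
  · exfalso
    apply hg
    apply dvd_trans _ h1
    rw [hj]
    exact dvd_pow_self p hpos.ne'

/-- The restriction of an irreducible character to a subgroup has an irreducible constituent. -/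
theorem exists_constituent_restrict (N : Subgroup G) [Fintype N] (ψ : IrrCharacter G) :
    ∃ θ' : IrrCharacter N, classInner (fun n : N => (ψ : G → ℂ) n) (θ' : N → ℂ) ≠ 0 := by
  classical
  have : Fintype (IrrCharacter N) := Fintype.ofFinite _
  by_contra hcon
  push Not at hcon
  have hcf : IsClassFunction N (fun n : N => (ψ : G → ℂ) n) := by
    intro g x
    simp only [Subgroup.coe_mul, Subgroup.coe_inv]
    exact isClassFunction_irr ψ (g : G) (x : G)
  have hexp := IsClassFunction.eq_sum_classInner hcf
  have h0 : (fun n : N => (ψ : G → ℂ) n) = 0 := by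
    rw [hexp]
    apply Finset.sum_eq_zero
    intro η _
    rw [hcon η, zero_smul]
  have := congrFun h0 1
  simp only [Subgroup.coe_one, Pi.zero_apply] at this
  exact irr_one_ne_zero ψ this

/-- An irreducible character having the trivial character of the normal subgroup `N` as a
constituent is constant on `N`. -/
theorem eq_one_of_trivial_constituent (N : Subgroup G) [hN : N.Normal] [Fintype N]
    (ψ : IrrCharacter G)
    (h : classInner (fun n : N => (ψ : G → ℂ) n) (fun _ : N => (1 : ℂ)) ≠ 0) (n : G)
    (hn : n ∈ N) : (ψ : G → ℂ) n = (ψ : G → ℂ) 1 := by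
  classical
  have h1 := clifford_finset N ψ.2 (isIrrCharacter_const_one (G := N)) h
  have himg : Finset.univ.image (conjFun N (fun _ : N => (1 : ℂ))) = {fun _ : N => (1 : ℂ)} := by
    ext f
    simp only [Finset.mem_image, Finset.mem_univ, true_and, Finset.mem_singleton]
    constructor
    · rintro ⟨g, rfl⟩
      rfl
    · rintro rfl
      exact ⟨1, rfl⟩
  rw [himg, Finset.sum_singleton] at h1
  have h2 := congrFun h1 ⟨n, hn⟩
  have h3 := congrFun h1 1
  simp only [Pi.smul_apply, smul_eq_mul, mul_one, Subgroup.coe_one] at h2 h3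
  rw [h2, h3]

end Cfsg.Agent.Helper5.CC
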