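import Mathlib
import Cfsg.Prelude.Def_Blocks
import Cfsg.Agent.Helper24.Span
import Cfsg.Agent.Helper24.Orthogonality
import Cfsg.Agent.Helper8.Ind
import Cfsg.Agent.Helper5.CharFacts

set_option autoImplicit false

/-!
# Central elements of `ℂG` lying in `ℂN` act by the same scalar on `χ` and on its constituents
-/

namespace Cfsg.Agent.Helper5.RS

open Cfsg Cfsg.Agent.Helper24 Cfsg.Agent.Helper5

variable {G : Type*} [Group G] [Fintype G]

theorem sum_subgroup_eq_sum' (H : Subgroup G) [Fintype H] (F : G → ℂ)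
    (hF : ∀ t, t ∉ H → F t = 0) : ∑ t : H, F (t : G) = ∑ t : G, F t := by
  classical
  rw [← Finset.sum_subtype (Finset.univ.filter (fun t : G => t ∈ H)) (fun t => by simp) F,
    Finset.sum_filter]
  refine Finset.sum_congr rfl fun t _ => ?_
  by_cases ht : t ∈ H
  · rw [if_pos ht]
  · rw [if_neg ht, hF t ht]

/-- **Restriction scalar lemma.** If `θ` is a constituent of `χ_N`, then every class function `a`
of `G` acts (through its values on `N`) by the same scalar on `θ` and on `χ`. -/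
theorem restrict_scalar_eq (N : Subgroup G) [hN : N.Normal] [Fintype N] (χ : IrrCharacter G)
    (θ : IrrCharacter N)
    (h : classInner (fun n : N => (χ : G → ℂ) n) (θ : N → ℂ) ≠ 0)
    (a : G → ℂ) (ha : IsClassFunction G a) :
    (∑ t : N, a t * (θ : N → ℂ) t) / (θ : N → ℂ) 1 =
      (∑ t : N, a t * (χ : G → ℂ) t) / (χ : G → ℂ) 1 := by
  classical
  have hχ1 : (χ : G → ℂ) 1 ≠ 0 := irr_one_ne_zero χ
  have hθ1 : (θ : N → ℂ) 1 ≠ 0 := irr_one_ne_zero θ
  set Aχ := (∑ t : N, a t * (χ : G → ℂ) t) / (χ : G → ℂ) 1 with hAχ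
  set Aθ := (∑ t : N, a t * (θ : N → ℂ) t) / (θ : N → ℂ) 1 with hAθ
  -- the cut-off of `a` to `N`
  let a' : G → ℂ := fun t => if t ∈ N then a t else 0
  have ha' : IsClassFunction G a' := by
    intro g x
    simp only [a']
    have hiff : x * g * x⁻¹ ∈ N ↔ g ∈ N := by
      constructor
      · intro hx
        have := hN.conj_mem _ hx x⁻¹
        simpa [mul_assoc] using this
      · intro hg
        exact hN.conj_mem g hg x
    by_cases hg : g ∈ N
    · rw [if_pos hg, if_pos (hiff.mpr hg), ha]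
    · rw [if_neg hg, if_neg (fun h' => hg (hiff.mp h'))]
  -- (1) in `G`
  have h1 : ∀ s : G, ∑ t : N, a t * (χ : G → ℂ) ((t : G) * s) = (χ : G → ℂ) s * Aχ := by
    intro s
    have e := irr_sum_mul_char_mul χ a' ha' s
    have e1 : ∑ g : G, a' g * (χ : G → ℂ) (g * s) = ∑ t : N, a t * (χ : G → ℂ) ((t : G) * s) := by
      rw [← sum_subgroup_eq_sum' N (fun g => a' g * (χ : G → ℂ) (g * s))
        (fun t ht => by simp only [a', if_neg ht, zero_mul])]
      refine Finset.sum_congr rfl fun t _ => ?_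
      simp only [a', if_pos t.2]
    have e2 : ∑ g : G, a' g * (χ : G → ℂ) g = ∑ t : N, a t * (χ : G → ℂ) t := by
      rw [← sum_subgroup_eq_sum' N (fun g => a' g * (χ : G → ℂ) g)
        (fun t ht => by simp only [a', if_neg ht, zero_mul])]
      refine Finset.sum_congr rfl fun t _ => ?_
      simp only [a', if_pos t.2]
    rw [e1, e2] at e
    rw [hAχ, mul_div_assoc', eq_div_iff hχ1, mul_comm]
    exact e
  -- (2) in `N`
  have hc : IsClassFunction N (fun t : N => a t) := by
    intro g x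
    simp only [Subgroup.coe_mul, Subgroup.coe_inv]
    exact ha (g : G) (x : G)
  have h2 : ∀ s : N, ∑ t : N, a t * (θ : N → ℂ) (t * s) = (θ : N → ℂ) s * Aθ := by
    intro s
    have e := irr_sum_mul_char_mul θ (fun t : N => a t) hc s
    rw [hAθ, mul_div_assoc', eq_div_iff hθ1, mul_comm]
    exact e
  -- the double sum, computed in two ways
  have hI1 : ∑ s : N, (∑ t : N, a t * (χ : G → ℂ) ((t : G) * s)) * (θ : N → ℂ) s⁻¹ =
      Aχ * ∑ s : N, (χ : G → ℂ) s * (θ : N → ℂ) s⁻¹ := by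
    rw [Finset.mul_sum]
    refine Finset.sum_congr rfl fun s _ => ?_
    rw [h1]
    ring
  have hI2 : ∑ s : N, (∑ t : N, a t * (χ : G → ℂ) ((t : G) * s)) * (θ : N → ℂ) s⁻¹ =
      Aθ * ∑ s : N, (χ : G → ℂ) s * (θ : N → ℂ) s⁻¹ := by
    simp_rw [Finset.sum_mul]
    rw [Finset.sum_comm]
    have hθcf : IsClassFunction N (θ : N → ℂ) := isClassFunction_irr θ
    have step : ∀ t : N, ∑ s : N, a t * (χ : G → ℂ) ((t : G) * s) * (θ : N → ℂ) s⁻¹ =
        ∑ u : N, a t * (χ : G → ℂ) u * (θ : N → ℂ) (t * u⁻¹) := by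
      intro t
      rw [← Equiv.sum_comp (Equiv.mulLeft t⁻¹)]
      refine Finset.sum_congr rfl fun u _ => ?_
      simp only [Equiv.coe_mulLeft, Subgroup.coe_mul, Subgroup.coe_inv, mul_inv_cancel_left]
      congr 1
      have : (t⁻¹ * u)⁻¹ = u⁻¹ * t := by group
      rw [this]
      have h3 := hθcf (u⁻¹ * t) t
      rw [← h3]
      group
    rw [Finset.sum_congr rfl (fun t _ => step t), Finset.sum_comm, Finset.mul_sum]
    refine Finset.sum_congr rfl fun u _ => ?_
    have := h2 u⁻¹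
    calc ∑ t : N, a t * (χ : G → ℂ) u * (θ : N → ℂ) (t * u⁻¹)
        = (χ : G → ℂ) u * ∑ t : N, a t * (θ : N → ℂ) (t * u⁻¹) := by
          rw [Finset.mul_sum]
          refine Finset.sum_congr rfl fun t _ => ?_
          ring
      _ = Aθ * ((χ : G → ℂ) u * (θ : N → ℂ) u⁻¹) := by rw [this]; ring
  have hne : ∑ s : N, (χ : G → ℂ) s * (θ : N → ℂ) s⁻¹ ≠ 0 := by
    intro h0
    apply h
    rw [classInner]
    have : ∑ g : N, (fun n : N => (χ : G → ℂ) n) g * (starRingEnd ℂ) ((θ : N → ℂ) g) =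
        ∑ s : N, (χ : G → ℂ) s * (θ : N → ℂ) s⁻¹ := by
      refine Finset.sum_congr rfl fun s _ => ?_
      rw [irr_inv θ s]
    rw [this, h0, mul_zero]
  have := hI1.symm.trans hI2
  exact (mul_right_cancel₀ hne this).symm

end Cfsg.Agent.Helper5.RS
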