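import Mathlib
import Cfsg.Prelude.Def_Blocks
import Cfsg.Agent.Helper5.RestrictScalar
import Cfsg.Agent.Helper5.BlockBasic
import Cfsg.Agent.Helper24.Clifford
import Cfsg.Agent.Helper24.OddInduced
import Cfsg.Agent.Helper24.RealChar

set_option autoImplicit false

/-!
# Characters in the same block lie over the same orbit of characters of a normal `p'`-subgroup
-/

namespace Cfsg.Agent.Helper5.CC

open Cfsg Cfsg.Agent.Helper24 Cfsg.Agent.Helper5 Cfsg.Agent.Helper5.Loc Cfsg.Agent.Helper5.RS

variable {G : Type*} [Group G] [Fintype G]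

/-- The `G`-orbit of an irreducible character of a normal subgroup. -/
def orbitSet (N : Subgroup G) [N.Normal] (θ : IrrCharacter N) : Set (IrrCharacter N) :=
  {η | ∃ x : G, (η : N → ℂ) = conjFun N (θ : N → ℂ) x}

omit [Fintype G] in
theorem conjFun_one' (N : Subgroup G) [hN : N.Normal] (η : N → ℂ) : conjFun N η 1 = η := by
  funext n
  rw [conjFun_apply]
  congr 1
  apply Subtype.ext
  simp

/-- Conjugation as a map on irreducible characters of a normal subgroup. -/
noncomputable def conjIrr (N : Subgroup G) [hN : N.Normal] (x : G) (η : IrrCharacter N) :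
    IrrCharacter N :=
  ⟨conjFun N (η : N → ℂ) x, isIrrCharacter_conjFun N η.2 x⟩

omit [Fintype G] in
theorem bijOn_conjIrr (N : Subgroup G) [hN : N.Normal] (θ : IrrCharacter N) (x : G) :
    Set.BijOn (conjIrr N x) (orbitSet N θ) (orbitSet N θ) := by
  refine ⟨?_, ?_, ?_⟩
  · rintro η ⟨y, hy⟩
    refine ⟨y * x, ?_⟩
    show conjFun N (η : N → ℂ) x = _
    rw [hy, conjFun_conjFun]
  · intro η₁ _ η₂ _ h
    have h' : conjFun N (η₁ : N → ℂ) x = conjFun N (η₂ : N → ℂ) x := congrArg Subtype.val h
    have h2 := congrArg (fun f => conjFun N f x⁻¹) h'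
    simp only [conjFun_conjFun, mul_inv_cancel, conjFun_one'] at h2
    exact Subtype.ext h2
  · rintro η ⟨y, hy⟩
    refine ⟨conjIrr N (y * x⁻¹) θ, ⟨y * x⁻¹, rfl⟩, ?_⟩
    apply Subtype.ext
    show conjFun N (conjFun N (θ : N → ℂ) (y * x⁻¹)) x = _
    rw [conjFun_conjFun, hy]
    congr 1
    group

omit [Fintype G] in
/-- The orbit idempotent is invariant under conjugation by `G`. -/
theorem blockCoeff_orbitSet_conj (N : Subgroup G) [hN : N.Normal] [Fintype N]
    (θ : IrrCharacter N) (x : G) (n : N) :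
    blockCoeff (orbitSet N θ) ⟨x * n * x⁻¹, hN.conj_mem n n.2 x⟩ = blockCoeff (orbitSet N θ) n := by
  rw [blockCoeff, blockCoeff]
  congr 1
  apply finsum_mem_eq_of_bijOn (conjIrr N x) (bijOn_conjIrr N θ x)
  intro η _
  have h1 : ((conjIrr N x η : IrrCharacter N) : N → ℂ) 1 = (η : N → ℂ) 1 := by
    show conjFun N (η : N → ℂ) x 1 = _
    rw [conjFun_apply]
    exact congrArg (η : N → ℂ) (Subtype.ext (by simp))
  have h2 : ((conjIrr N x η : IrrCharacter N) : N → ℂ) n =
      (η : N → ℂ) ⟨x * n * x⁻¹, hN.conj_mem n n.2 x⟩ := rfl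
  rw [h1, h2]

variable {M : Ideal AlgInt}

/-- The idempotent of any set of characters of a `p'`-group has local-integer coefficients. -/
theorem memLocalRing_blockCoeff_of_not_dvd {p : ℕ} (hM : IsPModular p M) {N : Type*} [Group N]
    [Fintype N] (hN : ¬ p ∣ Nat.card N) (A : Set (IrrCharacter N)) (n : N) :
    MemLocalRing M (blockCoeff A n) := by
  classical
  have hMp := isPrime_of_isPModular hM
  have : Fintype (IrrCharacter N) := Fintype.ofFinite _
  rw [blockCoeff, finsum_mem_eq_sum_ite]
  apply lr_mul hMp (memLocalRing_inv_natCast hM hN)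
  apply lr_sum hMp
  intro η _
  split_ifs
  · apply memLocalRing_of_isIntegral hMp
    apply IsIntegral.mul (irr_isIntegral η 1)
    rw [← irr_inv η n]
    exact irr_isIntegral η _
  · exact memLocalRing_zero hMp

/-- **Characters in the same block lie over the same orbit of a normal `p'`-subgroup.** -/
theorem constituent_of_sameBlock [Fintype (IrrCharacter G)] {p : ℕ} [Fact p.Prime]
    (hM : IsPModular p M) (N : Subgroup G) [hN : N.Normal] [Fintype N]
    (hpN : ¬ p ∣ Nat.card N) (χ ψ : IrrCharacter G)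
    (h : SameBlock M (χ : G → ℂ) (ψ : G → ℂ)) (θ : IrrCharacter N)
    (hθ : classInner (fun n : N => (χ : G → ℂ) n) (θ : N → ℂ) ≠ 0) :
    classInner (fun n : N => (ψ : G → ℂ) n) (θ : N → ℂ) ≠ 0 := by
  classical
  have hMp := isPrime_of_isPModular hM
  have : Fintype (IrrCharacter N) := Fintype.ofFinite _
  -- a constituent of `ψ_N`
  obtain ⟨θ', hθ'⟩ : ∃ θ' : IrrCharacter N,
      classInner (fun n : N => (ψ : G → ℂ) n) (θ' : N → ℂ) ≠ 0 := by
    by_contra hcon
    push Not at hcon
    have hcf : IsClassFunction N (fun n : N => (ψ : G → ℂ) n) := by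
      intro g x
      simp only [Subgroup.coe_mul, Subgroup.coe_inv]
      exact isClassFunction_irr ψ (g : G) (x : G)
    have hexp := IsClassFunction.eq_sum_classInner hcf
    have h0 : (fun n : N => (ψ : G → ℂ) n) = 0 := by
      rw [hexp]
      apply Finset.sum_eq_zero
      intro η _
      rw [hcon η, zero_smul]
    have := congrFun h0 1
    simp only [Subgroup.coe_one, Pi.zero_apply] at this
    exact irr_one_ne_zero ψ this
  -- the orbit idempotent, extended by zero
  let f : N → ℂ := blockCoeff (orbitSet N θ)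
  let a : G → ℂ := fun t => if ht : t ∈ N then f ⟨t, ht⟩ else 0
  have ha : IsClassFunction G a := by
    intro g x
    simp only [a]
    have hiff : x * g * x⁻¹ ∈ N ↔ g ∈ N := by
      constructor
      · intro hx
        have := hN.conj_mem _ hx x⁻¹
        simpa [mul_assoc] using this
      · intro hg
        exact hN.conj_mem g hg x
    by_cases hg : g ∈ N
    · rw [dif_pos hg, dif_pos (hiff.mpr hg)]
      exact blockCoeff_orbitSet_conj N θ x ⟨g, hg⟩
    · rw [dif_neg hg, dif_neg (fun h' => hg (hiff.mp h'))]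
  have haM : ∀ t, MemLocalRing M (a t) := by
    intro t
    simp only [a]
    split_ifs
    · exact memLocalRing_blockCoeff_of_not_dvd hM hpN _ _
    · exact memLocalRing_zero hMp
  have haN : ∀ t : N, a t = f t := fun t => by simp only [a, dif_pos t.2]
  have hsum : ∀ (φ : IrrCharacter G), act a φ = (∑ t : N, a t * (φ : G → ℂ) t) / (φ : G → ℂ) 1 := by
    intro φ
    rw [act]
    congr 1
    symm
    apply sum_subgroup_eq_sum' N (fun t => a t * (φ : G → ℂ) t)
    intro t ht
    simp only [a, dif_neg ht, zero_mul]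
  have hactN : ∀ η : IrrCharacter N, (∑ t : N, a t * (η : N → ℂ) t) / (η : N → ℂ) 1 =
      if η ∈ orbitSet N θ then 1 else 0 := by
    intro η
    simp_rw [haN]
    exact act_blockCoeff (orbitSet N θ) η
  have e1 : act a χ = 1 := by
    rw [hsum, ← restrict_scalar_eq N χ θ hθ a ha, hactN, if_pos ⟨1, (conjFun_one' N _).symm⟩]
  have e2 : act a ψ = if θ' ∈ orbitSet N θ then 1 else 0 := by
    rw [hsum, ← restrict_scalar_eq N ψ θ' hθ' a ha, hactN]
  have hmem : θ' ∈ orbitSet N θ := by
    by_contra hne
    rw [if_neg hne] at e2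
    have := act_sub_act_memLocalIdeal hMp ha haM h
    rw [e1, e2, sub_zero] at this
    exact not_memLocalIdeal_one hMp this
  obtain ⟨x, hx⟩ := hmem
  rw [hx, classInner_restrict_conjFun N (isClassFunction_irr ψ)] at hθ'
  exact hθ'

end Cfsg.Agent.Helper5.CC
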