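import Mathlib
import Cfsg.Prelude.Def_Blocks
import Cfsg.Agent.Helper5.BlockSupport
import Cfsg.Agent.Helper8.CharComp

set_option autoImplicit false

/-!
# Blocks and quotients by normal `p`-subgroups

Push-forward of class functions along `G → G ⧸ P`, inflation of characters, and the comparison of
central characters at `p`-regular elements when `P` is a normal `p`-subgroup centralized by all
`p`-regular elements.
-/

namespace Cfsg.Agent.Helper5.CC

open Cfsg Cfsg.Agent.Helper24 Cfsg.Agent.Helper5 Cfsg.Agent.Helper5.Loc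

variable {G : Type*} [Group G] [Fintype G] {M : Ideal AlgInt}

section Push

variable (P : Subgroup G) [hPn : P.Normal]

/-- Inflation of an irreducible character of `G ⧸ P` to `G`. -/
noncomputable def infl (χ : IrrCharacter (G ⧸ P)) : IrrCharacter G :=
  ⟨fun g => (χ : G ⧸ P → ℂ) (QuotientGroup.mk' P g),
    Cfsg.Agent.Helper8.isIrrCharacter_comp_surjective (QuotientGroup.mk' P)
      (QuotientGroup.mk'_surjective P) χ.2⟩

omit [Fintype G] in
theorem infl_apply (χ : IrrCharacter (G ⧸ P)) (g : G) :
    (infl P χ : G → ℂ) g = (χ : G ⧸ P → ℂ) (g : G ⧸ P) := rfl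

/-- Push-forward of a function along the quotient map (the image in the group ring of the
quotient). -/
noncomputable def push (a : G → ℂ) : G ⧸ P → ℂ := by
  classical
  exact fun q => ∑ t : G, if (t : G ⧸ P) = q then a t else 0

omit hPn in
theorem push_apply [DecidableEq (G ⧸ P)] (a : G → ℂ) (q : G ⧸ P) :
    push P a q = ∑ t : G, if (t : G ⧸ P) = q then a t else 0 := by
  unfold push
  refine Finset.sum_congr rfl fun t _ => ?_
  congr

omit hPn in
theorem sum_push_mul [Fintype (G ⧸ P)] (a : G → ℂ) (F : G ⧸ P → ℂ) :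
    ∑ q : G ⧸ P, push P a q * F q = ∑ t : G, a t * F (t : G ⧸ P) := by
  classical
  simp_rw [push_apply, Finset.sum_mul]
  rw [Finset.sum_comm]
  refine Finset.sum_congr rfl fun t _ => ?_
  rw [Finset.sum_eq_single (t : G ⧸ P)]
  · rw [if_pos rfl]
  · intro q _ hq
    rw [if_neg (Ne.symm hq), zero_mul]
  · intro h; exact absurd (Finset.mem_univ _) h

theorem act_push [Fintype (G ⧸ P)] (a : G → ℂ) (χ : IrrCharacter (G ⧸ P)) :
    act (push P a) χ = act a (infl P χ) := by
  unfold act
  rw [sum_push_mul]
  rfl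

theorem isClassFunction_push {a : G → ℂ} (ha : IsClassFunction G a) :
    IsClassFunction (G ⧸ P) (push P a) := by
  classical
  intro q x
  obtain ⟨y, rfl⟩ := QuotientGroup.mk_surjective x
  rw [push_apply, push_apply]
  symm
  refine Fintype.sum_equiv (MulAut.conj y).toEquiv _ _ ?_
  intro t
  have hiff : (((y * t * y⁻¹ : G) : G ⧸ P) = (y : G ⧸ P) * q * (y : G ⧸ P)⁻¹) ↔
      ((t : G ⧸ P) = q) := by
    rw [QuotientGroup.mk_mul, QuotientGroup.mk_mul, QuotientGroup.mk_inv]
    constructor
    · intro h
      have h1 := mul_right_cancel h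
      exact mul_left_cancel h1
    · intro h; rw [h]
  have hval : a ((MulAut.conj y).toEquiv t) = a t := ha t y
  have hiff' : ((((MulAut.conj y).toEquiv t : G) : G ⧸ P) = (y : G ⧸ P) * q * (y : G ⧸ P)⁻¹) ↔
      ((t : G ⧸ P) = q) := hiff
  split_ifs with h1 h2 h2
  · exact hval.symm
  · exact absurd (hiff'.mpr h1) h2
  · exact absurd (hiff'.mp h2) h1
  · rfl

omit hPn in
theorem lr_push (hM : M.IsPrime) {a : G → ℂ} (haM : ∀ t, MemLocalRing M (a t)) (q : G ⧸ P) :
    MemLocalRing M (push P a q) := by
  classical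
  rw [push_apply]
  apply lr_sum hM
  intro t _
  split_ifs
  · exact haM t
  · exact memLocalRing_zero hM

end Push

section Regular

variable {p : ℕ} [hp : Fact p.Prime]

omit [Fintype G] in
/-- The product of a `p`-regular element with a commuting nontrivial `p`-element is
`p`-singular. -/
theorem singular_mul_of_commute [Finite G] {g u : G} (hcomm : Commute g u)
    (hg : ¬ p ∣ orderOf g) (hu : ∃ k : ℕ, orderOf u = p ^ k) (hu1 : u ≠ 1) :
    p ∣ orderOf (g * u) := by
  by_contra hcon
  obtain ⟨k, hk⟩ := hu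
  have hkpos : k ≠ 0 := by
    rintro rfl
    rw [pow_zero, orderOf_eq_one_iff] at hk
    exact hu1 hk
  have h1 : u ^ (orderOf (g * u) * orderOf g) = 1 := by
    have h2 : (g * u) ^ (orderOf (g * u) * orderOf g) = 1 := by
      rw [pow_mul, pow_orderOf_eq_one, one_pow]
    rw [hcomm.mul_pow, mul_comm (orderOf (g * u)) (orderOf g), pow_mul g, pow_orderOf_eq_one,
      one_pow, one_mul] at h2
    rw [mul_comm]; exact h2
  have h3 := orderOf_dvd_of_pow_eq_one h1
  rw [hk] at h3
  have h4 : p ∣ orderOf (g * u) * orderOf g := dvd_trans (dvd_pow_self p hkpos) h3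
  rcases (Nat.Prime.dvd_mul hp.out).mp h4 with h5 | h5
  · exact hcon h5
  · exact hg h5

variable (P : Subgroup G) [hPn : P.Normal]

/-- If `a` vanishes on `p`-singular elements, its push-forward at the image of a `p`-regular
element `g` is `a g`, provided `g` centralizes the normal `p`-subgroup `P`. -/
theorem push_eq_of_regular (hP : IsPGroup p P) {a : G → ℂ}
    (ha0 : ∀ z, p ∣ orderOf z → a z = 0) (g : G) (hg : ¬ p ∣ orderOf g)
    (hgC : g ∈ Subgroup.centralizer (P : Set G)) :
    push P a (g : G ⧸ P) = a g := by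
  classical
  rw [push_apply, Finset.sum_eq_single g]
  · rw [if_pos rfl]
  · intro t _ ht
    by_cases htq : (t : G ⧸ P) = (g : G ⧸ P)
    · rw [if_pos htq]
      apply ha0
      have hu : g⁻¹ * t ∈ P := by
        rw [← QuotientGroup.eq_one_iff, QuotientGroup.mk_mul, QuotientGroup.mk_inv, htq,
          inv_mul_cancel]
      have hcomm : Commute g (g⁻¹ * t) := by
        have := (Subgroup.mem_centralizer_iff.mp hgC) (g⁻¹ * t) hu
        exact this.symm
      have hu1 : g⁻¹ * t ≠ 1 := by
        intro h
        apply ht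
        rw [inv_mul_eq_one] at h
        exact h.symm
      obtain ⟨k, hk⟩ := IsPGroup.iff_orderOf.mp hP ⟨g⁻¹ * t, hu⟩
      have hk' : orderOf (g⁻¹ * t) = p ^ k := by
        rw [← hk]; exact (Subgroup.orderOf_mk _ hu).symm
      have := singular_mul_of_commute hcomm hg ⟨k, hk'⟩ hu1
      rwa [mul_inv_cancel_left] at this
    · rw [if_neg htq]
  · intro h; exact absurd (Finset.mem_univ _) h

/-- Every `p`-regular element of a quotient is the image of a `p`-regular element. -/
theorem exists_regular_lift (q : G ⧸ P) (hq : ¬ p ∣ orderOf q) :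
    ∃ g : G, ¬ p ∣ orderOf g ∧ (g : G ⧸ P) = q := by
  obtain ⟨t, rfl⟩ := QuotientGroup.mk_surjective q
  have hcop : Nat.Coprime (p ^ (Nat.card G).factorization p) (orderOf (t : G ⧸ P)) := by
    apply Nat.Coprime.pow_left
    exact (Nat.Prime.coprime_iff_not_dvd hp.out).mpr hq
  obtain ⟨s, hs⟩ := exists_pow_eq_self_of_coprime hcop
  refine ⟨(t ^ s) ^ (p ^ (Nat.card G).factorization p), not_dvd_orderOf_pow p (t ^ s), ?_⟩
  rw [QuotientGroup.mk_pow, QuotientGroup.mk_pow, ← pow_mul, mul_comm, pow_mul]
  exact hs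

/-- The class indicator of a `p`-regular element pushes forward to the class indicator of its
image. -/
theorem push_classIndicator (hP : IsPGroup p P)
    (hC : ∀ g : G, ¬ p ∣ orderOf g → g ∈ Subgroup.centralizer (P : Set G))
    (g : G) (hg : ¬ p ∣ orderOf g) :
    push P (classIndicator g) = classIndicator (g : G ⧸ P) := by
  classical
  have hsing : ∀ z, p ∣ orderOf z → classIndicator g z = 0 := by
    intro z hz
    apply classIndicator_of_not_isConj
    intro hc
    obtain ⟨c, hc⟩ := isConj_iff.mp hc
    apply hg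
    have : orderOf (c * g * c⁻¹) = orderOf g :=
      orderOf_injective (MulAut.conj c).toMonoidHom (MulAut.conj c).injective g
    rw [← this, hc]
    exact hz
  funext q
  by_cases hq : IsConj (g : G ⧸ P) q
  · rw [classIndicator_of_isConj hq]
    obtain ⟨x, hx⟩ := isConj_iff.mp hq
    obtain ⟨y, rfl⟩ := QuotientGroup.mk_surjective x
    have hg' : ¬ p ∣ orderOf (y * g * y⁻¹) := by
      have : orderOf (y * g * y⁻¹) = orderOf g :=
        orderOf_injective (MulAut.conj y).toMonoidHom (MulAut.conj y).injective g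
      rw [this]; exact hg
    have hq' : q = ((y * g * y⁻¹ : G) : G ⧸ P) := by
      rw [← hx, QuotientGroup.mk_mul, QuotientGroup.mk_mul, QuotientGroup.mk_inv]
    rw [hq', push_eq_of_regular P hP hsing _ hg' (hC _ hg')]
    exact classIndicator_of_isConj (isConj_iff.mpr ⟨y, rfl⟩)
  · rw [classIndicator_of_not_isConj hq, push_apply]
    apply Finset.sum_eq_zero
    intro t _
    by_cases htq : (t : G ⧸ P) = q
    · rw [if_pos htq]
      apply classIndicator_of_not_isConj
      intro hc
      apply hq
      obtain ⟨c, hc⟩ := isConj_iff.mp hc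
      rw [← htq, ← hc]
      exact isConj_iff.mpr ⟨(c : G ⧸ P), by
        rw [QuotientGroup.mk_mul, QuotientGroup.mk_mul, QuotientGroup.mk_inv]⟩
    · rw [if_neg htq]

/-- Central characters of an inflated character at `p`-regular elements. -/
theorem centralChar_infl [Fintype (G ⧸ P)] (hP : IsPGroup p P)
    (hC : ∀ g : G, ¬ p ∣ orderOf g → g ∈ Subgroup.centralizer (P : Set G))
    (χ : IrrCharacter (G ⧸ P)) (g : G) (hg : ¬ p ∣ orderOf g) :
    centralChar (infl P χ : G → ℂ) g = centralChar (χ : G ⧸ P → ℂ) (g : G ⧸ P) := by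
  rw [← act_classIndicator, ← act_classIndicator, ← push_classIndicator P hP hC g hg, act_push]

end Regular

end Cfsg.Agent.Helper5.CC
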