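import Mathlib
import Cfsg.Prelude.Def_Blocks
import Cfsg.Agent.Helper5.QuotP

set_option autoImplicit false

/-!
# Blocks and quotients by normal `p'`-subgroups

Pull-back of class functions along `G → G ⧸ N` (scaled by `1 / |N|`): if the inflations of two
irreducible characters of `G ⧸ N` lie in the same block of `G` and `p ∤ |N|`, the characters lie
in the same block of `G ⧸ N`.
-/

namespace Cfsg.Agent.Helper5.CC

open Cfsg Cfsg.Agent.Helper24 Cfsg.Agent.Helper5 Cfsg.Agent.Helper5.Loc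

variable {G : Type*} [Group G] [Fintype G] {M : Ideal AlgInt}

variable (N : Subgroup G) [hNn : N.Normal]

omit hNn in
theorem sum_comp_mk [Fintype (G ⧸ N)] (F : G ⧸ N → ℂ) :
    ∑ g : G, F (g : G ⧸ N) = (Nat.card N : ℂ) * ∑ q : G ⧸ N, F q := by
  classical
  rw [← Finset.sum_fiberwise (s := Finset.univ) (g := (QuotientGroup.mk : G → G ⧸ N)),
    Finset.mul_sum]
  refine Finset.sum_congr rfl ?_
  intro q _
  have h1 : ∀ g ∈ Finset.univ.filter (fun g : G => (g : G ⧸ N) = q), F (g : G ⧸ N) = F q := by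
    intro g hg
    rw [Finset.mem_filter] at hg
    rw [hg.2]
  rw [Finset.sum_congr rfl h1, Finset.sum_const, nsmul_eq_mul]
  congr 1
  have h2 := QuotientGroup.card_preimage_mk N ({q} : Set (G ⧸ N))
  have hq1 : Nat.card (({q} : Set (G ⧸ N)) : Type _) = 1 := by simp
  rw [hq1, mul_one] at h2
  rw [← h2, ← Fintype.card_subtype, ← Nat.card_eq_fintype_card]
  rfl

/-- Scaled pull-back of a function on the quotient. -/
noncomputable def pull (c : G ⧸ N → ℂ) : G → ℂ := fun g => (Nat.card N : ℂ)⁻¹ * c (g : G ⧸ N)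

theorem act_pull [Fintype (G ⧸ N)] (c : G ⧸ N → ℂ) (χ : IrrCharacter (G ⧸ N)) :
    act (pull N c) (infl N χ) = act c χ := by
  unfold act
  have h1 : ∑ t : G, pull N c t * (infl N χ : G → ℂ) t =
      (Nat.card N : ℂ)⁻¹ * ∑ t : G, (fun q : G ⧸ N => c q * (χ : G ⧸ N → ℂ) q) (t : G ⧸ N) := by
    rw [Finset.mul_sum]
    refine Finset.sum_congr rfl fun t _ => ?_
    simp only [pull, infl_apply]
    ring
  have hcard : (Nat.card N : ℂ) ≠ 0 := by
    have : 0 < Nat.card N := Nat.card_pos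
    exact_mod_cast this.ne'
  rw [h1, sum_comp_mk N (fun q : G ⧸ N => c q * (χ : G ⧸ N → ℂ) q), ← mul_assoc,
    inv_mul_cancel₀ hcard, one_mul]
  rfl

omit [Fintype G] in
theorem isClassFunction_pull {c : G ⧸ N → ℂ} (hc : IsClassFunction (G ⧸ N) c) :
    IsClassFunction G (pull N c) := by
  intro g x
  simp only [pull]
  rw [QuotientGroup.mk_mul, QuotientGroup.mk_mul, QuotientGroup.mk_inv, hc]

omit [Fintype G] hNn in
theorem lr_pull [Finite G] {p : ℕ} (hM : IsPModular p M) (hpN : ¬ p ∣ Nat.card N)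
    {c : G ⧸ N → ℂ} (hcM : ∀ q, MemLocalRing M (c q)) (g : G) : MemLocalRing M (pull N c g) :=
  lr_mul (isPrime_of_isPModular hM) (memLocalRing_inv_natCast hM hpN) (hcM _)

/-- If the inflations of `χ, ψ ∈ Irr(G ⧸ N)` lie in the same block of `G` and `p ∤ |N|`, then
`χ` and `ψ` lie in the same block of `G ⧸ N`. -/
theorem sameBlock_of_infl [Fintype (G ⧸ N)] {p : ℕ} (hM : IsPModular p M)
    (hpN : ¬ p ∣ Nat.card N) (χ ψ : IrrCharacter (G ⧸ N))
    (h : SameBlock M (infl N χ : G → ℂ) (infl N ψ : G → ℂ)) :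
    SameBlock M (χ : G ⧸ N → ℂ) (ψ : G ⧸ N → ℂ) := by
  have hMp := isPrime_of_isPModular hM
  intro q
  have h1 := act_sub_act_memLocalIdeal hMp
    (isClassFunction_pull N (isClassFunction_classIndicator q))
    (fun t => lr_pull N hM hpN (fun q' => memLocalRing_classIndicator hMp q q') t) h
  rwa [act_pull, act_pull, act_classIndicator, act_classIndicator] at h1

end Cfsg.Agent.Helper5.CC
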