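import Mathlib


set_option autoImplicit false

namespace Cfsg.Agent.Helper5

variable {G : Type*} [Group G]

/-- Conjugation action of a subgroup `Q ≤ N_G(K)` on `K`. -/
@[instance_reducible]
def conjActOn (Q K : Subgroup G) (h : Q ≤ Subgroup.normalizer (K : Set G)) : MulAction Q K where
  smul u k := ⟨(u : G) * k * (u : G)⁻¹, (Subgroup.mem_normalizer_iff.mp (h u.2) k).mp k.2⟩
  one_smul k := by
    apply Subtype.ext
    show ((1 : Q) : G) * k * ((1 : Q) : G)⁻¹ = k
    simp
  mul_smul u v k := by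
    apply Subtype.ext
    show ((u * v : Q) : G) * k * ((u * v : Q) : G)⁻¹ = (u : G) * ((v : G) * k * (v : G)⁻¹) * (u : G)⁻¹
    simp [mul_assoc]

theorem conjActOn_smul_coe (Q K : Subgroup G) (h : Q ≤ Subgroup.normalizer (K : Set G)) (u : Q) (k : K) :
    ((letI := conjActOn Q K h; u • k : K) : G) = (u : G) * k * (u : G)⁻¹ := rfl

/-- If `y` has prime order `q`, normalizes the finite group `K` and centralizes no nonidentity element
of `K`, then `|K| ≡ 1 mod q`. -/
theorem card_modEq_one_of_fixedPointFree [Finite G] (K : Subgroup G) (q : ℕ) [Fact q.Prime] (y : G)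
    (hy : orderOf y = q) (hyN : y ∈ Subgroup.normalizer (K : Set G))
    (hfix : ∀ k ∈ K, y * k = k * y → k = 1) : Nat.card K ≡ 1 [MOD q] := by
  classical
  have hQ : Subgroup.zpowers y ≤ Subgroup.normalizer (K : Set G) := by
    rw [Subgroup.zpowers_le]; exact hyN
  let _ := conjActOn (Subgroup.zpowers y) K hQ
  have hp : IsPGroup q (Subgroup.zpowers y) := by
    rw [IsPGroup.iff_card, Nat.card_zpowers, hy]
    exact ⟨1, (pow_one q).symm⟩
  have key := hp.card_modEq_card_fixedPoints K
  have hfp : MulAction.fixedPoints (Subgroup.zpowers y) K = {1} := by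
    ext k
    rw [MulAction.mem_fixedPoints, Set.mem_singleton_iff]
    constructor
    · intro hk
      have h1 := hk ⟨y, Subgroup.mem_zpowers y⟩
      have h2 : y * (k : G) * y⁻¹ = k := congrArg Subtype.val h1
      apply Subtype.ext
      apply hfix k k.2
      calc y * (k : G) = y * k * y⁻¹ * y := by group
        _ = k * y := by rw [h2]
    · rintro rfl u
      apply Subtype.ext
      show (u : G) * ((1 : K) : G) * (u : G)⁻¹ = ((1 : K) : G)
      simp
  rw [hfp] at key
  simpa using key

end Cfsg.Agent.Helper5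

namespace Cfsg.Agent.Helper5

variable {G : Type*} [Group G]

/-- Conjugation action of a subgroup `Q` on a set stable under conjugation by `Q`. -/
@[instance_reducible]
def conjActOnSet (Q : Subgroup G) (S : Set G) (h : ∀ u ∈ Q, ∀ s ∈ S, u * s * u⁻¹ ∈ S) :
    MulAction Q S where
  smul u s := ⟨(u : G) * s * (u : G)⁻¹, h u u.2 s s.2⟩
  one_smul s := by
    apply Subtype.ext
    show ((1 : Q) : G) * s * ((1 : Q) : G)⁻¹ = s
    simp
  mul_smul u v s := by
    apply Subtype.ext
    show ((u * v : Q) : G) * s * ((u * v : Q) : G)⁻¹ = (u : G) * ((v : G) * s * (v : G)⁻¹) * (u : G)⁻¹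
    simp [mul_assoc]

/-- A `p`-group acting by conjugation on a stable finite set of size prime to `p`
centralizes some element of the set. -/
theorem exists_mem_centralizer_of_not_dvd_card (p : ℕ) [Fact p.Prime] (Q : Subgroup G)
    (hQ : IsPGroup p Q) (S : Set G) [Finite S] (h : ∀ u ∈ Q, ∀ s ∈ S, u * s * u⁻¹ ∈ S)
    (hS : ¬ p ∣ Nat.card S) : ∃ s ∈ S, s ∈ Subgroup.centralizer (Q : Set G) := by
  let _ := conjActOnSet Q S h
  obtain ⟨s, hs⟩ := hQ.nonempty_fixed_point_of_prime_not_dvd_card S hS
  refine ⟨s.1, s.2, ?_⟩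
  rw [Subgroup.mem_centralizer_iff]
  intro u hu
  have h1 := hs ⟨u, hu⟩
  have h2 : u * (s : G) * u⁻¹ = s := congrArg Subtype.val h1
  calc u * (s : G) = u * s * u⁻¹ * u := by group
    _ = s * u := by rw [h2]

/-- If `d` divides the index of every point stabilizer, then `d` divides the size of the set. -/
theorem dvd_card_of_dvd_index_stabilizer {Q X : Type*} [Group Q] [Finite Q] [MulAction Q X] [Finite X] (d : ℕ)
    (h : ∀ x : X, d ∣ (MulAction.stabilizer Q x).index) : d ∣ Nat.card X := by
  classical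
  have : Fintype (MulAction.orbitRel.Quotient Q X) := Fintype.ofFinite _
  rw [Nat.card_congr (MulAction.selfEquivSigmaOrbitsQuotientStabilizer Q X), Nat.card_sigma]
  apply Finset.dvd_sum
  intro ω _
  exact h _

theorem card_centralizer_conj {G : Type*} [Group G] (g c : G) :
    Nat.card (Subgroup.centralizer ({c * g * c⁻¹} : Set G)) =
      Nat.card (Subgroup.centralizer ({g} : Set G)) := by
  apply Nat.card_congr
  refine ⟨fun x => ⟨c⁻¹ * x.1 * c, ?_⟩, fun x => ⟨c * x.1 * c⁻¹, ?_⟩, fun x => ?_, fun x => ?_⟩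
  · have hx := Subgroup.mem_centralizer_iff.mp x.2 (c * g * c⁻¹) (Set.mem_singleton _)
    rw [Subgroup.mem_centralizer_iff]
    intro z hz
    rw [Set.mem_singleton_iff] at hz
    subst hz
    calc z * (c⁻¹ * x.1 * c) = c⁻¹ * ((c * z * c⁻¹) * x.1) * c := by group
      _ = c⁻¹ * (x.1 * (c * z * c⁻¹)) * c := by rw [hx]
      _ = c⁻¹ * x.1 * c * z := by group
  · have hx := Subgroup.mem_centralizer_iff.mp x.2 g (Set.mem_singleton _)
    rw [Subgroup.mem_centralizer_iff]
    intro z hz
    rw [Set.mem_singleton_iff] at hz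
    subst hz
    calc c * g * c⁻¹ * (c * x.1 * c⁻¹) = c * (g * x.1) * c⁻¹ := by group
      _ = c * (x.1 * g) * c⁻¹ := by rw [hx]
      _ = c * x.1 * c⁻¹ * (c * g * c⁻¹) := by group
  · apply Subtype.ext; simp [mul_assoc]
  · apply Subtype.ext; simp [mul_assoc]

end Cfsg.Agent.Helper5
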