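import Mathlib
import Cfsg.Prelude.Def_Characters
import Cfsg.Prelude.Def_Solvable
import Cfsg.Agent.Helper24.Abelian
import Cfsg.Agent.Helper29.Garrison
import Cfsg.Agent.Helper29.TwoDegMain

set_option autoImplicit false

/-!
# S4460 (three character degrees ⇒ derived length ≤ 3): shared definitions

`ThreeDeg G m n`: the irreducible character degrees of `G` are exactly `1 < m < n`.
`LeThree G`: `G` has at most three irreducible character degrees.
-/

namespace Cfsg.Agent.Helper5.TD

open Cfsg Cfsg.Agent.Helper24

universe u

/-- The irreducible character degrees of `G` are exactly `1`, `m`, `n` with `1 < m < n`. -/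
structure ThreeDeg (G : Type u) [Group G] (m n : ℕ) : Prop where
  one_lt : 1 < m
  lt : m < n
  cases : ∀ χ : IrrCharacter G, irrDeg χ = 1 ∨ irrDeg χ = m ∨ irrDeg χ = n
  exm : ∃ χ : IrrCharacter G, irrDeg χ = m
  exn : ∃ χ : IrrCharacter G, irrDeg χ = n

/-- At most three irreducible character degrees. -/
def LeThree (G : Type u) [Group G] : Prop :=
  (Cfsg.Agent.Helper29.BG.cdSet G).ncard ≤ 3

end Cfsg.Agent.Helper5.TD
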