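import Mathlib
import Cfsg.Prelude.Def_Blocks
import Cfsg.Agent.Helper24.CharBasic
import Cfsg.Agent.Helper24.Linear
import Cfsg.Agent.Helper24.Abelian
import Cfsg.Agent.Helper24.Regular

set_option autoImplicit false

/-!
# The kernel of an irreducible character as a normal subgroup
-/

namespace Cfsg.Agent.Helper5

open Cfsg Cfsg.Agent.Helper24

variable {G : Type*} [Group G]

/-- An irreducible character is afforded by a representation whose kernel is the set where the
character takes its value at `1`. -/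
theorem exists_rep_ker [Finite G] (ψ : IrrCharacter G) :
    ∃ (n : ℕ) (ρ : Representation ℂ G (Fin n → ℂ)),
      ∀ g : G, (ψ : G → ℂ) g = (ψ : G → ℂ) 1 ↔ ρ g = LinearMap.id := by
  obtain ⟨n, ρ, _, hχ⟩ := ψ.2
  refine ⟨n, ρ, fun g => ?_⟩
  rw [← char_eq_finrank_iff, ← hχ, Representation.char_one]

/-- The kernel of an irreducible character. -/
noncomputable def charKer [Finite G] (ψ : IrrCharacter G) : Subgroup G where
  carrier := {g | (ψ : G → ℂ) g = (ψ : G → ℂ) 1}
  one_mem' := rfl
  mul_mem' := by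
    intro a b ha hb
    obtain ⟨n, ρ, h⟩ := exists_rep_ker ψ
    simp only [Set.mem_ofPred_eq] at ha hb ⊢
    rw [h] at ha hb ⊢
    rw [map_mul, ha, hb]
    rfl
  inv_mem' := by
    intro a ha
    obtain ⟨n, ρ, h⟩ := exists_rep_ker ψ
    simp only [Set.mem_ofPred_eq] at ha ⊢
    rw [h] at ha ⊢
    have h1 : ρ a⁻¹ * ρ a = 1 := by rw [← map_mul, inv_mul_cancel, map_one]
    rw [ha] at h1
    have h2 : ρ a⁻¹ * LinearMap.id = ρ a⁻¹ := mul_one _
    rw [← h2, h1]
    rfl

theorem mem_charKer [Finite G] (ψ : IrrCharacter G) (g : G) :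
    g ∈ charKer ψ ↔ (ψ : G → ℂ) g = (ψ : G → ℂ) 1 := Iff.rfl

instance charKer_normal [Finite G] (ψ : IrrCharacter G) : (charKer ψ).Normal := by
  constructor
  intro n hn g
  rw [mem_charKer] at hn ⊢
  rw [← hn]
  exact isClassFunction_irr ψ n g

/-- If `χ` is constant on the subgroup `N`, the trivial character of `N` is a constituent of
its restriction. -/
theorem classInner_restrict_triv_ne_zero [Fintype G] (N : Subgroup G) [Fintype N]
    (χ : IrrCharacter G) (h : ∀ n ∈ N, (χ : G → ℂ) n = (χ : G → ℂ) 1) :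
    classInner (fun n : N => (χ : G → ℂ) n) (fun _ : N => (1 : ℂ)) ≠ 0 := by
  unfold classInner
  have h1 : ∑ g : N, (χ : G → ℂ) g * (starRingEnd ℂ) (1 : ℂ) =
      (Nat.card N : ℂ) * (χ : G → ℂ) 1 := by
    rw [Finset.sum_congr rfl (fun g _ => by rw [h g g.2, map_one, mul_one])]
    rw [Finset.sum_const, Finset.card_univ, nsmul_eq_mul, Nat.card_eq_fintype_card]
  rw [h1]
  have hcard : (Nat.card N : ℂ) ≠ 0 := by
    have : 0 < Nat.card N := Nat.card_pos
    exact_mod_cast this.ne'
  rw [← mul_assoc, inv_mul_cancel₀ hcard, one_mul]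
  exact irr_one_ne_zero χ

end Cfsg.Agent.Helper5
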