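import Cfsg.Agent.Helper5.TDDefs
import Cfsg.Agent.Helper29.SchurPE

set_option autoImplicit false

/-! # S4460 piece DX2: in Case X, `G' ≤ P` -/

namespace Cfsg.Agent.Helper5.TD

open Cfsg Cfsg.Agent.Helper24 Cfsg.Agent.Helper29.TwoDeg
open scoped ComplexConjugate commutatorElement

universe u

variable {G : Type u} [Group G] [Finite G]

/-- Removing the `p`-part: if `P` is a normal `p`-subgroup of index prime to `p` and `a ∉ P`, then
`b = a ^ |P|` has order prime to `p` and `b ∉ P`. -/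
theorem pow_card_not_mem {p : ℕ} (hp : p.Prime) (P : Subgroup G) [P.Normal]
    (hPp : IsPGroup p P) (hidx : ¬ p ∣ P.index) (a : G) (ha : a ∉ P) :
    (orderOf (a ^ Nat.card P)).Coprime p ∧ a ^ Nat.card P ∉ P := by
  have : Fact p.Prime := ⟨hp⟩
  obtain ⟨k, hk⟩ := IsPGroup.iff_card.mp hPp
  have hcopi : (P.index).Coprime p := (Nat.Coprime.symm ((Nat.Prime.coprime_iff_not_dvd hp).mpr hidx))
  constructor
  · have h1 : (a ^ Nat.card P) ^ P.index = 1 := by
      rw [← pow_mul, Subgroup.card_mul_index, pow_card_eq_one']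
    have h2 : orderOf (a ^ Nat.card P) ∣ P.index := orderOf_dvd_of_pow_eq_one h1
    exact Nat.Coprime.coprime_dvd_left h2 hcopi
  · intro hb
    apply ha
    have h1 : ((a : G ⧸ P)) ^ Nat.card P = 1 := by
      rw [← QuotientGroup.mk_pow]
      exact (QuotientGroup.eq_one_iff _).mpr hb
    have h2 : ((a : G ⧸ P)) ^ P.index = 1 := by
      rw [Subgroup.index_eq_card]
      exact pow_card_eq_one'
    have h3 : orderOf (a : G ⧸ P) ∣ Nat.gcd (Nat.card P) P.index :=
      Nat.dvd_gcd (orderOf_dvd_of_pow_eq_one h1) (orderOf_dvd_of_pow_eq_one h2)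
    have h4 : Nat.gcd (Nat.card P) P.index = 1 := by
      rw [hk]
      exact Nat.Coprime.pow_left k hcopi.symm
    rw [h4, Nat.dvd_one, orderOf_eq_one_iff] at h3
    exact (QuotientGroup.eq_one_iff a).mp h3

/-- Final contradiction in Case X: a subgroup `A₁ ≰ P` acting trivially on `P` modulo `⁅P, P⁆`. -/
theorem caseX_final {p : ℕ} (hp : p.Prime) (P : Subgroup G) [P.Normal]
    (hPp : IsPGroup p P) (hidx : ¬ p ∣ P.index)
    (hcentb : ∀ b : G, (orderOf b).Coprime p → (∀ k ∈ P, b * k * b⁻¹ * k⁻¹ ∈ ⁅P, P⁆) → b ∈ P)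
    (A₁ : Subgroup G) (hA : ¬ A₁ ≤ P)
    (hc : ∀ x ∈ A₁, ∀ k ∈ P, x * k * x⁻¹ * k⁻¹ ∈ ⁅P, P⁆) : False := by
  obtain ⟨a, haA, haP⟩ := SetLike.not_le_iff_exists.mp hA
  obtain ⟨hcop, hb⟩ := pow_card_not_mem hp P hPp hidx a haP
  exact hb (hcentb _ hcop (hc _ (A₁.pow_mem haA _)))

theorem caseX_comm_le {m n p : ℕ} (td : ThreeDeg G m n) (hp : p.Prime)
    (P : Subgroup G) [P.Normal] (hPp : IsPGroup p P)
    (hnb : ¬ ∀ a ∈ P, ∀ b ∈ P, a * b = b * a)
    (hquot : ∀ χ : IrrCharacter G, P ≤ irrKer χ → irrDeg χ = 1 ∨ irrDeg χ = m)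
    (hidx : ¬ p ∣ P.index)
    (hlinc : ∀ (N : Subgroup G), N.Normal → ∀ χ : IrrCharacter G, ⁅N, N⁆ ≤ irrKer χ →
      irrDeg χ ∣ N.index)
    (hcentb : ∀ b : G, (orderOf b).Coprime p → (∀ k ∈ P, b * k * b⁻¹ * k⁻¹ ∈ ⁅P, P⁆) → b ∈ P) :
    commutator G ≤ P := by
  classical
  have : Fintype G := Fintype.ofFinite G
  have : Fintype P := Fintype.ofFinite P
  have : Fintype (G ⧸ P) := Fintype.ofFinite _
  have hfact : Fact p.Prime := ⟨hp⟩
  by_contra hGP
  have hm1 := td.one_lt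
  have hmn := td.lt
  -- Step 1: a character of degree m with P in its kernel
  have hnaQ := quot_nonabelian P hGP
  obtain ⟨η, hη⟩ := exists_nonlinear hnaQ
  obtain ⟨χ₀, hχ₀⟩ : ∃ χ₀ : IrrCharacter G, χ₀ = irrInflate P η := ⟨_, rfl⟩
  have hPχ₀ : P ≤ irrKer χ₀ := by
    rw [hχ₀]; exact Cfsg.Agent.Helper29.GalConj.le_irrKer_irrInflate P η
  have hdegχ₀ : irrDeg χ₀ = m := by
    have h1 : irrDeg χ₀ = irrDeg η := by
      rw [hχ₀]; exact Cfsg.Agent.Helper29.GalConj.irrDeg_irrInflate P η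
    rcases hquot χ₀ hPχ₀ with h2 | h2
    · rw [h1] at h2; exact absurd h2 hη
    · exact h2
  have hDP : ⁅P, P⁆ ≤ P := Subgroup.commutator_le_right P P
  -- Step 2: p ∤ m
  have hmidx : m ∣ P.index := by
    rw [← hdegχ₀]
    exact hlinc P inferInstance χ₀ (hDP.trans hPχ₀)
  have hpm : ¬ p ∣ m := fun h => hidx (h.trans hmidx)
  -- Step 3: p ∣ n
  have hpn : p ∣ n := by
    have hnaP : ¬ commutator P ≤ (⊥ : Subgroup P) := by
      intro hle
      apply hnb
      intro a ha b hb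
      have h1 : ⁅(⟨a, ha⟩ : P), ⟨b, hb⟩⁆ ∈ commutator P :=
        Subgroup.commutator_mem_commutator (Subgroup.mem_top _) (Subgroup.mem_top _)
      have h2 := hle h1
      rw [Subgroup.mem_bot, commutatorElement_eq_one_iff_commute] at h2
      exact congrArg Subtype.val h2
    obtain ⟨θ, hθ⟩ := exists_nonlinear hnaP
    obtain ⟨k, hk⟩ := IsPGroup.iff_card.mp hPp
    have hθdvd : irrDeg θ ∣ p ^ k := by rw [← hk]; exact Cfsg.Agent.Helper29.TwoDeg.irrDeg_dvd_card θ
    obtain ⟨j, -, hj⟩ := (Nat.dvd_prime_pow hp).mp hθdvd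
    have hpθ : p ∣ irrDeg θ := by
      rw [hj]
      rcases Nat.eq_zero_or_pos j with h0 | h0
      · rw [h0, pow_zero] at hj; exact absurd hj hθ
      · exact dvd_pow_self p (by omega)
    obtain ⟨χ, hχ⟩ := exists_irr_over P θ
    obtain ⟨e, he, -⟩ := irrDeg_dvd_of_over P χ θ hχ
    have hpχ : p ∣ irrDeg χ := by rw [he]; exact Dvd.dvd.mul_left hpθ e
    rcases td.cases χ with h1 | h1 | h1
    · rw [h1] at hpχ
      exact absurd (Nat.dvd_one.mp hpχ) hp.one_lt.ne'
    · rw [h1] at hpχ; exact absurd hpχ hpm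
    · rw [h1] at hpχ; exact hpχ
  -- Step 4: the quotient by D = ⁅P, P⁆ has degrees 1, m
  set D : Subgroup G := ⁅P, P⁆ with hD
  have hDn : D.Normal := inferInstance
  have : Fintype (G ⧸ D) := Fintype.ofFinite _
  have hDdeg : ∀ χ : IrrCharacter G, D ≤ irrKer χ → irrDeg χ = 1 ∨ irrDeg χ = m := by
    intro χ hχ
    have h1 : irrDeg χ ∣ P.index := hlinc P inferInstance χ hχ
    rcases td.cases χ with h2 | h2 | h2
    · left; exact h2
    · right; exact h2
    · exfalso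
      rw [h2] at h1
      exact hidx (hpn.trans h1)
  have hcd : ∀ η : IrrCharacter (G ⧸ D), charDegree (η : G ⧸ D → ℂ) = 1 ∨
      charDegree (η : G ⧸ D → ℂ) = m := by
    intro η
    rw [charDegree_irr]
    have := hDdeg (irrInflate D η) (Cfsg.Agent.Helper29.GalConj.le_irrKer_irrInflate D η)
    rwa [Cfsg.Agent.Helper29.GalConj.irrDeg_irrInflate] at this
  have hexm : ∃ η : IrrCharacter (G ⧸ D), charDegree (η : G ⧸ D → ℂ) = m := by
    obtain ⟨η₀, hη₀⟩ := Cfsg.Agent.Helper29.SchurP.exists_irr_quot D χ₀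
      (fun x hx => (mem_irrKer χ₀ x).mp (hPχ₀ (hDP hx)))
    refine ⟨η₀, ?_⟩
    rw [charDegree_irr]
    have h1 : (η₀ : G ⧸ D → ℂ) 1 = (χ₀ : G → ℂ) 1 := by
      have := hη₀ 1
      rwa [map_one] at this
    rw [irrDeg_spec, irrDeg_spec, hdegχ₀] at h1
    exact_mod_cast h1
  -- commutators vanish modulo D
  have hcommD : ∀ x y : G, (x : G ⧸ D) * (y : G ⧸ D) = (y : G ⧸ D) * (x : G ⧸ D) →
      x * y * x⁻¹ * y⁻¹ ∈ D := by
    intro x y hxy
    have h1 : ((x * y * x⁻¹ * y⁻¹ : G) : G ⧸ D) = 1 := by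
      rw [QuotientGroup.mk_mul, QuotientGroup.mk_mul, QuotientGroup.mk_mul, QuotientGroup.mk_inv,
        QuotientGroup.mk_inv, hxy]
      group
    exact (QuotientGroup.eq_one_iff _).mp h1
  rcases Cfsg.Agent.Helper29.TwoDeg.two_degrees_structure m hcd hexm (by omega) with
    ⟨Ah, hAhn, hAhab, hAhidx⟩ | ⟨r, e, hr, hme, Rh, Ah, hRhn, hAhn, hRhp, hAhab, hinf, hsup⟩
  · -- (i) abelian normal subgroup of index m
    set A₁ : Subgroup G := Ah.comap (QuotientGroup.mk' D) with hA₁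
    have hA₁n : A₁.Normal := hAhn.comap _
    have hA₁idx : A₁.index = m := by
      rw [hA₁, Subgroup.index_comap_of_surjective _ (QuotientGroup.mk'_surjective D), hAhidx]
    have hA₁c : ∀ x ∈ A₁, ∀ y ∈ A₁, x * y * x⁻¹ * y⁻¹ ∈ D := by
      intro x hx y hy
      exact hcommD x y (hAhab _ hx _ hy)
    -- B = A₁ ⊔ P has ⁅B, B⁆ ≤ P
    set B : Subgroup G := A₁ ⊔ P with hB
    have hBn : B.Normal := Subgroup.sup_normal A₁ P
    have hBB : ⁅B, B⁆ ≤ P := by
      rw [Subgroup.commutator_le]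
      intro x hx y hy
      rw [hB, Subgroup.mem_sup_of_normal_right] at hx hy
      obtain ⟨a, ha, u, hu, rfl⟩ := hx
      obtain ⟨a', ha', u', hu', rfl⟩ := hy
      have h1 : ((⁅a * u, a' * u'⁆ : G) : G ⧸ P) = ((⁅a, a'⁆ : G) : G ⧸ P) := by
        have hu1 : ((u : G) : G ⧸ P) = 1 := (QuotientGroup.eq_one_iff u).mpr hu
        have hu1' : ((u' : G) : G ⧸ P) = 1 := (QuotientGroup.eq_one_iff u').mpr hu'
        rw [commutatorElement_def, commutatorElement_def]
        simp only [QuotientGroup.mk_mul, QuotientGroup.mk_inv, hu1, hu1', mul_one]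
      have h2 : ⁅a, a'⁆ ∈ P := by
        rw [commutatorElement_def]
        exact hDP (hA₁c a ha a' ha')
      have h3 : ((⁅a * u, a' * u'⁆ : G) : G ⧸ P) = 1 := by
        rw [h1]; exact (QuotientGroup.eq_one_iff _).mpr h2
      exact (QuotientGroup.eq_one_iff _).mp h3
    have hmB : m ∣ B.index := by
      rw [← hdegχ₀]
      exact hlinc B hBn χ₀ (hBB.trans hPχ₀)
    have hA₁B : A₁ ≤ B := le_sup_left
    have hBA₁ : B.index ∣ A₁.index := Subgroup.index_dvd_of_le hA₁B
    rw [hA₁idx] at hBA₁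
    have hBidx : B.index = m := Nat.dvd_antisymm hBA₁ hmB
    have hrel : A₁.relIndex B = 1 := by
      have h1 := Subgroup.relIndex_mul_index hA₁B
      rw [hBidx, hA₁idx] at h1
      have hmpos : 0 < m := by omega
      exact Nat.eq_of_mul_eq_mul_right hmpos (by rw [h1, one_mul])
    have hBleA₁ : B ≤ A₁ := Subgroup.relIndex_eq_one.mp hrel
    have hPA₁ : P ≤ A₁ := le_sup_right.trans hBleA₁
    apply caseX_final hp P hPp hidx hcentb A₁
    · -- A₁ ≰ P
      intro hle
      have hAP : A₁ = P := le_antisymm hle hPA₁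
      have hPidx : P.index = m := by rw [← hAP]; exact hA₁idx
      have : Fintype (IrrCharacter (G ⧸ P)) := Fintype.ofFinite _
      have hsum := sum_irrDeg_sq (G := G ⧸ P)
      have h1 : irrDeg η ^ 2 ≤ ∑ χ : IrrCharacter (G ⧸ P), irrDeg χ ^ 2 :=
        Finset.single_le_sum (f := fun χ : IrrCharacter (G ⧸ P) => irrDeg χ ^ 2)
          (fun _ _ => Nat.zero_le _) (Finset.mem_univ η)
      have h2 : irrDeg η = m := by
        have h3 : irrDeg χ₀ = irrDeg η := by
          rw [hχ₀]; exact Cfsg.Agent.Helper29.GalConj.irrDeg_irrInflate P η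
        rw [← h3]; exact hdegχ₀
      rw [hsum, h2, ← Subgroup.index_eq_card, hPidx] at h1
      nlinarith
    · intro x hx k hk
      exact hA₁c x hx k (hPA₁ hk)
  · -- (ii) nilpotent alternative
    have hrp : r ≠ p := by
      rintro rfl
      apply hpm
      rw [hme]
      rcases Nat.eq_zero_or_pos e with h0 | h0
      · rw [h0, pow_zero] at hme; omega
      · exact dvd_pow_self r (by omega)
    have hdisj : Disjoint Rh Ah := disjoint_iff.mpr hinf
    have hcomm : ∀ x ∈ Rh, ∀ y ∈ Ah, x * y = y * x := fun x hx y hy =>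
      Subgroup.commute_of_normal_of_disjoint Rh Ah hRhn hAhn hdisj x y hx hy
    -- images of elements of P are central
    have hcentral : ∀ k ∈ P, ∀ z : G ⧸ D, z * (k : G ⧸ D) = (k : G ⧸ D) * z := by
      intro k hk z
      have hkt : ((k : G) : G ⧸ D) ∈ Rh ⊔ Ah := by rw [hsup]; exact Subgroup.mem_top _
      rw [Subgroup.mem_sup_of_normal_right] at hkt
      obtain ⟨ρ, hρ, α, hα, hρα⟩ := hkt
      -- ρ = 1
      obtain ⟨k', hk'⟩ := IsPGroup.iff_card.mp hPp
      have hkpow : k ^ (p ^ k') = 1 := by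
        have := pow_card_eq_one' (G := P) (x := ⟨k, hk⟩)
        rw [hk'] at this
        exact congrArg Subtype.val this
      have hpow : (ρ * α) ^ (p ^ k') = 1 := by
        rw [hρα, ← QuotientGroup.mk_pow, hkpow]; rfl
      have hρα' : Commute ρ α := hcomm ρ hρ α hα
      rw [hρα'.mul_pow] at hpow
      have hρpow : ρ ^ (p ^ k') ∈ Rh ⊓ Ah := by
        refine ⟨Rh.pow_mem hρ _, ?_⟩
        have : ρ ^ (p ^ k') = (α ^ (p ^ k'))⁻¹ := eq_inv_of_mul_eq_one_left hpow
        rw [this]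
        exact Ah.inv_mem (Ah.pow_mem hα _)
      rw [hinf, Subgroup.mem_bot] at hρpow
      have hρ1 : ρ = 1 := by
        have : Fact r.Prime := ⟨hr⟩
        obtain ⟨i, hi⟩ := (IsPGroup.iff_orderOf.mp hRhp) ⟨ρ, hρ⟩
        have h1 : orderOf ρ = r ^ i := by
          rw [← hi]; exact (Subgroup.orderOf_mk ρ hρ).symm
        have h2 : orderOf ρ ∣ p ^ k' := orderOf_dvd_of_pow_eq_one hρpow
        rw [h1] at h2
        have h3 : i = 0 := by
          by_contra hi0
          have h4 : r ∣ p ^ k' := (dvd_pow_self r hi0).trans h2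
          have h5 := (Nat.prime_dvd_prime_iff_eq hr hp).mp (hr.dvd_of_dvd_pow h4)
          exact hrp h5
        rw [h3, pow_zero] at h1
        exact orderOf_eq_one_iff.mp h1
      rw [hρ1, one_mul] at hρα
      rw [← hρα]
      have hzt : z ∈ Rh ⊔ Ah := by rw [hsup]; exact Subgroup.mem_top _
      rw [Subgroup.mem_sup_of_normal_right] at hzt
      obtain ⟨ρ', hρ', α', hα', rfl⟩ := hzt
      have h1 : ρ' * α = α * ρ' := hcomm ρ' hρ' α hα
      have h2 : α' * α = α * α' := hAhab α' hα' α hα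
      calc ρ' * α' * α = ρ' * (α * α') := by rw [mul_assoc, h2]
        _ = (ρ' * α) * α' := by rw [mul_assoc]
        _ = α * (ρ' * α') := by rw [h1, mul_assoc]
    apply caseX_final hp P hPp hidx hcentb ⊤
    · intro hle
      exact hGP (le_top.trans hle)
    · intro x _ k hk
      exact hcommD x k ((hcentral k hk (x : G ⧸ D)))

end Cfsg.Agent.Helper5.TD
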