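import Cfsg.Agent.Helper5.TDDefs

set_option autoImplicit false

/-! # S4460 pieces FQ, NFR -/

namespace Cfsg.Agent.Helper5.TD

open Cfsg Cfsg.Agent.Helper24 Cfsg.Agent.Helper29.TwoDeg
open scoped ComplexConjugate commutatorElement

universe u

variable {G : Type u} [Group G] [Finite G]

theorem frob_extend (K : Subgroup G) [K.Normal]
    (hab : ∀ a ∈ commutator (G ⧸ K), ∀ b ∈ commutator (G ⧸ K), a * b = b * a)
    (hfpf : ∀ g : G ⧸ K, g ∉ commutator (G ⧸ K) → ∀ x ∈ commutator (G ⧸ K),
      g * x = x * g → x = 1)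
    (hle : (commutator (G ⧸ K)).index ≤ Nat.card (commutator (G ⧸ K)))
    (ψ : IrrCharacter (preComm K))
    (hcop : (irrDeg ψ).Coprime (Nat.card (commutator (G ⧸ K)))) :
    ∃ χ : IrrCharacter G, irrDeg χ = (commutator (G ⧸ K)).index * irrDeg ψ := by
  classical
  have : Fintype G := Fintype.ofFinite G
  have : Fintype (G ⧸ K) := Fintype.ofFinite _
  set M := commutator (G ⧸ K) with hM
  have hNn : (preComm K).Normal := inferInstance
  have : Fintype (preComm K) := Fintype.ofFinite _
  have : Fintype (K.subgroupOf (preComm K)) := Fintype.ofFinite _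
  have : Fintype (IrrCharacter (K.subgroupOf (preComm K))) := Fintype.ofFinite _
  have hNidx : (preComm K).index = M.index := by rw [index_preComm]
  have hrel : (K.subgroupOf (preComm K)).index = Nat.card M := relIndex_preComm K
  let _ : CommGroup M := { (inferInstance : Group M) with
    mul_comm := fun a b => Subtype.ext (hab a a.2 b b.2) }
  let π : (preComm K) →* M := ((QuotientGroup.mk' K).comp (preComm K).subtype).codRestrict M (fun n => n.2)
  have hπ : Function.Surjective π := by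
    intro w
    obtain ⟨g, hg⟩ := QuotientGroup.mk'_surjective K (w : G ⧸ K)
    refine ⟨⟨g, ?_⟩, ?_⟩
    · show (QuotientGroup.mk' K) g ∈ M
      rw [hg]; exact w.2
    · apply Subtype.ext
      exact hg
  have hπK : ∀ n : (preComm K), (n : G) ∈ K → π n = 1 := by
    intro n hn
    apply Subtype.ext
    exact (QuotientGroup.eq_one_iff (n : G)).mpr hn
  have hfpfG := fpf_transfer K hfpf
  -- a constituent of the restriction to K
  have hres : IsCharacter (K.subgroupOf (preComm K)) (fun k => (ψ : (preComm K) → ℂ) k) :=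
    Helper8.isCharacter_restrict _ (IsIrrCharacter.isCharacter ψ.2)
  have hres0 : (fun k : K.subgroupOf (preComm K) => (ψ : (preComm K) → ℂ) k) ≠ 0 := by
    intro h0
    have := congrFun h0 1
    simp only [OneMemClass.coe_one, Pi.zero_apply] at this
    exact irr_one_ne_zero ψ this
  obtain ⟨φ, hφ⟩ := IsCharacter.exists_irr_constituent hres hres0
  obtain ⟨e, he, hedvd⟩ := irrDeg_dvd_of_over (K.subgroupOf (preComm K)) ψ φ hφ
  have he1 : e = 1 := by
    have h1 : e ∣ irrDeg ψ := Dvd.intro _ he.symm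
    rw [hrel] at hedvd
    have := Nat.dvd_gcd h1 hedvd
    rw [hcop] at this
    exact Nat.dvd_one.mp this
  rw [he1, one_mul] at he
  have hψK : IsIrrCharacter (K.subgroupOf (preComm K)) (fun k => (ψ : (preComm K) → ℂ) k) := by
    have := IsCharacter.eq_irr_of_constituent_of_deg hres φ hφ (by
      show (ψ : (preComm K) → ℂ) ((1 : K.subgroupOf (preComm K)) : (preComm K)) = (φ : K.subgroupOf (preComm K) → ℂ) 1
      rw [OneMemClass.coe_one, irrDeg_spec, irrDeg_spec, he])
    rw [this]; exact φ.2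
  obtain ⟨lam, hlam⟩ := exists_twist_inertia_eq (preComm K) K π hπ hπK hfpfG
    (by rw [hNidx]; exact hle) ψ hψK
  set θ : (preComm K) → ℂ := fun n => ((lam (π n) : ℂˣ) : ℂ) * (ψ : (preComm K) → ℂ) n with hθ
  have hθirr : IsIrrCharacter (preComm K) θ := Helper8.isIrrCharacter_linear_mul (lam.comp π) ψ.2
  have hirr := isIrrCharacter_indFun_of_inertia (preComm K) θ hθirr hlam
  have hdeg : indFun (preComm K) θ 1 = ((M.index * irrDeg ψ : ℕ) : ℂ) := by
    rw [Helper5.indFun_apply_one, hθ, hNidx]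
    simp only [map_one, Units.val_one, one_mul]
    rw [irrDeg_spec]
    push_cast
    rfl
  refine ⟨⟨indFun (preComm K) θ, hirr⟩, ?_⟩
  have h3 : indFun (preComm K) θ 1 = ((irrDeg ⟨indFun (preComm K) θ, hirr⟩ : ℕ) : ℂ) :=
    irrDeg_spec ⟨indFun (preComm K) θ, hirr⟩
  rw [hdeg] at h3
  exact_mod_cast h3.symm

theorem frob_quot_degrees {m n : ℕ} (td : ThreeDeg G m n) (hcop : m.Coprime n)
    (K : Subgroup G) [K.Normal]
    (hnum : (∃ η : IrrCharacter (G ⧸ K), irrDeg η = (commutator (G ⧸ K)).index) ∧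
      ((commutator (G ⧸ K)).index).Coprime (Nat.card (commutator (G ⧸ K))) ∧
      1 < (commutator (G ⧸ K)).index)
    (hext : ∀ ψ : IrrCharacter (preComm K),
      (irrDeg ψ).Coprime (Nat.card (commutator (G ⧸ K))) →
      ∃ χ : IrrCharacter G, irrDeg χ = (commutator (G ⧸ K)).index * irrDeg ψ) :
    ∃ g : ℕ, ∀ ψ : IrrCharacter (preComm K), irrDeg ψ = 1 ∨ irrDeg ψ = g := by
  classical
  have : Fintype G := Fintype.ofFinite G
  have : Fintype (preComm K) := Fintype.ofFinite _
  obtain ⟨⟨η, hη⟩, hcopf, hf1⟩ := hnum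
  set f := (commutator (G ⧸ K)).index with hf
  -- `f` is a degree of `G`
  have hfdeg : f = m ∨ f = n := by
    have h1 := td.cases (irrInflate K η)
    rw [Cfsg.Agent.Helper29.GalConj.irrDeg_irrInflate, hη] at h1
    rcases h1 with h1 | h1
    · omega
    · exact h1
  -- `g` is the other degree
  obtain ⟨g, hg, hfg⟩ : ∃ g : ℕ, (∀ χ : IrrCharacter G, irrDeg χ = 1 ∨ irrDeg χ = f ∨ irrDeg χ = g) ∧
      f.Coprime g := by
    rcases hfdeg with h1 | h1
    · exact ⟨n, fun χ => by rw [h1]; exact td.cases χ, by rw [h1]; exact hcop⟩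
    · refine ⟨m, fun χ => ?_, by rw [h1]; exact hcop.symm⟩
      rw [h1]
      have := td.cases χ
      tauto
  refine ⟨g, ?_⟩
  intro ψ
  obtain ⟨χ, hχ⟩ := exists_irr_over (preComm K) ψ
  obtain ⟨e, he, hedvd⟩ := irrDeg_dvd_of_over (preComm K) χ ψ hχ
  rw [index_preComm, ← hf] at hedvd
  have hψpos := irrDeg_pos ψ
  rcases hg χ with h1 | h1 | h1
  · left
    rw [h1] at he
    exact Nat.eq_one_of_mul_eq_one_left he.symm
  · -- degree f
    left
    rw [h1] at he
    have hψdvd : irrDeg ψ ∣ f := Dvd.intro_left _ he.symm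
    have hψcop : (irrDeg ψ).Coprime (Nat.card (commutator (G ⧸ K))) :=
      Nat.Coprime.coprime_dvd_left hψdvd hcopf
    obtain ⟨χ', hχ'⟩ := hext ψ hψcop
    rcases hg χ' with h2 | h2 | h2
    · rw [h2] at hχ'
      exact Nat.eq_one_of_mul_eq_one_left hχ'.symm
    · rw [h2] at hχ'
      have : f * 1 = f * irrDeg ψ := by rw [mul_one]; exact hχ'
      exact (Nat.eq_of_mul_eq_mul_left (by omega) this).symm
    · exfalso
      have hfg' : f ∣ g := by rw [← h2, hχ']; exact dvd_mul_right _ _
      have : f ∣ Nat.gcd f g := Nat.dvd_gcd dvd_rfl hfg'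
      rw [hfg] at this
      have := Nat.dvd_one.mp this
      omega
  · right
    rw [h1] at he
    have hedvd' : e ∣ g := Dvd.intro _ he.symm
    have : e ∣ Nat.gcd f g := Nat.dvd_gcd hedvd hedvd'
    rw [hfg] at this
    have he1 := Nat.dvd_one.mp this
    rw [he1, one_mul] at he
    exact he.symm

end Cfsg.Agent.Helper5.TD
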