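import Cfsg.Agent.Helper5.TDDefs
import Cfsg.Agent.Helper29.SchurPE
import Cfsg.Agent.Helper24.Ito

set_option autoImplicit false

/-! # S4460 pieces LINC, DBG -/

namespace Cfsg.Agent.Helper5.TD

open Cfsg Cfsg.Agent.Helper24 Cfsg.Agent.Helper29.TwoDeg
open scoped ComplexConjugate commutatorElement

universe u

variable {G : Type u} [Group G] [Finite G]

theorem irrDeg_dvd_index_of_commutator_le (N : Subgroup G) [N.Normal] (χ : IrrCharacter G)
    (h : ⁅N, N⁆ ≤ irrKer χ) : irrDeg χ ∣ N.index := by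
  classical
  have : Fintype G := Fintype.ofFinite G
  set D : Subgroup G := ⁅N, N⁆ with hD
  have hDn : D.Normal := Subgroup.commutator_normal N N
  have hDN : D ≤ N := Subgroup.commutator_le_right N N
  obtain ⟨χb, hχb⟩ := Cfsg.Agent.Helper29.SchurP.exists_irr_quot D χ
    (fun n hn => (mem_irrKer χ n).mp (h hn))
  have : Fintype (G ⧸ D) := Fintype.ofFinite _
  set A : Subgroup (G ⧸ D) := N.map (QuotientGroup.mk' D) with hA
  have hAn : A.Normal :=
    Subgroup.Normal.map inferInstance _ (QuotientGroup.mk'_surjective D)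
  have hab : ∀ a ∈ A, ∀ b ∈ A, a * b = b * a := by
    rintro _ ⟨x, hx, rfl⟩ _ ⟨y, hy, rfl⟩
    have h1 : ⁅x, y⁆ ∈ D := Subgroup.commutator_mem_commutator hx hy
    have h2 : (QuotientGroup.mk' D) ⁅x, y⁆ = 1 := (QuotientGroup.eq_one_iff _).mpr h1
    rw [map_commutatorElement, commutatorElement_eq_one_iff_commute] at h2
    exact h2
  obtain ⟨d, hd, hdvd⟩ := ito_character A hab (χb : G ⧸ D → ℂ) χb.2
  have hidx : A.index = N.index := by
    rw [hA]
    exact Subgroup.index_map_eq N (QuotientGroup.mk'_surjective D)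
      (by rw [QuotientGroup.ker_mk']; exact hDN)
  have h1 : (χb : G ⧸ D → ℂ) 1 = (χ : G → ℂ) 1 := by
    have := hχb 1
    rwa [map_one] at this
  rw [h1, irrDeg_spec] at hd
  have : irrDeg χ = d := by exact_mod_cast hd
  rw [this, ← hidx]
  exact hdvd

theorem fitting_quot_degrees [Group.IsSolvable G] {m n : ℕ} (td : ThreeDeg G m n)
    (hF : fittingSubgroup G ≠ ⊤) :
    ∀ χ : IrrCharacter G, fittingSubgroup G ≤ irrKer χ → irrDeg χ = 1 ∨ irrDeg χ = m := by
  classical
  intro χ hle
  by_cases htop : irrKer χ = ⊤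
  · left
    rw [irrDeg_eq_one_iff]
    by_contra hne
    have hne' : irrDeg χ ≠ 1 := fun h => hne ((irrDeg_eq_one_iff χ).mp h)
    have h1 := irrDeg_dvd_index_of_commutator_le (⊤ : Subgroup G) χ (by rw [htop]; exact le_top)
    rw [Subgroup.index_top] at h1
    exact hne' (Nat.dvd_one.mp h1)
  · have hBG : ∃ ψ : IrrCharacter G, irrDeg χ < irrDeg ψ ∧ irrKer ψ < irrKer χ := by
      by_cases hK : irrKer χ = fittingSubgroup G
      · exact Cfsg.Agent.Helper29.BG.caseB χ hK inferInstance htop
      · apply Cfsg.Agent.Helper29.BG.caseA χ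
        intro hnil
        apply hK
        exact le_antisymm (Cfsg.Agent.Helper7.le_fittingSubgroup inferInstance hnil) hle
    obtain ⟨ψ, hψ, -⟩ := hBG
    have h1 := td.cases χ
    have h2 := td.cases ψ
    have := td.one_lt
    have := td.lt
    omega

end Cfsg.Agent.Helper5.TD
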