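import Cfsg.Agent.Helper5.TDDefs

set_option autoImplicit false

/-! # S4460 piece NUM: numerics of a Frobenius-type quotient -/

namespace Cfsg.Agent.Helper5.TD

open Cfsg Cfsg.Agent.Helper24 Cfsg.Agent.Helper29.TwoDeg
open scoped ComplexConjugate commutatorElement

universe u

/-- Burnside count for a normal abelian subgroup `M` on which the elements outside `M` act
fixed-point-freely: `|M : X|` divides `|M| - 1`. -/
theorem index_dvd_card_sub_one {X : Type u} [Group X] [Finite X] (M : Subgroup X) [hMn : M.Normal]
    (hab : ∀ a ∈ M, ∀ b ∈ M, a * b = b * a)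
    (hfpf : ∀ g : X, g ∉ M → ∀ x ∈ M, g * x = x * g → x = 1) :
    M.index ∣ Nat.card M - 1 := by
  classical
  have : Fintype X := Fintype.ofFinite X
  have : Fintype M := Fintype.ofFinite M
  have : ∀ g : ConjAct X, Fintype (MulAction.fixedBy M g) := fun g => Fintype.ofFinite _
  have : Fintype (MulAction.orbitRel.Quotient (ConjAct X) M) := Fintype.ofFinite _
  have h := MulAction.sum_card_fixedBy_eq_card_orbits_mul_card_group (ConjAct X) M
  set k := Fintype.card (MulAction.orbitRel.Quotient (ConjAct X) M) with hk
  have hfix : ∀ g : ConjAct X, Fintype.card (MulAction.fixedBy M g) =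
      if ConjAct.ofConjAct g ∈ M then Nat.card M else 1 := by
    intro g
    split_ifs with hg
    · rw [← Nat.card_eq_fintype_card]
      have : MulAction.fixedBy M g = Set.univ := by
        ext x
        simp only [MulAction.mem_fixedBy, Set.mem_univ, iff_true]
        apply Subtype.ext
        rw [ConjAct.Subgroup.val_conj_smul, ConjAct.smul_def]
        rw [hab _ hg _ x.2]
        group
      rw [this, Nat.card_congr (Equiv.Set.univ M)]
    · rw [← Nat.card_eq_fintype_card]
      have : MulAction.fixedBy M g = {1} := by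
        ext x
        simp only [MulAction.mem_fixedBy, Set.mem_singleton_iff]
        constructor
        · intro hx
          have h1 := congrArg Subtype.val hx
          rw [ConjAct.Subgroup.val_conj_smul, ConjAct.smul_def] at h1
          have h2 : ConjAct.ofConjAct g * (x : X) = (x : X) * ConjAct.ofConjAct g := by
            calc ConjAct.ofConjAct g * (x : X)
                = (ConjAct.ofConjAct g * (x : X) * (ConjAct.ofConjAct g)⁻¹) *
                    ConjAct.ofConjAct g := by group
              _ = (x : X) * ConjAct.ofConjAct g := by rw [h1]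
          exact Subtype.ext (hfpf _ hg x x.2 h2)
        · rintro rfl
          exact smul_one g
      rw [this]
      simp
  simp_rw [hfix] at h
  rw [Finset.sum_ite, Finset.sum_const, Finset.sum_const, smul_eq_mul, smul_eq_mul, mul_one] at h
  have hc1 : (Finset.univ.filter (fun g : ConjAct X => ConjAct.ofConjAct g ∈ M)).card =
      Nat.card M := by
    rw [Nat.card_eq_fintype_card, ← Fintype.card_subtype]
    exact Fintype.card_congr
      { toFun := fun g => ⟨ConjAct.ofConjAct g.1, g.2⟩
        invFun := fun x => ⟨ConjAct.toConjAct x.1, by simp [x.2]⟩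
        left_inv := fun g => by simp
        right_inv := fun x => by simp }
  have hc2 : (Finset.univ.filter (fun g : ConjAct X => ¬ ConjAct.ofConjAct g ∈ M)).card =
      Nat.card X - Nat.card M := by
    have h1 := Finset.card_filter_add_card_filter_not
      (s := (Finset.univ : Finset (ConjAct X))) (fun g : ConjAct X => ConjAct.ofConjAct g ∈ M)
    rw [hc1, Finset.card_univ] at h1
    have h2 : Fintype.card (ConjAct X) = Nat.card X := by
      rw [Nat.card_eq_fintype_card]
      exact Fintype.card_congr ConjAct.ofConjAct.toEquiv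
    omega
  rw [hc1, hc2] at h
  have h2 : Fintype.card (ConjAct X) = Nat.card X := by
    rw [Nat.card_eq_fintype_card]
    exact Fintype.card_congr ConjAct.ofConjAct.toEquiv
  rw [h2] at h
  have hXM : Nat.card X = Nat.card M * M.index := (Subgroup.card_mul_index M).symm
  have hMpos : 0 < Nat.card M := Nat.card_pos
  have hipos : 0 < M.index := Nat.pos_of_ne_zero Subgroup.index_ne_zero_of_finite
  set c := Nat.card M with hc
  set f := M.index with hf
  -- c*c + (c*f - c) = k * (c * f)
  rw [hXM] at h
  have hkpos : 0 < k := by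
    rcases Nat.eq_zero_or_pos k with h0 | h0
    · rw [h0, zero_mul] at h
      have : 0 < c * c := Nat.mul_pos hMpos hMpos
      omega
    · exact h0
  have hcf : c ≤ c * f := Nat.le_mul_of_pos_right c hipos
  have h3 : c * (c + f - 1) = c * (k * f) := by
    have : c * (c + f - 1) = c * c + (c * f - c) := by
      have h4 : c + f - 1 = c + (f - 1) := by omega
      rw [h4, Nat.mul_add, Nat.mul_sub, mul_one]
    rw [this, h]; ring
  have h4 : c + f - 1 = k * f := Nat.eq_of_mul_eq_mul_left hMpos h3
  refine ⟨k - 1, ?_⟩
  have h5 : k * f = (k - 1) * f + f := by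
    have : k = (k - 1) + 1 := by omega
    conv_lhs => rw [this]
    ring
  rw [mul_comm f (k - 1)]
  omega

theorem frob_numerics {X : Type u} [Group X] [Finite X]
    (hna : ¬ commutator X ≤ (⊥ : Subgroup X))
    (hab : ∀ a ∈ commutator X, ∀ b ∈ commutator X, a * b = b * a)
    (hfpf : ∀ g : X, g ∉ commutator X → ∀ x ∈ commutator X, g * x = x * g → x = 1) :
    (∃ η : IrrCharacter X, irrDeg η = (commutator X).index) ∧
      (commutator X).index ∣ Nat.card (commutator X) - 1 ∧
      1 < (commutator X).index ∧ 1 < Nat.card (commutator X) := by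
  classical
  have : Fintype X := Fintype.ofFinite X
  have : Fintype (IrrCharacter X) := Fintype.ofFinite _
  set M := commutator X with hM
  have hMn : M.Normal := inferInstance
  have : Fintype M := Fintype.ofFinite _
  let _ : CommGroup M := { (inferInstance : Group M) with
    mul_comm := fun a b => Subtype.ext (hab a a.2 b b.2) }
  -- a nontrivial linear character of M
  have hMne : M ≠ ⊥ := fun h0 => hna (by rw [h0])
  obtain ⟨a, ha, ha1⟩ : ∃ a ∈ M, a ≠ 1 := by
    by_contra hcon
    push Not at hcon
    apply hMne
    rw [eq_bot_iff]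
    intro x hx
    rw [Subgroup.mem_bot]; exact hcon x hx
  have : HasEnoughRootsOfUnity ℂ (Monoid.exponent M) := by
    have : NeZero ((Monoid.exponent M : ℕ) : ℂ) :=
      ⟨Nat.cast_ne_zero.mpr Monoid.exponent_ne_zero_of_finite⟩
    infer_instance
  obtain ⟨L, hL⟩ := CommGroup.exists_apply_ne_one_of_hasEnoughRootsOfUnity M ℂ
    (a := ⟨a, ha⟩) (fun h0 => ha1 (congrArg Subtype.val h0))
  set θ : M → ℂ := fun x => ((L x : ℂˣ) : ℂ) with hθ
  have hθirr : IsIrrCharacter M θ := isIrrCharacter_of_monoidHom ((Units.coeHom ℂ).comp L)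
  have hI : ∀ g : X, (∀ n : M, θ ⟨g * n * g⁻¹, hMn.conj_mem n n.2 g⟩ = θ n) → g ∈ M := by
    intro g hg
    by_contra hgM
    have := hom_eq_one_of_fpf_invariant M g (hfpf g hgM) L
      (fun n => Units.ext (hg n))
    apply hL
    rw [this]; rfl
  have hirr := isIrrCharacter_indFun_of_inertia M θ hθirr hI
  have hdeg : indFun M θ 1 = (M.index : ℂ) := by
    rw [Helper5.indFun_apply_one, hθ]
    simp
  have h2 : irrDeg ⟨indFun M θ, hirr⟩ = M.index := by
    have h3 : indFun M θ 1 = ((irrDeg ⟨indFun M θ, hirr⟩ : ℕ) : ℂ) :=
      irrDeg_spec ⟨indFun M θ, hirr⟩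
    rw [hdeg] at h3
    exact_mod_cast h3.symm
  have hidx1 : 1 < M.index := by
    have hpos : 0 < M.index := Nat.pos_of_ne_zero Subgroup.index_ne_zero_of_finite
    by_contra hle
    have h1 : M.index = 1 := by omega
    have htop : M = ⊤ := Subgroup.index_eq_one.mp h1
    apply hna
    rw [hM, commutator_def, Subgroup.commutator_le]
    intro x _ y _
    rw [Subgroup.mem_bot, commutatorElement_eq_one_iff_commute]
    have hx : x ∈ M := by rw [htop]; exact Subgroup.mem_top x
    have hy : y ∈ M := by rw [htop]; exact Subgroup.mem_top y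
    exact hab x hx y hy
  have hcard1 : 1 < Nat.card M := by
    rw [Nat.one_lt_iff_ne_zero_and_ne_one]
    refine ⟨Nat.card_pos.ne', ?_⟩
    intro h
    exact hMne (Subgroup.card_eq_one.mp h)
  exact ⟨⟨⟨indFun M θ, hirr⟩, h2⟩, index_dvd_card_sub_one M hab hfpf, hidx1, hcard1⟩

end Cfsg.Agent.Helper5.TD
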