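import Cfsg.Agent.Helper5.PDDefs
import Cfsg.Agent.Helper24.Gallagher
import Cfsg.Agent.Helper29.TwoDegB

set_option autoImplicit false

/-!
# S4813 piece GAL: nonlinear degrees divide the index of a normal subgroup with nonabelian quotient
-/

namespace Cfsg.Agent.Helper5.PD

open Cfsg Cfsg.Agent.Helper24 Cfsg.Agent.Helper29.TwoDeg

universe u

/-- a character with an irreducible constituent of the same degree is that constituent -/
theorem eq_of_constituent_of_degree_eq {K : Type u} [Group K] [Fintype K] [Fintype (IrrCharacter K)]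
    {χ : K → ℂ} (hχ : IsCharacter K χ) (θ : IrrCharacter K) (hne : classInner χ (θ : K → ℂ) ≠ 0)
    (hd : χ 1 = (irrDeg θ : ℂ)) : χ = (θ : K → ℂ) := by
  classical
  obtain ⟨n, hn⟩ := IsCharacter.exists_nat_coeff hχ
  have hcoef : classInner χ (θ : K → ℂ) = n θ := by
    rw [hn]; exact classInner_sum_irr _ θ
  have hnθ : n θ ≠ 0 := by
    intro h0
    rw [hcoef, h0] at hne
    exact hne (by simp)
  have h1 : ((irrDeg θ : ℕ) : ℂ) = ((∑ φ : IrrCharacter K, n φ * irrDeg φ : ℕ) : ℂ) := by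
    rw [← hd, hn, Finset.sum_apply]
    push_cast
    refine Finset.sum_congr rfl ?_
    intro φ _
    rw [Pi.smul_apply, smul_eq_mul, irrDeg_spec]
  have h2 : irrDeg θ = ∑ φ : IrrCharacter K, n φ * irrDeg φ := by exact_mod_cast h1
  have h3 := Finset.add_sum_erase Finset.univ (fun φ => n φ * irrDeg φ) (Finset.mem_univ θ)
  rw [← h2] at h3
  have hθpos := irrDeg_pos θ
  have h4 : n θ * irrDeg θ ≤ irrDeg θ := by
    have : 0 ≤ ∑ φ ∈ Finset.univ.erase θ, n φ * irrDeg φ := Nat.zero_le _
    omega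
  have hnθ1 : n θ = 1 := by
    have h5 : n θ ≤ 1 := by
      by_contra h6
      have : 2 ≤ n θ := by omega
      nlinarith
    omega
  have hrest : ∑ φ ∈ Finset.univ.erase θ, n φ * irrDeg φ = 0 := by
    rw [hnθ1] at h3
    omega
  have hzero : ∀ φ : IrrCharacter K, φ ≠ θ → n φ = 0 := by
    intro φ hφ
    have := (Finset.sum_eq_zero_iff.mp hrest) φ (Finset.mem_erase.mpr ⟨hφ, Finset.mem_univ φ⟩)
    rcases Nat.mul_eq_zero.mp this with h | h
    · exact h
    · exact absurd h (irrDeg_pos φ).ne'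
  rw [hn]
  rw [Finset.sum_eq_single θ]
  · rw [hnθ1]; simp
  · intro φ _ hφ
    rw [hzero φ hφ]; simp
  · intro h; exact absurd (Finset.mem_univ θ) h

theorem degree_dvd_index {G : Type u} [Group G] [Finite G] (h : PrimeDeg G) (K : Subgroup G) [K.Normal]
    (hK : ¬ commutator G ≤ K) (χ : IrrCharacter G) (hχ : charDegree (χ : G → ℂ) ≠ 1) :
    charDegree (χ : G → ℂ) ∣ K.index := by
  classical
  have : Fintype G := Fintype.ofFinite G
  have : Fintype K := Fintype.ofFinite K
  have : Fintype (IrrCharacter K) := Fintype.ofFinite _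
  have : Fintype (G ⧸ K) := Fintype.ofFinite _
  have hℓp : (charDegree (χ : G → ℂ)).Prime := h χ hχ
  rw [charDegree_irr] at hℓp hχ ⊢
  by_contra hndvd
  -- a constituent of the restriction
  have hres : IsCharacter K (fun n : K => (χ : G → ℂ) n) :=
    Cfsg.Agent.Helper8.isCharacter_restrict K (IsIrrCharacter.isCharacter χ.2)
  have hres0 : (fun n : K => (χ : G → ℂ) n) ≠ 0 := by
    intro h0
    have h1 := congrFun h0 1
    simp only [Subgroup.coe_one, Pi.zero_apply] at h1
    rw [irrDeg_spec] at h1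
    exact (irrDeg_pos χ).ne' (by exact_mod_cast h1)
  obtain ⟨θ, hθ⟩ := IsCharacter.exists_irr_constituent hres hres0
  obtain ⟨e, he, hediv⟩ := irrDeg_dvd_of_over K χ θ hθ
  have he1 : e = 1 := by
    have hedvd : e ∣ irrDeg χ := ⟨irrDeg θ, he⟩
    rcases (Nat.dvd_prime hℓp).mp hedvd with h1 | h1
    · exact h1
    · exfalso
      apply hndvd
      rw [← h1]; exact hediv
  rw [he1, one_mul] at he
  have hχK : (fun n : K => (χ : G → ℂ) n) = (θ : K → ℂ) := by
    apply eq_of_constituent_of_degree_eq hres θ hθ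
    show (χ : G → ℂ) ((1 : K) : G) = _
    rw [Subgroup.coe_one, irrDeg_spec, he]
  have hχKirr : IsIrrCharacter K (fun n : K => (χ : G → ℂ) n) := by
    rw [hχK]; exact θ.2
  -- a nonlinear character of the quotient
  have hna := quot_nonabelian K hK
  obtain ⟨β, hβ⟩ := exists_nonlinear hna
  have hirr := isIrrCharacter_gallagherTwist K χ hχKirr β
  set ξ : IrrCharacter G := ⟨gallagherTwist K χ β, hirr⟩ with hξ
  have hξ1 : (ξ : G → ℂ) 1 = ((irrDeg β * irrDeg χ : ℕ) : ℂ) := by
    show (β : G ⧸ K → ℂ) ((1 : G) : G ⧸ K) * (χ : G → ℂ) 1 = _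
    rw [QuotientGroup.mk_one, irrDeg_spec, irrDeg_spec]
    push_cast
    ring
  have hξdeg : irrDeg ξ = irrDeg β * irrDeg χ := by
    have := irrDeg_spec ξ
    rw [hξ1] at this
    exact_mod_cast this.symm
  have hβ2 : 2 ≤ irrDeg β := by
    have := irrDeg_pos β
    omega
  have hχ2 : 2 ≤ irrDeg χ := hℓp.two_le
  have hξne1 : charDegree (ξ : G → ℂ) ≠ 1 := by
    rw [charDegree_irr, hξdeg]
    intro h1
    have := Nat.eq_one_of_mul_eq_one_left h1
    omega
  have hξp := h ξ hξne1
  rw [charDegree_irr, hξdeg] at hξp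
  exact Nat.not_prime_mul (by omega) (by omega) hξp

end Cfsg.Agent.Helper5.PD
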