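import Cfsg.Agent.Helper5.TDTRI
import Cfsg.Agent.Helper5.TDFQ
import Cfsg.Agent.Helper5.TDNUM
import Cfsg.Agent.Helper5.TDLINC
import Cfsg.Agent.Helper5.TDDX2
import Cfsg.Agent.Lead.TDCENT
import Cfsg.Agent.Lead.TDDFIT1
import Cfsg.Agent.Lead.TDNFA
import Cfsg.Agent.Helper8.TDNF1
import Cfsg.Agent.Helper8.TDNQ
import Cfsg.Agent.Helper23.TDNF3
import Cfsg.Agent.Helper23.TDNF2
import Cfsg.Agent.Helper1.TDDNIL
import Cfsg.Agent.Helper8.TDDY1
import Cfsg.Agent.Helper29.TDDY2A
import Cfsg.Agent.Helper29.TDDY2B
import Cfsg.Agent.Helper13.TDNCOP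
import Cfsg.Agent.Helper14.TDDFIT2
import Cfsg.Agent.Helper14.TDDX1
import Cfsg.Agent.S0044

set_option autoImplicit false

/-! # S4460: assembly -/

namespace Cfsg.Agent.Helper5.TD

open Cfsg Cfsg.Agent.Helper24 Cfsg.Agent.Helper29.TwoDeg
open Cfsg.Agent.Lead.TD Cfsg.Agent.Helper8.TD Cfsg.Agent.Helper23.TD Cfsg.Agent.Helper1.TD
open Cfsg.Agent.Helper29.TD Cfsg.Agent.Helper13.TD Cfsg.Agent.Helper14.TD
open scoped ComplexConjugate commutatorElement

universe u

variable {G : Type u} [Group G] [Finite G]

/-- Case N-I: all proper quotients abelian. -/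
theorem caseNI {m n : ℕ} (td : ThreeDeg G m n) (hcop : m.Coprime n)
    (hmin : ∀ K : Subgroup G, K.Normal → K ≠ ⊥ → commutator G ≤ K) : False := by
  classical
  have : Fintype G := Fintype.ofFinite G
  have hfaith := faithful_of_min hmin
  have hmm := fun χ₁ χ₂ h1 h2 hne => prod_mm td hcop χ₁ χ₂ h1 h2 hne
  apply typeII_false td hfaith
  intro χ ψ hχ hψ
  rcases prod_type td hcop χ ψ hχ hψ with hI | hII
  · exact (not_typeI td hcop hfaith hmm χ ψ hχ hψ hI).elim
  · exact hII

theorem solvable_of_two (m : ℕ) (h : ∀ χ : IrrCharacter G, irrDeg χ = 1 ∨ irrDeg χ = m) :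
    Group.IsSolvable G :=
  ⟨⟨2, derived_two_of_two m h⟩⟩

omit [Finite G] in
theorem solvable_of_comm (h : ∀ a b : G, a * b = b * a) : Group.IsSolvable G := by
  let _ : CommGroup G := { (inferInstance : Group G) with mul_comm := h }
  infer_instance

/-- `X` solvable whose nontrivial normal subgroups all contain `X'`: then `X'` is abelian. -/
theorem comm_abelian_of_solvable_min {X : Type u} [Group X] [Group.IsSolvable X]
    (hmin : ∀ L : Subgroup X, L.Normal → L ≠ ⊥ → commutator X ≤ L) :
    ∀ a ∈ commutator X, ∀ b ∈ commutator X, a * b = b * a := by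
  have h2 : derivedSeries X 2 = ⊥ := by
    by_contra hne
    have hle : commutator X ≤ derivedSeries X 2 := hmin _ inferInstance hne
    have h1 : derivedSeries X 1 = commutator X := by
      rw [derivedSeries_succ, derivedSeries_zero, commutator_def]
    have heq : derivedSeries X 2 = derivedSeries X 1 := by
      apply le_antisymm
      · exact derivedSeries_antitone (G := X) (by norm_num)
      · rw [h1]; exact hle
    -- the derived series is stationary at 1, hence never trivial
    have hstat : ∀ k, derivedSeries X (k + 1) = derivedSeries X 1 := by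
      intro k
      induction k with
      | zero => rfl
      | succ k ih =>
        rw [derivedSeries_succ, ih]
        exact heq
    obtain ⟨k, hk⟩ := (Group.isSolvable_def X).mp inferInstance
    have : derivedSeries X (k + 1) = ⊥ := by
      rw [eq_bot_iff, ← hk]
      exact derivedSeries_antitone (G := X) (Nat.le_succ k)
    rw [hstat k] at this
    apply hne
    rw [heq, this]
  intro a ha b hb
  have h1 : derivedSeries X 1 = commutator X := by
    rw [derivedSeries_succ, derivedSeries_zero, commutator_def]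
  have : ⁅a, b⁆ ∈ derivedSeries X 2 := by
    rw [derivedSeries_succ, h1]
    exact Subgroup.commutator_mem_commutator ha hb
  rw [h2, Subgroup.mem_bot, commutatorElement_eq_one_iff_commute] at this
  exact this

/-- A maximal normal subgroup among the nontrivial ones with nonabelian quotient. -/
theorem exists_max_normal_ne_bot
    (h : ∃ K : Subgroup G, K.Normal ∧ K ≠ ⊥ ∧ ¬ commutator G ≤ K) :
    ∃ K : Subgroup G, K.Normal ∧ K ≠ ⊥ ∧ ¬ commutator G ≤ K ∧
      ∀ L : Subgroup G, L.Normal → K < L → commutator G ≤ L := by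
  classical
  let S : Set (Subgroup G) := {K | K.Normal ∧ K ≠ ⊥ ∧ ¬ commutator G ≤ K}
  have hfin : S.Finite := Set.toFinite S
  obtain ⟨K₀, hK₀⟩ := h
  have hne : S.Nonempty := ⟨K₀, hK₀⟩
  obtain ⟨K, ⟨hKn, hKb, hKc⟩, hmax⟩ := hfin.exists_maximal hne
  refine ⟨K, hKn, hKb, hKc, ?_⟩
  intro L hLn hKL
  by_contra hL
  have hLb : L ≠ ⊥ := by
    intro h0
    rw [h0] at hKL
    exact not_lt_bot hKL
  have := hmax ⟨hLn, hLb, hL⟩ hKL.le
  exact absurd hKL (not_lt_of_ge this)

omit [Finite G] in
/-- `G` is solvable if a normal subgroup containing `G'` is. -/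
theorem solvable_of_normal_of_commutator_le (L : Subgroup G) [L.Normal]
    (hL : Group.IsSolvable L) (hc : commutator G ≤ L) : Group.IsSolvable G := by
  have hq : Group.IsSolvable (G ⧸ L) := by
    have hcomm : ∀ a b : G ⧸ L, a * b = b * a := by
      intro a b
      obtain ⟨x, rfl⟩ := QuotientGroup.mk'_surjective L a
      obtain ⟨y, rfl⟩ := QuotientGroup.mk'_surjective L b
      have h1 : ⁅x, y⁆ ∈ L := hc (Subgroup.commutator_mem_commutator (Subgroup.mem_top _)
        (Subgroup.mem_top _))
      have h2 : (QuotientGroup.mk' L) ⁅x, y⁆ = 1 := (QuotientGroup.eq_one_iff _).mpr h1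
      rw [map_commutatorElement, commutatorElement_eq_one_iff_commute] at h2
      exact h2
    let _ : CommGroup (G ⧸ L) := { (inferInstance : Group (G ⧸ L)) with mul_comm := hcomm }
    infer_instance
  refine Group.isSolvable_of_ker_le_range L.subtype (QuotientGroup.mk' L) ?_
  intro x hx
  rw [MonoidHom.mem_ker] at hx
  have : x ∈ L := (QuotientGroup.eq_one_iff x).mp hx
  exact ⟨⟨x, this⟩, rfl⟩

/-- Part N: at most three character degrees implies solvable. -/
theorem solvable_of_leThree_aux : ∀ (k : ℕ) (G : Type u) [Group G] [Finite G],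
    Nat.card G = k → LeThree G → Group.IsSolvable G := by
  intro k
  induction k using Nat.strong_induction_on with
  | _ k ih =>
  intro G _ _ hk h3
  classical
  by_contra hns
  have IH : ∀ (H : Type u) [Group H] [Finite H], Nat.card H < Nat.card G → LeThree H →
      Group.IsSolvable H := by
    intro H _ _ hlt hH
    exact ih (Nat.card H) (by rw [← hk]; exact hlt) H rfl hH
  rcases trichotomy h3 with hab | ⟨m, -, h2⟩ | ⟨m, n, td⟩
  · exact hns (solvable_of_comm hab)
  · exact hns (solvable_of_two m h2)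
  have hcop := coprime_degrees td IH hns
  by_cases hmin : ∀ K : Subgroup G, K.Normal → K ≠ ⊥ → commutator G ≤ K
  · exact caseNI td hcop hmin
  push Not at hmin
  obtain ⟨K, hKn, hKb, hKc, hmax⟩ := exists_max_normal_ne_bot hmin
  have hlt : Nat.card (G ⧸ K) < Nat.card G := by
    have h1 := Subgroup.card_eq_card_quotient_mul_card_subgroup K
    have h2 : 1 < Nat.card K := by
      rw [Nat.one_lt_iff_ne_zero_and_ne_one]
      refine ⟨Nat.card_pos.ne', ?_⟩
      intro h
      exact hKb (Subgroup.card_eq_one.mp h)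
    have h3 : 0 < Nat.card (G ⧸ K) := Nat.card_pos
    rw [h1]
    nlinarith
  have hXs : Group.IsSolvable (G ⧸ K) := IH (G ⧸ K) hlt (leThree_quot K h3)
  have hminX := quot_min K hmax
  have hna := quot_nonabelian K hKc
  have hab := comm_abelian_of_solvable_min (fun L hL hLb => hminX L hL hLb)
  by_cases hZ : Subgroup.center (G ⧸ K) = ⊥
  · have hfpf := fpf_of_center_eq_bot hminX hab hZ
    obtain ⟨hη, hdvd, hf1, hM1⟩ := frob_numerics hna hab hfpf
    have hcopf : ((commutator (G ⧸ K)).index).Coprime (Nat.card (commutator (G ⧸ K))) := by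
      obtain ⟨c, hc⟩ := hdvd
      have hM : Nat.card (commutator (G ⧸ K)) = (commutator (G ⧸ K)).index * c + 1 := by omega
      rw [hM]
      simp
    have hle : (commutator (G ⧸ K)).index ≤ Nat.card (commutator (G ⧸ K)) := by
      have := Nat.le_of_dvd (by omega) hdvd
      omega
    obtain ⟨g, hg⟩ := frob_quot_degrees td hcop K ⟨hη, hcopf, hf1⟩
      (fun ψ hψ => frob_extend K hab hfpf hle ψ hψ)
    have hLs : Group.IsSolvable (preComm K) := solvable_of_two g hg
    exact hns (solvable_of_normal_of_commutator_le (preComm K) hLs (commutator_le_preComm K))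
  · obtain ⟨q, hq, hX⟩ := isPGroup_of_center_ne_bot hminX hna hZ
    exact pgroup_quot_false td hcop K q hq hX hKc

theorem solvable_of_leThree (h : LeThree G) : Group.IsSolvable G :=
  solvable_of_leThree_aux (Nat.card G) G rfl h

/-! ## Part D -/

omit [Finite G] in
theorem derivedSeries_one_eq : derivedSeries G 1 = commutator G := by
  rw [derivedSeries_succ, derivedSeries_zero, commutator_def]

/-- If all irreducible characters with `P` in the kernel have degree `1` or `m`, then
the second derived subgroup lies in `P`. -/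
theorem derived_two_le_of_quot (m : ℕ) (P : Subgroup G) [P.Normal]
    (hquot : ∀ χ : IrrCharacter G, P ≤ irrKer χ → irrDeg χ = 1 ∨ irrDeg χ = m) :
    derivedSeries G 2 ≤ P := by
  classical
  have : Fintype G := Fintype.ofFinite G
  have h2 : derivedSeries (G ⧸ P) 2 = ⊥ := by
    apply derived_two_of_two m
    intro η
    have := hquot (irrInflate P η) (Cfsg.Agent.Helper29.GalConj.le_irrKer_irrInflate P η)
    rwa [Cfsg.Agent.Helper29.GalConj.irrDeg_irrInflate] at this
  have h3 := map_derivedSeries_eq (f := QuotientGroup.mk' P) (QuotientGroup.mk'_surjective P) 2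
  rw [h2] at h3
  intro x hx
  have : (QuotientGroup.mk' P) x ∈ (derivedSeries G 2).map (QuotientGroup.mk' P) :=
    Subgroup.mem_map_of_mem _ hx
  rw [h3, Subgroup.mem_bot] at this
  exact (QuotientGroup.eq_one_iff x).mp this

/-- The second derived subgroup of a subgroup with at most two degrees is trivial, internally. -/
theorem commutator_commutator_eq_bot_of_two (P : Subgroup G) (d : ℕ)
    (h : ∀ θ : IrrCharacter P, irrDeg θ = 1 ∨ irrDeg θ = d) : ⁅⁅P, P⁆, ⁅P, P⁆⁆ = ⊥ := by
  have h2 : derivedSeries P 2 = ⊥ := derived_two_of_two d h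
  have h1 : derivedSeries P 1 = ⁅(⊤ : Subgroup P), (⊤ : Subgroup P)⁆ := by
    rw [derivedSeries_succ, derivedSeries_zero]
  have h3 : ⁅⁅(⊤ : Subgroup P), (⊤ : Subgroup P)⁆, ⁅(⊤ : Subgroup P), (⊤ : Subgroup P)⁆⁆ =
      (⊥ : Subgroup P) := by
    rw [← h1, ← derivedSeries_succ]; exact h2
  have h4 := congrArg (Subgroup.map P.subtype) h3
  rw [Subgroup.map_commutator, Subgroup.map_commutator, Subgroup.map_bot,
    ← MonoidHom.range_eq_map, Subgroup.range_subtype] at h4
  exact h4

/-- Case X: `P` is a normal Sylow `p`-subgroup. -/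
theorem caseX {m n p : ℕ} (td : ThreeDeg G m n) (hp : p.Prime)
    (P : Subgroup G) [P.Normal] (hPp : IsPGroup p P)
    (hcent : Subgroup.centralizer (P : Set G) ≤ P)
    (hnot : ¬ (p ∣ m ∧ p ∣ n))
    (hquot : ∀ χ : IrrCharacter G, P ≤ irrKer χ → irrDeg χ = 1 ∨ irrDeg χ = m)
    (hidx : ¬ p ∣ P.index) : derivedSeries G 3 = ⊥ := by
  have h2P := derived_two_le_of_quot m P hquot
  by_cases hnb : ∀ a ∈ P, ∀ b ∈ P, a * b = b * a
  · -- `P` abelian
    rw [eq_bot_iff, derivedSeries_succ]
    calc ⁅derivedSeries G 2, derivedSeries G 2⁆ ≤ ⁅P, P⁆ := Subgroup.commutator_mono h2P h2P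
      _ ≤ ⊥ := by
        rw [Subgroup.commutator_le]
        intro a ha b hb
        rw [Subgroup.mem_bot, commutatorElement_eq_one_iff_commute]
        exact hnb a ha b hb
  · obtain ⟨d, hd⟩ := caseX_two_degrees td hp P hPp hnot hidx
    have hPP := commutator_commutator_eq_bot_of_two P d hd
    have hGP : commutator G ≤ P := caseX_comm_le td hp P hPp hnb hquot hidx
      (fun N hN χ h => by
        have := hN
        exact irrDeg_dvd_index_of_commutator_le N χ h)
      (fun b hb hc => mem_of_coprime_of_commutator_mem hp P hPp hcent b hb hc)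
    have h1 : derivedSeries G 1 ≤ P := by rw [derivedSeries_one_eq]; exact hGP
    have h2 : derivedSeries G 2 ≤ ⁅P, P⁆ := by
      rw [derivedSeries_succ]; exact Subgroup.commutator_mono h1 h1
    rw [eq_bot_iff, derivedSeries_succ, ← hPP]
    exact Subgroup.commutator_mono h2 h2

/-- Case Y: `p` divides `|G : P|`; then `P` is abelian. -/
theorem caseY {m n p : ℕ} (td : ThreeDeg G m n) (hp : p.Prime)
    (P : Subgroup G) [P.Normal] (hPp : IsPGroup p P)
    (hOp : ∀ Q : Subgroup G, Q.Normal → IsPGroup p Q → Q ≤ P)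
    (hnot : ¬ (p ∣ m ∧ p ∣ n))
    (hquot : ∀ χ : IrrCharacter G, P ≤ irrKer χ → irrDeg χ = 1 ∨ irrDeg χ = m)
    (hidx : p ∣ P.index) : ∀ a ∈ P, ∀ b ∈ P, a * b = b * a := by
  classical
  have : Fintype G := Fintype.ofFinite G
  by_contra hnb
  obtain ⟨hpm, A, hAn, hPA, hGA, hAp⟩ := caseY_setup td hp P hPp hOp hquot hidx
  have hpn : ¬ p ∣ n := fun h => hnot ⟨hpm, h⟩
  -- `G ⧸ P` is nonabelian: otherwise a Sylow `p`-subgroup above `P` would be normal
  have hGP : ¬ commutator G ≤ P := by
    intro hle
    have hfact : Fact p.Prime := ⟨hp⟩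
    obtain ⟨S', hS'⟩ := hPp.exists_le_sylow
    have hS'n : (S' : Subgroup G).Normal := by
      constructor
      intro x hx g
      have h1 : g * x * g⁻¹ * x⁻¹ ∈ commutator G := by
        have : ⁅g, x⁆ ∈ commutator G :=
          Subgroup.commutator_mem_commutator (Subgroup.mem_top _) (Subgroup.mem_top _)
        rwa [commutatorElement_def] at this
      have h2 : g * x * g⁻¹ * x⁻¹ ∈ (S' : Subgroup G) := hS' (hle h1)
      have := (S' : Subgroup G).mul_mem h2 hx
      simpa using this
    have hS'P : (S' : Subgroup G) ≤ P := hOp _ hS'n S'.isPGroup'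
    have hPS : P = (S' : Subgroup G) := le_antisymm hS' hS'P
    have : ¬ p ∣ (S' : Subgroup G).index := S'.not_dvd_index
    rw [← hPS] at this
    exact this hidx
  -- maximal `K ≥ P` with nonabelian quotient
  obtain ⟨K, ⟨hKn, hPK, hKc⟩, hmaxK⟩ :=
    (Set.toFinite {K : Subgroup G | K.Normal ∧ P ≤ K ∧ ¬ commutator G ≤ K}).exists_maximal
      ⟨P, inferInstance, le_rfl, hGP⟩
  have hmax : ∀ L : Subgroup G, L.Normal → K < L → commutator G ≤ L := by
    intro L hLn hKL
    by_contra hL
    have := hmaxK ⟨hLn, hPK.trans hKL.le, hL⟩ hKL.le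
    exact absurd hKL (not_lt_of_ge this)
  have hminX := quot_min K hmax
  have hna := quot_nonabelian K hKc
  have h2X : TwoDegrees (G ⧸ K) m := by
    intro η
    rw [charDegree_irr]
    have h1 : P ≤ irrKer (irrInflate K η) :=
      hPK.trans (Cfsg.Agent.Helper29.GalConj.le_irrKer_irrInflate K η)
    have := hquot (irrInflate K η) h1
    rwa [Cfsg.Agent.Helper29.GalConj.irrDeg_irrInflate] at this
  have : Fintype (G ⧸ K) := Fintype.ofFinite _
  have hab := commutator_comm_of_twoDegrees h2X hminX hna
  by_cases hZ : Subgroup.center (G ⧸ K) = ⊥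
  · have hfpf := fpf_of_center_eq_bot hminX hab hZ
    obtain ⟨hη, hdvd, hf1, hM1⟩ := frob_numerics hna hab hfpf
    have hcopf : ((commutator (G ⧸ K)).index).Coprime (Nat.card (commutator (G ⧸ K))) := by
      obtain ⟨c, hc⟩ := hdvd
      have hM : Nat.card (commutator (G ⧸ K)) = (commutator (G ⧸ K)).index * c + 1 := by omega
      rw [hM]
      simp
    have hle : (commutator (G ⧸ K)).index ≤ Nat.card (commutator (G ⧸ K)) := by
      have := Nat.le_of_dvd (by omega) hdvd
      omega
    exact caseY_frob td hp P hPp hpm hpn hnb hquot K hPK ⟨hη, hcopf, hf1⟩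
      (fun ψ hψ => frob_extend K hab hfpf hle ψ hψ)
  · obtain ⟨r, hr, hX⟩ := isPGroup_of_center_ne_bot hminX hna hZ
    exact caseY_pquot td hp P hpm A hPA hGA hAp hquot K hPK hKc r hr hX

/-- Part D: solvable with at most three degrees implies derived length at most three. -/
theorem derived_three_aux : ∀ (k : ℕ) (G : Type u) [Group G] [Finite G],
    Nat.card G = k → Group.IsSolvable G → LeThree G → derivedSeries G 3 = ⊥ := by
  intro k
  induction k using Nat.strong_induction_on with
  | _ k ih =>
  intro G _ _ hk hsolv h3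
  classical
  by_contra hne
  set M := derivedSeries G 3 with hMdef
  -- minimality
  have hmin : ∀ N : Subgroup G, N.Normal → N ≠ ⊥ → M ≤ N := by
    intro N hN hNb
    have hlt : Nat.card (G ⧸ N) < Nat.card G := by
      have h1 := Subgroup.card_eq_card_quotient_mul_card_subgroup N
      have h2 : 1 < Nat.card N := by
        rw [Nat.one_lt_iff_ne_zero_and_ne_one]
        refine ⟨Nat.card_pos.ne', ?_⟩
        intro h
        exact hNb (Subgroup.card_eq_one.mp h)
      have h3 : 0 < Nat.card (G ⧸ N) := Nat.card_pos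
      rw [h1]
      nlinarith
    have hq := ih (Nat.card (G ⧸ N)) (by rw [← hk]; exact hlt) (G ⧸ N) rfl inferInstance
      (leThree_quot N h3)
    have h4 := map_derivedSeries_eq (f := QuotientGroup.mk' N) (QuotientGroup.mk'_surjective N) 3
    rw [hq] at h4
    intro x hx
    have : (QuotientGroup.mk' N) x ∈ (derivedSeries G 3).map (QuotientGroup.mk' N) :=
      Subgroup.mem_map_of_mem _ hx
    rw [h4, Subgroup.mem_bot] at this
    exact (QuotientGroup.eq_one_iff x).mp this
  rcases trichotomy h3 with hab | ⟨m, -, h2⟩ | ⟨m, n, td⟩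
  · apply hne
    rw [eq_bot_iff]
    refine (derivedSeries_antitone (G := G) (show 1 ≤ 3 by norm_num)).trans ?_
    rw [derivedSeries_one_eq, commutator_def, Subgroup.commutator_le]
    intro a _ b _
    rw [Subgroup.mem_bot, commutatorElement_eq_one_iff_commute]
    exact hab a b
  · apply hne
    rw [eq_bot_iff, ← derived_two_of_two m h2]
    exact derivedSeries_antitone (G := G) (show 2 ≤ 3 by norm_num)
  have hnn : ¬ Group.IsNilpotent G := fun h => hne (derived_of_nilpotent h3)
  obtain ⟨p, hp, hPp, hPb⟩ := fitting_pgroup M hne hmin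
  set P := fittingSubgroup G with hPdef
  have hPt : P ≠ ⊤ := by
    intro htop
    apply hnn
    have h1 : Group.IsNilpotent P := Cfsg.Agent.Helper7.fittingSubgroup_isNilpotent
    rw [htop] at h1
    exact Group.nilpotent_of_mulEquiv (Subgroup.topEquiv : (⊤ : Subgroup G) ≃* G)
  have hquot := fitting_quot_degrees td hPt
  have hnot := not_both_dvd td hp M hne hmin P hPp hPb hnn
  have hcent : Subgroup.centralizer (P : Set G) ≤ P := Cfsg.Agent.S0044.result
  have hOp : ∀ Q : Subgroup G, Q.Normal → IsPGroup p Q → Q ≤ P := by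
    intro Q hQn hQp
    have : Fact p.Prime := ⟨hp⟩
    exact Cfsg.Agent.Helper7.le_fittingSubgroup hQn hQp.isNilpotent
  by_cases hidx : p ∣ P.index
  · have habP := caseY td hp P hPp hOp hnot hquot hidx
    apply hne
    have h2P := derived_two_le_of_quot m P hquot
    rw [hMdef, eq_bot_iff, derivedSeries_succ]
    calc ⁅derivedSeries G 2, derivedSeries G 2⁆ ≤ ⁅P, P⁆ := Subgroup.commutator_mono h2P h2P
      _ ≤ ⊥ := by
        rw [Subgroup.commutator_le]
        intro a ha b hb
        rw [Subgroup.mem_bot, commutatorElement_eq_one_iff_commute]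
        exact habP a ha b hb
  · exact hne (caseX td hp P hPp hcent hnot hquot hidx)

/-- **S4460**: at most three irreducible character degrees implies derived length at most 3. -/
theorem derived_three_of_leThree (h : LeThree G) : derivedSeries G 3 = ⊥ :=
  derived_three_aux (Nat.card G) G rfl (solvable_of_leThree h) h

end Cfsg.Agent.Helper5.TD
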