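import Mathlib
import Cfsg.Prelude.Def_Characters
import Cfsg.Agent.Helper5.TDMain

set_option autoImplicit false

/-!
# S4463 (abelian subgroup of index at most `(b!)²`): shared definitions and monotonicity

`DegLe G b`: every irreducible character of `G` has degree at most `b`.
-/

namespace Cfsg.Agent.Helper5.AB

open Cfsg Cfsg.Agent.Helper24 Cfsg.Agent.Helper29.TwoDeg

universe u

/-- Every irreducible character of `G` has degree at most `b`. -/
def DegLe (G : Type u) [Group G] (b : ℕ) : Prop := ∀ χ : IrrCharacter G, irrDeg χ ≤ b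

variable {G : Type u} [Group G]

theorem DegLe.mono {b c : ℕ} (h : DegLe G b) (hbc : b ≤ c) : DegLe G c :=
  fun χ => (h χ).trans hbc

theorem DegLe.one_le [Finite G] {b : ℕ} (h : DegLe G b) : 1 ≤ b := by
  have h1 := h (trivIrr G)
  have h2 : irrDeg (trivIrr G) = 1 := by
    rw [irrDeg_eq_one_iff]; rfl
  omega

theorem DegLe.subgroup [Finite G] {b : ℕ} (h : DegLe G b) (H : Subgroup G) : DegLe H b := by
  classical
  have : Fintype G := Fintype.ofFinite G
  have : Fintype H := Fintype.ofFinite H
  have : Fintype (IrrCharacter H) := Fintype.ofFinite _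
  intro θ
  obtain ⟨χ, hχ⟩ := exists_irr_over H θ
  have hc : IsCharacter H (fun n : H => (χ : G → ℂ) n) :=
    Cfsg.Agent.Helper8.isCharacter_restrict H (IsIrrCharacter.isCharacter χ.2)
  have h1 := irrDeg_le_of_constituent hc θ hχ (irrDeg χ) (by
    show (χ : G → ℂ) ((1 : H) : G) = _
    rw [Subgroup.coe_one, irrDeg_spec])
  exact h1.trans (h χ)

theorem DegLe.quot [Finite G] {b : ℕ} (h : DegLe G b) (N : Subgroup G) [N.Normal] :
    DegLe (G ⧸ N) b := by
  have : Fintype G := Fintype.ofFinite G
  intro θ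
  have h1 := h (irrInflate N θ)
  rwa [Cfsg.Agent.Helper29.GalConj.irrDeg_irrInflate] at h1

/-- The largest irreducible character degree. -/
theorem exists_max_degree (G : Type u) [Group G] [Finite G] :
    ∃ b : ℕ, DegLe G b ∧ ∃ χ : IrrCharacter G, irrDeg χ = b := by
  classical
  have : Fintype (IrrCharacter G) := Fintype.ofFinite _
  obtain ⟨χ, -, hχ⟩ := Finset.exists_max_image (Finset.univ : Finset (IrrCharacter G)) irrDeg
    ⟨trivIrr G, Finset.mem_univ _⟩
  exact ⟨irrDeg χ, fun ψ => hχ ψ (Finset.mem_univ _), χ, rfl⟩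

/-- An abelian group has all degrees `1`; conversely `DegLe G 1` forces commutativity. -/
theorem comm_of_degLe_one [Finite G] (h : DegLe G 1) : ∀ a b : G, a * b = b * a := by
  rw [comm_iff_forall_irr_one]
  intro χ
  have h1 := h χ
  have h2 := irrDeg_pos χ
  have h3 : irrDeg χ = 1 := by omega
  exact (irrDeg_eq_one_iff _).mp h3

end Cfsg.Agent.Helper5.AB
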