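import Mathlib
import Cfsg.Prelude.Def_Blocks
import Cfsg.Agent.Helper5.MinMax
import Cfsg.Agent.Helper14.SylowIn

set_option autoImplicit false

/-!
# Defect groups: the min–max theorem in Sylow form and consequences
-/

namespace Cfsg.Agent.Helper5.CC

open Cfsg Cfsg.Agent.Helper24 Cfsg.Agent.Helper5 Cfsg.Agent.Helper5.Loc Cfsg.Agent.Helper14

section Group

variable {G : Type*} [Group G]

theorem mem_centralizer_singleton_iff' (g x : G) :
    x ∈ Subgroup.centralizer ({g} : Set G) ↔ g * x = x * g := by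
  rw [Subgroup.mem_centralizer_iff]
  constructor
  · intro h; exact h g (Set.mem_singleton g)
  · intro h z hz; rw [Set.mem_singleton_iff] at hz; rw [hz]; exact h

theorem map_cj_centralizer_singleton (u c : G) :
    (Subgroup.centralizer ({u} : Set G)).map (cj c) =
      Subgroup.centralizer ({c * u * c⁻¹} : Set G) := by
  ext x
  rw [mem_map_cj, mem_centralizer_singleton_iff', mem_centralizer_singleton_iff']
  constructor
  · intro h
    have : c * (u * (c⁻¹ * x * c)) * c⁻¹ = c * (c⁻¹ * x * c * u) * c⁻¹ := by rw [h]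
    calc c * u * c⁻¹ * x = c * (u * (c⁻¹ * x * c)) * c⁻¹ := by group
      _ = c * (c⁻¹ * x * c * u) * c⁻¹ := this
      _ = x * (c * u * c⁻¹) := by group
  · intro h
    calc u * (c⁻¹ * x * c) = c⁻¹ * (c * u * c⁻¹ * x) * c := by group
      _ = c⁻¹ * (x * (c * u * c⁻¹)) * c := by rw [h]
      _ = c⁻¹ * x * c * u := by group

/-- The defect-group predicate in `IsSylowIn` form. -/
theorem isDefectGroup_iff {p : ℕ} {M : Ideal AlgInt} {B : Set (IrrCharacter G)} {D : Subgroup G} :
    IsDefectGroup p M B D ↔ ∃ g : G, IsDefectClass M B g ∧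
      IsSylowIn p D (Subgroup.centralizer ({g} : Set G)) := by
  constructor
  · rintro ⟨g, hg, P, rfl⟩
    exact ⟨g, hg, isSylowIn_of_sylow P⟩
  · rintro ⟨g, hg, hS⟩
    obtain ⟨P, hP⟩ := isSylowIn_iff.mp hS
    exact ⟨g, hg, P, hP.symm⟩

end Group

variable {G : Type*} [Group G] [Fintype G] {M : Ideal AlgInt}

/-- **Min–max theorem**, Sylow form: if the central characters of `B` are units at `u` and the
idempotent coefficient is a unit at `w`, then a Sylow `p`-subgroup of `C(w)` is contained in a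
conjugate of any Sylow `p`-subgroup of `C(u)`. -/
theorem minmax_sylow [Fintype (IrrCharacter G)] {p : ℕ} [Fact p.Prime]
    (hM : IsPModular p M) (B : Set (IrrCharacter G)) (hB : IsPBlock M B) (u w : G)
    (hu : ∀ χ ∈ B, ¬ MemLocalIdeal M (centralChar (χ : G → ℂ) u))
    (hw : ¬ MemLocalIdeal M (blockCoeff B w)) (U W : Subgroup G)
    (hU : IsSylowIn p U (Subgroup.centralizer ({u} : Set G)))
    (hW : IsSylowIn p W (Subgroup.centralizer ({w} : Set G))) :
    ∃ x : G, W ≤ U.map (cj x) := by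
  obtain ⟨t, htc, ht⟩ := exists_conj_mem_centralizer hM B hB u w hu hw W hW.2.1 hW.1
  rw [isConj_iff] at htc
  obtain ⟨c, rfl⟩ := htc
  -- `W ≤ C(t)`
  have hWt : W ≤ Subgroup.centralizer ({c * u * c⁻¹} : Set G) := by
    intro x hx
    rw [mem_centralizer_singleton_iff']
    rw [Subgroup.mem_centralizer_iff] at ht
    exact (ht x hx).symm
  have hU' : IsSylowIn p (U.map (cj c)) (Subgroup.centralizer ({c * u * c⁻¹} : Set G)) := by
    have := hU.map_cj c
    rwa [map_cj_centralizer_singleton] at this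
  obtain ⟨V, hV, hWV⟩ := exists_isSylowIn_ge hWt hW.2.1
  obtain ⟨k, -, hk⟩ := hU'.exists_conj hV
  refine ⟨k * c, ?_⟩
  rw [← map_cj_mul, ← hk]
  exact hWV

omit [Fintype G] in
/-- In a block, nonvanishing of one central character at `h` gives it for all members. -/
theorem not_memLocalIdeal_centralChar_of_mem (hM : M.IsPrime) {B : Set (IrrCharacter G)}
    (hB : IsPBlock M B) {h : G} (hex : ∃ χ ∈ B, ¬ MemLocalIdeal M (centralChar (χ : G → ℂ) h)) :
    ∀ χ ∈ B, ¬ MemLocalIdeal M (centralChar (χ : G → ℂ) h) := by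
  obtain ⟨χ₁, hχ₁, h1⟩ := hex
  intro χ hχ hcon
  apply h1
  have hs := sameBlock_of_mem hM hB hχ₁ hχ h
  have := li_add hM hs hcon
  rwa [sub_add_cancel] at this

/-- Any two defect groups of a block are conjugate. -/
theorem defectGroup_conj [Fintype (IrrCharacter G)] {p : ℕ} [Fact p.Prime]
    (hM : IsPModular p M) (B : Set (IrrCharacter G)) (hB : IsPBlock M B) (D E : Subgroup G)
    (hD : IsDefectGroup p M B D) (hE : IsDefectGroup p M B E) :
    ∃ x : G, E = D.map (cj x) := by
  obtain ⟨g, hg, hDS⟩ := isDefectGroup_iff.mp hD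
  obtain ⟨g', hg', hES⟩ := isDefectGroup_iff.mp hE
  obtain ⟨x, hx⟩ := minmax_sylow hM B hB g g' hg.2.2 hg'.2.1 D E hDS hES
  obtain ⟨y, hy⟩ := minmax_sylow hM B hB g' g hg'.2.2 hg.2.1 E D hES hDS
  refine ⟨x, ?_⟩
  -- cardinalities
  have h1 : Nat.card E ≤ Nat.card D := by
    calc Nat.card E ≤ Nat.card (D.map (cj x)) := Nat.card_mono (Set.toFinite _) hx
      _ = Nat.card D := Nat.card_congr (D.equivMapOfInjective _ (cj_injective x)).symm.toEquiv
  have h2 : Nat.card D ≤ Nat.card E := by
    calc Nat.card D ≤ Nat.card (E.map (cj y)) := Nat.card_mono (Set.toFinite _) hy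
      _ = Nat.card E := Nat.card_congr (E.equivMapOfInjective _ (cj_injective y)).symm.toEquiv
  have h3 : Nat.card (D.map (cj x)) = Nat.card D :=
    Nat.card_congr (D.equivMapOfInjective _ (cj_injective x)).symm.toEquiv
  apply Subgroup.eq_of_le_of_card_ge hx
  rw [h3]
  exact h2

end Cfsg.Agent.Helper5.CC
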