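import Mathlib
import Cfsg.Prelude.Def_Blocks
import Cfsg.Agent.Helper5.DefectGroups

set_option autoImplicit false

/-!
# More on defect groups: conjugation invariance
-/

namespace Cfsg.Agent.Helper5.CC

open Cfsg Cfsg.Agent.Helper24 Cfsg.Agent.Helper5 Cfsg.Agent.Helper5.Loc Cfsg.Agent.Helper14

variable {G : Type*} [Group G]

theorem index_centralizer_conj [Finite G] (g y : G) :
    (Subgroup.centralizer ({y * g * y⁻¹} : Set G)).index =
      (Subgroup.centralizer ({g} : Set G)).index := by
  rw [index_centralizer_eq_card_conj, index_centralizer_eq_card_conj]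
  apply card_conj_eq_of_isConj
  rw [isConj_iff]
  exact ⟨y⁻¹, by group⟩

theorem centralChar_conj [Finite G] (χ : IrrCharacter G) (g y : G) :
    centralChar (χ : G → ℂ) (y * g * y⁻¹) = centralChar (χ : G → ℂ) g := by
  rw [centralChar_def, centralChar_def, index_centralizer_conj, isClassFunction_irr χ g y]

theorem isDefectClass_conj [Fintype G] [Fintype (IrrCharacter G)] {M : Ideal AlgInt}
    {B : Set (IrrCharacter G)} {g : G} (hg : IsDefectClass M B g) (y : G) :
    IsDefectClass M B (y * g * y⁻¹) := by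
  have h1 : blockCoeff B (y * g * y⁻¹) = blockCoeff B g := isClassFunction_blockCoeff B g y
  refine ⟨?_, ?_, ?_⟩
  · rw [h1]; exact hg.1
  · rw [h1]; exact hg.2.1
  · intro χ hχ
    rw [centralChar_conj]
    exact hg.2.2 χ hχ

theorem isDefectGroup_map_cj [Fintype G] [Fintype (IrrCharacter G)] {p : ℕ} {M : Ideal AlgInt}
    {B : Set (IrrCharacter G)} {D : Subgroup G} (hD : IsDefectGroup p M B D) (y : G) :
    IsDefectGroup p M B (D.map (cj y)) := by
  obtain ⟨g, hg, hS⟩ := isDefectGroup_iff.mp hD
  refine isDefectGroup_iff.mpr ⟨y * g * y⁻¹, isDefectClass_conj hg y, ?_⟩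
  have := hS.map_cj y
  rwa [map_cj_centralizer_singleton] at this

end Cfsg.Agent.Helper5.CC
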