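import Mathlib
import Cfsg.Prelude.Def_Blocks
import Cfsg.Agent.Helper5.CenterFunctional
import Cfsg.Agent.Helper5.OsimaSupport
import Cfsg.Agent.Helper5.BrauerMap
import Cfsg.Agent.Helper5.PermChar
import Cfsg.Agent.Helper5.Osima

/-!
# More on the convolution algebra of functions on a finite group

Associativity, centrality of class functions, extension by zero from a subgroup, and the
truncation (Brauer) map to the centralizer of a `p`-subgroup for arbitrary `P`-invariant functions.
-/

set_option autoImplicit false

namespace Cfsg.Agent.Helper5.CC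

open Cfsg Cfsg.Agent.Helper24 Cfsg.Agent.Helper5 Cfsg.Agent.Helper5.Loc

variable {G : Type*} [Group G] [Fintype G]

theorem conv_assoc (a b c : G → ℂ) : conv (conv a b) c = conv a (conv b c) := by
  funext u
  simp only [conv]
  simp_rw [Finset.sum_mul, Finset.mul_sum]
  rw [Finset.sum_comm]
  refine Finset.sum_congr rfl fun s _ => ?_
  refine Fintype.sum_equiv (Equiv.mulLeft s⁻¹) _ _ fun t => ?_
  simp only [Equiv.coe_mulLeft]
  rw [mul_assoc]
  congr 3
  group

theorem conv_comm_of_isClassFunction (a : G → ℂ) {c : G → ℂ} (hc : IsClassFunction G c) :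
    conv a c = conv c a := by
  funext u
  simp only [conv]
  refine Fintype.sum_equiv ((Equiv.inv G).trans (Equiv.mulLeft u)) _ _ fun t => ?_
  simp only [Equiv.trans_apply, Equiv.inv_apply, Equiv.coe_mulLeft]
  have h1 : c (u * t⁻¹) = c (t⁻¹ * u) := by
    have := hc (u * t⁻¹) t⁻¹
    rw [← this]
    congr 1
    group
  have h2 : (u * t⁻¹)⁻¹ * u = t := by group
  rw [h1, h2, mul_comm]

theorem conv_add_left (c c' d : G → ℂ) : conv (c + c') d = conv c d + conv c' d := by
  funext u
  simp only [conv, Pi.add_apply, add_mul, Finset.sum_add_distrib]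

theorem conv_add_right (c d d' : G → ℂ) : conv c (d + d') = conv c d + conv c d' := by
  funext u
  simp only [conv, Pi.add_apply, mul_add, Finset.sum_add_distrib]

theorem conv_zero_right (c : G → ℂ) : conv c 0 = 0 := by
  funext u
  simp [conv]

theorem conv_zero_left (c : G → ℂ) : conv 0 c = 0 := by
  funext u
  simp [conv]

/-- Convolution of extensions by zero from a subgroup. -/
theorem conv_extendByZero (H : Subgroup G) [Fintype H] (a a' : H → ℂ) :
    conv (extendByZero H a) (extendByZero H a') = extendByZero H (conv a a') := by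
  classical
  funext u
  by_cases hu : u ∈ H
  · rw [extendByZero_apply_mem H _ hu]
    simp only [conv]
    rw [← sum_subgroup_eq_sum H (fun t : G => extendByZero H a t * extendByZero H a' (t⁻¹ * u))
      (fun t ht => by rw [extendByZero_apply_not_mem H a ht, zero_mul])]
    refine Finset.sum_congr rfl fun t _ => ?_
    rw [extendByZero_apply_mem H a t.2,
      extendByZero_apply_mem H a' (H.mul_mem (H.inv_mem t.2) hu)]
    rfl
  · rw [extendByZero_apply_not_mem H _ hu]
    simp only [conv]
    apply Finset.sum_eq_zero
    intro t _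
    by_cases ht : t ∈ H
    · have : t⁻¹ * u ∉ H := by
        intro hcon
        apply hu
        have := H.mul_mem ht hcon
        rwa [mul_inv_cancel_left] at this
      rw [extendByZero_apply_not_mem H a' this, mul_zero]
    · rw [extendByZero_apply_not_mem H a ht, zero_mul]

omit [Fintype G] in
theorem extendByZero_deltaOne (H : Subgroup G) :
    extendByZero H (deltaOne : H → ℂ) = deltaOne := by
  classical
  funext u
  by_cases hu : u ∈ H
  · rw [extendByZero_apply_mem H _ hu]
    by_cases h1 : u = 1
    · subst h1
      rw [deltaOne_apply_one]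
      exact deltaOne_apply_one
    · rw [deltaOne_apply_ne h1, deltaOne_apply_ne]
      intro hcon
      apply h1
      exact congrArg Subtype.val hcon
  · rw [extendByZero_apply_not_mem H _ hu, deltaOne_apply_ne]
    rintro rfl
    exact hu H.one_mem

theorem convPow_extendByZero (H : Subgroup G) [Fintype H] (a : H → ℂ) (m : ℕ) :
    convPow (extendByZero H a) m = extendByZero H (convPow a m) := by
  induction m with
  | zero => exact (extendByZero_deltaOne H).symm
  | succ m ih =>
    show conv (extendByZero H a) (convPow (extendByZero H a) m) = extendByZero H (conv a (convPow a m))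
    rw [ih, conv_extendByZero]


/-! ### Truncation to the centralizer of a `p`-subgroup -/

/-- Truncate a function on `G` to `C_G(P)`. -/
noncomputable def trC (P : Subgroup G) (a : G → ℂ) : G → ℂ :=
  Set.indicator (Subgroup.centralizer (P : Set G) : Set G) a

omit [Fintype G] in
theorem trC_of_mem {P : Subgroup G} (a : G → ℂ) {g : G}
    (hg : g ∈ Subgroup.centralizer (P : Set G)) : trC P a g = a g :=
  Set.indicator_of_mem (show g ∈ (Subgroup.centralizer (P : Set G) : Set G) from hg) a

omit [Fintype G] in
theorem trC_of_not_mem {P : Subgroup G} (a : G → ℂ) {g : G}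
    (hg : g ∉ Subgroup.centralizer (P : Set G)) : trC P a g = 0 :=
  Set.indicator_of_notMem (show g ∉ (Subgroup.centralizer (P : Set G) : Set G) from hg) a

variable {M : Ideal AlgInt}

omit [Fintype G] in
theorem lr_trC (hM : M.IsPrime) (P : Subgroup G) {a : G → ℂ} (ha : ∀ t, MemLocalRing M (a t))
    (t : G) : MemLocalRing M (trC P a t) := by
  by_cases ht : t ∈ Subgroup.centralizer (P : Set G)
  · rw [trC_of_mem a ht]; exact ha t
  · rw [trC_of_not_mem a ht]; exact memLocalRing_zero hM

omit [Fintype G] in
theorem li_trC (hM : M.IsPrime) (P : Subgroup G) {a : G → ℂ} (ha : ∀ t, MemLocalIdeal M (a t))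
    (t : G) : MemLocalIdeal M (trC P a t) := by
  by_cases ht : t ∈ Subgroup.centralizer (P : Set G)
  · rw [trC_of_mem a ht]; exact ha t
  · rw [trC_of_not_mem a ht]; exact memLocalIdeal_zero hM

omit [Fintype G] in
theorem trC_sub (P : Subgroup G) (a a' : G → ℂ) : trC P (a - a') = trC P a - trC P a' := by
  funext t
  by_cases ht : t ∈ Subgroup.centralizer (P : Set G)
  · rw [Pi.sub_apply, trC_of_mem _ ht, trC_of_mem _ ht, trC_of_mem _ ht, Pi.sub_apply]
  · rw [Pi.sub_apply, trC_of_not_mem _ ht, trC_of_not_mem _ ht, trC_of_not_mem _ ht, sub_zero]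

omit [Fintype G] in
theorem trC_deltaOne (P : Subgroup G) : trC P (deltaOne : G → ℂ) = deltaOne := by
  funext t
  by_cases ht : t ∈ Subgroup.centralizer (P : Set G)
  · rw [trC_of_mem _ ht]
  · rw [trC_of_not_mem _ ht, deltaOne_apply_ne]
    rintro rfl
    exact ht (Subgroup.one_mem _)

/-- **The truncation map to `C_G(P)` is multiplicative modulo `M`** on `P`-invariant functions
with local-integer values. -/
theorem trC_conv {p : ℕ} [Fact p.Prime] (hM : IsPModular p M) (P : Subgroup G)
    (hP : IsPGroup p P) {a a' : G → ℂ}
    (ha : ∀ x ∈ P, ∀ t, a (x * t * x⁻¹) = a t) (ha' : ∀ x ∈ P, ∀ t, a' (x * t * x⁻¹) = a' t)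
    (haM : ∀ t, MemLocalRing M (a t)) (ha'M : ∀ t, MemLocalRing M (a' t)) (g : G) :
    MemLocalIdeal M (trC P (conv a a') g - conv (trC P a) (trC P a') g) := by
  classical
  have hMp := isPrime_of_isPModular hM
  by_cases hh : g ∈ Subgroup.centralizer (P : Set G)
  · have e1 : trC P (conv a a') g = ∑ t : G, a t * a' (t⁻¹ * g) := by
      rw [trC_of_mem _ hh]
      rfl
    have e2 : conv (trC P a) (trC P a') g =
        ∑ t ∈ Finset.univ.filter (fun t : G => t ∈ Subgroup.centralizer (P : Set G)),
          a t * a' (t⁻¹ * g) := by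
      simp only [conv]
      rw [Finset.sum_filter]
      refine Finset.sum_congr rfl fun t _ => ?_
      by_cases ht : t ∈ Subgroup.centralizer (P : Set G)
      · have ht' : t⁻¹ * g ∈ Subgroup.centralizer (P : Set G) :=
          Subgroup.mul_mem _ (Subgroup.inv_mem _ ht) hh
        rw [if_pos ht, trC_of_mem _ ht, trC_of_mem _ ht']
      · rw [if_neg ht, trC_of_not_mem _ ht, zero_mul]
    rw [e1, e2]
    let _ := conjActAll P
    have hsmul : ∀ (x : P) (t : G), x • t = (x : G) * t * (x : G)⁻¹ := fun _ _ => rfl
    have hinv : ∀ (x : P) (t : G), a (x • t) * a' ((x • t)⁻¹ * g) =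
        a t * a' (t⁻¹ * g) := by
      intro x t
      rw [hsmul, ha (x : G) x.2 t]
      congr 1
      have hxw : (x : G) * g = g * (x : G) := by
        rw [Subgroup.mem_centralizer_iff] at hh
        exact hh x x.2
      have : ((x : G) * t * (x : G)⁻¹)⁻¹ * g = (x : G) * (t⁻¹ * g) * (x : G)⁻¹ := by
        have hxw' : g * (x : G)⁻¹ = (x : G)⁻¹ * g := by
          rw [eq_inv_mul_iff_mul_eq, ← mul_assoc, hxw, mul_assoc, mul_inv_cancel, mul_one]
        calc ((x : G) * t * (x : G)⁻¹)⁻¹ * g = (x : G) * t⁻¹ * ((x : G)⁻¹ * g) := by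
              group
          _ = (x : G) * t⁻¹ * (g * (x : G)⁻¹) := by rw [hxw']
          _ = (x : G) * (t⁻¹ * g) * (x : G)⁻¹ := by group
      rw [this]
      exact ha' (x : G) x.2 _
    have hfix := sum_sub_sum_fixedPoints_memLocalIdeal hM (P := P) hP
      (fun t : G => a t * a' (t⁻¹ * g)) hinv (fun t => lr_mul hMp (haM t) (ha'M _))
    have hfilter : Finset.univ.filter (fun t : G => t ∈ MulAction.fixedPoints P G) =
        Finset.univ.filter (fun t : G => t ∈ Subgroup.centralizer (P : Set G)) := by
      ext t
      simp only [Finset.mem_filter, Finset.mem_univ, true_and]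
      exact mem_fixedPoints_conjActAll_iff P t
    rw [hfilter] at hfix
    exact hfix
  · have e1 : trC P (conv a a') g = 0 := trC_of_not_mem _ hh
    have e2 : conv (trC P a) (trC P a') g = 0 := by
      simp only [conv]
      apply Finset.sum_eq_zero
      intro t _
      by_cases ht : t ∈ Subgroup.centralizer (P : Set G)
      · have ht' : t⁻¹ * g ∉ Subgroup.centralizer (P : Set G) := by
          intro hcon
          apply hh
          have := Subgroup.mul_mem _ ht hcon
          rwa [mul_inv_cancel_left] at this
        rw [trC_of_not_mem _ ht', mul_zero]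
      · rw [trC_of_not_mem _ ht, zero_mul]
    rw [e1, e2, sub_zero]
    exact memLocalIdeal_zero hMp


/-! ### Invariance under conjugation by a fixed element -/

theorem conv_conj_invariant {a a' : G → ℂ} (x : G) (ha : ∀ t, a (x * t * x⁻¹) = a t)
    (ha' : ∀ t, a' (x * t * x⁻¹) = a' t) (u : G) :
    conv a a' (x * u * x⁻¹) = conv a a' u := by
  simp only [conv]
  refine (Fintype.sum_equiv (MulAut.conj x).toEquiv _ _ fun t => ?_).symm
  show a t * a' (t⁻¹ * u) = a (x * t * x⁻¹) * a' ((x * t * x⁻¹)⁻¹ * (x * u * x⁻¹))
  rw [ha t]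
  congr 1
  rw [← ha' (t⁻¹ * u)]
  congr 1
  group

omit [Fintype G] in
theorem deltaOne_conj_invariant (x t : G) : (deltaOne : G → ℂ) (x * t * x⁻¹) = deltaOne t :=
  isClassFunction_classIndicator (1 : G) t x

theorem convPow_conj_invariant {a : G → ℂ} (x : G) (ha : ∀ t, a (x * t * x⁻¹) = a t) (m : ℕ)
    (u : G) : convPow a m (x * u * x⁻¹) = convPow a m u := by
  induction m generalizing u with
  | zero => exact deltaOne_conj_invariant x u
  | succ m ih => exact conv_conj_invariant x ha ih u

theorem lr_convPow (hM : M.IsPrime) {a : G → ℂ} (ha : ∀ t, MemLocalRing M (a t)) (m : ℕ) (t : G) :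
    MemLocalRing M (convPow a m t) := by
  induction m generalizing t with
  | zero => exact memLocalRing_classIndicator hM 1 t
  | succ m ih => exact lr_conv hM ha ih t

/-- **Idempotent + nilpotent ⇒ zero** for the truncation to `C_G(P)`: if `z` is a `P`-invariant
idempotent with local-integer values whose truncation agrees with that of a `P`-invariant
function `y` some convolution power of which has values in the local ideal, then the truncation of
`z` has values in the local ideal. -/
theorem trC_li_of_idem_of_nilpotent {p : ℕ} [Fact p.Prime] (hM : IsPModular p M) (P : Subgroup G)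
    (hP : IsPGroup p P) {z y : G → ℂ}
    (hzP : ∀ x ∈ P, ∀ t, z (x * t * x⁻¹) = z t) (hzM : ∀ t, MemLocalRing M (z t))
    (hidem : conv z z = z)
    (hyP : ∀ x ∈ P, ∀ t, y (x * t * x⁻¹) = y t) (hyM : ∀ t, MemLocalRing M (y t))
    (hzy : trC P z = trC P y) (K : ℕ) (hK : ∀ t, MemLocalIdeal M (convPow y K t)) (t : G) :
    MemLocalIdeal M (trC P z t) := by
  have hMp := isPrime_of_isPModular hM
  set w := trC P z with hw
  have hwM : ∀ t, MemLocalRing M (w t) := lr_trC hMp P hzM
  have hw2 : ∀ t, MemLocalIdeal M (conv w w t - w t) := by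
    intro t
    have h1 := trC_conv hM P hP hzP hzP hzM hzM t
    rw [hidem] at h1
    have := li_neg h1
    rwa [neg_sub] at this
  have claimB : ∀ j : ℕ, ∀ t, MemLocalIdeal M (convPow w (j + 1) t - w t) := by
    intro j
    induction j with
    | zero =>
      intro t
      have : convPow w 1 = w := conv_deltaOne_right w
      rw [this, sub_self]
      exact memLocalIdeal_zero hMp
    | succ j ih =>
      intro t
      have e : convPow w (j + 1 + 1) t - w t =
          conv w (convPow w (j + 1) - w) t + (conv w w t - w t) := by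
        rw [conv_sub_right]
        show conv w (convPow w (j + 1)) t - w t = _
        rw [Pi.sub_apply]
        ring
      rw [e]
      exact li_add hMp (li_conv_right hMp hwM ih t) (hw2 t)
  have claimA : ∀ j : ℕ, ∀ t, MemLocalIdeal M (trC P (convPow y j) t - convPow w j t) := by
    intro j
    induction j with
    | zero =>
      intro t
      show MemLocalIdeal M (trC P deltaOne t - deltaOne t)
      rw [trC_deltaOne, sub_self]
      exact memLocalIdeal_zero hMp
    | succ j ih =>
      intro t
      have e : trC P (convPow y (j + 1)) t - convPow w (j + 1) t =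
          (trC P (conv y (convPow y j)) t - conv (trC P y) (trC P (convPow y j)) t) +
            conv w (trC P (convPow y j) - convPow w j) t := by
        rw [conv_sub_right, ← hzy]
        show trC P (conv y (convPow y j)) t - conv w (convPow w j) t = _
        rw [Pi.sub_apply]
        ring
      rw [e]
      refine li_add hMp ?_ (li_conv_right hMp hwM ih t)
      exact trC_conv hM P hP hyP (fun x hx u => convPow_conj_invariant x (hyP x hx) j u) hyM
        (lr_convPow hMp hyM j) t
  have hK1 : ∀ t, MemLocalIdeal M (convPow y (K + 1) t) := li_conv_right hMp hyM hK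
  have e : w t = trC P (convPow y (K + 1)) t - (trC P (convPow y (K + 1)) t - convPow w (K + 1) t)
      - (convPow w (K + 1) t - w t) := by ring
  rw [e]
  exact li_sub hMp (li_sub hMp (li_trC hMp P hK1 t) (claimA (K + 1) t)) (claimB K t)

end Cfsg.Agent.Helper5.CC
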