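import Mathlib
import Cfsg.Prelude.Def_Blocks
import Cfsg.Agent.Helper5.OsimaSupport
import Cfsg.Agent.Helper5.BrauerMap2
import Cfsg.Agent.Helper5.CharFacts
import Cfsg.Agent.Helper24.Abelian

set_option autoImplicit false

/-!
# Weak block orthogonality

For a central idempotent `e` of the local group ring, a `p`-regular `x` and a `p`-singular `y`,
the coefficient of `y` in `e * (class sum of x)` vanishes.  For `e` a block idempotent this is the
weak block orthogonality relation `∑_{χ ∈ B} χ(x) conj(χ(y)) = 0`.
-/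

namespace Cfsg.Agent.Helper5.CC

open Cfsg Cfsg.Agent.Helper24 Cfsg.Agent.Helper5 Cfsg.Agent.Helper5.Loc

variable {G : Type*} [Group G] [Fintype G] {M : Ideal AlgInt}

/-- **Rotation lemma.** For an arbitrary function `a` with local-integer values and a `p`-singular
element `z`, the weighted number of `p ^ (E + k)`-tuples with product conjugate to `z` is
divisible by `p ^ (k + 1)`; here `p ^ E` is the `p`-part of `|G|`. -/
theorem rotation_sum_dvd {p : ℕ} [hp : Fact p.Prime] (hM : IsPModular p M)
    (a : G → ℂ) (haM : ∀ t, MemLocalRing M (a t)) (z : G) (hz : p ∣ orderOf z) (k : ℕ) :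
    ∃ r, MemLocalRing M r ∧
      ∑ v : List.Vector G (p ^ ((Nat.card G).factorization p + k)),
        (v.toList.map a).prod * classIndicator z v.toList.prod = (p : ℂ) ^ (k + 1) * r := by
  classical
  have hMp := isPrime_of_isPModular hM
  set E := (Nat.card G).factorization p with hE
  set m := p ^ (E + k) with hm
  have hmpos : 0 < m := pow_pos hp.out.pos _
  let W : List.Vector G m → ℂ := fun v => (v.toList.map a).prod * classIndicator z v.toList.prod
  show ∃ r, MemLocalRing M r ∧ ∑ v : List.Vector G m, W v = (p : ℂ) ^ (k + 1) * r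
  set ρ := rotPerm (G := G) m with hρ
  have hWρ : ∀ v, W (ρ v) = W v := by
    intro v
    simp only [W]
    rw [hρ, rotPerm_apply_toList, List.map_rotate]
    congr 1
    · exact List.Perm.prod_eq (List.rotate_perm _ _)
    · exact IsClassFunction.eq_of_isConj (isClassFunction_classIndicator z)
        (isConj_prod_rotate v.toList 1).symm
  let H : Subgroup (Equiv.Perm (List.Vector G m)) :=
    { carrier := {g | ∀ v, W (g v) = W v}
      mul_mem' := by
        intro g h hg hh v
        rw [Equiv.Perm.mul_apply, hg, hh]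
      one_mem' := fun v => rfl
      inv_mem' := by
        intro g hg v
        have h1 := hg (g⁻¹ v)
        have h2 : g (g⁻¹ v) = v := by
          rw [← Equiv.Perm.mul_apply, mul_inv_cancel, Equiv.Perm.one_apply]
        rw [h2] at h1
        exact h1.symm }
  have hzp : Subgroup.zpowers ρ ≤ H := by
    rw [Subgroup.zpowers_le]
    exact hWρ
  have hWinv : ∀ (g : Subgroup.zpowers ρ) (v : List.Vector G m), W (g • v) = W v :=
    fun g v => hzp g.2 v
  have hWM : ∀ v, MemLocalRing M (W v) := by
    intro v
    apply lr_mul hMp _ (memLocalRing_classIndicator hMp z _)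
    apply lr_list_prod hMp
    intro x hx
    obtain ⟨t, -, rfl⟩ := List.mem_map.mp hx
    exact haM t
  have hq : ∀ v, W v ≠ 0 → p ^ (k + 1) ∣ Nat.card (MulAction.orbit (Subgroup.zpowers ρ) v) := by
    intro v hv
    have hconj : IsConj z v.toList.prod := by
      by_contra hc
      apply hv
      simp only [W]
      rw [classIndicator_of_not_isConj hc, mul_zero]
    rw [Nat.card_eq_fintype_card, ← MulAction.minimalPeriod_eq_card ρ v]
    have hper : Function.IsPeriodicPt (fun x => ρ • x) m v := by
      show (fun x => ρ • x)^[m] v = v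
      have : (fun x : List.Vector G m => ρ • x) = ⇑ρ := rfl
      rw [this, Equiv.Perm.iterate_eq_pow]
      apply Subtype.ext
      show ((ρ ^ m) v).toList = v.toList
      rw [hρ, rotPerm_pow_toList]
      have hl : v.toList.length = m := List.Vector.toList_length v
      have h3 : v.toList.rotate m = v.toList.rotate v.toList.length := by rw [hl]
      rw [h3]
      exact List.rotate_length _
    obtain ⟨j, hj, hjeq⟩ := (Nat.dvd_prime_pow hp.out).mp hper.minimalPeriod_dvd
    rw [hjeq]
    apply pow_dvd_pow
    by_contra hlt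
    push Not at hlt
    have hjk : j ≤ k := by omega
    have hper2 : Function.IsPeriodicPt (fun x => ρ • x) (p ^ k) v := by
      rw [Function.isPeriodicPt_iff_minimalPeriod_dvd, hjeq]
      exact pow_dvd_pow p hjk
    have hrot : v.toList.rotate (p ^ k) = v.toList := by
      have h1 : (fun x => ρ • x)^[p ^ k] v = v := hper2
      have : (fun x : List.Vector G m => ρ • x) = ⇑ρ := rfl
      rw [this, Equiv.Perm.iterate_eq_pow] at h1
      have h2 := congrArg List.Vector.toList h1
      rw [hρ, rotPerm_pow_toList] at h2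
      exact h2
    have hlen : v.toList.length = p ^ k * p ^ E := by
      rw [List.Vector.toList_length, hm, pow_add, mul_comm]
    obtain ⟨g, hg⟩ := prod_eq_pow_of_rotate_eq (p ^ k) (p ^ E) (pow_pos hp.out.pos _)
      v.toList hlen hrot
    have hreg := not_dvd_orderOf_pow p g
    rw [← hE, ← hg] at hreg
    apply hreg
    obtain ⟨c, hc⟩ := isConj_iff.mp hconj
    rw [← hc]
    have : orderOf (c * z * c⁻¹) = orderOf z :=
      orderOf_injective (MulAut.conj c).toMonoidHom (MulAut.conj c).injective z
    rw [this]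
    exact hz
  obtain ⟨r, hr, hsumr⟩ := sum_eq_mul_of_orbit_card_dvd hMp W hWinv hWM (p ^ (k + 1)) hq
  refine ⟨r, hr, ?_⟩
  rw [hsumr]
  push_cast
  ring

/-- Right translate of a function: the coefficient function of `a * w` in the group ring. -/
def shift (a : G → ℂ) (w : G) : G → ℂ := fun t => a (t * w⁻¹)

omit [Fintype G] in
theorem shift_apply (a : G → ℂ) (w t : G) : shift a w t = a (t * w⁻¹) := rfl

theorem conv_shift (c : G → ℂ) {d : G → ℂ} (hd : IsClassFunction G d) (u u' : G) :
    conv (shift c u) (shift d u') = shift (conv c d) (u * u') := by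
  funext t
  simp only [conv, shift_apply]
  rw [← Equiv.sum_comp (Equiv.mulRight u)]
  refine Finset.sum_congr rfl fun s _ => ?_
  simp only [Equiv.coe_mulRight, mul_inv_cancel_right]
  congr 1
  have h1 := hd (s⁻¹ * (t * (u * u')⁻¹)) u⁻¹
  rw [← h1]
  congr 1
  simp only [mul_inv_rev, inv_inv]
  group

theorem isClassFunction_convPow {a : G → ℂ} (ha : IsClassFunction G a) (m : ℕ) :
    IsClassFunction G (convPow a m) := by
  induction m with
  | zero => exact isClassFunction_classIndicator 1
  | succ m ih => exact isClassFunction_conv ha ih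

theorem convPow_shift {e : G → ℂ} (he : IsClassFunction G e) (w : G) (m : ℕ) :
    convPow (shift e w) m = shift (convPow e m) (w ^ m) := by
  induction m with
  | zero =>
    funext t
    show deltaOne t = deltaOne (t * (w ^ 0)⁻¹)
    rw [pow_zero, inv_one, mul_one]
  | succ m ih =>
    show conv (shift e w) (convPow (shift e w) m) = shift (conv e (convPow e m)) (w ^ (m + 1))
    rw [ih, conv_shift e (isClassFunction_convPow he m), pow_succ']

/-- For a central idempotent `e` of the local group ring, `x` `p`-regular and `y` `p`-singular: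
the coefficients of `e` on the coset-like set `(class of y) * x⁻¹` sum to zero. -/
theorem sum_shift_classIndicator_eq_zero {p : ℕ} [hp : Fact p.Prime] (hM : IsPModular p M)
    {e : G → ℂ} (he : IsClassFunction G e) (heM : ∀ t, MemLocalRing M (e t))
    (hidem : conv e e = e) (x y : G) (hx : ¬ p ∣ orderOf x) (hy : p ∣ orderOf y) :
    ∑ u : G, e (u * x⁻¹) * classIndicator y u = 0 := by
  apply eq_zero_of_forall_pow_dvd hM
  intro k
  set m := p ^ ((Nat.card G).factorization p + k) with hm
  have hmpos : 0 < m := pow_pos hp.out.pos _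
  -- an `m`-th root of `x`
  have hcop : Nat.Coprime m (orderOf x) := by
    rw [hm]
    apply Nat.Coprime.pow_left
    exact (Nat.Prime.coprime_iff_not_dvd hp.out).mpr hx
  obtain ⟨s, hs⟩ := exists_pow_eq_self_of_coprime hcop
  have hw : (x ^ s) ^ m = x := by
    rw [← pow_mul, mul_comm, pow_mul]; exact hs
  obtain ⟨r, hr, hsum⟩ := rotation_sum_dvd hM (shift e (x ^ s))
    (fun t => heM _) y hy k
  rw [sum_vector_eq, ← hm, convPow_shift he, hw] at hsum
  obtain ⟨m', hm'⟩ := Nat.exists_eq_succ_of_ne_zero hmpos.ne'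
  rw [hm', convPow_succ_of_idem hidem] at hsum
  refine ⟨(p : ℂ) * r, lr_mul (isPrime_of_isPModular hM)
    (memLocalRing_natCast (isPrime_of_isPModular hM) p) hr, ?_⟩
  simp only [shift_apply] at hsum
  rw [hsum]
  ring

/-- **Weak block orthogonality.** -/
theorem block_orthogonality [Fintype (IrrCharacter G)] {p : ℕ} [hp : Fact p.Prime]
    (hM : IsPModular p M) {B : Set (IrrCharacter G)} (hB : IsPBlock M B) [DecidablePred (· ∈ B)]
    (x y : G) (hx : ¬ p ∣ orderOf x) (hy : p ∣ orderOf y) :
    ∑ χ : IrrCharacter G, (if χ ∈ B then (1 : ℂ) else 0) *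
      ((χ : G → ℂ) x * (starRingEnd ℂ) ((χ : G → ℂ) y)) = 0 := by
  classical
  have hMp := isPrime_of_isPModular hM
  have h0 := sum_shift_classIndicator_eq_zero hM (isClassFunction_blockCoeff B)
    (fun t => osima hMp B hB t) (conv_blockCoeff_self B) x y hx hy
  -- expand the block idempotent
  have h1 : ∀ χ : IrrCharacter G, ∑ u : G, classIndicator y u * (χ : G → ℂ) (u * x⁻¹) =
      (χ : G → ℂ) x⁻¹ * (∑ u : G, classIndicator y u * (χ : G → ℂ) u) / (χ : G → ℂ) 1 := by
    intro χ
    have := irr_sum_mul_char_mul χ (classIndicator y) (isClassFunction_classIndicator y) x⁻¹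
    rw [eq_div_iff (irr_one_ne_zero χ), mul_comm, this]
  have hconjInd : ∀ u, (starRingEnd ℂ) (classIndicator y u) = classIndicator y u := by
    intro u
    by_cases hc : IsConj y u
    · rw [classIndicator_of_isConj hc, map_one]
    · rw [classIndicator_of_not_isConj hc, map_zero]
  set idx : ℂ := ((Subgroup.centralizer ({y} : Set G)).index : ℂ) with hidx
  have h2 : ∀ χ : IrrCharacter G, ∑ u : G, classIndicator y u * (χ : G → ℂ) u =
      idx * (χ : G → ℂ) y := by
    intro χ
    have h3 := act_classIndicator y χ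
    rw [act, centralChar_def, div_left_inj' (irr_one_ne_zero χ)] at h3
    exact h3
  have key : ∀ χ : IrrCharacter G,
      ∑ u : G, ((χ : G → ℂ) 1 * (starRingEnd ℂ) ((χ : G → ℂ) (u * x⁻¹))) * classIndicator y u =
      idx * ((χ : G → ℂ) x * (starRingEnd ℂ) ((χ : G → ℂ) y)) := by
    intro χ
    have e1 : ∑ u : G, ((χ : G → ℂ) 1 * (starRingEnd ℂ) ((χ : G → ℂ) (u * x⁻¹))) *
        classIndicator y u = (χ : G → ℂ) 1 *
        (starRingEnd ℂ) (∑ u : G, classIndicator y u * (χ : G → ℂ) (u * x⁻¹)) := by
      rw [map_sum, Finset.mul_sum]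
      refine Finset.sum_congr rfl fun u _ => ?_
      rw [map_mul, hconjInd]; ring
    have hreal : (starRingEnd ℂ) ((χ : G → ℂ) 1) = (χ : G → ℂ) 1 := by
      rw [irrDeg_spec]; simp
    have hidxreal : (starRingEnd ℂ) idx = idx := by simp [hidx]
    rw [e1, h1, h2, map_div₀, map_mul, map_mul, Cfsg.Agent.Helper5.irr_inv, Complex.conj_conj,
      hreal, hidxreal]
    have := irr_one_ne_zero χ
    field_simp
  have hsum : ∑ u : G, blockCoeff B (u * x⁻¹) * classIndicator y u =
      (Nat.card G : ℂ)⁻¹ * idx * ∑ χ : IrrCharacter G, (if χ ∈ B then (1 : ℂ) else 0) *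
        ((χ : G → ℂ) x * (starRingEnd ℂ) ((χ : G → ℂ) y)) := by
    simp_rw [blockCoeff_eq, Finset.mul_sum, Finset.sum_mul]
    rw [Finset.sum_comm]
    refine Finset.sum_congr rfl fun χ _ => ?_
    have := key χ
    rw [Finset.sum_congr rfl (fun u _ => by
      rw [show (Nat.card G : ℂ)⁻¹ * ((if χ ∈ B then (1 : ℂ) else 0) *
        ((χ : G → ℂ) 1 * (starRingEnd ℂ) ((χ : G → ℂ) (u * x⁻¹)))) * classIndicator y u =
        ((Nat.card G : ℂ)⁻¹ * (if χ ∈ B then (1 : ℂ) else 0)) *
        (((χ : G → ℂ) 1 * (starRingEnd ℂ) ((χ : G → ℂ) (u * x⁻¹))) * classIndicator y u) by ring])]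
    rw [← Finset.mul_sum, key]
    ring
  rw [hsum] at h0
  have hcard : (Nat.card G : ℂ)⁻¹ ≠ 0 := by
    apply inv_ne_zero
    have : 0 < Nat.card G := Nat.card_pos
    exact_mod_cast this.ne'
  have hidx0 : idx ≠ 0 := by
    rw [hidx]
    have : (Subgroup.centralizer ({y} : Set G)).index ≠ 0 := Subgroup.index_ne_zero_of_finite
    exact_mod_cast this
  exact (mul_eq_zero.mp h0).resolve_left (mul_ne_zero hcard hidx0)

end Cfsg.Agent.Helper5.CC
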