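import Mathlib
import Cfsg.Prelude.Def_Blocks
import Cfsg.Agent.Helper5.BlockOrth
import Cfsg.Agent.Helper5.FixedSum
import Cfsg.Agent.S0952

set_option autoImplicit false

/-!
# Külshammer's formula for the principal block idempotent

Tools: the `p ^ n`-th convolution power of a function at `1` counts, modulo `p`, the `p ^ n`-th
powers of its coefficients at the solutions of `h ^ (p ^ n) = 1`; nilpotency of the radical of the
centre; a binomial argument.
-/

namespace Cfsg.Agent.Helper5.CC

open Cfsg Cfsg.Agent.Helper24 Cfsg.Agent.Helper5 Cfsg.Agent.Helper5.Loc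

variable {G : Type*} [Group G] [Fintype G] {M : Ideal AlgInt}

/-- **Rotation congruence at the identity.** Modulo the local ideal, the coefficient of `1` in the
`p ^ n`-th convolution power of `b` is the sum of `b h ^ (p ^ n)` over the `h` with
`h ^ (p ^ n) = 1`. -/
theorem convPow_one_congr [DecidableEq G] {p : ℕ} [hp : Fact p.Prime] (hM : IsPModular p M) (b : G → ℂ)
    (hbM : ∀ t, MemLocalRing M (b t)) (n : ℕ) :
    MemLocalIdeal M (convPow b (p ^ n) 1 -
      ∑ h : G, if h ^ (p ^ n) = 1 then b h ^ (p ^ n) else 0) := by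
  classical
  have hMp := isPrime_of_isPModular hM
  set m := p ^ n with hm
  have hmpos : 0 < m := pow_pos hp.out.pos _
  let W : List.Vector G m → ℂ := fun v => (v.toList.map b).prod * classIndicator 1 v.toList.prod
  have hsum : ∑ v : List.Vector G m, W v = convPow b m 1 := by
    simp only [W]
    rw [sum_vector_eq b m (classIndicator 1)]
    rw [Finset.sum_eq_single (1 : G)]
    · rw [classIndicator_of_isConj (IsConj.refl 1), mul_one]
    · intro u _ hu
      have : classIndicator (1 : G) u = deltaOne u := rfl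
      rw [this, deltaOne_apply_ne hu, mul_zero]
    · intro h; exact absurd (Finset.mem_univ _) h
  set ρ := rotPerm (G := G) m with hρ
  have hρm : ρ ^ m = 1 := by
    apply Equiv.ext
    intro v
    apply Subtype.ext
    show ((ρ ^ m) v).toList = v.toList
    rw [hρ, rotPerm_pow_toList]
    have hl : v.toList.length = m := List.Vector.toList_length v
    have h3 : v.toList.rotate m = v.toList.rotate v.toList.length := by rw [hl]
    rw [h3]
    exact List.rotate_length _
  have hPp : IsPGroup p (Subgroup.zpowers ρ) := by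
    rintro ⟨g, hg⟩
    obtain ⟨z, rfl⟩ := Subgroup.mem_zpowers_iff.mp hg
    refine ⟨n, ?_⟩
    apply Subtype.ext
    show (ρ ^ z) ^ (p ^ n) = 1
    rw [← zpow_natCast, ← zpow_mul, mul_comm, zpow_mul, zpow_natCast, ← hm, hρm, one_zpow]
  have hWρ : ∀ v, W (ρ v) = W v := by
    intro v
    simp only [W]
    rw [hρ, rotPerm_apply_toList, List.map_rotate]
    congr 1
    · exact List.Perm.prod_eq (List.rotate_perm _ _)
    · exact IsClassFunction.eq_of_isConj (isClassFunction_classIndicator 1)
        (isConj_prod_rotate v.toList 1).symm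
  let H : Subgroup (Equiv.Perm (List.Vector G m)) :=
    { carrier := {g | ∀ v, W (g v) = W v}
      mul_mem' := by
        intro g h hg hh v
        rw [Equiv.Perm.mul_apply, hg, hh]
      one_mem' := fun v => rfl
      inv_mem' := by
        intro g hg v
        have h1 := hg (g⁻¹ v)
        have h2 : g (g⁻¹ v) = v := by
          rw [← Equiv.Perm.mul_apply, mul_inv_cancel, Equiv.Perm.one_apply]
        rw [h2] at h1
        exact h1.symm }
  have hzp : Subgroup.zpowers ρ ≤ H := by
    rw [Subgroup.zpowers_le]
    exact hWρ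
  have hWinv : ∀ (g : Subgroup.zpowers ρ) (v : List.Vector G m), W (g • v) = W v :=
    fun g v => hzp g.2 v
  have hWM : ∀ v, MemLocalRing M (W v) := by
    intro v
    apply lr_mul hMp _ (memLocalRing_classIndicator hMp 1 _)
    apply lr_list_prod hMp
    intro x hx
    obtain ⟨t, -, rfl⟩ := List.mem_map.mp hx
    exact hbM t
  have hmain := sum_sub_sum_fixedPoints_memLocalIdeal hM hPp W hWinv hWM
  rw [hsum] at hmain
  -- the fixed points are the constant tuples
  let i : G → List.Vector G m := fun h => ⟨List.replicate m h, List.length_replicate⟩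
  have hi_inj : Function.Injective i := by
    intro h h' hh
    have h1 : List.replicate m h = List.replicate m h' := congrArg Subtype.val hh
    have h2 := congrArg (fun l => l.head?) h1
    obtain ⟨m', hm'⟩ := Nat.exists_eq_succ_of_ne_zero hmpos.ne'
    simp only [hm', List.replicate_succ, List.head?_cons, Option.some.injEq] at h2
    exact h2
  have hfix : Finset.univ.filter (fun v : List.Vector G m =>
      v ∈ MulAction.fixedPoints (Subgroup.zpowers ρ) (List.Vector G m)) = Finset.univ.image i := by
    ext v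
    simp only [Finset.mem_filter, Finset.mem_univ, true_and, Finset.mem_image]
    constructor
    · intro hv
      have h1 : ρ v = v := hv ⟨ρ, Subgroup.mem_zpowers ρ⟩
      have h2 : v.toList.rotate 1 = v.toList := by
        have := congrArg List.Vector.toList h1
        rwa [hρ, rotPerm_apply_toList] at this
      have : Nonempty G := ⟨1⟩
      obtain ⟨a, ha⟩ := List.rotate_one_eq_self_iff_eq_replicate.mp h2
      refine ⟨a, ?_⟩
      apply Subtype.ext
      show List.replicate m a = v.toList
      rw [ha, List.Vector.toList_length]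
    · rintro ⟨h, rfl⟩
      rintro ⟨g, hg⟩
      obtain ⟨z, rfl⟩ := Subgroup.mem_zpowers_iff.mp hg
      show (ρ ^ z) (i h) = i h
      apply Equiv.Perm.zpow_apply_eq_self_of_apply_eq_self
      apply Subtype.ext
      show (ρ (i h)).toList = List.replicate m h
      rw [hρ, rotPerm_apply_toList]
      exact List.rotate_replicate h m 1
  rw [hfix, Finset.sum_image (fun x _ y _ hxy => hi_inj hxy)] at hmain
  have hWi : ∀ h : G, W (i h) = if h ^ m = 1 then b h ^ m else 0 := by
    intro h
    show ((List.replicate m h).map b).prod * classIndicator 1 (List.replicate m h).prod = _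
    rw [List.map_replicate, List.prod_replicate, List.prod_replicate]
    by_cases hh : h ^ m = 1
    · rw [if_pos hh, hh, classIndicator_of_isConj (IsConj.refl 1), mul_one]
    · rw [if_neg hh]
      have : classIndicator (1 : G) (h ^ m) = deltaOne (h ^ m) := rfl
      rw [this, deltaOne_apply_ne hh, mul_zero]
  simp_rw [hWi] at hmain
  exact hmain

theorem isRepI_sum (hM : M.IsPrime) {ι : Type*} (s : Finset ι) (v : ι → IrrCharacter G → ℂ)
    (h : ∀ i ∈ s, IsRepI M (v i)) : IsRepI M (fun χ => ∑ i ∈ s, v i χ) := by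
  classical
  induction s using Finset.induction_on with
  | empty => simpa using isRepI_zero (G := G) hM
  | insert a s ha ih =>
    have h1 := isRepI_add hM (h a (Finset.mem_insert_self a s))
      (ih fun i hi => h i (Finset.mem_insert_of_mem hi))
    refine isRepI_congr (fun χ => ?_) h1
    rw [Finset.sum_insert ha]

theorem act_convPow {c : G → ℂ} (hc : IsClassFunction G c) (m : ℕ) (χ : IrrCharacter G) :
    act (convPow c m) χ = act c χ ^ m := by
  induction m with
  | zero => rw [pow_zero]; exact act_deltaOne χ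
  | succ m ih =>
    show act (conv c (convPow c m)) χ = _
    rw [act_conv hc, ih, pow_succ']

/-- **Frobenius power of a central element congruent to a multiple of a block idempotent.** -/
theorem convPow_congr_of_act [Fintype (IrrCharacter G)] {p : ℕ} [hp : Fact p.Prime]
    (hM : IsPModular p M) {c₀ : G → ℂ} (hc₀ : IsClassFunction G c₀)
    (hc₀M : ∀ t, MemLocalRing M (c₀ t)) (B : Set (IrrCharacter G)) (hB : IsPBlock M B)
    (R : ℂ) (hR : MemLocalRing M R) (h0 : ∀ χ, χ ∉ B → act c₀ χ = 0)
    (h1 : ∀ χ ∈ B, MemLocalIdeal M (act c₀ χ - R)) (n : ℕ)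
    (hn : Fintype.card (IrrCharacter G) ≤ p ^ n) (g : G) :
    MemLocalIdeal M (convPow c₀ (p ^ n) g - R ^ (p ^ n) * blockCoeff B g) := by
  classical
  have hMp := isPrime_of_isPModular hM
  set m := p ^ n with hm
  have hmpos : 0 < m := pow_pos hp.out.pos _
  set K := Fintype.card (IrrCharacter G) with hK
  let f : G → ℂ := convPow c₀ m - (R ^ m) • blockCoeff B
  have hf : IsClassFunction G f :=
    isClassFunction_sub (isClassFunction_convPow hc₀ m)
      (isClassFunction_smul _ (isClassFunction_blockCoeff B))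
  have hactf : ∀ χ, act f χ = act c₀ χ ^ m - R ^ m * (if χ ∈ B then 1 else 0) := by
    intro χ
    simp only [f]
    rw [act_sub, act_smul, act_convPow hc₀, act_blockCoeff]
  -- the radical part
  let v : IrrCharacter G → ℂ := fun χ => act c₀ χ - R * (if χ ∈ B then 1 else 0)
  have hv : IsRep M v :=
    isRep_sub hMp ⟨c₀, hc₀, hc₀M, fun _ => rfl⟩
      (isRep_smul hMp hR (isRep_indicator_block hMp B hB))
  have hvli : ∀ χ, MemLocalIdeal M (v χ) := by
    intro χ
    simp only [v]
    by_cases hχ : χ ∈ B
    · rw [if_pos hχ, mul_one]; exact h1 χ hχ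
    · rw [if_neg hχ, mul_zero, sub_zero, h0 χ hχ]; exact memLocalIdeal_zero hMp
  have hvK := exists_pow_isRepI hMp hv hvli
  let w : IrrCharacter G → ℂ := fun χ =>
    ∑ j ∈ Finset.Ico 1 (m + 1), v χ ^ j * R ^ (m - j) * (m.choose j : ℂ)
  have hw : IsRepI M w := by
    apply isRepI_sum hMp
    intro j hj
    rw [Finset.mem_Ico] at hj
    by_cases hjm : j = m
    · have h2 : IsRepI M (fun χ => v χ ^ (m - K) * v χ ^ K) :=
        isRepI_mul_left hMp (isRep_pow hMp hv (m - K)) hvK
      refine isRepI_congr (fun χ => ?_) h2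
      rw [hjm, Nat.sub_self, pow_zero, Nat.choose_self, Nat.cast_one, mul_one, mul_one,
        ← pow_add, Nat.sub_add_cancel hn]
    · have hdvd : p ∣ m.choose j := by
        rw [hm]
        apply Nat.Prime.dvd_choose_pow hp.out (by omega)
        rw [← hm]; exact hjm
      have hli : MemLocalIdeal M (R ^ (m - j) * (m.choose j : ℂ)) :=
        li_mul_left hMp (lr_pow hMp hR _) ((memLocalIdeal_natCast_iff hM _).mpr hdvd)
      have h2 := isRepI_smul_of_li hMp hli (isRep_pow hMp hv j)
      refine isRepI_congr (fun χ => ?_) h2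
      ring
  have hfw : ∀ χ, act f χ = w χ := by
    intro χ
    rw [hactf]
    simp only [w]
    by_cases hχ : χ ∈ B
    · have hs : act c₀ χ = v χ + R := by
        simp only [v]; rw [if_pos hχ, mul_one]; ring
      rw [if_pos hχ, mul_one, hs, add_pow, Finset.range_eq_Ico,
        Finset.sum_eq_sum_Ico_succ_bot (by omega)]
      simp
    · have hs : act c₀ χ = 0 := h0 χ hχ
      have hv0 : v χ = 0 := by
        simp only [v]; rw [if_neg hχ, hs, mul_zero, sub_zero]
      rw [if_neg hχ, hs, hv0, mul_zero, sub_zero, zero_pow hmpos.ne']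
      symm
      apply Finset.sum_eq_zero
      intro j hj
      rw [Finset.mem_Ico] at hj
      rw [zero_pow (by omega), zero_mul, zero_mul]
  have hfinal := IsRepI.values hf (isRepI_congr (fun χ => (hfw χ).symm) hw) g
  simpa [f] using hfinal

/-- The indicator function of the `p`-regular elements. -/
noncomputable def regInd (p : ℕ) : G → ℂ := by
  classical
  exact fun t => if p ∣ orderOf t then 0 else 1

omit [Fintype G] in
theorem regInd_of_dvd {p : ℕ} {t : G} (h : p ∣ orderOf t) : regInd p t = 0 := by
  unfold regInd; exact if_pos h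

omit [Fintype G] in
theorem regInd_of_not_dvd {p : ℕ} {t : G} (h : ¬ p ∣ orderOf t) : regInd p t = 1 := by
  unfold regInd; exact if_neg h

omit [Fintype G] in
theorem isClassFunction_regInd (p : ℕ) : IsClassFunction G (regInd p) := by
  intro g x
  have : orderOf (x * g * x⁻¹) = orderOf g :=
    orderOf_injective (MulAut.conj x).toMonoidHom (MulAut.conj x).injective g
  by_cases h : p ∣ orderOf g
  · rw [regInd_of_dvd h, regInd_of_dvd (this ▸ h)]
  · rw [regInd_of_not_dvd h, regInd_of_not_dvd (this ▸ h)]

omit [Fintype G] in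
theorem lr_regInd (hM : M.IsPrime) (p : ℕ) (t : G) : MemLocalRing M (regInd p t) := by
  by_cases h : p ∣ orderOf t
  · rw [regInd_of_dvd h]; exact memLocalRing_zero hM
  · rw [regInd_of_not_dvd h]; exact memLocalRing_one hM

theorem sum_regInd (p : ℕ) :
    ∑ t : G, regInd p t = (Nat.card {y : G // ¬ p ∣ orderOf y} : ℂ) := by
  classical
  rw [Nat.card_eq_fintype_card, Fintype.card_subtype, Finset.card_filter]
  push_cast
  refine Finset.sum_congr rfl fun t _ => ?_
  by_cases h : p ∣ orderOf t
  · rw [regInd_of_dvd h, if_neg (not_not.mpr h)]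
  · rw [regInd_of_not_dvd h, if_pos h]

/-- **Külshammer's congruence.** -/
theorem kulshammer_congr [Fintype (IrrCharacter G)] {p : ℕ} [hp : Fact p.Prime]
    (hM : IsPModular p M) (g : G) (hg : ¬ p ∣ orderOf g) :
    MemLocalIdeal M
      ((Nat.card {h : G // (∃ k : ℕ, orderOf h = p ^ k) ∧ ¬ p ∣ orderOf (h * g)} : ℂ) -
        (Nat.card {y : G // ¬ p ∣ orderOf y} : ℂ) * blockCoeff (principalBlock M G) g) := by
  classical
  have hMp := isPrime_of_isPModular hM
  set c₀ : G → ℂ := regInd p with hc₀def
  have hc₀ : IsClassFunction G c₀ := isClassFunction_regInd p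
  have hc₀M : ∀ t, MemLocalRing M (c₀ t) := lr_regInd hMp p
  set r : ℕ := Nat.card {y : G // ¬ p ∣ orderOf y} with hr
  set B : Set (IrrCharacter G) := blockOf M (trivIrr G : G → ℂ) with hBdef
  have hBeq : principalBlock M G = B := rfl
  have hB : IsPBlock M B := isPBlock_blockOf (trivIrr G)
  rw [hBeq]
  have hact_triv : act c₀ (trivIrr G) = (r : ℂ) := by
    unfold act
    simp only [trivIrr_apply, mul_one, div_one]
    exact sum_regInd p
  have h0 : ∀ χ, χ ∉ B → act c₀ χ = 0 := by
    intro χ hχ
    have hns : ¬ SameBlock M (χ : G → ℂ) (trivIrr G : G → ℂ) := by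
      intro h
      exact hχ (sameBlock_symm h)
    have h2 := Cfsg.Agent.S0952.result p M hM χ (trivIrr G) hns
    rw [finsum_mem_eq_sum_ite] at h2
    unfold act
    have h3 : ∑ t : G, c₀ t * (χ : G → ℂ) t = 0 := by
      rw [← h2]
      refine Finset.sum_congr rfl fun t _ => ?_
      by_cases ht : p ∣ orderOf t
      · rw [hc₀def, regInd_of_dvd ht, zero_mul, if_neg]
        simpa using ht
      · rw [hc₀def, regInd_of_not_dvd ht, one_mul, if_pos]
        · simp
        · simpa using ht
    rw [h3, zero_div]
  have h1 : ∀ χ ∈ B, MemLocalIdeal M (act c₀ χ - (r : ℂ)) := by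
    intro χ hχ
    rw [← hact_triv]
    exact act_sub_act_memLocalIdeal hMp hc₀ hc₀M (sameBlock_symm hχ)
  -- the exponent
  set o := orderOf g with ho
  set E := (Nat.card G).factorization p with hE
  set K := Fintype.card (IrrCharacter G) with hK
  set n := Nat.totient o * (E + K + 1) with hn
  have hopos : 0 < o := orderOf_pos g
  have hφ : 0 < Nat.totient o := Nat.totient_pos.mpr hopos
  have hnE : E ≤ n := by
    calc E ≤ 1 * (E + K + 1) := by omega
      _ ≤ Nat.totient o * (E + K + 1) := Nat.mul_le_mul_right _ hφ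
  have hnK : K ≤ p ^ n := by
    have h2 : K ≤ n := by
      calc K ≤ 1 * (E + K + 1) := by omega
        _ ≤ Nat.totient o * (E + K + 1) := Nat.mul_le_mul_right _ hφ
    exact h2.trans (Nat.lt_pow_self hp.out.one_lt).le
  set m := p ^ n with hm
  have hmpos : 0 < m := pow_pos hp.out.pos _
  have hmod : m ≡ 1 [MOD o] := by
    have hcop : Nat.Coprime p o := (Nat.Prime.coprime_iff_not_dvd hp.out).mpr hg
    have h2 := Nat.ModEq.pow_totient hcop
    have h3 := h2.pow (E + K + 1)
    rw [← pow_mul, one_pow] at h3
    exact h3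
  have hgm : g ^ m = g := by
    have : g ^ m = g ^ 1 := pow_eq_pow_iff_modEq.mpr hmod
    rwa [pow_one] at this
  have hpelt : ∀ h : G, h ^ m = 1 ↔ ∃ k : ℕ, orderOf h = p ^ k := by
    intro h
    constructor
    · intro hh
      have h2 := orderOf_dvd_of_pow_eq_one hh
      obtain ⟨k, -, hk⟩ := (Nat.dvd_prime_pow hp.out).mp h2
      exact ⟨k, hk⟩
    · rintro ⟨k, hk⟩
      have hkE : k ≤ E := by
        have h2 : p ^ k ∣ Nat.card G := hk ▸ orderOf_dvd_natCard h
        exact (hp.out.pow_dvd_iff_le_factorization Nat.card_pos.ne').mp h2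
      have h3 : orderOf h ∣ m := by
        rw [hk, hm]
        exact pow_dvd_pow p (hkE.trans hnE)
      exact orderOf_dvd_iff_pow_eq_one.mp h3
  -- (I) + (II)
  have hI := convPow_one_congr hM (shift c₀ g⁻¹) (fun t => hc₀M _) n
  rw [← hm, convPow_shift hc₀, shift_apply, one_mul, ← inv_pow, inv_inv, hgm] at hI
  have hcount : ∑ h : G, (if h ^ m = 1 then shift c₀ g⁻¹ h ^ m else 0) =
      (Nat.card {h : G // (∃ k : ℕ, orderOf h = p ^ k) ∧ ¬ p ∣ orderOf (h * g)} : ℂ) := by
    rw [Nat.card_eq_fintype_card, Fintype.card_subtype, Finset.card_filter]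
    push_cast
    refine Finset.sum_congr rfl fun h _ => ?_
    rw [shift_apply, inv_inv]
    by_cases h1 : h ^ m = 1
    · rw [if_pos h1]
      by_cases h2 : p ∣ orderOf (h * g)
      · rw [hc₀def, regInd_of_dvd h2, zero_pow hmpos.ne', if_neg]
        exact fun hh => hh.2 h2
      · rw [hc₀def, regInd_of_not_dvd h2, one_pow, if_pos ⟨(hpelt h).mp h1, h2⟩]
    · rw [if_neg h1, if_neg]
      exact fun hh => h1 ((hpelt h).mpr hh.1)
  rw [hcount] at hI
  -- (III)
  have hIII := convPow_congr_of_act hM hc₀ hc₀M B hB (r : ℂ) (memLocalRing_natCast hMp r)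
    h0 h1 n hnK g
  rw [← hm] at hIII
  -- Fermat
  have hferm : MemLocalIdeal M (((r : ℂ) ^ m - (r : ℂ)) * blockCoeff B g) := by
    apply li_mul_right hMp _ (osima hMp B hB g)
    have hz : ((r ^ m : ℕ) : ZMod p) = (r : ZMod p) := by
      push_cast
      rw [hm]
      exact ZMod.pow_card_pow (p := p) (x := (r : ZMod p)) (n := n)
    have hmodEq : r ^ m ≡ r [MOD p] := (ZMod.natCast_eq_natCast_iff _ _ _).mp hz
    have hle : r ≤ r ^ m := Nat.le_self_pow hmpos.ne' r
    have hdvd : p ∣ r ^ m - r := (Nat.modEq_iff_dvd' hle).mp hmodEq.symm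
    have := (memLocalIdeal_natCast_iff hM (r ^ m - r)).mpr hdvd
    rwa [Nat.cast_sub hle, Nat.cast_pow] at this
  have hcomb := li_add hMp (li_sub hMp hIII hI) hferm
  convert hcomb using 1
  ring

end Cfsg.Agent.Helper5.CC
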