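import Mathlib
import Cfsg.Prelude.Def_Blocks
import Cfsg.Agent.Helper5.PPrimeNormal
import Cfsg.Agent.Helper5.BlockSupport
import Cfsg.Agent.Helper5.Osima
import Cfsg.Agent.S0933

set_option autoImplicit false

/-!
# Blocks of a normal subgroup covered by a block (Passman's criterion)
-/

namespace Cfsg.Agent.Helper5.CC

open Cfsg Cfsg.Agent.Helper24 Cfsg.Agent.Helper5 Cfsg.Agent.Helper5.Loc Cfsg.Agent.Helper5.RS

variable {G : Type*} [Group G] [Fintype G] {M : Ideal AlgInt}

section Conj

variable (N : Subgroup G) [hN : N.Normal]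

omit [Fintype G] in
theorem conjFun_eq_comp (η : N → ℂ) (x : G) (n : N) :
    conjFun N η x n = η (MulAut.conjNormal x n) := by
  rw [conjFun_apply]
  congr 1

omit [Fintype G] in
theorem isConj_conjNormal_iff (x : G) (n t : N) :
    IsConj (MulAut.conjNormal x n) (MulAut.conjNormal x t) ↔ IsConj n t := by
  constructor
  · intro h
    have := (MulAut.conjNormal x : N ≃* N).symm.toMonoidHom.map_isConj h
    simpa using this
  · intro h
    exact (MulAut.conjNormal x : N ≃* N).toMonoidHom.map_isConj h

omit [Fintype G] in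
theorem classIndicator_conjNormal (x : G) (n t : N) :
    classIndicator (MulAut.conjNormal x n) (MulAut.conjNormal x t) = classIndicator n t := by
  by_cases h : IsConj n t
  · rw [classIndicator_of_isConj h, classIndicator_of_isConj ((isConj_conjNormal_iff N x n t).mpr h)]
  · rw [classIndicator_of_not_isConj h,
      classIndicator_of_not_isConj (fun h' => h ((isConj_conjNormal_iff N x n t).mp h'))]

omit [Fintype G] in
/-- Central characters of conjugate characters. -/
theorem centralChar_conjIrr [Fintype N] (x : G) (η : IrrCharacter N) (n : N) :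
    centralChar (conjIrr N x η : N → ℂ) n = centralChar (η : N → ℂ) (MulAut.conjNormal x n) := by
  rw [← act_classIndicator, ← act_classIndicator]
  unfold act
  have h1 : (conjIrr N x η : N → ℂ) 1 = (η : N → ℂ) 1 := by
    show conjFun N (η : N → ℂ) x 1 = _
    rw [conjFun_eq_comp, map_one]
  rw [h1]
  congr 1
  refine Fintype.sum_equiv (MulAut.conjNormal x : N ≃* N).toEquiv _ _ ?_
  intro t
  show classIndicator n t * conjFun N (η : N → ℂ) x t = _
  rw [conjFun_eq_comp]
  simp only [MulEquiv.toEquiv_eq_coe, EquivLike.coe_coe]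
  rw [classIndicator_conjNormal]

omit [Fintype G] in
theorem sameBlock_conjIrr [Fintype N] (x : G) {η η' : IrrCharacter N}
    (h : SameBlock M (η : N → ℂ) (η' : N → ℂ)) :
    SameBlock M (conjIrr N x η : N → ℂ) (conjIrr N x η' : N → ℂ) := by
  intro n
  rw [centralChar_conjIrr, centralChar_conjIrr]
  exact h _

omit [Fintype G] in
theorem conjIrr_conjIrr (x y : G) (η : IrrCharacter N) :
    conjIrr N y (conjIrr N x η) = conjIrr N (x * y) η := by
  apply Subtype.ext
  show conjFun N (conjFun N (η : N → ℂ) x) y = conjFun N (η : N → ℂ) (x * y)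
  rw [conjFun_conjFun]

omit [Fintype G] in
theorem conjIrr_one (η : IrrCharacter N) : conjIrr N 1 η = η := by
  apply Subtype.ext
  exact conjFun_one' N _

/-- The union of the `G`-conjugates of a set of characters of `N`. -/
def conjUnion (b : Set (IrrCharacter N)) : Set (IrrCharacter N) :=
  {η | ∃ x : G, ∃ θ ∈ b, η = conjIrr N x θ}

omit [Fintype G] in
theorem subset_conjUnion (b : Set (IrrCharacter N)) : b ⊆ conjUnion N b :=
  fun θ hθ => ⟨1, θ, hθ, (conjIrr_one N θ).symm⟩

omit [Fintype G] in
theorem bijOn_conjIrr_conjUnion (b : Set (IrrCharacter N)) (x : G) :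
    Set.BijOn (conjIrr N x) (conjUnion N b) (conjUnion N b) := by
  refine ⟨?_, ?_, ?_⟩
  · rintro η ⟨y, θ, hθ, rfl⟩
    exact ⟨y * x, θ, hθ, conjIrr_conjIrr N y x θ⟩
  · intro η₁ _ η₂ _ h
    have h2 := congrArg (conjIrr N x⁻¹) h
    rw [conjIrr_conjIrr, conjIrr_conjIrr, mul_inv_cancel, conjIrr_one, conjIrr_one] at h2
    exact h2
  · rintro η ⟨y, θ, hθ, rfl⟩
    refine ⟨conjIrr N (y * x⁻¹) θ, ⟨y * x⁻¹, θ, hθ, rfl⟩, ?_⟩
    rw [conjIrr_conjIrr]
    congr 1
    group

omit [Fintype G] in
/-- The idempotent of the conjugate-union is invariant under conjugation by `G`. -/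
theorem blockCoeff_conjUnion_conj [Fintype N] (b : Set (IrrCharacter N)) (x : G) (n : N) :
    blockCoeff (conjUnion N b) ⟨x * n * x⁻¹, hN.conj_mem n n.2 x⟩ =
      blockCoeff (conjUnion N b) n := by
  rw [blockCoeff, blockCoeff]
  congr 1
  apply finsum_mem_eq_of_bijOn (conjIrr N x) (bijOn_conjIrr_conjUnion N b x)
  intro η _
  have h1 : ((conjIrr N x η : IrrCharacter N) : N → ℂ) 1 = (η : N → ℂ) 1 := by
    show conjFun N (η : N → ℂ) x 1 = _
    rw [conjFun_apply]
    exact congrArg (η : N → ℂ) (Subtype.ext (by simp))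
  have h2 : ((conjIrr N x η : IrrCharacter N) : N → ℂ) n =
      (η : N → ℂ) ⟨x * n * x⁻¹, hN.conj_mem n n.2 x⟩ := rfl
  rw [h1, h2]

omit [Fintype G] in
/-- The conjugate-union of a block is a union of blocks. -/
theorem blockOf_subset_conjUnion [Fintype N] (hM : M.IsPrime) {b : Set (IrrCharacter N)}
    (hb : IsPBlock M b) {η : IrrCharacter N} (hη : η ∈ conjUnion N b) :
    blockOf M (η : N → ℂ) ⊆ conjUnion N b := by
  obtain ⟨x, θ, hθ, rfl⟩ := hη
  intro η' hη'
  have h1 : SameBlock M (conjIrr N x θ : N → ℂ) (η' : N → ℂ) := hη'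
  have h2 := sameBlock_conjIrr (M := M) N x⁻¹ h1
  rw [conjIrr_conjIrr, mul_inv_cancel, conjIrr_one] at h2
  have h3 : conjIrr N x⁻¹ η' ∈ b := by
    rw [IsPBlock_eq_blockOf hM hb hθ]
    exact h2
  refine ⟨x, conjIrr N x⁻¹ η', h3, ?_⟩
  rw [conjIrr_conjIrr, inv_mul_cancel, conjIrr_one]

end Conj

/-- The indicator function of a union of blocks is represented by a class function with
local-integer values. -/
theorem isRep_indicator_of_union [Fintype (IrrCharacter G)] (hM : M.IsPrime)
    (A : Set (IrrCharacter G)) [DecidablePred (· ∈ A)]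
    (hA : ∀ η ∈ A, blockOf M (η : G → ℂ) ⊆ A) :
    IsRep M (fun χ : IrrCharacter G => if χ ∈ A then (1 : ℂ) else 0) := by
  classical
  have h1 : IsRep M (fun χ : IrrCharacter G => (1 : ℂ) -
      ∏ η ∈ Finset.univ.filter (· ∈ A),
        ((1 : ℂ) - if χ ∈ blockOf M (η : G → ℂ) then (1 : ℂ) else 0)) := by
    apply isRep_sub hM (isRep_one hM)
    apply isRep_prod hM
    intro η _
    exact isRep_sub hM (isRep_one hM) (isRep_indicator_block hM _ (isPBlock_blockOf η))
  obtain ⟨c, hc, hcM, hcv⟩ := h1
  refine ⟨c, hc, hcM, fun χ => ?_⟩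
  rw [← hcv]
  beta_reduce
  by_cases hχ : χ ∈ A
  · rw [if_pos hχ]
    have : ∏ η ∈ Finset.univ.filter (· ∈ A),
        ((1 : ℂ) - if χ ∈ blockOf M (η : G → ℂ) then (1 : ℂ) else 0) = 0 := by
      apply Finset.prod_eq_zero (i := χ) (by simp [hχ])
      rw [if_pos (mem_blockOf_self hM χ), sub_self]
    rw [this, sub_zero]
  · rw [if_neg hχ]
    have : ∏ η ∈ Finset.univ.filter (· ∈ A),
        ((1 : ℂ) - if χ ∈ blockOf M (η : G → ℂ) then (1 : ℂ) else 0) = 1 := by
      apply Finset.prod_eq_one
      intro η hη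
      rw [Finset.mem_filter] at hη
      have : χ ∉ blockOf M (η : G → ℂ) := fun h => hχ (hA η hη.2 h)
      rw [if_neg this, sub_zero]
    rw [this, sub_self]

theorem lr_blockCoeff_of_union [Fintype (IrrCharacter G)] (hM : M.IsPrime)
    (A : Set (IrrCharacter G)) (hA : ∀ η ∈ A, blockOf M (η : G → ℂ) ⊆ A) (g : G) :
    MemLocalRing M (blockCoeff A g) := by
  classical
  rw [blockCoeff_eq]
  exact (isRep_indicator_of_union hM A hA).coeff g

section Key

omit [Fintype G] in
/-- A class function is the combination of the class indicators. -/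
theorem sum_conjClasses_classIndicator [Fintype (ConjClasses G)] {a : G → ℂ}
    (ha : IsClassFunction G a) (t : G) :
    ∑ K : ConjClasses G, a (rep K) * classIndicator (rep K) t = a t := by
  classical
  rw [Finset.sum_eq_single (ConjClasses.mk t)]
  · have hc : IsConj (rep (ConjClasses.mk t)) t :=
      ConjClasses.mk_eq_mk_iff_isConj.mp (mk_rep _)
    rw [classIndicator_of_isConj hc, mul_one]
    exact IsClassFunction.eq_of_isConj ha hc
  · intro K _ hK
    have hc : ¬ IsConj (rep K) t := by
      intro h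
      apply hK
      rw [← mk_rep K]
      exact ConjClasses.mk_eq_mk_iff_isConj.mpr h
    rw [classIndicator_of_not_isConj hc, mul_zero]
  · intro h; exact absurd (Finset.mem_univ _) h

variable (N : Subgroup G) [hN : N.Normal] [Fintype N]

omit [Fintype G] hN in
/-- The scalar by which a class function of `G` acts on a character of `N`, regrouped by the
classes of `G`. -/
theorem restrict_act_eq_sum_inducedCentralChar [Fintype (ConjClasses G)] {a : G → ℂ}
    (ha : IsClassFunction G a) (θ : IrrCharacter N) :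
    (∑ t : N, a t * (θ : N → ℂ) t) / (θ : N → ℂ) 1 =
      ∑ K : ConjClasses G, a (rep K) * inducedCentralChar N (θ : N → ℂ) (rep K) := by
  simp_rw [Cfsg.Agent.S0933.inducedCentralChar_eq_act, act, mul_div_assoc']
  rw [← Finset.sum_div]
  congr 1
  simp_rw [Finset.mul_sum]
  rw [Finset.sum_comm]
  refine Finset.sum_congr rfl fun t _ => ?_
  have h1 := sum_conjClasses_classIndicator ha (t : G)
  rw [← h1, Finset.sum_mul]
  refine Finset.sum_congr rfl fun K _ => ?_
  show _ = a (rep K) * (classIndicator (rep K) (t : G) * (θ : N → ℂ) t)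
  ring

/-- **Key lemma for Passman's criterion.** If the central character of `χ` is congruent on `N` to
the induced central character of some `θ ∈ b`, every constituent of `χ_N` is conjugate to a member
of `b`. -/
theorem mem_conjUnion_of_congr [Fintype (IrrCharacter G)] (hM : M.IsPrime)
    {b : Set (IrrCharacter N)} (hb : IsPBlock M b) (χ : IrrCharacter G) (θ : IrrCharacter N)
    (hθ : θ ∈ b)
    (hcong : ∀ n : N, MemLocalIdeal M (centralChar (χ : G → ℂ) (n : G) -
      inducedCentralChar N (θ : N → ℂ) (n : G)))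
    (θ₀ : IrrCharacter N)
    (hθ₀ : classInner (fun n : N => (χ : G → ℂ) n) (θ₀ : N → ℂ) ≠ 0) :
    θ₀ ∈ conjUnion N b := by
  classical
  have : Fintype (IrrCharacter N) := Fintype.ofFinite _
  have : Fintype (ConjClasses G) := Fintype.ofFinite _
  let f : N → ℂ := blockCoeff (conjUnion N b)
  let a : G → ℂ := fun t => if ht : t ∈ N then f ⟨t, ht⟩ else 0
  have ha : IsClassFunction G a := by
    intro g x
    simp only [a]
    have hiff : x * g * x⁻¹ ∈ N ↔ g ∈ N := by
      constructor
      · intro hx
        have := hN.conj_mem _ hx x⁻¹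
        simpa [mul_assoc] using this
      · intro hg
        exact hN.conj_mem g hg x
    by_cases hg : g ∈ N
    · rw [dif_pos hg, dif_pos (hiff.mpr hg)]
      exact blockCoeff_conjUnion_conj N b x ⟨g, hg⟩
    · rw [dif_neg hg, dif_neg (fun h' => hg (hiff.mp h'))]
  have haM : ∀ t, MemLocalRing M (a t) := by
    intro t
    simp only [a]
    split_ifs
    · exact lr_blockCoeff_of_union hM _
        (fun η hη => blockOf_subset_conjUnion N hM hb hη) _
    · exact memLocalRing_zero hM
  have haN : ∀ t : N, a t = f t := fun t => by simp only [a, dif_pos t.2]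
  have hsum : act a χ = (∑ t : N, a t * (χ : G → ℂ) t) / (χ : G → ℂ) 1 := by
    rw [act]
    congr 1
    symm
    apply sum_subgroup_eq_sum' N (fun t => a t * (χ : G → ℂ) t)
    intro t ht
    simp only [a, dif_neg ht, zero_mul]
  have hactN : ∀ η : IrrCharacter N, (∑ t : N, a t * (η : N → ℂ) t) / (η : N → ℂ) 1 =
      if η ∈ conjUnion N b then 1 else 0 := by
    intro η
    simp_rw [haN]
    exact act_blockCoeff (conjUnion N b) η
  have e1 : act a χ = if θ₀ ∈ conjUnion N b then 1 else 0 := by
    rw [hsum, ← restrict_scalar_eq N χ θ₀ hθ₀ a ha, hactN]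
  have e2 : ∑ K : ConjClasses G, a (rep K) * inducedCentralChar N (θ : N → ℂ) (rep K) = 1 := by
    rw [← restrict_act_eq_sum_inducedCentralChar N ha θ, hactN,
      if_pos (subset_conjUnion N b hθ)]
  have hdiff : MemLocalIdeal M (act a χ -
      ∑ K : ConjClasses G, a (rep K) * inducedCentralChar N (θ : N → ℂ) (rep K)) := by
    rw [act_eq_sum_centralChar ha, ← Finset.sum_sub_distrib]
    apply li_sum hM
    intro K _
    rw [← mul_sub]
    by_cases hK : rep K ∈ N
    · exact li_mul_left hM (haM _) (hcong ⟨rep K, hK⟩)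
    · have : a (rep K) = 0 := by simp only [a, dif_neg hK]
      rw [this, zero_mul]
      exact memLocalIdeal_zero hM
  by_contra hne
  rw [e1, e2, if_neg hne, zero_sub] at hdiff
  have := li_neg hdiff
  rw [neg_neg] at this
  exact not_memLocalIdeal_one hM this

end Key

end Cfsg.Agent.Helper5.CC
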