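import Mathlib
import Cfsg.Prelude.Def_Blocks
import Cfsg.Agent.Helper5.LocalRing

set_option autoImplicit false

/-!
# Elements of the local ideal have a power divisible by `p`

and long products of elements of a finite subset of the local ideal are divisible by high powers
of `p`.
-/

namespace Cfsg.Agent.Helper5.Loc

open Cfsg Polynomial

variable {M : Ideal AlgInt}

theorem lr_list_prod' (hM : M.IsPrime) (l : List ℂ) (h : ∀ x ∈ l, MemLocalRing M x) :
    MemLocalRing M l.prod := by
  induction l with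
  | nil => simpa using memLocalRing_one hM
  | cons x l ih =>
    rw [List.prod_cons]
    exact lr_mul hM (h x (List.mem_cons_self ..))
      (ih fun y hy => h y (List.mem_cons_of_mem _ hy))

theorem intCast_not_mem {p : ℕ} (hM : IsPModular p M) {c : ℤ} (hc : ¬ (p : ℤ) ∣ c) :
    (c : AlgInt) ∉ M := by
  intro h
  have h1 : ¬ p ∣ c.natAbs := by
    intro hd
    apply hc
    exact Int.natCast_dvd.mpr hd
  apply natCast_not_mem hM h1
  rcases Int.natAbs_eq c with h2 | h2
  · have : (c.natAbs : AlgInt) = (c : AlgInt) := by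
      conv_rhs => rw [h2]
      simp
    rw [this]; exact h
  · have : (c.natAbs : AlgInt) = -(c : AlgInt) := by
      conv_rhs => rw [h2]
      simp
    rw [this]; exact M.neg_mem h

/-- An algebraic integer in `M` has a power in `p · R_M`. -/
theorem exists_pow_eq_natCast_mul_of_mem {p : ℕ} (hM : IsPModular p M) (a : AlgInt) (ha : a ∈ M) :
    ∃ j : ℕ, ∃ r : ℂ, MemLocalRing M r ∧ (a : ℂ) ^ j = (p : ℂ) * r := by
  classical
  have hMp := isPrime_of_isPModular hM
  obtain ⟨f, hmonic, hf⟩ := a.2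
  set d := f.natDegree with hd
  have hex : ∃ i, i ≤ d ∧ ¬ (p : ℤ) ∣ f.coeff i := by
    refine ⟨d, le_rfl, ?_⟩
    rw [hd, hmonic.coeff_natDegree]
    intro h
    have := Int.eq_one_of_dvd_one (by positivity) h
    have hp1 : p = 1 := by exact_mod_cast this
    exact hM.1.one_lt.ne' hp1
  let j := Nat.find hex
  have hj : j ≤ d ∧ ¬ (p : ℤ) ∣ f.coeff j := Nat.find_spec hex
  have hlt : ∀ i, i < j → (p : ℤ) ∣ f.coeff i := by
    intro i hi
    by_contra hcon
    exact Nat.find_min hex hi ⟨hi.le.trans hj.1, hcon⟩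
  choose! q hq using hlt
  -- the evaluation, as a sum in `AlgInt`
  have hsum : ∑ i ∈ Finset.range (d + 1), ((f.coeff i : ℤ) : AlgInt) * a ^ i = 0 := by
    apply Subtype.ext
    rw [eval₂_eq_sum_range] at hf
    push_cast
    rw [← hf]
    refine Finset.sum_congr rfl fun i _ => ?_
    simp
  let w : AlgInt := ∑ i ∈ Finset.range j, ((q i : ℤ) : AlgInt) * a ^ i
  let u : AlgInt := ∑ i ∈ Finset.Ico j (d + 1), ((f.coeff i : ℤ) : AlgInt) * a ^ (i - j)
  have hsplit : (p : AlgInt) * w + a ^ j * u = 0 := by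
    rw [← hsum, Finset.range_eq_Ico, ← Finset.sum_Ico_consecutive _ (Nat.zero_le j)
      (by omega : j ≤ d + 1)]
    congr 1
    · simp only [w]
      rw [Finset.mul_sum, Finset.range_eq_Ico]
      refine Finset.sum_congr rfl fun i hi => ?_
      rw [Finset.mem_Ico] at hi
      rw [hq i hi.2]
      push_cast
      ring
    · simp only [u]
      rw [Finset.mul_sum]
      refine Finset.sum_congr rfl fun i hi => ?_
      rw [Finset.mem_Ico] at hi
      have : a ^ i = a ^ j * a ^ (i - j) := by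
        rw [← pow_add, Nat.add_sub_cancel' hi.1]
      rw [this]
      ring
  have hu : u ∉ M := by
    intro hmem
    apply intCast_not_mem hM hj.2
    have h1 : u = ((f.coeff j : ℤ) : AlgInt) +
        a * ∑ i ∈ Finset.Ico (j + 1) (d + 1), ((f.coeff i : ℤ) : AlgInt) * a ^ (i - j - 1) := by
      simp only [u]
      rw [Finset.sum_eq_sum_Ico_succ_bot (by omega : j < d + 1), Nat.sub_self, pow_zero, mul_one]
      congr 1
      rw [Finset.mul_sum]
      refine Finset.sum_congr rfl fun i hi => ?_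
      rw [Finset.mem_Ico] at hi
      have : a ^ (i - j) = a * a ^ (i - j - 1) := by
        rw [← pow_succ']
        congr 1
        omega
      rw [this]
      ring
    have h2 : ((f.coeff j : ℤ) : AlgInt) = u -
        a * ∑ i ∈ Finset.Ico (j + 1) (d + 1), ((f.coeff i : ℤ) : AlgInt) * a ^ (i - j - 1) := by
      rw [h1]; ring
    rw [h2]
    exact M.sub_mem hmem (M.mul_mem_right _ ha)
  have hu0 : (u : ℂ) ≠ 0 := coe_ne_zero_of_not_mem hu
  refine ⟨j, ((-w : AlgInt) : ℂ) / (u : ℂ), ⟨-w, u, hu, rfl⟩, ?_⟩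
  have hC := congrArg (fun t : AlgInt => (t : ℂ)) hsplit
  push_cast at hC
  field_simp
  push_cast
  linear_combination hC

/-- An element of the local ideal has a power in `p · R_M`. -/
theorem exists_pow_eq_natCast_mul {p : ℕ} (hM : IsPModular p M) {x : ℂ}
    (hx : MemLocalIdeal M x) :
    ∃ j : ℕ, ∃ r : ℂ, MemLocalRing M r ∧ x ^ j = (p : ℂ) * r := by
  have hMp := isPrime_of_isPModular hM
  obtain ⟨a, b, ha, hb, rfl⟩ := hx
  obtain ⟨j, r, hr, hj⟩ := exists_pow_eq_natCast_mul_of_mem hM a ha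
  refine ⟨j, r * ((b : ℂ)⁻¹) ^ j, lr_mul hMp hr (lr_pow hMp (memLocalRing_inv_of_not_mem hb) j), ?_⟩
  rw [div_pow, hj, div_eq_mul_inv, inv_pow]
  ring

/-- Long products of elements of a finite subset of the local ideal lie in `p · R_M`. -/
theorem exists_len_prod_eq_natCast_mul {p : ℕ} (hM : IsPModular p M) (S : Finset ℂ)
    (hS : ∀ s ∈ S, MemLocalIdeal M s) :
    ∃ N : ℕ, 0 < N ∧ ∀ l : List ℂ, (∀ t ∈ l, t ∈ S) → N ≤ l.length →
      ∃ r, MemLocalRing M r ∧ l.prod = (p : ℂ) * r := by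
  classical
  have hMp := isPrime_of_isPModular hM
  have hex : ∀ s : ℂ, ∃ j : ℕ, s ∈ S → ∃ r : ℂ, MemLocalRing M r ∧ s ^ j = (p : ℂ) * r := by
    intro s
    by_cases hs : s ∈ S
    · obtain ⟨j, r, hr, hj⟩ := exists_pow_eq_natCast_mul hM (hS s hs)
      exact ⟨j, fun _ => ⟨r, hr, hj⟩⟩
    · exact ⟨0, fun h => absurd h hs⟩
  choose J hJ using hex
  refine ⟨∑ s ∈ S, J s + 1, Nat.succ_pos _, ?_⟩
  intro l hl hlen
  have hsub : l.toFinset ⊆ S := by
    intro t ht
    exact hl t (List.mem_toFinset.mp ht)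
  obtain ⟨s, hsS, hsJ⟩ : ∃ s ∈ S, J s ≤ l.count s := by
    by_contra hcon
    push Not at hcon
    have h1 : l.length = ∑ t ∈ S, l.count t := by
      rw [← List.sum_toFinset_count_eq_length l]
      apply Finset.sum_subset hsub
      intro t _ ht
      exact List.count_eq_zero.mpr (fun h => ht (List.mem_toFinset.mpr h))
    have h2 : ∑ t ∈ S, l.count t ≤ ∑ t ∈ S, J t :=
      Finset.sum_le_sum fun t ht => (hcon t ht).le
    omega
  obtain ⟨r, hr, hrs⟩ := hJ s hsS
  rw [Finset.prod_list_count_of_subset l S hsub, ← Finset.mul_prod_erase S _ hsS]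
  have h3 : s ^ l.count s = s ^ J s * s ^ (l.count s - J s) := by
    rw [← pow_add, Nat.add_sub_cancel' hsJ]
  rw [h3, hrs]
  refine ⟨r * s ^ (l.count s - J s) * ∏ t ∈ S.erase s, t ^ l.count t, ?_, by ring⟩
  apply lr_mul hMp (lr_mul hMp hr (lr_pow hMp (li_lr (hS s hsS)) _))
  apply lr_prod hMp
  intro t ht
  exact lr_pow hMp (li_lr (hS t (Finset.mem_of_mem_erase ht))) _

/-- Products of length at least `N * k` lie in `p ^ k · R_M`. -/
theorem exists_len_prod_eq_pow_mul {p : ℕ} (hM : IsPModular p M) (S : Finset ℂ)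
    (hS : ∀ s ∈ S, MemLocalIdeal M s) :
    ∃ N : ℕ, 0 < N ∧ ∀ (k : ℕ) (l : List ℂ), (∀ t ∈ l, t ∈ S) → N * k ≤ l.length →
      ∃ r, MemLocalRing M r ∧ l.prod = (p : ℂ) ^ k * r := by
  have hMp := isPrime_of_isPModular hM
  obtain ⟨N, hN, h⟩ := exists_len_prod_eq_natCast_mul hM S hS
  refine ⟨N, hN, ?_⟩
  intro k
  induction k with
  | zero =>
    intro l hl _
    refine ⟨l.prod, ?_, by simp⟩
    apply lr_list_prod' hMp
    intro t ht
    exact li_lr (hS t (hl t ht))
  | succ k ih =>
    intro l hl hlen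
    have h1 : ∀ t ∈ l.take N, t ∈ S := fun t ht => hl t (List.mem_of_mem_take ht)
    have h2 : ∀ t ∈ l.drop N, t ∈ S := fun t ht => hl t (List.mem_of_mem_drop ht)
    have hlen1 : N ≤ (l.take N).length := by
      rw [List.length_take]
      have : N ≤ l.length := by nlinarith
      omega
    have hlen2 : N * k ≤ (l.drop N).length := by
      rw [List.length_drop]
      have : N * (k + 1) = N * k + N := by ring
      omega
    obtain ⟨r1, hr1, e1⟩ := h (l.take N) h1 hlen1
    obtain ⟨r2, hr2, e2⟩ := ih (l.drop N) h2 hlen2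
    refine ⟨r1 * r2, lr_mul hMp hr1 hr2, ?_⟩
    rw [← List.take_append_drop N l, List.prod_append, e1, e2]
    ring

end Cfsg.Agent.Helper5.Loc
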