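import Mathlib
import Cfsg.Prelude.Def_Blocks
import Cfsg.Agent.Helper5.OsimaSupport
import Cfsg.Agent.Helper5.PowP

set_option autoImplicit false

/-!
# Twisted rotation of tuples and a vanishing theorem

For an idempotent `z` of the group ring that is invariant under conjugation by `h` and small on
the centralizer of the `p`-part of `h`, the sum `∑ z g * φ (g * h)` vanishes for every class
function `φ` (the combinatorial core of Brauer's second main theorem).
-/

namespace Cfsg.Agent.Helper5.CC

open Cfsg Cfsg.Agent.Helper24 Cfsg.Agent.Helper5 Cfsg.Agent.Helper5.Loc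

section TwList

variable {α : Type*}

/-- Move the head to the end, applying `c` to it. -/
def tw (c : α → α) : List α → List α
  | [] => []
  | a :: l => l ++ [c a]

@[simp] theorem tw_nil (c : α → α) : tw c [] = [] := rfl

@[simp] theorem tw_cons (c : α → α) (a : α) (l : List α) : tw c (a :: l) = l ++ [c a] := rfl

@[simp] theorem length_tw (c : α → α) (l : List α) : (tw c l).length = l.length := by
  cases l <;> simp

theorem tw_injective (c : α → α) (hc : Function.Injective c) : Function.Injective (tw c) := by
  intro l l' h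
  cases l with
  | nil =>
    cases l' with
    | nil => rfl
    | cons b l' => simp at h
  | cons a l =>
    cases l' with
    | nil => simp at h
    | cons b l' =>
      simp only [tw_cons] at h
      have hlen : l.length = l'.length := by
        have := congrArg List.length h
        simpa using this
      obtain ⟨h1, h2⟩ := List.append_inj h hlen
      rw [h1, hc (List.singleton_injective h2)]

theorem tw_iterate (c : α → α) (l : List α) :
    ∀ j, j ≤ l.length → (tw c)^[j] l = l.drop j ++ (l.take j).map c := by
  intro j
  induction j with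
  | zero => intro _; simp
  | succ j ih =>
    intro hj
    rw [Function.iterate_succ_apply', ih (by omega)]
    have hlt : j < l.length := by omega
    rw [List.drop_eq_getElem_cons hlt, List.cons_append, tw_cons,
      List.take_succ_eq_append_getElem hlt, List.map_append, List.append_assoc]
    simp

theorem tw_iterate_length (c : α → α) (l : List α) : (tw c)^[l.length] l = l.map c := by
  rw [tw_iterate c l l.length le_rfl]
  simp

theorem tw_iterate_length_mul (c : α → α) (l : List α) (i : ℕ) :
    (tw c)^[l.length * i] l = l.map c^[i] := by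
  induction i generalizing l with
  | zero => simp
  | succ i ih =>
    rw [Nat.mul_succ, Function.iterate_add_apply, tw_iterate_length]
    have := ih (l.map c)
    rw [List.length_map] at this
    rw [this, List.map_map]
    congr 1

theorem length_tw_iterate (c : α → α) (l : List α) (j : ℕ) : ((tw c)^[j] l).length = l.length := by
  induction j with
  | zero => rfl
  | succ j ih => rw [Function.iterate_succ_apply', length_tw, ih]

theorem map_eq_self {f : α → α} : ∀ {l : List α}, l.map f = l → ∀ t ∈ l, f t = t
  | [], _, t, ht => by simp at ht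
  | a :: l, h, t, ht => by
    simp only [List.map_cons, List.cons.injEq] at h
    rcases List.mem_cons.mp ht with rfl | ht'
    · exact h.1
    · exact map_eq_self h.2 t ht'

theorem forall_mem_tw_iff (c : α → α) (P : α → Prop) (hP : ∀ t, P (c t) ↔ P t) (l : List α) :
    (∀ t ∈ tw c l, P t) ↔ ∀ t ∈ l, P t := by
  cases l with
  | nil => simp
  | cons a l =>
    constructor
    · intro h t ht
      rcases List.mem_cons.mp ht with rfl | ht
      · exact (hP t).mp (h _ (by simp))
      · exact h t (by simp [ht])
    · intro h t ht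
      rw [tw_cons, List.mem_append, List.mem_singleton] at ht
      rcases ht with ht | rfl
      · exact h t (List.mem_cons_of_mem _ ht)
      · exact (hP a).mpr (h a (List.mem_cons_self ..))

theorem prod_map_tw (c : α → α) (z : α → ℂ) (hz : ∀ t, z (c t) = z t) (l : List α) :
    ((tw c l).map z).prod = (l.map z).prod := by
  cases l with
  | nil => rfl
  | cons a l =>
    rw [tw_cons, List.map_append, List.prod_append, List.map_cons, List.map_nil, List.prod_cons,
      List.prod_nil, mul_one, hz, List.map_cons, List.prod_cons, mul_comm]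

end TwList

section Twist

variable {G : Type*} [Group G]

/-- Conjugation by `h` as a function. -/
def cjf (h : G) : G → G := fun t => h * t * h⁻¹

theorem cjf_injective (h : G) : Function.Injective (cjf h) := by
  intro a b hab
  simp only [cjf] at hab
  exact mul_left_cancel (mul_right_cancel hab)

theorem cjf_iterate (h : G) (i : ℕ) : (cjf h)^[i] = cjf (h ^ i) := by
  induction i with
  | zero => funext t; simp [cjf]
  | succ i ih =>
    funext t
    rw [Function.iterate_succ_apply', ih]
    simp only [cjf]
    rw [pow_succ']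
    group

theorem phi_prod_tw {φ : G → ℂ} (hφ : IsClassFunction G φ) (h : G) (l : List G) :
    φ ((tw (cjf h) l).prod * h) = φ (l.prod * h) := by
  cases l with
  | nil => rfl
  | cons a l =>
    rw [tw_cons, List.prod_append, List.prod_cons, List.prod_nil, mul_one, List.prod_cons]
    have h1 := hφ (l.prod * h * a) a
    have e1 : l.prod * cjf h a * h = l.prod * h * a := by
      simp only [cjf]; group
    have e2 : a * (l.prod * h * a) * a⁻¹ = a * l.prod * h := by group
    rw [e1, ← h1, e2]

variable [Fintype G]

/-- The twisted rotation as a permutation of the `m`-tuples. -/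
noncomputable def twPerm (h : G) (m : ℕ) : Equiv.Perm (List.Vector G m) :=
  Equiv.ofBijective
    (fun v => (⟨tw (cjf h) v.toList, by rw [length_tw]; exact v.2⟩ : List.Vector G m)) (by
    apply Finite.injective_iff_bijective.mp
    intro v w hvw
    have h1 : tw (cjf h) v.toList = tw (cjf h) w.toList := congrArg Subtype.val hvw
    exact Subtype.ext (tw_injective _ (cjf_injective h) h1))

omit [Fintype G] in
theorem twPerm_apply_toList [Fintype G] (h : G) (m : ℕ) (v : List.Vector G m) :
    (twPerm h m v).toList = tw (cjf h) v.toList := rfl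

theorem twPerm_pow_toList (h : G) (m d : ℕ) (v : List.Vector G m) :
    ((twPerm h m ^ d) v).toList = (tw (cjf h))^[d] v.toList := by
  induction d generalizing v with
  | zero => rfl
  | succ d ih =>
    rw [pow_succ', Equiv.Perm.mul_apply, twPerm_apply_toList, ih, Function.iterate_succ_apply']

theorem twPerm_pow_mul_toList (h : G) (m i : ℕ) (v : List.Vector G m) :
    ((twPerm h m ^ (m * i)) v).toList = v.toList.map (cjf (h ^ i)) := by
  rw [twPerm_pow_toList]
  have hl : v.toList.length = m := v.2
  have := tw_iterate_length_mul (cjf h) v.toList i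
  rw [hl] at this
  rw [this, cjf_iterate]

end Twist

section Vanish

variable {G : Type*} [Group G] [Fintype G] {M : Ideal AlgInt}

/-- **Vanishing theorem.** Let `z` be an idempotent of the local group ring, invariant under
conjugation by `h`, whose coefficients on the centralizer of the `p`-element `h ^ c` lie in the
local ideal.  Then `∑ z g * φ (g * h) = 0` for every class function `φ` with local-integer
values. -/
theorem sum_mul_shift_eq_zero {p : ℕ} [hp : Fact p.Prime] (hM : IsPModular p M) (h : G)
    (c k : ℕ) (hck : (h ^ c) ^ (p ^ k) = 1) {z : G → ℂ} (hzM : ∀ t, MemLocalRing M (z t))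
    (hzh : ∀ t, z (h * t * h⁻¹) = z t) (hidem : conv z z = z)
    (hzC : ∀ v, v * h ^ c = h ^ c * v → MemLocalIdeal M (z v))
    {φ : G → ℂ} (hφ : IsClassFunction G φ) (hφM : ∀ t, MemLocalRing M (φ t)) :
    ∑ g : G, z g * φ (g * h) = 0 := by
  classical
  have hMp := isPrime_of_isPModular hM
  apply eq_zero_of_forall_pow_dvd hM
  intro k₀
  set y := h ^ c with hy
  let S : Finset ℂ := (Finset.univ.filter (fun v : G => v * y = y * v)).image z
  have hS : ∀ s ∈ S, MemLocalIdeal M s := by
    intro s hs
    obtain ⟨v, hv, rfl⟩ := Finset.mem_image.mp hs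
    exact hzC v (Finset.mem_filter.mp hv).2
  obtain ⟨N, hNpos, hN⟩ := exists_len_prod_eq_pow_mul hM S hS
  set n := N * k₀ + k₀ with hn
  set m := p ^ n with hm
  have hmpos : 0 < m := pow_pos hp.out.pos _
  have hmN : N * k₀ ≤ m := by
    have h1 : n < p ^ n := Nat.lt_pow_self hp.out.one_lt
    omega
  let W : List.Vector G m → ℂ := fun v => (v.toList.map z).prod * φ (v.toList.prod * h)
  have hsum : ∑ v : List.Vector G m, W v = ∑ g : G, z g * φ (g * h) := by
    simp only [W]
    rw [sum_vector_eq z m (fun u => φ (u * h))]
    obtain ⟨m', hm'⟩ := Nat.exists_eq_succ_of_ne_zero hmpos.ne'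
    rw [hm', convPow_succ_of_idem hidem]
  rw [← hsum]
  set τ := twPerm h m with hτ
  set σ := τ ^ c with hσ
  let Cset : List.Vector G m → Prop := fun v => ∀ t ∈ v.toList, t * y = y * t
  have hhy : h * y = y * h := by
    rw [hy, ← pow_succ', ← pow_succ]
  have hCτ : ∀ v, Cset (τ v) ↔ Cset v := by
    intro v
    simp only [Cset]
    rw [hτ, twPerm_apply_toList]
    apply forall_mem_tw_iff
    intro t
    simp only [cjf]
    have hy' : h * y * h⁻¹ = y := by rw [hhy, mul_assoc, mul_inv_cancel, mul_one]
    have e1 : h * t * h⁻¹ * y = h * (t * y) * h⁻¹ := by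
      conv_lhs => rw [← hy']
      group
    have e2 : y * (h * t * h⁻¹) = h * (y * t) * h⁻¹ := by
      conv_lhs => rw [← hy']
      group
    rw [e1, e2]
    constructor
    · intro h1
      exact mul_left_cancel (mul_right_cancel h1)
    · intro h1
      rw [h1]
  have hWτ : ∀ v, W (τ v) = W v := by
    intro v
    simp only [W]
    rw [hτ, twPerm_apply_toList, prod_map_tw (cjf h) z (fun t => hzh t), phi_prod_tw hφ]
  -- the subgroup of permutations preserving `W` and `Cset`
  let H : Subgroup (Equiv.Perm (List.Vector G m)) :=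
    { carrier := {g | ∀ v, W (g v) = W v ∧ (Cset (g v) ↔ Cset v)}
      mul_mem' := by
        intro g g' hg hg' v
        rw [Equiv.Perm.mul_apply]
        exact ⟨(hg _).1.trans (hg' v).1, (hg _).2.trans (hg' v).2⟩
      one_mem' := fun v => ⟨rfl, Iff.rfl⟩
      inv_mem' := by
        intro g hg v
        have h1 := hg (g⁻¹ v)
        have h2 : g (g⁻¹ v) = v := by
          rw [← Equiv.Perm.mul_apply, mul_inv_cancel, Equiv.Perm.one_apply]
        rw [h2] at h1
        exact ⟨h1.1.symm, h1.2.symm⟩ }
  have hτH : τ ∈ H := fun v => ⟨hWτ v, hCτ v⟩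
  have hzp : Subgroup.zpowers σ ≤ H := by
    rw [Subgroup.zpowers_le]
    exact H.pow_mem hτH c
  -- the two parts of the weight
  let W₁ : List.Vector G m → ℂ := fun v => if Cset v then W v else 0
  let W₂ : List.Vector G m → ℂ := fun v => if Cset v then 0 else W v
  have hW12 : ∀ v, W v = W₁ v + W₂ v := by
    intro v
    simp only [W₁, W₂]
    by_cases hv : Cset v
    · rw [if_pos hv, if_pos hv, add_zero]
    · rw [if_neg hv, if_neg hv, zero_add]
  have hWM : ∀ v, MemLocalRing M (W v) := by
    intro v
    apply lr_mul hMp _ (hφM _)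
    apply lr_list_prod hMp
    intro x hx
    obtain ⟨t, -, rfl⟩ := List.mem_map.mp hx
    exact hzM t
  -- the first part is divisible by `p ^ k₀`
  have h1 : ∀ v, ∃ r, MemLocalRing M r ∧ W₁ v = (p : ℂ) ^ k₀ * r := by
    intro v
    simp only [W₁]
    by_cases hv : Cset v
    · rw [if_pos hv]
      have hl : ∀ t ∈ v.toList.map z, t ∈ S := by
        intro t ht
        obtain ⟨u, hu, rfl⟩ := List.mem_map.mp ht
        exact Finset.mem_image.mpr ⟨u, Finset.mem_filter.mpr ⟨Finset.mem_univ _, hv u hu⟩, rfl⟩
      have hlen : N * k₀ ≤ (v.toList.map z).length := by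
        rw [List.length_map, List.Vector.toList_length]
        exact hmN
      obtain ⟨r, hr, hrp⟩ := hN k₀ _ hl hlen
      refine ⟨r * φ (v.toList.prod * h), lr_mul hMp hr (hφM _), ?_⟩
      simp only [W]
      rw [hrp]; ring
    · rw [if_neg hv]
      exact ⟨0, memLocalRing_zero hMp, by ring⟩
  choose r₁ hr₁ hr₁' using h1
  -- the second part is divisible by `p ^ (n + 1)`
  have hW₂inv : ∀ (g : Subgroup.zpowers σ) (v : List.Vector G m), W₂ (g • v) = W₂ v := by
    intro g v
    have hg := hzp g.2 v
    simp only [W₂]
    have hg1 : W ((g : Equiv.Perm (List.Vector G m)) v) = W v := hg.1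
    have hg2 : Cset ((g : Equiv.Perm (List.Vector G m)) v) ↔ Cset v := hg.2
    show (if Cset ((g : Equiv.Perm (List.Vector G m)) v) then 0
      else W ((g : Equiv.Perm (List.Vector G m)) v)) = _
    by_cases hv : Cset v
    · rw [if_pos hv, if_pos (hg2.mpr hv)]
    · rw [if_neg hv, if_neg (fun h' => hv (hg2.mp h')), hg1]
  have hW₂M : ∀ v, MemLocalRing M (W₂ v) := by
    intro v
    simp only [W₂]
    split_ifs
    · exact memLocalRing_zero hMp
    · exact hWM v
  have hσper : ∀ v : List.Vector G m, (σ ^ (p ^ (n + k))) v = v := by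
    intro v
    apply Subtype.ext
    show ((σ ^ (p ^ (n + k))) v).toList = v.toList
    rw [hσ, ← pow_mul, hτ]
    have e1 : c * p ^ (n + k) = m * (c * p ^ k) := by
      rw [hm, pow_add]; ring
    rw [e1, twPerm_pow_mul_toList]
    have e2 : h ^ (c * p ^ k) = 1 := by rw [pow_mul]; exact hck
    rw [e2]
    have : cjf (1 : G) = id := by funext t; simp [cjf]
    rw [this, List.map_id]
  have hq : ∀ v, W₂ v ≠ 0 →
      p ^ (n + 1) ∣ Nat.card (MulAction.orbit (Subgroup.zpowers σ) v) := by
    intro v hv
    have hnC : ¬ Cset v := by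
      intro hC
      apply hv
      simp only [W₂]
      rw [if_pos hC]
    rw [Nat.card_eq_fintype_card, ← MulAction.minimalPeriod_eq_card σ v]
    have hfun : (fun x : List.Vector G m => σ • x) = ⇑σ := rfl
    have hper : Function.IsPeriodicPt (fun x => σ • x) (p ^ (n + k)) v := by
      show (fun x => σ • x)^[p ^ (n + k)] v = v
      rw [hfun, Equiv.Perm.iterate_eq_pow]
      exact hσper v
    obtain ⟨j, hj, hjeq⟩ := (Nat.dvd_prime_pow hp.out).mp hper.minimalPeriod_dvd
    rw [hjeq]
    apply pow_dvd_pow
    by_contra hlt
    push Not at hlt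
    have hjn : j ≤ n := by omega
    apply hnC
    have hper2 : Function.IsPeriodicPt (fun x => σ • x) (p ^ n) v := by
      rw [Function.isPeriodicPt_iff_minimalPeriod_dvd, hjeq]
      exact pow_dvd_pow p hjn
    have h3 : (σ ^ (p ^ n)) v = v := by
      have h4 : (fun x => σ • x)^[p ^ n] v = v := hper2
      rwa [hfun, Equiv.Perm.iterate_eq_pow] at h4
    have h5 := congrArg List.Vector.toList h3
    rw [hσ, ← pow_mul, hτ, mul_comm c, ← hm, twPerm_pow_mul_toList] at h5
    intro t ht
    have h6 := map_eq_self h5 t ht
    simp only [cjf] at h6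
    have h7 : y * t = t * y := by
      have := congrArg (· * y) h6
      simpa [hy, mul_assoc] using this
    exact h7.symm
  obtain ⟨r₂, hr₂, hsum₂⟩ := sum_eq_mul_of_orbit_card_dvd hMp W₂ hW₂inv hW₂M (p ^ (n + 1)) hq
  refine ⟨∑ v, r₁ v + (p : ℂ) ^ (n + 1 - k₀) * r₂, ?_, ?_⟩
  · exact lr_add hMp (lr_sum hMp _ _ fun v _ => hr₁ v)
      (lr_mul hMp (lr_pow hMp (memLocalRing_natCast hMp p) _) hr₂)
  · rw [Finset.sum_congr rfl (fun v _ => hW12 v), Finset.sum_add_distrib, hsum₂,
      Finset.sum_congr rfl (fun v _ => hr₁' v), ← Finset.mul_sum]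
    have hk : n + 1 = k₀ + (n + 1 - k₀) := by omega
    conv_lhs => rw [hk]
    push_cast
    ring

end Vanish

end Cfsg.Agent.Helper5.CC
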