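import Mathlib
import Cfsg.Prelude.Def_Blocks
import Cfsg.Agent.Helper5.ConvAlg
import Cfsg.Agent.Helper5.TwistedRotation
import Cfsg.Agent.Helper5.Passman
import Cfsg.Agent.Helper5.Kulshammer
import Cfsg.Agent.Helper5.BrauerMap2
import Cfsg.Agent.Helper18.FocalFusion

/-!
# Brauer's second main theorem (idempotent form)
-/

set_option autoImplicit false

namespace Cfsg.Agent.Helper5.CC

open Cfsg Cfsg.Agent.Helper24 Cfsg.Agent.Helper5 Cfsg.Agent.Helper5.Loc

variable {G : Type*} [Group G] [Fintype G]

/-- **Fact 1.** Convolving with a class function `c` multiplies the twisted character sum by the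
scalar by which `c` acts. -/
theorem sum_conv_mul_shift (a : G → ℂ) {c : G → ℂ} (hc : IsClassFunction G c)
    (χ : IrrCharacter G) (h : G) :
    ∑ g : G, conv a c g * (χ : G → ℂ) (g * h) =
      act c χ * ∑ g : G, a g * (χ : G → ℂ) (g * h) := by
  have h1 : (χ : G → ℂ) 1 ≠ 0 := irr_one_ne_zero χ
  have hχ := isClassFunction_irr χ
  have key : ∀ s : G, ∑ r : G, c r * (χ : G → ℂ) (r * s) = act c χ * (χ : G → ℂ) s := by
    intro s
    have := irr_sum_mul_char_mul χ c hc s
    rw [act, div_mul_eq_mul_div, eq_div_iff h1, mul_comm, this, mul_comm]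
  simp only [conv]
  simp_rw [Finset.sum_mul]
  rw [Finset.sum_comm, Finset.mul_sum]
  refine Finset.sum_congr rfl fun t _ => ?_
  -- ∑ g, a t * c (t⁻¹ g) * χ (g h) = act c χ * (a t * χ (t h))
  have e1 : ∑ g : G, a t * c (t⁻¹ * g) * (χ : G → ℂ) (g * h) =
      a t * ∑ r : G, c r * (χ : G → ℂ) (r * (h * t)) := by
    rw [Finset.mul_sum]
    refine Fintype.sum_equiv (Equiv.mulLeft t⁻¹) _ _ fun g => ?_
    simp only [Equiv.coe_mulLeft]
    rw [mul_assoc]
    congr 2
    have := hχ (g * h) t⁻¹
    rw [← this]
    group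
  rw [e1, key]
  have e2 : (χ : G → ℂ) (h * t) = (χ : G → ℂ) (t * h) := by
    have := hχ (h * t) t
    rw [← this]
    group
  rw [e2]
  ring

omit [Fintype G] in
theorem deltaOne_coe (H : Subgroup G) (s : H) : (deltaOne : G → ℂ) (s : G) = deltaOne s := by
  by_cases h1 : s = 1
  · subst h1
    rw [Subgroup.coe_one, deltaOne_apply_one, deltaOne_apply_one]
  · rw [deltaOne_apply_ne h1, deltaOne_apply_ne]
    intro hcon
    apply h1
    exact Subtype.ext hcon

omit [Fintype G] in
theorem extendByZero_conj_invariant (H : Subgroup G) {f : H → ℂ} (hf : IsClassFunction H f)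
    {x : G} (hx : x ∈ H) (t : G) :
    extendByZero H f (x * t * x⁻¹) = extendByZero H f t := by
  by_cases ht : t ∈ H
  · have ht' : x * t * x⁻¹ ∈ H := H.mul_mem (H.mul_mem hx ht) (H.inv_mem hx)
    rw [extendByZero_apply_mem H f ht', extendByZero_apply_mem H f ht]
    exact hf ⟨t, ht⟩ ⟨x, hx⟩
  · have ht' : x * t * x⁻¹ ∉ H := by
      intro hcon
      apply ht
      have := H.mul_mem (H.mul_mem (H.inv_mem hx) hcon) hx
      have e : x⁻¹ * (x * t * x⁻¹) * x = t := by group
      rwa [e] at this
    rw [extendByZero_apply_not_mem H f ht', extendByZero_apply_not_mem H f ht]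


variable {M : Ideal AlgInt}

/-- The "complementary idempotent" `δ - e_B` is idempotent. -/
theorem conv_deltaOne_sub_blockCoeff_self [Fintype (IrrCharacter G)] (B : Set (IrrCharacter G)) :
    conv (deltaOne - blockCoeff B) (deltaOne - blockCoeff B) = deltaOne - blockCoeff B := by
  rw [conv_sub_left, conv_sub_right, conv_sub_right, conv_deltaOne_left, conv_deltaOne_left,
    conv_deltaOne_right, conv_blockCoeff_self]
  funext t
  simp only [Pi.sub_apply]
  ring

/-- **The induced-block congruence on scalars**: if `b` induces `B`, then the restriction of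
`e_B` to `H` acts as `1` modulo `M` on the members of `b`. -/
theorem act_restrict_blockCoeff_sub_one [Fintype (IrrCharacter G)] [Fintype (ConjClasses G)]
    (hM : M.IsPrime) (H : Subgroup G) [Fintype H]
    {b : Set (IrrCharacter H)} {B : Set (IrrCharacter G)} (hind : IsInducedBlock M H b B)
    (ξ : IrrCharacter H) (hξ : ξ ∈ b) :
    MemLocalIdeal M (act (fun k : H => blockCoeff B (k : G)) ξ - 1) := by
  classical
  obtain ⟨hb, hB, hcong⟩ := hind
  obtain ⟨χ', hχ'⟩ := IsPBlock.nonempty hM hB
  have hE := isClassFunction_blockCoeff B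
  have h1 : act (blockCoeff B) χ' = 1 := by rw [act_blockCoeff, if_pos hχ']
  have h2 : act (fun k : H => blockCoeff B (k : G)) ξ =
      ∑ K : ConjClasses G, blockCoeff B (rep K) * inducedCentralChar H (ξ : H → ℂ) (rep K) :=
    restrict_act_eq_sum_inducedCentralChar H hE ξ
  rw [h2, ← h1, act_eq_sum_centralChar hE, ← Finset.sum_sub_distrib]
  apply li_sum hM
  intro K _
  rw [← mul_sub]
  exact li_mul_left hM (osima hM B hB _) (hcong ξ hξ χ' hχ' _)


/-- **Nilpotency**: for `b` inducing `B`, the class function `e_b * (δ - e_B|_H)` of `H` has a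
convolution power with values in the local ideal. -/
theorem exists_convPow_li_of_induced [Fintype (IrrCharacter G)] [Fintype (ConjClasses G)]
    (hM : M.IsPrime) (H : Subgroup G) [Fintype H] [Fintype (IrrCharacter H)]
    {b : Set (IrrCharacter H)} {B : Set (IrrCharacter G)} (hind : IsInducedBlock M H b B) :
    ∃ K : ℕ, ∀ t : H, MemLocalIdeal M
      (convPow (conv (blockCoeff b) (deltaOne - fun k : H => blockCoeff B (k : G))) K t) := by
  classical
  have hb := hind.1
  have hB := hind.2.1
  set f : H → ℂ := conv (blockCoeff b) (deltaOne - fun k : H => blockCoeff B (k : G)) with hf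
  have hEH : IsClassFunction H (fun k : H => blockCoeff B (k : G)) :=
    isClassFunction_res (isClassFunction_blockCoeff B)
  have hFH : IsClassFunction H (deltaOne - fun k : H => blockCoeff B (k : G)) :=
    isClassFunction_sub (isClassFunction_classIndicator 1) hEH
  have hfc : IsClassFunction H f := isClassFunction_conv (isClassFunction_blockCoeff b) hFH
  have hfM : ∀ t, MemLocalRing M (f t) :=
    lr_conv hM (osima hM b hb) (fun t => lr_sub hM (memLocalRing_classIndicator hM 1 t)
      (osima hM B hB _))
  have hli : ∀ ξ : IrrCharacter H, MemLocalIdeal M (act f ξ) := by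
    intro ξ
    rw [hf, act_conv (isClassFunction_blockCoeff b), act_blockCoeff]
    by_cases hξ : ξ ∈ b
    · rw [if_pos hξ, one_mul, act_sub, act_deltaOne]
      have := li_neg (act_restrict_blockCoeff_sub_one hM H hind ξ hξ)
      rwa [neg_sub] at this
    · rw [if_neg hξ, zero_mul]
      exact memLocalIdeal_zero hM
  have hv : IsRep M (fun ψ : IrrCharacter H => act f ψ) := ⟨f, hfc, hfM, fun _ => rfl⟩
  refine ⟨Fintype.card (IrrCharacter H), ?_⟩
  apply IsRepI.values (isClassFunction_convPow hfc _)
  exact isRepI_congr (fun ψ => (act_convPow hfc _ ψ).symm) (exists_pow_isRepI hM hv hli)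


/-- **Brauer's second main theorem, idempotent form** (finite sums). -/
theorem second_main_idem [Fintype (IrrCharacter G)] {p : ℕ} [hp : Fact p.Prime]
    (hM : IsPModular p M) (H : Subgroup G) [Fintype H]
    (b : Set (IrrCharacter H)) (B : Set (IrrCharacter G)) (hind : IsInducedBlock M H b B)
    (h : H) (hC : ∀ z : G, IsPPart p (h : G) z → Subgroup.centralizer ({z} : Set G) ≤ H)
    (χ : IrrCharacter G) (hχ : χ ∉ B) :
    ∑ k : H, blockCoeff b k * (χ : G → ℂ) ((k : G) * (h : G)) = 0 := by
  classical
  have hMp := isPrime_of_isPModular hM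
  have : Fintype (ConjClasses G) := Fintype.ofFinite _
  have : Fintype (IrrCharacter H) := Fintype.ofFinite _
  have hb := hind.1
  have hB := hind.2.1
  -- the functions
  set e : G → ℂ := extendByZero H (blockCoeff b) with he
  set F : G → ℂ := deltaOne - blockCoeff B with hF
  set z : G → ℂ := conv e F with hz
  have hEc := isClassFunction_blockCoeff B
  have hFc : IsClassFunction G F := isClassFunction_sub (isClassFunction_classIndicator 1) hEc
  have heM : ∀ t, MemLocalRing M (e t) := by
    intro t
    by_cases ht : t ∈ H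
    · rw [he, extendByZero_apply_mem H _ ht]; exact osima hMp b hb _
    · rw [he, extendByZero_apply_not_mem H _ ht]; exact memLocalRing_zero hMp
  have hFM : ∀ t, MemLocalRing M (F t) := fun t =>
    lr_sub hMp (memLocalRing_classIndicator hMp 1 t) (osima hMp B hB _)
  have hzM : ∀ t, MemLocalRing M (z t) := lr_conv hMp heM hFM
  have heH : ∀ x ∈ H, ∀ t, e (x * t * x⁻¹) = e t := fun x hx t =>
    extendByZero_conj_invariant H (isClassFunction_blockCoeff b) hx t
  have hzH : ∀ x ∈ H, ∀ t, z (x * t * x⁻¹) = z t := fun x hx t =>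
    conv_conj_invariant x (heH x hx) (fun t => hFc t x) t
  have hee : conv e e = e := by rw [he, conv_extendByZero, conv_blockCoeff_self]
  have hFF : conv F F = F := conv_deltaOne_sub_blockCoeff_self B
  have hidem : conv z z = z := by
    rw [hz]
    calc conv (conv e F) (conv e F) = conv e (conv F (conv e F)) := conv_assoc _ _ _
      _ = conv e (conv (conv F e) F) := by rw [conv_assoc F e F]
      _ = conv e (conv (conv e F) F) := by rw [conv_comm_of_isClassFunction e hFc]
      _ = conv e (conv e (conv F F)) := by rw [conv_assoc e F F]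
      _ = conv (conv e e) (conv F F) := (conv_assoc _ _ _).symm
      _ = conv e F := by rw [hee, hFF]
  -- Fact 1
  have hact : act F χ = 1 := by
    rw [hF, act_sub, act_deltaOne, act_blockCoeff, if_neg hχ, sub_zero]
  have hfact1 : ∑ g : G, z g * (χ : G → ℂ) (g * (h : G)) =
      ∑ k : H, blockCoeff b k * (χ : G → ℂ) ((k : G) * (h : G)) := by
    rw [hz, sum_conv_mul_shift e hFc χ (h : G), hact, one_mul]
    rw [← sum_subgroup_eq_sum H (fun g : G => e g * (χ : G → ℂ) (g * (h : G)))
      (fun t ht => by rw [he, extendByZero_apply_not_mem H _ ht, zero_mul])]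
    refine Finset.sum_congr rfl fun k _ => ?_
    rw [he, extendByZero_apply_mem H _ k.2]
  rw [← hfact1]
  -- the p-part
  obtain ⟨x, y', hxy, hxz, hyz, ⟨k, hk⟩, hcop⟩ := Cfsg.Agent.Helper18.exists_pPart_decomp p (h : G)
  have hcomm : Commute x y' := by
    obtain ⟨i, rfl⟩ := Subgroup.mem_zpowers_iff.mp hxz
    obtain ⟨j, rfl⟩ := Subgroup.mem_zpowers_iff.mp hyz
    exact (Commute.refl (h : G)).zpow_zpow i j
  have hpp : IsPPart p (h : G) x :=
    ⟨y', hxy.symm, hcomm, ⟨k, hk⟩, fun hd => by
      have := Nat.Coprime.eq_one_of_dvd hcop.symm hd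
      exact hp.out.one_lt.ne' this⟩
  have hCx := hC x hpp
  have hxH : x ∈ H := by
    obtain ⟨i, rfl⟩ := Subgroup.mem_zpowers_iff.mp hxz
    exact H.zpow_mem h.2 i
  set P : Subgroup G := Subgroup.zpowers x with hPdef
  have hPH : P ≤ H := by
    rw [hPdef, Subgroup.zpowers_le]
    exact hxH
  have hP : IsPGroup p P := by
    apply IsPGroup.of_card (n := k)
    rw [hPdef, Nat.card_zpowers, hk]
  have hCP : Subgroup.centralizer (P : Set G) ≤ H := by
    refine le_trans (Subgroup.centralizer_le ?_) hCx
    rw [Set.singleton_subset_iff]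
    exact Subgroup.mem_zpowers x
  -- Fact 3
  obtain ⟨K, hK⟩ := exists_convPow_li_of_induced hMp H hind
  set f : H → ℂ := conv (blockCoeff b) (deltaOne - fun k : H => blockCoeff B (k : G)) with hf
  have hEH : IsClassFunction H (fun k : H => blockCoeff B (k : G)) :=
    isClassFunction_res hEc
  have hFH : IsClassFunction H (deltaOne - fun k : H => blockCoeff B (k : G)) :=
    isClassFunction_sub (isClassFunction_classIndicator 1) hEH
  have hfc : IsClassFunction H f := isClassFunction_conv (isClassFunction_blockCoeff b) hFH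
  have hfM : ∀ t, MemLocalRing M (f t) :=
    lr_conv hMp (osima hMp b hb) (fun t => lr_sub hMp (memLocalRing_classIndicator hMp 1 t)
      (osima hMp B hB _))
  have hyM : ∀ t, MemLocalRing M (extendByZero H f t) := by
    intro t
    by_cases ht : t ∈ H
    · rw [extendByZero_apply_mem H _ ht]; exact hfM _
    · rw [extendByZero_apply_not_mem H _ ht]; exact memLocalRing_zero hMp
  have hzf : ∀ v (hv : v ∈ H), z v = f ⟨v, hv⟩ := by
    intro v hv
    rw [hz, hf]
    simp only [conv]
    rw [← sum_subgroup_eq_sum H (fun t : G => e t * F (t⁻¹ * v))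
      (fun t ht => by rw [he, extendByZero_apply_not_mem H _ ht, zero_mul])]
    refine Finset.sum_congr rfl fun t _ => ?_
    rw [he, extendByZero_apply_mem H _ t.2]
    congr 1
    rw [hF, Pi.sub_apply, Pi.sub_apply]
    have : t⁻¹ * (⟨v, hv⟩ : H) = (⟨(t : G)⁻¹ * v, H.mul_mem (H.inv_mem t.2) hv⟩ : H) := rfl
    rw [this, ← deltaOne_coe]
  have hzy : trC P z = trC P (extendByZero H f) := by
    funext v
    by_cases hv : v ∈ Subgroup.centralizer (P : Set G)
    · rw [trC_of_mem _ hv, trC_of_mem _ hv, extendByZero_apply_mem H _ (hCP hv)]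
      exact hzf v (hCP hv)
    · rw [trC_of_not_mem _ hv, trC_of_not_mem _ hv]
  have hKy : ∀ t, MemLocalIdeal M (convPow (extendByZero H f) K t) := by
    intro t
    rw [convPow_extendByZero]
    by_cases ht : t ∈ H
    · rw [extendByZero_apply_mem H _ ht]; exact hK _
    · rw [extendByZero_apply_not_mem H _ ht]; exact memLocalIdeal_zero hMp
  have hfact3 : ∀ v, v ∈ Subgroup.centralizer (P : Set G) → MemLocalIdeal M (z v) := by
    intro v hv
    have := trC_li_of_idem_of_nilpotent hM P hP (fun x hx => hzH x (hPH hx)) hzM hidem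
      (fun x hx t => extendByZero_conj_invariant H hfc (hPH hx) t) hyM hzy K hKy v
    rwa [trC_of_mem _ hv] at this
  -- Theorem R
  set c := orderOf y' with hc
  have hyc : y' ^ c = 1 := pow_orderOf_eq_one y'
  have hhc : (h : G) ^ c = x ^ c := by
    rw [hxy, hcomm.mul_pow, hyc, mul_one]
  have hck : ((h : G) ^ c) ^ (p ^ k) = 1 := by
    rw [hhc, ← pow_mul, mul_comm, pow_mul, ← hk, pow_orderOf_eq_one, one_pow]
  have hcopc : Nat.Coprime (orderOf x) c := by
    rw [hk]
    exact (Nat.Coprime.pow_left k hcop.symm)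
  obtain ⟨m, hm⟩ := exists_pow_eq_self_of_coprime (x := x) hcopc.symm
  apply sum_mul_shift_eq_zero hM (h : G) c k hck hzM (hzH (h : G) h.2) hidem ?_
    (isClassFunction_irr χ) (fun t => memLocalRing_of_isIntegral hMp (irr_isIntegral χ t))
  intro v hv
  apply hfact3
  rw [Subgroup.mem_centralizer_iff]
  intro q hq
  have hvx : Commute v x := by
    have h1 : Commute v (x ^ c) := by rw [← hhc]; exact hv
    rw [← hm]
    exact h1.pow_right m
  obtain ⟨i, rfl⟩ := Subgroup.mem_zpowers_iff.mp hq
  exact ((hvx.zpow_right i).eq).symm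

end Cfsg.Agent.Helper5.CC
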