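import Mathlib
import Cfsg.Prelude.Def_Blocks
import Cfsg.Agent.Helper5.BrauerMap2
import Cfsg.Agent.Helper5.DefectGroups2
import Cfsg.Agent.S0916

set_option autoImplicit false

/-!
# Tools for Brauer's first main theorem
-/

namespace Cfsg.Agent.Helper5.CC

open Cfsg Cfsg.Agent.Helper24 Cfsg.Agent.Helper5 Cfsg.Agent.Helper5.Loc Cfsg.Agent.Helper14

variable {G : Type*} [Group G]

/-- Transfer of Sylow-in along the inclusion of a subgroup. -/
theorem isSylowIn_map_subtype {p : ℕ} {N : Subgroup G} {U K : Subgroup N}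
    (h : IsSylowIn p U K) : IsSylowIn p (U.map N.subtype) (K.map N.subtype) := by
  refine ⟨Subgroup.map_mono h.1, h.2.1.map _, ?_⟩
  intro Q hQK hQp hle
  have hQN : Q ≤ N := hQK.trans (map_subtype_le K)
  have h1 : Q.subgroupOf N ≤ K := by
    intro x hx
    rw [Subgroup.mem_subgroupOf] at hx
    obtain ⟨k, hk, hkx⟩ := hQK hx
    have : k = x := Subtype.ext hkx
    rwa [← this]
  have h2 : U ≤ Q.subgroupOf N := by
    intro x hx
    rw [Subgroup.mem_subgroupOf]
    exact hle ⟨x, hx, rfl⟩
  have h3 := h.2.2 _ h1 (hQp.comap_subtype (K := N)) h2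
  rw [← h3, map_subtype_subgroupOf hQN]

theorem map_subtype_centralizer_singleton (N : Subgroup G) (y : N) :
    (Subgroup.centralizer ({y} : Set N)).map N.subtype =
      Subgroup.centralizer ({(y : G)} : Set G) ⊓ N := by
  ext x
  rw [Subgroup.mem_map, Subgroup.mem_inf]
  constructor
  · rintro ⟨z, hz, rfl⟩
    refine ⟨?_, z.2⟩
    rw [mem_centralizer_singleton_iff'] at hz
    show (z : G) ∈ Subgroup.centralizer ({(y : G)} : Set G)
    rw [mem_centralizer_singleton_iff']
    exact congrArg Subtype.val hz
  · rintro ⟨hx1, hx2⟩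
    refine ⟨⟨x, hx2⟩, ?_, rfl⟩
    rw [mem_centralizer_singleton_iff'] at hx1
    rw [mem_centralizer_singleton_iff']
    exact Subtype.ext hx1

/-- A class of `N_G(D)` with defect group `D` lies in `C_G(D)` and has defect group `D` in `G`. -/
theorem sylow_centralizer_of_normalizer {p : ℕ} [Fact p.Prime] [Finite G] (D : Subgroup G)
    (hD : IsPGroup p D) (y : Subgroup.normalizer (D : Set G))
    (h : IsSylowIn p (D.subgroupOf (Subgroup.normalizer (D : Set G)))
      (Subgroup.centralizer ({y} : Set (Subgroup.normalizer (D : Set G))))) :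
    (y : G) ∈ Subgroup.centralizer (D : Set G) ∧
      IsSylowIn p D (Subgroup.centralizer ({(y : G)} : Set G)) := by
  have hDN : D ≤ Subgroup.normalizer (D : Set G) := Subgroup.le_normalizer
  have hyC : (y : G) ∈ Subgroup.centralizer (D : Set G) := by
    rw [Subgroup.mem_centralizer_iff]
    intro q hq
    have hq' : (⟨q, hDN hq⟩ : Subgroup.normalizer (D : Set G)) ∈
        D.subgroupOf (Subgroup.normalizer (D : Set G)) := by
      rw [Subgroup.mem_subgroupOf]; exact hq
    have := h.1 hq'
    rw [mem_centralizer_singleton_iff'] at this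
    exact (congrArg Subtype.val this).symm
  refine ⟨hyC, ?_⟩
  have h1 := isSylowIn_map_subtype h
  rw [map_subtype_subgroupOf hDN, map_subtype_centralizer_singleton] at h1
  have h2 := (Cfsg.Agent.S0916.result p D hD).2 (y : G) hyC (isSylowIn_iff.mp h1)
  exact isSylowIn_iff.mpr h2

/-- For a class with defect group `D`, the Brauer map sends the `G`-class sum to the class sum in
`N_G(D)`. -/
theorem brRes_classIndicator_of_sylow {p : ℕ} [Fact p.Prime] [Finite G] (D : Subgroup G)
    (y : Subgroup.normalizer (D : Set G)) (hyC : (y : G) ∈ Subgroup.centralizer (D : Set G))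
    (hS : IsSylowIn p D (Subgroup.centralizer ({(y : G)} : Set G))) :
    brRes D (Subgroup.normalizer (D : Set G)) (classIndicator (y : G)) = classIndicator y := by
  funext h
  by_cases hc : IsConj y h
  · obtain ⟨n, hn⟩ := isConj_iff.mp hc
    have hh : (h : G) ∈ Subgroup.centralizer (D : Set G) := by
      rw [← hn]
      simp only [Subgroup.coe_mul, Subgroup.coe_inv]
      exact conj_mem_centralizer_of_mem_normalizer n.2 hyC
    have hcG : IsConj (y : G) (h : G) := by
      rw [isConj_iff]
      exact ⟨(n : G), by rw [← hn]; simp⟩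
    rw [brRes, cut_of_mem _ hh, classIndicator_of_isConj hcG, classIndicator_of_isConj hc]
  · rw [classIndicator_of_not_isConj hc]
    by_cases hh : (h : G) ∈ Subgroup.centralizer (D : Set G)
    · rw [brRes, cut_of_mem _ hh]
      apply classIndicator_of_not_isConj
      intro hcG
      apply hc
      obtain ⟨x, hx⟩ := isConj_iff.mp hcG
      have hcx : x * (y : G) * x⁻¹ ∈ Subgroup.centralizer (D : Set G) := by rw [hx]; exact hh
      obtain ⟨n, hn, hne⟩ := Cfsg.Agent.S0916.exists_normalizer_conj p D (y : G) x hS hcx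
      rw [isConj_iff]
      refine ⟨⟨n, hn⟩, ?_⟩
      apply Subtype.ext
      simp only [Subgroup.coe_mul, Subgroup.coe_inv]
      rw [hne, hx]
    · rw [brRes, cut_of_not_mem _ hh]

theorem mem_centralizer_of_mem_centralizer_subgroupOf {P H : Subgroup G} (hPH : P ≤ H) {y : H}
    (hy : y ∈ Subgroup.centralizer ((P.subgroupOf H : Subgroup H) : Set H)) :
    (y : G) ∈ Subgroup.centralizer (P : Set G) := by
  rw [Subgroup.mem_centralizer_iff] at hy ⊢
  intro q hq
  have := hy ⟨q, hPH hq⟩ (by
    show (⟨q, hPH hq⟩ : H) ∈ P.subgroupOf H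
    rw [Subgroup.mem_subgroupOf]
    exact hq)
  exact congrArg Subtype.val this

theorem mem_centralizer_subgroupOf_of_mem_centralizer {P H : Subgroup G} {y : H}
    (hy : (y : G) ∈ Subgroup.centralizer (P : Set G)) :
    y ∈ Subgroup.centralizer ((P.subgroupOf H : Subgroup H) : Set H) := by
  rw [Subgroup.mem_centralizer_iff] at hy ⊢
  intro q hq
  apply Subtype.ext
  simp only [Subgroup.coe_mul]
  exact hy q (Subgroup.mem_subgroupOf.mp hq)

section Fin

variable [Fintype G] {M : Ideal AlgInt}

/-- For a class of `N_G(D)` with defect group `D`, the central characters of a block `b` of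
`N_G(D)` and of the induced block `B` agree modulo `M`. -/
theorem centralChar_sub_centralChar_of_induced {p : ℕ} [Fact p.Prime] (hM : IsPModular p M)
    (D : Subgroup G) (hD : IsPGroup p D) [Fintype (Subgroup.normalizer (D : Set G))]
    {b : Set (IrrCharacter (Subgroup.normalizer (D : Set G)))} {B : Set (IrrCharacter G)}
    (hind : IsInducedBlock M (Subgroup.normalizer (D : Set G)) b B)
    {ξ : IrrCharacter (Subgroup.normalizer (D : Set G))} (hξ : ξ ∈ b)
    {χ : IrrCharacter G} (hχ : χ ∈ B) (y : Subgroup.normalizer (D : Set G))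
    (hS : IsSylowIn p (D.subgroupOf (Subgroup.normalizer (D : Set G)))
      (Subgroup.centralizer ({y} : Set (Subgroup.normalizer (D : Set G))))) :
    MemLocalIdeal M (centralChar (ξ : Subgroup.normalizer (D : Set G) → ℂ) y -
      centralChar (χ : G → ℂ) (y : G)) := by
  have hMp := isPrime_of_isPModular hM
  obtain ⟨hyC, hSG⟩ := sylow_centralizer_of_normalizer D hD y hS
  have h1 := hind.2.2 ξ hξ χ hχ (y : G)
  have h2 := inducedCentralChar_sub_brauerCentralChar hM D (Subgroup.normalizer (D : Set G)) hD
    Subgroup.le_normalizer le_rfl ξ (y : G)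
  rw [brauerCentralChar_eq_act, brRes_classIndicator_of_sylow D y hyC hSG,
    act_classIndicator] at h2
  have := li_sub hMp h1 h2
  convert this using 1
  ring

/-- **Uniqueness in the first main theorem.** -/
theorem block_eq_of_induced_eq {p : ℕ} [Fact p.Prime] (hM : IsPModular p M)
    (D : Subgroup G) (hD : IsPGroup p D) [Fintype (Subgroup.normalizer (D : Set G))]
    [Fintype (IrrCharacter (Subgroup.normalizer (D : Set G)))]
    {b₁ b₂ : Set (IrrCharacter (Subgroup.normalizer (D : Set G)))} {B : Set (IrrCharacter G)}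
    (hb₁ : IsPBlock M b₁) (hb₂ : IsPBlock M b₂)
    (hD₁ : IsDefectGroup p M b₁ (D.subgroupOf (Subgroup.normalizer (D : Set G))))
    (hind₁ : IsInducedBlock M (Subgroup.normalizer (D : Set G)) b₁ B)
    (hind₂ : IsInducedBlock M (Subgroup.normalizer (D : Set G)) b₂ B) : b₁ = b₂ := by
  classical
  have hMp := isPrime_of_isPModular hM
  have : Fintype (ConjClasses (Subgroup.normalizer (D : Set G))) := Fintype.ofFinite _
  have hDN : D ≤ Subgroup.normalizer (D : Set G) := Subgroup.le_normalizer
  have hQn : (D.subgroupOf (Subgroup.normalizer (D : Set G))).Normal :=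
    (Subgroup.normal_subgroupOf_iff_le_normalizer hDN).mpr le_rfl
  have hQ : IsPGroup p (D.subgroupOf (Subgroup.normalizer (D : Set G))) := hD.comap_subtype
  obtain ⟨ξ₁, hξ₁⟩ := IsPBlock.nonempty hMp hb₁
  obtain ⟨ξ₂, hξ₂⟩ := IsPBlock.nonempty hMp hb₂
  obtain ⟨χ, hχ⟩ := IsPBlock.nonempty hMp hind₁.2.1
  by_contra hne
  have hξ₂' : ξ₂ ∉ b₁ := by
    intro h
    apply hne
    rw [IsPBlock_eq_blockOf hMp hb₁ h, IsPBlock_eq_blockOf hMp hb₂ hξ₂]
  obtain ⟨y₁, hy₁, hy₁S⟩ := isDefectGroup_iff.mp hD₁
  have he := isClassFunction_blockCoeff b₁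
  have heM : ∀ t, MemLocalRing M (blockCoeff b₁ t) := osima hMp b₁ hb₁
  apply not_memLocalIdeal_one hMp
  have e1 : (1 : ℂ) = act (blockCoeff b₁) ξ₁ - act (blockCoeff b₁) ξ₂ := by
    rw [act_blockCoeff, act_blockCoeff, if_pos hξ₁, if_neg hξ₂', sub_zero]
  rw [e1, act_eq_sum_centralChar he, act_eq_sum_centralChar he, ← Finset.sum_sub_distrib]
  apply li_sum hMp
  intro L _
  rw [← mul_sub]
  set y := rep L with hy
  by_cases hey : MemLocalIdeal M (blockCoeff b₁ y)
  · exact li_mul_right hMp hey (lr_sub hMp (memLocalRing_centralChar hMp ξ₁ y)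
      (memLocalRing_centralChar hMp ξ₂ y))
  · apply li_mul_left hMp (heM y)
    by_cases hyC : (y : G) ∈ Subgroup.centralizer (D : Set G)
    · -- `y` has defect group `D`
      have hDy : D.subgroupOf (Subgroup.normalizer (D : Set G)) ≤
          Subgroup.centralizer ({y} : Set (Subgroup.normalizer (D : Set G))) := by
        intro q hq
        rw [mem_centralizer_singleton_iff']
        have := mem_centralizer_subgroupOf_of_mem_centralizer
          (H := Subgroup.normalizer (D : Set G)) hyC
        rw [Subgroup.mem_centralizer_iff] at this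
        exact (this q hq).symm
      obtain ⟨W, hW, hDW⟩ := exists_isSylowIn_ge hDy hQ
      obtain ⟨x, hx⟩ := minmax_sylow hM b₁ hb₁ y₁ y hy₁.2.2 hey _ W hy₁S hW
      have hnorm : (D.subgroupOf (Subgroup.normalizer (D : Set G))).map (cj x) =
          D.subgroupOf (Subgroup.normalizer (D : Set G)) := by
        apply mem_normalizer_iff_map_cj.mp
        apply Subgroup.mem_normalizer_iff.mpr
        intro h
        constructor
        · intro hh
          exact hQn.conj_mem h hh x
        · intro hh
          have := hQn.conj_mem _ hh x⁻¹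
          simpa [mul_assoc] using this
      rw [hnorm] at hx
      have hWD : W = D.subgroupOf (Subgroup.normalizer (D : Set G)) := le_antisymm hx hDW
      rw [hWD] at hW
      have h1 := centralChar_sub_centralChar_of_induced hM D hD hind₁ hξ₁ hχ y hW
      have h2 := centralChar_sub_centralChar_of_induced hM D hD hind₂ hξ₂ hχ y hW
      have := li_sub hMp h1 h2
      convert this using 1
      ring
    · have hy' : y ∉ Subgroup.centralizer
          ((D.subgroupOf (Subgroup.normalizer (D : Set G)) :
            Subgroup (Subgroup.normalizer (D : Set G))) : Set (Subgroup.normalizer (D : Set G))) :=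
        fun h => hyC (mem_centralizer_of_mem_centralizer_subgroupOf hDN h)
      exact li_sub hMp
        (centralChar_memLocalIdeal_of_not_mem_centralizer hM _ hQ ξ₁ y hy')
        (centralChar_memLocalIdeal_of_not_mem_centralizer hM _ hQ ξ₂ y hy')

end Fin

end Cfsg.Agent.Helper5.CC
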