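import Mathlib
import Cfsg.Prelude.Def_Blocks
import Cfsg.Agent.Helper5.QuotP
import Cfsg.Agent.Helper5.DefectGroups2
import Cfsg.Agent.Helper5.SecondMain
import Cfsg.Agent.Helper24.SmallDegree
import Cfsg.Agent.S0920

/-!
# The order of a defect group is `p ^ d(B)`
-/

set_option autoImplicit false

namespace Cfsg.Agent.Helper5.CC

open Cfsg Cfsg.Agent.Helper24 Cfsg.Agent.Helper5 Cfsg.Agent.Helper5.Loc Cfsg.Agent.Helper14

variable {G : Type*} [Group G] [Fintype G] {M : Ideal AlgInt}

/-- **Lemma A.** A block whose defect group is a normal subgroup `P` contains a character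
inflated from `G ⧸ P`. -/
theorem exists_infl_mem_of_normal_defect [Fintype (IrrCharacter G)] {p : ℕ} [hp : Fact p.Prime]
    (hM : IsPModular p M) (P : Subgroup G) [hPn : P.Normal]
    {b : Set (IrrCharacter G)} (hb : IsPBlock M b) (hD : IsDefectGroup p M b P) :
    ∃ ψ : IrrCharacter (G ⧸ P), infl P ψ ∈ b := by
  classical
  have hMp := isPrime_of_isPModular hM
  have : Fintype (G ⧸ P) := Fintype.ofFinite _
  have : Fintype (IrrCharacter (G ⧸ P)) := Fintype.ofFinite _
  obtain ⟨y, hy, hS⟩ := isDefectGroup_iff.mp hD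
  have hP : IsPGroup p P := hS.2.1
  have hyC : y ∈ Subgroup.centralizer (P : Set G) := by
    rw [Subgroup.mem_centralizer_iff]
    intro q hq
    have := Subgroup.mem_centralizer_iff.mp (hS.1 hq) y (Set.mem_singleton y)
    exact this.symm
  have hyreg : ¬ p ∣ orderOf y := by
    intro hd
    apply hy.2.1
    rw [blockCoeff_eq_zero_of_singular hM hb y hd]
    exact memLocalIdeal_zero hMp
  by_contra hcon
  push Not at hcon
  have hzero : push P (blockCoeff b) = 0 := by
    apply eq_of_act_eq (isClassFunction_push P (isClassFunction_blockCoeff b))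
      isClassFunction_zero
    intro ψ
    rw [act_push, act_blockCoeff, if_neg (hcon ψ), act_zero]
  have h1 := push_eq_of_regular P hP (fun z hz => blockCoeff_eq_zero_of_singular hM hb z hz)
    y hyreg hyC
  rw [hzero, Pi.zero_apply] at h1
  apply hy.2.1
  rw [← h1]
  exact memLocalIdeal_zero hMp


/-- Pairing the restriction of a block idempotent with a function on the subgroup. -/
theorem sum_blockCoeff_restrict_mul [Fintype (IrrCharacter G)] (H : Subgroup G) [Fintype H]
    (B : Set (IrrCharacter G)) [DecidablePred (· ∈ B)] (ψ : H → ℂ) :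
    ∑ k : H, blockCoeff B (k : G) * ψ k =
      (Nat.card H : ℂ) * (Nat.card G : ℂ)⁻¹ * ∑ χ : IrrCharacter G,
        (if χ ∈ B then (1 : ℂ) else 0) *
          ((χ : G → ℂ) 1 * classInner ψ (fun h : H => (χ : G → ℂ) h)) := by
  classical
  have hH : (Nat.card H : ℂ) ≠ 0 := by
    have : 0 < Nat.card H := Nat.card_pos
    exact_mod_cast this.ne'
  simp_rw [blockCoeff_eq, Finset.mul_sum, Finset.sum_mul]
  rw [Finset.sum_comm]
  refine Finset.sum_congr rfl fun χ _ => ?_
  by_cases hχ : χ ∈ B
  · simp only [if_pos hχ, one_mul, classInner]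
    rw [Finset.mul_sum, Finset.mul_sum, Finset.mul_sum]
    refine Finset.sum_congr rfl fun k _ => ?_
    field_simp
  · simp only [if_neg hχ, zero_mul, mul_zero, Finset.sum_const_zero]

/-- **Lemma C.** If `b` induces `B` and `ψ ∈ b`, some member of `B` has degree with `p`-part at most
that of `ψ(1) |G : H|`. -/
theorem exists_mem_degree_not_dvd [Fintype (IrrCharacter G)] {p : ℕ} [hp : Fact p.Prime]
    (hM : IsPModular p M) (H : Subgroup G) [Fintype H]
    {b : Set (IrrCharacter H)} {B : Set (IrrCharacter G)} (hind : IsInducedBlock M H b B)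
    (ψ : IrrCharacter H) (hψ : ψ ∈ b) (e : ℕ) (he : ¬ p ^ (e + 1) ∣ irrDeg ψ * H.index) :
    ∃ χ ∈ B, ¬ p ^ (e + 1) ∣ irrDeg χ := by
  classical
  have hMp := isPrime_of_isPModular hM
  have : Fintype (ConjClasses G) := Fintype.ofFinite _
  have : Finite G := Finite.of_fintype G
  have : Fintype (IrrCharacter H) := Fintype.ofFinite _
  by_contra hcon
  push Not at hcon
  -- the multiplicities
  have hmult : ∀ χ : IrrCharacter G, ∃ n : ℕ,
      classInner (ψ : H → ℂ) (fun h : H => (χ : G → ℂ) h) = n := fun χ =>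
    IsCharacter.classInner_nat (IsIrrCharacter.isCharacter ψ.2)
      (Cfsg.Agent.Helper8.isCharacter_restrict H (IsIrrCharacter.isCharacter χ.2))
  choose n hn using hmult
  -- the sum `T`
  have hT : ∃ t : ℕ, ∑ χ : IrrCharacter G, (if χ ∈ B then (1 : ℂ) else 0) *
      ((χ : G → ℂ) 1 * classInner (ψ : H → ℂ) (fun h : H => (χ : G → ℂ) h)) =
      ((p ^ (e + 1) * t : ℕ) : ℂ) := by
    have hdvd : p ^ (e + 1) ∣ ∑ χ : IrrCharacter G, (if χ ∈ B then irrDeg χ * n χ else 0) := by
      apply Finset.dvd_sum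
      intro χ _
      by_cases hχ : χ ∈ B
      · rw [if_pos hχ]
        exact Dvd.dvd.mul_right (hcon χ hχ) _
      · rw [if_neg hχ]
        exact dvd_zero _
    obtain ⟨t, ht⟩ := hdvd
    refine ⟨t, ?_⟩
    rw [← ht]
    push_cast
    refine Finset.sum_congr rfl fun χ _ => ?_
    rw [hn χ, irrDeg_spec]
    split_ifs <;> simp
  obtain ⟨t, ht⟩ := hT
  have h1 := act_restrict_blockCoeff_sub_one hMp H hind ψ hψ
  rw [act, sum_blockCoeff_restrict_mul H B (ψ : H → ℂ), ht, irrDeg_spec] at h1
  -- the denominator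
  have hden0 : irrDeg ψ * H.index ≠ 0 := by
    apply mul_ne_zero (irrDeg_pos ψ).ne'
    exact Subgroup.index_ne_zero_of_finite
  obtain ⟨j, m, hm, hjm⟩ := Nat.exists_eq_pow_mul_and_not_dvd hden0 p hp.out.ne_one
  have hj : j ≤ e := by
    by_contra hlt
    push Not at hlt
    apply he
    rw [hjm]
    exact Dvd.dvd.mul_right (pow_dvd_pow p hlt) _
  have hG : (Nat.card G : ℂ) = (Nat.card H : ℂ) * (H.index : ℂ) := by
    rw [← Nat.cast_mul, Subgroup.card_mul_index]
  have hH : (Nat.card H : ℂ) ≠ 0 := by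
    have : 0 < Nat.card H := Nat.card_pos
    exact_mod_cast this.ne'
  have hidx : (H.index : ℂ) ≠ 0 := by
    have : H.index ≠ 0 := Subgroup.index_ne_zero_of_finite
    exact_mod_cast this
  have hψ0 : (irrDeg ψ : ℂ) ≠ 0 := by
    have := (irrDeg_pos ψ).ne'
    exact_mod_cast this
  have hm0 : (m : ℂ) ≠ 0 := by
    have : m ≠ 0 := by
      rintro rfl
      exact hm (dvd_zero _)
    exact_mod_cast this
  have hp0 : (p : ℂ) ≠ 0 := by
    have := hp.out.pos.ne'
    exact_mod_cast this
  have hratio : (Nat.card H : ℂ) * (Nat.card G : ℂ)⁻¹ * ((p ^ (e + 1) * t : ℕ) : ℂ) / (irrDeg ψ : ℂ) =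
      (p : ℂ) * (((p ^ (e - j) * t : ℕ) : ℂ) * (m : ℂ)⁻¹) := by
    have hden : ((irrDeg ψ : ℂ) * (H.index : ℂ)) = (p : ℂ) ^ j * (m : ℂ) := by
      have := congrArg (fun x : ℕ => (x : ℂ)) hjm
      simpa using this
    have hpow : (p : ℂ) ^ (e + 1) = (p : ℂ) * (p : ℂ) ^ (e - j) * (p : ℂ) ^ j := by
      rw [mul_assoc, ← pow_add, ← pow_succ']
      congr 1
      omega
    rw [hG]
    push_cast
    rw [hpow]
    field_simp
    linear_combination (-(t : ℂ)) * hden
  rw [hratio] at h1
  have h2 : MemLocalIdeal M ((p : ℂ) * (((p ^ (e - j) * t : ℕ) : ℂ) * (m : ℂ)⁻¹)) := by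
    apply li_mul_right hMp
    · exact (memLocalIdeal_natCast_iff hM p).mpr dvd_rfl
    · exact lr_mul hMp (memLocalRing_natCast hMp _) (memLocalRing_inv_natCast hM hm)
  have h3 := li_sub hMp h2 h1
  rw [sub_sub_cancel] at h3
  exact not_memLocalIdeal_one hMp h3


omit [Fintype G] in
theorem charDegree_eq_irrDeg [Finite G] (χ : IrrCharacter G) :
    charDegree (χ : G → ℂ) = irrDeg χ := by
  rw [charDegree, irrDeg_spec, Complex.natCast_re, Nat.floor_natCast]

omit [Fintype G] in
theorem irrDeg_infl [Finite G] (P : Subgroup G) [P.Normal] (ψ : IrrCharacter (G ⧸ P)) :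
    irrDeg (infl P ψ) = irrDeg ψ := by
  have h1 := irrDeg_spec (infl P ψ)
  have h2 := irrDeg_spec ψ
  rw [infl_apply, QuotientGroup.mk_one, h2] at h1
  exact_mod_cast h1.symm

/-- **Claim 1.** Where the central character of `χ` is a unit, the `p`-part of the class size
divides the degree. -/
theorem pow_dvd_irrDeg_of_unit {p : ℕ} [hp : Fact p.Prime] (hM : IsPModular p M)
    (χ : IrrCharacter G) (g : G) (h : ¬ MemLocalIdeal M (centralChar (χ : G → ℂ) g)) (j : ℕ)
    (hj : p ^ j ∣ (Subgroup.centralizer ({g} : Set G)).index) : p ^ j ∣ irrDeg χ := by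
  have hMp := isPrime_of_isPModular hM
  have : Finite G := Finite.of_fintype G
  by_contra hcon
  apply h
  obtain ⟨i, d', hd', hid⟩ := Nat.exists_eq_pow_mul_and_not_dvd (irrDeg_pos χ).ne' p hp.out.ne_one
  have hij : i < j := by
    by_contra hle
    push Not at hle
    apply hcon
    rw [hid]
    exact Dvd.dvd.mul_right (pow_dvd_pow p hle) _
  obtain ⟨m', hm'⟩ := hj
  have hd0 : (d' : ℂ) ≠ 0 := by
    have : d' ≠ 0 := by
      rintro rfl
      exact hd' (dvd_zero _)
    exact_mod_cast this
  have hp0 : (p : ℂ) ≠ 0 := by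
    have := hp.out.pos.ne'
    exact_mod_cast this
  have e : centralChar (χ : G → ℂ) g =
      (p : ℂ) * (((p ^ (j - i - 1) * m' : ℕ) : ℂ) * (χ : G → ℂ) g * (d' : ℂ)⁻¹) := by
    rw [centralChar, irrDeg_spec, hm', hid]
    have hpow : (p : ℂ) ^ j = (p : ℂ) * (p : ℂ) ^ (j - i - 1) * (p : ℂ) ^ i := by
      rw [mul_assoc, ← pow_add, ← pow_succ']
      congr 1
      omega
    push_cast
    rw [hpow]
    field_simp
  rw [e]
  apply li_mul_right hMp
  · exact (memLocalIdeal_natCast_iff hM p).mpr dvd_rfl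
  · apply lr_mul hMp (lr_mul hMp (memLocalRing_natCast hMp _) ?_) (memLocalRing_inv_natCast hM hd')
    exact memLocalRing_of_isIntegral hMp (irr_isIntegral χ g)


/-- **Claim 2.** Some member of `B` has degree with `p`-part at most `|G|_p / |D|`. -/
theorem exists_mem_degree_le [Fintype (IrrCharacter G)] {p : ℕ} [hp : Fact p.Prime]
    (hM : IsPModular p M) {B : Set (IrrCharacter G)} (hB : IsPBlock M B) {D : Subgroup G}
    (hD : IsDefectGroup p M B D) (n : ℕ) (hn : Nat.card D = p ^ n) :
    ∃ χ ∈ B, ¬ p ^ ((Nat.card G).factorization p - n + 1) ∣ irrDeg χ := by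
  classical
  have hMp := isPrime_of_isPModular hM
  have : Finite G := Finite.of_fintype G
  have hDp : IsPGroup p D := IsPGroup.of_card hn
  have : Fintype (Subgroup.normalizer (D : Set G)) := Fintype.ofFinite _
  have : Fintype (IrrCharacter (Subgroup.normalizer (D : Set G))) := Fintype.ofFinite _
  have hDN : D ≤ Subgroup.normalizer (D : Set G) := Subgroup.le_normalizer
  have hQn : (D.subgroupOf (Subgroup.normalizer (D : Set G))).Normal :=
    (Subgroup.normal_subgroupOf_iff_le_normalizer hDN).mpr le_rfl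
  obtain ⟨b, ⟨hb, hbD, hind⟩, -⟩ := (Cfsg.Agent.S0920.result p M hM D hDp).2 B hB hD
  obtain ⟨ψ, hψ⟩ := exists_infl_mem_of_normal_defect hM
    (D.subgroupOf (Subgroup.normalizer (D : Set G))) hb hbD
  apply exists_mem_degree_not_dvd hM (Subgroup.normalizer (D : Set G)) hind _ hψ
  rw [irrDeg_infl]
  intro hdvd
  -- `irrDeg ψ` divides the order of the quotient
  have h1 : irrDeg ψ ∣ Nat.card (Subgroup.normalizer (D : Set G) ⧸
      D.subgroupOf (Subgroup.normalizer (D : Set G))) := irrDeg_dvd_card ψ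
  have hcardP : Nat.card (D.subgroupOf (Subgroup.normalizer (D : Set G))) = p ^ n := by
    rw [← hn]
    exact Nat.card_congr (Subgroup.subgroupOfEquivOfLe hDN).toEquiv
  have h2 : Nat.card (Subgroup.normalizer (D : Set G)) =
      Nat.card (Subgroup.normalizer (D : Set G) ⧸
        D.subgroupOf (Subgroup.normalizer (D : Set G))) * p ^ n := by
    rw [← hcardP]
    exact Subgroup.card_eq_card_quotient_mul_card_subgroup _
  have h3 : Nat.card G = Nat.card (Subgroup.normalizer (D : Set G)) *
      (Subgroup.normalizer (D : Set G)).index := (Subgroup.card_mul_index _).symm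
  have hG' : Nat.card G = (Nat.card (Subgroup.normalizer (D : Set G) ⧸
        D.subgroupOf (Subgroup.normalizer (D : Set G))) *
        (Subgroup.normalizer (D : Set G)).index) * p ^ n := by
    rw [h3, h2]; ring
  have h4 : p ^ ((Nat.card G).factorization p - n + 1) * p ^ n ∣ Nat.card G := by
    refine Dvd.dvd.trans ?_ (dvd_of_eq hG'.symm)
    apply Nat.mul_dvd_mul_right
    exact dvd_trans hdvd (Nat.mul_dvd_mul_right h1 _)
  rw [← pow_add] at h4
  have h5 := (Nat.Prime.pow_dvd_iff_le_factorization hp.out (Nat.card_pos (α := G)).ne').mp h4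
  -- `n ≤ ν |G|`
  have h6 : n ≤ (Nat.card G).factorization p := by
    have hdvd' : p ^ n ∣ Nat.card G := by
      rw [← hn]
      exact Subgroup.card_subgroup_dvd_card D
    exact (Nat.Prime.pow_dvd_iff_le_factorization hp.out (Nat.card_pos (α := G)).ne').mp hdvd'
  omega

/-- **The order of a defect group** is `p ^ d(B)`. -/
theorem card_defectGroup [Fintype (IrrCharacter G)] {p : ℕ} [hp : Fact p.Prime]
    (hM : IsPModular p M) {B : Set (IrrCharacter G)} (hB : IsPBlock M B) {D : Subgroup G}
    (hD : IsDefectGroup p M B D) : Nat.card D = p ^ blockDefect p B := by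
  classical
  have hMp := isPrime_of_isPModular hM
  have : Finite G := Finite.of_fintype G
  obtain ⟨g, hg, hS⟩ := isDefectGroup_iff.mp hD
  have hcard : Nat.card D = p ^ (Nat.card (Subgroup.centralizer ({g} : Set G))).factorization p := by
    rw [← hS.toSylow_map, card_map_subtype]
    exact (hS.toSylow).card_eq_multiplicity
  rw [hcard]
  congr 1
  generalize hn : (Nat.card (Subgroup.centralizer ({g} : Set G))).factorization p = n at hcard ⊢
  generalize hC : Subgroup.centralizer ({g} : Set G) = C at hn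
  -- the two bounds
  have hGC : Nat.card C * C.index = Nat.card G := Subgroup.card_mul_index C
  have hidx0 : C.index ≠ 0 := Subgroup.index_ne_zero_of_finite
  have hfac : (Nat.card G).factorization p = n + C.index.factorization p := by
    rw [← hGC, Nat.factorization_mul (Nat.card_pos (α := C)).ne' hidx0, Finsupp.add_apply, hn]
  have hlow : ∀ χ ∈ B, (Nat.card G).factorization p - n ≤ (irrDeg χ).factorization p := by
    intro χ hχ
    have h1 := pow_dvd_irrDeg_of_unit hM χ g (hg.2.2 χ hχ) (C.index.factorization p)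
      (by rw [hC]; exact Nat.ordProj_dvd _ _)
    have h2 := (Nat.Prime.pow_dvd_iff_le_factorization hp.out (irrDeg_pos χ).ne').mp h1
    omega
  obtain ⟨χ₀, hχ₀, hχ₀d⟩ := exists_mem_degree_le hM hB hD n hcard
  have hup : (irrDeg χ₀).factorization p ≤ (Nat.card G).factorization p - n := by
    by_contra hlt
    push Not at hlt
    apply hχ₀d
    exact (Nat.Prime.pow_dvd_iff_le_factorization hp.out (irrDeg_pos χ₀).ne').mpr hlt
  -- the infimum
  have hInf : sInf ((fun χ : IrrCharacter G => (charDegree (χ : G → ℂ)).factorization p) '' B) =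
      (Nat.card G).factorization p - n := by
    apply le_antisymm
    · apply Nat.sInf_le
      refine ⟨χ₀, hχ₀, ?_⟩
      beta_reduce
      rw [charDegree_eq_irrDeg]
      exact le_antisymm hup (hlow χ₀ hχ₀)
    · have hne : ((fun χ : IrrCharacter G => (charDegree (χ : G → ℂ)).factorization p) '' B).Nonempty :=
        ⟨_, χ₀, hχ₀, rfl⟩
      obtain ⟨χ, hχ, hχe⟩ := Nat.sInf_mem hne
      rw [← hχe]
      beta_reduce
      rw [charDegree_eq_irrDeg]
      exact hlow χ hχ
  rw [blockDefect, hInf]
  omega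

end Cfsg.Agent.Helper5.CC
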