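import Mathlib
import Cfsg.Prelude.Def_Blocks
import Cfsg.Agent.Helper5.Osima
import Cfsg.Agent.Helper5.CharFacts
import Cfsg.Agent.Helper24.Span

/-!
# The `B`-part of a class function via the block idempotent
-/

set_option autoImplicit false

namespace Cfsg.Agent.Helper5.CC

open Cfsg Cfsg.Agent.Helper24 Cfsg.Agent.Helper5 Cfsg.Agent.Helper5.Loc

variable {G : Type*} [Group G] [Fintype G]

omit [Fintype G] in
theorem isClassFunction_conj {Φ : G → ℂ} (hΦ : IsClassFunction G Φ) :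
    IsClassFunction G (fun g => (starRingEnd ℂ) (Φ g)) := by
  intro g h
  show (starRingEnd ℂ) (Φ (h * g * h⁻¹)) = (starRingEnd ℂ) (Φ g)
  rw [hΦ g h]

/-- Generalized orthogonality, conjugated form. -/
theorem irr_sum_mul_conj_char_mul (χ : IrrCharacter G) {Φ : G → ℂ} (hΦ : IsClassFunction G Φ)
    (y : G) :
    (χ : G → ℂ) 1 * ∑ k : G, (starRingEnd ℂ) ((χ : G → ℂ) k) * Φ (k * y) =
      (χ : G → ℂ) y * ∑ g : G, Φ g * (starRingEnd ℂ) ((χ : G → ℂ) g) := by
  have h0 := irr_sum_mul_char_mul χ (fun g => (starRingEnd ℂ) (Φ g)) (isClassFunction_conj hΦ) y⁻¹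
  have h1 := congrArg (starRingEnd ℂ) h0
  simp only [map_mul, map_sum, Complex.conj_conj] at h1
  have hone : (starRingEnd ℂ) ((χ : G → ℂ) 1) = (χ : G → ℂ) 1 := by
    rw [← irr_inv, inv_one]
  have hy : (starRingEnd ℂ) ((χ : G → ℂ) y⁻¹) = (χ : G → ℂ) y := by
    rw [irr_inv, Complex.conj_conj]
  rw [hone, hy] at h1
  rw [← h1]
  congr 1
  refine Fintype.sum_equiv (Equiv.mulRight y) _ _ fun k => ?_
  simp only [Equiv.coe_mulRight]
  rw [mul_inv_cancel_right, mul_comm]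

/-- **The `B`-part of a class function through the block idempotent**:
`Φ_B(y) = ∑_k e_B(k) Φ(k y)`. -/
theorem blockPart_eq_sum_blockCoeff [Fintype (IrrCharacter G)] (B : Set (IrrCharacter G))
    {Φ : G → ℂ} (hΦ : IsClassFunction G Φ) (y : G) :
    blockPart B Φ y = ∑ k : G, blockCoeff B k * Φ (k * y) := by
  classical
  have hinst : Fintype.ofFinite G = ‹Fintype G› := Subsingleton.elim _ _
  simp only [blockPart]
  rw [hinst, finsum_mem_eq_sum_ite]
  simp_rw [blockCoeff_eq, classInner]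
  simp_rw [Finset.mul_sum, Finset.sum_mul]
  rw [Finset.sum_comm]
  refine Finset.sum_congr rfl fun χ _ => ?_
  by_cases hχ : χ ∈ B
  · simp only [if_pos hχ, one_mul]
    have h1 := irr_sum_mul_conj_char_mul χ hΦ y
    rw [Finset.mul_sum, Finset.mul_sum] at h1
    have e1 : ∑ i : G, (Nat.card G : ℂ)⁻¹ * (Φ i * (starRingEnd ℂ) ((χ : G → ℂ) i)) * (χ : G → ℂ) y =
        (Nat.card G : ℂ)⁻¹ * ∑ i : G, (χ : G → ℂ) y * (Φ i * (starRingEnd ℂ) ((χ : G → ℂ) i)) := by
      rw [Finset.mul_sum]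
      refine Finset.sum_congr rfl fun i _ => ?_
      ring
    have e2 : ∑ x : G, (Nat.card G : ℂ)⁻¹ * ((χ : G → ℂ) 1 * (starRingEnd ℂ) ((χ : G → ℂ) x)) * Φ (x * y) =
        (Nat.card G : ℂ)⁻¹ * ∑ i : G, (χ : G → ℂ) 1 * ((starRingEnd ℂ) ((χ : G → ℂ) i) * Φ (i * y)) := by
      rw [Finset.mul_sum]
      refine Finset.sum_congr rfl fun i _ => ?_
      ring
    rw [e1, e2, h1]
  · simp only [if_neg hχ, zero_mul, mul_zero, Finset.sum_const_zero]

end Cfsg.Agent.Helper5.CC
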