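import Mathlib
import Cfsg.Prelude.Def_Blocks

/-!
# The `p`-part of an element: uniqueness and basic facts
-/

set_option autoImplicit false

namespace Cfsg.Agent.Helper5

open Cfsg

variable {G : Type*} [Group G]

/-- The `p`-part of an element of finite order is unique. -/
theorem isPPart_unique {p : ℕ} [hp : Fact p.Prime] {g x z : G} (hx : IsPPart p g x)
    (hz : IsPPart p g z) : x = z := by
  obtain ⟨y, hxy, hc, ⟨a, ha⟩, hy⟩ := hx
  obtain ⟨y', hzy, hc', ⟨a', ha'⟩, hy'⟩ := hz
  set N := orderOf y * orderOf y' with hN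
  have h1 : g ^ N = x ^ N := by
    rw [← hxy, hc.mul_pow, hN, pow_mul y, pow_orderOf_eq_one, one_pow, mul_one]
  have h2 : g ^ N = z ^ N := by
    rw [← hzy, hc'.mul_pow, hN, mul_comm (orderOf y), pow_mul y', pow_orderOf_eq_one, one_pow,
      mul_one]
  have hcop : Nat.Coprime N (p ^ (max a a' + 1)) := by
    apply Nat.Coprime.pow_right
    apply Nat.Coprime.mul_left
    · exact ((Nat.Prime.coprime_iff_not_dvd hp.out).2 hy).symm
    · exact ((Nat.Prime.coprime_iff_not_dvd hp.out).2 hy').symm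
  have hlt : 1 < p ^ (max a a' + 1) := Nat.one_lt_pow (Nat.succ_ne_zero _) hp.out.one_lt
  obtain ⟨m, -, hm⟩ := Nat.exists_mul_mod_eq_one_of_coprime hcop hlt
  have hmod : N * m ≡ 1 [MOD p ^ (max a a' + 1)] := by
    rw [Nat.ModEq, hm, Nat.mod_eq_of_lt hlt]
  have hxm : x ^ (N * m) = x := by
    have : N * m ≡ 1 [MOD orderOf x] := by
      rw [ha]
      exact Nat.ModEq.of_dvd (pow_dvd_pow p (by omega)) hmod
    have := pow_eq_pow_iff_modEq.mpr this
    rwa [pow_one] at this
  have hzm : z ^ (N * m) = z := by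
    have : N * m ≡ 1 [MOD orderOf z] := by
      rw [ha']
      exact Nat.ModEq.of_dvd (pow_dvd_pow p (by omega)) hmod
    have := pow_eq_pow_iff_modEq.mpr this
    rwa [pow_one] at this
  calc x = x ^ (N * m) := hxm.symm
    _ = (x ^ N) ^ m := pow_mul x N m
    _ = (z ^ N) ^ m := by rw [← h1, h2]
    _ = z ^ (N * m) := (pow_mul z N m).symm
    _ = z := hzm

end Cfsg.Agent.Helper5
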