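import Mathlib
import Cfsg.Prelude.Def_Blocks
import Cfsg.Agent.Helper5.SecondMain
import Cfsg.Agent.Helper5.BlockPart
import Cfsg.Agent.Helper5.BlockOrth
import Cfsg.Agent.Helper5.PPart
import Cfsg.Agent.S0919

/-!
# Strong block orthogonality (from Brauer's second main theorem)
-/

set_option autoImplicit false

namespace Cfsg.Agent.Helper5.CC

open Cfsg Cfsg.Agent.Helper24 Cfsg.Agent.Helper5 Cfsg.Agent.Helper5.Loc

variable {G : Type*} [Group G] [Fintype G] {M : Ideal AlgInt}

omit [Fintype G] in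
/-- **Partition lemma**: a sum over a union of blocks vanishes if it vanishes over each block. -/
theorem finsum_mem_eq_zero_of_blockwise [Fintype (IrrCharacter G)] (hM : M.IsPrime)
    (S : Set (IrrCharacter G)) (hS : ∀ ψ ∈ S, blockOf M (ψ : G → ℂ) ⊆ S) (f : IrrCharacter G → ℂ)
    (hf : ∀ ψ ∈ S, ∑ᶠ ψ' ∈ blockOf M (ψ : G → ℂ), f ψ' = 0) :
    ∑ᶠ ψ ∈ S, f ψ = 0 := by
  classical
  rw [finsum_mem_eq_sum_ite, ← Finset.sum_filter]
  set s : Finset (IrrCharacter G) := Finset.univ.filter (· ∈ S) with hs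
  let g : IrrCharacter G → Set (IrrCharacter G) := fun ψ => blockOf M (ψ : G → ℂ)
  rw [← Finset.sum_fiberwise_of_maps_to (s := s) (t := s.image g) (g := g)
    (fun i hi => Finset.mem_image_of_mem g hi) f]
  apply Finset.sum_eq_zero
  intro j hj
  obtain ⟨ψ0, hψ0, rfl⟩ := Finset.mem_image.mp hj
  have hψ0S : ψ0 ∈ S := by
    rw [hs, Finset.mem_filter] at hψ0
    exact hψ0.2
  have := hf ψ0 hψ0S
  rw [finsum_mem_eq_sum_ite, ← Finset.sum_filter] at this
  rw [← this]
  apply Finset.sum_congr _ (fun _ _ => rfl)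
  ext i
  simp only [Finset.mem_filter, Finset.mem_univ, true_and, hs]
  constructor
  · rintro ⟨_, hi⟩
    have h1 : i ∈ g i := mem_blockOf_self hM i
    rw [hi] at h1
    exact h1
  · intro hi
    refine ⟨hS ψ0 hψ0S hi, ?_⟩
    exact (blockOf_eq_of_sameBlock hM hi).symm

/-- Expanding a sum against the idempotent of an arbitrary set of characters. -/
theorem sum_blockCoeff_mul [Fintype (IrrCharacter G)] (S : Set (IrrCharacter G)) (F : G → ℂ) :
    ∑ k : G, blockCoeff S k * F k =
      ∑ᶠ ψ ∈ S, (Nat.card G : ℂ)⁻¹ *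
        ∑ k : G, ((ψ : G → ℂ) 1 * (starRingEnd ℂ) ((ψ : G → ℂ) k)) * F k := by
  classical
  rw [finsum_mem_eq_sum_ite]
  simp_rw [blockCoeff_eq, Finset.mul_sum, Finset.sum_mul]
  rw [Finset.sum_comm]
  refine Finset.sum_congr rfl fun ψ _ => ?_
  by_cases hψ : ψ ∈ S
  · simp only [if_pos hψ, one_mul]
    refine Finset.sum_congr rfl fun k _ => ?_
    ring
  · simp only [if_neg hψ, zero_mul, mul_zero, Finset.sum_const_zero]


/-- **Second main theorem for unions of blocks.** -/
theorem second_main_union [Fintype (IrrCharacter G)] {p : ℕ} [hp : Fact p.Prime]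
    (hM : IsPModular p M) (H : Subgroup G) [Fintype H]
    (S : Set (IrrCharacter H)) (hS : ∀ ψ ∈ S, blockOf M (ψ : H → ℂ) ⊆ S) (h : H)
    (hC : ∀ z : G, IsPPart p (h : G) z → Subgroup.centralizer ({z} : Set G) ≤ H)
    (χ : IrrCharacter G)
    (hSχ : ∀ ψ ∈ S, ∃ B, IsInducedBlock M H (blockOf M (ψ : H → ℂ)) B ∧ χ ∉ B) :
    ∑ k : H, blockCoeff S k * (χ : G → ℂ) ((k : G) * (h : G)) = 0 := by
  classical
  have hMp := isPrime_of_isPModular hM
  have : Fintype (IrrCharacter H) := Fintype.ofFinite _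
  rw [sum_blockCoeff_mul S (fun k : H => (χ : G → ℂ) ((k : G) * (h : G)))]
  apply finsum_mem_eq_zero_of_blockwise hMp S hS
  intro ψ hψ
  rw [← sum_blockCoeff_mul]
  obtain ⟨B, hB, hχB⟩ := hSχ ψ hψ
  exact second_main_idem hM H _ B hB h hC χ hχB

/-- **Weak block orthogonality for unions of blocks.** -/
theorem block_orthogonality_union [Fintype (IrrCharacter G)] {p : ℕ} [hp : Fact p.Prime]
    (hM : IsPModular p M) (S : Set (IrrCharacter G))
    (hS : ∀ ψ ∈ S, blockOf M (ψ : G → ℂ) ⊆ S)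
    (x y : G) (hx : ¬ p ∣ orderOf x) (hy : p ∣ orderOf y) :
    ∑ᶠ ψ ∈ S, (ψ : G → ℂ) x * (starRingEnd ℂ) ((ψ : G → ℂ) y) = 0 := by
  classical
  have hMp := isPrime_of_isPModular hM
  apply finsum_mem_eq_zero_of_blockwise hMp S hS
  intro ψ _
  rw [finsum_mem_eq_sum_ite]
  have := block_orthogonality hM (isPBlock_blockOf ψ) x y hx hy
  refine Eq.trans ?_ this
  refine Finset.sum_congr rfl fun ψ' _ => ?_
  split_ifs <;> simp

/-- The idempotents of a set of characters and of its complement add up to the identity. -/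
theorem blockCoeff_add_compl [Fintype (IrrCharacter G)] (S : Set (IrrCharacter G)) (k : G) :
    blockCoeff S k + blockCoeff Sᶜ k = deltaOne k := by
  classical
  rw [blockCoeff_eq, blockCoeff_eq, ← mul_add, ← Finset.sum_add_distrib]
  have h1 : ∀ χ : IrrCharacter G,
      (if χ ∈ S then (1 : ℂ) else 0) * ((χ : G → ℂ) 1 * (starRingEnd ℂ) ((χ : G → ℂ) k)) +
      (if χ ∈ Sᶜ then (1 : ℂ) else 0) * ((χ : G → ℂ) 1 * (starRingEnd ℂ) ((χ : G → ℂ) k)) =
      (χ : G → ℂ) 1 * (starRingEnd ℂ) ((χ : G → ℂ) k) := by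
    intro χ
    by_cases hχ : χ ∈ S
    · rw [if_pos hχ, if_neg (fun h => h hχ)]; ring
    · rw [if_neg hχ, if_pos (show χ ∈ Sᶜ from hχ)]; ring
  rw [Finset.sum_congr rfl (fun χ _ => h1 χ), sum_irr_mul_conj 1 k]
  have hG : (Nat.card G : ℂ) ≠ 0 := by
    have : 0 < Nat.card G := Nat.card_pos
    exact_mod_cast this.ne'
  by_cases hk : k = 1
  · subst hk
    rw [if_pos (IsConj.refl 1), deltaOne_apply_one]
    have : Subgroup.centralizer ({1} : Set G) = ⊤ := by
      ext g
      simp [Subgroup.mem_centralizer_iff]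
    rw [this, Nat.card_congr Subgroup.topEquiv.toEquiv]
    exact inv_mul_cancel₀ hG
  · rw [if_neg, mul_zero, deltaOne_apply_ne hk]
    intro hc
    apply hk
    exact (isConj_one_right.mp hc)


/-- **Strong block orthogonality, core form.** If the class function `ϑ` vanishes on the
`p`-section of the `p`-element `x`, so does each of its block parts. Here `C` is `C_G(x)`. -/
theorem blockPart_eq_zero_of_section [Fintype (IrrCharacter G)] {p : ℕ} [hp : Fact p.Prime]
    (hM : IsPModular p M) (x : G) (hx : ∃ k : ℕ, orderOf x = p ^ k)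
    (C : Subgroup G) [Fintype C] (hxC : x ∈ C) (hcomm : ∀ c : C, x * (c : G) = (c : G) * x)
    (hcent : Subgroup.centralizer ({x} : Set G) ≤ C)
    {ϑ : G → ℂ} (hϑ : IsClassFunction G ϑ)
    (hvan : ∀ c : C, ¬ p ∣ orderOf c → ϑ (x * (c : G)) = 0)
    (B : Set (IrrCharacter G)) (hB : IsPBlock M B) (y : C) (hy : ¬ p ∣ orderOf y) :
    blockPart B ϑ (x * (y : G)) = 0 := by
  classical
  have hMp := isPrime_of_isPModular hM
  have : Fintype (IrrCharacter C) := Fintype.ofFinite _
  have : Finite G := Finite.of_fintype G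
  obtain ⟨k, hk⟩ := hx
  have hP : IsPGroup p (Subgroup.zpowers x) := by
    apply IsPGroup.of_card (n := k)
    rw [Nat.card_zpowers, hk]
  have hPH : Subgroup.zpowers x ≤ C := by
    rw [Subgroup.zpowers_le]; exact hxC
  have hCH : Subgroup.centralizer ((Subgroup.zpowers x : Subgroup G) : Set G) ≤ C := by
    refine le_trans (Subgroup.centralizer_le ?_) hcent
    rw [Set.singleton_subset_iff]
    exact Subgroup.mem_zpowers x
  have hHN : C ≤ Subgroup.normalizer ((Subgroup.zpowers x : Subgroup G) : Set G) := by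
    refine le_trans ?_ (Subgroup.centralizer_le_normalizer _)
    intro c hc
    rw [Subgroup.mem_centralizer_iff]
    intro q hq
    obtain ⟨i, rfl⟩ := Subgroup.mem_zpowers_iff.mp hq
    have h1 : Commute x c := hcomm ⟨c, hc⟩
    exact (h1.zpow_left i).eq
  have hdef : ∀ b : Set (IrrCharacter C), IsPBlock M b → InducedBlockDefined M C b := fun b hb =>
    Cfsg.Agent.S0919.result p M hM (Subgroup.zpowers x) C hP hPH hCH hHN b hb
  -- the union of the blocks of `C` inducing `B`
  set S : Set (IrrCharacter C) := {ψ | IsInducedBlock M C (blockOf M (ψ : C → ℂ)) B} with hSdef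
  have hS : ∀ ψ ∈ S, blockOf M (ψ : C → ℂ) ⊆ S := by
    intro ψ hψ ψ' hψ'
    show IsInducedBlock M C (blockOf M (ψ' : C → ℂ)) B
    rw [← blockOf_eq_of_sameBlock hMp hψ']
    exact hψ
  have hSc : ∀ ψ ∈ Sᶜ, blockOf M (ψ : C → ℂ) ⊆ Sᶜ := by
    intro ψ hψ ψ' hψ' hcon
    apply hψ
    show IsInducedBlock M C (blockOf M (ψ : C → ℂ)) B
    rw [blockOf_eq_of_sameBlock hMp hψ']
    exact hcon
  -- the element `x * y` of `C`
  have hxyC : x * (y : G) ∈ C := C.mul_mem hxC y.2
  have hy' : ¬ p ∣ orderOf (y : G) := by rwa [Subgroup.orderOf_coe]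
  have hpp : IsPPart p (x * (y : G)) x := ⟨(y : G), rfl, hcomm y, ⟨k, hk⟩, hy'⟩
  have hCu : ∀ z : G, IsPPart p (((⟨x * (y : G), hxyC⟩ : C) : G)) z →
      Subgroup.centralizer ({z} : Set G) ≤ C := by
    intro z hz
    have : x = z := isPPart_unique hpp hz
    rw [← this]
    exact hcent
  -- Step 1
  have step1 : ∀ χ : IrrCharacter G,
      ∑ k : C, blockCoeff S k * (χ : G → ℂ) ((k : G) * (x * (y : G))) =
        if χ ∈ B then (χ : G → ℂ) (x * (y : G)) else 0 := by
    intro χ
    have hsum : ∑ k : C, blockCoeff S k * (χ : G → ℂ) ((k : G) * (x * (y : G))) +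
        ∑ k : C, blockCoeff Sᶜ k * (χ : G → ℂ) ((k : G) * (x * (y : G))) =
        (χ : G → ℂ) (x * (y : G)) := by
      rw [← Finset.sum_add_distrib]
      simp_rw [← add_mul, blockCoeff_add_compl]
      rw [Finset.sum_eq_single (1 : C)]
      · rw [deltaOne_apply_one, one_mul, Subgroup.coe_one, one_mul]
      · intro k _ hk1; rw [deltaOne_apply_ne hk1, zero_mul]
      · intro h; exact absurd (Finset.mem_univ _) h
    by_cases hχ : χ ∈ B
    · rw [if_pos hχ]
      have h0 : ∑ k : C, blockCoeff Sᶜ k * (χ : G → ℂ) ((k : G) * (x * (y : G))) = 0 := by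
        apply second_main_union hM C Sᶜ hSc ⟨x * (y : G), hxyC⟩ hCu χ
        intro ψ hψ
        obtain ⟨B', hB'⟩ := hdef _ (isPBlock_blockOf ψ)
        refine ⟨B', hB', ?_⟩
        intro hcon
        apply hψ
        show IsInducedBlock M C (blockOf M (ψ : C → ℂ)) B
        have e1 := IsPBlock_eq_blockOf hMp hB hχ
        have e2 := IsPBlock_eq_blockOf hMp hB'.2.1 hcon
        rw [e1, ← e2]
        exact hB'
      rw [h0, add_zero] at hsum
      exact hsum
    · rw [if_neg hχ]
      apply second_main_union hM C S hS ⟨x * (y : G), hxyC⟩ hCu χ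
      intro ψ hψ
      exact ⟨B, hψ, hχ⟩
  -- Step 2
  have hev : ∀ g : G, ϑ g = ∑ χ : IrrCharacter G, classInner ϑ (χ : G → ℂ) * (χ : G → ℂ) g := by
    intro g
    have hexp := IsClassFunction.eq_sum_classInner hϑ
    have := congrFun hexp g
    rw [Finset.sum_apply] at this
    exact this
  have step2 : blockPart B ϑ (x * (y : G)) =
      ∑ k : C, blockCoeff S k * ϑ ((k : G) * (x * (y : G))) := by
    have hinst : Fintype.ofFinite G = ‹Fintype G› := Subsingleton.elim _ _
    simp only [blockPart]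
    rw [hinst, finsum_mem_eq_sum_ite]
    have h1 : ∀ χ : IrrCharacter G,
        (if χ ∈ B then classInner ϑ (χ : G → ℂ) * (χ : G → ℂ) (x * (y : G)) else 0) =
        classInner ϑ (χ : G → ℂ) *
          ∑ k : C, blockCoeff S k * (χ : G → ℂ) ((k : G) * (x * (y : G))) := by
      intro χ
      rw [step1 χ]
      split_ifs <;> simp
    rw [Finset.sum_congr rfl (fun χ _ => h1 χ)]
    simp_rw [Finset.mul_sum]
    rw [Finset.sum_comm]
    refine Finset.sum_congr rfl fun k _ => ?_
    rw [hev ((k : G) * (x * (y : G))), Finset.mul_sum]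
    refine Finset.sum_congr rfl fun χ _ => ?_
    ring
  rw [step2]
  -- Step 3
  have hΘ : IsClassFunction C (fun c : C => ϑ (x * (c : G))) := by
    intro c h
    show ϑ (x * ((h * c * h⁻¹ : C) : G)) = ϑ (x * (c : G))
    rw [← hϑ (x * (c : G)) (h : G)]
    simp only [Subgroup.coe_mul, Subgroup.coe_inv]
    rw [← mul_assoc, ← mul_assoc, hcomm h]
    group
  have e3 : ∑ k : C, blockCoeff S k * ϑ ((k : G) * (x * (y : G))) =
      blockPart S (fun c : C => ϑ (x * (c : G))) y := by
    rw [blockPart_eq_sum_blockCoeff S hΘ y]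
    refine Finset.sum_congr rfl fun k _ => ?_
    congr 1
    show ϑ ((k : G) * (x * (y : G))) = ϑ (x * ((k * y : C) : G))
    rw [Subgroup.coe_mul, ← mul_assoc, ← mul_assoc, hcomm k]
  rw [e3]
  have hinstC : Fintype.ofFinite C = ‹Fintype C› := Subsingleton.elim _ _
  simp only [blockPart]
  rw [hinstC, finsum_mem_eq_sum_ite]
  have h2 : ∀ ψ : IrrCharacter C,
      (if ψ ∈ S then classInner (fun c : C => ϑ (x * (c : G))) (ψ : C → ℂ) * (ψ : C → ℂ) y else 0) =
      ∑ c : C, (Nat.card C : ℂ)⁻¹ * ϑ (x * (c : G)) *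
        (if ψ ∈ S then (ψ : C → ℂ) y * (starRingEnd ℂ) ((ψ : C → ℂ) c) else 0) := by
    intro ψ
    by_cases hψ : ψ ∈ S
    · simp only [if_pos hψ, classInner]
      rw [Finset.mul_sum, Finset.sum_mul]
      refine Finset.sum_congr rfl fun c _ => ?_
      ring
    · simp only [if_neg hψ, mul_zero, Finset.sum_const_zero]
  rw [Finset.sum_congr rfl (fun ψ _ => h2 ψ), Finset.sum_comm]
  apply Finset.sum_eq_zero
  intro c _
  rw [← Finset.mul_sum]
  by_cases hc : p ∣ orderOf c
  · have := block_orthogonality_union hM S hS y c hy hc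
    rw [finsum_mem_eq_sum_ite] at this
    rw [this, mul_zero]
  · rw [hvan c hc, mul_zero, zero_mul]

end Cfsg.Agent.Helper5.CC
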