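import Mathlib
import Cfsg.Prelude.Def_Blocks
import Cfsg.Agent.Helper5.Kulshammer
import Cfsg.Agent.Helper5.BrauerMap
import Cfsg.Agent.Helper5.PPart
import Cfsg.Agent.Helper18.FocalFusion

/-!
# The number of `p`-regular elements of a finite group is prime to `p`
-/

set_option autoImplicit false

namespace Cfsg.Agent.Helper5.CC

open Cfsg Cfsg.Agent.Helper24 Cfsg.Agent.Helper5 Cfsg.Agent.Helper5.Loc

variable {G : Type*} [Group G]

theorem regInd_coe (p : ℕ) (H : Subgroup G) (h : H) : regInd p (h : G) = regInd p h := by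
  by_cases hd : p ∣ orderOf h
  · rw [regInd_of_dvd hd, regInd_of_dvd (by rwa [Subgroup.orderOf_coe])]
  · rw [regInd_of_not_dvd hd, regInd_of_not_dvd (by rwa [Subgroup.orderOf_coe])]

/-- With a central Sylow `p`-subgroup, the `p`-regular elements are coset representatives. -/
theorem card_regular_of_central [Finite G] {p : ℕ} [hp : Fact p.Prime] (P : Sylow p G)
    (hPc : (P : Subgroup G) ≤ Subgroup.center G) :
    Nat.card {u : G // ¬ p ∣ orderOf u} = (P : Subgroup G).index := by
  have hPn : (P : Subgroup G).Normal := by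
    constructor
    intro n hn g
    have := Subgroup.mem_center_iff.mp (hPc hn) g
    have e : g * n * g⁻¹ = n := by
      rw [this, mul_inv_cancel_right]
    rw [e]; exact hn
  rw [Subgroup.index, ← Nat.card_congr (Equiv.ofBijective
    (fun u : {u : G // ¬ p ∣ orderOf u} => ((u : G) : G ⧸ (P : Subgroup G))) ⟨?_, ?_⟩)]
  · intro u u' huu
    have hz : (u : G)⁻¹ * (u' : G) ∈ (P : Subgroup G) := QuotientGroup.eq.mp huu
    set z := (u : G)⁻¹ * (u' : G) with hzdef
    have hzc : ∀ g : G, g * z = z * g := fun g => Subgroup.mem_center_iff.mp (hPc hz) g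
    have hu' : (u' : G) = z * u := by rw [← hzc, hzdef, mul_inv_cancel_left]
    obtain ⟨k, hk⟩ := (IsPGroup.iff_orderOf.mp P.2) ⟨z, hz⟩
    have hk' : orderOf z = p ^ k := by
      rw [← hk, ← Subgroup.orderOf_coe]
    have h1 : IsPPart p (u' : G) z := ⟨u, hu'.symm, (hzc u).symm, ⟨k, hk'⟩, u.2⟩
    have h2 : IsPPart p (u' : G) 1 :=
      ⟨u', one_mul _, Commute.one_left _, ⟨0, by rw [orderOf_one, pow_zero]⟩, u'.2⟩
    have hz1 : z = 1 := isPPart_unique h1 h2
    apply Subtype.ext
    rw [hu', hz1, one_mul]
  · intro q
    obtain ⟨g, rfl⟩ := QuotientGroup.mk_surjective q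
    obtain ⟨x, y, hxy, hxz, hyz, ⟨k, hk⟩, hcop⟩ := Cfsg.Agent.Helper18.exists_pPart_decomp p g
    have hy : ¬ p ∣ orderOf y := fun hd =>
      hp.out.one_lt.ne' (Nat.Coprime.eq_one_of_dvd hcop.symm hd)
    have hxP : x ∈ (P : Subgroup G) := by
      have hxp : IsPGroup p (Subgroup.zpowers x) := by
        apply IsPGroup.of_card (n := k)
        rw [Nat.card_zpowers, hk]
      obtain ⟨Q, hQ⟩ := hxp.exists_le_sylow
      have hu := Sylow.unique_of_normal P hPn
      have hQP : Q = P := Subsingleton.elim _ _
      rw [← hQP]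
      exact hQ (Subgroup.mem_zpowers x)
    refine ⟨⟨y, hy⟩, ?_⟩
    show ((y : G) : G ⧸ (P : Subgroup G)) = (g : G ⧸ (P : Subgroup G))
    rw [QuotientGroup.eq, hxy]
    have hcomm : x * y = y * x := (Subgroup.mem_center_iff.mp (hPc hxP) y).symm
    rw [hcomm, inv_mul_cancel_left]
    exact hxP


universe u

/-- **The number of `p`-regular elements is prime to `p`**, in local form. -/
theorem not_memLocalIdeal_sum_regInd_aux {p : ℕ} [hp : Fact p.Prime] {M : Ideal AlgInt}
    (hM : IsPModular p M) : ∀ (n : ℕ) (G : Type u) [Group G] [Fintype G], Nat.card G = n →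
      ¬ MemLocalIdeal M (∑ t : G, regInd p t) := by
  classical
  have hMp := isPrime_of_isPModular hM
  intro n
  induction n using Nat.strong_induction_on with
  | _ n ih =>
    intro G _ _ hn
    obtain ⟨P⟩ : Nonempty (Sylow p G) := inferInstance
    by_cases hc : Subgroup.centralizer ((P : Subgroup G) : Set G) = ⊤
    · have hPc : (P : Subgroup G) ≤ Subgroup.center G := by
        intro z hz
        rw [Subgroup.mem_center_iff]
        intro g
        have hg : g ∈ Subgroup.centralizer ((P : Subgroup G) : Set G) := by rw [hc]; trivial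
        exact (Subgroup.mem_centralizer_iff.mp hg z hz).symm
      rw [sum_regInd, card_regular_of_central P hPc, memLocalIdeal_natCast_iff hM]
      exact P.not_dvd_index
    · set C := Subgroup.centralizer ((P : Subgroup G) : Set G) with hC
      have : Fintype C := Fintype.ofFinite _
      have hlt : Nat.card C < n := by
        rw [← hn]
        refine lt_of_le_of_ne (Subgroup.card_le_card_group C) ?_
        intro h
        exact hc (Subgroup.eq_top_of_card_eq C h)
      have hC' := ih (Nat.card C) hlt C rfl
      let _ := conjActAll (P : Subgroup G)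
      have hsmul : ∀ (x : (P : Subgroup G)) (t : G), x • t = (x : G) * t * (x : G)⁻¹ :=
        fun _ _ => rfl
      have hfix := sum_sub_sum_fixedPoints_memLocalIdeal hM (P := (P : Subgroup G)) P.2
        (fun t : G => regInd p t)
        (fun x t => by rw [hsmul]; exact isClassFunction_regInd p t (x : G))
        (fun t => lr_regInd hMp p t)
      have hfilter : Finset.univ.filter (fun t : G => t ∈ MulAction.fixedPoints (P : Subgroup G) G) =
          Finset.univ.filter (fun t : G => t ∈ C) := by
        ext t
        simp only [Finset.mem_filter, Finset.mem_univ, true_and]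
        exact mem_fixedPoints_conjActAll_iff (P : Subgroup G) t
      rw [hfilter] at hfix
      have hsumC : ∑ t ∈ Finset.univ.filter (fun t : G => t ∈ C), regInd p t =
          ∑ c : C, regInd p c := by
        rw [Finset.sum_filter]
        rw [← sum_subgroup_eq_sum C (fun t : G => if t ∈ C then regInd p t else 0)
          (fun t ht => if_neg ht)]
        refine Finset.sum_congr rfl fun c _ => ?_
        rw [if_pos c.2, regInd_coe]
      rw [hsumC] at hfix
      intro hcon
      apply hC'
      have := li_sub hMp hcon hfix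
      rwa [sub_sub_cancel] at this

theorem not_memLocalIdeal_sum_regInd {G : Type*} [Group G] [Fintype G] {p : ℕ} [hp : Fact p.Prime]
    {M : Ideal AlgInt} (hM : IsPModular p M) : ¬ MemLocalIdeal M (∑ t : G, regInd p t) :=
  not_memLocalIdeal_sum_regInd_aux hM (Nat.card G) G rfl

end Cfsg.Agent.Helper5.CC
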