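import Mathlib
import Cfsg.Prelude.Def_Blocks
import Cfsg.Agent.Helper5.RegularCount
import Cfsg.Agent.Helper5.BlockOrth
import Cfsg.Agent.Helper5.Passman
import Cfsg.Agent.Helper24.Linear

/-!
# Brauer's third main theorem (Okuyama's argument)
-/

set_option autoImplicit false

namespace Cfsg.Agent.Helper5.CC

open Cfsg Cfsg.Agent.Helper24 Cfsg.Agent.Helper5 Cfsg.Agent.Helper5.Loc

variable {G : Type*} [Group G] [Fintype G] {M : Ideal AlgInt}

/-- **Orthogonality on `p`-regular elements** between characters in different blocks. -/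
theorem sum_regInd_mul_conj_eq_zero [Fintype (IrrCharacter G)] {p : ℕ} [hp : Fact p.Prime]
    (hM : IsPModular p M) {B : Set (IrrCharacter G)} (hB : IsPBlock M B)
    (ψ : IrrCharacter G) (hψ : ψ ∉ B) (χ' : IrrCharacter G) (hχ' : χ' ∈ B) :
    ∑ c : G, regInd p c * ((ψ : G → ℂ) c * (starRingEnd ℂ) ((χ' : G → ℂ) c)) = 0 := by
  classical
  set a : IrrCharacter G → ℂ := fun χ =>
    if χ ∈ B then ∑ c : G, regInd p c * ((ψ : G → ℂ) c * (starRingEnd ℂ) ((χ : G → ℂ) c)) else 0
    with ha
  have hite : ∀ χ : IrrCharacter G, (starRingEnd ℂ) (if χ ∈ B then (1 : ℂ) else 0) =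
      if χ ∈ B then (1 : ℂ) else 0 := by
    intro χ; split_ifs <;> simp
  have hzero : (∑ χ : IrrCharacter G, a χ • (χ : G → ℂ)) = 0 := by
    funext y
    rw [Finset.sum_apply]
    simp only [Pi.smul_apply, smul_eq_mul, Pi.zero_apply]
    have e1 : ∑ χ : IrrCharacter G, a χ * (χ : G → ℂ) y =
        ∑ c : G, regInd p c * (ψ : G → ℂ) c *
          ∑ χ : IrrCharacter G, (if χ ∈ B then (1 : ℂ) else 0) *
            ((χ : G → ℂ) y * (starRingEnd ℂ) ((χ : G → ℂ) c)) := by
      simp_rw [Finset.mul_sum]
      rw [Finset.sum_comm]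
      refine Finset.sum_congr rfl fun χ _ => ?_
      by_cases hχ : χ ∈ B
      · simp only [ha, if_pos hχ, one_mul]
        rw [Finset.sum_mul]
        refine Finset.sum_congr rfl fun c _ => ?_
        ring
      · simp only [ha, if_neg hχ, zero_mul, mul_zero, Finset.sum_const_zero]
    rw [e1]
    by_cases hy : p ∣ orderOf y
    · apply Finset.sum_eq_zero
      intro c _
      by_cases hc : p ∣ orderOf c
      · rw [regInd_of_dvd hc, zero_mul, zero_mul]
      · have h1 := block_orthogonality hM hB c y hc hy
        have h2 := congrArg (starRingEnd ℂ) h1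
        simp only [map_sum, map_mul, map_zero, Complex.conj_conj, hite] at h2
        have h3 : ∑ χ : IrrCharacter G, (if χ ∈ B then (1 : ℂ) else 0) *
            ((χ : G → ℂ) y * (starRingEnd ℂ) ((χ : G → ℂ) c)) = 0 := by
          refine Eq.trans ?_ h2
          refine Finset.sum_congr rfl fun χ _ => ?_
          ring
        rw [h3, mul_zero]
    · have e2 : ∀ c : G, regInd p c * (ψ : G → ℂ) c *
          ∑ χ : IrrCharacter G, (if χ ∈ B then (1 : ℂ) else 0) *
            ((χ : G → ℂ) y * (starRingEnd ℂ) ((χ : G → ℂ) c)) =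
          (ψ : G → ℂ) c *
          ∑ χ : IrrCharacter G, (if χ ∈ B then (1 : ℂ) else 0) *
            ((χ : G → ℂ) y * (starRingEnd ℂ) ((χ : G → ℂ) c)) := by
        intro c
        by_cases hc : p ∣ orderOf c
        · rw [block_orthogonality hM hB y c hy hc, mul_zero, mul_zero]
        · rw [regInd_of_not_dvd hc, one_mul]
      rw [Finset.sum_congr rfl (fun c _ => e2 c)]
      simp_rw [Finset.mul_sum]
      rw [Finset.sum_comm]
      apply Finset.sum_eq_zero
      intro χ _
      by_cases hχ : χ ∈ B
      · have hne : ψ ≠ χ := fun h => hψ (h ▸ hχ)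
        have h1 := classInner_irr_ne hne
        simp only [classInner] at h1
        have hG : (Nat.card G : ℂ) ≠ 0 := card_ne_zero_complex
        have h2 : ∑ g : G, (ψ : G → ℂ) g * (starRingEnd ℂ) ((χ : G → ℂ) g) = 0 := by
          rcases mul_eq_zero.mp h1 with h | h
          · exact absurd h (inv_ne_zero hG)
          · exact h
        have e3 : ∑ c : G, (ψ : G → ℂ) c * ((if χ ∈ B then (1 : ℂ) else 0) *
            ((χ : G → ℂ) y * (starRingEnd ℂ) ((χ : G → ℂ) c))) =
            (χ : G → ℂ) y * ∑ g : G, (ψ : G → ℂ) g * (starRingEnd ℂ) ((χ : G → ℂ) g) := by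
          rw [Finset.mul_sum]
          refine Finset.sum_congr rfl fun c _ => ?_
          rw [if_pos hχ]
          ring
        rw [e3, h2, mul_zero]
      · simp only [if_neg hχ, zero_mul, mul_zero, Finset.sum_const_zero]
  have h1 := classInner_sum_irr a χ'
  rw [hzero, classInner_zero_left] at h1
  have h2 : a χ' = ∑ c : G, regInd p c * ((ψ : G → ℂ) c * (starRingEnd ℂ) ((χ' : G → ℂ) c)) := by
    simp only [ha, if_pos hχ']
  rw [← h2, ← h1]


/-- **The induced-block congruence on scalars**, for an arbitrary class function of `G` with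
local-integer values. -/
theorem act_restrict_sub_act [Fintype (IrrCharacter G)] [Fintype (ConjClasses G)]
    (hM : M.IsPrime) (H : Subgroup G) [Fintype H]
    {b : Set (IrrCharacter H)} {B : Set (IrrCharacter G)} (hind : IsInducedBlock M H b B)
    {a : G → ℂ} (ha : IsClassFunction G a) (haM : ∀ t, MemLocalRing M (a t))
    (ξ : IrrCharacter H) (hξ : ξ ∈ b) (χ : IrrCharacter G) (hχ : χ ∈ B) :
    MemLocalIdeal M (act (fun k : H => a (k : G)) ξ - act a χ) := by
  classical
  obtain ⟨hb, hB, hcong⟩ := hind
  have h2 : act (fun k : H => a (k : G)) ξ =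
      ∑ K : ConjClasses G, a (rep K) * inducedCentralChar H (ξ : H → ℂ) (rep K) :=
    restrict_act_eq_sum_inducedCentralChar H ha ξ
  rw [h2, act_eq_sum_centralChar ha, ← Finset.sum_sub_distrib]
  apply li_sum hM
  intro K _
  rw [← mul_sub]
  exact li_mul_left hM (haM _) (hcong ξ hξ χ hχ _)

omit [Fintype G] in
theorem isPBlock_principalBlock [Finite G] : IsPBlock M (principalBlock M G) :=
  ⟨trivIrr G, rfl⟩

omit [Fintype G] in
theorem trivIrr_mem_principalBlock [Finite G] (hM : M.IsPrime) :
    trivIrr G ∈ principalBlock M G :=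
  mem_blockOf_self hM (trivIrr G)

theorem act_regInd_trivIrr (p : ℕ) : act (regInd p) (trivIrr G) = ∑ t : G, regInd p t := by
  rw [act]
  simp only [trivIrr_apply, mul_one, div_one]

/-- A character outside the principal block sums to zero over the `p`-regular elements. -/
theorem act_regInd_eq_zero_of_not_mem [Fintype (IrrCharacter G)] {p : ℕ} [hp : Fact p.Prime]
    (hM : IsPModular p M) (ψ : IrrCharacter G) (hψ : ψ ∉ principalBlock M G) :
    act (regInd p) ψ = 0 := by
  have hMp := isPrime_of_isPModular hM
  have := sum_regInd_mul_conj_eq_zero hM isPBlock_principalBlock ψ hψ (trivIrr G)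
    (trivIrr_mem_principalBlock hMp)
  simp only [trivIrr_apply, map_one, mul_one] at this
  rw [act, this, zero_div]

/-- **Brauer's third main theorem.** -/
theorem third_main [Fintype (IrrCharacter G)] {p : ℕ} [hp : Fact p.Prime]
    (hM : IsPModular p M) (H : Subgroup G) [Fintype H] (b : Set (IrrCharacter H))
    (hdef : InducedBlockDefined M H b) :
    IsInducedBlock M H b (principalBlock M G) ↔ b = principalBlock M H := by
  classical
  have hMp := isPrime_of_isPModular hM
  have : Fintype (ConjClasses G) := Fintype.ofFinite _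
  have : Fintype (IrrCharacter H) := Fintype.ofFinite _
  have hres : (fun k : H => regInd p (k : G)) = regInd p := by
    funext k
    exact regInd_coe p H k
  constructor
  · intro hind
    obtain ⟨ξ, hξ⟩ := IsPBlock.nonempty hMp hind.1
    have hcong := act_restrict_sub_act hMp H hind (isClassFunction_regInd p) (lr_regInd hMp p)
      ξ hξ (trivIrr G) (trivIrr_mem_principalBlock hMp)
    rw [hres, act_regInd_trivIrr] at hcong
    by_contra hne
    have hξ0 : ξ ∉ principalBlock M H := by
      intro hcon
      apply hne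
      rw [IsPBlock_eq_blockOf hMp hind.1 hξ, IsPBlock_eq_blockOf hMp isPBlock_principalBlock hcon]
    rw [act_regInd_eq_zero_of_not_mem hM ξ hξ0, zero_sub] at hcong
    have := li_neg hcong
    rw [neg_neg] at this
    exact not_memLocalIdeal_sum_regInd hM this
  · intro hb
    obtain ⟨B, hB⟩ := hdef
    obtain ⟨χ, hχ⟩ := IsPBlock.nonempty hMp hB.2.1
    have h1H : trivIrr H ∈ b := by
      rw [hb]
      exact trivIrr_mem_principalBlock hMp
    have hcong := act_restrict_sub_act hMp H hB (isClassFunction_regInd p) (lr_regInd hMp p)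
      (trivIrr H) h1H χ hχ
    rw [hres, act_regInd_trivIrr] at hcong
    have hχ0 : χ ∈ principalBlock M G := by
      by_contra hcon
      rw [act_regInd_eq_zero_of_not_mem hM χ hcon, sub_zero] at hcong
      exact not_memLocalIdeal_sum_regInd hM hcong
    have hBeq : B = principalBlock M G := by
      rw [IsPBlock_eq_blockOf hMp hB.2.1 hχ, IsPBlock_eq_blockOf hMp isPBlock_principalBlock hχ0]
    rw [← hBeq]
    exact hB

end Cfsg.Agent.Helper5.CC
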