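import Mathlib
import Cfsg.Prelude.Def_Blocks
import Cfsg.Agent.Helper5.StrongOrth
import Cfsg.Agent.Helper5.ThirdMain
import Cfsg.Agent.Helper24.Classes

/-!
# Brauer's formula: block sums of `|ζ(xy)|²` through the centralizer of the `p`-element `x`
-/

set_option autoImplicit false

namespace Cfsg.Agent.Helper5

open Cfsg

/-- Conjugating an element conjugates its `p`-part. -/
theorem isPPart_conj' {G : Type*} [Group G] {p : ℕ} {h y : G} (hy : IsPPart p h y) (t : G) :
    IsPPart p (t * h * t⁻¹) (t * y * t⁻¹) := by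
  obtain ⟨y', hyy, hc, ⟨k, hk⟩, hy'⟩ := hy
  refine ⟨t * y' * t⁻¹, ?_, ?_, ⟨k, ?_⟩, ?_⟩
  · rw [← hyy]; group
  · have := hc.eq
    show t * y * t⁻¹ * (t * y' * t⁻¹) = t * y' * t⁻¹ * (t * y * t⁻¹)
    calc t * y * t⁻¹ * (t * y' * t⁻¹) = t * (y * y') * t⁻¹ := by group
      _ = t * (y' * y) * t⁻¹ := by rw [this]
      _ = t * y' * t⁻¹ * (t * y * t⁻¹) := by group
  · have : t * y * t⁻¹ = MulAut.conj t y := rfl
    rw [this, MulEquiv.orderOf_eq, hk]
  · have : t * y' * t⁻¹ = MulAut.conj t y' := rfl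
    rw [this, MulEquiv.orderOf_eq]
    exact hy'

/-- An element centralizing `u` centralizes the `p`-part of `u`. -/
theorem conj_pPart_eq_of_conj_eq {G : Type*} [Group G] {p : ℕ} [Fact p.Prime] {u x g : G}
    (hx : IsPPart p u x) (hg : g * u * g⁻¹ = u) : g * x * g⁻¹ = x := by
  have h1 := isPPart_conj' hx g
  rw [hg] at h1
  exact isPPart_unique h1 hx

end Cfsg.Agent.Helper5

namespace Cfsg.Agent.Helper5.CC

open Cfsg Cfsg.Agent.Helper24 Cfsg.Agent.Helper5 Cfsg.Agent.Helper5.Loc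

variable {G : Type*} [Group G] [Fintype G] {M : Ideal AlgInt}

/-- The block part with respect to a union of blocks of a function vanishing on the `p`-regular
elements vanishes on the `p`-regular elements. -/
theorem blockPart_union_eq_zero_of_vanish_regular [Fintype (IrrCharacter G)] {p : ℕ}
    [hp : Fact p.Prime] (hM : IsPModular p M) (S : Set (IrrCharacter G))
    (hS : ∀ ψ ∈ S, blockOf M (ψ : G → ℂ) ⊆ S) {Φ : G → ℂ}
    (hvan : ∀ c : G, ¬ p ∣ orderOf c → Φ c = 0) (y : G) (hy : ¬ p ∣ orderOf y) :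
    blockPart S Φ y = 0 := by
  classical
  have hinst : Fintype.ofFinite G = ‹Fintype G› := Subsingleton.elim _ _
  simp only [blockPart]
  rw [hinst, finsum_mem_eq_sum_ite]
  have h2 : ∀ ψ : IrrCharacter G,
      (if ψ ∈ S then classInner Φ (ψ : G → ℂ) * (ψ : G → ℂ) y else 0) =
      ∑ c : G, (Nat.card G : ℂ)⁻¹ * Φ c *
        (if ψ ∈ S then (ψ : G → ℂ) y * (starRingEnd ℂ) ((ψ : G → ℂ) c) else 0) := by
    intro ψ
    by_cases hψ : ψ ∈ S
    · simp only [if_pos hψ, classInner]
      rw [Finset.mul_sum, Finset.sum_mul]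
      refine Finset.sum_congr rfl fun c _ => ?_
      ring
    · simp only [if_neg hψ, mul_zero, Finset.sum_const_zero]
  rw [Finset.sum_congr rfl (fun ψ _ => h2 ψ), Finset.sum_comm]
  apply Finset.sum_eq_zero
  intro c _
  rw [← Finset.mul_sum]
  by_cases hc : p ∣ orderOf c
  · have := block_orthogonality_union hM S hS y c hy hc
    rw [finsum_mem_eq_sum_ite] at this
    rw [this, mul_zero]
  · rw [hvan c hc, mul_zero, zero_mul]

theorem blockPart_sub [Fintype (IrrCharacter G)] (S : Set (IrrCharacter G)) (Φ Φ' : G → ℂ)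
    (y : G) : blockPart S (Φ - Φ') y = blockPart S Φ y - blockPart S Φ' y := by
  classical
  have hinst : Fintype.ofFinite G = ‹Fintype G› := Subsingleton.elim _ _
  simp only [blockPart]
  rw [hinst, finsum_mem_eq_sum_ite, finsum_mem_eq_sum_ite, finsum_mem_eq_sum_ite,
    ← Finset.sum_sub_distrib]
  refine Finset.sum_congr rfl fun ψ _ => ?_
  split_ifs
  · rw [classInner_sub_left, sub_mul]
  · rw [sub_zero]


/-- The set of irreducible characters of `C` whose block induces `B`. -/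
def inducingSet (M : Ideal AlgInt) (C : Subgroup G) (B : Set (IrrCharacter G)) :
    Set (IrrCharacter C) :=
  {ψ | IsInducedBlock M C (blockOf M (ψ : C → ℂ)) B}

omit [Fintype G] in
theorem inducingSet_union (hM : M.IsPrime) (C : Subgroup G) (B : Set (IrrCharacter G)) :
    ∀ ψ ∈ inducingSet M C B, blockOf M (ψ : C → ℂ) ⊆ inducingSet M C B := by
  intro ψ hψ ψ' hψ'
  show IsInducedBlock M C (blockOf M (ψ' : C → ℂ)) B
  rw [← blockOf_eq_of_sameBlock hM hψ']
  exact hψ

omit [Fintype G] in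
theorem inducingSet_compl_union (hM : M.IsPrime) (C : Subgroup G) (B : Set (IrrCharacter G)) :
    ∀ ψ ∈ (inducingSet M C B)ᶜ, blockOf M (ψ : C → ℂ) ⊆ (inducingSet M C B)ᶜ := by
  intro ψ hψ ψ' hψ' hcon
  apply hψ
  show IsInducedBlock M C (blockOf M (ψ : C → ℂ)) B
  rw [blockOf_eq_of_sameBlock hM hψ']
  exact hcon

/-- **Second main theorem, projection form**: the idempotent of the blocks of `C = C_G(x)`
inducing `B` picks out the members of `B` at elements with `p`-part `x`. -/
theorem sum_blockCoeff_inducingSet [Fintype (IrrCharacter G)] {p : ℕ} [hp : Fact p.Prime]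
    (hM : IsPModular p M) (x : G) (hx : ∃ k : ℕ, orderOf x = p ^ k)
    (C : Subgroup G) [Fintype C] (hxC : x ∈ C) (hcomm : ∀ c : C, x * (c : G) = (c : G) * x)
    (hcent : Subgroup.centralizer ({x} : Set G) ≤ C)
    (B : Set (IrrCharacter G)) [DecidablePred (· ∈ B)] (hB : IsPBlock M B) (y : C)
    (hy : ¬ p ∣ orderOf y) (χ : IrrCharacter G) :
    ∑ k : C, blockCoeff (inducingSet M C B) k * (χ : G → ℂ) ((k : G) * (x * (y : G))) =
      if χ ∈ B then (χ : G → ℂ) (x * (y : G)) else 0 := by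
  classical
  have hMp := isPrime_of_isPModular hM
  have : Fintype (IrrCharacter C) := Fintype.ofFinite _
  have : Finite G := Finite.of_fintype G
  obtain ⟨k, hk⟩ := hx
  have hP : IsPGroup p (Subgroup.zpowers x) := by
    apply IsPGroup.of_card (n := k)
    rw [Nat.card_zpowers, hk]
  have hPH : Subgroup.zpowers x ≤ C := by
    rw [Subgroup.zpowers_le]; exact hxC
  have hCH : Subgroup.centralizer ((Subgroup.zpowers x : Subgroup G) : Set G) ≤ C := by
    refine le_trans (Subgroup.centralizer_le ?_) hcent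
    rw [Set.singleton_subset_iff]
    exact Subgroup.mem_zpowers x
  have hHN : C ≤ Subgroup.normalizer ((Subgroup.zpowers x : Subgroup G) : Set G) := by
    refine le_trans ?_ (Subgroup.centralizer_le_normalizer _)
    intro c hc
    rw [Subgroup.mem_centralizer_iff]
    intro q hq
    obtain ⟨i, rfl⟩ := Subgroup.mem_zpowers_iff.mp hq
    have h1 : Commute x c := hcomm ⟨c, hc⟩
    exact (h1.zpow_left i).eq
  have hdef : ∀ b : Set (IrrCharacter C), IsPBlock M b → InducedBlockDefined M C b := fun b hb =>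
    Cfsg.Agent.S0919.result p M hM (Subgroup.zpowers x) C hP hPH hCH hHN b hb
  set S := inducingSet M C B with hSdef
  have hS := inducingSet_union hMp C B
  have hSc := inducingSet_compl_union hMp C B
  have hxyC : x * (y : G) ∈ C := C.mul_mem hxC y.2
  have hy' : ¬ p ∣ orderOf (y : G) := by rwa [Subgroup.orderOf_coe]
  have hpp : IsPPart p (x * (y : G)) x := ⟨(y : G), rfl, hcomm y, ⟨k, hk⟩, hy'⟩
  have hCu : ∀ z : G, IsPPart p (((⟨x * (y : G), hxyC⟩ : C) : G)) z →
      Subgroup.centralizer ({z} : Set G) ≤ C := by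
    intro z hz
    have : x = z := isPPart_unique hpp hz
    rw [← this]
    exact hcent
  have hsum : ∑ k : C, blockCoeff S k * (χ : G → ℂ) ((k : G) * (x * (y : G))) +
      ∑ k : C, blockCoeff Sᶜ k * (χ : G → ℂ) ((k : G) * (x * (y : G))) =
      (χ : G → ℂ) (x * (y : G)) := by
    rw [← Finset.sum_add_distrib]
    simp_rw [← add_mul, blockCoeff_add_compl]
    rw [Finset.sum_eq_single (1 : C)]
    · rw [deltaOne_apply_one, one_mul, Subgroup.coe_one, one_mul]
    · intro k _ hk1; rw [deltaOne_apply_ne hk1, zero_mul]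
    · intro h; exact absurd (Finset.mem_univ _) h
  by_cases hχ : χ ∈ B
  · rw [if_pos hχ]
    have h0 : ∑ k : C, blockCoeff Sᶜ k * (χ : G → ℂ) ((k : G) * (x * (y : G))) = 0 := by
      apply second_main_union hM C Sᶜ hSc ⟨x * (y : G), hxyC⟩ hCu χ
      intro ψ hψ
      obtain ⟨B', hB'⟩ := hdef _ (isPBlock_blockOf ψ)
      refine ⟨B', hB', ?_⟩
      intro hcon
      apply hψ
      show IsInducedBlock M C (blockOf M (ψ : C → ℂ)) B
      have e1 := IsPBlock_eq_blockOf hMp hB hχ
      have e2 := IsPBlock_eq_blockOf hMp hB'.2.1 hcon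
      rw [e1, ← e2]
      exact hB'
    rw [h0, add_zero] at hsum
    exact hsum
  · rw [if_neg hχ]
    apply second_main_union hM C S hS ⟨x * (y : G), hxyC⟩ hCu χ
    intro ψ hψ
    exact ⟨B, hψ, hχ⟩


section Conj

variable {p : ℕ} [hp : Fact p.Prime] (x : G) (hx : ∃ k : ℕ, orderOf x = p ^ k)
  (C : Subgroup G) (hcomm : ∀ c : C, x * (c : G) = (c : G) * x)
  (hcent : Subgroup.centralizer ({x} : Set G) ≤ C)

include hx hcomm hcent

omit [Fintype G] in
/-- An element of `G` fixing `x * c` (`c ∈ C` `p`-regular) lies in `C` and fixes `c`. -/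
theorem mem_and_conj_eq_of_conj_mul_eq (c y : C) (hc : ¬ p ∣ orderOf c)
    (g : G) (hg : g * (x * (c : G)) * g⁻¹ = x * (y : G)) (hy : ¬ p ∣ orderOf y) :
    ∃ hgC : g ∈ C, (⟨g, hgC⟩ : C) * c * (⟨g, hgC⟩ : C)⁻¹ = y := by
  obtain ⟨k, hk⟩ := hx
  have hc' : ¬ p ∣ orderOf (c : G) := by rwa [Subgroup.orderOf_coe]
  have hy' : ¬ p ∣ orderOf (y : G) := by rwa [Subgroup.orderOf_coe]
  have h1 : IsPPart p (x * (c : G)) x := ⟨(c : G), rfl, hcomm c, ⟨k, hk⟩, hc'⟩
  have h2 : IsPPart p (x * (y : G)) x := ⟨(y : G), rfl, hcomm y, ⟨k, hk⟩, hy'⟩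
  have h3 := isPPart_conj' h1 g
  rw [hg] at h3
  have hgx : g * x * g⁻¹ = x := isPPart_unique h3 h2
  have hgC : g ∈ C := by
    apply hcent
    rw [Subgroup.mem_centralizer_iff]
    intro h hh
    rw [Set.mem_singleton_iff] at hh
    rw [hh]
    calc x * g = g * x * g⁻¹ * g := by rw [hgx]
      _ = g * x := by group
  refine ⟨hgC, ?_⟩
  apply Subtype.ext
  simp only [Subgroup.coe_mul, Subgroup.coe_inv]
  have : x * (g * (c : G) * g⁻¹) = x * (y : G) := by
    calc x * (g * (c : G) * g⁻¹) = (g * x * g⁻¹) * (g * (c : G) * g⁻¹) := by rw [hgx]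
      _ = g * (x * (c : G)) * g⁻¹ := by group
      _ = x * (y : G) := hg
  exact mul_left_cancel this

omit [Fintype G] in
theorem isConj_mul_iff (c y : C) (hc : ¬ p ∣ orderOf c) (hy : ¬ p ∣ orderOf y) :
    IsConj (x * (c : G)) (x * (y : G)) ↔ IsConj c y := by
  constructor
  · intro h
    obtain ⟨g, hg⟩ := isConj_iff.mp h
    obtain ⟨hgC, hgc⟩ := mem_and_conj_eq_of_conj_mul_eq x hx C hcomm hcent c y hc g hg hy
    exact isConj_iff.mpr ⟨⟨g, hgC⟩, hgc⟩
  · intro h
    obtain ⟨g, hg⟩ := isConj_iff.mp h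
    refine isConj_iff.mpr ⟨(g : G), ?_⟩
    have h1 : (g : G) * (c : G) * (g : G)⁻¹ = (y : G) := by
      have := congrArg Subtype.val hg
      simpa using this
    calc (g : G) * (x * (c : G)) * (g : G)⁻¹ = ((g : G) * x) * (c : G) * (g : G)⁻¹ := by group
      _ = (x * (g : G)) * (c : G) * (g : G)⁻¹ := by rw [hcomm g]
      _ = x * ((g : G) * (c : G) * (g : G)⁻¹) := by group
      _ = x * (y : G) := by rw [h1]

omit [Fintype G] in
theorem card_centralizer_mul_eq [Finite G] (c : C) (hc : ¬ p ∣ orderOf c) :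
    Nat.card (Subgroup.centralizer ({x * (c : G)} : Set G)) =
      Nat.card (Subgroup.centralizer ({c} : Set C)) := by
  symm
  apply Nat.card_congr
  refine ⟨fun h => ⟨((h : C) : G), ?_⟩, fun g => ⟨⟨(g : G), ?_⟩, ?_⟩, fun h => ?_, fun g => ?_⟩
  · rw [Subgroup.mem_centralizer_iff]
    intro u hu
    rw [Set.mem_singleton_iff] at hu
    rw [hu]
    have h1 : c * (h : C) = (h : C) * c :=
      Subgroup.mem_centralizer_iff.mp h.2 c (Set.mem_singleton c)
    have h2 : (c : G) * ((h : C) : G) = ((h : C) : G) * (c : G) := by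
      have := congrArg Subtype.val h1
      simpa using this
    calc x * (c : G) * ((h : C) : G) = x * ((c : G) * ((h : C) : G)) := by group
      _ = x * (((h : C) : G) * (c : G)) := by rw [h2]
      _ = (x * ((h : C) : G)) * (c : G) := by group
      _ = (((h : C) : G) * x) * (c : G) := by rw [hcomm (h : C)]
      _ = ((h : C) : G) * (x * (c : G)) := by group
  · have hg : (g : G) * (x * (c : G)) * (g : G)⁻¹ = x * (c : G) := by
      have := Subgroup.mem_centralizer_iff.mp g.2 (x * (c : G)) (Set.mem_singleton _)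
      rw [← this]
      group
    exact (mem_and_conj_eq_of_conj_mul_eq x hx C hcomm hcent c c hc (g : G) hg hc).1
  · have hg : (g : G) * (x * (c : G)) * (g : G)⁻¹ = x * (c : G) := by
      have := Subgroup.mem_centralizer_iff.mp g.2 (x * (c : G)) (Set.mem_singleton _)
      rw [← this]
      group
    obtain ⟨hgC, hgc⟩ := mem_and_conj_eq_of_conj_mul_eq x hx C hcomm hcent c c hc (g : G) hg hc
    rw [Subgroup.mem_centralizer_iff]
    intro u hu
    rw [Set.mem_singleton_iff] at hu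
    rw [hu]
    calc c * ⟨(g : G), hgC⟩ = (⟨(g : G), hgC⟩ * c * (⟨(g : G), hgC⟩ : C)⁻¹) * ⟨(g : G), hgC⟩ := by
          rw [hgc]
      _ = ⟨(g : G), hgC⟩ * c := by group
  · rfl
  · rfl

end Conj


/-- **Brauer's formula.** For a block `B` of `G`, a `p`-element `x` with centralizer `C` and a
`p`-regular `y ∈ C`: `∑_{ζ ∈ B} |ζ(xy)|² = ∑_{ψ} |ψ(y)|²`, the right-hand sum over the characters of
`C` in blocks inducing `B`. -/
theorem brauer_formula [Fintype (IrrCharacter G)] {p : ℕ} [hp : Fact p.Prime]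
    (hM : IsPModular p M) (x : G) (hx : ∃ k : ℕ, orderOf x = p ^ k)
    (C : Subgroup G) [Fintype C] (hxC : x ∈ C) (hcomm : ∀ c : C, x * (c : G) = (c : G) * x)
    (hcent : Subgroup.centralizer ({x} : Set G) ≤ C)
    (B : Set (IrrCharacter G)) (hB : IsPBlock M B) (y : C) (hy : ¬ p ∣ orderOf y) :
    ∑ᶠ ζ ∈ B, (ζ : G → ℂ) (x * (y : G)) * (starRingEnd ℂ) ((ζ : G → ℂ) (x * (y : G))) =
      ∑ᶠ ψ ∈ inducingSet M C B, (ψ : C → ℂ) y * (starRingEnd ℂ) ((ψ : C → ℂ) y) := by
  classical
  have hMp := isPrime_of_isPModular hM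
  have : Fintype (IrrCharacter C) := Fintype.ofFinite _
  have : Finite G := Finite.of_fintype G
  set S := inducingSet M C B with hSdef
  have hS := inducingSet_union hMp C B
  set Θ : C → ℂ := fun c => ∑ ζ : IrrCharacter G,
    (ζ : G → ℂ) (x * (c : G)) * (starRingEnd ℂ) ((ζ : G → ℂ) (x * (y : G))) with hΘdef
  set Θ' : C → ℂ := fun c => ∑ ψ' : IrrCharacter C,
    (ψ' : C → ℂ) c * (starRingEnd ℂ) ((ψ' : C → ℂ) y) with hΘ'def
  -- Step A
  have stepA : ∑ᶠ ζ ∈ B, (ζ : G → ℂ) (x * (y : G)) * (starRingEnd ℂ) ((ζ : G → ℂ) (x * (y : G))) =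
      ∑ k : C, blockCoeff S k * Θ (k * y) := by
    rw [finsum_mem_eq_sum_ite]
    have h1 : ∀ ζ : IrrCharacter G,
        (if ζ ∈ B then (ζ : G → ℂ) (x * (y : G)) * (starRingEnd ℂ) ((ζ : G → ℂ) (x * (y : G)))
          else 0) =
        (∑ k : C, blockCoeff S k * (ζ : G → ℂ) ((k : G) * (x * (y : G)))) *
          (starRingEnd ℂ) ((ζ : G → ℂ) (x * (y : G))) := by
      intro ζ
      rw [sum_blockCoeff_inducingSet hM x hx C hxC hcomm hcent B hB y hy ζ]
      split_ifs <;> simp
    rw [Finset.sum_congr rfl (fun ζ _ => h1 ζ)]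
    simp_rw [Finset.sum_mul]
    rw [Finset.sum_comm]
    refine Finset.sum_congr rfl fun k _ => ?_
    rw [hΘdef, Finset.mul_sum]
    refine Finset.sum_congr rfl fun ζ _ => ?_
    have : (k : G) * (x * (y : G)) = x * ((k * y : C) : G) := by
      rw [Subgroup.coe_mul, ← mul_assoc, ← mul_assoc, hcomm k]
    rw [this]
    ring
  -- Θ is a class function
  have hΘ : IsClassFunction C Θ := by
    intro c h
    rw [hΘdef]
    refine Finset.sum_congr rfl fun ζ _ => ?_
    congr 1
    have hζ := isClassFunction_irr ζ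
    rw [← hζ (x * (c : G)) (h : G)]
    simp only [Subgroup.coe_mul, Subgroup.coe_inv]
    rw [← mul_assoc, ← mul_assoc, hcomm h]
    group
  -- Step B
  have stepB : ∑ k : C, blockCoeff S k * Θ (k * y) = blockPart S Θ y :=
    (blockPart_eq_sum_blockCoeff S hΘ y).symm
  -- Step C
  have stepC : blockPart S Θ y = blockPart S Θ' y := by
    have h0 : blockPart S (Θ - Θ') y = 0 := by
      apply blockPart_union_eq_zero_of_vanish_regular hM S hS _ y hy
      intro c hc
      rw [Pi.sub_apply, sub_eq_zero, hΘdef, hΘ'def]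
      beta_reduce
      rw [sum_irr_mul_conj (x * (c : G)) (x * (y : G)), sum_irr_mul_conj c y]
      by_cases hcy : IsConj c y
      · rw [if_pos hcy, if_pos ((isConj_mul_iff x hx C hcomm hcent c y hc hy).mpr hcy),
          card_centralizer_mul_eq x hx C hcomm hcent c hc]
      · rw [if_neg hcy, if_neg (fun h => hcy ((isConj_mul_iff x hx C hcomm hcent c y hc hy).mp h))]
    rw [blockPart_sub, sub_eq_zero] at h0
    exact h0
  -- Step D
  have stepD : blockPart S Θ' y =
      ∑ᶠ ψ ∈ S, (ψ : C → ℂ) y * (starRingEnd ℂ) ((ψ : C → ℂ) y) := by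
    have hinst : Fintype.ofFinite C = ‹Fintype C› := Subsingleton.elim _ _
    have hΘ'eq : Θ' = ∑ ψ' : IrrCharacter C,
        (starRingEnd ℂ) ((ψ' : C → ℂ) y) • (ψ' : C → ℂ) := by
      funext c
      rw [hΘ'def, Finset.sum_apply]
      refine Finset.sum_congr rfl fun ψ' _ => ?_
      rw [Pi.smul_apply, smul_eq_mul, mul_comm]
    simp only [blockPart]
    rw [hinst]
    refine finsum_congr fun ψ => ?_
    refine finsum_congr fun _ => ?_
    rw [hΘ'eq, classInner_sum_irr, mul_comm]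
  rw [stepA, stepB, stepC, stepD]

end Cfsg.Agent.Helper5.CC
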