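import Mathlib
import Cfsg.Prelude.Def_Blocks
import Cfsg.Agent.Helper5.AlgIntMod
import Cfsg.Agent.Helper5.LocalRing
import Cfsg.Agent.Helper5.LinChar
import Cfsg.Agent.Helper24.Abelian
import Cfsg.Agent.Helper24.Expansion
import Cfsg.Agent.Helper24.RealChar
import Cfsg.Agent.Helper8.CharComp

/-!
# Character values at `x * y` and at `y` are congruent for a `p`-element `x` commuting with `y`
-/

set_option autoImplicit false

namespace Cfsg.Agent.Helper5.Loc

open Cfsg Cfsg.Agent.Helper24 Cfsg.Agent.Helper5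

variable {M : Ideal AlgInt}

/-- A `p`-power root of unity is congruent to `1` modulo `M`. -/
theorem pPowRoot_sub_one_memLocalIdeal {p : ℕ} [hp : Fact p.Prime] (hM : IsPModular p M) (ζ : ℂ)
    (k : ℕ) (h : ζ ^ (p ^ k) = 1) : MemLocalIdeal M (ζ - 1) := by
  have hMp := isPrime_of_isPModular hM
  have hpos : 0 < p ^ k := pow_pos hp.out.pos k
  have hint : IsIntegral ℤ ζ := IsIntegral.of_pow hpos (by rw [h]; exact isIntegral_one)
  let z : AlgInt := ⟨ζ, hint⟩
  have hz : z ^ (p ^ k) = 1 := by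
    apply Subtype.ext
    simp [z, h]
  have hchar : CharP (AlgInt ⧸ M) p := algInt_quot_charP p M hM
  have hmax := hM.2.1
  let _ := Ideal.Quotient.field M
  have h1 : (Ideal.Quotient.mk M z - 1) ^ (p ^ k) = 0 := by
    rw [sub_pow_char_pow, ← map_pow, hz, map_one, one_pow, sub_self]
  have h2 : Ideal.Quotient.mk M z - 1 = 0 := by
    exact (pow_eq_zero_iff (pow_ne_zero k hp.out.ne_zero)).mp h1
  have h3 : z - 1 ∈ M := by
    apply Ideal.Quotient.eq_zero_iff_mem.mp
    rw [map_sub, map_one]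
    exact h2
  have h4 := (memLocalIdeal_algInt_iff hMp (z - 1)).mpr h3
  have h5 : ((z - 1 : AlgInt) : ℂ) = ζ - 1 := by simp [z]
  rwa [h5] at h4


/-- **Congruence at `p`-elements.** For a character `χ`, a `p`-element `x` and an element `y`
commuting with `x`: `χ (x * y) ≡ χ y` modulo `M`. -/
theorem char_mul_sub_char_memLocalIdeal {G : Type*} [Group G] [Finite G] {p : ℕ} [hp : Fact p.Prime]
    (hM : IsPModular p M) {χ : G → ℂ} (hχ : IsCharacter G χ) (x y : G) (hxy : Commute x y)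
    (k : ℕ) (hx : x ^ (p ^ k) = 1) : MemLocalIdeal M (χ (x * y) - χ y) := by
  classical
  have hMp := isPrime_of_isPModular hM
  set A : Subgroup G := Subgroup.closure ({x, y} : Set G) with hA
  have hpair : ∀ a ∈ ({x, y} : Set G), ∀ b ∈ ({x, y} : Set G), a * b = b * a := by
    intro a ha b hb
    rcases ha with rfl | rfl <;> rcases hb with rfl | rfl
    · rfl
    · exact hxy.eq
    · exact hxy.eq.symm
    · rfl
  have hcommA : ∀ a b : A, a * b = b * a := by
    have h := Subgroup.isMulCommutative_closure hpair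
    intro a b
    exact h.is_comm.comm a b
  have : Fintype A := Fintype.ofFinite _
  have : Fintype (IrrCharacter A) := Fintype.ofFinite _
  have hres : IsCharacter A (fun a : A => χ a) := Cfsg.Agent.Helper8.isCharacter_restrict A hχ
  obtain ⟨n, hn⟩ := IsCharacter.exists_nat_coeff hres
  have hxA : x ∈ A := Subgroup.subset_closure (by simp)
  have hyA : y ∈ A := Subgroup.subset_closure (by simp)
  have hlin : ∀ ψ : IrrCharacter A, (ψ : A → ℂ) 1 = 1 := comm_iff_forall_irr_one.mp hcommA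
  have e1 : χ (x * y) = ∑ ψ : IrrCharacter A, (n ψ : ℂ) * (ψ : A → ℂ) (⟨x, hxA⟩ * ⟨y, hyA⟩) := by
    have := congrFun hn (⟨x, hxA⟩ * ⟨y, hyA⟩)
    rw [Finset.sum_apply] at this
    exact this
  have e2 : χ y = ∑ ψ : IrrCharacter A, (n ψ : ℂ) * (ψ : A → ℂ) ⟨y, hyA⟩ := by
    have := congrFun hn ⟨y, hyA⟩
    rw [Finset.sum_apply] at this
    exact this
  rw [e1, e2, ← Finset.sum_sub_distrib]
  apply li_sum hMp
  intro ψ _
  have hψc := IsIrrCharacter.isCharacter ψ.2
  rw [linChar_mul hψc (hlin ψ)]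
  have e3 : (n ψ : ℂ) * ((ψ : A → ℂ) ⟨x, hxA⟩ * (ψ : A → ℂ) ⟨y, hyA⟩) -
      (n ψ : ℂ) * (ψ : A → ℂ) ⟨y, hyA⟩ =
      ((n ψ : ℂ) * (ψ : A → ℂ) ⟨y, hyA⟩) * ((ψ : A → ℂ) ⟨x, hxA⟩ - 1) := by ring
  rw [e3]
  apply li_mul_left hMp
  · exact lr_mul hMp (memLocalRing_natCast hMp _)
      (memLocalRing_of_isIntegral hMp (irr_isIntegral ψ _))
  · apply pPowRoot_sub_one_memLocalIdeal hM _ k
    rw [← linChar_pow hψc (hlin ψ)]
    have : (⟨x, hxA⟩ : A) ^ (p ^ k) = 1 := by
      apply Subtype.ext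
      simp [hx]
    rw [this, hlin ψ]

end Cfsg.Agent.Helper5.Loc
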