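import Mathlib
import Cfsg.Prelude.Def_Blocks
import Cfsg.Agent.Helper5.DefectOrder
import Cfsg.Agent.Helper5.PElementCongr
import Cfsg.Agent.Helper5.BrauerFormula

/-!
# Height-zero characters on defect classes
-/

set_option autoImplicit false

namespace Cfsg.Agent.Helper5.CC

open Cfsg Cfsg.Agent.Helper24 Cfsg.Agent.Helper5 Cfsg.Agent.Helper5.Loc Cfsg.Agent.Helper14

variable {M : Ideal AlgInt}

/-- Multiplying by a ratio of natural numbers with the same `p`-part does not affect membership in
the local ideal. -/
theorem li_natCast_mul_div_iff {p : ℕ} [hp : Fact p.Prime] (hM : IsPModular p M) (a b : ℕ)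
    (ha : a ≠ 0) (hb : b ≠ 0) (hν : a.factorization p = b.factorization p) (z : ℂ) :
    MemLocalIdeal M ((a : ℂ) * z / (b : ℂ)) ↔ MemLocalIdeal M z := by
  have hMp := isPrime_of_isPModular hM
  have ha1 : ¬ p ∣ a / p ^ a.factorization p := Nat.not_dvd_ordCompl hp.out ha
  have hb1 : ¬ p ∣ b / p ^ b.factorization p := Nat.not_dvd_ordCompl hp.out hb
  have hae : p ^ a.factorization p * (a / p ^ a.factorization p) = a :=
    Nat.ordProj_mul_ordCompl_eq_self a p
  have hbe : p ^ b.factorization p * (b / p ^ b.factorization p) = b :=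
    Nat.ordProj_mul_ordCompl_eq_self b p
  set a1 := a / p ^ a.factorization p with ha1def
  set b1 := b / p ^ b.factorization p with hb1def
  set m := b.factorization p with hm
  rw [hν] at hae
  have ha10 : (a1 : ℂ) ≠ 0 := by
    have : a1 ≠ 0 := by
      rintro h
      rw [h] at ha1
      exact ha1 (dvd_zero _)
    exact_mod_cast this
  have hb10 : (b1 : ℂ) ≠ 0 := by
    have : b1 ≠ 0 := by
      rintro h
      rw [h] at hb1
      exact hb1 (dvd_zero _)
    exact_mod_cast this
  have hp0 : (p : ℂ) ≠ 0 := by
    have := hp.out.pos.ne'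
    exact_mod_cast this
  have e : (a : ℂ) * z / (b : ℂ) = (a1 : ℂ) * z * (b1 : ℂ)⁻¹ := by
    rw [← hae, ← hbe]
    push_cast
    field_simp
  rw [e]
  constructor
  · intro h
    have h1 := li_mul_left hMp (lr_mul hMp (memLocalRing_natCast hMp b1)
      (memLocalRing_inv_natCast hM ha1)) h
    have e2 : (b1 : ℂ) * (a1 : ℂ)⁻¹ * ((a1 : ℂ) * z * (b1 : ℂ)⁻¹) = z := by
      field_simp
    rwa [e2] at h1
  · intro h
    exact li_mul_right hMp (li_mul_left hMp (memLocalRing_natCast hMp a1) h)
      (memLocalRing_inv_natCast hM hb1)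


variable {G : Type*} [Group G] [Fintype G]

/-- The centralizer of a defect class has `p`-part of order `p ^ d(B)`. -/
theorem factorization_card_centralizer_of_defectClass [Fintype (IrrCharacter G)] {p : ℕ}
    [hp : Fact p.Prime] (hM : IsPModular p M) {B : Set (IrrCharacter G)} (hB : IsPBlock M B)
    {y : G} (hy : IsDefectClass M B y) :
    (Nat.card (Subgroup.centralizer ({y} : Set G))).factorization p = blockDefect p B := by
  have : Finite G := Finite.of_fintype G
  obtain ⟨P⟩ : Nonempty (Sylow p (Subgroup.centralizer ({y} : Set G))) := inferInstance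
  have hD : IsDefectGroup p M B ((P : Subgroup (Subgroup.centralizer ({y} : Set G))).map
      (Subgroup.centralizer ({y} : Set G)).subtype) := ⟨y, hy, P, rfl⟩
  have h1 := card_defectGroup hM hB hD
  rw [card_map_subtype, P.card_eq_multiplicity] at h1
  exact Nat.pow_right_injective hp.out.two_le h1

omit [Fintype G] in
/-- For a character of height zero, `ν(χ(1)) + d(B) = ν(|G|)`. -/
theorem factorization_irrDeg_of_height_zero [Finite G] {p : ℕ} [hp : Fact p.Prime]
    {B : Set (IrrCharacter G)} (χ : IrrCharacter G) (hχ : χ ∈ B)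
    (h0 : blockHeight p B (χ : G → ℂ) = 0) :
    (irrDeg χ).factorization p + blockDefect p B = (Nat.card G).factorization p := by
  have hmem : (charDegree (χ : G → ℂ)).factorization p ∈
      (fun ψ : IrrCharacter G => (charDegree (ψ : G → ℂ)).factorization p) '' B := ⟨χ, hχ, rfl⟩
  have h1 := Nat.sInf_le hmem
  rw [blockHeight] at h0
  rw [blockDefect]
  have h2 : (irrDeg χ).factorization p ≤ (Nat.card G).factorization p := by
    have hdvd := irrDeg_dvd_card χ
    exact (Nat.factorization_le_iff_dvd (irrDeg_pos χ).ne' (Nat.card_pos (α := G)).ne').mpr hdvd p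
  rw [charDegree_eq_irrDeg] at h0 h1
  omega

/-- **Height-zero characters are units on defect classes.** -/
theorem not_memLocalIdeal_char_of_defectClass [Fintype (IrrCharacter G)] {p : ℕ}
    [hp : Fact p.Prime] (hM : IsPModular p M) {B : Set (IrrCharacter G)} (hB : IsPBlock M B)
    {y : G} (hy : IsDefectClass M B y) (χ : IrrCharacter G) (hχ : χ ∈ B)
    (h0 : blockHeight p B (χ : G → ℂ) = 0) : ¬ MemLocalIdeal M ((χ : G → ℂ) y) := by
  have : Finite G := Finite.of_fintype G
  have h1 := factorization_card_centralizer_of_defectClass hM hB hy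
  have h2 := factorization_irrDeg_of_height_zero χ hχ h0
  have hidx0 : (Subgroup.centralizer ({y} : Set G)).index ≠ 0 := Subgroup.index_ne_zero_of_finite
  have h3 : (Nat.card G).factorization p =
      (Nat.card (Subgroup.centralizer ({y} : Set G))).factorization p +
        (Subgroup.centralizer ({y} : Set G)).index.factorization p := by
    rw [← Subgroup.card_mul_index (Subgroup.centralizer ({y} : Set G)),
      Nat.factorization_mul (Nat.card_pos (α := Subgroup.centralizer ({y} : Set G))).ne' hidx0,
      Finsupp.add_apply]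
  have hν : (Subgroup.centralizer ({y} : Set G)).index.factorization p =
      (irrDeg χ).factorization p := by omega
  have hc := hy.2.2 χ hχ
  rw [centralChar, irrDeg_spec,
    li_natCast_mul_div_iff hM _ _ hidx0 (irrDeg_pos χ).ne' hν] at hc
  exact hc

end Cfsg.Agent.Helper5.CC
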