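import Mathlib
import Cfsg.Prelude.Def_Blocks
import Cfsg.Agent.Helper5.HeightZero

/-!
# Height-zero characters at `x * y` for `y` a defect class and `x` in a defect group
-/

set_option autoImplicit false

namespace Cfsg.Agent.Helper5.CC

open Cfsg Cfsg.Agent.Helper24 Cfsg.Agent.Helper5 Cfsg.Agent.Helper5.Loc Cfsg.Agent.Helper14

variable {M : Ideal AlgInt}

variable {G : Type*} [Group G] [Fintype G]

omit [Fintype G] in
/-- Every nonempty set of irreducible characters contains a character of height zero. -/
theorem exists_height_zero {p : ℕ} {B : Set (IrrCharacter G)} (hne : ∃ χ, χ ∈ B) :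
    ∃ χ ∈ B, blockHeight p B (χ : G → ℂ) = 0 := by
  obtain ⟨χ₁, hχ₁⟩ := hne
  have hne' : ((fun ψ : IrrCharacter G => (charDegree (ψ : G → ℂ)).factorization p) '' B).Nonempty :=
    ⟨_, χ₁, hχ₁, rfl⟩
  obtain ⟨χ, hχ, hE⟩ := Nat.sInf_mem hne'
  refine ⟨χ, hχ, ?_⟩
  rw [blockHeight]
  simp only at hE
  rw [hE]
  exact Nat.sub_self _

/-- A defect class is `p`-regular. -/
theorem not_dvd_orderOf_of_defectClass [Fintype (IrrCharacter G)] {p : ℕ}
    [hp : Fact p.Prime] (hM : IsPModular p M) {B : Set (IrrCharacter G)} (hB : IsPBlock M B)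
    {y : G} (hy : IsDefectClass M B y) : ¬ p ∣ orderOf y := by
  intro h
  have h0 := blockCoeff_eq_zero_of_singular hM hB y h
  apply hy.2.1
  rw [h0]
  exact memLocalIdeal_zero (isPrime_of_isPModular hM)

/-- **Height-zero characters are units at `x * y`**, for `y` a defect class and `x` a `p`-element
commuting with `y`. -/
theorem not_memLocalIdeal_char_mul_of_defectClass [Fintype (IrrCharacter G)] {p : ℕ}
    [hp : Fact p.Prime] (hM : IsPModular p M) {B : Set (IrrCharacter G)} (hB : IsPBlock M B)
    {y : G} (hy : IsDefectClass M B y) (χ : IrrCharacter G) (hχ : χ ∈ B)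
    (h0 : blockHeight p B (χ : G → ℂ) = 0) (x : G) (hxy : Commute x y) (k : ℕ)
    (hx : x ^ (p ^ k) = 1) : ¬ MemLocalIdeal M ((χ : G → ℂ) (x * y)) := by
  have : Finite G := Finite.of_fintype G
  have hMp := isPrime_of_isPModular hM
  intro h
  have h1 := char_mul_sub_char_memLocalIdeal hM (IsIrrCharacter.isCharacter χ.2) x y hxy k hx
  have h2 := li_sub hMp h h1
  rw [sub_sub_cancel] at h2
  exact not_memLocalIdeal_char_of_defectClass hM hB hy χ hχ h0 h2

/-- If `y` is a defect class, `x` a `p`-element commuting with `y`, and `D` a `p`-subgroup of order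
`p ^ d(B)` centralizing both `x` and `y`, then all central characters of `B` are units at
`x * y`. -/
theorem not_memLocalIdeal_centralChar_mul_of_defectClass [Fintype (IrrCharacter G)] {p : ℕ}
    [hp : Fact p.Prime] (hM : IsPModular p M) {B : Set (IrrCharacter G)} (hB : IsPBlock M B)
    {y : G} (hy : IsDefectClass M B y) (x : G) (hxy : Commute x y) (k : ℕ)
    (hx : x ^ (p ^ k) = 1) (D : Subgroup G) (hDcard : Nat.card D = p ^ blockDefect p B)
    (hDx : ∀ w ∈ D, w * x = x * w) (hDy : ∀ w ∈ D, w * y = y * w)
    (χ : IrrCharacter G) (hχ : χ ∈ B) :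
    ¬ MemLocalIdeal M (centralChar (χ : G → ℂ) (x * y)) := by
  have : Finite G := Finite.of_fintype G
  have hMp := isPrime_of_isPModular hM
  obtain ⟨χ₀, hχ₀, h0⟩ := exists_height_zero (p := p) ⟨χ, hχ⟩
  intro h
  have hsb := sameBlock_of_mem hMp hB hχ hχ₀ (x * y)
  have h1 := li_sub hMp h hsb
  rw [sub_sub_cancel] at h1
  -- now `centralChar χ₀ (x * y) ∈ li`
  have hyreg := not_dvd_orderOf_of_defectClass hM hB hy
  have hxord : ∃ j : ℕ, orderOf x = p ^ j := by
    have := orderOf_dvd_of_pow_eq_one hx
    obtain ⟨j, _, hj⟩ := (Nat.dvd_prime_pow hp.out).mp this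
    exact ⟨j, hj⟩
  have hpp : IsPPart p (x * y) x := ⟨y, rfl, hxy, hxord, hyreg⟩
  -- `C(xy) ≤ C(y)`
  have hle : Subgroup.centralizer ({x * y} : Set G) ≤ Subgroup.centralizer ({y} : Set G) := by
    intro g hg
    rw [Subgroup.mem_centralizer_singleton_iff] at hg ⊢
    have hg1 : g * (x * y) * g⁻¹ = x * y := by
      rw [hg]; group
    have hg2 := conj_pPart_eq_of_conj_eq hpp hg1
    have hg3 : g * x = x * g := by
      calc g * x = g * x * g⁻¹ * g := by group
        _ = x * g := by rw [hg2]
    have : x * (g * y) = x * (y * g) := by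
      calc x * (g * y) = (x * g) * y := by group
        _ = g * x * y := by rw [hg3]
        _ = g * (x * y) := by group
        _ = x * y * g := hg
        _ = x * (y * g) := by group
    exact mul_left_cancel this
  -- `D ≤ C(xy)`
  have hDle : D ≤ Subgroup.centralizer ({x * y} : Set G) := by
    intro w hw
    rw [Subgroup.mem_centralizer_singleton_iff]
    calc w * (x * y) = (w * x) * y := by group
      _ = x * (w * y) := by rw [hDx w hw]; group
      _ = x * y * w := by rw [hDy w hw]; group
  have hd := factorization_card_centralizer_of_defectClass hM hB hy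
  have hc0 : Nat.card (Subgroup.centralizer ({x * y} : Set G)) ≠ 0 :=
    (Nat.card_pos (α := Subgroup.centralizer ({x * y} : Set G))).ne'
  have hcy0 : Nat.card (Subgroup.centralizer ({y} : Set G)) ≠ 0 :=
    (Nat.card_pos (α := Subgroup.centralizer ({y} : Set G))).ne'
  have hν1 : (Nat.card (Subgroup.centralizer ({x * y} : Set G))).factorization p ≤
      blockDefect p B := by
    rw [← hd]
    exact (Nat.factorization_le_iff_dvd hc0 hcy0).mpr (Subgroup.card_dvd_of_le hle) p
  have hν2 : blockDefect p B ≤
      (Nat.card (Subgroup.centralizer ({x * y} : Set G))).factorization p := by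
    have hdvd : p ^ blockDefect p B ∣ Nat.card (Subgroup.centralizer ({x * y} : Set G)) := by
      rw [← hDcard]
      exact Subgroup.card_dvd_of_le hDle
    exact (hp.out.pow_dvd_iff_le_factorization hc0).mp hdvd
  have h2 := factorization_irrDeg_of_height_zero χ₀ hχ₀ h0
  have hidx0 : (Subgroup.centralizer ({x * y} : Set G)).index ≠ 0 :=
    Subgroup.index_ne_zero_of_finite
  have h3 : (Nat.card G).factorization p =
      (Nat.card (Subgroup.centralizer ({x * y} : Set G))).factorization p +
        (Subgroup.centralizer ({x * y} : Set G)).index.factorization p := by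
    rw [← Subgroup.card_mul_index (Subgroup.centralizer ({x * y} : Set G)),
      Nat.factorization_mul hc0 hidx0, Finsupp.add_apply]
  have hν : (Subgroup.centralizer ({x * y} : Set G)).index.factorization p =
      (irrDeg χ₀).factorization p := by omega
  rw [centralChar, irrDeg_spec,
    li_natCast_mul_div_iff hM _ _ hidx0 (irrDeg_pos χ₀).ne' hν] at h1
  exact not_memLocalIdeal_char_mul_of_defectClass hM hB hy χ₀ hχ₀ h0 x hxy k hx h1

end Cfsg.Agent.Helper5.CC
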