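import Mathlib

/-!
# Frobenius-module machinery, part A: coset Schur orthogonality for matrices

`coset_orth`: if `R : U →* Matrix` has scalar commutant and `T` is invertible, then
`∑ u, tr (R u * T) * tr (T' * R u⁻¹) = |U|`.
`no_invariant`: a matrix representation with scalar commutant, trivial sum `∑ R u = 0`, cannot have an
invertible `T` all of whose translates `R u * T` are `R`-conjugate to `T`.
-/

set_option autoImplicit false

namespace Cfsg.Agent.Helper5.FrobMod

open Matrix Finset

variable {K : Type*} [Field K] {ι : Type*} [Fintype ι] [DecidableEq ι]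
variable {U : Type*} [Group U] [Fintype U]

theorem coset_orth [Nonempty ι] (R : U →* Matrix ι ι K) (T T' : Matrix ι ι K) (hTT' : T * T' = 1)
    (hschur : ∀ Y : Matrix ι ι K, (∀ a, R a * Y = Y * R a) → ∃ c : K, Y = c • (1 : Matrix ι ι K))
    (hU : (Fintype.card U : K) ≠ 0) :
    ∑ u : U, (R u * T).trace * (T' * R u⁻¹).trace = (Fintype.card U : K) := by
  classical
  have hT'T : T' * T = 1 := (mul_eq_one_comm).mp hTT'
  have hRinv : ∀ u : U, R u * R u⁻¹ = 1 := fun u => by rw [← map_mul, mul_inv_cancel, map_one]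
  have hRinv' : ∀ u : U, R u⁻¹ * R u = 1 := fun u => by rw [← map_mul, inv_mul_cancel, map_one]
  -- the averaging operator
  set Φ : Matrix ι ι K → Matrix ι ι K := fun Y => ∑ u : U, (R u * T) * Y * (T' * R u⁻¹) with hΦ
  have hcomm : ∀ Y a, R a * Φ Y = Φ Y * R a := by
    intro Y a
    simp only [hΦ]
    rw [Finset.mul_sum, Finset.sum_mul]
    rw [← Equiv.sum_comp (Equiv.mulLeft a) (fun u => (R u * T) * Y * (T' * R u⁻¹) * R a)]
    refine Finset.sum_congr rfl fun u _ => ?_
    simp only [Equiv.coe_mulLeft]
    rw [_root_.mul_inv_rev, map_mul, map_mul]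
    simp only [Matrix.mul_assoc]
    rw [hRinv' a, Matrix.mul_one]
  have hscal : ∀ Y, ∃ c : K, Φ Y = c • (1 : Matrix ι ι K) := fun Y => hschur _ (hcomm Y)
  have htr : ∀ Y, (Φ Y).trace = (Fintype.card U : K) * Y.trace := by
    intro Y
    simp only [hΦ, Matrix.trace_sum]
    have : ∀ u : U, ((R u * T) * Y * (T' * R u⁻¹)).trace = Y.trace := by
      intro u
      rw [Matrix.trace_mul_comm, ← Matrix.mul_assoc, ← Matrix.mul_assoc]
      have : T' * R u⁻¹ * R u * T = 1 := by
        rw [Matrix.mul_assoc T', hRinv', Matrix.mul_one, hT'T]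
      rw [this, Matrix.one_mul]
    rw [Finset.sum_congr rfl fun u _ => this u]
    simp
  choose c hc using hscal
  have hcard : ∀ Y, (Fintype.card ι : K) * c Y = (Fintype.card U : K) * Y.trace := by
    intro Y
    rw [← htr Y, hc Y, Matrix.trace_smul, Matrix.trace_one]
    simp [mul_comm]
  -- the card of ι is nonzero in K
  obtain ⟨j0⟩ := ‹Nonempty ι›
  have hι : (Fintype.card ι : K) ≠ 0 := by
    intro h0
    have := hcard (Matrix.single j0 j0 1)
    rw [h0, zero_mul, Matrix.trace_single_eq_same] at this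
    exact hU (by simpa using this.symm)
  -- entry computation
  have hentry : ∀ (u : U) (j k : ι),
      ((R u * T) * Matrix.single j k (1 : K) * (T' * R u⁻¹)) j k = (R u * T) j j * (T' * R u⁻¹) k k := by
    intro u j k
    rw [Matrix.mul_assoc, Matrix.mul_apply, Finset.sum_eq_single j]
    · rw [Matrix.single_mul_apply_same, one_mul]
    · intro b _ hb
      rw [Matrix.single_mul_apply_of_ne (h := hb), mul_zero]
    · intro h; exact absurd (Finset.mem_univ j) h
  have hsum : ∑ u : U, (R u * T).trace * (T' * R u⁻¹).trace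
      = ∑ j : ι, ∑ k : ι, (Φ (Matrix.single j k 1)) j k := by
    simp only [hΦ, Matrix.sum_apply, hentry]
    simp only [Matrix.trace, Matrix.diag_apply, Finset.sum_mul_sum]
    rw [Finset.sum_comm]
    refine Finset.sum_congr rfl fun j _ => ?_
    rw [Finset.sum_comm]
  have hdiag : ∀ j k : ι, (Φ (Matrix.single j k 1)) j k = if j = k then c (Matrix.single j k 1) else 0 := by
    intro j k
    rw [hc]
    by_cases hjk : j = k
    · subst hjk; simp
    · simp [hjk]
  apply mul_left_cancel₀ hι
  rw [hsum, Finset.mul_sum]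
  have : ∀ j : ι, (Fintype.card ι : K) * ∑ k : ι, (Φ (Matrix.single j k 1)) j k = (Fintype.card U : K) := by
    intro j
    simp only [hdiag, Finset.sum_ite_eq, Finset.mem_univ, if_true]
    rw [hcard, Matrix.trace_single_eq_same, mul_one]
  rw [Finset.sum_congr rfl fun j _ => this j]
  simp [mul_comm]

theorem no_invariant [Nonempty ι] (R : U →* Matrix ι ι K) (T T' : Matrix ι ι K) (hTT' : T * T' = 1)
    (hschur : ∀ Y : Matrix ι ι K, (∀ a, R a * Y = Y * R a) → ∃ c : K, Y = c • (1 : Matrix ι ι K))
    (hU : (Fintype.card U : K) ≠ 0)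
    (hconj : ∀ u : U, ∃ a : U, R u * T = R a * T * R a⁻¹)
    (hsum : ∑ u : U, R u = 0) : False := by
  classical
  have hRinv' : ∀ u : U, R u⁻¹ * R u = 1 := fun u => by rw [← map_mul, inv_mul_cancel, map_one]
  have htr : ∀ u : U, (R u * T).trace = T.trace := by
    intro u
    obtain ⟨a, ha⟩ := hconj u
    rw [ha, Matrix.trace_mul_comm, ← Matrix.mul_assoc, hRinv', Matrix.one_mul]
  have h0 : (Fintype.card U : K) * T.trace = 0 := by
    have : ∑ u : U, (R u * T).trace = 0 := by
      rw [← Matrix.trace_sum, ← Finset.sum_mul, hsum, Matrix.zero_mul, Matrix.trace_zero]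
    rw [Finset.sum_congr rfl fun u _ => htr u] at this
    simpa using this
  have hT0 : T.trace = 0 := by
    rcases mul_eq_zero.mp h0 with h | h
    · exact absurd h hU
    · exact h
  have := coset_orth R T T' hTT' hschur hU
  rw [Finset.sum_congr rfl fun u _ => by rw [htr u, hT0, zero_mul]] at this
  simp at this
  exact hU this.symm

end Cfsg.Agent.Helper5.FrobMod
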