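import Mathlib
import Cfsg.Agent.Helper5.FrobModA

/-!
# Frobenius-module machinery, part B: a twisted-invariant irreducible representation is trivial

`trivial_of_twisted_invariant`: `τ` an irreducible representation of the finite group `U` over an algebraically closed
field `K` with `(|U| : K) ≠ 0`, `T` an invertible linear map with `T ∘ τ u = τ (σ u) ∘ T` where
`a ↦ a * σ a⁻¹` is onto `U`.  Then `τ` is trivial.
-/

set_option autoImplicit false

namespace Cfsg.Agent.Helper5.FrobMod

open Module

variable {K : Type*} [Field K] [IsAlgClosed K] {V : Type*} [AddCommGroup V] [Module K V] [FiniteDimensional K V]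
variable {U : Type*} [Group U] [Finite U]

/-- Schur's lemma in elementary form. -/
theorem schur_scalar [Nontrivial V] (τ : Representation K U V)
    (hirr : ∀ Y : Submodule K V, (∀ u, ∀ y ∈ Y, τ u y ∈ Y) → Y = ⊥ ∨ Y = ⊤)
    (y : V →ₗ[K] V) (hy : ∀ u, τ u ∘ₗ y = y ∘ₗ τ u) : ∃ c : K, y = c • LinearMap.id := by
  obtain ⟨c, hc⟩ := Module.End.exists_eigenvalue y
  refine ⟨c, ?_⟩
  have hinv : ∀ u, ∀ v ∈ Module.End.eigenspace y c, τ u v ∈ Module.End.eigenspace y c := by
    intro u v hv
    rw [Module.End.mem_eigenspace_iff] at hv ⊢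
    have := congrArg (fun f => f v) (hy u)
    simp only [LinearMap.comp_apply] at this
    rw [← this, hv, map_smul]
  rcases hirr _ hinv with h | h
  · exact absurd h hc
  · ext v
    have : v ∈ Module.End.eigenspace y c := by rw [h]; trivial
    rw [Module.End.mem_eigenspace_iff] at this
    simp [this]

theorem trivial_of_twisted_invariant [Nontrivial V] (τ : Representation K U V)
    (hirr : ∀ Y : Submodule K V, (∀ u, ∀ y ∈ Y, τ u y ∈ Y) → Y = ⊥ ∨ Y = ⊤)
    (T : V ≃ₗ[K] V) (σ : U → U) (hT : ∀ u v, T (τ u v) = τ (σ u) (T v))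
    (hσ : Function.Surjective (fun a : U => a * σ a⁻¹))
    (hU : (Nat.card U : K) ≠ 0) : ∀ u v, τ u v = v := by
  classical
  haveI : Fintype U := Fintype.ofFinite U
  rw [Nat.card_eq_fintype_card] at hU
  -- the fixed space
  let F : Submodule K V :=
    { carrier := {v | ∀ u, τ u v = v}
      add_mem' := fun {a b} ha hb u => by rw [map_add, ha u, hb u]
      zero_mem' := fun u => map_zero _
      smul_mem' := fun c v hv u => by rw [map_smul, hv u] }
  have hFinv : ∀ u, ∀ y ∈ F, τ u y ∈ F := fun u y hy => by rw [hy u]; exact hy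
  rcases hirr F hFinv with hF | hF
  swap
  · intro u v
    have : v ∈ F := by rw [hF]; trivial
    exact this u
  exfalso
  -- sum of τ u is zero
  have hsum0 : ∑ u : U, τ u = 0 := by
    ext v
    have : (∑ u : U, τ u) v ∈ F := by
      intro a
      simp only [LinearMap.sum_apply]
      rw [map_sum]
      rw [← Equiv.sum_comp (Equiv.mulLeft a) (fun u => τ u v)]
      refine Finset.sum_congr rfl fun u _ => ?_
      simp [map_mul]
    rw [hF] at this
    simpa using this
  -- matrices
  let b := Module.finBasis K V
  have hne : Nonempty (Fin (finrank K V)) := by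
    have : 0 < finrank K V := Module.finrank_pos
    exact ⟨⟨0, this⟩⟩
  let R : U →* Matrix (Fin (finrank K V)) (Fin (finrank K V)) K :=
    { toFun := fun u => LinearMap.toMatrix b b (τ u)
      map_one' := by simp
      map_mul' := fun u w => by
        rw [map_mul]
        exact LinearMap.toMatrix_mul b (τ u) (τ w) }
  refine no_invariant (K := K) R (LinearMap.toMatrix b b T.toLinearMap)
    (LinearMap.toMatrix b b T.symm.toLinearMap) ?_ ?_ hU ?_ ?_
  · rw [← LinearMap.toMatrix_comp b b b]
    have : T.toLinearMap ∘ₗ T.symm.toLinearMap = LinearMap.id := by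
      ext v; simp
    rw [this, LinearMap.toMatrix_id]
  · intro Y hY
    obtain ⟨c, hc⟩ := schur_scalar τ hirr (Matrix.toLin b b Y) (by
      intro u
      have h1 := hY u
      have : Matrix.toLin b b (R u * Y) = Matrix.toLin b b (Y * R u) := by rw [h1]
      rw [Matrix.toLin_mul b b b, Matrix.toLin_mul b b b] at this
      simpa [R] using this)
    refine ⟨c, ?_⟩
    have := congrArg (LinearMap.toMatrix b b) hc
    rw [LinearMap.toMatrix_toLin] at this
    rw [this, map_smul, LinearMap.toMatrix_id]
  · intro u
    obtain ⟨a, ha⟩ := hσ u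
    refine ⟨a, ?_⟩
    simp only [R, MonoidHom.coe_mk, OneHom.coe_mk]
    rw [← LinearMap.toMatrix_comp b b b, ← LinearMap.toMatrix_comp b b b, ← LinearMap.toMatrix_comp b b b]
    congr 1
    ext v
    simp only [LinearMap.comp_apply, LinearEquiv.coe_coe]
    rw [hT a⁻¹, ← Module.End.mul_apply, ← map_mul, ← ha]
  · have : ∑ u : U, R u = LinearMap.toMatrix b b (∑ u : U, τ u) := by
      rw [map_sum]; rfl
    rw [this, hsum0, map_zero]

end Cfsg.Agent.Helper5.FrobMod
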