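import Mathlib
import Cfsg.Agent.Helper5.FrobModB

/-!
# Frobenius-module machinery, part C: independence of the translates of a simple `U`-submodule
-/

set_option autoImplicit false

namespace Cfsg.Agent.Helper5.FrobMod

open Module

variable {K : Type*} [Field K] {M : Type*} [AddCommGroup M] [Module K M]
variable {A : Type*} [Group A] (ρ : Representation K A M)

/-- fixed subspace of a subgroup -/
def fixOf (B : Subgroup A) : Submodule K M where
  carrier := {v | ∀ b ∈ B, ρ b v = v}
  add_mem' := fun {a b} ha hb u hu => by rw [map_add, ha u hu, hb u hu]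
  zero_mem' := fun u _ => map_zero _
  smul_mem' := fun c v hv u hu => by rw [map_smul, hv u hu]

theorem mem_fixOf {B : Subgroup A} {v : M} : v ∈ fixOf ρ B ↔ ∀ b ∈ B, ρ b v = v := Iff.rfl

/-- invariance of a subspace under a subgroup -/
def Inv (B : Subgroup A) (N : Submodule K M) : Prop := ∀ b ∈ B, ∀ x ∈ N, ρ b x ∈ N

theorem rho_inv_apply (a : A) (v : M) : ρ a⁻¹ (ρ a v) = v := by
  rw [← Module.End.mul_apply, ← map_mul, inv_mul_cancel, map_one, Module.End.one_apply]

theorem rho_apply_inv (a : A) (v : M) : ρ a (ρ a⁻¹ v) = v := by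
  rw [← Module.End.mul_apply, ← map_mul, mul_inv_cancel, map_one, Module.End.one_apply]

theorem rho_injective (a : A) : Function.Injective (ρ a) := fun v w h => by
  rw [← rho_inv_apply ρ a v, h, rho_inv_apply]

/-- the sum map `f ↦ ∑ h, ρ h (f h)` -/
noncomputable def sumMap (E : Subgroup A) [Fintype E] (X : Submodule K M) : (E → X) →ₗ[K] M :=
  ∑ h : E, (ρ (h : A)) ∘ₗ X.subtype ∘ₗ LinearMap.proj h

theorem sumMap_apply (E : Subgroup A) [Fintype E] (X : Submodule K M) (f : E → X) :
    sumMap ρ E X f = ∑ h : E, ρ (h : A) (f h : M) := by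
  simp [sumMap, LinearMap.sum_apply]

section twist

variable {U E : Subgroup A} (hUn : ∀ e ∈ E, ∀ u ∈ U, e * u * e⁻¹ ∈ U)
variable {X : Submodule K M} (hXinv : Inv ρ U X)

include hUn in
theorem conj_mem' {a : A} (ha : a ∈ U) (h : E) : (h : A)⁻¹ * a * h ∈ U := by
  have := hUn _ (inv_mem h.2) a ha
  rwa [inv_inv] at this

/-- the twisted action of `a ∈ U` on families -/
noncomputable def tw {a : A} (ha : a ∈ U) : (E → X) →ₗ[K] (E → X) :=
  LinearMap.pi fun h => ((ρ ((h : A)⁻¹ * a * h)).restrict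
    (fun x hx => hXinv _ (conj_mem' hUn ha h) x hx)) ∘ₗ LinearMap.proj h

theorem tw_apply {a : A} (ha : a ∈ U) (f : E → X) (h : E) :
    ((tw ρ hUn hXinv ha f) h : M) = ρ ((h : A)⁻¹ * a * h) (f h : M) := by
  simp [tw]

theorem sumMap_tw [Fintype E] {a : A} (ha : a ∈ U) (f : E → X) :
    sumMap ρ E X (tw ρ hUn hXinv ha f) = ρ a (sumMap ρ E X f) := by
  rw [sumMap_apply, sumMap_apply, map_sum]
  refine Finset.sum_congr rfl fun h _ => ?_
  rw [tw_apply, ← Module.End.mul_apply, ← map_mul, ← Module.End.mul_apply, ← map_mul]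
  congr 2
  group

end twist

theorem sumMap_injective [IsAlgClosed K] [FiniteDimensional K M]
    (U E : Subgroup A) [Finite U] [Fintype E] (hUn : ∀ e ∈ E, ∀ u ∈ U, e * u * e⁻¹ ∈ U)
    (hfpf : ∀ e ∈ E, e ≠ 1 → ∀ u ∈ U, e * u = u * e → u = 1)
    (hU : (Nat.card U : K) ≠ 0)
    (X : Submodule K M) (hXinv : Inv ρ U X) (hXne : X ≠ ⊥)
    (hXsimple : ∀ Y : Submodule K M, Y ≤ X → Inv ρ U Y → Y = ⊥ ∨ Y = X)
    (hXfix : X ⊓ fixOf ρ U = ⊥) :
    Function.Injective (sumMap ρ E X) := by
  classical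
  have key : ∀ n : ℕ, ∀ S : Finset E, S.card = n → ∀ f : E → X, (∀ h ∉ S, f h = 0) →
      sumMap ρ E X f = 0 → f = 0 := by
    intro n
    induction n using Nat.strong_induction_on with
    | _ n IH =>
    intro S hS f hfS hf0
    by_contra hfne
    -- the relation module
    let Rel : Submodule K (E → X) :=
      { carrier := {f | (∀ h ∉ S, f h = 0) ∧ sumMap ρ E X f = 0}
        add_mem' := fun {a b} ha hb => ⟨fun h hh => by simp [ha.1 h hh, hb.1 h hh], by
          rw [map_add, ha.2, hb.2, add_zero]⟩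
        zero_mem' := ⟨fun h _ => rfl, map_zero _⟩
        smul_mem' := fun c a ha => ⟨fun h hh => by simp [ha.1 h hh], by rw [map_smul, ha.2, smul_zero]⟩ }
    have hfRel : f ∈ Rel := ⟨hfS, hf0⟩
    have hinj : ∀ h ∈ S, ∀ f' ∈ Rel, f' h = 0 → f' = 0 := by
      intro h hh f' hf' hf'h
      have hlt : (S.erase h).card < n := by rw [← hS]; exact Finset.card_erase_lt_of_mem hh
      refine IH _ hlt (S.erase h) rfl f' ?_ hf'.2
      intro h' hh'
      by_cases h'h : h' = h
      · rw [h'h]; exact hf'h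
      · exact hf'.1 h' (fun hmem => hh' (Finset.mem_erase.mpr ⟨h'h, hmem⟩))
    have htwRel : ∀ {a : A} (ha : a ∈ U), ∀ f' ∈ Rel, tw ρ hUn hXinv ha f' ∈ Rel := by
      intro a ha f' hf'
      refine ⟨fun h hh => ?_, ?_⟩
      · apply Subtype.ext
        rw [tw_apply, hf'.1 h hh]; simp
      · rw [sumMap_tw, hf'.2, map_zero]
    -- surjectivity of the projections
    have hsurj : ∀ h ∈ S, ∀ x : X, ∃ f' ∈ Rel, f' h = x := by
      intro h hh x
      let Y : Submodule K M := (Rel.map (LinearMap.proj h : (E → X) →ₗ[K] X)).map X.subtype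
      have hYX : Y ≤ X := by
        rintro _ ⟨y, _, rfl⟩; exact y.2
      have hYinv : Inv ρ U Y := by
        rintro u hu _ ⟨_, ⟨f', hf', rfl⟩, rfl⟩
        have ha : (h : A) * u * (h : A)⁻¹ ∈ U := hUn _ h.2 u hu
        refine ⟨_, ⟨tw ρ hUn hXinv ha f', htwRel ha f' hf', rfl⟩, ?_⟩
        simp only [LinearMap.proj_apply, Submodule.subtype_apply]
        rw [tw_apply]
        congr 2
        group
      have hYne : Y ≠ ⊥ := by
        intro hY
        have hfh : (f h : M) ∈ Y := ⟨f h, ⟨f, hfRel, rfl⟩, rfl⟩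
        rw [hY, Submodule.mem_bot] at hfh
        exact hfne (hinj h hh f hfRel (Subtype.ext hfh))
      rcases hXsimple Y hYX hYinv with hY | hY
      · exact absurd hY hYne
      · have : (x : M) ∈ Y := by rw [hY]; exact x.2
        obtain ⟨_, ⟨f', hf', rfl⟩, hx⟩ := this
        exact ⟨f', hf', Subtype.ext hx⟩
    -- there is h0 in the support
    have hex : ∃ h0, f h0 ≠ 0 := by
      by_contra hcon
      push Not at hcon
      exact hfne (funext hcon)
    obtain ⟨h0, hh0⟩ := hex
    have hh0S : h0 ∈ S := by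
      by_contra hcon; exact hh0 (hfS h0 hcon)
    by_cases hex1 : ∃ h1 ∈ S, h1 ≠ h0
    swap
    · -- singleton support
      push Not at hex1
      have hsum : sumMap ρ E X f = ρ (h0 : A) (f h0 : M) := by
        rw [sumMap_apply]
        refine Finset.sum_eq_single h0 (fun h _ hne => ?_) (fun h => absurd (Finset.mem_univ _) h)
        have : h ∉ S := fun hS' => hne (hex1 h hS')
        rw [hfS h this]; simp
      rw [hsum] at hf0
      have : (f h0 : M) = 0 := rho_injective ρ _ (by rw [hf0, map_zero])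
      exact hh0 (Subtype.ext this)
    obtain ⟨h1, hh1S, hne⟩ := hex1
    -- the two projections are bijective
    let π0 : Rel →ₗ[K] X := (LinearMap.proj h0 : (E → X) →ₗ[K] X) ∘ₗ Rel.subtype
    let π1 : Rel →ₗ[K] X := (LinearMap.proj h1 : (E → X) →ₗ[K] X) ∘ₗ Rel.subtype
    have hπ0 : Function.Bijective π0 := by
      refine ⟨?_, ?_⟩
      · rw [← LinearMap.ker_eq_bot, LinearMap.ker_eq_bot']
        intro r hr
        exact Subtype.ext (hinj h0 hh0S r.1 r.2 hr)
      · intro x
        obtain ⟨f', hf', hx⟩ := hsurj h0 hh0S x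
        exact ⟨⟨f', hf'⟩, hx⟩
    have hπ1 : Function.Bijective π1 := by
      refine ⟨?_, ?_⟩
      · rw [← LinearMap.ker_eq_bot, LinearMap.ker_eq_bot']
        intro r hr
        exact Subtype.ext (hinj h1 hh1S r.1 r.2 hr)
      · intro x
        obtain ⟨f', hf', hx⟩ := hsurj h1 hh1S x
        exact ⟨⟨f', hf'⟩, hx⟩
    let e0 := LinearEquiv.ofBijective π0 hπ0
    let e1 := LinearEquiv.ofBijective π1 hπ1
    let T : X ≃ₗ[K] X := e0.symm.trans e1
    have hTval : ∀ f' (hf' : f' ∈ Rel), T (f' h0) = f' h1 := by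
      intro f' hf'
      have : e0.symm (f' h0) = ⟨f', hf'⟩ := by
        rw [LinearEquiv.symm_apply_eq]; rfl
      show e1 (e0.symm (f' h0)) = f' h1
      rw [this]; rfl
    -- the restricted representation
    let τ : Representation K U X :=
      { toFun := fun u => (ρ (u : A)).restrict (fun x hx => hXinv _ u.2 x hx)
        map_one' := by ext x; simp
        map_mul' := fun u w => by ext x; simp }
    have hτ : ∀ (u : U) (x : X), (τ u x : M) = ρ (u : A) (x : M) := fun u x => rfl
    set g : A := (h0 : A)⁻¹ * h1 with hg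
    have hgE : g ∈ E := E.mul_mem (E.inv_mem h0.2) h1.2
    have hg1 : g ≠ 1 := by
      intro h
      rw [hg, inv_mul_eq_one] at h
      exact hne (Subtype.ext h.symm)
    have hσmem : ∀ u : U, g⁻¹ * (u : A) * g ∈ U := by
      intro u
      have := hUn _ (E.inv_mem hgE) u u.2
      rwa [inv_inv] at this
    let σ : U → U := fun u => ⟨g⁻¹ * (u : A) * g, hσmem u⟩
    have hT : ∀ u x, T (τ u x) = τ (σ u) (T x) := by
      intro u x
      obtain ⟨f', hf', hx⟩ := hsurj h0 hh0S x
      have ha : (h0 : A) * u * (h0 : A)⁻¹ ∈ U := hUn _ h0.2 u u.2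
      have h1' : (tw ρ hUn hXinv ha f') h0 = τ u x := by
        apply Subtype.ext
        rw [tw_apply, hτ, hx]
        congr 2
        group
      rw [← h1', hTval _ (htwRel ha f' hf'), ← hx, hTval _ hf']
      apply Subtype.ext
      rw [tw_apply, hτ]
      congr 2
      simp only [σ, hg]
      group
    have hσsurj : Function.Surjective (fun a : U => a * σ a⁻¹) := by
      apply Finite.surjective_of_injective
      intro a b hab
      have hab' : (a : A) * (g⁻¹ * (a : A)⁻¹ * g) = (b : A) * (g⁻¹ * (b : A)⁻¹ * g) := by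
        have := congrArg (Subtype.val) hab
        simpa [σ] using this
      have hcomm : g * ((b : A)⁻¹ * a) = ((b : A)⁻¹ * a) * g := by
        have h2 : (a : A) * g⁻¹ * (a : A)⁻¹ = (b : A) * g⁻¹ * (b : A)⁻¹ := by
          calc (a : A) * g⁻¹ * (a : A)⁻¹ = (a : A) * (g⁻¹ * (a : A)⁻¹ * g) * g⁻¹ := by group
            _ = (b : A) * (g⁻¹ * (b : A)⁻¹ * g) * g⁻¹ := by rw [hab']
            _ = (b : A) * g⁻¹ * (b : A)⁻¹ := by group
        calc g * ((b : A)⁻¹ * a) = g * ((b : A)⁻¹ * ((a : A) * g⁻¹ * (a : A)⁻¹) * a) * g := by group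
          _ = g * ((b : A)⁻¹ * ((b : A) * g⁻¹ * (b : A)⁻¹) * a) * g := by rw [h2]
          _ = ((b : A)⁻¹ * a) * g := by group
      have := hfpf g hgE hg1 ((b : A)⁻¹ * a) (U.mul_mem (U.inv_mem b.2) a.2) hcomm
      apply Subtype.ext
      rw [inv_mul_eq_one] at this
      exact this.symm
    haveI : Nontrivial X := Submodule.nontrivial_iff_ne_bot.mpr hXne
    have hirr : ∀ Y : Submodule K X, (∀ u, ∀ y ∈ Y, τ u y ∈ Y) → Y = ⊥ ∨ Y = ⊤ := by
      intro Y hY
      have h1 : Y.map X.subtype ≤ X := by rintro _ ⟨y, _, rfl⟩; exact y.2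
      have h2 : Inv ρ U (Y.map X.subtype) := by
        rintro u hu _ ⟨y, hy, rfl⟩
        exact ⟨τ ⟨u, hu⟩ y, hY _ y hy, rfl⟩
      rcases hXsimple _ h1 h2 with h | h
      · left
        rw [eq_bot_iff]
        intro y hy
        have : (y : M) ∈ Y.map X.subtype := ⟨y, hy, rfl⟩
        rw [h, Submodule.mem_bot] at this
        rw [Submodule.mem_bot]
        exact Subtype.ext this
      · right
        rw [eq_top_iff]
        intro y _
        have : (y : M) ∈ Y.map X.subtype := by rw [h]; exact y.2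
        obtain ⟨y', hy', hyy'⟩ := this
        have : y' = y := Subtype.ext hyy'
        rwa [← this]
    have htriv := trivial_of_twisted_invariant τ hirr T σ hT hσsurj hU
    apply hXne
    rw [eq_bot_iff, ← hXfix]
    intro x hx
    refine ⟨hx, fun u hu => ?_⟩
    have := htriv ⟨u, hu⟩ ⟨x, hx⟩
    exact congrArg Subtype.val this
  intro f f' hff'
  have : f - f' = 0 := key _ Finset.univ rfl (f - f') (fun h hh => absurd (Finset.mem_univ h) hh) (by
    rw [map_sub, hff', sub_self])
  exact sub_eq_zero.mp this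

end Cfsg.Agent.Helper5.FrobMod
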