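import Mathlib
import Cfsg.Agent.Helper5.FrobModC

/-!
# Frobenius-module machinery, part D: the dimension formula over an algebraically closed field

`finrank_eq_of_fix_eq_bot`: `A = U ⊔ E`, `E` normalizes `U` and acts fixed-point-freely on it, `(|A| : K) ≠ 0`,
`N` an `A`-invariant subspace with no nonzero `U`-fixed vector: `dim N = |E| * dim C_N(E)`.
`frobenius_formula_algClosed`: `|E| * dim C_M(A) + dim M = |E| * dim C_M(E) + dim C_M(U)`.
-/

set_option autoImplicit false

namespace Cfsg.Agent.Helper5.FrobMod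

open Module

variable {K : Type*} [Field K] {M : Type*} [AddCommGroup M] [Module K M]
variable {A : Type*} [Group A] (ρ : Representation K A M)

/-- Maschke: an invariant subspace has an invariant complement. -/
theorem exists_inv_compl' [Finite A] (hA : (Nat.card A : K) ≠ 0) (N : Submodule K M)
    (hN : Inv ρ ⊤ N) :
    ∃ T : Submodule K M, IsCompl N T ∧ Inv ρ ⊤ T := by
  haveI : NeZero (Nat.card A : K) := ⟨hA⟩
  let W : Subrepresentation ρ := ⟨N, fun g v hv => hN g (Subgroup.mem_top g) v hv⟩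
  obtain ⟨W', hc⟩ := exists_isCompl W
  refine ⟨W'.toSubmodule, ⟨?_, ?_⟩, fun g _ x hx => W'.apply_mem_toSubmodule g hx⟩
  · rw [disjoint_iff]
    exact congrArg Subrepresentation.toSubmodule hc.inf_eq_bot
  · rw [codisjoint_iff]
    exact congrArg Subrepresentation.toSubmodule hc.sup_eq_top

theorem inv_top_of_sup {U E : Subgroup A} (hUE : U ⊔ E = ⊤) {N : Submodule K M}
    (hU : Inv ρ U N) (hE : Inv ρ E N) : Inv ρ ⊤ N := by
  let S : Subgroup A :=
    { carrier := {a | (∀ x ∈ N, ρ a x ∈ N) ∧ (∀ x ∈ N, ρ a⁻¹ x ∈ N)}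
      one_mem' := by simp
      mul_mem' := fun {a b} ha hb => ⟨fun x hx => by
        rw [map_mul]; exact ha.1 _ (hb.1 x hx), fun x hx => by
        rw [mul_inv_rev, map_mul]; exact hb.2 _ (ha.2 x hx)⟩
      inv_mem' := fun {a} ha => ⟨ha.2, by rw [inv_inv]; exact ha.1⟩ }
  have h1 : U ≤ S := fun u hu => ⟨hU u hu, hU _ (U.inv_mem hu)⟩
  have h2 : E ≤ S := fun u hu => ⟨hE u hu, hE _ (E.inv_mem hu)⟩
  have h3 : (⊤ : Subgroup A) ≤ S := hUE ▸ sup_le h1 h2
  intro a _ x hx
  exact (h3 (Subgroup.mem_top a)).1 x hx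

theorem inv_mono {B C : Subgroup A} (h : B ≤ C) {N : Submodule K M} (hN : Inv ρ C N) : Inv ρ B N :=
  fun b hb => hN b (h hb)

theorem inv_inf {B : Subgroup A} {N N' : Submodule K M} (hN : Inv ρ B N) (hN' : Inv ρ B N') :
    Inv ρ B (N ⊓ N') := fun b hb x hx => ⟨hN b hb x hx.1, hN' b hb x hx.2⟩

theorem card_sub_ne_zero [Finite A] (hA : (Nat.card A : K) ≠ 0) (B : Subgroup A) :
    (Nat.card B : K) ≠ 0 := by
  intro h
  apply hA
  rw [← Subgroup.card_mul_index B, Nat.cast_mul, h, zero_mul]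

/-- fixed vectors of a direct sum of invariant subspaces -/
theorem fix_sup_eq {B : Subgroup A} {N' N'' : Submodule K M} (hN' : Inv ρ B N') (hN'' : Inv ρ B N'')
    (hdisj : N' ⊓ N'' = ⊥) :
    (N' ⊔ N'') ⊓ fixOf ρ B = (N' ⊓ fixOf ρ B) ⊔ (N'' ⊓ fixOf ρ B) := by
  apply le_antisymm
  · rintro v ⟨hv, hvfix⟩
    obtain ⟨v', hv', v'', hv'', rfl⟩ := Submodule.mem_sup.mp hv
    have hfix : ∀ b ∈ B, ρ b v' = v' ∧ ρ b v'' = v'' := by
      intro b hb
      have h1 := hvfix b hb
      rw [map_add] at h1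
      have h2 : ρ b v' - v' = v'' - ρ b v'' := by
        rw [sub_eq_sub_iff_add_eq_add, h1, add_comm]
      have h3 : ρ b v' - v' ∈ N' ⊓ N'' :=
        ⟨N'.sub_mem (hN' b hb _ hv') hv', h2 ▸ N''.sub_mem hv'' (hN'' b hb _ hv'')⟩
      rw [hdisj, Submodule.mem_bot] at h3
      refine ⟨sub_eq_zero.mp h3, ?_⟩
      rw [h3] at h2
      exact (sub_eq_zero.mp h2.symm).symm
    exact Submodule.add_mem_sup ⟨hv', fun b hb => (hfix b hb).1⟩ ⟨hv'', fun b hb => (hfix b hb).2⟩
  · exact sup_le (inf_le_inf_right _ le_sup_left) (inf_le_inf_right _ le_sup_right)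

theorem finrank_eq_of_fix_eq_bot [IsAlgClosed K] [FiniteDimensional K M] [Finite A]
    (U E : Subgroup A) (hUE : U ⊔ E = ⊤) (hUn : ∀ e ∈ E, ∀ u ∈ U, e * u * e⁻¹ ∈ U)
    (hfpf : ∀ e ∈ E, e ≠ 1 → ∀ u ∈ U, e * u = u * e → u = 1)
    (hA : (Nat.card A : K) ≠ 0) :
    ∀ N : Submodule K M, Inv ρ ⊤ N → N ⊓ fixOf ρ U = ⊥ →
      finrank K N = Nat.card E * finrank K (N ⊓ fixOf ρ E : Submodule K M) := by
  classical
  haveI : Fintype E := Fintype.ofFinite E
  have hUK := card_sub_ne_zero hA U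
  have main : ∀ n : ℕ, ∀ N : Submodule K M, finrank K N = n → Inv ρ ⊤ N → N ⊓ fixOf ρ U = ⊥ →
      finrank K N = Nat.card E * finrank K (N ⊓ fixOf ρ E : Submodule K M) := by
    intro n
    induction n using Nat.strong_induction_on with
    | _ n IH =>
    intro N hNn hNinv hNfix
    by_cases hN0 : N = ⊥
    · subst hN0
      simp
    -- minimal nonzero U-invariant subspace
    have hex : ∃ d : ℕ, ∃ Y : Submodule K M, (Y ≤ N ∧ Y ≠ ⊥ ∧ Inv ρ U Y) ∧ finrank K Y = d :=
      ⟨_, N, ⟨le_rfl, hN0, inv_mono ρ le_top hNinv⟩, rfl⟩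
    obtain ⟨X, ⟨hXN, hXne, hXinv⟩, hXd⟩ := Nat.find_spec hex
    have hXsimple : ∀ Y : Submodule K M, Y ≤ X → Inv ρ U Y → Y = ⊥ ∨ Y = X := by
      intro Y hYX hYinv
      by_cases hY0 : Y = ⊥
      · exact Or.inl hY0
      · right
        have hle : Nat.find hex ≤ finrank K Y :=
          Nat.find_min' hex ⟨Y, ⟨hYX.trans hXN, hY0, hYinv⟩, rfl⟩
        exact Submodule.eq_of_le_of_finrank_le hYX (hXd ▸ hle)
    have hXfix : X ⊓ fixOf ρ U = ⊥ := by
      rw [eq_bot_iff, ← hNfix]; exact inf_le_inf_right _ hXN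
    have hinj := sumMap_injective ρ U E hUn hfpf hUK X hXinv hXne hXsimple hXfix
    have hEinvN : Inv ρ E N := inv_mono ρ le_top hNinv
    -- N' = range of the sum map
    set N' : Submodule K M := LinearMap.range (sumMap ρ E X) with hN'
    have hN'N : N' ≤ N := by
      rintro _ ⟨f, rfl⟩
      rw [sumMap_apply]
      exact N.sum_mem fun h _ => hEinvN _ h.2 _ (hXN (f h).2)
    have hN'U : Inv ρ U N' := by
      rintro u hu _ ⟨f, rfl⟩
      exact ⟨tw ρ hUn hXinv hu f, sumMap_tw ρ hUn hXinv hu f⟩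
    have hshift : ∀ (g : E) (f : E → X),
        ρ (g : A) (sumMap ρ E X f) = sumMap ρ E X (fun h => f (g⁻¹ * h)) := by
      intro g f
      rw [sumMap_apply, sumMap_apply, map_sum]
      rw [← Equiv.sum_comp (Equiv.mulLeft g) (fun h => ρ (h : A) ((f (g⁻¹ * h) : X) : M))]
      refine Finset.sum_congr rfl fun h _ => ?_
      simp only [Equiv.coe_mulLeft, inv_mul_cancel_left]
      rw [← Module.End.mul_apply, ← map_mul]
      rfl
    have hN'E : Inv ρ E N' := by
      rintro g hg _ ⟨f, rfl⟩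
      exact ⟨_, (hshift ⟨g, hg⟩ f).symm⟩
    have hN'inv : Inv ρ ⊤ N' := inv_top_of_sup ρ hUE hN'U hN'E
    have hXN' : X ≤ N' := by
      intro x hx
      refine ⟨Pi.single 1 ⟨x, hx⟩, ?_⟩
      rw [sumMap_apply, Finset.sum_eq_single 1]
      · simp
      · intro h _ hne
        rw [Pi.single_eq_of_ne hne]; simp
      · intro h; exact absurd (Finset.mem_univ _) h
    have hN'ne : N' ≠ ⊥ := fun h => hXne (eq_bot_iff.mpr (h ▸ hXN'))
    -- dimension of N'
    have hdimN' : finrank K N' = Nat.card E * finrank K X := by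
      rw [hN', LinearMap.finrank_range_of_inj hinj, Module.finrank_pi_fintype]
      simp [Nat.card_eq_fintype_card]
    -- fixed points of E in N'
    let Δ : X →ₗ[K] M := sumMap ρ E X ∘ₗ LinearMap.pi (fun _ => LinearMap.id)
    have hΔinj : Function.Injective Δ := by
      intro x y hxy
      have := hinj hxy
      have := congrFun this 1
      simpa using this
    have hfixN' : N' ⊓ fixOf ρ E = LinearMap.range Δ := by
      apply le_antisymm
      · rintro v ⟨⟨f, rfl⟩, hfix⟩
        have hconst : ∀ h, f h = f 1 := by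
          intro h
          have h1 := hfix _ (h⁻¹).2
          rw [hshift] at h1
          have := congrFun (hinj h1) 1
          simp only [inv_inv, mul_one] at this
          exact this
        refine ⟨f 1, ?_⟩
        show sumMap ρ E X (fun _ => f 1) = sumMap ρ E X f
        congr 1
        funext h
        exact (hconst h).symm
      · rintro _ ⟨x, rfl⟩
        refine ⟨⟨_, rfl⟩, fun g hg => ?_⟩
        show ρ g (sumMap ρ E X (fun _ => x)) = sumMap ρ E X (fun _ => x)
        exact hshift ⟨g, hg⟩ _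
    have hdimfixN' : finrank K (N' ⊓ fixOf ρ E : Submodule K M) = finrank K X := by
      rw [hfixN', LinearMap.finrank_range_of_inj hΔinj]
    -- complement
    obtain ⟨T, hT, hTinv⟩ := exists_inv_compl' ρ hA N' hN'inv
    set N'' : Submodule K M := N ⊓ T with hN''
    have hN''inv : Inv ρ ⊤ N'' := inv_inf ρ hNinv hTinv
    have hdisj : N' ⊓ N'' = ⊥ := by
      rw [eq_bot_iff, ← hT.inf_eq_bot]
      exact inf_le_inf_left _ inf_le_right
    have hsup : N' ⊔ N'' = N := by
      rw [hN'', inf_comm N T, ← sup_inf_assoc_of_le T hN'N, hT.sup_eq_top, top_inf_eq]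
    have hN''fix : N'' ⊓ fixOf ρ U = ⊥ := by
      rw [eq_bot_iff, ← hNfix]; exact inf_le_inf_right _ inf_le_left
    have hdim : finrank K N = finrank K N' + finrank K N'' := by
      have := Submodule.finrank_sup_add_finrank_inf_eq N' N''
      rw [hsup, hdisj, finrank_bot, add_zero] at this
      exact this
    have hN'pos : 0 < finrank K N' := by
      rw [Nat.pos_iff_ne_zero]
      intro h0
      exact hN'ne (Submodule.finrank_eq_zero.mp h0)
    have hlt : finrank K N'' < n := by omega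
    have IH' := IH _ hlt N'' rfl hN''inv hN''fix
    have hfixsum := fix_sup_eq ρ (inv_mono ρ le_top hN'inv : Inv ρ E N')
      (inv_mono ρ le_top hN''inv : Inv ρ E N'') hdisj
    rw [hsup] at hfixsum
    have hdimfix : finrank K (N ⊓ fixOf ρ E : Submodule K M)
        = finrank K (N' ⊓ fixOf ρ E : Submodule K M) + finrank K (N'' ⊓ fixOf ρ E : Submodule K M) := by
      have := Submodule.finrank_sup_add_finrank_inf_eq (N' ⊓ fixOf ρ E) (N'' ⊓ fixOf ρ E)
      have hd2 : (N' ⊓ fixOf ρ E) ⊓ (N'' ⊓ fixOf ρ E) = ⊥ := by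
        rw [eq_bot_iff, ← hdisj]
        exact inf_le_inf inf_le_left inf_le_left
      rw [← hfixsum, hd2, finrank_bot, add_zero] at this
      exact this
    rw [hdim, hdimfix, hdimN', IH', hdimfixN', mul_add]
  intro N hNinv hNfix
  exact main _ N rfl hNinv hNfix

end Cfsg.Agent.Helper5.FrobMod
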