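import Mathlib
import Cfsg.Agent.Helper5.FrobModD

/-!
# Frobenius-module machinery, part E: the general formula and scalar extension

`frobenius_formula_algClosed`, `frobenius_formula`:
`|E| * dim C_M(A) + dim M = |E| * dim C_M(E) + dim C_M(U)` for `A = U ⊔ E`, `E` normalizing `U`, acting
fixed-point-freely on it, `(|A| : k) ≠ 0`.
-/

set_option autoImplicit false

namespace Cfsg.Agent.Helper5.FrobMod

open Module TensorProduct

section AlgClosed

variable {K : Type*} [Field K] {M : Type*} [AddCommGroup M] [Module K M]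
variable {A : Type*} [Group A] (ρ : Representation K A M)

theorem fix_top_eq {U E : Subgroup A} (hUE : U ⊔ E = ⊤) :
    fixOf ρ (⊤ : Subgroup A) = fixOf ρ U ⊓ fixOf ρ E := by
  apply le_antisymm
  · intro v hv
    exact ⟨fun u _ => hv u (Subgroup.mem_top u), fun u _ => hv u (Subgroup.mem_top u)⟩
  · rintro v ⟨hU, hE⟩
    let S : Subgroup A :=
      { carrier := {a | ρ a v = v}
        one_mem' := by simp
        mul_mem' := fun {a b} ha hb => by
          show ρ (a * b) v = v
          rw [map_mul, Module.End.mul_apply, hb, ha]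
        inv_mem' := fun {a} ha => by
          show ρ a⁻¹ v = v
          have : ρ a v = v := ha
          rw [← this, rho_inv_apply, this] }
    have h3 : (⊤ : Subgroup A) ≤ S := hUE ▸ sup_le (fun u hu => hU u hu) (fun u hu => hE u hu)
    intro a _
    exact h3 (Subgroup.mem_top a)

theorem frobenius_formula_algClosed [IsAlgClosed K] [FiniteDimensional K M] [Finite A]
    (U E : Subgroup A) (hUE : U ⊔ E = ⊤) (hUn : ∀ e ∈ E, ∀ u ∈ U, e * u * e⁻¹ ∈ U)
    (hfpf : ∀ e ∈ E, e ≠ 1 → ∀ u ∈ U, e * u = u * e → u = 1)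
    (hA : (Nat.card A : K) ≠ 0) :
    Nat.card E * finrank K (fixOf ρ (⊤ : Subgroup A)) + finrank K M
      = Nat.card E * finrank K (fixOf ρ E) + finrank K (fixOf ρ U) := by
  have hFU : Inv ρ U (fixOf ρ U) := fun u hu v hv => by rw [hv u hu]; exact hv
  have hFE : Inv ρ E (fixOf ρ U) := by
    intro e he v hv u hu
    have hmem : e⁻¹ * u * e ∈ U := by
      have := hUn _ (E.inv_mem he) u hu
      rwa [inv_inv] at this
    have := hv _ hmem
    calc ρ u (ρ e v) = ρ e (ρ (e⁻¹ * u * e) v) := by
          rw [← Module.End.mul_apply, ← map_mul, ← Module.End.mul_apply, ← map_mul]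
          congr 2; group
      _ = ρ e v := by rw [this]
  have hFinv : Inv ρ ⊤ (fixOf ρ U) := inv_top_of_sup ρ hUE hFU hFE
  obtain ⟨N, hN, hNinv⟩ := exists_inv_compl' ρ hA (fixOf ρ U) hFinv
  have hNfix : N ⊓ fixOf ρ U = ⊥ := by rw [inf_comm]; exact hN.inf_eq_bot
  have h1 := finrank_eq_of_fix_eq_bot ρ U E hUE hUn hfpf hA N hNinv hNfix
  have h2 : finrank K M = finrank K (fixOf ρ U) + finrank K N := by
    have := Submodule.finrank_sup_add_finrank_inf_eq (fixOf ρ U) N
    rw [hN.sup_eq_top, hN.inf_eq_bot, finrank_bot, add_zero, finrank_top] at this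
    exact this
  have h3 := fix_sup_eq ρ (inv_mono ρ le_top hFinv : Inv ρ E (fixOf ρ U))
    (inv_mono ρ le_top hNinv : Inv ρ E N) hN.inf_eq_bot
  rw [hN.sup_eq_top, top_inf_eq] at h3
  have h4 : finrank K (fixOf ρ E) = finrank K (fixOf ρ U ⊓ fixOf ρ E : Submodule K M)
      + finrank K (N ⊓ fixOf ρ E : Submodule K M) := by
    have := Submodule.finrank_sup_add_finrank_inf_eq (fixOf ρ U ⊓ fixOf ρ E) (N ⊓ fixOf ρ E)
    have hd2 : (fixOf ρ U ⊓ fixOf ρ E) ⊓ (N ⊓ fixOf ρ E) = ⊥ := by
      rw [eq_bot_iff, ← hN.inf_eq_bot]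
      exact inf_le_inf inf_le_left inf_le_left
    rw [← h3, hd2, finrank_bot, add_zero] at this
    exact this
  rw [fix_top_eq ρ hUE, h2, h4, h1]
  ring

end AlgClosed

section BaseChange

variable {k : Type*} [Field k] {M : Type*} [AddCommGroup M] [Module k M]
variable {A : Type*} [Group A] (ρ : Representation k A M)

/-- kernel of a base change has the same dimension -/
theorem finrank_ker_baseChange (K : Type*) [Field K] [Algebra k K] (g : M →ₗ[k] M) :
    finrank K (LinearMap.ker (g.baseChange K)) = finrank k (LinearMap.ker g) := by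
  have hex : Function.Exact (LinearMap.ker g).subtype g := LinearMap.exact_subtype_ker_map g
  have hex' := Module.Flat.lTensor_exact K hex
  have hinj : Function.Injective ((LinearMap.ker g).subtype.baseChange K) := by
    rw [LinearMap.baseChange_eq_ltensor]
    exact Module.Flat.lTensor_preserves_injective_linearMap _ (Submodule.subtype_injective _)
  have hker : LinearMap.ker (g.baseChange K) = LinearMap.range ((LinearMap.ker g).subtype.baseChange K) := by
    ext y
    rw [LinearMap.mem_ker, LinearMap.mem_range]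
    have := hex' y
    rw [← LinearMap.baseChange_eq_ltensor, ← LinearMap.baseChange_eq_ltensor] at this
    rw [this]
    rfl
  rw [hker, LinearMap.finrank_range_of_inj hinj, Module.finrank_baseChange]

/-- fixed space as a kernel -/
theorem fixOf_eq_ker {F : Type*} [Field F] {V : Type*} [AddCommGroup V] [Module F V]
    (τ : Representation F A V) (B : Subgroup A) [Fintype B] (hB : (Fintype.card B : F) ≠ 0) :
    fixOf τ B = LinearMap.ker (LinearMap.id - (Fintype.card B : F)⁻¹ • ∑ b : B, τ (b : A)) := by
  ext v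
  rw [LinearMap.mem_ker, LinearMap.sub_apply, LinearMap.id_apply, LinearMap.smul_apply,
    LinearMap.sum_apply, sub_eq_zero]
  constructor
  · intro hv
    have : ∑ b : B, τ (b : A) v = (Fintype.card B : F) • v := by
      rw [Finset.sum_congr rfl fun (b : B) _ => hv (b : A) b.2]
      simp [Nat.cast_smul_eq_nsmul]
    rw [this, smul_smul, inv_mul_cancel₀ hB, one_smul]
  · intro hv a ha
    have hsum : τ a (∑ b : B, τ (b : A) v) = ∑ b : B, τ (b : A) v := by
      rw [map_sum]
      rw [← Equiv.sum_comp (Equiv.mulLeft (⟨a, ha⟩ : B)) (fun b => τ (b : A) v)]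
      refine Finset.sum_congr rfl fun b _ => ?_
      simp [map_mul]
    rw [hv, map_smul, hsum]

/-- the base-changed representation -/
noncomputable def baseChangeRep (K : Type*) [Field K] [Algebra k K] : Representation K A (K ⊗[k] M) where
  toFun a := (ρ a).baseChange K
  map_one' := by rw [map_one]; exact LinearMap.baseChange_one k M
  map_mul' a b := by rw [map_mul]; exact LinearMap.baseChange_mul _ _

theorem finrank_fix_baseChange (K : Type*) [Field K] [Algebra k K] (B : Subgroup A) [Finite B]
    (hB : (Nat.card B : k) ≠ 0) :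
    finrank K (fixOf (baseChangeRep ρ K) B) = finrank k (fixOf ρ B) := by
  classical
  haveI : Fintype B := Fintype.ofFinite B
  rw [Nat.card_eq_fintype_card] at hB
  have hBK : (Fintype.card B : K) ≠ 0 := by
    rw [← map_natCast (algebraMap k K)]
    exact fun h => hB ((map_eq_zero_iff _ (algebraMap k K).injective).mp h)
  have hg : (LinearMap.id - (Fintype.card B : k)⁻¹ • ∑ b : B, ρ (b : A)).baseChange K
      = LinearMap.id - (Fintype.card B : K)⁻¹ • ∑ b : B, baseChangeRep ρ K (b : A) := by
    rw [LinearMap.baseChange_sub, LinearMap.baseChange_id, LinearMap.baseChange_smul]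
    congr 1
    have h1 : (∑ b : B, ρ (b : A)).baseChange K = ∑ b : B, baseChangeRep ρ K (b : A) := by
      ext v
      simp [baseChangeRep, LinearMap.sum_apply, TensorProduct.tmul_sum]
    rw [h1]
    rw [← map_natCast (algebraMap k K), ← map_inv₀, algebraMap_smul]
  rw [fixOf_eq_ker ρ B hB, fixOf_eq_ker (baseChangeRep ρ K) B hBK, ← hg, finrank_ker_baseChange]

theorem frobenius_formula [FiniteDimensional k M] [Finite A]
    (U E : Subgroup A) (hUE : U ⊔ E = ⊤) (hUn : ∀ e ∈ E, ∀ u ∈ U, e * u * e⁻¹ ∈ U)
    (hfpf : ∀ e ∈ E, e ≠ 1 → ∀ u ∈ U, e * u = u * e → u = 1)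
    (hA : (Nat.card A : k) ≠ 0) :
    Nat.card E * finrank k (fixOf ρ (⊤ : Subgroup A)) + finrank k M
      = Nat.card E * finrank k (fixOf ρ E) + finrank k (fixOf ρ U) := by
  let K := AlgebraicClosure k
  have hAK : (Nat.card A : K) ≠ 0 := by
    rw [← map_natCast (algebraMap k K)]
    exact fun h => hA ((map_eq_zero_iff _ (algebraMap k K).injective).mp h)
  have h := frobenius_formula_algClosed (baseChangeRep ρ K) U E hUE hUn hfpf hAK
  have hT : (Nat.card (⊤ : Subgroup A) : k) ≠ 0 := by
    rw [Subgroup.card_top]; exact hA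
  rw [finrank_fix_baseChange ρ K ⊤ hT, finrank_fix_baseChange ρ K E (card_sub_ne_zero hA E),
    finrank_fix_baseChange ρ K U (card_sub_ne_zero hA U), Module.finrank_baseChange] at h
  exact h

end BaseChange

end Cfsg.Agent.Helper5.FrobMod
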