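import Mathlib
import Cfsg.Agent.Helper5.FrobModE

/-!
# Frobenius-module machinery, part F: counting form for elementary abelian groups
-/

set_option autoImplicit false

namespace Cfsg.Agent.Helper5.FrobMod

open Module

/-- an action by endomorphisms as a `ZMod q`-representation -/
noncomputable def endRep {G V : Type*} [Group G] [CommGroup V] (q : ℕ) [Module (ZMod q) (Additive V)]
    (φ : G →* Monoid.End V) : Representation (ZMod q) G (Additive V) where
  toFun g := (MonoidHom.toAdditive (φ g : V →* V)).toZModLinearMap q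
  map_one' := by
    ext x
    rw [map_one]
    rfl
  map_mul' a b := by
    ext x
    rw [map_mul]
    rfl

theorem endRep_apply {G V : Type*} [Group G] [CommGroup V] (q : ℕ) [Module (ZMod q) (Additive V)]
    (φ : G →* Monoid.End V) (g : G) (v : V) :
    endRep q φ g (Additive.ofMul v) = Additive.ofMul (φ g v) := rfl

/-- Frobenius action formula on an elementary abelian `q`-group `V` (abstract action by endomorphisms). -/
theorem card_formula_aux {G V : Type*} [Group G] [Finite G] [CommGroup V] [Finite V]
    (U E : Subgroup G) (hUE : U ⊔ E = ⊤) (hUn : ∀ e ∈ E, ∀ u ∈ U, e * u * e⁻¹ ∈ U)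
    (hfpf : ∀ e ∈ E, e ≠ 1 → ∀ u ∈ U, e * u = u * e → u = 1)
    (q : ℕ) [hq : Fact q.Prime] [Module (ZMod q) (Additive V)]
    (φ : G →* Monoid.End V) (hcop : ¬ q ∣ Nat.card G) :
    Nat.card {v : V // ∀ g : G, φ g v = v} ^ Nat.card E * Nat.card V
      = Nat.card {v : V // ∀ g ∈ E, φ g v = v} ^ Nat.card E
        * Nat.card {v : V // ∀ g ∈ U, φ g v = v} := by
  classical
  haveI : Finite (Additive V) := ‹Finite V›
  haveI : Module.Finite (ZMod q) (Additive V) := Module.Finite.of_finite
  set ρ : Representation (ZMod q) G (Additive V) := endRep q φ with hρdef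
  have hρ : ∀ (g : G) (v : V), ρ g (Additive.ofMul v) = Additive.ofMul (φ g v) := fun g v => rfl
  have hA : (Nat.card G : ZMod q) ≠ 0 := by
    rw [Ne, ZMod.natCast_eq_zero_iff]
    exact hcop
  have h := frobenius_formula ρ U E hUE hUn hfpf hA
  -- cardinalities
  have hcard : ∀ (B : Subgroup G),
      Nat.card {v : V // ∀ g ∈ B, φ g v = v} = q ^ finrank (ZMod q) (fixOf ρ B) := by
    intro B
    haveI : Fintype (fixOf ρ B) := Fintype.ofFinite _
    have h1 : Nat.card (fixOf ρ B) = q ^ finrank (ZMod q) (fixOf ρ B) := by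
      rw [Nat.card_eq_fintype_card, Module.card_eq_pow_finrank (K := ZMod q), ZMod.card]
    rw [← h1]
    refine Nat.card_congr ?_
    exact
      { toFun := fun v => ⟨Additive.ofMul v.1, fun g hg => by
          rw [hρ, v.2 g hg]⟩
        invFun := fun x => ⟨Additive.toMul x.1, fun g hg => by
          have := x.2 g hg
          exact congrArg Additive.toMul this⟩
        left_inv := fun v => rfl
        right_inv := fun x => rfl }
  have hcardT : Nat.card {v : V // ∀ g : G, φ g v = v}
      = q ^ finrank (ZMod q) (fixOf ρ (⊤ : Subgroup G)) := by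
    rw [← hcard ⊤]
    refine Nat.card_congr ?_
    exact
      { toFun := fun v => ⟨v.1, fun g _ => v.2 g⟩
        invFun := fun v => ⟨v.1, fun g => v.2 g (Subgroup.mem_top g)⟩
        left_inv := fun v => rfl
        right_inv := fun v => rfl }
  have hcardV : Nat.card V = q ^ finrank (ZMod q) (Additive V) := by
    haveI : Fintype (Additive V) := Fintype.ofFinite _
    have : Nat.card (Additive V) = q ^ finrank (ZMod q) (Additive V) := by
      rw [Nat.card_eq_fintype_card, Module.card_eq_pow_finrank (K := ZMod q), ZMod.card]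
    rw [← this]
    exact Nat.card_congr Additive.ofMul
  rw [hcardT, hcard E, hcard U, hcardV, ← pow_mul, ← pow_mul, ← pow_add, ← pow_add]
  congr 1
  rw [mul_comm _ (Nat.card E), mul_comm _ (Nat.card E)]
  exact h

/-- Frobenius action formula on an elementary abelian `q`-group `V` (abstract action by endomorphisms). -/
theorem card_formula_of_elementary {G V : Type*} [Group G] [Finite G] [CommGroup V] [Finite V]
    (U E : Subgroup G) (hUE : U ⊔ E = ⊤) (hUn : ∀ e ∈ E, ∀ u ∈ U, e * u * e⁻¹ ∈ U)
    (hfpf : ∀ e ∈ E, e ≠ 1 → ∀ u ∈ U, e * u = u * e → u = 1)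
    (q : ℕ) [hq : Fact q.Prime] (hexp : ∀ v : V, v ^ q = 1)
    (φ : G →* Monoid.End V) (hcop : ¬ q ∣ Nat.card G) :
    Nat.card {v : V // ∀ g : G, φ g v = v} ^ Nat.card E * Nat.card V
      = Nat.card {v : V // ∀ g ∈ E, φ g v = v} ^ Nat.card E
        * Nat.card {v : V // ∀ g ∈ U, φ g v = v} := by
  letI : Module (ZMod q) (Additive V) := AddCommGroup.zmodModule (n := q) (fun x => by
    induction x using Additive.rec with
    | ofMul v => rw [← ofMul_pow, hexp]; rfl)
  exact card_formula_aux U E hUE hUn hfpf q φ hcop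

end Cfsg.Agent.Helper5.FrobMod
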