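import Mathlib
import Cfsg.Agent.Helper5.FrobModF
import Cfsg.Agent.Helper10.CosetFixed

/-!
# Frobenius-module machinery, part G: sections `H/N` with conjugation action, coprime fixed points
-/

set_option autoImplicit false

namespace Cfsg.Agent.Helper5.FrobMod

open Subgroup

variable {X : Type*} [Group X]

/-- conjugation by `a` on `↥H` -/
def conjHom (H : Subgroup X) (a : X) (haH : ∀ h ∈ H, a * h * a⁻¹ ∈ H) : ↥H →* ↥H where
  toFun h := ⟨a * h * a⁻¹, haH h h.2⟩
  map_one' := by apply Subtype.ext; simp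
  map_mul' x y := by apply Subtype.ext; simp

@[simp] theorem conjHom_apply (H : Subgroup X) (a : X) (haH : ∀ h ∈ H, a * h * a⁻¹ ∈ H) (h : H) :
    ((conjHom H a haH h : H) : X) = a * h * a⁻¹ := rfl

/-- conjugation on the section `H/N` -/
def conjQuotHom (H N : Subgroup X) [(N.subgroupOf H).Normal] (a : X) (haH : ∀ h ∈ H, a * h * a⁻¹ ∈ H)
    (haN : ∀ n ∈ N, a * n * a⁻¹ ∈ N) : (↥H ⧸ N.subgroupOf H) →* (↥H ⧸ N.subgroupOf H) :=
  QuotientGroup.map (N.subgroupOf H) (N.subgroupOf H) (conjHom H a haH) (by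
    intro h hh
    rw [Subgroup.mem_comap, Subgroup.mem_subgroupOf]
    exact haN _ (Subgroup.mem_subgroupOf.mp hh))

theorem conjQuotHom_mk (H N : Subgroup X) [(N.subgroupOf H).Normal] (a : X)
    (haH : ∀ h ∈ H, a * h * a⁻¹ ∈ H) (haN : ∀ n ∈ N, a * n * a⁻¹ ∈ N) (h : H) :
    conjQuotHom H N a haH haN (QuotientGroup.mk h) = QuotientGroup.mk (conjHom H a haH h) := rfl

/-- conjugation action of `A` on the section `H/N` -/
def conjQuot (A H N : Subgroup X) (hAH : ∀ a ∈ A, ∀ h ∈ H, a * h * a⁻¹ ∈ H)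
    (hAN : ∀ a ∈ A, ∀ n ∈ N, a * n * a⁻¹ ∈ N) [(N.subgroupOf H).Normal] :
    ↥A →* Monoid.End (↥H ⧸ N.subgroupOf H) where
  toFun a := conjQuotHom H N (a : X) (hAH a a.2) (hAN a a.2)
  map_one' := by
    refine MonoidHom.ext fun x => ?_
    induction x using QuotientGroup.induction_on with
    | H h =>
      rw [conjQuotHom_mk]
      show _ = QuotientGroup.mk h
      congr 1
      apply Subtype.ext
      simp
  map_mul' a b := by
    refine MonoidHom.ext fun x => ?_
    induction x using QuotientGroup.induction_on with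
    | H h =>
      show conjQuotHom H N ((a * b : A) : X) (hAH _ (a * b).2) (hAN _ (a * b).2) (QuotientGroup.mk h)
        = conjQuotHom H N (a : X) (hAH a a.2) (hAN a a.2)
          (conjQuotHom H N (b : X) (hAH b b.2) (hAN b b.2) (QuotientGroup.mk h))
      rw [conjQuotHom_mk, conjQuotHom_mk, conjQuotHom_mk]
      congr 1
      apply Subtype.ext
      simp [mul_assoc]

theorem conjQuot_mk (A H N : Subgroup X) (hAH : ∀ a ∈ A, ∀ h ∈ H, a * h * a⁻¹ ∈ H)
    (hAN : ∀ a ∈ A, ∀ n ∈ N, a * n * a⁻¹ ∈ N) [(N.subgroupOf H).Normal] (a : A) (h : H) :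
    conjQuot A H N hAH hAN a (QuotientGroup.mk h)
      = QuotientGroup.mk (conjHom H (a : X) (hAH a a.2) h) := rfl

theorem card_map_mul_card_ker_inf {G0 V : Type*} [Group G0] [Group V] [Finite G0] (π : G0 →* V)
    (C : Subgroup G0) : Nat.card (C.map π) * Nat.card ↥(π.ker ⊓ C) = Nat.card C := by
  let f : C →* V := π.comp C.subtype
  have hrange : f.range = C.map π := by
    rw [MonoidHom.range_comp, Subgroup.range_subtype]
  have hker : Nat.card f.ker = Nat.card ↥(π.ker ⊓ C) := by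
    have : f.ker = (π.ker ⊓ C).subgroupOf C := by
      ext x
      simp [f, MonoidHom.mem_ker, Subgroup.mem_subgroupOf]
    rw [this]
    exact Nat.card_congr (Subgroup.subgroupOfEquivOfLe inf_le_right).toEquiv
  have h1 := Subgroup.card_eq_card_quotient_mul_card_subgroup f.ker
  have h2 : Nat.card (C ⧸ f.ker) = Nat.card f.range :=
    Nat.card_congr (QuotientGroup.quotientKerEquivRange f).toEquiv
  rw [h2, hrange, hker] at h1
  exact h1.symm

/-- coprime action: fixed points on a section are covered by fixed points -/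
theorem card_fix_section [Finite X] (B A H N : Subgroup X) (hBA : B ≤ A)
    (hAH : ∀ a ∈ A, ∀ h ∈ H, a * h * a⁻¹ ∈ H) (hAN : ∀ a ∈ A, ∀ n ∈ N, a * n * a⁻¹ ∈ N)
    (hNH : N ≤ H) [hnorm : (N.subgroupOf H).Normal]
    (hcop : (Nat.card B).Coprime (Nat.card N)) (hsolv : Group.IsSolvable N) :
    Nat.card {v : ↥H ⧸ N.subgroupOf H // ∀ g ∈ B.subgroupOf A, conjQuot A H N hAH hAN g v = v}
      * Nat.card ↥(N ⊓ centralizer (B : Set X)) = Nat.card ↥(H ⊓ centralizer (B : Set X)) := by
  classical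
  set φ := conjQuot A H N hAH hAN with hφ
  let π : ↥H →* ↥H ⧸ N.subgroupOf H := QuotientGroup.mk' (N.subgroupOf H)
  let C : Subgroup ↥H := (H ⊓ centralizer (B : Set X)).subgroupOf H
  -- the subgroup of fixed points
  let F : Subgroup (↥H ⧸ N.subgroupOf H) :=
    { carrier := {v | ∀ g ∈ B.subgroupOf A, φ g v = v}
      one_mem' := fun g _ => map_one (φ g : (↥H ⧸ N.subgroupOf H) →* (↥H ⧸ N.subgroupOf H))
      mul_mem' := fun {x y} hx hy g hg => by
        rw [map_mul (φ g : (↥H ⧸ N.subgroupOf H) →* (↥H ⧸ N.subgroupOf H)), hx g hg, hy g hg]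
      inv_mem' := fun {x} hx g hg => by
        rw [map_inv (φ g : (↥H ⧸ N.subgroupOf H) →* (↥H ⧸ N.subgroupOf H)), hx g hg] }
  have hHN : H ≤ normalizer (N : Set X) :=
    (Subgroup.normal_subgroupOf_iff_le_normalizer hNH).mp hnorm
  have hBN : B ≤ normalizer (N : Set X) := by
    intro b hb
    rw [Subgroup.mem_normalizer_iff]
    intro n
    constructor
    · exact hAN b (hBA hb) n
    · intro h
      have := hAN b⁻¹ (A.inv_mem (hBA hb)) _ h
      simpa [mul_assoc] using this
  have hFC : (F : Set (↥H ⧸ N.subgroupOf H)) = (C.map π : Set (↥H ⧸ N.subgroupOf H)) := by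
    ext v
    constructor
    · intro hv
      obtain ⟨k0, rfl⟩ := QuotientGroup.mk_surjective v
      let K : Subgroup X := (F.comap π).map H.subtype
      have hKH : K ≤ H := by
        rintro _ ⟨k, _, rfl⟩; exact k.2
      have hNK : N ≤ K := by
        intro n hn
        refine ⟨⟨n, hNH hn⟩, ?_, rfl⟩
        show π ⟨n, hNH hn⟩ ∈ F
        have : π ⟨n, hNH hn⟩ = 1 := by
          rw [QuotientGroup.mk'_apply, QuotientGroup.eq_one_iff, Subgroup.mem_subgroupOf]
          exact hn
        rw [this]; exact F.one_mem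
      have hfix : ∀ b ∈ B, ∀ k ∈ K, b * k * b⁻¹ * k⁻¹ ∈ N := by
        rintro b hb _ ⟨k, hk, rfl⟩
        have h1 : φ ⟨b, hBA hb⟩ (π k) = π k := hk ⟨b, hBA hb⟩ (by
          rw [Subgroup.mem_subgroupOf]; exact hb)
        rw [hφ, QuotientGroup.mk'_apply, conjQuot_mk, QuotientGroup.eq_iff_div_mem,
          Subgroup.mem_subgroupOf] at h1
        simpa [div_eq_mul_inv] using h1
      have hk0 : (k0 : X) ∈ K := ⟨k0, hv, rfl⟩
      obtain ⟨c, hc, hcN⟩ := Cfsg.Agent.Helper10.exists_centralizing_in_coset hNK (hKH.trans hHN) hBN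
        hcop (Or.inr hsolv) hfix hk0
      have hcH : c ∈ H := hKH hc.1
      refine ⟨⟨c, hcH⟩, ?_, ?_⟩
      · show (⟨c, hcH⟩ : H) ∈ (H ⊓ centralizer (B : Set X)).subgroupOf H
        rw [Subgroup.mem_subgroupOf]
        exact ⟨hcH, hc.2⟩
      · show (QuotientGroup.mk (⟨c, hcH⟩ : H) : ↥H ⧸ N.subgroupOf H) = QuotientGroup.mk k0
        rw [eq_comm, QuotientGroup.eq, Subgroup.mem_subgroupOf]
        simpa using hcN
    · rintro ⟨c, hc, rfl⟩ g hg
      have hcC : (c : X) ∈ centralizer (B : Set X) := (Subgroup.mem_subgroupOf.mp hc).2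
      show φ g (QuotientGroup.mk c) = QuotientGroup.mk c
      rw [hφ, conjQuot_mk]
      congr 1
      apply Subtype.ext
      rw [conjHom_apply]
      have hgB : (g : X) ∈ B := Subgroup.mem_subgroupOf.mp hg
      have := hcC (g : X) hgB
      rw [this, mul_inv_cancel_right]
  have h1 : Nat.card {v : ↥H ⧸ N.subgroupOf H // ∀ g ∈ B.subgroupOf A, φ g v = v}
      = Nat.card (C.map π) := by
    have : {v : ↥H ⧸ N.subgroupOf H | ∀ g ∈ B.subgroupOf A, φ g v = v}
        = (C.map π : Set (↥H ⧸ N.subgroupOf H)) := hFC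
    exact Nat.card_congr (Equiv.setCongr this)
  have h2 := card_map_mul_card_ker_inf π C
  have h3 : Nat.card ↥(π.ker ⊓ C) = Nat.card ↥(N ⊓ centralizer (B : Set X)) := by
    have : π.ker ⊓ C = (N ⊓ centralizer (B : Set X)).subgroupOf H := by
      rw [QuotientGroup.ker_mk']
      ext x
      simp only [Subgroup.mem_inf, Subgroup.mem_subgroupOf, C]
      constructor
      · rintro ⟨h1, _, h3⟩; exact ⟨h1, h3⟩
      · rintro ⟨h1, h3⟩; exact ⟨h1, x.2, h3⟩
    rw [this]
    exact Nat.card_congr (Subgroup.subgroupOfEquivOfLe (inf_le_left.trans hNH)).toEquiv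
  have h4 : Nat.card C = Nat.card ↥(H ⊓ centralizer (B : Set X)) :=
    Nat.card_congr (Subgroup.subgroupOfEquivOfLe inf_le_left).toEquiv
  rw [h1, ← h3, ← h4]
  exact h2

end Cfsg.Agent.Helper5.FrobMod
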