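import Mathlib
import Cfsg.Agent.Helper5.FrobModG

/-!
# Frobenius-module machinery, part H: the fixed-point formula for solvable `H`
-/

set_option autoImplicit false

namespace Cfsg.Agent.Helper5.FrobMod

open Subgroup

variable {X : Type*} [Group X] [Finite X]

/-- a nontrivial solvable subgroup has a proper "characteristic" subgroup with elementary abelian quotient -/
theorem exists_elementary_quotient (H : Subgroup X) (hH : H ≠ ⊥) (hsolv : Group.IsSolvable H) :
    ∃ q : ℕ, q.Prime ∧ q ∣ Nat.card H ∧ ∃ N : Subgroup X, N ≤ H ∧ N ≠ H ∧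
      (∀ a : X, (∀ h ∈ H, a * h * a⁻¹ ∈ H) → ∀ n ∈ N, a * n * a⁻¹ ∈ N) ∧
      (∀ h1 ∈ H, ∀ h2 ∈ H, h1 * h2 * h1⁻¹ * h2⁻¹ ∈ N) ∧ (∀ h ∈ H, h ^ q ∈ N) := by
  classical
  haveI : Nontrivial H := (Subgroup.nontrivial_iff_ne_bot H).mpr hH
  have hcomm : _root_.commutator H < ⊤ := Group.IsSolvable.commutator_lt_top_of_nontrivial H
  -- the abelianization is nontrivial
  have hcard : Nat.card (Abelianization H) ≠ 1 := by
    intro h1
    have : Nat.card (H ⧸ _root_.commutator H) = 1 := h1
    rw [← Subgroup.index_eq_card, Subgroup.index_eq_one] at this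
    exact hcomm.ne this
  obtain ⟨q, hq, hqdvd⟩ := Nat.exists_prime_and_dvd hcard
  haveI : Fact q.Prime := ⟨hq⟩
  obtain ⟨x, hx⟩ := exists_prime_orderOf_dvd_card' q hqdvd
  let g : Abelianization H →* Abelianization H := powMonoidHom q
  have hgninj : ¬ Function.Injective g := by
    intro hinj
    have h1 : g x = g 1 := by
      simp only [g, powMonoidHom_apply, one_pow]
      rw [← hx]; exact pow_orderOf_eq_one x
    have : x = 1 := hinj h1
    rw [this, orderOf_one] at hx
    exact hq.one_lt.ne hx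
  have hgnsurj : ¬ Function.Surjective g := fun hs => hgninj (Finite.injective_iff_surjective.mpr hs)
  have hR : g.range ≠ ⊤ := fun h => hgnsurj (MonoidHom.range_eq_top.mp h)
  have hqH : q ∣ Nat.card H := by
    refine hqdvd.trans ?_
    show Nat.card (H ⧸ _root_.commutator H) ∣ Nat.card H
    exact Subgroup.card_quotient_dvd_card _
  let P : Subgroup X := Subgroup.closure {x | ∃ h ∈ H, h ^ q = x}
  let N : Subgroup X := ⁅H, H⁆ ⊔ P
  have hDH : ⁅H, H⁆ ≤ H := by
    rw [Subgroup.commutator_le]
    intro a ha b hb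
    exact H.mul_mem (H.mul_mem (H.mul_mem ha hb) (H.inv_mem ha)) (H.inv_mem hb)
  have hPH : P ≤ H := by
    rw [Subgroup.closure_le]
    rintro _ ⟨h, hh, rfl⟩
    exact H.pow_mem hh q
  have hNH : N ≤ H := sup_le hDH hPH
  refine ⟨q, hq, hqH, N, hNH, ?_, ?_, ?_, ?_⟩
  · -- N ≠ H
    intro hNeq
    -- the subgroup of elements of H mapping into the range of g
    let S : Subgroup X := (g.range.comap (Abelianization.of : H →* Abelianization H)).map H.subtype
    have hDS : ⁅H, H⁆ ≤ S := by
      intro x hx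
      rw [← Subgroup.map_subtype_commutator] at hx
      obtain ⟨y, hy, rfl⟩ := hx
      refine ⟨y, ?_, rfl⟩
      show Abelianization.of y ∈ g.range
      have : Abelianization.of y = 1 := by
        rw [← MonoidHom.mem_ker, Abelianization.ker_of]; exact hy
      rw [this]; exact g.range.one_mem
    have hPS : P ≤ S := by
      rw [Subgroup.closure_le]
      rintro _ ⟨h, hh, rfl⟩
      refine ⟨⟨h, hh⟩ ^ q, ?_, rfl⟩
      show Abelianization.of (⟨h, hh⟩ ^ q) ∈ g.range
      exact ⟨Abelianization.of ⟨h, hh⟩, by simp only [g, powMonoidHom_apply]; rw [← map_pow]⟩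
    have hHS : H ≤ S := by rw [← hNeq]; exact sup_le hDS hPS
    apply hR
    rw [eq_top_iff]
    intro y _
    obtain ⟨h, rfl⟩ : ∃ h : H, Abelianization.of h = y := QuotientGroup.mk_surjective y
    obtain ⟨h', hh', hhh'⟩ := hHS h.2
    have : h' = h := Subtype.ext hhh'
    rw [← this]; exact hh'
  · -- invariance
    intro a ha n hn
    let c : X →* X := (MulAut.conj a).toMonoidHom
    have hmapH : H.map c ≤ H := by
      rintro _ ⟨h, hh, rfl⟩
      exact ha h hh
    have h1 : (⁅H, H⁆).map c ≤ ⁅H, H⁆ := by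
      rw [Subgroup.map_commutator]
      exact Subgroup.commutator_mono hmapH hmapH
    have h2 : P.map c ≤ P := by
      rw [MonoidHom.map_closure, Subgroup.closure_le]
      rintro _ ⟨_, ⟨h, hh, rfl⟩, rfl⟩
      apply Subgroup.subset_closure
      refine ⟨a * h * a⁻¹, ha h hh, ?_⟩
      simp [c, conj_pow]
    have h3 : N.map c ≤ N := by
      rw [Subgroup.map_sup]
      exact sup_le_sup h1 h2
    exact h3 ⟨n, hn, rfl⟩
  · intro h1 hh1 h2 hh2
    exact (le_sup_left : ⁅H, H⁆ ≤ N) (Subgroup.commutator_mem_commutator hh1 hh2)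
  · intro h hh
    exact (le_sup_right : P ≤ N) (Subgroup.subset_closure ⟨h, hh, rfl⟩)

/-- The Frobenius-action fixed point formula. -/
theorem frobenius_fixed_point_formula (U E : Subgroup X)
    (hUn : ∀ e ∈ E, ∀ u ∈ U, e * u * e⁻¹ ∈ U)
    (hfpf : ∀ e ∈ E, e ≠ 1 → ∀ u ∈ U, e * u = u * e → u = 1) :
    ∀ H : Subgroup X, (∀ x ∈ U ⊔ E, ∀ h ∈ H, x * h * x⁻¹ ∈ H) → Group.IsSolvable H →
      Nat.Coprime (Nat.card H) (Nat.card ↥(U ⊔ E)) →
      Nat.card ↥(H ⊓ centralizer ((U ⊔ E : Subgroup X) : Set X)) ^ Nat.card E * Nat.card H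
        = Nat.card ↥(H ⊓ centralizer (E : Set X)) ^ Nat.card E
          * Nat.card ↥(H ⊓ centralizer (U : Set X)) := by
  classical
  set A : Subgroup X := U ⊔ E with hA
  -- data in the group ↥A
  let U' : Subgroup A := U.subgroupOf A
  let E' : Subgroup A := E.subgroupOf A
  have hUA : U ≤ A := le_sup_left
  have hEA : E ≤ A := le_sup_right
  have hUE' : U' ⊔ E' = ⊤ := by
    rw [← Subgroup.subgroupOf_sup hUA hEA, Subgroup.subgroupOf_self]
  have hUn' : ∀ e ∈ E', ∀ u ∈ U', e * u * e⁻¹ ∈ U' := by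
    intro e he u hu
    rw [Subgroup.mem_subgroupOf] at he hu ⊢
    simpa using hUn _ he _ hu
  have hfpf' : ∀ e ∈ E', e ≠ 1 → ∀ u ∈ U', e * u = u * e → u = 1 := by
    intro e he he1 u hu hcomm
    rw [Subgroup.mem_subgroupOf] at he hu
    apply Subtype.ext
    refine hfpf _ he (fun h => he1 (Subtype.ext h)) _ hu ?_
    have := congrArg Subtype.val hcomm
    simpa using this
  have hcardE : Nat.card E' = Nat.card E :=
    Nat.card_congr (Subgroup.subgroupOfEquivOfLe hEA).toEquiv
  have main : ∀ n : ℕ, ∀ H : Subgroup X, Nat.card H = n → (∀ x ∈ A, ∀ h ∈ H, x * h * x⁻¹ ∈ H) →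
      Group.IsSolvable H → Nat.Coprime (Nat.card H) (Nat.card A) →
      Nat.card ↥(H ⊓ centralizer (A : Set X)) ^ Nat.card E * Nat.card H
        = Nat.card ↥(H ⊓ centralizer (E : Set X)) ^ Nat.card E
          * Nat.card ↥(H ⊓ centralizer (U : Set X)) := by
    intro n
    induction n using Nat.strong_induction_on with
    | _ n IH =>
    intro H hHn hAH hsolv hcop
    by_cases hH : H = ⊥
    · subst hH
      simp
    obtain ⟨q, hq, hqH, N, hNH, hNne, hNinv, hNcomm, hNpow⟩ := exists_elementary_quotient H hH hsolv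
    haveI : Fact q.Prime := ⟨hq⟩
    have hAN : ∀ a ∈ A, ∀ n ∈ N, a * n * a⁻¹ ∈ N := fun a ha => hNinv a (hAH a ha)
    have hHNn : ∀ h ∈ H, ∀ n ∈ N, h * n * h⁻¹ ∈ N := fun h hh =>
      hNinv h (fun h' hh' => H.mul_mem (H.mul_mem hh hh') (H.inv_mem hh))
    haveI hnorm : (N.subgroupOf H).Normal := by
      refine ⟨fun n hn g => ?_⟩
      rw [Subgroup.mem_subgroupOf] at hn ⊢
      simpa using hHNn g g.2 n hn
    have hNsolv : Group.IsSolvable N :=
      Group.isSolvable_of_isSolvable_injective (Subgroup.inclusion_injective hNH)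
    have hNcop : Nat.Coprime (Nat.card N) (Nat.card A) :=
      Nat.Coprime.coprime_dvd_left (Subgroup.card_dvd_of_le hNH) hcop
    have hNlt : Nat.card N < n := by
      rw [← hHn]
      exact lt_of_le_of_ne (Subgroup.card_le_of_le hNH)
        (fun h => hNne (Subgroup.eq_of_le_of_card_ge hNH h.ge))
    have IHN := IH _ hNlt N rfl hAN hNsolv hNcop
    -- the quotient
    letI : CommGroup (↥H ⧸ N.subgroupOf H) :=
      { (inferInstance : Group (↥H ⧸ N.subgroupOf H)) with
        mul_comm := fun a b => by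
          induction a using QuotientGroup.induction_on with
          | H a =>
          induction b using QuotientGroup.induction_on with
          | H b =>
          rw [← QuotientGroup.mk_mul, ← QuotientGroup.mk_mul, QuotientGroup.eq, Subgroup.mem_subgroupOf]
          have := hNcomm _ (H.inv_mem b.2) _ (H.inv_mem a.2)
          simpa [mul_assoc] using this }
    have hexp : ∀ v : ↥H ⧸ N.subgroupOf H, v ^ q = 1 := by
      intro v
      induction v using QuotientGroup.induction_on with
      | H h =>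
      rw [← QuotientGroup.mk_pow, QuotientGroup.eq_one_iff, Subgroup.mem_subgroupOf]
      simpa using hNpow h h.2
    have hqA : ¬ q ∣ Nat.card A := by
      intro hdvd
      have := Nat.dvd_gcd hqH hdvd
      rw [hcop] at this
      exact hq.one_lt.ne' (Nat.dvd_one.mp this)
    have hG := card_formula_of_elementary U' E' hUE' hUn' hfpf' q hexp
      (conjQuot A H N hAH hAN) hqA
    -- fixed points on the section
    have hcopB : ∀ B : Subgroup X, B ≤ A → (Nat.card B).Coprime (Nat.card N) := fun B hB =>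
      (Nat.Coprime.coprime_dvd_left (Subgroup.card_dvd_of_le hB) hNcop.symm)
    have hfA := card_fix_section A A H N le_rfl hAH hAN hNH (hcopB A le_rfl) hNsolv
    have hfE := card_fix_section E A H N hEA hAH hAN hNH (hcopB E hEA) hNsolv
    have hfU := card_fix_section U A H N hUA hAH hAN hNH (hcopB U hUA) hNsolv
    have hfA' : Nat.card {v : ↥H ⧸ N.subgroupOf H // ∀ g : A, conjQuot A H N hAH hAN g v = v}
        = Nat.card {v : ↥H ⧸ N.subgroupOf H // ∀ g ∈ A.subgroupOf A, conjQuot A H N hAH hAN g v = v} := by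
      refine Nat.card_congr (Equiv.subtypeEquivRight fun v => ?_)
      rw [Subgroup.subgroupOf_self]
      simp
    have hV : Nat.card (↥H ⧸ N.subgroupOf H) * Nat.card N = Nat.card H := by
      have h1 := Subgroup.card_eq_card_quotient_mul_card_subgroup (N.subgroupOf H)
      have h2 : Nat.card (N.subgroupOf H) = Nat.card N :=
        Nat.card_congr (Subgroup.subgroupOfEquivOfLe hNH).toEquiv
      rw [h2] at h1
      exact h1.symm
    rw [hfA', hcardE] at hG
    rw [← hfA, ← hfE, ← hfU, ← hV, mul_pow, mul_pow]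
    calc _ = (Nat.card {v : ↥H ⧸ N.subgroupOf H // ∀ g ∈ A.subgroupOf A, conjQuot A H N hAH hAN g v = v}
              ^ Nat.card E * Nat.card (↥H ⧸ N.subgroupOf H))
            * (Nat.card ↥(N ⊓ centralizer (A : Set X)) ^ Nat.card E * Nat.card N) := by ring
      _ = _ := by rw [hG, IHN]; ring
  intro H hHn hsolv hcop
  exact main _ H rfl hHn hsolv hcop

end Cfsg.Agent.Helper5.FrobMod
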