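import Mathlib
import Cfsg.Agent.Helper5.FrobModE

/-!
# Frobenius-module machinery, part I: one-dimensional fixed space of the complement

`commutator_trivial`: if `dim C_M(E) ≤ 1` then all commutators of elements of `U` act trivially on `M`.
-/

set_option autoImplicit false

namespace Cfsg.Agent.Helper5.FrobMod

open Module TensorProduct

section AlgClosed

variable {K : Type*} [Field K] {M : Type*} [AddCommGroup M] [Module K M]
variable {A : Type*} [Group A] (ρ : Representation K A M)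

/-- existence of a simple `U`-invariant subspace -/
theorem exists_simple_sub [FiniteDimensional K M] (U : Subgroup A) (N : Submodule K M) (hN0 : N ≠ ⊥)
    (hNinv : Inv ρ U N) :
    ∃ X : Submodule K M, X ≤ N ∧ X ≠ ⊥ ∧ Inv ρ U X ∧
      ∀ Y : Submodule K M, Y ≤ X → Inv ρ U Y → Y = ⊥ ∨ Y = X := by
  classical
  have hex : ∃ d : ℕ, ∃ Y : Submodule K M, (Y ≤ N ∧ Y ≠ ⊥ ∧ Inv ρ U Y) ∧ finrank K Y = d :=
    ⟨_, N, ⟨le_rfl, hN0, hNinv⟩, rfl⟩
  obtain ⟨X, ⟨hXN, hXne, hXinv⟩, hXd⟩ := Nat.find_spec hex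
  refine ⟨X, hXN, hXne, hXinv, ?_⟩
  intro Y hYX hYinv
  by_cases hY0 : Y = ⊥
  · exact Or.inl hY0
  · right
    have hle : Nat.find hex ≤ finrank K Y :=
      Nat.find_min' hex ⟨Y, ⟨hYX.trans hXN, hY0, hYinv⟩, rfl⟩
    exact Submodule.eq_of_le_of_finrank_le hYX (hXd ▸ hle)

theorem rho_shift (E : Subgroup A) [Fintype E] (X : Submodule K M) (g : E) (f : E → X) :
    ρ (g : A) (sumMap ρ E X f) = sumMap ρ E X (fun h => f (g⁻¹ * h)) := by
  rw [sumMap_apply, sumMap_apply, map_sum]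
  rw [← Equiv.sum_comp (Equiv.mulLeft g) (fun h => ρ (h : A) ((f (g⁻¹ * h) : X) : M))]
  refine Finset.sum_congr rfl fun h _ => ?_
  simp only [Equiv.coe_mulLeft, inv_mul_cancel_left]
  rw [← Module.End.mul_apply, ← map_mul]
  rfl

/-- dimension of the `E`-fixed part of the span of the translates -/
theorem finrank_range_sumMap_inf_fix [FiniteDimensional K M] (E : Subgroup A) [Fintype E] (X : Submodule K M)
    (hinj : Function.Injective (sumMap ρ E X)) :
    finrank K (LinearMap.range (sumMap ρ E X) ⊓ fixOf ρ E : Submodule K M) = finrank K X := by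
  let Δ : X →ₗ[K] M := sumMap ρ E X ∘ₗ LinearMap.pi (fun _ => LinearMap.id)
  have hΔinj : Function.Injective Δ := by
    intro x y hxy
    have := hinj hxy
    have := congrFun this 1
    simpa using this
  have hfix : LinearMap.range (sumMap ρ E X) ⊓ fixOf ρ E = LinearMap.range Δ := by
    apply le_antisymm
    · rintro v ⟨⟨f, rfl⟩, hfix⟩
      have hconst : ∀ h, f h = f 1 := by
        intro h
        have h1 := hfix _ (h⁻¹).2
        rw [rho_shift] at h1
        have := congrFun (hinj h1) 1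
        simp only [inv_inv, mul_one] at this
        exact this
      refine ⟨f 1, ?_⟩
      show sumMap ρ E X (fun _ => f 1) = sumMap ρ E X f
      congr 1
      funext h
      exact (hconst h).symm
    · rintro _ ⟨x, rfl⟩
      refine ⟨⟨_, rfl⟩, fun g hg => ?_⟩
      show ρ g (sumMap ρ E X (fun _ => x)) = sumMap ρ E X (fun _ => x)
      exact rho_shift ρ E X ⟨g, hg⟩ _
  rw [hfix, LinearMap.finrank_range_of_inj hΔinj]

theorem commutator_trivial_algClosed [IsAlgClosed K] [FiniteDimensional K M] [Finite A]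
    (U E : Subgroup A) (hUE : U ⊔ E = ⊤) (hUn : ∀ e ∈ E, ∀ u ∈ U, e * u * e⁻¹ ∈ U)
    (hfpf : ∀ e ∈ E, e ≠ 1 → ∀ u ∈ U, e * u = u * e → u = 1)
    (hA : (Nat.card A : K) ≠ 0) (h1 : finrank K (fixOf ρ E) ≤ 1) :
    ∀ u1 ∈ U, ∀ u2 ∈ U, ∀ v : M, ρ (u1 * u2 * u1⁻¹ * u2⁻¹) v = v := by
  classical
  haveI : Fintype E := Fintype.ofFinite E
  have hUK := card_sub_ne_zero hA U
  have hFU : Inv ρ U (fixOf ρ U) := fun u hu v hv => by rw [hv u hu]; exact hv
  have hFE : Inv ρ E (fixOf ρ U) := by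
    intro e he v hv u hu
    have hmem : e⁻¹ * u * e ∈ U := by
      have := hUn _ (E.inv_mem he) u hu
      rwa [inv_inv] at this
    have := hv _ hmem
    calc ρ u (ρ e v) = ρ e (ρ (e⁻¹ * u * e) v) := by
          rw [← Module.End.mul_apply, ← map_mul, ← Module.End.mul_apply, ← map_mul]
          congr 2; group
      _ = ρ e v := by rw [this]
  have hFinv : Inv ρ ⊤ (fixOf ρ U) := inv_top_of_sup ρ hUE hFU hFE
  obtain ⟨N, hN, hNinv⟩ := exists_inv_compl' ρ hA (fixOf ρ U) hFinv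
  have hNfix : N ⊓ fixOf ρ U = ⊥ := by rw [inf_comm]; exact hN.inf_eq_bot
  -- it suffices to treat N
  suffices hNtriv : ∀ u1 ∈ U, ∀ u2 ∈ U, ∀ v ∈ N, ρ (u1 * u2 * u1⁻¹ * u2⁻¹) v = v by
    intro u1 hu1 u2 hu2 v
    have hv : v ∈ fixOf ρ U ⊔ N := by rw [hN.sup_eq_top]; trivial
    obtain ⟨v', hv', v'', hv'', rfl⟩ := Submodule.mem_sup.mp hv
    have hc : u1 * u2 * u1⁻¹ * u2⁻¹ ∈ U :=
      U.mul_mem (U.mul_mem (U.mul_mem hu1 hu2) (U.inv_mem hu1)) (U.inv_mem hu2)
    rw [map_add, hv' _ hc, hNtriv u1 hu1 u2 hu2 v'' hv'']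
  by_cases hN0 : N = ⊥
  · intro u1 _ u2 _ v hv
    rw [hN0, Submodule.mem_bot] at hv
    rw [hv, map_zero]
  have hNU : Inv ρ U N := inv_mono ρ le_top hNinv
  have hNE : Inv ρ E N := inv_mono ρ le_top hNinv
  obtain ⟨X, hXN, hXne, hXinv, hXsimple⟩ := exists_simple_sub ρ U N hN0 hNU
  have hXfix : X ⊓ fixOf ρ U = ⊥ := by
    rw [eq_bot_iff, ← hNfix]; exact inf_le_inf_right _ hXN
  have hinj := sumMap_injective ρ U E hUn hfpf hUK X hXinv hXne hXsimple hXfix
  have hN'N : LinearMap.range (sumMap ρ E X) ≤ N := by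
    rintro _ ⟨f, rfl⟩
    rw [sumMap_apply]
    exact N.sum_mem fun h _ => hNE _ h.2 _ (hXN (f h).2)
  have hdimfix := finrank_range_sumMap_inf_fix ρ E X hinj
  have hXdim : finrank K X = 1 := by
    have hle : finrank K X ≤ 1 := by
      rw [← hdimfix]
      exact (Submodule.finrank_mono inf_le_right).trans h1
    have hpos : 0 < finrank K X := by
      rw [Nat.pos_iff_ne_zero]
      intro h0
      exact hXne (Submodule.finrank_eq_zero.mp h0)
    omega
  have hdimN' : finrank K (LinearMap.range (sumMap ρ E X)) = Nat.card E := by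
    rw [LinearMap.finrank_range_of_inj hinj, Module.finrank_pi_fintype]
    simp [Nat.card_eq_fintype_card, hXdim]
  have hdimN := finrank_eq_of_fix_eq_bot ρ U E hUE hUn hfpf hA N hNinv hNfix
  have hNfixle : finrank K (N ⊓ fixOf ρ E : Submodule K M) ≤ 1 :=
    (Submodule.finrank_mono inf_le_right).trans h1
  have hNeq : LinearMap.range (sumMap ρ E X) = N := by
    apply Submodule.eq_of_le_of_finrank_le hN'N
    rw [hdimN', hdimN]
    calc Nat.card E * finrank K (N ⊓ fixOf ρ E : Submodule K M) ≤ Nat.card E * 1 :=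
          Nat.mul_le_mul_left _ hNfixle
      _ = Nat.card E := mul_one _
  -- scalar action on X
  obtain ⟨x0, hx0, hspan⟩ := (finrank_eq_one_iff' (K := K) (V := X)).mp hXdim
  have hscal : ∀ u ∈ U, ∃ c : K, ∀ x : X, ρ u (x : M) = c • (x : M) := by
    intro u hu
    obtain ⟨c, hc⟩ := hspan ⟨ρ u x0, hXinv u hu _ x0.2⟩
    refine ⟨c, fun x => ?_⟩
    obtain ⟨d, hd⟩ := hspan x
    rw [← hd]
    have hc' : ρ u (x0 : M) = c • (x0 : M) := (congrArg Subtype.val hc).symm
    simp only [Submodule.coe_smul, map_smul, hc']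
    rw [smul_comm]
  have hXtriv : ∀ u1 ∈ U, ∀ u2 ∈ U, ∀ x : X, ρ (u1 * u2 * u1⁻¹ * u2⁻¹) (x : M) = (x : M) := by
    intro u1 hu1 u2 hu2 x
    obtain ⟨c1, hc1⟩ := hscal u1 hu1
    obtain ⟨c2, hc2⟩ := hscal u2 hu2
    obtain ⟨d1, hd1⟩ := hscal u1⁻¹ (U.inv_mem hu1)
    obtain ⟨d2, hd2⟩ := hscal u2⁻¹ (U.inv_mem hu2)
    have e1 : d1 * c1 = 1 ∨ (x0 : M) = 0 := by
      have := rho_inv_apply ρ u1 (x0 : M)
      rw [hc1, map_smul, hd1, smul_smul] at this
      by_cases hx : (x0 : M) = 0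
      · exact Or.inr hx
      · left
        have h2 : (c1 * d1 - 1) • (x0 : M) = 0 := by rw [sub_smul, this, one_smul, sub_self]
        rcases smul_eq_zero.mp h2 with h | h
        · rw [mul_comm]; exact sub_eq_zero.mp h
        · exact absurd h hx
    have e2 : d2 * c2 = 1 ∨ (x0 : M) = 0 := by
      have := rho_inv_apply ρ u2 (x0 : M)
      rw [hc2, map_smul, hd2, smul_smul] at this
      by_cases hx : (x0 : M) = 0
      · exact Or.inr hx
      · left
        have h2 : (c2 * d2 - 1) • (x0 : M) = 0 := by rw [sub_smul, this, one_smul, sub_self]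
        rcases smul_eq_zero.mp h2 with h | h
        · rw [mul_comm]; exact sub_eq_zero.mp h
        · exact absurd h hx
    have hx0' : (x0 : M) ≠ 0 := fun h => hx0 (Subtype.ext h)
    have e1' := e1.resolve_right hx0'
    have e2' := e2.resolve_right hx0'
    simp only [map_mul, Module.End.mul_apply, hd2, map_smul, hd1, hc2, hc1, smul_smul]
    have : c1 * (c2 * (d1 * d2)) = 1 := by
      calc c1 * (c2 * (d1 * d2)) = (d1 * c1) * (d2 * c2) := by ring
        _ = 1 := by rw [e1', e2', one_mul]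
    first
      | rw [this, one_smul]
      | (have h2 : ∀ z : K, z = 1 → z • (x : M) = (x : M) := fun z hz => by rw [hz, one_smul]
         apply h2
         rw [← this]; ring)
  intro u1 hu1 u2 hu2 v hv
  rw [← hNeq] at hv
  obtain ⟨f, rfl⟩ := hv
  rw [sumMap_apply, map_sum]
  refine Finset.sum_congr rfl fun h _ => ?_
  have hm1 : (h : A)⁻¹ * u1 * h ∈ U := conj_mem' hUn hu1 h
  have hm2 : (h : A)⁻¹ * u2 * h ∈ U := conj_mem' hUn hu2 h
  have := hXtriv _ hm1 _ hm2 (f h)
  calc ρ (u1 * u2 * u1⁻¹ * u2⁻¹) (ρ (h : A) (f h : M))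
      = ρ (h : A) (ρ (((h : A)⁻¹ * u1 * h) * ((h : A)⁻¹ * u2 * h) * ((h : A)⁻¹ * u1 * h)⁻¹
          * ((h : A)⁻¹ * u2 * h)⁻¹) (f h : M)) := by
        rw [← Module.End.mul_apply, ← map_mul, ← Module.End.mul_apply, ← map_mul]
        congr 2; group
    _ = ρ (h : A) (f h : M) := by rw [this]

end AlgClosed

section General

variable {k : Type*} [Field k] {M : Type*} [AddCommGroup M] [Module k M]
variable {A : Type*} [Group A] (ρ : Representation k A M)

theorem commutator_trivial [FiniteDimensional k M] [Finite A]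
    (U E : Subgroup A) (hUE : U ⊔ E = ⊤) (hUn : ∀ e ∈ E, ∀ u ∈ U, e * u * e⁻¹ ∈ U)
    (hfpf : ∀ e ∈ E, e ≠ 1 → ∀ u ∈ U, e * u = u * e → u = 1)
    (hA : (Nat.card A : k) ≠ 0) (h1 : finrank k (fixOf ρ E) ≤ 1) :
    ∀ u1 ∈ U, ∀ u2 ∈ U, ∀ v : M, ρ (u1 * u2 * u1⁻¹ * u2⁻¹) v = v := by
  let K := AlgebraicClosure k
  have hAK : (Nat.card A : K) ≠ 0 := by
    rw [← map_natCast (algebraMap k K)]
    exact fun h => hA ((map_eq_zero_iff _ (algebraMap k K).injective).mp h)
  have h1K : finrank K (fixOf (baseChangeRep ρ K) E) ≤ 1 := by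
    rw [finrank_fix_baseChange ρ K E (card_sub_ne_zero hA E)]; exact h1
  have h := commutator_trivial_algClosed (baseChangeRep ρ K) U E hUE hUn hfpf hAK h1K
  intro u1 hu1 u2 hu2 v
  have hinj : Function.Injective (TensorProduct.mk k K M 1) :=
    Module.FaithfullyFlat.tensorProduct_mk_injective (A := k) (B := K) M
  apply hinj
  have := h u1 hu1 u2 hu2 ((1 : K) ⊗ₜ[k] v)
  simpa [baseChangeRep] using this

end General

end Cfsg.Agent.Helper5.FrobMod
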