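import Mathlib
import Cfsg.Agent.Helper5.FrobModI
import Cfsg.Agent.Helper5.FrobModG

/-!
# Frobenius-module machinery, part J: group form of the one-dimensional fixed space lemma

`commutator_centralizes`: `U ⊔ E` (Frobenius-type) normalizes the elementary abelian `ℓ`-subgroup `V`,
`ℓ ∤ |U ⊔ E|`, `|C_V(E)| ≤ ℓ`: then commutators of elements of `U` centralize `V`.
-/

set_option autoImplicit false

namespace Cfsg.Agent.Helper5.FrobMod

open Subgroup Module

theorem commutator_trivial_aux {G V : Type*} [Group G] [Finite G] [CommGroup V] [Finite V]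
    (U E : Subgroup G) (hUE : U ⊔ E = ⊤) (hUn : ∀ e ∈ E, ∀ u ∈ U, e * u * e⁻¹ ∈ U)
    (hfpf : ∀ e ∈ E, e ≠ 1 → ∀ u ∈ U, e * u = u * e → u = 1)
    (q : ℕ) [hq : Fact q.Prime] [Module (ZMod q) (Additive V)]
    (φ : G →* Monoid.End V) (hcop : ¬ q ∣ Nat.card G)
    (hfix : Nat.card {v : V // ∀ g ∈ E, φ g v = v} ≤ q) :
    ∀ u1 ∈ U, ∀ u2 ∈ U, ∀ v : V, φ (u1 * u2 * u1⁻¹ * u2⁻¹) v = v := by
  classical
  haveI : Finite (Additive V) := ‹Finite V›
  haveI : Module.Finite (ZMod q) (Additive V) := Module.Finite.of_finite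
  set ρ : Representation (ZMod q) G (Additive V) := endRep q φ with hρdef
  have hρ : ∀ (g : G) (v : V), ρ g (Additive.ofMul v) = Additive.ofMul (φ g v) := fun g v => rfl
  have hA : (Nat.card G : ZMod q) ≠ 0 := by
    rw [Ne, ZMod.natCast_eq_zero_iff]
    exact hcop
  have hcard : Nat.card {v : V // ∀ g ∈ E, φ g v = v} = q ^ finrank (ZMod q) (fixOf ρ E) := by
    haveI : Fintype (fixOf ρ E) := Fintype.ofFinite _
    have h1 : Nat.card (fixOf ρ E) = q ^ finrank (ZMod q) (fixOf ρ E) := by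
      rw [Nat.card_eq_fintype_card, Module.card_eq_pow_finrank (K := ZMod q), ZMod.card]
    rw [← h1]
    refine Nat.card_congr ?_
    exact
      { toFun := fun v => ⟨Additive.ofMul v.1, fun g hg => by
          rw [hρ, v.2 g hg]⟩
        invFun := fun x => ⟨Additive.toMul x.1, fun g hg => by
          have := x.2 g hg
          exact congrArg Additive.toMul this⟩
        left_inv := fun v => rfl
        right_inv := fun x => rfl }
  have hfinrank : finrank (ZMod q) (fixOf ρ E) ≤ 1 := by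
    rw [hcard] at hfix
    by_contra hcon
    push Not at hcon
    have : q ^ 2 ≤ q ^ finrank (ZMod q) (fixOf ρ E) := Nat.pow_le_pow_right hq.1.pos hcon
    have h2 : q ^ 2 ≤ q := this.trans hfix
    have h3 : q * q ≤ q * 1 := by rw [mul_one, ← sq]; exact h2
    have := Nat.le_of_mul_le_mul_left h3 hq.1.pos
    exact absurd this (not_le.mpr hq.1.one_lt)
  have hmain := commutator_trivial ρ U E hUE hUn hfpf hA hfinrank
  intro u1 hu1 u2 hu2 v
  have := hmain u1 hu1 u2 hu2 (Additive.ofMul v)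
  exact congrArg Additive.toMul this

/-- abstract form: `|C_V(E)| ≤ q` forces commutators of `U` to act trivially on `V` -/
theorem commutator_trivial_of_card_le {G V : Type*} [Group G] [Finite G] [CommGroup V] [Finite V]
    (U E : Subgroup G) (hUE : U ⊔ E = ⊤) (hUn : ∀ e ∈ E, ∀ u ∈ U, e * u * e⁻¹ ∈ U)
    (hfpf : ∀ e ∈ E, e ≠ 1 → ∀ u ∈ U, e * u = u * e → u = 1)
    (q : ℕ) [hq : Fact q.Prime] (hexp : ∀ v : V, v ^ q = 1)
    (φ : G →* Monoid.End V) (hcop : ¬ q ∣ Nat.card G)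
    (hfix : Nat.card {v : V // ∀ g ∈ E, φ g v = v} ≤ q) :
    ∀ u1 ∈ U, ∀ u2 ∈ U, ∀ v : V, φ (u1 * u2 * u1⁻¹ * u2⁻¹) v = v := by
  letI : Module (ZMod q) (Additive V) := AddCommGroup.zmodModule (n := q) (fun x => by
    induction x using Additive.rec with
    | ofMul v => rw [← ofMul_pow, hexp]; rfl)
  exact commutator_trivial_aux U E hUE hUn hfpf q φ hcop hfix

variable {X : Type*} [Group X] [Finite X]

theorem commutator_centralizes (U E V : Subgroup X)
    (hUn : ∀ e ∈ E, ∀ u ∈ U, e * u * e⁻¹ ∈ U)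
    (hfpf : ∀ e ∈ E, e ≠ 1 → ∀ u ∈ U, e * u = u * e → u = 1)
    (ℓ : ℕ) [hℓ : Fact ℓ.Prime] (hVcomm : ∀ a ∈ V, ∀ b ∈ V, a * b = b * a) (hVexp : ∀ a ∈ V, a ^ ℓ = 1)
    (hAV : ∀ x ∈ U ⊔ E, ∀ v ∈ V, x * v * x⁻¹ ∈ V)
    (hcop : ¬ ℓ ∣ Nat.card ↥(U ⊔ E))
    (hfix : Nat.card ↥(V ⊓ centralizer (E : Set X)) ≤ ℓ) :
    ∀ u1 ∈ U, ∀ u2 ∈ U, ∀ v ∈ V, (u1 * u2 * u1⁻¹ * u2⁻¹) * v = v * (u1 * u2 * u1⁻¹ * u2⁻¹) := by
  classical
  set A : Subgroup X := U ⊔ E with hA
  let U' : Subgroup A := U.subgroupOf A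
  let E' : Subgroup A := E.subgroupOf A
  have hUA : U ≤ A := le_sup_left
  have hEA : E ≤ A := le_sup_right
  have hUE' : U' ⊔ E' = ⊤ := by
    rw [← Subgroup.subgroupOf_sup hUA hEA, Subgroup.subgroupOf_self]
  have hUn' : ∀ e ∈ E', ∀ u ∈ U', e * u * e⁻¹ ∈ U' := by
    intro e he u hu
    rw [Subgroup.mem_subgroupOf] at he hu ⊢
    simpa using hUn _ he _ hu
  have hfpf' : ∀ e ∈ E', e ≠ 1 → ∀ u ∈ U', e * u = u * e → u = 1 := by
    intro e he he1 u hu hcomm
    rw [Subgroup.mem_subgroupOf] at he hu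
    apply Subtype.ext
    refine hfpf _ he (fun h => he1 (Subtype.ext h)) _ hu ?_
    have := congrArg Subtype.val hcomm
    simpa using this
  letI : CommGroup ↥V :=
    { (inferInstance : Group ↥V) with
      mul_comm := fun a b => Subtype.ext (hVcomm a a.2 b b.2) }
  have hexp : ∀ v : ↥V, v ^ ℓ = 1 := fun v => Subtype.ext (by simpa using hVexp v v.2)
  let φ : ↥A →* Monoid.End ↥V :=
    { toFun := fun a => conjHom V (a : X) (hAV a a.2)
      map_one' := by
        refine MonoidHom.ext fun v => Subtype.ext ?_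
        show ((1 : A) : X) * v * ((1 : A) : X)⁻¹ = v
        simp
      map_mul' := fun a b => by
        refine MonoidHom.ext fun v => Subtype.ext ?_
        show ((a * b : A) : X) * v * ((a * b : A) : X)⁻¹ = (a : X) * ((b : X) * v * (b : X)⁻¹) * (a : X)⁻¹
        simp [mul_assoc] }
  have hφ : ∀ (a : A) (v : V), ((φ a v : V) : X) = (a : X) * v * (a : X)⁻¹ := fun a v => rfl
  have hcardfix : Nat.card {v : ↥V // ∀ g ∈ E', φ g v = v} = Nat.card ↥(V ⊓ centralizer (E : Set X)) := by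
    refine Nat.card_congr ?_
    exact
      { toFun := fun x => ⟨(x.1 : X), Subgroup.mem_inf.mpr ⟨x.1.2, by
          rw [Subgroup.mem_centralizer_iff]
          intro e he
          have h2 := x.2 ⟨e, hEA he⟩ (by rw [Subgroup.mem_subgroupOf]; exact he)
          have h3 := congrArg Subtype.val h2
          rw [hφ] at h3
          calc e * (x.1 : X) = (e * (x.1 : X) * e⁻¹) * e := by group
            _ = _ := by
              have h3' : e * (x.1 : X) * e⁻¹ = (x.1 : X) := h3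
              rw [h3']⟩⟩
        invFun := fun y => ⟨⟨y.1, (Subgroup.mem_inf.mp y.2).1⟩, by
          intro e he
          have hcent : (y : X) ∈ centralizer (E : Set X) := (Subgroup.mem_inf.mp y.2).2
          rw [Subgroup.mem_centralizer_iff] at hcent
          have he' : (e : X) ∈ E := Subgroup.mem_subgroupOf.mp he
          apply Subtype.ext
          rw [hφ]
          show (e : X) * y.1 * (e : X)⁻¹ = y.1
          rw [hcent _ he', mul_inv_cancel_right]⟩
        left_inv := fun x => rfl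
        right_inv := fun y => rfl }
  have hmain := commutator_trivial_of_card_le U' E' hUE' hUn' hfpf' ℓ hexp φ hcop (hcardfix ▸ hfix)
  intro u1 hu1 u2 hu2 v hv
  have h2 := hmain ⟨u1, hUA hu1⟩ (by rw [Subgroup.mem_subgroupOf]; exact hu1) ⟨u2, hUA hu2⟩
    (by rw [Subgroup.mem_subgroupOf]; exact hu2) (⟨v, hv⟩ : V)
  have h3 := congrArg Subtype.val h2
  rw [hφ] at h3
  have h4 : ((⟨u1, hUA hu1⟩ * ⟨u2, hUA hu2⟩ * ⟨u1, hUA hu1⟩⁻¹ * ⟨u2, hUA hu2⟩⁻¹ : A) : X)
      = u1 * u2 * u1⁻¹ * u2⁻¹ := by simp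
  rw [h4] at h3
  calc (u1 * u2 * u1⁻¹ * u2⁻¹) * v
      = ((u1 * u2 * u1⁻¹ * u2⁻¹) * v * (u1 * u2 * u1⁻¹ * u2⁻¹)⁻¹) * (u1 * u2 * u1⁻¹ * u2⁻¹) := by group
    _ = v * (u1 * u2 * u1⁻¹ * u2⁻¹) := by
      have h5 : (u1 * u2 * u1⁻¹ * u2⁻¹) * v * (u1 * u2 * u1⁻¹ * u2⁻¹)⁻¹ = v := h3
      rw [h5]

end Cfsg.Agent.Helper5.FrobMod
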