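import Mathlib
import Cfsg.Agent.Helper5.FrobModJ
import Cfsg.Agent.Helper5.FrobModH

/-!
# Frobenius-module machinery, part K: cyclic fixed points of the complement

`derived_centralizes`: `U ⊔ E` Frobenius-type acting coprimely on solvable `M` with `C_M(U) = 1` and `C_M(E)` cyclic:
commutators of elements of `U` centralize `M`.
-/

set_option autoImplicit false

namespace Cfsg.Agent.Helper5.FrobMod

open Subgroup

variable {X : Type*} [Group X] [Finite X]

/-- coprime stability: `c` centralizes `N`, acts trivially on `M/N`, and has order coprime to `|M|` -/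
theorem centralizes_of_stab (c : X) (M N : Subgroup X) (hNM : N ≤ M)
    (hcN : ∀ n ∈ N, c * n = n * c) (hcM : ∀ m ∈ M, c * m * c⁻¹ * m⁻¹ ∈ N)
    (hcop : (orderOf c).Coprime (Nat.card M)) : ∀ m ∈ M, c * m = m * c := by
  intro m hm
  set n : X := c * m * c⁻¹ * m⁻¹ with hn
  have hnN : n ∈ N := hcM m hm
  have hpow : ∀ k : ℕ, c ^ k * m * (c ^ k)⁻¹ = n ^ k * m := by
    intro k
    induction k with
    | zero => simp
    | succ k ih =>
      have hcomm : c * n ^ k = n ^ k * c := hcN _ (N.pow_mem hnN k)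
      calc c ^ (k + 1) * m * (c ^ (k + 1))⁻¹ = c * (c ^ k * m * (c ^ k)⁻¹) * c⁻¹ := by
            rw [pow_succ']; group
        _ = c * (n ^ k * m) * c⁻¹ := by rw [ih]
        _ = (c * n ^ k) * (m * c⁻¹) := by group
        _ = (n ^ k * c) * (m * c⁻¹) := by rw [hcomm]
        _ = n ^ k * (c * m * c⁻¹ * m⁻¹) * m := by group
        _ = n ^ (k + 1) * m := by rw [← hn, pow_succ]
  have h1 := hpow (orderOf c)
  rw [pow_orderOf_eq_one, one_mul, inv_one, mul_one] at h1
  have h2 : n ^ orderOf c = 1 := by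
    have := congrArg (· * m⁻¹) h1
    simpa using this.symm
  have h3 : orderOf n ∣ orderOf c := orderOf_dvd_of_pow_eq_one h2
  have h4 : orderOf n ∣ Nat.card M := by
    have : orderOf (⟨n, hNM hnN⟩ : M) ∣ Nat.card M := orderOf_dvd_natCard _
    rwa [← Subgroup.orderOf_coe] at this
  have h5 : orderOf n = 1 := Nat.eq_one_of_dvd_coprimes hcop h3 h4
  have h6 : n = 1 := orderOf_eq_one_iff.mp h5
  have h7 : c * m * c⁻¹ = m := by
    have : c * m * c⁻¹ = n * m := by rw [hn]; group
    rw [this, h6, one_mul]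
  calc c * m = (c * m * c⁻¹) * c := by group
    _ = m * c := by rw [h7]

/-- cyclic fixed points of `E` force the derived group of `U` to centralize `M` -/
theorem derived_centralizes (U E : Subgroup X)
    (hUn : ∀ e ∈ E, ∀ u ∈ U, e * u * e⁻¹ ∈ U)
    (hfpf : ∀ e ∈ E, e ≠ 1 → ∀ u ∈ U, e * u = u * e → u = 1) :
    ∀ M : Subgroup X, (∀ x ∈ U ⊔ E, ∀ h ∈ M, x * h * x⁻¹ ∈ M) → Group.IsSolvable M →
      Nat.Coprime (Nat.card M) (Nat.card ↥(U ⊔ E)) →
      IsCyclic ↥(M ⊓ centralizer (E : Set X)) →
      ∀ u1 ∈ U, ∀ u2 ∈ U, ∀ m ∈ M, (u1 * u2 * u1⁻¹ * u2⁻¹) * m = m * (u1 * u2 * u1⁻¹ * u2⁻¹) := by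
  classical
  set A : Subgroup X := U ⊔ E with hA
  have hUA : U ≤ A := le_sup_left
  have hEA : E ≤ A := le_sup_right
  have main : ∀ n : ℕ, ∀ M : Subgroup X, Nat.card M = n → (∀ x ∈ A, ∀ h ∈ M, x * h * x⁻¹ ∈ M) →
      Group.IsSolvable M → Nat.Coprime (Nat.card M) (Nat.card A) →
      IsCyclic ↥(M ⊓ centralizer (E : Set X)) →
      ∀ u1 ∈ U, ∀ u2 ∈ U, ∀ m ∈ M,
        (u1 * u2 * u1⁻¹ * u2⁻¹) * m = m * (u1 * u2 * u1⁻¹ * u2⁻¹) := by
    intro n
    induction n using Nat.strong_induction_on with
    | _ n IH =>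
    intro M hMn hAM hsolv hcop hcyc
    by_cases hM : M = ⊥
    · intro u1 _ u2 _ m hm
      rw [hM, Subgroup.mem_bot] at hm
      rw [hm, mul_one, one_mul]
    obtain ⟨q, hq, hqM, N, hNM, hNne, hNinv, hNcomm, hNpow⟩ := exists_elementary_quotient M hM hsolv
    haveI : Fact q.Prime := ⟨hq⟩
    have hAN : ∀ a ∈ A, ∀ n ∈ N, a * n * a⁻¹ ∈ N := fun a ha => hNinv a (hAM a ha)
    have hMNn : ∀ h ∈ M, ∀ n ∈ N, h * n * h⁻¹ ∈ N := fun h hh =>
      hNinv h (fun h' hh' => M.mul_mem (M.mul_mem hh hh') (M.inv_mem hh))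
    haveI hnorm : (N.subgroupOf M).Normal := by
      refine ⟨fun n hn g => ?_⟩
      rw [Subgroup.mem_subgroupOf] at hn ⊢
      simpa using hMNn g g.2 n hn
    have hNsolv : Group.IsSolvable N :=
      Group.isSolvable_of_isSolvable_injective (Subgroup.inclusion_injective hNM)
    have hNcop : Nat.Coprime (Nat.card N) (Nat.card A) :=
      Nat.Coprime.coprime_dvd_left (Subgroup.card_dvd_of_le hNM) hcop
    have hNlt : Nat.card N < n := by
      rw [← hMn]
      exact lt_of_le_of_ne (Subgroup.card_le_of_le hNM)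
        (fun h => hNne (Subgroup.eq_of_le_of_card_ge hNM h.ge))
    -- cyclic fixed points in N
    have hNcyc : IsCyclic ↥(N ⊓ centralizer (E : Set X)) := by
      have hle : N ⊓ centralizer (E : Set X) ≤ M ⊓ centralizer (E : Set X) := inf_le_inf_right _ hNM
      exact isCyclic_of_injective (Subgroup.inclusion hle) (Subgroup.inclusion_injective hle)
    have IHN := IH _ hNlt N rfl hAN hNsolv hNcop hNcyc
    -- the quotient
    letI : CommGroup (↥M ⧸ N.subgroupOf M) :=
      { (inferInstance : Group (↥M ⧸ N.subgroupOf M)) with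
        mul_comm := fun a b => by
          induction a using QuotientGroup.induction_on with
          | H a =>
          induction b using QuotientGroup.induction_on with
          | H b =>
          rw [← QuotientGroup.mk_mul, ← QuotientGroup.mk_mul, QuotientGroup.eq, Subgroup.mem_subgroupOf]
          have := hNcomm _ (M.inv_mem b.2) _ (M.inv_mem a.2)
          simpa [mul_assoc] using this }
    have hexp : ∀ v : ↥M ⧸ N.subgroupOf M, v ^ q = 1 := by
      intro v
      induction v using QuotientGroup.induction_on with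
      | H h =>
      rw [← QuotientGroup.mk_pow, QuotientGroup.eq_one_iff, Subgroup.mem_subgroupOf]
      simpa using hNpow h h.2
    have hqA : ¬ q ∣ Nat.card A := by
      intro hdvd
      have := Nat.dvd_gcd hqM hdvd
      rw [hcop] at this
      exact hq.one_lt.ne' (Nat.dvd_one.mp this)
    let U' : Subgroup A := U.subgroupOf A
    let E' : Subgroup A := E.subgroupOf A
    have hUE' : U' ⊔ E' = ⊤ := by
      rw [← Subgroup.subgroupOf_sup hUA hEA, Subgroup.subgroupOf_self]
    have hUn' : ∀ e ∈ E', ∀ u ∈ U', e * u * e⁻¹ ∈ U' := by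
      intro e he u hu
      rw [Subgroup.mem_subgroupOf] at he hu ⊢
      simpa using hUn _ he _ hu
    have hfpf' : ∀ e ∈ E', e ≠ 1 → ∀ u ∈ U', e * u = u * e → u = 1 := by
      intro e he he1 u hu hcomm
      rw [Subgroup.mem_subgroupOf] at he hu
      apply Subtype.ext
      refine hfpf _ he (fun h => he1 (Subtype.ext h)) _ hu ?_
      have := congrArg Subtype.val hcomm
      simpa using this
    -- bound on the fixed points of E on the section
    have hcopE : (Nat.card E).Coprime (Nat.card N) :=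
      (Nat.Coprime.coprime_dvd_left (Subgroup.card_dvd_of_le hEA) hNcop.symm)
    have hfE := card_fix_section E A M N hEA hAM hAN hNM hcopE hNsolv
    have hbound : Nat.card ↥(M ⊓ centralizer (E : Set X))
        ≤ q * Nat.card ↥(N ⊓ centralizer (E : Set X)) := by
      haveI := hcyc
      letI : CommGroup ↥(M ⊓ centralizer (E : Set X)) := IsCyclic.commGroup
      let f : ↥(M ⊓ centralizer (E : Set X)) →* ↥(M ⊓ centralizer (E : Set X)) := powMonoidHom q
      have h1 := Subgroup.card_eq_card_quotient_mul_card_subgroup f.ker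
      have h2 : Nat.card (↥(M ⊓ centralizer (E : Set X)) ⧸ f.ker) = Nat.card f.range :=
        Nat.card_congr (QuotientGroup.quotientKerEquivRange f).toEquiv
      have h3 : Nat.card f.ker ≤ q := by
        haveI : Fintype ↥(M ⊓ centralizer (E : Set X)) := Fintype.ofFinite _
        have := IsCyclic.card_pow_eq_one_le (α := ↥(M ⊓ centralizer (E : Set X))) hq.pos
        refine le_trans (le_of_eq ?_) this
        rw [Nat.card_eq_fintype_card, Fintype.card_subtype]
        congr 1
        ext x
        simp [f, MonoidHom.mem_ker]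
      have h4 : Nat.card f.range ≤ Nat.card ↥(N ⊓ centralizer (E : Set X)) := by
        let g : f.range → ↥(N ⊓ centralizer (E : Set X)) := fun y =>
          ⟨((y : ↥(M ⊓ centralizer (E : Set X))) : X), by
            obtain ⟨x, hx⟩ := y.2
            have hx' : ((y : ↥(M ⊓ centralizer (E : Set X))) : X) = (x : X) ^ q := by
              rw [← hx]; rfl
            rw [hx']
            refine Subgroup.mem_inf.mpr ⟨hNpow _ (Subgroup.mem_inf.mp x.2).1, ?_⟩
            exact Subgroup.pow_mem _ (Subgroup.mem_inf.mp x.2).2 q⟩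
        have hg : Function.Injective g := by
          intro y1 y2 h
          apply Subtype.ext
          apply Subtype.ext
          exact congrArg (fun z : ↥(N ⊓ centralizer (E : Set X)) => (z : X)) h
        exact Nat.card_le_card_of_injective g hg
      rw [h2] at h1
      calc Nat.card ↥(M ⊓ centralizer (E : Set X)) = Nat.card f.range * Nat.card f.ker := h1
        _ ≤ Nat.card ↥(N ⊓ centralizer (E : Set X)) * q := Nat.mul_le_mul h4 h3
        _ = q * Nat.card ↥(N ⊓ centralizer (E : Set X)) := mul_comm _ _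
    have hfixle : Nat.card {v : ↥M ⧸ N.subgroupOf M // ∀ g ∈ E', conjQuot A M N hAM hAN g v = v} ≤ q := by
      have hpos : 0 < Nat.card ↥(N ⊓ centralizer (E : Set X)) := Nat.card_pos
      rw [← hfE] at hbound
      exact Nat.le_of_mul_le_mul_right hbound hpos
    have hsec := commutator_trivial_of_card_le U' E' hUE' hUn' hfpf' q hexp
      (conjQuot A M N hAM hAN) hqA hfixle
    -- conclude
    intro u1 hu1 u2 hu2
    set c : X := u1 * u2 * u1⁻¹ * u2⁻¹ with hc
    have hcU : c ∈ U := U.mul_mem (U.mul_mem (U.mul_mem hu1 hu2) (U.inv_mem hu1)) (U.inv_mem hu2)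
    have hcA : c ∈ A := hUA hcU
    have hcN : ∀ n ∈ N, c * n = n * c := IHN u1 hu1 u2 hu2
    have hcM : ∀ m ∈ M, c * m * c⁻¹ * m⁻¹ ∈ N := by
      intro m hm
      have h1 := hsec ⟨u1, hUA hu1⟩ (by rw [Subgroup.mem_subgroupOf]; exact hu1) ⟨u2, hUA hu2⟩
        (by rw [Subgroup.mem_subgroupOf]; exact hu2) (QuotientGroup.mk (⟨m, hm⟩ : M))
      rw [conjQuot_mk, QuotientGroup.eq_iff_div_mem, Subgroup.mem_subgroupOf] at h1
      simpa [div_eq_mul_inv, hc] using h1
    have hcopc : (orderOf c).Coprime (Nat.card M) := by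
      have h1 : orderOf c ∣ Nat.card A := by
        have : orderOf (⟨c, hcA⟩ : A) ∣ Nat.card A := orderOf_dvd_natCard _
        rwa [← Subgroup.orderOf_coe] at this
      exact Nat.Coprime.coprime_dvd_left h1 hcop.symm
    exact centralizes_of_stab c M N hNM hcN hcM hcopc
  intro M hAM hsolv hcop hcyc
  exact main _ M rfl hAM hsolv hcop hcyc

end Cfsg.Agent.Helper5.FrobMod
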