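import Mathlib
import Cfsg.Agent.Helper17.Basic

/-!
# The holomorph of a subgroup inside its symmetric group

For a subgroup `V` of a group `X`, the normalizer `N_X(V)` acts on `V` by conjugation (`psi`), and `V` acts on
itself by left multiplication (`lam`); inside `Equiv.Perm V` the image of `psi` normalizes the image of `lam`
and meets its centralizer trivially.  This transfers "module" questions about `N_X(V)` acting on `V` to a
finite group in which the action is faithful.
-/

set_option autoImplicit false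

namespace Cfsg.Agent.Helper5.Hol

open Subgroup

variable {X : Type*} [Group X] (V : Subgroup X)

/-- conjugation action of the normalizer on `V`, by permutations -/
noncomputable def psi : ↥(normalizer (V : Set X)) →* Equiv.Perm ↥V :=
  (MulAut.toPerm ↥V).comp V.normalizerMonoidHom

/-- left regular representation of `V` -/
noncomputable def lam : ↥V →* Equiv.Perm ↥V := MulAction.toPermHom ↥V ↥V

theorem psi_apply (g : ↥(normalizer (V : Set X))) (v : V) : ((psi V g v : V) : X) = g * v * (g : X)⁻¹ := rfl

theorem lam_apply (v w : V) : lam V v w = v * w := rfl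

theorem lam_injective : Function.Injective (lam V) := by
  intro a b h
  have := congrArg (fun f : Equiv.Perm ↥V => f 1) h
  simpa [lam_apply] using this

theorem conj_mem (g : ↥(normalizer (V : Set X))) (v : V) : (g : X) * v * (g : X)⁻¹ ∈ V :=
  (Subgroup.mem_normalizer_iff.mp g.2 v).mp v.2

theorem psi_mul_lam (g : ↥(normalizer (V : Set X))) (v : V) :
    psi V g * lam V v * (psi V g)⁻¹ = lam V ⟨(g : X) * v * (g : X)⁻¹, conj_mem V g v⟩ := by
  rw [mul_inv_eq_iff_eq_mul]
  ext w
  simp only [Equiv.Perm.coe_mul, Function.comp_apply, lam_apply, psi_apply, Subgroup.coe_mul]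
  group

theorem psi_eq_one_iff (g : ↥(normalizer (V : Set X))) :
    psi V g = 1 ↔ (g : X) ∈ centralizer (V : Set X) := by
  rw [Subgroup.mem_centralizer_iff]
  constructor
  · intro h v hv
    have := congrArg (fun f : Equiv.Perm ↥V => ((f ⟨v, hv⟩ : V) : X)) h
    simp only [psi_apply, Equiv.Perm.coe_one, id_eq] at this
    calc v * g = ((g : X) * v * (g : X)⁻¹) * g := by rw [this]
      _ = g * v := by group
  · intro h
    ext v
    rw [psi_apply, Equiv.Perm.coe_one, id_eq, ← h v v.2, mul_inv_cancel_right]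

theorem range_psi_le_normalizer : (psi V).range ≤ normalizer ((lam V).range : Set (Equiv.Perm ↥V)) := by
  rintro _ ⟨g, rfl⟩
  have key : ∀ g : ↥(normalizer (V : Set X)), ∀ t ∈ (lam V).range, psi V g * t * (psi V g)⁻¹ ∈ (lam V).range := by
    rintro g _ ⟨v, rfl⟩
    rw [psi_mul_lam]
    exact ⟨_, rfl⟩
  rw [Subgroup.mem_normalizer_iff]
  intro t
  constructor
  · exact key g t
  · intro ht
    have := key g⁻¹ _ ht
    rw [map_inv, inv_inv] at this
    have e : (psi V g)⁻¹ * (psi V g * t * (psi V g)⁻¹) * psi V g = t := by group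
    rwa [e] at this

theorem psi_commute_lam_iff (g : ↥(normalizer (V : Set X))) (v : V) :
    lam V v * psi V g = psi V g * lam V v ↔ (g : X) * v * (g : X)⁻¹ = v := by
  constructor
  · intro h
    have h1 : psi V g * lam V v * (psi V g)⁻¹ = lam V v := by
      rw [← h, mul_inv_cancel_right]
    rw [psi_mul_lam] at h1
    have := lam_injective V h1
    exact congrArg Subtype.val this
  · intro h
    have h1 := psi_mul_lam V g v
    have h2 : (⟨(g : X) * v * (g : X)⁻¹, conj_mem V g v⟩ : V) = v := Subtype.ext h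
    rw [h2] at h1
    calc lam V v * psi V g = (psi V g * lam V v * (psi V g)⁻¹) * psi V g := by rw [h1]
      _ = psi V g * lam V v := by group

theorem range_psi_inf_centralizer :
    (psi V).range ⊓ centralizer ((lam V).range : Set (Equiv.Perm ↥V)) = ⊥ := by
  rw [eq_bot_iff]
  rintro _ ⟨⟨g, rfl⟩, hc⟩
  rw [Subgroup.mem_bot, psi_eq_one_iff, Subgroup.mem_centralizer_iff]
  intro v hv
  have h1 := Subgroup.mem_centralizer_iff.mp hc (lam V ⟨v, hv⟩) ⟨_, rfl⟩
  have h2 := (psi_commute_lam_iff V g ⟨v, hv⟩).mp h1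
  calc v * g = ((g : X) * v * (g : X)⁻¹) * g := by rw [h2]
    _ = g * v := by group

/-- image in `Perm V` of a subgroup -/
noncomputable def img (H : Subgroup X) : Subgroup (Equiv.Perm ↥V) :=
  (H.subgroupOf (normalizer (V : Set X))).map (psi V)

theorem img_le_range (H : Subgroup X) : img V H ≤ (psi V).range := by
  rintro _ ⟨g, _, rfl⟩
  exact ⟨g, rfl⟩

theorem mem_img {H : Subgroup X} {t : Equiv.Perm ↥V} :
    t ∈ img V H ↔ ∃ g : ↥(normalizer (V : Set X)), (g : X) ∈ H ∧ psi V g = t := by
  constructor
  · rintro ⟨g, hg, rfl⟩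
    exact ⟨g, Subgroup.mem_subgroupOf.mp hg, rfl⟩
  · rintro ⟨g, hg, rfl⟩
    exact ⟨g, Subgroup.mem_subgroupOf.mpr hg, rfl⟩

theorem img_mono {H K : Subgroup X} (h : H ≤ K) : img V H ≤ img V K := by
  intro t ht
  obtain ⟨g, hg, rfl⟩ := (mem_img V).mp ht
  exact (mem_img V).mpr ⟨g, h hg, rfl⟩

theorem card_img_dvd {H : Subgroup X} (hH : H ≤ normalizer (V : Set X)) : Nat.card (img V H) ∣ Nat.card H := by
  rw [← Cfsg.Agent.Helper17.card_subgroupOf_of_le hH]
  exact Subgroup.card_map_dvd _ _

theorem img_le_normalizer {A K : Subgroup X} (hAK : A ≤ normalizer (K : Set X)) :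
    img V A ≤ normalizer ((img V K : Subgroup (Equiv.Perm ↥V)) : Set (Equiv.Perm ↥V)) := by
  have key : ∀ a : ↥(normalizer (V : Set X)), (a : X) ∈ A → ∀ t ∈ img V K, psi V a * t * (psi V a)⁻¹ ∈ img V K := by
    intro a ha t ht
    obtain ⟨g, hg, rfl⟩ := (mem_img V).mp ht
    refine (mem_img V).mpr ⟨a * g * a⁻¹, ?_, by simp⟩
    have := (Subgroup.mem_normalizer_iff.mp (hAK ha) g).mp hg
    simpa using this
  intro s hs
  obtain ⟨a, ha, rfl⟩ := (mem_img V).mp hs
  rw [Subgroup.mem_normalizer_iff]
  intro t
  constructor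
  · exact key a ha t
  · intro ht
    have := key a⁻¹ (by simpa using A.inv_mem ha) _ ht
    rw [map_inv, inv_inv] at this
    have e : (psi V a)⁻¹ * (psi V a * t * (psi V a)⁻¹) * psi V a = t := by group
    rwa [e] at this

/-- injectivity of `psi` on a subgroup meeting the centralizer trivially -/
theorem card_img_eq {H : Subgroup X} (hH : H ≤ normalizer (V : Set X)) (hHc : H ⊓ centralizer (V : Set X) = ⊥) :
    Nat.card (img V H) = Nat.card H := by
  rw [← Cfsg.Agent.Helper17.card_subgroupOf_of_le hH]
  set S : Subgroup ↥(normalizer (V : Set X)) := H.subgroupOf (normalizer (V : Set X)) with hS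
  have hinj : Function.Injective ((psi V).comp S.subtype) := by
    rw [injective_iff_map_eq_one]
    intro a ha
    have h1 : ((a : ↥(normalizer (V : Set X))) : X) ∈ centralizer (V : Set X) := (psi_eq_one_iff V a).mp ha
    have h2 : ((a : ↥(normalizer (V : Set X))) : X) ∈ H ⊓ centralizer (V : Set X) :=
      Subgroup.mem_inf.mpr ⟨Subgroup.mem_subgroupOf.mp a.2, h1⟩
    rw [hHc, Subgroup.mem_bot] at h2
    exact Subtype.ext (Subtype.ext h2)
  have hrange : ((psi V).comp S.subtype).range = img V H := by
    rw [MonoidHom.range_comp, Subgroup.range_subtype]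
    rfl
  rw [← hrange]
  exact (Nat.card_congr (MonoidHom.ofInjective hinj).toEquiv).symm

end Cfsg.Agent.Helper5.Hol
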