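import Mathlib
import Cfsg.Agent.Helper5.HolPerm
import Cfsg.Agent.Helper10.ChiefAction
import Cfsg.Agent.Lead.CoprimeFrattini

/-!
# Chief factors inside the holomorph

For a chief factor `U / V` of a finite group `G`, realised as the subgroup `Ub U V` of `G ⧸ V`, the group `G` acts on
it by conjugation; `theta U V : G →* Perm (Ub U V)` is this action, landing in the "holomorph" of `Ub U V` inside
`Perm (Ub U V)` (see `HolPerm`).
-/

set_option autoImplicit false

namespace Cfsg.Agent.Helper5.ChiefHol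

open Subgroup Cfsg.Agent.Helper10 Cfsg.Agent.Helper5.Hol

variable {G : Type*} [Group G] (U V : Subgroup G) [hVn : V.Normal] [hUn : U.Normal]

/-- `G → N_{G/V}(UV/V) = G/V` -/
noncomputable def toNorm : G →* ↥(normalizer ((Ub U V : Subgroup (G ⧸ V)) : Set (G ⧸ V))) :=
  MonoidHom.codRestrict (QuotientGroup.mk' V) _ (fun g => by
    rw [Subgroup.normalizer_eq_top_iff.mpr (Ub_normal U V)]; trivial)

theorem toNorm_coe (g : G) : ((toNorm U V g : ↥(normalizer ((Ub U V : Subgroup (G ⧸ V)) : Set (G ⧸ V)))) : G ⧸ V)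
    = QuotientGroup.mk' V g := rfl

theorem toNorm_surjective : Function.Surjective (toNorm U V) := by
  rintro ⟨z, hz⟩
  obtain ⟨g, rfl⟩ := QuotientGroup.mk'_surjective V z
  exact ⟨g, rfl⟩

/-- the action of `G` on the chief factor, as permutations of `Ub U V` -/
noncomputable def theta : G →* Equiv.Perm ↥(Ub U V) := (psi (Ub U V)).comp (toNorm U V)

theorem theta_apply (g : G) (m : ↥(Ub U V)) :
    ((theta U V g m : ↥(Ub U V)) : G ⧸ V) = QuotientGroup.mk' V g * m * (QuotientGroup.mk' V g)⁻¹ := rfl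

theorem theta_eq_rhoZ (g : G) : theta U V g = MulAut.toPerm _ (rhoZ U V g) := by
  ext m
  rw [theta_apply]
  exact (rhoZ_apply U V g m).symm

theorem theta_eq_one_iff (g : G) : theta U V g = 1 ↔ ∀ u ∈ U, g * u * g⁻¹ * u⁻¹ ∈ V := by
  rw [theta_eq_rhoZ]
  constructor
  · intro h
    apply comm_of_rhoZ_eq_one U V
    ext m
    have := congrArg (fun f : Equiv.Perm ↥(Ub U V) => f m) h
    exact congrArg Subtype.val this
  · intro h
    rw [rhoZ_eq_one_of_comm U V h, map_one]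

theorem theta_range : (theta U V).range = (psi (Ub U V)).range := by
  unfold theta
  rw [MonoidHom.range_comp, MonoidHom.range_eq_top.mpr (toNorm_surjective U V)]
  exact (MonoidHom.range_eq_map _).symm

/-- `θ(g) λ(m) θ(g)⁻¹ = λ(θ(g) m)` -/
theorem theta_mul_lam (g : G) (m : ↥(Ub U V)) :
    theta U V g * lam (Ub U V) m * (theta U V g)⁻¹ = lam (Ub U V) (theta U V g m) := by
  unfold theta
  rw [MonoidHom.comp_apply, psi_mul_lam]
  rfl

theorem theta_commute_lam_iff (g : G) (m : ↥(Ub U V)) :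
    lam (Ub U V) m * theta U V g = theta U V g * lam (Ub U V) m ↔ theta U V g m = m := by
  unfold theta
  rw [MonoidHom.comp_apply, psi_commute_lam_iff]
  constructor
  · intro h; exact Subtype.ext h
  · intro h; exact congrArg Subtype.val h

theorem theta_range_le_normalizer :
    (theta U V).range ≤ normalizer ((lam (Ub U V)).range : Set (Equiv.Perm ↥(Ub U V))) := by
  rw [theta_range]; exact range_psi_le_normalizer _

theorem theta_range_inf_centralizer :
    (theta U V).range ⊓ centralizer ((lam (Ub U V)).range : Set (Equiv.Perm ↥(Ub U V))) = ⊥ := by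
  rw [theta_range]; exact range_psi_inf_centralizer _

section Chief

variable {U V}
variable [Finite G]

/-- a chief factor below a nilpotent normal subgroup is abelian -/
theorem ub_comm (h : Cfsg.IsChiefFactor U V) (F : Subgroup G) (hFn : F.Normal) (hnil : Group.IsNilpotent ↥F)
    (hUF : U ≤ F) : ∀ a b : ↥(Ub U V), a * b = b * a := by
  rintro ⟨_, u₁, hu₁, rfl⟩ ⟨_, u₂, hu₂, rfl⟩
  apply Subtype.ext
  change (QuotientGroup.mk' V) u₁ * (QuotientGroup.mk' V) u₂ =
    (QuotientGroup.mk' V) u₂ * (QuotientGroup.mk' V) u₁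
  have hchief : Cfsg.Agent.S3766.Chief U V := ⟨h.2.1, h.2.2.1, h.1, h.2.2.2⟩
  have h1 : u₂ * u₁ * u₂⁻¹ * u₁⁻¹ ∈ V :=
    Cfsg.Agent.S3766.cent_of_nilpotent_normal F hFn hnil hchief u₁ (hUF hu₁) u₂ hu₂
  have h2 : (QuotientGroup.mk' V) (u₂ * u₁ * u₂⁻¹ * u₁⁻¹) = 1 := (QuotientGroup.eq_one_iff _).2 h1
  rw [map_mul, map_mul, map_mul, map_inv, map_inv] at h2
  calc (QuotientGroup.mk' V) u₁ * (QuotientGroup.mk' V) u₂
      = ((QuotientGroup.mk' V) u₂ * (QuotientGroup.mk' V) u₁ * ((QuotientGroup.mk' V) u₂)⁻¹ *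
          ((QuotientGroup.mk' V) u₁)⁻¹)⁻¹ * ((QuotientGroup.mk' V) u₂ * (QuotientGroup.mk' V) u₁) := by
        group
    _ = (QuotientGroup.mk' V) u₂ * (QuotientGroup.mk' V) u₁ := by rw [h2, inv_one, one_mul]

/-- an abelian chief factor has prime exponent -/
theorem ub_exists_prime (h : Cfsg.IsChiefFactor U V) (hcomm : ∀ a b : ↥(Ub U V), a * b = b * a) :
    ∃ ℓ : ℕ, ℓ.Prime ∧ ℓ ∣ Nat.card ↥(Ub U V) ∧ ∀ m : ↥(Ub U V), m ^ ℓ = 1 := by
  have hne : Ub U V ≠ ⊥ := ub_ne_bot h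
  have hcard : Nat.card ↥(Ub U V) ≠ 1 := fun h1 => hne (Subgroup.card_eq_one.mp h1)
  obtain ⟨ℓ, hℓ, hdvd⟩ := Nat.exists_prime_and_dvd hcard
  haveI : Fact ℓ.Prime := ⟨hℓ⟩
  refine ⟨ℓ, hℓ, hdvd, ?_⟩
  letI : CommGroup ↥(Ub U V) := { (inferInstance : Group ↥(Ub U V)) with mul_comm := hcomm }
  have hΦn : (((powMonoidHom ℓ : ↥(Ub U V) →* ↥(Ub U V)).range).map (Ub U V).subtype).Normal := by
    constructor
    rintro _ ⟨_, ⟨m, rfl⟩, rfl⟩ x
    have hm' : x * (m : G ⧸ V) * x⁻¹ ∈ Ub U V := (Ub_normal U V).conj_mem _ m.2 x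
    refine ⟨⟨x * m * x⁻¹, hm'⟩ ^ ℓ, ⟨⟨x * m * x⁻¹, hm'⟩, rfl⟩, ?_⟩
    simp [conj_pow]
  rcases chief_dichotomy h _ hΦn (Subgroup.map_subtype_le _) with h1 | h1
  · intro m
    have h2 : ((m ^ ℓ : ↥(Ub U V)) : G ⧸ V) ∈
        ((powMonoidHom ℓ : ↥(Ub U V) →* ↥(Ub U V)).range).map (Ub U V).subtype :=
      ⟨m ^ ℓ, ⟨m, rfl⟩, rfl⟩
    rw [h1, Subgroup.mem_bot] at h2
    exact Subtype.ext h2
  · exfalso
    have hsurj : Function.Surjective (powMonoidHom ℓ : ↥(Ub U V) →* ↥(Ub U V)) := by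
      intro m
      have h2 : (m : G ⧸ V) ∈
          ((powMonoidHom ℓ : ↥(Ub U V) →* ↥(Ub U V)).range).map (Ub U V).subtype := by
        rw [h1]; exact m.2
      obtain ⟨y, ⟨x, hx⟩, hy⟩ := h2
      refine ⟨x, ?_⟩
      rw [hx]
      exact Subtype.ext hy
    have hinj := Finite.injective_iff_surjective.2 hsurj
    obtain ⟨y, hy⟩ := exists_prime_orderOf_dvd_card' ℓ hdvd
    have h2 : (powMonoidHom ℓ : ↥(Ub U V) →* ↥(Ub U V)) y =
        (powMonoidHom ℓ : ↥(Ub U V) →* ↥(Ub U V)) 1 := by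
      simp only [powMonoidHom_apply, one_pow]
      rw [← hy]
      exact pow_orderOf_eq_one y
    have h3 := hinj h2
    rw [h3, orderOf_one] at hy
    exact hℓ.one_lt.ne hy

/-- irreducibility inside `Perm (Ub U V)`: a subgroup of `λ(Ub)` normalized by `θ(G)` is trivial or everything -/
theorem lam_irreducible (h : Cfsg.IsChiefFactor U V) (W : Subgroup (Equiv.Perm ↥(Ub U V)))
    (hW : W ≤ (lam (Ub U V)).range)
    (hWn : (theta U V).range ≤ normalizer ((W : Subgroup (Equiv.Perm ↥(Ub U V))) : Set (Equiv.Perm ↥(Ub U V)))) :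
    W = ⊥ ∨ W = (lam (Ub U V)).range := by
  set W0 : Subgroup (G ⧸ V) := (W.comap (lam (Ub U V))).map (Ub U V).subtype with hW0
  have hW0n : W0.Normal := by
    constructor
    rintro _ ⟨m, hm, rfl⟩ z
    obtain ⟨g, rfl⟩ := QuotientGroup.mk'_surjective V z
    refine ⟨theta U V g m, ?_, rfl⟩
    have hm' : lam (Ub U V) m ∈ W := hm
    show lam (Ub U V) (theta U V g m) ∈ W
    rw [← theta_mul_lam]
    exact (Subgroup.mem_normalizer_iff.mp (hWn ⟨g, rfl⟩) _).mp hm'
  rcases chief_dichotomy h W0 hW0n (Subgroup.map_subtype_le _) with h1 | h1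
  · left
    rw [eq_bot_iff]
    intro w hw
    obtain ⟨m, rfl⟩ := hW hw
    have : (m : G ⧸ V) ∈ W0 := ⟨m, hw, rfl⟩
    rw [h1, Subgroup.mem_bot] at this
    have hm1 : m = 1 := Subtype.ext this
    rw [hm1, map_one]
    exact Subgroup.mem_bot.mpr rfl
  · right
    apply le_antisymm hW
    rintro _ ⟨m, rfl⟩
    have : (m : G ⧸ V) ∈ W0 := by rw [h1]; exact m.2
    obtain ⟨m', hm', hmm'⟩ := this
    have : m' = m := Subtype.ext hmm'
    rw [← this]
    exact hm'

end Chief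

end Cfsg.Agent.Helper5.ChiefHol
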