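import Mathlib

/-!
# Hall–Higman module machinery, part A: arithmetic of eigenvalue multiplicities

`arith_core`: a family `d : ι → κ` of "eigenvalues" taking values in a set `S` of at most `r` elements,
with `N = #ι`, such that the number `t` of pairs `(i, j)` with `d i = d j` satisfies `r * t ≤ N² + r - 1`.
Then `r ≤ N + 1`, and if some value of `S` is missed then `r = N + 1`.
-/

set_option autoImplicit false

namespace Cfsg.Agent.Helper5.HHMod

open Finset

theorem card_pairs_eq {ι κ : Type*} [Fintype ι] [DecidableEq ι] [DecidableEq κ] (d : ι → κ) (S : Finset κ)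
    (hd : ∀ i, d i ∈ S) :
    Fintype.card {p : ι × ι // d p.1 = d p.2}
      = ∑ α ∈ S, (Finset.univ.filter fun i => d i = α).card ^ 2 := by
  classical
  rw [Fintype.card_subtype]
  have h1 : (Finset.univ.filter fun p : ι × ι => d p.1 = d p.2).card
      = ∑ α ∈ S, ((Finset.univ.filter fun p : ι × ι => d p.1 = d p.2).filter fun p => d p.1 = α).card := by
    apply Finset.card_eq_sum_card_fiberwise
    intro p _
    exact hd p.1
  rw [h1]
  refine Finset.sum_congr rfl fun α _ => ?_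
  rw [sq, ← Finset.card_product]
  congr 1
  ext p
  simp only [Finset.mem_filter, Finset.mem_univ, true_and, Finset.mem_product]
  constructor
  · rintro ⟨h1, h2⟩
    exact ⟨h2, h1 ▸ h2⟩
  · rintro ⟨h1, h2⟩
    exact ⟨h1.trans h2.symm, h1⟩

theorem card_eq_sum_fibers {ι κ : Type*} [Fintype ι] [DecidableEq κ] (d : ι → κ) (S : Finset κ)
    (hd : ∀ i, d i ∈ S) :
    Fintype.card ι = ∑ α ∈ S, (Finset.univ.filter fun i => d i = α).card := by
  classical
  rw [← Finset.card_univ]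
  apply Finset.card_eq_sum_card_fiberwise
  intro i _
  exact hd i

theorem arith_core {ι κ : Type*} [Fintype ι] [DecidableEq ι] [DecidableEq κ] (d : ι → κ) (S : Finset κ)
    (hd : ∀ i, d i ∈ S) (r : ℕ) (hS : S.card ≤ r) (hN : 2 ≤ Fintype.card ι) (t : ℕ)
    (ht : Fintype.card {p : ι × ι // d p.1 = d p.2} ≤ t)
    (hrt : r * t ≤ Fintype.card ι ^ 2 + r - 1) :
    r ≤ Fintype.card ι + 1 ∧ (∀ β ∈ S, (∀ i, d i ≠ β) → r = Fintype.card ι + 1) := by
  classical
  set N := Fintype.card ι with hNdef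
  set m : κ → ℕ := fun α => (Finset.univ.filter fun i => d i = α).card with hm
  have hsum : N = ∑ α ∈ S, m α := card_eq_sum_fibers d S hd
  have hsq : Fintype.card {p : ι × ι // d p.1 = d p.2} = ∑ α ∈ S, m α ^ 2 := card_pairs_eq d S hd
  have hSpos : 0 < S.card := by
    have : 0 < Fintype.card ι := by omega
    obtain ⟨i⟩ := Fintype.card_pos_iff.mp this
    exact Finset.card_pos.mpr ⟨d i, hd i⟩
  have hr : 1 ≤ r := by omega
  have hrt' : (r : ℤ) * t ≤ (N : ℤ) ^ 2 + r - 1 := by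
    have : r * t + 1 ≤ N ^ 2 + r := by omega
    zify at this
    linarith
  have hNt : (N : ℤ) ≤ t := by
    have h1 : ∑ α ∈ S, m α ≤ ∑ α ∈ S, m α ^ 2 := by
      refine Finset.sum_le_sum fun α _ => ?_
      rw [sq]
      rcases Nat.eq_zero_or_pos (m α) with h | h
      · simp [h]
      · exact Nat.le_mul_of_pos_left _ h
    have : N ≤ t := by rw [hsum]; exact (h1.trans_eq hsq.symm).trans ht
    exact_mod_cast this
  have hN2 : (2 : ℤ) ≤ N := by exact_mod_cast hN
  have hr1 : (1 : ℤ) ≤ r := by exact_mod_cast hr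
  have hle : (r : ℤ) ≤ N + 1 := by
    by_contra hcon
    push Not at hcon
    nlinarith
  refine ⟨by exact_mod_cast hle, ?_⟩
  intro β hβ hmiss
  have hmβ : m β = 0 := by
    rw [hm]
    simp only [Finset.card_eq_zero, Finset.filter_eq_empty_iff, Finset.mem_univ, true_implies]
    exact hmiss
  -- Cauchy–Schwarz on `S.erase β`
  have hsum' : N = ∑ α ∈ S.erase β, m α := by
    rw [hsum, ← Finset.add_sum_erase S m hβ, hmβ, zero_add]
  have hsq' : ∑ α ∈ S, m α ^ 2 = ∑ α ∈ S.erase β, m α ^ 2 := by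
    rw [← Finset.add_sum_erase S (fun α => m α ^ 2) hβ, hmβ]
    simp
  have hCS : ((∑ α ∈ S.erase β, (m α : ℤ)) ^ 2) ≤ ((S.erase β).card : ℤ) * ∑ α ∈ S.erase β, (m α : ℤ) ^ 2 :=
    sq_sum_le_card_mul_sum_sq
  have hcard : ((S.erase β).card : ℤ) ≤ r - 1 := by
    rw [Finset.card_erase_of_mem hβ]
    have : S.card - 1 ≤ r - 1 := Nat.sub_le_sub_right hS 1
    have h2 : ((S.card - 1 : ℕ) : ℤ) ≤ ((r - 1 : ℕ) : ℤ) := by exact_mod_cast this
    rw [Nat.cast_sub hr] at h2
    simpa using h2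
  have hsumZ : (N : ℤ) = ∑ α ∈ S.erase β, (m α : ℤ) := by
    rw [hsum']; push_cast; rfl
  have htZ : (∑ α ∈ S.erase β, (m α : ℤ) ^ 2) ≤ t := by
    have : ∑ α ∈ S.erase β, m α ^ 2 ≤ t := by rw [← hsq', ← hsq]; exact ht
    exact_mod_cast this
  have hnn : (0 : ℤ) ≤ ∑ α ∈ S.erase β, (m α : ℤ) ^ 2 :=
    Finset.sum_nonneg fun α _ => by positivity
  have hN2le : (N : ℤ) ^ 2 ≤ (r - 1) * t := by
    rw [hsumZ]
    calc _ ≤ ((S.erase β).card : ℤ) * ∑ α ∈ S.erase β, (m α : ℤ) ^ 2 := hCS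
      _ ≤ (r - 1) * ∑ α ∈ S.erase β, (m α : ℤ) ^ 2 := mul_le_mul_of_nonneg_right hcard hnn
      _ ≤ (r - 1) * t := mul_le_mul_of_nonneg_left htZ (by linarith)
  have hge : (N : ℤ) + 1 ≤ r := by
    by_contra hcon
    push Not at hcon
    -- r ≤ N, so (r-1)^2 < N^2
    have h1 : (r : ℤ) * (N : ℤ) ^ 2 ≤ (r - 1) * ((N : ℤ) ^ 2 + r - 1) := by
      calc (r : ℤ) * (N : ℤ) ^ 2 ≤ r * ((r - 1) * t) := mul_le_mul_of_nonneg_left hN2le (by linarith)
        _ = (r - 1) * (r * t) := by ring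
        _ ≤ (r - 1) * ((N : ℤ) ^ 2 + r - 1) := mul_le_mul_of_nonneg_left hrt' (by linarith)
    nlinarith
  have : (r : ℤ) = N + 1 := le_antisymm hle hge
  exact_mod_cast this

end Cfsg.Agent.Helper5.HHMod
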