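import Mathlib
import Cfsg.Agent.Helper5.HHModA

/-!
# Hall–Higman module machinery, part B: eigenbases and the commutant of an operator of finite order
-/

set_option autoImplicit false

universe u v

namespace Cfsg.Agent.Helper5.HHMod

open Module

variable {K : Type u} [Field K] {Y : Type v} [AddCommGroup Y] [Module K Y]

/-- the commutant of an endomorphism -/
def commutant (T : Module.End K Y) : Submodule K (Module.End K Y) where
  carrier := {f | T * f = f * T}
  add_mem' := fun {a b} ha hb => by
    show T * (a + b) = (a + b) * T
    rw [mul_add, add_mul, ha, hb]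
  zero_mem' := by
    show T * 0 = 0 * T
    simp
  smul_mem' := fun c a ha => by
    show T * (c • a) = (c • a) * T
    rw [mul_smul_comm, smul_mul_assoc, ha]

theorem mem_commutant {T f : Module.End K Y} : f ∈ commutant T ↔ T * f = f * T := Iff.rfl

/-- an operator of finite order prime to the characteristic has an eigenbasis -/
theorem exists_eigenbasis [IsAlgClosed K] [FiniteDimensional K Y] (T : Module.End K Y) (r : ℕ)
    (hr : (r : K) ≠ 0) (hT : T ^ r = 1) :
    ∃ (ι : Type (max u v)) (_ : Fintype ι) (b : Basis ι K Y) (d : ι → K), ∀ i, T (b i) = d i • b i := by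
  classical
  have hsq : Squarefree (Polynomial.X ^ r - Polynomial.C (1 : K)) :=
    (Polynomial.separable_X_pow_sub_C (1 : K) hr one_ne_zero).squarefree
  have hss : T.IsSemisimple := by
    apply Module.End.isSemisimple_of_squarefree_aeval_eq_zero hsq
    simp [hT]
  have htop := hss.iSup_eigenspace_eq_top
  have hind := Module.End.eigenspaces_iSupIndep T
  have hint := DirectSum.isInternal_submodule_of_iSupIndep_of_iSup_eq_top hind htop
  let v : ∀ μ : K, Basis (Fin (finrank K (Module.End.eigenspace T μ))) K (Module.End.eigenspace T μ) :=
    fun μ => Module.finBasis K _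
  let b0 := hint.collectedBasis v
  let e : (Σ μ : K, Fin (finrank K (Module.End.eigenspace T μ))) ≃ ULift.{max u v} (Σ μ : K, Fin (finrank K (Module.End.eigenspace T μ))) :=
    Equiv.ulift.symm
  let b := b0.reindex e
  have : Fintype (ULift.{max u v} (Σ μ : K, Fin (finrank K (Module.End.eigenspace T μ)))) :=
    FiniteDimensional.fintypeBasisIndex b
  refine ⟨_, inferInstance, b, fun i => i.down.1, ?_⟩
  intro i
  have hmem : b i ∈ Module.End.eigenspace T i.down.1 := by
    have : b i = b0 i.down := by simp [b, e]
    rw [this]
    exact hint.collectedBasis_mem v i.down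
  exact Module.End.mem_eigenspace_iff.mp hmem

/-- matrix unit with respect to a basis -/
noncomputable def unitEnd {ι : Type*} (b : Basis ι K Y) (i j : ι) : Module.End K Y :=
  (b.coord j).smulRight (b i)

theorem unitEnd_apply {ι : Type*} (b : Basis ι K Y) (i j : ι) (y : Y) :
    unitEnd b i j y = b.coord j y • b i := rfl

theorem coord_basis {ι : Type*} [DecidableEq ι] (b : Basis ι K Y) (j k : ι) :
    b.coord j (b k) = if k = j then 1 else 0 := by
  simp [Finsupp.single_apply]

theorem unitEnd_mem_commutant {ι : Type*} [DecidableEq ι] (b : Basis ι K Y) (T : Module.End K Y) (d : ι → K)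
    (hd : ∀ i, T (b i) = d i • b i) (i j : ι) (hij : d i = d j) : unitEnd b i j ∈ commutant T := by
  rw [mem_commutant]
  apply b.ext
  intro k
  rw [Module.End.mul_apply, Module.End.mul_apply, unitEnd_apply, unitEnd_apply, map_smul, hd, hd, map_smul,
    coord_basis]
  by_cases hjk : k = j
  · subst hjk
    simp [hij]
  · simp [hjk]

theorem card_le_finrank_commutant [FiniteDimensional K Y] {ι : Type*} [Fintype ι] [DecidableEq ι]
    (b : Basis ι K Y) (T : Module.End K Y) (d : ι → K) (hd : ∀ i, T (b i) = d i • b i) :
    Nat.card {p : ι × ι // d p.1 = d p.2} ≤ finrank K (commutant T) := by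
  classical
  rw [Nat.card_eq_fintype_card]
  let F : {p : ι × ι // d p.1 = d p.2} → commutant T :=
    fun p => ⟨unitEnd b p.1.1 p.1.2, unitEnd_mem_commutant b T d hd _ _ p.2⟩
  have hli : LinearIndependent K F := by
    apply LinearIndependent.of_comp (commutant T).subtype
    rw [Fintype.linearIndependent_iff]
    intro g hg p0
    have h1 := congrArg (fun f : Module.End K Y => b.coord p0.1.1 (f (b p0.1.2))) hg
    simp only [Function.comp_apply, Submodule.coe_subtype, LinearMap.sum_apply, LinearMap.smul_apply,
      LinearMap.zero_apply, map_zero, map_sum, map_smul, smul_eq_mul] at h1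
    rw [Finset.sum_eq_single p0] at h1
    · simpa [F, unitEnd_apply, coord_basis] using h1
    · intro p _ hp
      simp only [F, unitEnd_apply, coord_basis, map_smul, smul_eq_mul]
      by_cases h2 : p0.1.2 = p.1.2
      · have h3 : p.1.1 ≠ p0.1.1 := by
          intro h3
          apply hp
          apply Subtype.ext
          exact Prod.ext h3 h2.symm
        simp [h3]
      · simp [h2]
    · intro h; exact absurd (Finset.mem_univ _) h
  exact hli.fintype_card_le_finrank

end Cfsg.Agent.Helper5.HHMod
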