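import Mathlib
import Cfsg.Agent.Helper5.HHModA
import Cfsg.Agent.Helper5.HHModB
import Cfsg.Agent.Helper5.FrobModB

/-!
# Hall–Higman module machinery, part C: Heisenberg-type irreducible representations

`Heis ρ Z`: `ρ` an irreducible representation of the finite group `Q` over an algebraically closed field,
`Z` a central subgroup containing all commutators, such that every `g ∉ Z` has a commutator acting
nontrivially.  Then the operators `ρ k` span `End Y`, and `(dim Y)² = |Q : Z|`.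
-/

set_option autoImplicit false

universe u v w

namespace Cfsg.Agent.Helper5.HHMod

open Module

variable {K : Type u} [Field K] {Y : Type v} [AddCommGroup Y] [Module K Y]
variable {Q : Type w} [Group Q]

/-- data of a "Heisenberg-type" irreducible representation -/
structure Heis (ρ : Representation K Q Y) (Z : Subgroup Q) : Prop where
  irr : ∀ W : Submodule K Y, (∀ u, ∀ y ∈ W, ρ u y ∈ W) → W = ⊥ ∨ W = ⊤
  central : Z ≤ Subgroup.center Q
  comm : ∀ g h : Q, g * h * g⁻¹ * h⁻¹ ∈ Z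
  nondeg : ∀ g : Q, g ∉ Z → ∃ h : Q, ρ (g * h * g⁻¹ * h⁻¹) ≠ 1
  card_ne : (Nat.card Q : K) ≠ 0

theorem rho_mul_inv (ρ : Representation K Q Y) (g : Q) : ρ g * ρ g⁻¹ = 1 := by
  rw [← map_mul, mul_inv_cancel, map_one]

theorem rho_inv_mul (ρ : Representation K Q Y) (g : Q) : ρ g⁻¹ * ρ g = 1 := by
  rw [← map_mul, inv_mul_cancel, map_one]

theorem rho_inv_mul_assoc (ρ : Representation K Q Y) (g : Q) (X : Module.End K Y) : ρ g⁻¹ * (ρ g * X) = X := by
  rw [← mul_assoc, rho_inv_mul, one_mul]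

theorem rho_mul_inv_assoc (ρ : Representation K Q Y) (g : Q) (X : Module.End K Y) : ρ g * (ρ g⁻¹ * X) = X := by
  rw [← mul_assoc, rho_mul_inv, one_mul]

theorem rho_ne_zero [Nontrivial Y] (ρ : Representation K Q Y) (g : Q) : ρ g ≠ 0 := by
  intro h
  have := rho_mul_inv ρ g
  rw [h, zero_mul] at this
  exact zero_ne_one this

theorem smul_rho_cancel [Nontrivial Y] (ρ : Representation K Q Y) (g : Q) {a b : K} (h : a • ρ g = b • ρ g) :
    a = b :=
  smul_left_injective K (rho_ne_zero ρ g) h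

/-- a multiplicative function with a value `≠ 1` sums to zero -/
theorem sum_mul_fun_eq_zero [Fintype Q] (f : Q → K) (hf : ∀ a b, f (a * b) = f a * f b) (a : Q) (ha : f a ≠ 1) :
    ∑ g, f g = 0 := by
  have h1 : ∑ g, f g = f a * ∑ g, f g := by
    rw [Finset.mul_sum, ← Equiv.sum_comp (Equiv.mulLeft a) f]
    exact Finset.sum_congr rfl fun g _ => hf a g
  have h2 : (1 - f a) * ∑ g, f g = 0 := by
    rw [sub_mul, one_mul, ← h1, sub_self]
  rcases mul_eq_zero.mp h2 with h | h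
  · exact absurd (sub_eq_zero.mp h).symm ha
  · exact h

variable [IsAlgClosed K] [FiniteDimensional K Y] [Nontrivial Y] [Finite Q]
variable {ρ : Representation K Q Y} {Z : Subgroup Q}

namespace Heis

theorem scalar (H : Heis ρ Z) (z : Q) (hz : z ∈ Z) : ∃ c : K, ρ z = c • 1 := by
  have hzc := H.central hz
  rw [Subgroup.mem_center_iff] at hzc
  obtain ⟨c, hc⟩ := FrobMod.schur_scalar ρ H.irr (ρ z) (fun u => by
    show ρ u * ρ z = ρ z * ρ u
    rw [← map_mul, ← map_mul, hzc u])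
  exact ⟨c, hc⟩

theorem exists_wt (H : Heis ρ Z) (g h : Q) : ∃ c : K, ρ g * ρ h * ρ g⁻¹ = c • ρ h := by
  obtain ⟨c, hc⟩ := H.scalar _ (H.comm g h)
  refine ⟨c, ?_⟩
  have : g * h * g⁻¹ = (g * h * g⁻¹ * h⁻¹) * h := by group
  rw [← map_mul, ← map_mul, this, map_mul, hc, smul_mul_assoc, one_mul]

/-- the commutator pairing -/
noncomputable def wt (H : Heis ρ Z) (g h : Q) : K := Classical.choose (H.exists_wt g h)

theorem wt_spec (H : Heis ρ Z) (g h : Q) : ρ g * ρ h * ρ g⁻¹ = H.wt g h • ρ h :=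
  Classical.choose_spec (H.exists_wt g h)

theorem wt_spec' (H : Heis ρ Z) (g h : Q) : ρ g * ρ h = H.wt g h • (ρ h * ρ g) := by
  have := congrArg (· * ρ g) (H.wt_spec g h)
  simp only [mul_assoc, rho_inv_mul, mul_one, smul_mul_assoc] at this
  exact this

theorem wt_mul_right (H : Heis ρ Z) (g h1 h2 : Q) : H.wt g (h1 * h2) = H.wt g h1 * H.wt g h2 := by
  apply smul_rho_cancel ρ (h1 * h2)
  rw [← H.wt_spec, map_mul, mul_smul]
  calc ρ g * (ρ h1 * ρ h2) * ρ g⁻¹ = (ρ g * ρ h1 * ρ g⁻¹) * (ρ g * ρ h2 * ρ g⁻¹) := by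
        simp only [mul_assoc]
        rw [← mul_assoc (ρ g⁻¹) (ρ g), rho_inv_mul, one_mul]
    _ = _ := by
        rw [H.wt_spec, H.wt_spec, smul_mul_assoc, mul_smul_comm]

theorem wt_mul_left (H : Heis ρ Z) (g1 g2 h : Q) : H.wt (g1 * g2) h = H.wt g1 h * H.wt g2 h := by
  apply smul_rho_cancel ρ h
  rw [← H.wt_spec, mul_inv_rev, map_mul, map_mul, mul_smul]
  calc ρ g1 * ρ g2 * ρ h * (ρ g2⁻¹ * ρ g1⁻¹) = ρ g1 * (ρ g2 * ρ h * ρ g2⁻¹) * ρ g1⁻¹ := by
        simp only [mul_assoc]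
    _ = _ := by
        rw [H.wt_spec, mul_smul_comm, smul_mul_assoc, H.wt_spec, smul_comm]

theorem wt_of_mem_left (H : Heis ρ Z) {g : Q} (hg : g ∈ Z) (h : Q) : H.wt g h = 1 := by
  apply smul_rho_cancel ρ h
  rw [← H.wt_spec, one_smul, ← map_mul, ← map_mul]
  have hzc := H.central hg
  rw [Subgroup.mem_center_iff] at hzc
  rw [← hzc h, mul_inv_cancel_right]

theorem wt_of_mem_right (H : Heis ρ Z) (g : Q) {h : Q} (hh : h ∈ Z) : H.wt g h = 1 := by
  apply smul_rho_cancel ρ h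
  rw [← H.wt_spec, one_smul, ← map_mul, ← map_mul]
  have hzc := H.central hh
  rw [Subgroup.mem_center_iff] at hzc
  rw [hzc g, mul_inv_cancel_right]

theorem wt_one_left (H : Heis ρ Z) (h : Q) : H.wt 1 h = 1 := H.wt_of_mem_left Z.one_mem h

theorem wt_one_right (H : Heis ρ Z) (g : Q) : H.wt g 1 = 1 := H.wt_of_mem_right g Z.one_mem

theorem wt_inv_right (H : Heis ρ Z) (g h : Q) : H.wt g h⁻¹ = (H.wt g h)⁻¹ := by
  have := H.wt_mul_right g h h⁻¹
  rw [mul_inv_cancel, wt_one_right] at this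
  exact eq_inv_of_mul_eq_one_right this.symm

theorem wt_inv_left (H : Heis ρ Z) (g h : Q) : H.wt g⁻¹ h = (H.wt g h)⁻¹ := by
  have := H.wt_mul_left g g⁻¹ h
  rw [mul_inv_cancel, wt_one_left] at this
  exact eq_inv_of_mul_eq_one_right this.symm

theorem exists_wt_ne_one_left (H : Heis ρ Z) {g : Q} (hg : g ∉ Z) : ∃ h, H.wt g h ≠ 1 := by
  obtain ⟨h, hh⟩ := H.nondeg g hg
  refine ⟨h, fun h1 => hh ?_⟩
  have h2 := H.wt_spec g h
  rw [h1, one_smul] at h2
  rw [map_mul, map_mul, map_mul, h2, rho_mul_inv]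

theorem exists_wt_ne_one_right (H : Heis ρ Z) {h : Q} (hh : h ∉ Z) : ∃ g, H.wt g h ≠ 1 := by
  obtain ⟨g, hg⟩ := H.nondeg h hh
  refine ⟨g, fun h1 => hg ?_⟩
  have h2 := H.wt_spec' g h
  rw [h1, one_smul] at h2
  rw [map_mul, map_mul, map_mul, ← h2, mul_assoc, mul_assoc, ← mul_assoc (ρ h), rho_mul_inv, one_mul, rho_mul_inv]

theorem sum_wt_left [Fintype Q] [DecidablePred (· ∈ Z)] (H : Heis ρ Z) (k : Q) :
    ∑ g, H.wt g k = if k ∈ Z then (Fintype.card Q : K) else 0 := by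
  split_ifs with hk
  · simp [H.wt_of_mem_right _ hk]
  · obtain ⟨g, hg⟩ := H.exists_wt_ne_one_right hk
    exact sum_mul_fun_eq_zero (fun g => H.wt g k) (fun a b => H.wt_mul_left a b k) g hg

theorem sum_wt_right [Fintype Q] [DecidablePred (· ∈ Z)] (H : Heis ρ Z) (g : Q) :
    ∑ k, H.wt g k = if g ∈ Z then (Fintype.card Q : K) else 0 := by
  split_ifs with hg
  · simp [H.wt_of_mem_left hg]
  · obtain ⟨k, hk⟩ := H.exists_wt_ne_one_left hg
    exact sum_mul_fun_eq_zero (fun k => H.wt g k) (fun a b => H.wt_mul_right g a b) k hk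

/-- twisted averaging operator -/
noncomputable def P [Fintype Q] (H : Heis ρ Z) (k : Q) : Module.End K Y →ₗ[K] Module.End K Y :=
  ∑ h : Q, H.wt h k⁻¹ • (LinearMap.mulLeft K (ρ h) ∘ₗ LinearMap.mulRight K (ρ h⁻¹))

theorem P_apply [Fintype Q] (H : Heis ρ Z) (k : Q) (f : Module.End K Y) :
    H.P k f = ∑ h : Q, H.wt h k⁻¹ • (ρ h * f * ρ h⁻¹) := by
  simp [P, LinearMap.sum_apply, mul_assoc]

theorem P_conj [Fintype Q] (H : Heis ρ Z) (g k : Q) (f : Module.End K Y) :
    ρ g * H.P k f * ρ g⁻¹ = H.wt g k • H.P k f := by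
  rw [P_apply, Finset.mul_sum, Finset.sum_mul, Finset.smul_sum]
  rw [← Equiv.sum_comp (Equiv.mulLeft g) (fun h => H.wt g k • H.wt h k⁻¹ • (ρ h * f * ρ h⁻¹))]
  refine Finset.sum_congr rfl fun h _ => ?_
  simp only [Equiv.coe_mulLeft]
  have e1 : H.wt g k * H.wt (g * h) k⁻¹ = H.wt h k⁻¹ := by
    rw [H.wt_mul_left g h k⁻¹, ← mul_assoc, ← H.wt_mul_right, mul_inv_cancel, H.wt_one_right, one_mul]
  rw [smul_smul, e1, mul_smul_comm, smul_mul_assoc, mul_inv_rev, map_mul, map_mul]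
  simp only [mul_assoc]

theorem P_scalar [Fintype Q] (H : Heis ρ Z) (k : Q) (f : Module.End K Y) : ∃ c : K, H.P k f = c • ρ k := by
  obtain ⟨c, hc⟩ := FrobMod.schur_scalar ρ H.irr (H.P k f * ρ k⁻¹) (fun u => by
    show ρ u * (H.P k f * ρ k⁻¹) = (H.P k f * ρ k⁻¹) * ρ u
    calc ρ u * (H.P k f * ρ k⁻¹) = (ρ u * H.P k f * ρ u⁻¹) * (ρ u * ρ k⁻¹ * ρ u⁻¹) * ρ u := by
          simp only [mul_assoc, rho_inv_mul_assoc, rho_inv_mul, mul_one]
      _ = _ := by
          rw [H.P_conj, H.wt_spec, smul_mul_assoc, mul_smul_comm, smul_smul, ← H.wt_mul_right, mul_inv_cancel,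
            H.wt_one_right, one_smul])
  refine ⟨c, ?_⟩
  have := congrArg (· * ρ k) hc
  simp only [mul_assoc, rho_inv_mul, mul_one] at this
  rw [this]
  ext y
  simp

theorem P_rho [Fintype Q] [DecidablePred (· ∈ Z)] (H : Heis ρ Z) (k k' : Q) :
    H.P k (ρ k') = (if k⁻¹ * k' ∈ Z then (Fintype.card Q : K) else 0) • ρ k' := by
  rw [P_apply, ← H.sum_wt_left, Finset.sum_smul]
  refine Finset.sum_congr rfl fun h _ => ?_
  rw [H.wt_spec, smul_smul, H.wt_mul_right]

theorem card_Z_ne (H : Heis ρ Z) : (Nat.card Z : K) ≠ 0 := by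
  intro h0
  apply H.card_ne
  obtain ⟨m, hm⟩ := Subgroup.card_subgroup_dvd_card Z
  rw [hm, Nat.cast_mul, h0, zero_mul]

theorem conj_of_mem (H : Heis ρ Z) {h : Q} (hh : h ∈ Z) (f : Module.End K Y) : ρ h * f * ρ h⁻¹ = f := by
  obtain ⟨c, hc⟩ := H.scalar h hh
  have h1 : ρ h * f = f * ρ h := by
    rw [hc]; simp
  rw [h1, mul_assoc, rho_mul_inv, mul_one]

theorem sum_P [Fintype Q] (H : Heis ρ Z) (f : Module.End K Y) :
    ∑ k, H.P k f = ((Fintype.card Q : K) * (Nat.card Z : K)) • f := by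
  classical
  simp only [P_apply]
  rw [Finset.sum_comm]
  have h1 : ∀ h : Q, ∑ k : Q, H.wt h k⁻¹ • (ρ h * f * ρ h⁻¹)
      = if h ∈ Z then (Fintype.card Q : K) • f else 0 := by
    intro h
    rw [← Finset.sum_smul, Fintype.sum_equiv (Equiv.inv Q) (fun k => H.wt h k⁻¹) (fun k => H.wt h k) (fun _ => rfl),
      H.sum_wt_right]
    split_ifs with hh
    · rw [H.conj_of_mem hh]
    · rw [zero_smul]
  simp only [h1]
  rw [Finset.sum_ite, Finset.sum_const_zero, add_zero, Finset.sum_const, ← Nat.cast_smul_eq_nsmul K, smul_smul,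
    ← Fintype.card_subtype, Nat.card_eq_fintype_card, mul_comm]

theorem span_top (H : Heis ρ Z) : Submodule.span K (Set.range ρ) = ⊤ := by
  classical
  have : Fintype Q := Fintype.ofFinite Q
  rw [eq_top_iff]
  intro f _
  have hne : ((Fintype.card Q : K) * (Nat.card Z : K)) ≠ 0 := by
    refine mul_ne_zero ?_ H.card_Z_ne
    have := H.card_ne
    rwa [Nat.card_eq_fintype_card] at this
  have h1 : f = ((Fintype.card Q : K) * (Nat.card Z : K))⁻¹ • ∑ k, H.P k f := by
    rw [H.sum_P, smul_smul, inv_mul_cancel₀ hne, one_smul]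
  rw [h1]
  refine Submodule.smul_mem _ _ (Submodule.sum_mem _ fun k _ => ?_)
  obtain ⟨c, hc⟩ := H.P_scalar k f
  rw [hc]
  exact Submodule.smul_mem _ _ (Submodule.subset_span ⟨k, rfl⟩)

/-- `ρ` of a product with a central element -/
theorem rho_mul_mem (H : Heis ρ Z) (k : Q) {z : Q} (hz : z ∈ Z) : ∃ c : K, ρ (k * z) = c • ρ k := by
  obtain ⟨c, hc⟩ := H.scalar z hz
  exact ⟨c, by rw [map_mul, hc]; simp⟩

theorem linearIndependent_out (H : Heis ρ Z) :
    LinearIndependent K (fun e : Q ⧸ Z => ρ (Quotient.out e)) := by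
  classical
  have : Fintype Q := Fintype.ofFinite Q
  have : Fintype (Q ⧸ Z) := Fintype.ofFinite _
  rw [Fintype.linearIndependent_iff]
  intro c hc e0
  have h1 := congrArg (H.P (Quotient.out e0)) hc
  rw [map_sum, map_zero] at h1
  simp only [map_smul, P_rho] at h1
  rw [Finset.sum_eq_single e0] at h1
  · have hmem : (Quotient.out e0)⁻¹ * Quotient.out e0 ∈ Z := by rw [inv_mul_cancel]; exact Z.one_mem
    rw [if_pos hmem, smul_smul] at h1
    have hQ : (Fintype.card Q : K) ≠ 0 := by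
      have := H.card_ne
      rwa [Nat.card_eq_fintype_card] at this
    rcases smul_eq_zero.mp h1 with h2 | h2
    · rcases mul_eq_zero.mp h2 with h3 | h3
      · exact h3
      · exact absurd h3 hQ
    · exact absurd h2 (rho_ne_zero ρ _)
  · intro e _ hne
    have hmem : ¬ (Quotient.out e0)⁻¹ * Quotient.out e ∈ Z := by
      intro hmem
      apply hne
      have := (QuotientGroup.eq (s := Z)).mpr hmem
      rw [QuotientGroup.out_eq', QuotientGroup.out_eq'] at this
      exact this.symm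
    rw [if_neg hmem, zero_smul, smul_zero]
  · intro h; exact absurd (Finset.mem_univ _) h

theorem span_out (H : Heis ρ Z) :
    Submodule.span K (Set.range (fun e : Q ⧸ Z => ρ (Quotient.out e))) = ⊤ := by
  rw [eq_top_iff, ← H.span_top, Submodule.span_le]
  rintro _ ⟨k, rfl⟩
  have hz : (Quotient.out (QuotientGroup.mk k : Q ⧸ Z))⁻¹ * k ∈ Z := by
    apply (QuotientGroup.eq (s := Z)).mp
    rw [QuotientGroup.out_eq']
  obtain ⟨c, hc⟩ := H.rho_mul_mem (Quotient.out (QuotientGroup.mk k : Q ⧸ Z)) hz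
  rw [mul_inv_cancel_left] at hc
  rw [SetLike.mem_coe, hc]
  exact Submodule.smul_mem _ _ (Submodule.subset_span ⟨_, rfl⟩)

/-- `(dim Y)² = |Q : Z|` -/
theorem finrank_sq (H : Heis ρ Z) : finrank K Y ^ 2 = Z.index := by
  classical
  have : Fintype (Q ⧸ Z) := Fintype.ofFinite _
  let b : Basis (Q ⧸ Z) K (Module.End K Y) := Basis.mk H.linearIndependent_out (by rw [H.span_out])
  have h1 := Module.finrank_eq_card_basis b
  rw [Module.finrank_linearMap] at h1
  rw [sq, h1, Subgroup.index, Nat.card_eq_fintype_card]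

end Heis

end Cfsg.Agent.Helper5.HHMod
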