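import Mathlib
import Cfsg.Agent.Helper5.HHModC

/-!
# Hall–Higman module machinery, part D: the commutant of a twisting operator

`card_orbits_mul`: orbit count for a group of prime order acting with a single common fixed point.
`avg`: the averaging operator `f ↦ Σ_{j<r} T^j f T^{-j}`.
-/

set_option autoImplicit false

universe u v w

namespace Cfsg.Agent.Helper5.HHMod

open Module

section count

theorem card_orbits_mul {S Ω0 : Type*} [Group S] [Finite S] [MulAction S Ω0] [Finite Ω0]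
    (r : ℕ) (hS : Nat.card S = r) (e0 : Ω0) (hfix : ∀ s : S, s ≠ 1 → ∀ e : Ω0, s • e = e ↔ e = e0) :
    Nat.card (Quotient (MulAction.orbitRel S Ω0)) * r = Nat.card Ω0 + (r - 1) := by
  classical
  have : Fintype S := Fintype.ofFinite S
  have : Fintype Ω0 := Fintype.ofFinite Ω0
  have : Fintype (Quotient (MulAction.orbitRel S Ω0)) := Fintype.ofFinite _
  have hB := MulAction.sum_card_fixedBy_eq_card_orbits_mul_card_group S Ω0
  rw [Nat.card_eq_fintype_card, Nat.card_eq_fintype_card, ← hS, Nat.card_eq_fintype_card, ← hB]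
  rw [← Finset.add_sum_erase Finset.univ _ (Finset.mem_univ (1 : S))]
  congr 1
  · rw [Fintype.card_congr (Equiv.setCongr (MulAction.fixedBy_one_eq_univ (α := Ω0) (M := S)))]
    exact Fintype.card_congr (Equiv.Set.univ Ω0)
  · have h1 : ∀ s ∈ Finset.univ.erase (1 : S), Fintype.card (MulAction.fixedBy Ω0 s) = 1 := by
      intro s hs
      have hs1 : s ≠ 1 := (Finset.mem_erase.mp hs).1
      rw [Fintype.card_eq_one_iff]
      refine ⟨⟨e0, (hfix s hs1 e0).mpr rfl⟩, ?_⟩
      rintro ⟨e, he⟩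
      exact Subtype.ext ((hfix s hs1 e).mp he)
    rw [Finset.sum_congr rfl h1, Finset.sum_const, smul_eq_mul, mul_one, Finset.card_erase_of_mem (Finset.mem_univ _),
      Finset.card_univ]

end count

section avg

variable {K : Type u} [Field K] {Y : Type v} [AddCommGroup Y] [Module K Y]

/-- the averaging operator for an operator `T` with inverse `T'` -/
noncomputable def avg (T T' : Module.End K Y) (r : ℕ) : Module.End K Y →ₗ[K] Module.End K Y :=
  ∑ j ∈ Finset.range r, LinearMap.mulLeft K (T ^ j) ∘ₗ LinearMap.mulRight K (T' ^ j)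

theorem avg_apply (T T' : Module.End K Y) (r : ℕ) (f : Module.End K Y) :
    avg T T' r f = ∑ j ∈ Finset.range r, T ^ j * f * T' ^ j := by
  simp [avg, LinearMap.sum_apply, mul_assoc]

theorem avg_of_mem_commutant {T T' : Module.End K Y} (hTT' : T * T' = 1) (r : ℕ)
    {f : Module.End K Y} (hf : f ∈ commutant T) : avg T T' r f = (r : K) • f := by
  rw [avg_apply]
  have h1 : ∀ j : ℕ, T ^ j * f * T' ^ j = f := by
    intro j
    have hc : Commute T f := hf
    have h2 : T ^ j * T' ^ j = 1 := by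
      induction j with
      | zero => simp
      | succ n ih =>
        rw [pow_succ, pow_succ', mul_assoc, ← mul_assoc T, hTT', one_mul, ih]
    rw [(hc.pow_left j).eq, mul_assoc, h2, mul_one]
  rw [Finset.sum_congr rfl (fun j _ => h1 j), Finset.sum_const, Finset.card_range, Nat.cast_smul_eq_nsmul]

variable {Q : Type w} [Group Q]

theorem conj_pow (ρ : Representation K Q Y) (σ : MulAut Q) {T T' : Module.End K Y}
    (hT : ∀ g, T * ρ g = ρ (σ g) * T) (hTT' : T * T' = 1) (j : ℕ) (g : Q) :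
    T ^ j * ρ g * T' ^ j = ρ ((σ ^ j) g) := by
  induction j with
  | zero => simp
  | succ n ih =>
    calc T ^ (n + 1) * ρ g * T' ^ (n + 1) = T * (T ^ n * ρ g * T' ^ n) * T' := by
          rw [pow_succ', pow_succ]; simp only [mul_assoc]
      _ = ρ ((σ ^ (n + 1)) g) := by
          rw [ih, hT, mul_assoc, hTT', mul_one, pow_succ', MulAut.mul_apply]

/-- the orbit sum -/
noncomputable def orbSum (ρ : Representation K Q Y) (σ : MulAut Q) (r : ℕ) (k : Q) : Module.End K Y :=
  ∑ j ∈ Finset.range r, ρ ((σ ^ j) k)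

theorem avg_rho (ρ : Representation K Q Y) (σ : MulAut Q) {T T' : Module.End K Y}
    (hT : ∀ g, T * ρ g = ρ (σ g) * T) (hTT' : T * T' = 1) (r : ℕ) (k : Q) :
    avg T T' r (ρ k) = orbSum ρ σ r k := by
  rw [avg_apply, orbSum]
  exact Finset.sum_congr rfl fun j _ => conj_pow ρ σ hT hTT' j k

theorem orbSum_sigma (ρ : Representation K Q Y) (σ : MulAut Q) (r : ℕ) (hσr : σ ^ r = 1) (k : Q) :
    orbSum ρ σ r (σ k) = orbSum ρ σ r k := by
  unfold orbSum
  have h1 : ∀ j : ℕ, (σ ^ j) (σ k) = (σ ^ (j + 1)) k := by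
    intro j
    rw [pow_succ, MulAut.mul_apply]
  simp only [h1]
  have h2 := Finset.sum_range_succ' (fun j => ρ ((σ ^ j) k)) r
  have h3 := Finset.sum_range_succ (fun j => ρ ((σ ^ j) k)) r
  rw [h3, hσr] at h2
  simp only [pow_zero] at h2
  exact (add_right_cancel h2).symm

theorem orbSum_of_mem_zpowers (ρ : Representation K Q Y) (σ : MulAut Q) (r : ℕ) (hσr : σ ^ r = 1)
    {τ : MulAut Q} (hτ : τ ∈ Subgroup.zpowers σ) (k : Q) :
    orbSum ρ σ r (τ k) = orbSum ρ σ r k := by
  let S : Subgroup (MulAut Q) :=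
    { carrier := {τ | ∀ k, orbSum ρ σ r (τ k) = orbSum ρ σ r k}
      one_mem' := fun k => rfl
      mul_mem' := fun {a b} ha hb k => by
        rw [MulAut.mul_apply, ha, hb]
      inv_mem' := fun {a} ha k => by
        have := ha (a⁻¹ k)
        rw [MulAut.apply_inv_self] at this
        exact this.symm }
  have hle : Subgroup.zpowers σ ≤ S := by
    rw [Subgroup.zpowers_le]
    exact fun k => orbSum_sigma ρ σ r hσr k
  exact hle hτ k

theorem fix_of_mem_zpowers (σ : MulAut Q) (Z : Subgroup Q) (hσZ : ∀ z ∈ Z, σ z = z)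
    {τ : MulAut Q} (hτ : τ ∈ Subgroup.zpowers σ) : ∀ z ∈ Z, τ z = z := by
  let S : Subgroup (MulAut Q) :=
    { carrier := {τ | ∀ z ∈ Z, τ z = z}
      one_mem' := fun z _ => rfl
      mul_mem' := fun {a b} ha hb z hz => by
        rw [MulAut.mul_apply, hb z hz, ha z hz]
      inv_mem' := fun {a} ha z hz => by
        have := ha z hz
        rw [← this, MulAut.inv_apply_self, this] }
  have hle : Subgroup.zpowers σ ≤ S := by
    rw [Subgroup.zpowers_le]
    exact hσZ
  exact hle hτ

end avg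

section bound

variable {K : Type u} [Field K] [IsAlgClosed K] {Y : Type v} [AddCommGroup Y] [Module K Y]
  [FiniteDimensional K Y] [Nontrivial Y]
variable {Q : Type w} [Group Q] [Finite Q] {ρ : Representation K Q Y} {Z : Subgroup Q}

theorem orbSum_mul_mem (H : Heis ρ Z) (σ : MulAut Q) (r : ℕ) (hσZ : ∀ z ∈ Z, σ z = z) (k : Q) {z : Q}
    (hz : z ∈ Z) : ∃ c : K, orbSum ρ σ r (k * z) = c • orbSum ρ σ r k := by
  obtain ⟨c, hc⟩ := H.scalar z hz
  refine ⟨c, ?_⟩
  unfold orbSum
  rw [Finset.smul_sum]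
  refine Finset.sum_congr rfl fun j _ => ?_
  have hj : (σ ^ j) z = z := fix_of_mem_zpowers σ Z hσZ (Subgroup.pow_mem _ (Subgroup.mem_zpowers σ) j) z hz
  rw [map_mul, hj, map_mul, hc]
  simp

/-- the quotient action of the cyclic group generated by `σ` on `Q ⧸ Z` -/
theorem quotientAction_zpowers (σ : MulAut Q) (Z : Subgroup Q) (hσZ : ∀ z ∈ Z, σ z = z) :
    MulAction.QuotientAction ↥(Subgroup.zpowers σ) Z where
  inv_mul_mem := fun s {a a'} h => by
    have h1 : (s • a)⁻¹ * s • a' = (s : MulAut Q) (a⁻¹ * a') := by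
      show ((s : MulAut Q) a)⁻¹ * (s : MulAut Q) a' = _
      rw [map_mul, map_inv]
    rw [h1, fix_of_mem_zpowers σ Z hσZ s.2 _ h]
    exact h

theorem card_orbits_zpowers (H : Heis ρ Z) (hZtop : Z ≠ ⊤) (σ : MulAut Q) (r : ℕ) (hr : r.Prime)
    (hσr : σ ^ r = 1) (hσZ : ∀ z ∈ Z, σ z = z) (hfpf : ∀ k, σ k * k⁻¹ ∈ Z → k ∈ Z) :
    letI := quotientAction_zpowers σ Z hσZ
    Nat.card (Quotient (MulAction.orbitRel ↥(Subgroup.zpowers σ) (Q ⧸ Z))) * r = Z.index + (r - 1) := by
  letI := quotientAction_zpowers σ Z hσZ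
  haveI : Fact r.Prime := ⟨hr⟩
  have hS : Nat.card ↥(Subgroup.zpowers σ) = r := by
    rw [Nat.card_zpowers]
    rcases (Nat.dvd_prime hr).mp (orderOf_dvd_of_pow_eq_one hσr) with h | h
    · exfalso
      apply hZtop
      rw [eq_top_iff]
      intro k _
      apply hfpf
      rw [orderOf_eq_one_iff] at h
      rw [h, MulAut.one_apply, mul_inv_cancel]
      exact Z.one_mem
    · exact h
  have hfix : ∀ s : ↥(Subgroup.zpowers σ), s ≠ 1 → ∀ e : Q ⧸ Z, s • e = e ↔ e = QuotientGroup.mk 1 := by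
    intro s hs e
    constructor
    · intro he
      have htop := zpowers_eq_top_of_prime_card hS hs
      have hmem : (⟨σ, Subgroup.mem_zpowers σ⟩ : ↥(Subgroup.zpowers σ)) ∈ Subgroup.zpowers s := by
        rw [htop]; trivial
      obtain ⟨j, hj⟩ := Subgroup.mem_zpowers_iff.mp hmem
      have h1 : (s ^ j) • e = e := MulAction.mem_fixedBy_zpow (MulAction.mem_fixedBy.mpr he) j
      rw [hj] at h1
      induction e using QuotientGroup.induction_on with
      | H k =>
        rw [MulAction.Quotient.smul_mk] at h1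
        have h2 : (σ k)⁻¹ * k ∈ Z := (QuotientGroup.eq (s := Z)).mp h1
        have h3 : σ k * k⁻¹ = ((σ k)⁻¹ * k)⁻¹ := by
          have hc := H.central h2
          rw [Subgroup.mem_center_iff] at hc
          have := hc (σ k)
          rw [mul_inv_rev, inv_inv]
          -- σ k * ((σ k)⁻¹ * k) = ((σ k)⁻¹ * k) * σ k
          have h4 : k = (σ k)⁻¹ * k * σ k := by
            rw [← this, mul_inv_cancel_left]
          calc σ k * k⁻¹ = σ k * ((σ k)⁻¹ * k * σ k)⁻¹ := by rw [← h4]
            _ = k⁻¹ * σ k := by group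
        have h5 : k ∈ Z := hfpf k (by rw [h3]; exact Z.inv_mem h2)
        apply (QuotientGroup.eq (s := Z)).mpr
        rw [mul_one]
        exact Z.inv_mem h5
    · rintro rfl
      rw [MulAction.Quotient.smul_mk]
      congr 1
      exact map_one (s : MulAut Q)
  have := card_orbits_mul (S := ↥(Subgroup.zpowers σ)) (Ω0 := Q ⧸ Z) r hS (QuotientGroup.mk 1) hfix
  rw [this]
  rfl

theorem finrank_commutant_le (H : Heis ρ Z) (hZtop : Z ≠ ⊤) (σ : MulAut Q) (r : ℕ) (hr : r.Prime)
    (hrK : (r : K) ≠ 0) (hσr : σ ^ r = 1) (hσZ : ∀ z ∈ Z, σ z = z) (hfpf : ∀ k, σ k * k⁻¹ ∈ Z → k ∈ Z)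
    (T T' : Module.End K Y) (hT : ∀ g, T * ρ g = ρ (σ g) * T) (hTT' : T * T' = 1) :
    finrank K (commutant T) * r ≤ Z.index + (r - 1) := by
  classical
  letI := quotientAction_zpowers σ Z hσZ
  rw [← card_orbits_zpowers H hZtop σ r hr hσr hσZ hfpf]
  refine Nat.mul_le_mul_right r ?_
  have : Fintype (Quotient (MulAction.orbitRel ↥(Subgroup.zpowers σ) (Q ⧸ Z))) := Fintype.ofFinite _
  rw [Nat.card_eq_fintype_card]
  let v : Quotient (MulAction.orbitRel ↥(Subgroup.zpowers σ) (Q ⧸ Z)) → Module.End K Y :=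
    fun ω => orbSum ρ σ r (Quotient.out (Quotient.out ω : Q ⧸ Z))
  have hk : ∀ k : Q, orbSum ρ σ r k ∈ Submodule.span K (Set.range v) := by
    intro k
    set ω : Quotient (MulAction.orbitRel ↥(Subgroup.zpowers σ) (Q ⧸ Z)) :=
      Quotient.mk'' (QuotientGroup.mk k : Q ⧸ Z) with hω
    have h1 : (Quotient.out ω : Q ⧸ Z) ∈ MulAction.orbit ↥(Subgroup.zpowers σ) (QuotientGroup.mk k : Q ⧸ Z) := by
      have : Quotient.mk'' (Quotient.out ω) = ω := Quotient.out_eq' ω
      rw [hω] at this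
      exact Quotient.exact' this
    obtain ⟨s, hs⟩ := h1
    simp only at hs
    rw [MulAction.Quotient.smul_mk] at hs
    have h2 : (Quotient.out (Quotient.out ω : Q ⧸ Z))⁻¹ * (s : MulAut Q) k ∈ Z := by
      apply (QuotientGroup.eq (s := Z)).mp
      rw [QuotientGroup.out_eq']
      exact hs.symm
    obtain ⟨c, hc⟩ := orbSum_mul_mem H σ r hσZ (Quotient.out (Quotient.out ω : Q ⧸ Z)) h2
    rw [mul_inv_cancel_left, orbSum_of_mem_zpowers ρ σ r hσr s.2] at hc
    rw [hc]
    exact Submodule.smul_mem _ _ (Submodule.subset_span ⟨ω, rfl⟩)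
  have hle : commutant T ≤ Submodule.span K (Set.range v) := by
    intro f hf
    have h1 : f = (r : K)⁻¹ • avg T T' r f := by
      rw [avg_of_mem_commutant hTT' r hf, smul_smul, inv_mul_cancel₀ hrK, one_smul]
    rw [h1]
    refine Submodule.smul_mem _ _ ?_
    have h2 : f ∈ Submodule.span K (Set.range ρ) := by rw [H.span_top]; trivial
    have h3 : avg T T' r f ∈ Submodule.map (avg T T' r) (Submodule.span K (Set.range ρ)) :=
      Submodule.mem_map_of_mem h2
    rw [Submodule.map_span] at h3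
    refine (Submodule.span_le.mpr ?_) h3
    rintro _ ⟨_, ⟨k, rfl⟩, rfl⟩
    rw [avg_rho ρ σ hT hTT']
    exact hk k
  exact (Submodule.finrank_mono hle).trans (finrank_range_le_card v)

end bound

end Cfsg.Agent.Helper5.HHMod
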