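import Mathlib
import Cfsg.Agent.Helper5.HHModD

/-!
# Hall–Higman module machinery, part E: eigenvalues of a twisting operator, and its existence
-/

set_option autoImplicit false

universe u v w

namespace Cfsg.Agent.Helper5.HHMod

open Module

variable {K : Type u} [Field K] [IsAlgClosed K] {Y : Type v} [AddCommGroup Y] [Module K Y]
  [FiniteDimensional K Y] [Nontrivial Y]
variable {Q : Type w} [Group Q] [Finite Q] {ρ : Representation K Q Y} {Z : Subgroup Q}

/-- every `r`-th root of unity is an eigenvalue of the twisting operator, unless `r = dim Y + 1` -/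
theorem eigen_or_eq (H : Heis ρ Z) (hZtop : Z ≠ ⊤) (σ : MulAut Q) (r : ℕ) (hr : r.Prime)
    (hrK : (r : K) ≠ 0) (hσr : σ ^ r = 1) (hσZ : ∀ z ∈ Z, σ z = z) (hfpf : ∀ k, σ k * k⁻¹ ∈ Z → k ∈ Z)
    (T : Module.End K Y) (hT : ∀ g, T * ρ g = ρ (σ g) * T) (hTr : T ^ r = 1) (β : K) (hβ : β ^ r = 1) :
    (∃ y : Y, y ≠ 0 ∧ T y = β • y) ∨ r = finrank K Y + 1 := by
  classical
  have hTT' : T * T ^ (r - 1) = 1 := by
    rw [← pow_succ', Nat.sub_add_cancel hr.one_le, hTr]
  obtain ⟨ι, hι, b, d, hd⟩ := exists_eigenbasis T r hrK hTr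
  have hN : finrank K Y = Fintype.card ι := Module.finrank_eq_card_basis b
  have hdr : ∀ i, d i ^ r = 1 := by
    intro i
    have h1 : ∀ n : ℕ, (T ^ n) (b i) = d i ^ n • b i := by
      intro n
      induction n with
      | zero => simp
      | succ n ih => rw [pow_succ', Module.End.mul_apply, ih, map_smul, hd, smul_smul, pow_succ]
    have h2 := h1 r
    rw [hTr, Module.End.one_apply] at h2
    have h3 : (d i ^ r - 1) • b i = 0 := by rw [sub_smul, ← h2, one_smul, sub_self]
    rcases smul_eq_zero.mp h3 with h | h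
    · exact sub_eq_zero.mp h
    · exact absurd h (b.ne_zero i)
  have hdS : ∀ i, d i ∈ Polynomial.nthRootsFinset r (1 : K) := fun i =>
    (Polynomial.mem_nthRootsFinset hr.pos 1).mpr (hdr i)
  have hScard : (Polynomial.nthRootsFinset r (1 : K)).card ≤ r := by
    rw [Polynomial.nthRootsFinset_def]
    exact (Multiset.toFinset_card_le _).trans (Polynomial.card_nthRoots r 1)
  have hsq := H.finrank_sq
  have hidx : 2 ≤ Z.index := by
    have h1 : Z.index ≠ 1 := fun h => hZtop (Subgroup.index_eq_one.mp h)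
    have h0 : Z.index ≠ 0 := Subgroup.index_ne_zero_of_finite
    omega
  have hN2 : 2 ≤ Fintype.card ι := by
    rw [← hN]
    by_contra hcon
    push Not at hcon
    have : finrank K Y ^ 2 ≤ 1 := by
      have : finrank K Y ≤ 1 := by omega
      calc finrank K Y ^ 2 ≤ 1 ^ 2 := Nat.pow_le_pow_left this 2
        _ = 1 := by norm_num
    omega
  have ht : Fintype.card {p : ι × ι // d p.1 = d p.2} ≤ finrank K (commutant T) := by
    rw [← Nat.card_eq_fintype_card]
    exact card_le_finrank_commutant b T d hd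
  have hbound := finrank_commutant_le H hZtop σ r hr hrK hσr hσZ hfpf T (T ^ (r - 1)) hT hTT'
  have hrt : r * finrank K (commutant T) ≤ Fintype.card ι ^ 2 + r - 1 := by
    rw [← hN, hsq, mul_comm]
    have := hr.one_le
    omega
  obtain ⟨_, h2⟩ := arith_core d (Polynomial.nthRootsFinset r (1 : K)) hdS r hScard hN2
    (finrank K (commutant T)) ht hrt
  by_cases hex : ∃ i, d i = β
  · obtain ⟨i, hi⟩ := hex
    left
    exact ⟨b i, b.ne_zero i, by rw [hd, hi]⟩
  · right
    push Not at hex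
    rw [hN]
    exact h2 β ((Polynomial.mem_nthRootsFinset hr.pos 1).mpr hβ) hex

/-- existence of the twisting operator -/
theorem exists_twist (H : Heis ρ Z) (σ : MulAut Q) (r : ℕ) (hr : 0 < r) (hσr : σ ^ r = 1)
    (hσZ : ∀ z ∈ Z, σ z = z) (hfpf : ∀ k, σ k * k⁻¹ ∈ Z → k ∈ Z) :
    ∃ T : Module.End K Y, (∀ g, T * ρ g = ρ (σ g) * T) ∧ T ^ r = 1 := by
  classical
  have : Fintype Q := Fintype.ofFinite Q
  set R : Module.End K Y := ∑ k : Q, ρ (σ k) * ρ k⁻¹ with hRdef
  have hR : ∀ g, R * ρ g = ρ (σ g) * R := by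
    intro g
    rw [hRdef, Finset.sum_mul, Finset.mul_sum]
    rw [← Equiv.sum_comp (Equiv.mulLeft g) (fun k => ρ (σ k) * ρ k⁻¹ * ρ g)]
    refine Finset.sum_congr rfl fun k _ => ?_
    simp only [Equiv.coe_mulLeft]
    rw [map_mul σ, map_mul ρ, mul_inv_rev, map_mul ρ, mul_assoc, mul_assoc, mul_assoc, rho_inv_mul, mul_one]
  have hQne : (Fintype.card Q : K) ≠ 0 := by
    have := H.card_ne
    rwa [Nat.card_eq_fintype_card] at this
  have hPR : H.P 1 R = ((Fintype.card Q : K) * (Nat.card Z : K)) • 1 := by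
    have h1 : ∀ k : Q, H.P 1 (ρ (σ k) * ρ k⁻¹) = if k ∈ Z then (Fintype.card Q : K) • 1 else 0 := by
      intro k
      rw [← map_mul, Heis.P_rho, inv_one, one_mul]
      by_cases hk : k ∈ Z
      · have : σ k * k⁻¹ = 1 := by rw [hσZ k hk, mul_inv_cancel]
        rw [this, if_pos Z.one_mem, if_pos hk, map_one]
      · have : ¬ σ k * k⁻¹ ∈ Z := fun h => hk (hfpf k h)
        rw [if_neg this, if_neg hk, zero_smul]
    rw [hRdef, map_sum]
    simp only [h1]
    rw [Finset.sum_ite, Finset.sum_const_zero, add_zero, Finset.sum_const, ← Nat.cast_smul_eq_nsmul K, smul_smul,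
      ← Fintype.card_subtype, Nat.card_eq_fintype_card, mul_comm]
  have hR0 : R ≠ 0 := by
    intro h0
    rw [h0, map_zero] at hPR
    have hne : ((Fintype.card Q : K) * (Nat.card Z : K)) ≠ 0 := mul_ne_zero hQne H.card_Z_ne
    rcases smul_eq_zero.mp hPR.symm with h | h
    · exact hne h
    · exact one_ne_zero h
  have hker : LinearMap.ker R = ⊥ := by
    rcases H.irr (LinearMap.ker R) (fun u y hy => by
      rw [LinearMap.mem_ker] at hy ⊢
      have := congrArg (fun f : Module.End K Y => f y) (hR u)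
      simp only [Module.End.mul_apply] at this
      rw [this, hy, map_zero]) with h | h
    · exact h
    · exfalso
      apply hR0
      exact LinearMap.ker_eq_top.mp h
  have hRinj : Function.Injective R := LinearMap.ker_eq_bot.mp hker
  have hRpow : ∀ j : ℕ, ∀ g, R ^ j * ρ g = ρ ((σ ^ j) g) * R ^ j := by
    intro j
    induction j with
    | zero => intro g; simp
    | succ n ih =>
      intro g
      rw [pow_succ', mul_assoc, ih, ← mul_assoc, hR, mul_assoc, pow_succ' σ, MulAut.mul_apply]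
  obtain ⟨c, hc⟩ := FrobMod.schur_scalar ρ H.irr (R ^ r) (fun u => by
    show ρ u * R ^ r = R ^ r * ρ u
    rw [hRpow r u, hσr, MulAut.one_apply])
  have hc' : R ^ r = c • 1 := hc
  have hc0 : c ≠ 0 := by
    intro h0
    rw [h0, zero_smul] at hc'
    obtain ⟨y, hy⟩ := exists_ne (0 : Y)
    have hinj : Function.Injective (R ^ r) := by
      rw [Module.End.coe_pow]
      exact hRinj.iterate r
    apply hy
    apply hinj
    rw [hc', map_zero]
    rfl
  obtain ⟨γ, hγ⟩ := IsAlgClosed.exists_pow_nat_eq c⁻¹ hr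
  refine ⟨γ • R, fun g => ?_, ?_⟩
  · rw [smul_mul_assoc, hR, mul_smul_comm]
  · rw [smul_pow, hγ, hc', smul_smul, inv_mul_cancel₀ hc0, one_smul]

end Cfsg.Agent.Helper5.HHMod
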