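import Mathlib
import Cfsg.Agent.Helper5.HHModE

/-!
# Hall–Higman module machinery, part F: fixed vectors in an ambient module

`fixed_or_eq`: a Heisenberg-type irreducible `Q`-module `Y` mapping equivariantly and nontrivially to an
ambient module `M` of a group `A` containing an element `x` of prime order `r` inducing the fixed-point-free
automorphism `σ`: then `x` has a nonzero fixed vector on `M`, or `r = dim Y + 1`.
-/

set_option autoImplicit false

universe u v w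

namespace Cfsg.Agent.Helper5.HHMod

open Module

variable {K : Type u} [Field K] [IsAlgClosed K] {Y : Type v} [AddCommGroup Y] [Module K Y]
  [FiniteDimensional K Y] [Nontrivial Y]
variable {Q : Type w} [Group Q] [Finite Q] {ρ : Representation K Q Y} {Z : Subgroup Q}

theorem fixed_or_eq {A : Type*} [Group A] {M : Type*} [AddCommGroup M] [Module K M] [FiniteDimensional K M]
    (ρA : Representation K A M) (H : Heis ρ Z) (hZtop : Z ≠ ⊤) (σ : MulAut Q) (r : ℕ) (hr : r.Prime)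
    (hrK : (r : K) ≠ 0) (hσr : σ ^ r = 1) (hσZ : ∀ z ∈ Z, σ z = z) (hfpf : ∀ k, σ k * k⁻¹ ∈ Z → k ∈ Z)
    (j : Q →* A) (x : A) (hx : ∀ g, x * j g * x⁻¹ = j (σ g)) (hxr : x ^ r = 1)
    (ι : Y →ₗ[K] M) (hι0 : ι ≠ 0) (hι : ∀ g, ρA (j g) ∘ₗ ι = ι ∘ₗ ρ g) :
    (∃ m : M, m ≠ 0 ∧ ρA x m = m) ∨ r = finrank K Y + 1 := by
  classical
  obtain ⟨T, hT, hTr⟩ := exists_twist H σ r hr.pos hσr hσZ hfpf
  -- the space of equivariant maps
  let W : Submodule K (Y →ₗ[K] M) :=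
    { carrier := {φ | ∀ g, ρA (j g) ∘ₗ φ = φ ∘ₗ ρ g}
      add_mem' := fun {a b} ha hb g => by
        rw [LinearMap.comp_add, LinearMap.add_comp, ha g, hb g]
      zero_mem' := fun g => by simp
      smul_mem' := fun c a ha g => by
        rw [LinearMap.comp_smul, LinearMap.smul_comp, ha g] }
  have hxinv : ∀ g, ρA x⁻¹ ∘ₗ ρA (j (σ g)) = ρA (j g) ∘ₗ ρA x⁻¹ := by
    intro g
    show ρA x⁻¹ * ρA (j (σ g)) = ρA (j g) * ρA x⁻¹
    rw [← map_mul, ← map_mul, ← hx g]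
    congr 1
    group
  let B0 : (Y →ₗ[K] M) →ₗ[K] (Y →ₗ[K] M) :=
    { toFun := fun φ => ρA x⁻¹ ∘ₗ φ ∘ₗ T
      map_add' := fun a b => by
        rw [LinearMap.add_comp, LinearMap.comp_add]
      map_smul' := fun c a => by
        rw [LinearMap.smul_comp, LinearMap.comp_smul]; rfl }
  have hB0 : ∀ φ ∈ W, B0 φ ∈ W := by
    intro φ hφ g
    show ρA (j g) ∘ₗ (ρA x⁻¹ ∘ₗ φ ∘ₗ T) = (ρA x⁻¹ ∘ₗ φ ∘ₗ T) ∘ₗ ρ g
    have hTg : T ∘ₗ ρ g = ρ (σ g) ∘ₗ T := hT g
    rw [← LinearMap.comp_assoc, ← hxinv g, LinearMap.comp_assoc, ← LinearMap.comp_assoc _ φ, hφ (σ g),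
      LinearMap.comp_assoc, LinearMap.comp_assoc, LinearMap.comp_assoc, hTg]
  let B : Module.End K W := B0.restrict hB0
  have hιW : ι ∈ W := hι
  haveI : Nontrivial W := ⟨⟨⟨ι, hιW⟩, 0, fun h => hι0 (congrArg Subtype.val h)⟩⟩
  obtain ⟨lam, hlam⟩ := Module.End.exists_eigenvalue B
  obtain ⟨φ', hφ'⟩ := hlam.exists_hasEigenvector
  have hφ'0 : φ' ≠ 0 := hφ'.2
  have hφ'e : B φ' = lam • φ' := hφ'.apply_eq_smul
  set φ : Y →ₗ[K] M := φ'.1 with hφdef
  have hφW : ∀ g, ρA (j g) ∘ₗ φ = φ ∘ₗ ρ g := φ'.2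
  have hφ0 : φ ≠ 0 := fun h => hφ'0 (Subtype.ext h)
  have hφe : ρA x⁻¹ ∘ₗ φ ∘ₗ T = lam • φ := by
    have := congrArg Subtype.val hφ'e
    exact this
  -- `T` is invertible
  have hTT' : T * T ^ (r - 1) = 1 := by
    rw [← pow_succ', Nat.sub_add_cancel hr.one_le, hTr]
  have hT'T : T ^ (r - 1) * T = 1 := by
    rw [← pow_succ, Nat.sub_add_cancel hr.one_le, hTr]
  have hlam0 : lam ≠ 0 := by
    intro h0
    rw [h0, zero_smul] at hφe
    apply hφ0
    have h1 : ρA x ∘ₗ (ρA x⁻¹ ∘ₗ φ ∘ₗ T) ∘ₗ T ^ (r - 1) = 0 := by rw [hφe]; simp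
    have h2 : ρA x ∘ₗ (ρA x⁻¹ ∘ₗ φ ∘ₗ T) ∘ₗ T ^ (r - 1) = φ := by
      ext y
      simp only [LinearMap.comp_apply]
      have h3 : T ((T ^ (r - 1)) y) = y := by
        rw [← Module.End.mul_apply, hTT', Module.End.one_apply]
      rw [h3, ← Module.End.mul_apply, ← map_mul, mul_inv_cancel, map_one, Module.End.one_apply]
    rw [← h2, h1]
  -- `φ` is injective
  have hφinj : Function.Injective φ := by
    rw [← LinearMap.ker_eq_bot]
    rcases H.irr (LinearMap.ker φ) (fun u y hy => by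
      rw [LinearMap.mem_ker] at hy ⊢
      have := congrArg (fun f : Y →ₗ[K] M => f y) (hφW u)
      simp only [LinearMap.comp_apply] at this
      rw [← this, hy, map_zero]) with h | h
    · exact h
    · exact absurd (LinearMap.ker_eq_top.mp h) hφ0
  -- the rescaled operator
  set T1 : Module.End K Y := lam⁻¹ • T with hT1
  have hφT1 : φ ∘ₗ T1 = ρA x ∘ₗ φ := by
    have h1 : ρA x ∘ₗ (ρA x⁻¹ ∘ₗ φ ∘ₗ T) = φ ∘ₗ T := by
      ext y
      simp only [LinearMap.comp_apply]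
      rw [← Module.End.mul_apply, ← map_mul, mul_inv_cancel, map_one, Module.End.one_apply]
    rw [hφe, LinearMap.comp_smul] at h1
    rw [hT1, LinearMap.comp_smul, ← h1, smul_smul, inv_mul_cancel₀ hlam0, one_smul]
  have hφT1pow : ∀ n : ℕ, φ ∘ₗ (T1 ^ n) = ρA (x ^ n) ∘ₗ φ := by
    intro n
    induction n with
    | zero =>
      ext y
      simp
    | succ n ih =>
      have e1 : T1 ^ (n + 1) = T1 ^ n * T1 := pow_succ _ _
      have e2 : φ ∘ₗ (T1 ^ n * T1) = (φ ∘ₗ T1 ^ n) ∘ₗ T1 := rfl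
      rw [e1, e2, ih, LinearMap.comp_assoc, hφT1, ← LinearMap.comp_assoc, pow_succ, map_mul]
      rfl
  have hT1r : T1 ^ r = 1 := by
    have h1 := hφT1pow r
    rw [hxr, map_one] at h1
    ext y
    apply hφinj
    have := congrArg (fun f : Y →ₗ[K] M => f y) h1
    simpa using this
  have hT1 : ∀ g, T1 * ρ g = ρ (σ g) * T1 := by
    intro g
    rw [hT1, smul_mul_assoc, hT, mul_smul_comm]
  rcases eigen_or_eq H hZtop σ r hr hrK hσr hσZ hfpf T1 hT1 hT1r 1 (one_pow r) with h | h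
  · left
    obtain ⟨y, hy0, hy⟩ := h
    refine ⟨φ y, fun h0 => hy0 (hφinj (by rw [h0, map_zero])), ?_⟩
    have := congrArg (fun f : Y →ₗ[K] M => f y) hφT1
    simp only [LinearMap.comp_apply] at this
    rw [← this, hy, one_smul]
  · right
    exact h

end Cfsg.Agent.Helper5.HHMod
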