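import Mathlib
import Cfsg.Agent.Helper5.HHModF
import Cfsg.Agent.Helper5.FrobModI

/-!
# Hall–Higman module machinery, part G: subgroup form over an algebraically closed field
-/

set_option autoImplicit false

universe u v w

namespace Cfsg.Agent.Helper5.HHMod

open Module Cfsg.Agent.Helper5.FrobMod

section defs

variable {K : Type*} [Field K] {M : Type*} [AddCommGroup M] [Module K M]
variable {A : Type*} [Group A]

/-- restriction of a representation to a subgroup and an invariant subspace -/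
noncomputable def subRep (ρA : Representation K A M) (Qs : Subgroup A) (Ys : Submodule K M)
    (hinv : Inv ρA Qs Ys) : Representation K ↥Qs ↥Ys where
  toFun g := (ρA (g : A)).restrict (fun y hy => hinv g g.2 y hy)
  map_one' := by
    ext y
    simp
  map_mul' a b := by
    ext y
    simp [map_mul]

theorem subRep_apply (ρA : Representation K A M) (Qs : Subgroup A) (Ys : Submodule K M)
    (hinv : Inv ρA Qs Ys) (g : Qs) (y : Ys) : ((subRep ρA Qs Ys hinv g y : Ys) : M) = ρA (g : A) (y : M) := rfl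

/-- conjugation by a normalizing element, as an automorphism of the subgroup -/
def conjAut (Qs : Subgroup A) (x : A) (hx : x ∈ Subgroup.normalizer (Qs : Set A)) : MulAut ↥Qs where
  toFun g := ⟨x * g * x⁻¹, (Subgroup.mem_normalizer_iff.mp hx g).mp g.2⟩
  invFun g := ⟨x⁻¹ * g * x, by
    have := (Subgroup.mem_normalizer_iff.mp (Subgroup.inv_mem _ hx) g).mp g.2
    rwa [inv_inv] at this⟩
  left_inv g := by
    apply Subtype.ext
    show x⁻¹ * (x * g * x⁻¹) * x = g
    group
  right_inv g := by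
    apply Subtype.ext
    show x * (x⁻¹ * g * x) * x⁻¹ = g
    group
  map_mul' a b := by
    apply Subtype.ext
    show x * (a * b) * x⁻¹ = (x * a * x⁻¹) * (x * b * x⁻¹)
    group

theorem conjAut_apply (Qs : Subgroup A) (x : A) (hx : x ∈ Subgroup.normalizer (Qs : Set A)) (g : Qs) :
    ((conjAut Qs x hx g : Qs) : A) = x * g * x⁻¹ := rfl

theorem conjAut_pow_apply (Qs : Subgroup A) (x : A) (hx : x ∈ Subgroup.normalizer (Qs : Set A)) (n : ℕ) (g : Qs) :
    (((conjAut Qs x hx ^ n) g : Qs) : A) = x ^ n * g * (x ^ n)⁻¹ := by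
  induction n with
  | zero => simp
  | succ n ih =>
    rw [pow_succ', MulAut.mul_apply, conjAut_apply, ih, pow_succ']
    group

end defs

section main

variable {K : Type u} [Field K] [IsAlgClosed K] {M : Type v} [AddCommGroup M] [Module K M] [FiniteDimensional K M]
variable {A : Type w} [Group A]

theorem fixed_or_eq_sub (ρA : Representation K A M) (Qs Zs : Subgroup A) [Finite Qs] (x : A) (r : ℕ)
    (hr : r.Prime) (hrK : (r : K) ≠ 0) (hxQ : x ∈ Subgroup.normalizer (Qs : Set A)) (hxr : x ^ r = 1)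
    (hZQ : Zs ≤ Qs) (hZc : ∀ z ∈ Zs, ∀ g ∈ Qs, z * g = g * z)
    (hcomm : ∀ g ∈ Qs, ∀ h ∈ Qs, g * h * g⁻¹ * h⁻¹ ∈ Zs)
    (hxZ : ∀ z ∈ Zs, x * z * x⁻¹ = z)
    (hfpf : ∀ k ∈ Qs, x * k * x⁻¹ * k⁻¹ ∈ Zs → k ∈ Zs)
    (hZne : Zs ≠ Qs)
    (hN : ∀ K0 : Subgroup A, K0 ≤ Zs → K0 ≠ Zs → ∀ g ∈ Qs, (∀ h ∈ Qs, g * h * g⁻¹ * h⁻¹ ∈ K0) → g ∈ Zs)
    (hcop : (Nat.card Qs : K) ≠ 0)
    (hZM : ∃ z ∈ Zs, ρA z ≠ 1) :
    (∃ m : M, m ≠ 0 ∧ ρA x m = m) ∨ ∃ N : ℕ, r = N + 1 ∧ N ^ 2 = Zs.relIndex Qs := by
  classical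
  haveI : Finite Zs := Finite.of_injective (fun z : Zs => (⟨z.1, hZQ z.2⟩ : Qs))
    (fun a b h => Subtype.ext (congrArg (fun t : Qs => (t : A)) h))
  have : Fintype Zs := Fintype.ofFinite Zs
  have hZcard : (Fintype.card Zs : K) ≠ 0 := by
    intro h0
    apply hcop
    have hdvd : Nat.card Zs ∣ Nat.card Qs := Subgroup.card_dvd_of_le hZQ
    obtain ⟨c, hc⟩ := hdvd
    rw [hc, Nat.cast_mul, Nat.card_eq_fintype_card, h0, zero_mul]
  -- the norm operator of `Zs`
  set S : Module.End K M := ∑ z : Zs, ρA (z : A) with hSdef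
  have hSz : ∀ z0 ∈ Zs, S * ρA z0 = S := by
    intro z0 hz0
    rw [hSdef, Finset.sum_mul]
    rw [← Equiv.sum_comp (Equiv.mulRight (⟨z0, hz0⟩ : Zs)) (fun z : Zs => ρA (z : A))]
    refine Finset.sum_congr rfl fun z _ => ?_
    simp [map_mul]
  have hSg : ∀ g ∈ Qs, S * ρA g = ρA g * S := by
    intro g hg
    rw [hSdef, Finset.sum_mul, Finset.mul_sum]
    refine Finset.sum_congr rfl fun z _ => ?_
    rw [← map_mul, ← map_mul, hZc z z.2 g hg]
  have hW0 : LinearMap.ker S ≠ ⊥ := by
    intro hker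
    have hinj : Function.Injective S := LinearMap.ker_eq_bot.mp hker
    obtain ⟨z0, hz0, hne⟩ := hZM
    apply hne
    ext m
    apply hinj
    rw [← Module.End.mul_apply, hSz z0 hz0, Module.End.one_apply]
  have hWinv : Inv ρA Qs (LinearMap.ker S) := by
    intro g hg m hm
    rw [LinearMap.mem_ker] at hm ⊢
    rw [← Module.End.mul_apply, hSg g hg, Module.End.mul_apply, hm, map_zero]
  obtain ⟨Ys, hYW, hYne, hYinv, hYsimple⟩ := exists_simple_sub ρA Qs (LinearMap.ker S) hW0 hWinv
  haveI : Nontrivial Ys := Submodule.nontrivial_iff_ne_bot.mpr hYne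
  set ρ : Representation K Qs Ys := subRep ρA Qs Ys hYinv with hρ
  set Z : Subgroup Qs := Zs.subgroupOf Qs with hZdef
  -- the kernel of `Zs` on `Ys`
  let K0 : Subgroup A :=
    { carrier := {z | z ∈ Zs ∧ ∀ y ∈ Ys, ρA z y = y}
      one_mem' := ⟨Zs.one_mem, fun y _ => by rw [map_one, Module.End.one_apply]⟩
      mul_mem' := fun {a b} ha hb => ⟨Zs.mul_mem ha.1 hb.1, fun y hy => by
        rw [map_mul, Module.End.mul_apply, hb.2 y hy, ha.2 y hy]⟩
      inv_mem' := fun {a} ha => ⟨Zs.inv_mem ha.1, fun y hy => by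
        have := ha.2 y hy
        rw [← this, ← Module.End.mul_apply, ← map_mul, inv_mul_cancel, map_one, Module.End.one_apply, this]⟩ }
  have hK0le : K0 ≤ Zs := fun z hz => hz.1
  have hK0ne : K0 ≠ Zs := by
    intro hK0
    apply hYne
    rw [eq_bot_iff]
    intro y hy
    have h1 : S y = 0 := LinearMap.mem_ker.mp (hYW hy)
    have h2 : S y = (Fintype.card Zs : K) • y := by
      rw [hSdef, LinearMap.sum_apply]
      have : ∀ z : Zs, ρA (z : A) y = y := by
        intro z
        have hz : (z : A) ∈ K0 := by rw [hK0]; exact z.2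
        exact hz.2 y hy
      rw [Finset.sum_congr rfl (fun z _ => this z), Finset.sum_const, Finset.card_univ, Nat.cast_smul_eq_nsmul]
    rw [h2] at h1
    rcases smul_eq_zero.mp h1 with h | h
    · exact absurd h hZcard
    · rw [Submodule.mem_bot]; exact h
  have H : Heis ρ Z :=
    { irr := by
        intro W' hW'
        have hinv' : Inv ρA Qs (W'.map Ys.subtype) := by
          rintro g hg _ ⟨w, hw, rfl⟩
          exact ⟨ρ ⟨g, hg⟩ w, hW' ⟨g, hg⟩ w hw, rfl⟩
        have hle' : W'.map Ys.subtype ≤ Ys := by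
          rintro _ ⟨w, _, rfl⟩
          exact w.2
        rcases hYsimple _ hle' hinv' with h | h
        · left
          rw [eq_bot_iff]
          intro w hw
          have : (w : M) ∈ W'.map Ys.subtype := ⟨w, hw, rfl⟩
          rw [h, Submodule.mem_bot] at this
          rw [Submodule.mem_bot]
          exact Subtype.ext this
        · right
          rw [eq_top_iff]
          intro w _
          have : (w : M) ∈ W'.map Ys.subtype := by rw [h]; exact w.2
          obtain ⟨w', hw', hww'⟩ := this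
          have : w' = w := Subtype.ext hww'
          rw [← this]; exact hw'
      central := by
        intro z hz
        rw [Subgroup.mem_center_iff]
        intro g
        apply Subtype.ext
        exact (hZc z (Subgroup.mem_subgroupOf.mp hz) g g.2).symm
      comm := by
        intro g h
        rw [hZdef, Subgroup.mem_subgroupOf]
        exact hcomm g g.2 h h.2
      nondeg := by
        intro g hg
        have hg' : (g : A) ∉ Zs := fun h => hg (Subgroup.mem_subgroupOf.mpr h)
        by_contra hcon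
        push Not at hcon
        apply hg'
        apply hN K0 hK0le hK0ne g g.2
        intro h hh
        refine ⟨hcomm g g.2 h hh, fun y hy => ?_⟩
        have := hcon ⟨h, hh⟩
        have h2 := congrArg (fun f : Module.End K Ys => ((f ⟨y, hy⟩ : Ys) : M)) this
        exact h2
      card_ne := hcop }
  have hZtop : Z ≠ ⊤ := by
    intro h
    apply hZne
    apply le_antisymm hZQ
    intro g hg
    have : (⟨g, hg⟩ : Qs) ∈ Z := by rw [h]; trivial
    exact Subgroup.mem_subgroupOf.mp this
  set σ : MulAut Qs := conjAut Qs x hxQ with hσ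
  have hσr : σ ^ r = 1 := by
    ext g
    rw [conjAut_pow_apply, hxr]
    simp
  have hσZ : ∀ z ∈ Z, σ z = z := by
    intro z hz
    apply Subtype.ext
    rw [conjAut_apply]
    exact hxZ z (Subgroup.mem_subgroupOf.mp hz)
  have hfpf' : ∀ k, σ k * k⁻¹ ∈ Z → k ∈ Z := by
    intro k hk
    rw [hZdef, Subgroup.mem_subgroupOf] at hk ⊢
    exact hfpf k k.2 hk
  have hι0 : Ys.subtype ≠ 0 := by
    intro h0
    apply hYne
    rw [eq_bot_iff]
    intro y hy
    have := congrArg (fun f : Ys →ₗ[K] M => f ⟨y, hy⟩) h0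
    rw [Submodule.mem_bot]
    exact this
  rcases fixed_or_eq ρA H hZtop σ r hr hrK hσr hσZ hfpf' Qs.subtype x (fun g => rfl) hxr Ys.subtype hι0
    (fun g => rfl) with h | h
  · left; exact h
  · right
    refine ⟨finrank K Ys, h, ?_⟩
    rw [H.finrank_sq]
    rfl

end main

end Cfsg.Agent.Helper5.HHMod
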