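import Mathlib
import Cfsg.Agent.Helper5.HHModG
import Cfsg.Agent.Helper5.FrobModJ

/-!
# Hall–Higman module machinery, part H: arbitrary fields and the group form

`fixed_or_card`: `x` of prime order `r` normalizing `Qs` (Heisenberg-type over `Zs`) and an elementary abelian
`p`-group `V` on which `Zs` acts nontrivially; if `C_V(x) = 1` then `r = N + 1` with `N² = |Qs : Zs|`.
-/

set_option autoImplicit false

namespace Cfsg.Agent.Helper5.HHMod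

open Module Subgroup Cfsg.Agent.Helper5.FrobMod TensorProduct

section field

variable {k : Type*} [Field k] {M : Type*} [AddCommGroup M] [Module k M] [FiniteDimensional k M]
variable {A : Type*} [Group A]

theorem baseChangeRep_sub_one (ρ0 : Representation k A M) (K : Type*) [Field K] [Algebra k K] (a : A) :
    (ρ0 a - 1).baseChange K = baseChangeRep ρ0 K a - 1 := by
  rw [LinearMap.baseChange_sub]
  congr 1
  exact LinearMap.baseChange_id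

theorem fixed_or_eq_field (ρ0 : Representation k A M) (Qs Zs : Subgroup A) [Finite Qs] (x : A) (r : ℕ)
    (hr : r.Prime) (hrk : (r : k) ≠ 0) (hxQ : x ∈ Subgroup.normalizer (Qs : Set A)) (hxr : x ^ r = 1)
    (hZQ : Zs ≤ Qs) (hZc : ∀ z ∈ Zs, ∀ g ∈ Qs, z * g = g * z)
    (hcomm : ∀ g ∈ Qs, ∀ h ∈ Qs, g * h * g⁻¹ * h⁻¹ ∈ Zs)
    (hxZ : ∀ z ∈ Zs, x * z * x⁻¹ = z)
    (hfpf : ∀ k ∈ Qs, x * k * x⁻¹ * k⁻¹ ∈ Zs → k ∈ Zs)
    (hZne : Zs ≠ Qs)
    (hN : ∀ K0 : Subgroup A, K0 ≤ Zs → K0 ≠ Zs → ∀ g ∈ Qs, (∀ h ∈ Qs, g * h * g⁻¹ * h⁻¹ ∈ K0) → g ∈ Zs)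
    (hcop : (Nat.card Qs : k) ≠ 0)
    (hZM : ∃ z ∈ Zs, ρ0 z ≠ 1) :
    (∃ m : M, m ≠ 0 ∧ ρ0 x m = m) ∨ ∃ N : ℕ, r = N + 1 ∧ N ^ 2 = Zs.relIndex Qs := by
  let K := AlgebraicClosure k
  have hcast : ∀ n : ℕ, (n : k) ≠ 0 → (n : K) ≠ 0 := by
    intro n hn
    rw [← map_natCast (algebraMap k K)]
    exact fun h => hn ((map_eq_zero_iff _ (algebraMap k K).injective).mp h)
  have hZM' : ∃ z ∈ Zs, baseChangeRep ρ0 K z ≠ 1 := by
    obtain ⟨z, hz, hne⟩ := hZM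
    refine ⟨z, hz, fun h1 => hne ?_⟩
    have h2 : LinearMap.ker ((ρ0 z - 1).baseChange K) = ⊤ := by
      rw [baseChangeRep_sub_one, LinearMap.ker_eq_top, h1]
      exact sub_self (1 : Module.End K (K ⊗[k] M))
    have h3 := finrank_ker_baseChange K (ρ0 z - 1)
    rw [h2, finrank_top, Module.finrank_baseChange] at h3
    have h4 : LinearMap.ker (ρ0 z - 1) = ⊤ := Submodule.eq_top_of_finrank_eq h3.symm
    have h5 : ρ0 z - 1 = 0 := LinearMap.ker_eq_top.mp h4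
    exact sub_eq_zero.mp h5
  rcases fixed_or_eq_sub (baseChangeRep ρ0 K) Qs Zs x r hr (hcast r hrk) hxQ hxr hZQ hZc hcomm hxZ hfpf hZne hN
    (hcast _ hcop) hZM' with h | h
  · left
    obtain ⟨m, hm0, hm⟩ := h
    have h2 : LinearMap.ker ((ρ0 x - 1).baseChange K) ≠ ⊥ := by
      intro hbot
      apply hm0
      have : m ∈ LinearMap.ker ((ρ0 x - 1).baseChange K) := by
        rw [LinearMap.mem_ker, baseChangeRep_sub_one, LinearMap.sub_apply, hm, Module.End.one_apply, sub_self]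
      rw [hbot, Submodule.mem_bot] at this
      exact this
    have h3 := finrank_ker_baseChange K (ρ0 x - 1)
    have h4 : LinearMap.ker (ρ0 x - 1) ≠ ⊥ := by
      intro hbot
      rw [hbot, finrank_bot] at h3
      exact h2 (Submodule.finrank_eq_zero.mp h3)
    obtain ⟨m0, hm0mem, hm00⟩ := (Submodule.ne_bot_iff _).mp h4
    refine ⟨m0, hm00, ?_⟩
    rw [LinearMap.mem_ker, LinearMap.sub_apply, Module.End.one_apply, sub_eq_zero] at hm0mem
    exact hm0mem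
  · right; exact h

end field

section group

/-- abstract form, with a `ZMod p`-module structure given -/
theorem fixed_or_card_aux {A V : Type*} [Group A] [CommGroup V] [Finite V] (p r : ℕ) [hp : Fact p.Prime]
    [Module (ZMod p) (Additive V)] (hr : r.Prime) (hpr : p ≠ r)
    (φ : A →* Monoid.End V) (Qs Zs : Subgroup A) [Finite Qs] (x : A)
    (hxQ : x ∈ Subgroup.normalizer (Qs : Set A)) (hxr : x ^ r = 1)
    (hZQ : Zs ≤ Qs) (hZc : ∀ z ∈ Zs, ∀ g ∈ Qs, z * g = g * z)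
    (hcomm : ∀ g ∈ Qs, ∀ h ∈ Qs, g * h * g⁻¹ * h⁻¹ ∈ Zs)
    (hxZ : ∀ z ∈ Zs, x * z * x⁻¹ = z)
    (hfpf : ∀ k ∈ Qs, x * k * x⁻¹ * k⁻¹ ∈ Zs → k ∈ Zs)
    (hZne : Zs ≠ Qs)
    (hN : ∀ K0 : Subgroup A, K0 ≤ Zs → K0 ≠ Zs → ∀ g ∈ Qs, (∀ h ∈ Qs, g * h * g⁻¹ * h⁻¹ ∈ K0) → g ∈ Zs)
    (hcop : ¬ p ∣ Nat.card Qs)
    (hZV : ∃ z ∈ Zs, ∃ v : V, φ z v ≠ v)
    (hfix : ∀ v : V, φ x v = v → v = 1) :
    ∃ N : ℕ, r = N + 1 ∧ N ^ 2 = Zs.relIndex Qs := by
  classical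
  haveI : Finite (Additive V) := ‹Finite V›
  haveI : Module.Finite (ZMod p) (Additive V) := Module.Finite.of_finite
  set ρ0 : Representation (ZMod p) A (Additive V) := endRep p φ with hρ0
  have hρ : ∀ (a : A) (v : V), ρ0 a (Additive.ofMul v) = Additive.ofMul (φ a v) := fun a v => rfl
  have hrk : (r : ZMod p) ≠ 0 := by
    rw [Ne, ZMod.natCast_eq_zero_iff]
    intro hdvd
    exact hpr ((Nat.prime_dvd_prime_iff_eq hp.1 hr).mp hdvd)
  have hcop' : (Nat.card Qs : ZMod p) ≠ 0 := by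
    rw [Ne, ZMod.natCast_eq_zero_iff]
    exact hcop
  have hZM : ∃ z ∈ Zs, ρ0 z ≠ 1 := by
    obtain ⟨z, hz, v, hne⟩ := hZV
    refine ⟨z, hz, fun h1 => hne ?_⟩
    have h2 := congrArg (fun f : Module.End (ZMod p) (Additive V) => f (Additive.ofMul v)) h1
    simp only [Module.End.one_apply] at h2
    rw [hρ] at h2
    exact Additive.ofMul.injective h2
  rcases fixed_or_eq_field ρ0 Qs Zs x r hr hrk hxQ hxr hZQ hZc hcomm hxZ hfpf hZne hN hcop' hZM with h | h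
  · exfalso
    obtain ⟨m, hm0, hm⟩ := h
    induction m using Additive.rec with
    | ofMul v =>
      rw [hρ] at hm
      have h3 : φ x v = v := Additive.ofMul.injective hm
      apply hm0
      rw [hfix v h3]; rfl
  · exact h

/-- abstract form for an abelian group of exponent `p` -/
theorem fixed_or_card_exp {A V : Type*} [Group A] [CommGroup V] [Finite V] (p r : ℕ) [hp : Fact p.Prime]
    (hexp : ∀ v : V, v ^ p = 1) (hr : r.Prime) (hpr : p ≠ r)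
    (φ : A →* Monoid.End V) (Qs Zs : Subgroup A) [Finite Qs] (x : A)
    (hxQ : x ∈ Subgroup.normalizer (Qs : Set A)) (hxr : x ^ r = 1)
    (hZQ : Zs ≤ Qs) (hZc : ∀ z ∈ Zs, ∀ g ∈ Qs, z * g = g * z)
    (hcomm : ∀ g ∈ Qs, ∀ h ∈ Qs, g * h * g⁻¹ * h⁻¹ ∈ Zs)
    (hxZ : ∀ z ∈ Zs, x * z * x⁻¹ = z)
    (hfpf : ∀ k ∈ Qs, x * k * x⁻¹ * k⁻¹ ∈ Zs → k ∈ Zs)
    (hZne : Zs ≠ Qs)
    (hN : ∀ K0 : Subgroup A, K0 ≤ Zs → K0 ≠ Zs → ∀ g ∈ Qs, (∀ h ∈ Qs, g * h * g⁻¹ * h⁻¹ ∈ K0) → g ∈ Zs)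
    (hcop : ¬ p ∣ Nat.card Qs)
    (hZV : ∃ z ∈ Zs, ∃ v : V, φ z v ≠ v)
    (hfix : ∀ v : V, φ x v = v → v = 1) :
    ∃ N : ℕ, r = N + 1 ∧ N ^ 2 = Zs.relIndex Qs := by
  letI : Module (ZMod p) (Additive V) := AddCommGroup.zmodModule (n := p) (fun y => by
    induction y using Additive.rec with
    | ofMul v => rw [← ofMul_pow, hexp]; rfl)
  exact fixed_or_card_aux p r hr hpr φ Qs Zs x hxQ hxr hZQ hZc hcomm hxZ hfpf hZne hN hcop hZV hfix

variable {G : Type*} [Group G] [Finite G]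

theorem fixed_or_card (p r : ℕ) [hp : Fact p.Prime] (hr : r.Prime) (hpr : p ≠ r)
    (V Qs Zs : Subgroup G) (x : G)
    (hVcomm : ∀ a ∈ V, ∀ b ∈ V, a * b = b * a) (hVexp : ∀ a ∈ V, a ^ p = 1)
    (hQV : Qs ≤ normalizer (V : Set G)) (hxV : x ∈ normalizer (V : Set G))
    (hxQ : x ∈ normalizer (Qs : Set G)) (hxr : x ^ r = 1)
    (hZQ : Zs ≤ Qs) (hZc : ∀ z ∈ Zs, ∀ g ∈ Qs, z * g = g * z)
    (hcomm : ∀ g ∈ Qs, ∀ h ∈ Qs, g * h * g⁻¹ * h⁻¹ ∈ Zs)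
    (hxZ : ∀ z ∈ Zs, x * z * x⁻¹ = z)
    (hfpf : ∀ k ∈ Qs, x * k * x⁻¹ * k⁻¹ ∈ Zs → k ∈ Zs)
    (hZne : Zs ≠ Qs)
    (hN : ∀ K0 : Subgroup G, K0 ≤ Zs → K0 ≠ Zs → ∀ g ∈ Qs, (∀ h ∈ Qs, g * h * g⁻¹ * h⁻¹ ∈ K0) → g ∈ Zs)
    (hcop : ¬ p ∣ Nat.card Qs)
    (hZV : ∃ z ∈ Zs, ∃ v ∈ V, z * v * z⁻¹ ≠ v)
    (hfix : ∀ v ∈ V, x * v * x⁻¹ = v → v = 1) :
    ∃ N : ℕ, r = N + 1 ∧ N ^ 2 = Zs.relIndex Qs := by
  classical
  set NV : Subgroup G := normalizer (V : Set G) with hNV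
  have hAV : ∀ a ∈ NV, ∀ v ∈ V, a * v * a⁻¹ ∈ V := fun a ha v hv =>
    (Subgroup.mem_normalizer_iff.mp ha v).mp hv
  letI : CommGroup ↥V :=
    { (inferInstance : Group ↥V) with
      mul_comm := fun a b => Subtype.ext (hVcomm a a.2 b b.2) }
  have hexp : ∀ v : ↥V, v ^ p = 1 := fun v => Subtype.ext (by simpa using hVexp v v.2)
  let φ : ↥NV →* Monoid.End ↥V :=
    { toFun := fun a => conjHom V (a : G) (hAV a a.2)
      map_one' := by
        refine MonoidHom.ext fun v => Subtype.ext ?_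
        show ((1 : NV) : G) * v * ((1 : NV) : G)⁻¹ = v
        simp
      map_mul' := fun a b => by
        refine MonoidHom.ext fun v => Subtype.ext ?_
        show ((a * b : NV) : G) * v * ((a * b : NV) : G)⁻¹ = (a : G) * ((b : G) * v * (b : G)⁻¹) * (a : G)⁻¹
        simp [mul_assoc] }
  have hφ : ∀ (a : NV) (v : V), ((φ a v : V) : G) = (a : G) * v * (a : G)⁻¹ := fun a v => rfl
  set Qs' : Subgroup NV := Qs.subgroupOf NV with hQs'
  set Zs' : Subgroup NV := Zs.subgroupOf NV with hZs'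
  have hZNV : Zs ≤ NV := hZQ.trans hQV
  have hxQ' : (⟨x, hxV⟩ : NV) ∈ Subgroup.normalizer (Qs' : Set NV) := by
    rw [Subgroup.mem_normalizer_iff]
    intro h
    rw [hQs', Subgroup.mem_subgroupOf, Subgroup.mem_subgroupOf]
    exact Subgroup.mem_normalizer_iff.mp hxQ h
  have hcard : Nat.card Qs' = Nat.card Qs := Nat.card_congr (Subgroup.subgroupOfEquivOfLe hQV).toEquiv
  have hcop' : ¬ p ∣ Nat.card Qs' := by rw [hcard]; exact hcop
  have hZne' : Zs' ≠ Qs' := by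
    intro h
    apply hZne
    apply le_antisymm hZQ
    intro g hg
    have : (⟨g, hQV hg⟩ : NV) ∈ Qs' := Subgroup.mem_subgroupOf.mpr hg
    rw [← h] at this
    exact Subgroup.mem_subgroupOf.mp this
  have hN' : ∀ K0 : Subgroup NV, K0 ≤ Zs' → K0 ≠ Zs' → ∀ g ∈ Qs',
      (∀ h ∈ Qs', g * h * g⁻¹ * h⁻¹ ∈ K0) → g ∈ Zs' := by
    intro K0 hK0le hK0ne g hg hall
    rw [hZs', Subgroup.mem_subgroupOf]
    apply hN (K0.map NV.subtype)
    · rintro _ ⟨z, hz, rfl⟩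
      exact Subgroup.mem_subgroupOf.mp (hK0le hz)
    · intro heq
      apply hK0ne
      apply le_antisymm hK0le
      intro z hz
      have : (z : G) ∈ K0.map NV.subtype := by rw [heq]; exact Subgroup.mem_subgroupOf.mp hz
      obtain ⟨z', hz', hzz'⟩ := this
      have : z' = z := Subtype.ext hzz'
      rw [← this]; exact hz'
    · exact Subgroup.mem_subgroupOf.mp hg
    · intro h hh
      exact ⟨_, hall ⟨h, hQV hh⟩ (Subgroup.mem_subgroupOf.mpr hh), rfl⟩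
  have hZM : ∃ z ∈ Zs', ∃ v : V, φ z v ≠ v := by
    obtain ⟨z, hz, v, hv, hne⟩ := hZV
    refine ⟨⟨z, hZNV hz⟩, Subgroup.mem_subgroupOf.mpr hz, ⟨v, hv⟩, fun h3 => hne ?_⟩
    have h4 := congrArg Subtype.val h3
    rw [hφ] at h4
    exact h4
  have hfix' : ∀ v : V, φ ⟨x, hxV⟩ v = v → v = 1 := by
    intro v h3
    have h4 := congrArg Subtype.val h3
    rw [hφ] at h4
    exact Subtype.ext (hfix v v.2 h4)
  obtain ⟨N, hN1, hN2⟩ := fixed_or_card_exp p r hexp hr hpr φ Qs' Zs' (⟨x, hxV⟩ : NV) hxQ'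
    (Subtype.ext (by simpa using hxr))
    (fun z hz => Subgroup.mem_subgroupOf.mpr (hZQ (Subgroup.mem_subgroupOf.mp hz)))
    (fun z hz g hg => Subtype.ext (hZc z (Subgroup.mem_subgroupOf.mp hz) g (Subgroup.mem_subgroupOf.mp hg)))
    (fun g hg h hh => Subgroup.mem_subgroupOf.mpr (by
      simpa using hcomm g (Subgroup.mem_subgroupOf.mp hg) h (Subgroup.mem_subgroupOf.mp hh)))
    (fun z hz => Subtype.ext (by simpa using hxZ z (Subgroup.mem_subgroupOf.mp hz)))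
    (fun k hk hmem => Subgroup.mem_subgroupOf.mpr (hfpf k (Subgroup.mem_subgroupOf.mp hk) (by
      simpa using Subgroup.mem_subgroupOf.mp hmem)))
    hZne' hN' hcop' hZM hfix'
  refine ⟨N, hN1, ?_⟩
  rw [hN2, hZs', hQs', Subgroup.relIndex_subgroupOf hQV]

end group

end Cfsg.Agent.Helper5.HHMod
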