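import Mathlib

/-!
# Hall–Higman module machinery, part I: small group-theoretic helpers
-/

set_option autoImplicit false

namespace Cfsg.Agent.Helper5.HHMod

variable {G : Type*} [Group G]

/-- a generator of a subgroup of prime order -/
theorem exists_generator (X : Subgroup G) {r : ℕ} (hr : r.Prime) (hX : Nat.card X = r) :
    ∃ x ∈ X, x ≠ 1 ∧ x ^ r = 1 ∧ ∀ y ∈ X, ∃ j : ℤ, x ^ j = y := by
  haveI : Fact r.Prime := ⟨hr⟩
  obtain ⟨x0, hx0⟩ : ∃ x0 : X, x0 ≠ 1 := by
    haveI : Finite X := Nat.finite_of_card_ne_zero (by rw [hX]; exact hr.ne_zero)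
    haveI : Nontrivial X := by
      rw [← Finite.one_lt_card_iff_nontrivial, hX]; exact hr.one_lt
    exact exists_ne 1
  have hx0top : Subgroup.zpowers x0 = ⊤ := zpowers_eq_top_of_prime_card hX hx0
  refine ⟨x0, x0.2, fun h => hx0 (Subtype.ext h), ?_, ?_⟩
  · have h1 : x0 ^ r = 1 := by rw [← hX]; exact pow_card_eq_one'
    have := congrArg Subtype.val h1
    simpa using this
  · intro y hy
    have : (⟨y, hy⟩ : X) ∈ Subgroup.zpowers x0 := by rw [hx0top]; trivial
    obtain ⟨j, hj⟩ := Subgroup.mem_zpowers_iff.mp this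
    exact ⟨j, by have := congrArg Subtype.val hj; simpa using this⟩

/-- every nonidentity element of a subgroup of prime order generates it -/
theorem exists_zpow_eq_of_ne_one (X : Subgroup G) {r : ℕ} (hr : r.Prime) (hX : Nat.card X = r)
    {e : G} (he : e ∈ X) (he1 : e ≠ 1) {y : G} (hy : y ∈ X) : ∃ j : ℤ, e ^ j = y := by
  haveI : Fact r.Prime := ⟨hr⟩
  have htop : Subgroup.zpowers (⟨e, he⟩ : X) = ⊤ :=
    zpowers_eq_top_of_prime_card hX (fun h => he1 (congrArg Subtype.val h))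
  have : (⟨y, hy⟩ : X) ∈ Subgroup.zpowers (⟨e, he⟩ : X) := by rw [htop]; trivial
  obtain ⟨j, hj⟩ := Subgroup.mem_zpowers_iff.mp this
  exact ⟨j, by have := congrArg Subtype.val hj; simpa using this⟩

theorem mem_centralizer_of_conj_eq (X : Subgroup G) (x : G) (hgen : ∀ y ∈ X, ∃ j : ℤ, x ^ j = y) (g : G)
    (hg : x * g * x⁻¹ = g) : g ∈ Subgroup.centralizer (X : Set G) := by
  rw [Subgroup.mem_centralizer_iff]
  intro y hy
  obtain ⟨j, rfl⟩ := hgen y hy
  have hc : Commute x g := by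
    show x * g = g * x
    calc x * g = (x * g * x⁻¹) * x := by group
      _ = g * x := by rw [hg]
  exact (hc.zpow_left j).eq

theorem conj_pow_central (x k c : G) (hxk : x * k * x⁻¹ = c * k) (hxc : x * c * x⁻¹ = c) (n : ℕ) :
    x ^ n * k * (x ^ n)⁻¹ = c ^ n * k := by
  induction n with
  | zero => simp
  | succ n ih =>
    calc x ^ (n + 1) * k * (x ^ (n + 1))⁻¹ = x * (x ^ n * k * (x ^ n)⁻¹) * x⁻¹ := by
          rw [pow_succ']; group
      _ = x * (c ^ n * k) * x⁻¹ := by rw [ih]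
      _ = (x * c * x⁻¹) ^ n * (x * k * x⁻¹) := by
          rw [conj_pow]; group
      _ = c ^ (n + 1) * k := by
          rw [hxc, hxk, pow_succ, mul_assoc]

/-- coprime orders: an element `c` fixed by `x` with `x k x⁻¹ = c k`, `x^r = 1`, `c^m = 1`, `gcd(r, m) = 1` is trivial -/
theorem eq_one_of_conj_central (x k c : G) (hxk : x * k * x⁻¹ = c * k) (hxc : x * c * x⁻¹ = c) {r m : ℕ}
    (hxr : x ^ r = 1) (hcm : c ^ m = 1) (hcop : Nat.Coprime r m) : c = 1 := by
  have hcr : c ^ r = 1 := by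
    have := conj_pow_central x k c hxk hxc r
    rw [hxr] at this
    simp only [one_mul, inv_one, mul_one] at this
    exact (mul_eq_right.mp this.symm)
  have h1 : orderOf c ∣ r := orderOf_dvd_of_pow_eq_one hcr
  have h2 : orderOf c ∣ m := orderOf_dvd_of_pow_eq_one hcm
  have h3 : orderOf c ∣ Nat.gcd r m := Nat.dvd_gcd h1 h2
  rw [hcop] at h3
  exact orderOf_eq_one_iff.mp (Nat.dvd_one.mp h3)

end Cfsg.Agent.Helper5.HHMod
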