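import Mathlib
import Cfsg.Agent.Helper5.ChiefHol
import Cfsg.Agent.Helper5.HHModG
import Cfsg.Agent.Helper14.Large2
import Cfsg.Agent.Helper7.FStarComm
import Cfsg.Agent.Helper17.Basic
import Cfsg.Agent.Lead.BG8a
import Cfsg.Agent.S0552
import Cfsg.Agent.S0022
import Cfsg.Agent.S3769

/-!
# Prime-order coprime action on a chief factor without fixed points

`chief_commutator_trivial`: `G` solvable of odd order, `K ⊴ G`, `R0 ≤ G` of prime order coprime to `|K|`,
`U / V` a chief factor of `G` with `U ≤ K` below a nilpotent normal subgroup, `C_U(R0) = 1`.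
Then `[K, R0]` centralizes `U / V`.
-/

set_option autoImplicit false

namespace Cfsg.Agent.Helper5.ChiefHol

open Subgroup Cfsg Cfsg.Agent.Helper10 Cfsg.Agent.Helper5.Hol
open scoped commutatorElement

variable {G : Type*} [Group G] [Finite G]

theorem chief_commutator_trivial (hsolv : Group.IsSolvable G) (hodd : Odd (Nat.card G))
    (K R0 : Subgroup G) [hKn : K.Normal] (hr : (Nat.card R0).Prime)
    (hcop : (Nat.card K).Coprime (Nat.card R0))
    {U V : Subgroup G} [hVn : V.Normal] [hUn : U.Normal] (h : Cfsg.IsChiefFactor U V)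
    (F : Subgroup G) (hFn : F.Normal) (hnil : Group.IsNilpotent ↥F) (hUF : U ≤ F) (hUK : U ≤ K)
    (hfix : U ⊓ centralizer (R0 : Set G) = ⊥) :
    ∀ k ∈ K, ∀ y ∈ R0, theta U V ⁅k, y⁆ = 1 := by
  classical
  haveI : Fact (Nat.card R0).Prime := ⟨hr⟩
  set r := Nat.card R0 with hrdef
  set θ := theta U V with hθ
  set Vb : Subgroup (Equiv.Perm ↥(Ub U V)) := (lam (Ub U V)).range with hVb
  set Gb : Subgroup (Equiv.Perm ↥(Ub U V)) := θ.range with hGb
  set Kb : Subgroup (Equiv.Perm ↥(Ub U V)) := K.map θ with hKb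
  set Rb : Subgroup (Equiv.Perm ↥(Ub U V)) := R0.map θ with hRb
  have hKbG : Kb ≤ Gb := by rintro _ ⟨k, _, rfl⟩; exact ⟨k, rfl⟩
  have hRbG : Rb ≤ Gb := by rintro _ ⟨k, _, rfl⟩; exact ⟨k, rfl⟩
  have hGbV : Gb ≤ normalizer (Vb : Set (Equiv.Perm ↥(Ub U V))) := theta_range_le_normalizer U V
  have hGbC : Gb ⊓ centralizer (Vb : Set (Equiv.Perm ↥(Ub U V))) = ⊥ := theta_range_inf_centralizer U V
  -- `Ub` is elementary abelian
  have hcomm := ub_comm h F hFn hnil hUF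
  obtain ⟨ℓ, hℓ, hℓdvd, hexp⟩ := ub_exists_prime h hcomm
  haveI : Fact ℓ.Prime := ⟨hℓ⟩
  have hVbEA : Cfsg.IsElementaryAbelian ℓ Vb := by
    refine ⟨⟨⟨?_⟩⟩, ?_⟩
    · rintro ⟨_, ⟨a, rfl⟩⟩ ⟨_, ⟨b, rfl⟩⟩
      apply Subtype.ext
      show lam (Ub U V) a * lam (Ub U V) b = lam (Ub U V) b * lam (Ub U V) a
      rw [← map_mul, ← map_mul, hcomm a b]
    · rintro _ ⟨a, rfl⟩
      rw [← map_pow, hexp a, map_one]
  have hVbp : IsPGroup ℓ Vb := by
    intro v
    exact ⟨1, by rw [pow_one]; exact Subtype.ext (by simpa using hVbEA.2 v v.2)⟩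
  have hVbne : Vb ≠ ⊥ := by
    intro hb
    apply ub_ne_bot h
    rw [eq_bot_iff]
    intro m hm
    have h1 : lam (Ub U V) ⟨m, hm⟩ ∈ Vb := ⟨_, rfl⟩
    rw [hb, Subgroup.mem_bot] at h1
    have h2 : (⟨m, hm⟩ : ↥(Ub U V)) = 1 := lam_injective _ (by rw [h1, map_one])
    rw [Subgroup.mem_bot]
    exact congrArg Subtype.val h2
  -- arithmetic
  have hUbU : Nat.card ↥(Ub U V) ∣ Nat.card U := Subgroup.card_map_dvd _ _
  have hUKc : Nat.card U ∣ Nat.card K := Subgroup.card_dvd_of_le hUK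
  have hℓK : ℓ ∣ Nat.card K := hℓdvd.trans (hUbU.trans hUKc)
  have hKbK : Nat.card Kb ∣ Nat.card K := Subgroup.card_map_dvd _ _
  have hRbR : Nat.card Rb ∣ r := Subgroup.card_map_dvd _ _
  have hℓr : ℓ ≠ r := by
    intro heq
    have h1 : ℓ ∣ Nat.gcd (Nat.card K) r := Nat.dvd_gcd hℓK (by rw [heq])
    rw [hcop] at h1
    exact hℓ.one_lt.ne' (Nat.dvd_one.mp h1)
  have hGbG : Nat.card Gb ∣ Nat.card G := Subgroup.card_range_dvd θ
  -- no fixed points of `R0` on `Ub`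
  have hfixU : ∀ m : ↥(Ub U V), (∀ y ∈ R0, θ y m = m) → m = 1 := by
    rintro ⟨_, u, hu, rfl⟩ hm
    have hfix' : ∀ a ∈ R0, a * u * a⁻¹ * u⁻¹ ∈ V := by
      intro a ha
      have h1 := congrArg Subtype.val (hm a ha)
      rw [theta_apply] at h1
      have h2 : (QuotientGroup.mk' V) (a * u * a⁻¹ * u⁻¹) = 1 := by
        rw [map_mul, map_mul, map_mul, map_inv, map_inv]
        simp only at h1
        rw [h1, mul_inv_cancel]
      exact (QuotientGroup.eq_one_iff _).mp h2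
    have hR0U : R0 ≤ normalizer (U : Set G) := by
      rw [Subgroup.normalizer_eq_top_iff.mpr hUn]; exact le_top
    have hR0V : R0 ≤ normalizer (V : Set G) := by
      rw [Subgroup.normalizer_eq_top_iff.mpr hVn]; exact le_top
    have hUV : U ≤ normalizer (V : Set G) := by
      rw [Subgroup.normalizer_eq_top_iff.mpr hVn]; exact le_top
    have hcopRU : (Nat.card R0).Coprime (Nat.card U) :=
      (Nat.Coprime.coprime_dvd_left hUKc hcop).symm
    haveI := hsolv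
    obtain ⟨c, hc, hcu⟩ := Cfsg.Agent.S0022.result R0 U hR0U hcopRU (Or.inr inferInstance) V h.1.le hUV hR0V
      u hu hfix'
    rw [hfix, Subgroup.mem_bot] at hc
    rw [hc, mul_one] at hcu
    have huV : u ∈ V := by
      have := V.inv_mem hcu
      rwa [inv_inv] at this
    apply Subtype.ext
    exact (QuotientGroup.eq_one_iff u).mpr huV
  have hVbfix : Vb ⊓ centralizer (Rb : Set (Equiv.Perm ↥(Ub U V))) = ⊥ := by
    rw [eq_bot_iff]
    rintro _ ⟨⟨m, rfl⟩, hc⟩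
    rw [Subgroup.mem_bot]
    have : m = 1 := by
      apply hfixU
      intro y hy
      have h1 : θ y ∈ Rb := ⟨y, hy, rfl⟩
      have h2 := Subgroup.mem_centralizer_iff.mp hc _ h1
      exact (theta_commute_lam_iff U V y m).mp h2.symm
    rw [this, map_one]
  intro k hk y hy
  -- the case of trivial action of `R0`
  by_cases hRbbot : Rb = ⊥
  · have h1 : θ y = 1 := by
      have : θ y ∈ Rb := ⟨y, hy, rfl⟩
      rw [hRbbot, Subgroup.mem_bot] at this
      exact this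
    rw [commutatorElement_def, map_mul, map_mul, map_mul, map_inv, map_inv, h1]
    group
  have hRbcard : Nat.card Rb = r := by
    rcases (Nat.dvd_prime hr).mp hRbR with h1 | h1
    · exact absurd (Subgroup.card_eq_one.mp h1) hRbbot
    · exact h1
  -- normalizers
  have hGbKb : Gb ≤ normalizer (Kb : Set (Equiv.Perm ↥(Ub U V))) := by
    have key : ∀ g : G, ∀ t ∈ Kb, θ g * t * (θ g)⁻¹ ∈ Kb := by
      rintro g _ ⟨k', hk', rfl⟩
      exact ⟨g * k' * g⁻¹, hKn.conj_mem k' hk' g, by simp⟩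
    rintro _ ⟨g, rfl⟩
    rw [Subgroup.mem_normalizer_iff]
    intro t
    constructor
    · exact key g t
    · intro ht
      have := key g⁻¹ _ ht
      rw [map_inv, inv_inv] at this
      have e : (θ g)⁻¹ * (θ g * t * (θ g)⁻¹) * θ g = t := by group
      rwa [e] at this
  -- `O_ℓ(Kb) = 1`
  have hpcore : Cfsg.pCore ℓ ↥Kb = ⊥ := by
    set Pb : Subgroup (Equiv.Perm ↥(Ub U V)) := Cfsg.pCoreOf ℓ Kb with hPb
    have hPbp : IsPGroup ℓ Pb := (Cfsg.Agent.Helper14.pCore_isPGroup (G := ↥Kb) ℓ).map _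
    have hPbK : Pb ≤ Kb := Subgroup.map_subtype_le _
    have hGbPb : Gb ≤ normalizer (Pb : Set (Equiv.Perm ↥(Ub U V))) :=
      hGbKb.trans (Cfsg.Agent.Helper14.normalizer_le_normalizer_pCoreOf Kb)
    have hPbV : Pb ≤ normalizer (Vb : Set (Equiv.Perm ↥(Ub U V))) := (hPbK.trans hKbG).trans hGbV
    obtain ⟨t, ht, ht1⟩ := Cfsg.Agent.Helper14.exists_ne_one_mem_inf_centralizer hPbp hVbp hPbV hVbne
    have hWn : Gb ≤ normalizer ((Vb ⊓ centralizer (Pb : Set (Equiv.Perm ↥(Ub U V))) :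
        Subgroup (Equiv.Perm ↥(Ub U V))) : Set (Equiv.Perm ↥(Ub U V))) :=
      (le_inf hGbV (hGbPb.trans (Cfsg.Agent.Helper14.normalizer_le_normalizer_centralizer Pb))).trans
        Subgroup.inf_normalizer_le_normalizer_inf
    rcases lam_irreducible h _ inf_le_left hWn with h1 | h1
    · rw [h1, Subgroup.mem_bot] at ht
      exact absurd ht ht1
    · have hPbC : Pb ≤ centralizer (Vb : Set (Equiv.Perm ↥(Ub U V))) := by
        rw [Subgroup.le_centralizer_iff]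
        exact (le_of_eq h1.symm).trans inf_le_right
      have hPbbot : Pb = ⊥ := by
        rw [eq_bot_iff, ← hGbC]
        exact le_inf (hPbK.trans hKbG) hPbC
      rw [hPb, Cfsg.pCoreOf] at hPbbot
      exact (Subgroup.map_eq_bot_iff_of_injective _ (Subgroup.subtype_injective _)).mp hPbbot
  -- the Fitting subgroup of `Kb` is an `ℓ'`-group
  set Fb : Subgroup (Equiv.Perm ↥(Ub U V)) := Cfsg.fittingOf Kb with hFb
  have hFbK : Fb ≤ Kb := Subgroup.map_subtype_le _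
  have hFbcard : Nat.card Fb = Nat.card (Cfsg.fittingSubgroup ↥Kb) :=
    Nat.card_congr (Subgroup.equivMapOfInjective _ _ (Subgroup.subtype_injective _)).toEquiv.symm
  have hFbℓ : (Nat.card Fb).Coprime ℓ := by
    rw [hFbcard]
    exact Cfsg.Agent.Helper7.fitting_coprime_of_pCore_eq_bot hpcore
  have hFbr : (Nat.card Fb).Coprime r :=
    Nat.Coprime.coprime_dvd_left ((Subgroup.card_dvd_of_le hFbK).trans hKbK) hcop
  have hRbFb : Rb ≤ normalizer (Fb : Set (Equiv.Perm ↥(Ub U V))) :=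
    (hRbG.trans hGbKb).trans
      (Cfsg.Agent.Lead.normalizer_le_normalizer_map_of_characteristic Kb (Cfsg.fittingSubgroup ↥Kb))
  have hFbRb : Fb ⊓ Rb = ⊥ := by
    have h1 : Nat.card ↥(Fb ⊓ Rb) ∣ Nat.gcd (Nat.card Fb) r := by
      apply Nat.dvd_gcd (Subgroup.card_dvd_of_le inf_le_left)
      rw [← hRbcard]; exact Subgroup.card_dvd_of_le inf_le_right
    rw [hFbr] at h1
    exact Subgroup.card_eq_one.mp (Nat.dvd_one.mp h1)
  have hG1card : Nat.card ↥(Fb ⊔ Rb) = Nat.card Fb * r := by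
    have := Cfsg.Agent.Helper17.card_sup_mul_card_inf Fb Rb hRbFb
    rw [hFbRb, Subgroup.card_bot, mul_one, hRbcard] at this
    exact this
  have hG1G : Fb ⊔ Rb ≤ Gb := sup_le (hFbK.trans hKbG) hRbG
  -- solvability
  haveI hGbsolv : Group.IsSolvable ↥Gb := by
    haveI := hsolv
    exact solvable_of_surjective (f := θ.rangeRestrict) θ.rangeRestrict_surjective
  haveI hG1solv : Group.IsSolvable ↥(Fb ⊔ Rb) :=
    solvable_of_solvable_injective (f := Subgroup.inclusion hG1G) (Subgroup.inclusion_injective hG1G)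
  haveI hKbsolv : Group.IsSolvable ↥Kb :=
    solvable_of_solvable_injective (f := Subgroup.inclusion hKbG) (Subgroup.inclusion_injective hKbG)
  have hG1odd : Odd (Nat.card ↥(Fb ⊔ Rb)) :=
    Odd.of_dvd_nat hodd ((Subgroup.card_dvd_of_le hG1G).trans hGbG)
  have hℓG1 : ¬ ℓ ∣ Nat.card ↥(Fb ⊔ Rb) := by
    rw [hG1card]
    intro hdvd
    rcases (Nat.Prime.dvd_mul hℓ).mp hdvd with h1 | h1
    · have : ℓ ∣ Nat.gcd (Nat.card Fb) ℓ := Nat.dvd_gcd h1 dvd_rfl
      rw [hFbℓ] at this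
      exact hℓ.one_lt.ne' (Nat.dvd_one.mp this)
    · exact hℓr ((Nat.prime_dvd_prime_iff_eq hℓ hr).mp h1)
  have hrel : Fb.relIndex (Fb ⊔ Rb) = r := by
    have h1 := Cfsg.Agent.Helper17.relIndex_mul_card_inf Fb (Fb ⊔ Rb)
    rw [inf_eq_left.mpr le_sup_left, hG1card, mul_comm] at h1
    exact Nat.eq_of_mul_eq_mul_left Nat.card_pos h1
  have hmain := Cfsg.Agent.S3769.result (X := Equiv.Perm ↥(Ub U V)) (Fb ⊔ Rb) hG1solv hG1odd Vb hℓ hVbEA hℓG1
    (hG1G.trans hGbV) Fb Rb le_sup_left (sup_le (Cfsg.Agent.Lead.Bender.le_normalizer_fittingOf Kb |> fun h' => hFbK.trans h') hRbFb)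
    (by rw [hrel]; exact hFbr) le_sup_right (by rw [hRbcard]; exact hr) hFbRb rfl hVbfix
  have hRF : ⁅Rb, Fb⁆ = ⊥ := by
    rw [eq_bot_iff, ← hGbC]
    refine le_inf ?_ hmain
    rw [Subgroup.commutator_le]
    intro a ha b hb
    exact Gb.mul_mem (Gb.mul_mem (Gb.mul_mem (hRbG ha) ((hFbK.trans hKbG) hb)) (Gb.inv_mem (hRbG ha)))
      (Gb.inv_mem ((hFbK.trans hKbG) hb))
  -- the automorphism of `Kb` induced by `θ y`
  have hyRb : θ y ∈ Rb := ⟨y, hy, rfl⟩
  have hyN : θ y ∈ normalizer (Kb : Set (Equiv.Perm ↥(Ub U V))) := hGbKb (hRbG hyRb)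
  set σ : MulAut ↥Kb := Cfsg.Agent.Helper5.HHMod.conjAut Kb (θ y) hyN with hσ
  have hσfix : ∀ x ∈ Cfsg.fittingSubgroup ↥Kb, σ x = x := by
    intro x hx
    apply Subtype.ext
    rw [Cfsg.Agent.Helper5.HHMod.conjAut_apply]
    have hxF : (x : Equiv.Perm ↥(Ub U V)) ∈ Fb := ⟨x, hx, rfl⟩
    have h1 : ⁅θ y, (x : Equiv.Perm ↥(Ub U V))⁆ ∈ ⁅Rb, Fb⁆ := Subgroup.commutator_mem_commutator hyRb hxF
    rw [hRF, Subgroup.mem_bot, commutatorElement_def] at h1
    calc θ y * x * (θ y)⁻¹ = (θ y * x * (θ y)⁻¹ * (x : Equiv.Perm ↥(Ub U V))⁻¹) * x := by group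
      _ = x := by rw [h1, one_mul]
  have hyr : y ^ r = 1 := by
    have h1 : (⟨y, hy⟩ : R0) ^ r = 1 := pow_card_eq_one'
    have := congrArg Subtype.val h1
    simpa using this
  have hσr : σ ^ r = 1 := by
    ext x
    rw [Cfsg.Agent.Helper5.HHMod.conjAut_pow_apply, ← map_pow, hyr, map_one]
    simp
  have hσrefl : σ = MulEquiv.refl ↥Kb := by
    by_contra hne
    have h1 := Cfsg.Agent.S0552.result (G := ↥Kb) σ hσfix hne
    apply h1
    have h2 : orderOf σ ∣ r := orderOf_dvd_of_pow_eq_one hσr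
    exact Nat.Coprime.coprime_dvd_left h2 (Nat.Coprime.coprime_dvd_right hKbK hcop.symm)
  have hcomm2 : θ y * θ k * (θ y)⁻¹ = θ k := by
    have hkKb : θ k ∈ Kb := ⟨k, hk, rfl⟩
    have h1 := congrArg (fun f : ↥Kb ≃* ↥Kb => ((f ⟨θ k, hkKb⟩ : ↥Kb) : Equiv.Perm ↥(Ub U V))) hσrefl
    exact h1
  rw [commutatorElement_def, map_mul, map_mul, map_mul, map_inv, map_inv]
  calc θ k * θ y * (θ k)⁻¹ * (θ y)⁻¹ = θ k * (θ y * θ k * (θ y)⁻¹)⁻¹ := by group
    _ = 1 := by rw [hcomm2, mul_inv_cancel]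

end Cfsg.Agent.Helper5.ChiefHol
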