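import Mathlib
import Cfsg.Prelude.Def_Blocks
import Cfsg.Agent.Helper5.CentralChar
import Cfsg.Agent.Helper5.CharFacts

set_option autoImplicit false
set_option linter.unusedSectionVars false
set_option linter.unusedVariables false

/-!
# The class multiplication formula

The number of ways of writing `u` as `t * h` with `t` conjugate to `x` and `h` conjugate to `y`
equals `(1/|G|) ∑_χ ω_χ(x) ω_χ(y) χ(1) conj χ(u)`.
-/

namespace Cfsg.Agent.Helper5.ClassMul

open Cfsg Cfsg.Agent.Helper24 Cfsg.Agent.Helper5 Cfsg.Agent.Helper5.CC

variable {G : Type*} [Group G] [Fintype G]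

/-- The convolution of two class indicators counts factorizations. -/
theorem conv_classIndicator_apply (x y u : G) :
    conv (classIndicator x) (classIndicator y) u =
      (Nat.card {t : G // IsConj x t ∧ IsConj y (t⁻¹ * u)} : ℂ) := by
  classical
  rw [conv]
  have h1 : ∀ t : G, classIndicator x t * classIndicator y (t⁻¹ * u) =
      if (IsConj x t ∧ IsConj y (t⁻¹ * u)) then 1 else 0 := by
    intro t
    by_cases hx : IsConj x t
    · by_cases hy : IsConj y (t⁻¹ * u)
      · rw [classIndicator_of_isConj hx, classIndicator_of_isConj hy, if_pos ⟨hx, hy⟩, one_mul]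
      · rw [classIndicator_of_not_isConj hy, mul_zero, if_neg (fun h => hy h.2)]
    · rw [classIndicator_of_not_isConj hx, zero_mul, if_neg (fun h => hx h.1)]
  simp_rw [h1]
  rw [Finset.sum_boole, Nat.card_eq_fintype_card, Fintype.card_subtype]

variable [Fintype (IrrCharacter G)]

/-- **Class multiplication formula.** -/
theorem conv_classIndicator_eq (x y u : G) :
    conv (classIndicator x) (classIndicator y) u =
      (Nat.card G : ℂ)⁻¹ * ∑ χ : IrrCharacter G,
        centralChar (χ : G → ℂ) x * centralChar (χ : G → ℂ) y *
          ((χ : G → ℂ) 1 * (starRingEnd ℂ) ((χ : G → ℂ) u)) := by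
  have hcf : IsClassFunction G (conv (classIndicator x) (classIndicator y)) :=
    isClassFunction_conv (isClassFunction_classIndicator x) (isClassFunction_classIndicator y)
  rw [← coeff_act hcf u]
  congr 1
  refine Finset.sum_congr rfl fun χ _ => ?_
  rw [act_conv (isClassFunction_classIndicator x), act_classIndicator, act_classIndicator]

end Cfsg.Agent.Helper5.ClassMul
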