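import Mathlib
import Cfsg.Prelude.Def_Blocks
import Cfsg.Agent.Helper5.BlockSupport
import Cfsg.Agent.Helper5.CharFacts
import Cfsg.Agent.Helper24.ColumnOrth

/-!
# Sum of squares of the degrees of the characters with a given normal subgroup in the kernel
-/

set_option autoImplicit false

namespace Cfsg.Agent.Helper5.CC

open Cfsg Cfsg.Agent.Helper24 Cfsg.Agent.Helper5 Cfsg.Agent.Helper5.Loc

variable {G : Type*} [Group G] [Fintype G]

theorem finsum_mem_eq_sum_ite' {ι : Type*} [Fintype ι] {A : Type*} [AddCommMonoid A] (B : Set ι)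
    [DecidablePred (· ∈ B)] (f : ι → A) : ∑ᶠ i ∈ B, f i = ∑ i, if i ∈ B then f i else 0 := by
  rw [finsum_mem_eq_finite_toFinset_sum f (Set.toFinite B), ← Finset.sum_filter]
  congr 1
  ext i
  simp

/-- The sum of the conjugate values of an irreducible character over a normal subgroup. -/
theorem sum_conj_normal (N : Subgroup G) [hN : N.Normal] [Fintype N] (χ : IrrCharacter G)
    [Decidable (∀ n ∈ N, (χ : G → ℂ) n = (χ : G → ℂ) 1)] :
    ∑ n : N, (starRingEnd ℂ) ((χ : G → ℂ) n) =
      if (∀ n ∈ N, (χ : G → ℂ) n = (χ : G → ℂ) 1) then (Nat.card N : ℂ) * (χ : G → ℂ) 1 else 0 := by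
  have hone : (starRingEnd ℂ) ((χ : G → ℂ) 1) = (χ : G → ℂ) 1 := by
    rw [← Cfsg.Agent.Helper5.irr_inv, inv_one]
  by_cases hker : ∀ n ∈ N, (χ : G → ℂ) n = (χ : G → ℂ) 1
  · rw [if_pos hker]
    rw [Finset.sum_congr rfl (fun n _ => by rw [hker n n.2, hone] :
      ∀ n ∈ (Finset.univ : Finset N), (starRingEnd ℂ) ((χ : G → ℂ) n) = (χ : G → ℂ) 1)]
    rw [Finset.sum_const, Finset.card_univ, nsmul_eq_mul, Nat.card_eq_fintype_card]
  · rw [if_neg hker]
    have h0 : classInner (fun n : N => (χ : G → ℂ) n) (fun _ : N => (1 : ℂ)) = 0 := by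
      by_contra hne
      exact hker (fun n hn => eq_one_of_trivial_constituent N χ hne n hn)
    simp only [classInner, map_one, mul_one] at h0
    have hN0 : (Nat.card N : ℂ) ≠ 0 := by
      have : 0 < Nat.card N := Nat.card_pos
      exact_mod_cast this.ne'
    have h1 : ∑ n : N, (χ : G → ℂ) n = 0 := by
      rcases mul_eq_zero.mp h0 with h | h
      · exact absurd h (inv_ne_zero hN0)
      · exact h
    rw [← map_sum, h1, map_zero]

/-- **Degrees over a quotient**: the squares of the degrees of the irreducible characters with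
`N` in their kernel add up to the index of `N`. -/
theorem sum_sq_degree_of_ker [Fintype (IrrCharacter G)] (N : Subgroup G) [hN : N.Normal]
    [Fintype N] [∀ χ : IrrCharacter G, Decidable (∀ n ∈ N, (χ : G → ℂ) n = (χ : G → ℂ) 1)] :
    ∑ χ : IrrCharacter G, (if (∀ n ∈ N, (χ : G → ℂ) n = (χ : G → ℂ) 1) then
      (χ : G → ℂ) 1 * (χ : G → ℂ) 1 else 0) = (N.index : ℂ) := by
  classical
  have hN0 : (Nat.card N : ℂ) ≠ 0 := by
    have : 0 < Nat.card N := Nat.card_pos
    exact_mod_cast this.ne'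
  have h2 : ∑ n : N, ∑ χ : IrrCharacter G,
      (χ : G → ℂ) 1 * (starRingEnd ℂ) ((χ : G → ℂ) n) = (Nat.card G : ℂ) := by
    rw [Finset.sum_eq_single (1 : N)]
    · rw [Subgroup.coe_one, sum_irr_mul_conj 1 1, if_pos (IsConj.refl 1)]
      have : Subgroup.centralizer ({1} : Set G) = ⊤ := by
        ext g
        simp [Subgroup.mem_centralizer_iff]
      rw [this, Nat.card_congr Subgroup.topEquiv.toEquiv]
    · intro n _ hn
      rw [sum_irr_mul_conj 1 (n : G), if_neg]
      intro hc
      apply hn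
      apply Subtype.ext
      exact isConj_one_right.mp hc
    · intro h; exact absurd (Finset.mem_univ _) h
  rw [Finset.sum_comm] at h2
  simp_rw [← Finset.mul_sum, sum_conj_normal N] at h2
  have h3 : (Nat.card N : ℂ) * ∑ χ : IrrCharacter G,
      (if (∀ n ∈ N, (χ : G → ℂ) n = (χ : G → ℂ) 1) then
        (χ : G → ℂ) 1 * (χ : G → ℂ) 1 else 0) = (Nat.card G : ℂ) := by
    rw [← h2, Finset.mul_sum]
    refine Finset.sum_congr rfl fun χ _ => ?_
    split_ifs
    · ring
    · ring
  have h4 : (Nat.card G : ℂ) = (Nat.card N : ℂ) * (N.index : ℂ) := by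
    rw [← Nat.cast_mul, Subgroup.card_mul_index]
  rw [h4] at h3
  exact mul_left_cancel₀ hN0 h3

end Cfsg.Agent.Helper5.CC
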