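import Mathlib
import Cfsg.Prelude.Def_Blocks
import Cfsg.Agent.Helper5.BrauerFormula

/-!
# The blocks of `C_G(x)` inducing the principal block
-/

set_option autoImplicit false

namespace Cfsg.Agent.Helper5.CC

open Cfsg Cfsg.Agent.Helper24 Cfsg.Agent.Helper5 Cfsg.Agent.Helper5.Loc

variable {G : Type*} [Group G] [Fintype G] {M : Ideal AlgInt}

/-- For a `p`-element `x` with centralizer `C`, the characters of `C` in blocks inducing the
principal block of `G` are exactly those in the principal block of `C`
(second + third main theorems). -/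
theorem inducingSet_principalBlock [Fintype (IrrCharacter G)] {p : ℕ} [hp : Fact p.Prime]
    (hM : IsPModular p M) (x : G) (hx : ∃ k : ℕ, orderOf x = p ^ k)
    (C : Subgroup G) [Fintype C] (hxC : x ∈ C) (hcomm : ∀ c : C, x * (c : G) = (c : G) * x)
    (hcent : Subgroup.centralizer ({x} : Set G) ≤ C) :
    inducingSet M C (principalBlock M G) = principalBlock M C := by
  classical
  have hMp := isPrime_of_isPModular hM
  have : Finite G := Finite.of_fintype G
  obtain ⟨k, hk⟩ := hx
  have hP : IsPGroup p (Subgroup.zpowers x) := by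
    apply IsPGroup.of_card (n := k)
    rw [Nat.card_zpowers, hk]
  have hPH : Subgroup.zpowers x ≤ C := by
    rw [Subgroup.zpowers_le]; exact hxC
  have hCH : Subgroup.centralizer ((Subgroup.zpowers x : Subgroup G) : Set G) ≤ C := by
    refine le_trans (Subgroup.centralizer_le ?_) hcent
    rw [Set.singleton_subset_iff]
    exact Subgroup.mem_zpowers x
  have hHN : C ≤ Subgroup.normalizer ((Subgroup.zpowers x : Subgroup G) : Set G) := by
    refine le_trans ?_ (Subgroup.centralizer_le_normalizer _)
    intro c hc
    rw [Subgroup.mem_centralizer_iff]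
    intro q hq
    obtain ⟨i, rfl⟩ := Subgroup.mem_zpowers_iff.mp hq
    have h1 : Commute x c := hcomm ⟨c, hc⟩
    exact (h1.zpow_left i).eq
  ext ψ
  have hdef : InducedBlockDefined M C (blockOf M (ψ : C → ℂ)) :=
    Cfsg.Agent.S0919.result p M hM (Subgroup.zpowers x) C hP hPH hCH hHN _ (isPBlock_blockOf ψ)
  have h3 := third_main hM C _ hdef
  show IsInducedBlock M C (blockOf M (ψ : C → ℂ)) (principalBlock M G) ↔ ψ ∈ principalBlock M C
  rw [h3]
  constructor
  · intro h; rw [← h]; exact mem_blockOf_self hMp ψ
  · intro h; exact (IsPBlock_eq_blockOf hMp isPBlock_principalBlock h).symm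

end Cfsg.Agent.Helper5.CC
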