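import Mathlib
import Cfsg.Agent.S3736
import Cfsg.Agent.Lead.PiClosed3
import Cfsg.Agent.Helper7.HallHigmanDual

/-!
# Theorem B of Hall–Higman: the group-theoretic reduction
-/

set_option autoImplicit false

namespace Cfsg.Agent.Helper5.HHT

open Subgroup
open scoped commutatorElement

section

variable {G : Type*} [Group G] [Finite G]

/-- Coprime action: if `A₀ ≤ A` does not centralize `K`, some `A`-invariant Sylow subgroup of `K`
is not centralized by `A₀`. -/
theorem exists_invariant_sylow_not_centralized' (A₀ A K : Subgroup G)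
    (hAK : A ≤ normalizer (K : Set G)) (hcop : (Nat.card A).Coprime (Nat.card K))
    (hsolv : Group.IsSolvable A ∨ Group.IsSolvable K)
    (hnc : ¬ A₀ ≤ centralizer (K : Set G)) :
    ∃ r : ℕ, r.Prime ∧ ∃ R : Subgroup G, R ≤ K ∧ IsPGroup r R ∧ A ≤ normalizer (R : Set G) ∧
      ¬ A₀ ≤ centralizer (R : Set G) := by
  by_contra hcon
  push Not at hcon
  apply hnc
  have hex : ∀ r : {r : ℕ // r.Prime}, ∃ Q : Sylow r.1 K,
      A ≤ normalizer (((Q : Subgroup K).map K.subtype : Subgroup G) : Set G) := by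
    intro r
    have := Fact.mk r.2
    exact Cfsg.Agent.Lead.coprime_exists_invariant_sylow A K hAK hcop hsolv r.1
  choose Q hQ using hex
  set J : Subgroup G := ⨆ r : {r : ℕ // r.Prime}, (Q r : Subgroup K).map K.subtype with hJ
  have hJK : J ≤ K := iSup_le fun r => map_subtype_le _
  have hJc : A₀ ≤ centralizer (J : Set G) := by
    rw [le_centralizer_iff, hJ]
    apply iSup_le
    intro r
    rw [← le_centralizer_iff]
    exact hcon r.1 r.2 _ (map_subtype_le _) ((Q r).isPGroup'.map _) (hQ r)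
  have hdvd : Nat.card K ∣ Nat.card J := by
    rw [← Nat.factorization_prime_le_iff_dvd Nat.card_pos.ne' Nat.card_pos.ne']
    intro r hr
    have := Fact.mk hr
    rw [← hr.pow_dvd_iff_le_factorization Nat.card_pos.ne']
    have h1 : Nat.card (Q ⟨r, hr⟩ : Subgroup K) = r ^ (Nat.card K).factorization r :=
      (Q ⟨r, hr⟩).card_eq_multiplicity
    rw [← h1, ← card_map_of_injective K.subtype_injective]
    exact card_dvd_of_le (le_iSup (fun r : {r : ℕ // r.Prime} =>
      (Q r : Subgroup K).map K.subtype) ⟨r, hr⟩)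
  have hJeq : J = K := by
    apply Subgroup.eq_of_le_of_card_ge hJK
    exact Nat.le_of_dvd Nat.card_pos hdvd
  rw [← hJeq]
  exact hJc

end

/-- In a cyclic group of order `p ^ n`, the element of order `p` lies in every non-trivial
subgroup. -/
theorem pow_mem_zpowers_pow {G : Type*} [Group G] (x : G) (p n : ℕ) (hp : p.Prime)
    (hx : x ^ (p ^ n) = 1) (j : ℕ) (hj0 : 0 < j) (hjn : j < p ^ n) :
    x ^ (p ^ (n - 1)) ∈ zpowers (x ^ j) := by
  obtain ⟨e, u, hu, hju⟩ := Nat.exists_eq_pow_mul_and_not_dvd hj0.ne' p hp.ne_one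
  have hen : e < n := by
    by_contra hcon
    push Not at hcon
    have h1 : p ^ n ≤ p ^ e := Nat.pow_le_pow_right hp.pos hcon
    have h2 : p ^ e ≤ j := by
      rw [hju]
      exact Nat.le_mul_of_pos_right _ (Nat.pos_of_ne_zero (by rintro rfl; simp at hu))
    omega
  have hgcd : Nat.gcd u p < p := by
    have : Nat.gcd u p = 1 := by
      rw [Nat.gcd_comm]
      exact (Nat.Prime.coprime_iff_not_dvd hp).mpr hu
    rw [this]; exact hp.one_lt
  obtain ⟨m, -, hm⟩ := Nat.exists_mul_mod_eq_gcd hgcd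
  have hgcd1 : Nat.gcd u p = 1 := by
    rw [Nat.gcd_comm]
    exact (Nat.Prime.coprime_iff_not_dvd hp).mpr hu
  rw [hgcd1] at hm
  have hyp : (x ^ (p ^ (n - 1))) ^ p = 1 := by
    rw [← pow_mul, ← pow_succ, Nat.sub_add_cancel (by omega), hx]
  have hkey : (x ^ j) ^ (p ^ (n - 1 - e) * m) = x ^ (p ^ (n - 1)) := by
    have h1 : j * (p ^ (n - 1 - e) * m) = p ^ (n - 1) * (u * m) := by
      rw [hju]
      have : p ^ (n - 1) = p ^ e * p ^ (n - 1 - e) := by
        rw [← pow_add]; congr 1; omega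
      rw [this]; ring
    rw [← pow_mul, h1, pow_mul, ← Nat.div_add_mod (u * m) p, hm, pow_add, pow_mul, hyp, one_pow,
      one_mul, pow_one]
  rw [← hkey]
  exact npow_mem_zpowers _ _

theorem exists_critical_subgroup {H : Type*} [Group H] [Finite H] (p : ℕ) [Fact p.Prime]
    (hsol : Cfsg.IsPSolvable p H) (hOp : Cfsg.pCore p H = ⊥) (x : H) (n : ℕ) (hn : 1 ≤ n)
    (hx : orderOf x = p ^ n) :
    ∃ (q : ℕ) (Qs : Subgroup H), q.Prime ∧ q ≠ p ∧ IsPGroup q Qs ∧ Qs ≠ ⊥ ∧
      x ∈ normalizer (Qs : Set H) ∧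
      (∀ j, 0 < j → j < p ^ n → ∀ g ∈ Qs, x ^ j * g = g * x ^ j → ∀ h ∈ Qs, g * h = h * g) ∧
      Qs ≤ closure {z | ∃ (i : ℕ), ∃ g ∈ Qs,
        z = (x ^ (p ^ (n - 1))) ^ i * g * ((x ^ (p ^ (n - 1))) ^ i)⁻¹ * g⁻¹} := by
  classical
  have hp := (Fact.out : p.Prime)
  have hxN : x ^ (p ^ n) = 1 := by rw [← hx]; exact pow_orderOf_eq_one x
  set y := x ^ (p ^ (n - 1)) with hy
  have hyp : y ^ p = 1 := by
    rw [hy, ← pow_mul, ← pow_succ, Nat.sub_add_cancel hn, hxN]
  have hy1 : y ≠ 1 := by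
    apply pow_ne_one_of_lt_orderOf (pow_ne_zero _ hp.ne_zero)
    rw [hx]
    exact Nat.pow_lt_pow_right hp.one_lt (by omega)
  have hyord : orderOf y = p := orderOf_eq_prime hyp hy1
  set N := Cfsg.pPrimeCore p H with hN
  have hNn : N.Normal := inferInstance
  have hNcop : (Nat.card N).Coprime p := Cfsg.Agent.Helper19.pPrimeCore_coprime p
  have hCN := Cfsg.Agent.Helper7.centralizer_pPrimeCore_le_of_isPSolvable hsol hOp
  have hyN : y ∉ N := by
    intro h
    have h1 : p ∣ Nat.card N := by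
      rw [← hyord]; exact N.orderOf_dvd_natCard h
    have h2 := Nat.Coprime.eq_one_of_dvd hNcop.symm h1
    exact hp.one_lt.ne' h2
  set B := zpowers x with hB
  set A := zpowers y with hA
  have hAB : A ≤ B := by
    rw [hA, zpowers_le]
    exact npow_mem_zpowers x _
  have hBcomm : ∀ b ∈ B, ∀ b' ∈ B, b * b' = b' * b := by
    intro b hb b' hb'
    have := mul_comm' (⟨b, hb⟩ : B) ⟨b', hb'⟩
    exact congrArg Subtype.val this
  have hBN : B ≤ normalizer (N : Set H) := by
    rw [normalizer_eq_top]; exact le_top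
  have hcardB : Nat.card B = p ^ n := by rw [hB, Nat.card_zpowers, hx]
  have hcop : (Nat.card B).Coprime (Nat.card N) := by
    rw [hcardB]; exact Nat.Coprime.pow_left n hNcop.symm
  have hsolvB : Group.IsSolvable B :=
    isSolvable_of_comm fun a b => Subtype.ext (hBcomm a a.2 b b.2)
  have hnc : ¬ A ≤ centralizer (N : Set H) := by
    intro h
    exact hyN (hCN (h (mem_zpowers y)))
  obtain ⟨q, hq, R, hRN, hRq, hBR, hAR⟩ :=
    exists_invariant_sylow_not_centralized' A B N hBN hcop (Or.inl hsolvB) hnc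
  have hqp : q ≠ p := by
    rintro rfl
    have hRne : R ≠ ⊥ := by
      rintro rfl
      apply hAR
      intro a _
      rw [mem_centralizer_iff]
      intro h hh
      rw [SetLike.mem_coe, mem_bot] at hh
      rw [hh, one_mul, mul_one]
    obtain ⟨m, hm⟩ := IsPGroup.iff_card.mp hRq
    have hm0 : m ≠ 0 := by
      rintro rfl
      rw [pow_zero] at hm
      exact hRne ((Subgroup.card_eq_one).mp hm)
    have h1 : q ∣ Nat.card N := by
      have : q ∣ Nat.card R := by rw [hm]; exact dvd_pow_self q hm0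
      exact this.trans (card_dvd_of_le hRN)
    have h2 := Nat.Coprime.eq_one_of_dvd hNcop.symm h1
    exact hp.one_lt.ne' h2
  have hqf : Fact q.Prime := ⟨hq⟩
  -- a minimal such subgroup
  have hex : ∃ c, ∃ R' : Subgroup H, IsPGroup q R' ∧ B ≤ normalizer (R' : Set H) ∧
      ¬ A ≤ centralizer (R' : Set H) ∧ Nat.card R' = c := ⟨_, R, hRq, hBR, hAR, rfl⟩
  obtain ⟨Qs, hQq, hBQ, hAQ, hQc⟩ := Nat.find_spec hex
  have hQmin : ∀ U : Subgroup H, U < Qs → B ≤ normalizer (U : Set H) →
      A ≤ centralizer (U : Set H) := by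
    intro U hU hBU
    by_contra hAU
    have hlt : Nat.card U < Nat.card Qs :=
      lt_of_le_of_ne (card_le_of_le hU.le)
        (fun heq => hU.ne (eq_of_le_of_card_ge hU.le heq.ge))
    have := Nat.find_min' hex ⟨U, hQq.to_le hU.le, hBU, hAU, rfl⟩
    omega
  have hcomm_iff : ∀ U : Subgroup H, ⁅U, A⁆ = ⊥ ↔ A ≤ centralizer (U : Set H) := by
    intro U
    rw [commutator_eq_bot_iff_le_centralizer, le_centralizer_iff]
  have hAn : B ≤ normalizer (A : Set H) := by
    intro b hb
    rw [mem_normalizer_iff]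
    intro h
    constructor
    · intro hh
      have : b * h * b⁻¹ = h := by
        rw [hBcomm b hb h (hAB hh), mul_assoc, mul_inv_cancel, mul_one]
      rw [this]; exact hh
    · intro hh
      have h2 : b⁻¹ * (b * h * b⁻¹) * b = b * h * b⁻¹ := by
        rw [hBcomm b⁻¹ (B.inv_mem hb) _ (hAB hh), mul_assoc, inv_mul_cancel, mul_one]
      have h3 : b⁻¹ * (b * h * b⁻¹) * b = h := by group
      rw [← h3, h2]; exact hh
  have hAp : (Nat.card A).Coprime q := by
    rw [hA, Nat.card_zpowers, hyord]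
    exact (Nat.coprime_primes hp hq).mpr (Ne.symm hqp)
  obtain ⟨c1, c2, c3, -⟩ := Cfsg.Agent.S3736.result (p := q) B A Qs hQq hBQ hAB hAn hAp
    (fun h => hAQ ((hcomm_iff Qs).mp h))
    (fun U hU hBU => (hcomm_iff U).mpr (hQmin U hU hBU))
  set Φ : Subgroup H := (frattini ↥Qs).map Qs.subtype with hΦ
  have hΦQ : Φ ≤ Qs := map_subtype_le _
  have hΦZ : ∀ z ∈ Φ, ∀ h ∈ Qs, z * h = h * z := by
    rintro _ ⟨z, hz, rfl⟩ h hh
    rcases c2 with ⟨hc, -⟩ | ⟨-, hfc, -⟩
    · have := mul_comm' z ⟨h, hh⟩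
      exact congrArg Subtype.val this
    · rw [hfc] at hz
      have := (mem_center_iff.mp hz ⟨h, hh⟩).symm
      exact congrArg Subtype.val this
  have hQne : Qs ≠ ⊥ := by
    rintro rfl
    apply hAQ
    intro a _
    rw [mem_centralizer_iff]
    intro h hh
    rw [SetLike.mem_coe, mem_bot] at hh
    rw [hh, one_mul, mul_one]
  -- the centraliser of `y` in `Qs`
  set Cs : Subgroup H := Qs ⊓ centralizer (A : Set H) with hCs
  have hBΦ : B ≤ normalizer (Φ : Set H) :=
    hBQ.trans (Cfsg.Agent.Lead.normalizer_le_normalizer_map_of_characteristic Qs (frattini ↥Qs))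
  have hBcA : B ≤ normalizer ((centralizer (A : Set H) : Subgroup H) : Set H) := by
    intro b hb
    have key : ∀ b ∈ B, ∀ g ∈ centralizer (A : Set H), b * g * b⁻¹ ∈ centralizer (A : Set H) := by
      intro b hb g hg
      rw [mem_centralizer_iff] at hg ⊢
      intro a ha
      have h1 : b⁻¹ * a * b = a := by
        rw [mul_assoc, ← hBcomm b hb a (hAB ha), ← mul_assoc, inv_mul_cancel, one_mul]
      calc a * (b * g * b⁻¹) = b * ((b⁻¹ * a * b) * g) * b⁻¹ := by group
        _ = b * (g * (b⁻¹ * a * b)) * b⁻¹ := by rw [h1, hg a ha]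
        _ = b * g * b⁻¹ * a := by group
    rw [mem_normalizer_iff]
    intro g
    constructor
    · exact key b hb g
    · intro hg
      have := key b⁻¹ (B.inv_mem hb) _ hg
      have e : b⁻¹ * (b * g * b⁻¹) * b⁻¹⁻¹ = g := by group
      rw [e] at this; exact this
  have hBCs : B ≤ normalizer (Cs : Set H) := by
    intro b hb
    rw [mem_normalizer_iff]
    intro g
    rw [hCs, mem_inf, mem_inf, ← mem_normalizer_iff.mp (hBQ hb) g,
      ← mem_normalizer_iff.mp (hBcA hb) g]
  have hBU : B ≤ normalizer ((Cs ⊔ Φ : Subgroup H) : Set H) := by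
    intro b hb
    rw [Cfsg.Agent.Helper19.mem_normalizer_iff_map_conj, Subgroup.map_sup,
      Cfsg.Agent.Helper19.mem_normalizer_iff_map_conj.mp (hBCs hb),
      Cfsg.Agent.Helper19.mem_normalizer_iff_map_conj.mp (hBΦ hb)]
  have hCsQ : Cs ≤ Qs := inf_le_left
  have hCsΦ : Cs ≤ Φ := by
    rcases c3 (Cs ⊔ Φ) le_sup_right (sup_le hCsQ hΦQ) hBU with h | h
    · rw [← h]; exact le_sup_left
    · exfalso
      -- then `Cs = Qs`
      have htop : (Cs.subgroupOf Qs) ⊔ frattini ↥Qs = ⊤ := by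
        rw [eq_top_iff]
        intro g _
        have hg : (g : H) ∈ Cs ⊔ Φ := by rw [h]; exact g.2
        have hle : Cs ⊔ Φ ≤ ((Cs.subgroupOf Qs) ⊔ frattini ↥Qs).map Qs.subtype := by
          rw [Subgroup.map_sup]
          refine sup_le_sup ?_ le_rfl
          intro c hc
          exact ⟨⟨c, hCsQ hc⟩, mem_subgroupOf.mpr hc, rfl⟩
        obtain ⟨g', hg', hgg'⟩ := hle hg
        have : g' = g := Subtype.ext hgg'
        rw [← this]; exact hg'
      have h2 := frattini_nongenerating htop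
      apply hAQ
      rw [← le_centralizer_iff]
      intro g hg
      have : (⟨g, hg⟩ : Qs) ∈ Cs.subgroupOf Qs := by rw [h2]; exact mem_top _
      exact (mem_subgroupOf.mp this).2
  refine ⟨q, Qs, hq, hqp, hQq, hQne, hBQ (mem_zpowers x), ?_, ?_⟩
  · intro j hj0 hjn g hg hcomm h hh
    have hymem : y ∈ zpowers (x ^ j) := pow_mem_zpowers_pow x p n hp hxN j hj0 hjn
    have hgy : ∀ a ∈ A, a * g = g * a := by
      intro a ha
      have ha' : a ∈ zpowers (x ^ j) := by
        have : A ≤ zpowers (x ^ j) := by rw [hA, zpowers_le]; exact hymem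
        exact this ha
      obtain ⟨i, rfl⟩ := mem_zpowers_iff.mp ha'
      have hc : Commute (x ^ j) g := hcomm
      exact (hc.zpow_left i)
    have hgCs : g ∈ Cs := ⟨hg, mem_centralizer_iff.mpr hgy⟩
    exact hΦZ g (hCsΦ hgCs) h hh
  · refine le_trans (le_of_eq c1.symm) ?_
    rw [Subgroup.commutator_def, closure_le]
    rintro _ ⟨g, hg, a, ha, rfl⟩
    obtain ⟨i, rfl⟩ : ∃ i : ℕ, y ^ i = a :=
      (Submonoid.mem_powers_iff _ _).mp
        ((isOfFinOrder_of_finite y).mem_powers_iff_mem_zpowers.mpr ha)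
    have hmem : y ^ i * g * (y ^ i)⁻¹ * g⁻¹ ∈ closure {z | ∃ (i : ℕ), ∃ g ∈ Qs,
        z = y ^ i * g * (y ^ i)⁻¹ * g⁻¹} := subset_closure ⟨i, g, hg, rfl⟩
    have heq : ⁅g, y ^ i⁆ = (y ^ i * g * (y ^ i)⁻¹ * g⁻¹)⁻¹ := by
      rw [commutatorElement_def]; group
    rw [SetLike.mem_coe, heq]
    exact inv_mem hmem

end Cfsg.Agent.Helper5.HHT
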