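import Mathlib
import Cfsg.Agent.Helper25.QPDefs2

/-! # qppieces, piece DECOMP (helper5): pure linear algebra, `M = (C ∩ D) ⊕ A ⊕ B`. -/

set_option autoImplicit false

noncomputable section

universe u v

namespace Cfsg.Agent.QPP

open Cfsg

variable {k : Type u} [Field k] {M : Type v} [AddCommGroup M] [Module k M]

theorem DECOMP_aux_range_le_ker {a : Module.End k M} (ha : a * a = 0) :
    LinearMap.range a ≤ LinearMap.ker a := by
  rintro _ ⟨m, rfl⟩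
  rw [LinearMap.mem_ker]
  have := LinearMap.congr_fun ha m
  simpa using this

/-- pure linear algebra: the decomposition `M = (C ∩ D) ⊕ A ⊕ B` -/
theorem DECOMP [FiniteDimensional k M] {a b : Module.End k M} (h : OppPair a b) (ha : a * a = 0)
    (hb : b * b = 0) :
    IsCompl (LinearMap.ker a ⊓ LinearMap.ker b) (LinearMap.range a ⊔ LinearMap.range b) ∧
      Disjoint (LinearMap.range a) (LinearMap.range b) ∧
      LinearMap.ker a = (LinearMap.ker a ⊓ LinearMap.ker b) ⊔ LinearMap.range a ∧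
      LinearMap.ker b = (LinearMap.ker a ⊓ LinearMap.ker b) ⊔ LinearMap.range b := by
  obtain ⟨h1, h2⟩ := h
  have hAC := DECOMP_aux_range_le_ker ha
  have hBD := DECOMP_aux_range_le_ker hb
  set C := LinearMap.ker a
  set D := LinearMap.ker b
  set A := LinearMap.range a
  set B := LinearMap.range b
  -- (3) C = (C ⊓ D) ⊔ A
  have h3 : C = (C ⊓ D) ⊔ A := by
    have e1 : (A ⊔ D) ⊓ C = A ⊔ D ⊓ C := sup_inf_assoc_of_le D hAC
    have e2 : A ⊔ D = ⊤ := by rw [sup_comm]; exact h2.sup_eq_top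
    rw [e2, top_inf_eq] at e1
    calc C = A ⊔ D ⊓ C := e1
      _ = (C ⊓ D) ⊔ A := by rw [sup_comm, inf_comm]
  have h4 : D = (C ⊓ D) ⊔ B := by
    have e1 : (B ⊔ C) ⊓ D = B ⊔ C ⊓ D := sup_inf_assoc_of_le C hBD
    have e2 : B ⊔ C = ⊤ := by rw [sup_comm]; exact h1.sup_eq_top
    rw [e2, top_inf_eq] at e1
    calc D = B ⊔ C ⊓ D := e1
      _ = (C ⊓ D) ⊔ B := by rw [sup_comm]
  have h2' : Disjoint A B := by
    rw [disjoint_iff, eq_bot_iff]
    calc A ⊓ B ≤ C ⊓ B := inf_le_inf_right B hAC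
      _ = ⊥ := h1.inf_eq_bot
  refine ⟨⟨?_, ?_⟩, h2', h3, h4⟩
  · rw [disjoint_iff]
    -- C ⊓ (A ⊔ B) = A
    have e1 : (A ⊔ B) ⊓ C = A ⊔ B ⊓ C := sup_inf_assoc_of_le B hAC
    have e2 : B ⊓ C = ⊥ := by rw [inf_comm]; exact h1.inf_eq_bot
    rw [e2, sup_bot_eq] at e1
    calc (C ⊓ D) ⊓ (A ⊔ B) = D ⊓ ((A ⊔ B) ⊓ C) := by
          rw [inf_comm C D, inf_assoc, inf_comm C]
      _ = D ⊓ A := by rw [e1]
      _ = ⊥ := h2.inf_eq_bot
  · rw [codisjoint_iff]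
    calc (C ⊓ D) ⊔ (A ⊔ B) = ((C ⊓ D) ⊔ A) ⊔ B := by rw [sup_assoc]
      _ = C ⊔ B := by rw [← h3]
      _ = ⊤ := h1.sup_eq_top

end Cfsg.Agent.QPP

end
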