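import Mathlib

/-!
# Burnside's theorem on irreducible matrix algebras (over an algebraically closed field)
-/

set_option autoImplicit false

namespace Cfsg.Agent.Helper5.HHT

open Module

variable {K : Type*} [Field K] {W : Type*} [AddCommGroup W] [Module K W]

/-- Transitivity of an irreducible multiplicatively closed space of operators. -/
theorem exists_apply_eq (𝒜 : Submodule K (Module.End K W))
    (h1 : (1 : Module.End K W) ∈ 𝒜) (hmul : ∀ a ∈ 𝒜, ∀ b ∈ 𝒜, a * b ∈ 𝒜)
    (hirr : ∀ U : Submodule K W, (∀ a ∈ 𝒜, U.map a ≤ U) → U = ⊥ ∨ U = ⊤)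
    {v : W} (hv : v ≠ 0) (w : W) : ∃ a ∈ 𝒜, a v = w := by
  set U : Submodule K W := 𝒜.map (LinearMap.applyₗ v) with hU
  have hinv : ∀ a ∈ 𝒜, U.map a ≤ U := by
    rintro a ha _ ⟨y, hy, rfl⟩
    obtain ⟨b, hb, rfl⟩ := hy
    exact ⟨a * b, hmul a ha b hb, rfl⟩
  have hvU : v ∈ U := ⟨1, h1, rfl⟩
  rcases hirr U hinv with h | h
  · exfalso
    rw [h] at hvU
    exact hv ((Submodule.mem_bot K).mp hvU)
  · have : w ∈ U := by rw [h]; trivial
    obtain ⟨a, ha, rfl⟩ := this
    exact ⟨a, ha, rfl⟩

/-- An irreducible multiplicatively closed space of operators contains a rank one operator. -/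
theorem exists_rank_one [IsAlgClosed K] [FiniteDimensional K W] [Nontrivial W]
    (𝒜 : Submodule K (Module.End K W))
    (h1 : (1 : Module.End K W) ∈ 𝒜) (hmul : ∀ a ∈ 𝒜, ∀ b ∈ 𝒜, a * b ∈ 𝒜)
    (hirr : ∀ U : Submodule K W, (∀ a ∈ 𝒜, U.map a ≤ U) → U = ⊥ ∨ U = ⊤) :
    ∃ T ∈ 𝒜, T ≠ 0 ∧ Module.finrank K (LinearMap.range T) = 1 := by
  classical
  have hne : ∃ n, ∃ T ∈ 𝒜, T ≠ 0 ∧ finrank K (LinearMap.range T) = n :=
    ⟨_, 1, h1, one_ne_zero, rfl⟩
  obtain ⟨T, hT, hT0, hTr⟩ := Nat.find_spec hne
  have hmin : ∀ T' ∈ 𝒜, T' ≠ 0 → Nat.find hne ≤ finrank K (LinearMap.range T') :=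
    fun T' h h0 => Nat.find_min' hne ⟨T', h, h0, rfl⟩
  generalize Nat.find hne = r at hTr hmin
  by_contra hcon
  obtain ⟨v, hv⟩ : ∃ v, T v ≠ 0 := by
    by_contra h
    push Not at h
    exact hT0 (LinearMap.ext h)
  have hr2 : 2 ≤ r := by
    have h0 : r ≠ 0 := by
      intro h0
      rw [h0] at hTr
      have : LinearMap.range T = ⊥ := Submodule.finrank_eq_zero.mp hTr
      have hm : T v ∈ LinearMap.range T := ⟨v, rfl⟩
      rw [this] at hm
      exact hv ((Submodule.mem_bot K).mp hm)
    have h1' : r ≠ 1 := fun h => hcon ⟨T, hT, hT0, h ▸ hTr⟩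
    omega
  obtain ⟨w, hw, hwn⟩ : ∃ w ∈ LinearMap.range T, w ∉ Submodule.span K {T v} := by
    by_contra h
    push Not at h
    have hle : LinearMap.range T ≤ Submodule.span K {T v} := h
    have h2 := Submodule.finrank_mono hle
    have h3 : finrank K (Submodule.span K {T v}) ≤ 1 := by
      rw [finrank_span_singleton hv]
    omega
  obtain ⟨v', rfl⟩ := hw
  obtain ⟨S, hS, hSv⟩ := exists_apply_eq 𝒜 h1 hmul hirr hv v'
  have hstab : ∀ y ∈ LinearMap.range T, (T * S) y ∈ LinearMap.range T := fun y _ => ⟨S y, rfl⟩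
  set g : Module.End K (LinearMap.range T) := (T * S).restrict hstab with hg
  have : Nontrivial (LinearMap.range T) :=
    ⟨⟨⟨T v, v, rfl⟩, 0, fun h => hv (congrArg Subtype.val h)⟩⟩
  obtain ⟨μ, hμ⟩ := Module.End.exists_eigenvalue g
  obtain ⟨w0, hw0⟩ := hμ.exists_hasEigenvector
  set T' : Module.End K W := T * S * T - μ • T with hT'def
  have hT' : T' ∈ 𝒜 := 𝒜.sub_mem (hmul _ (hmul _ hT _ hS) _ hT) (𝒜.smul_mem _ hT)
  have hT'v : T' v = T v' - μ • T v := by
    simp only [hT'def, LinearMap.sub_apply, Module.End.mul_apply, LinearMap.smul_apply, hSv]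
  have hT'0 : T' ≠ 0 := by
    intro h
    apply hwn
    rw [Submodule.mem_span_singleton]
    refine ⟨μ, ?_⟩
    have h2 : T' v = 0 := by rw [h]; rfl
    rw [hT'v, sub_eq_zero] at h2
    exact h2.symm
  have hrange : LinearMap.range T' ≤
      (LinearMap.range (g - μ • (1 : Module.End K (LinearMap.range T)))).map
        (LinearMap.range T).subtype := by
    rintro _ ⟨y, rfl⟩
    refine ⟨(g - μ • (1 : Module.End K (LinearMap.range T))) ⟨T y, y, rfl⟩, ⟨_, rfl⟩, ?_⟩
    simp only [hT'def, hg, LinearMap.sub_apply, Module.End.mul_apply, LinearMap.smul_apply,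
      Submodule.subtype_apply, Module.End.one_apply, Submodule.coe_sub, Submodule.coe_smul,
      LinearMap.coe_restrict_apply]
  have hker : 1 ≤ finrank K (LinearMap.ker (g - μ • (1 : Module.End K (LinearMap.range T)))) := by
    have hmem : w0 ∈ LinearMap.ker (g - μ • (1 : Module.End K (LinearMap.range T))) := by
      rw [LinearMap.mem_ker, LinearMap.sub_apply, LinearMap.smul_apply, Module.End.one_apply,
        hw0.apply_eq_smul, sub_self]
    by_contra hlt
    have h0 : finrank K (LinearMap.ker (g - μ • (1 : Module.End K (LinearMap.range T)))) = 0 := by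
      omega
    have := Submodule.finrank_eq_zero.mp h0
    rw [this] at hmem
    exact hw0.2 ((Submodule.mem_bot K).mp hmem)
  have hrn := LinearMap.finrank_range_add_finrank_ker
    (g - μ • (1 : Module.End K (LinearMap.range T)))
  have h5 := Submodule.finrank_mono hrange
  have h6 := Submodule.finrank_map_le (LinearMap.range T).subtype
    (LinearMap.range (g - μ • (1 : Module.End K (LinearMap.range T))))
  have h7 := hmin T' hT' hT'0
  omega

/-- **Burnside's theorem.** -/
theorem burnside [IsAlgClosed K] [FiniteDimensional K W]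
    (𝒜 : Submodule K (Module.End K W))
    (h1 : (1 : Module.End K W) ∈ 𝒜) (hmul : ∀ a ∈ 𝒜, ∀ b ∈ 𝒜, a * b ∈ 𝒜)
    (hirr : ∀ U : Submodule K W, (∀ a ∈ 𝒜, U.map a ≤ U) → U = ⊥ ∨ U = ⊤) : 𝒜 = ⊤ := by
  classical
  rcases subsingleton_or_nontrivial W with hW | hW
  · have : Subsingleton (Module.End K W) := ⟨fun f g => LinearMap.ext fun x => Subsingleton.elim _ _⟩
    exact Subsingleton.elim _ _
  obtain ⟨T, hT, hT0, hTr⟩ := exists_rank_one 𝒜 h1 hmul hirr
  obtain ⟨v0, hv0, hspan⟩ := finrank_eq_one_iff'.mp hTr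
  -- a functional detecting `v0`
  have hv0' : (v0 : W) ≠ 0 := fun h => hv0 (Subtype.ext h)
  obtain ⟨ℓ, hℓ⟩ := Module.Projective.exists_dual_eq_one K hv0'
  set f : Module.Dual K W := ℓ.comp T with hf
  have hTf : ∀ y, T y = f y • (v0 : W) := by
    intro y
    obtain ⟨c, hc⟩ := hspan ⟨T y, y, rfl⟩
    have hc' : c • (v0 : W) = T y := congrArg Subtype.val hc
    have : f y = c := by
      rw [hf, LinearMap.comp_apply, ← hc', map_smul, hℓ, smul_eq_mul, mul_one]
    rw [this, hc']
  -- the functionals all of whose rank one operators lie in `𝒜`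
  let U : Submodule K (Module.Dual K W) :=
    { carrier := {g | ∀ v : W, g.smulRight v ∈ 𝒜}
      add_mem' := by
        intro g g' hg hg' v
        have : (g + g').smulRight v = g.smulRight v + g'.smulRight v := by
          ext y; simp [add_smul]
        rw [this]
        exact 𝒜.add_mem (hg v) (hg' v)
      zero_mem' := by
        intro v
        have : (0 : Module.Dual K W).smulRight v = 0 := by ext y; simp
        rw [this]
        exact 𝒜.zero_mem
      smul_mem' := by
        intro c g hg v
        have : (c • g).smulRight v = c • g.smulRight v := by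
          ext y; simp [mul_smul]
        rw [this]
        exact 𝒜.smul_mem _ (hg v) }
  have hfb : ∀ b ∈ 𝒜, f.comp b ∈ U := by
    intro b hb v
    obtain ⟨a, ha, hav⟩ := exists_apply_eq 𝒜 h1 hmul hirr hv0' v
    have : (f.comp b).smulRight v = a * T * b := by
      ext y
      simp only [LinearMap.smulRight_apply, LinearMap.comp_apply, Module.End.mul_apply, hTf,
        map_smul, hav]
    rw [this]
    exact hmul _ (hmul _ ha _ hT) _ hb
  have hUa : ∀ g ∈ U, ∀ a ∈ 𝒜, g.comp a ∈ U := by
    intro g hg a ha v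
    have : (g.comp a).smulRight v = g.smulRight v * a := by
      ext y
      simp only [LinearMap.smulRight_apply, LinearMap.comp_apply, Module.End.mul_apply]
    rw [this]
    exact hmul _ (hg v) _ ha
  have hcoann : U.dualCoannihilator = ⊥ := by
    have hinv : ∀ a ∈ 𝒜, U.dualCoannihilator.map a ≤ U.dualCoannihilator := by
      rintro a ha _ ⟨y, hy, rfl⟩
      rw [SetLike.mem_coe, Submodule.mem_dualCoannihilator] at hy
      rw [Submodule.mem_dualCoannihilator]
      intro g hg
      exact hy (g.comp a) (hUa g hg a ha)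
    rcases hirr _ hinv with h | h
    · exact h
    · exfalso
      have hfU : f ∈ U := by
        have := hfb 1 h1
        have h2 : f.comp (1 : Module.End K W) = f := by ext y; rfl
        rwa [h2] at this
      obtain ⟨y, hy⟩ : ∃ y, T y ≠ 0 := by
        by_contra hh
        push Not at hh
        exact hT0 (LinearMap.ext hh)
      have hy' : y ∈ U.dualCoannihilator := by rw [h]; trivial
      rw [Submodule.mem_dualCoannihilator] at hy'
      have := hy' f hfU
      apply hy
      rw [hTf, this, zero_smul]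
  have hUtop : U = ⊤ := by
    have := Subspace.dualCoannihilator_dualAnnihilator_eq (W := U)
    rw [hcoann, Submodule.dualAnnihilator_bot] at this
    exact this.symm
  -- every operator is a sum of rank one operators
  rw [eq_top_iff]
  intro φ _
  let b := Module.finBasis K W
  have hφ : φ = ∑ i, (b.coord i).smulRight (φ (b i)) := by
    apply b.ext
    intro j
    rw [LinearMap.sum_apply]
    simp only [LinearMap.smulRight_apply, Module.Basis.coord_apply, Module.Basis.repr_self]
    rw [Finset.sum_eq_single j]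
    · simp
    · intro i _ hij
      rw [Finsupp.single_apply, if_neg (Ne.symm hij), zero_smul]
    · intro h; exact absurd (Finset.mem_univ j) h
  rw [hφ]
  refine 𝒜.sum_mem fun i _ => ?_
  have : b.coord i ∈ U := by rw [hUtop]; trivial
  exact this _

end Cfsg.Agent.Helper5.HHT
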