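import Mathlib
import Cfsg.Agent.Helper5.HHTa

/-!
# Schur's lemma and Fourier inversion for an irreducible representation in coprime characteristic
-/

set_option autoImplicit false

namespace Cfsg.Agent.Helper5.HHT

open Module

variable {K : Type*} [Field K] {W : Type*} [AddCommGroup W] [Module K W]
variable {Q : Type*} [Group Q]

theorem rep_mul_inv (σ : Representation K Q W) (g : Q) : σ g * σ g⁻¹ = 1 := by
  rw [← map_mul, mul_inv_cancel, map_one]

theorem rep_inv_mul (σ : Representation K Q W) (g : Q) : σ g⁻¹ * σ g = 1 := by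
  rw [← map_mul, inv_mul_cancel, map_one]

/-- Schur's lemma. -/
theorem schur [IsAlgClosed K] [FiniteDimensional K W] [Nontrivial W] (σ : Representation K Q W)
    (hirr : ∀ U : Submodule K W, (∀ g, U.map (σ g) ≤ U) → U = ⊥ ∨ U = ⊤)
    (T : Module.End K W) (hT : ∀ g, T * σ g = σ g * T) : ∃ c : K, T = c • 1 := by
  obtain ⟨μ, hμ⟩ := Module.End.exists_eigenvalue T
  refine ⟨μ, ?_⟩
  have hinv : ∀ g, (Module.End.eigenspace T μ).map (σ g) ≤ Module.End.eigenspace T μ := by
    rintro g _ ⟨y, hy, rfl⟩
    rw [SetLike.mem_coe, Module.End.mem_eigenspace_iff] at hy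
    rw [Module.End.mem_eigenspace_iff]
    have : T (σ g y) = (T * σ g) y := rfl
    rw [this, hT g, Module.End.mul_apply, hy, map_smul]
  rcases hirr _ hinv with h | h
  · exact absurd h hμ
  · ext y
    have : y ∈ Module.End.eigenspace T μ := by rw [h]; trivial
    rw [Module.End.mem_eigenspace_iff] at this
    rw [this, LinearMap.smul_apply, Module.End.one_apply]

/-- Burnside's theorem for a representation. -/
theorem span_range_eq_top [IsAlgClosed K] [FiniteDimensional K W] (σ : Representation K Q W)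
    (hirr : ∀ U : Submodule K W, (∀ g, U.map (σ g) ≤ U) → U = ⊥ ∨ U = ⊤) :
    Submodule.span K (Set.range σ) = ⊤ := by
  apply burnside
  · exact Submodule.subset_span ⟨1, map_one σ⟩
  · intro a ha b hb
    induction ha using Submodule.span_induction with
    | mem x hx =>
      obtain ⟨g, rfl⟩ := hx
      induction hb using Submodule.span_induction with
      | mem y hy =>
        obtain ⟨h, rfl⟩ := hy
        rw [← map_mul]
        exact Submodule.subset_span ⟨_, rfl⟩
      | zero => rw [mul_zero]; exact Submodule.zero_mem _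
      | add y z _ _ hy hz => rw [mul_add]; exact Submodule.add_mem _ hy hz
      | smul c y _ hy => rw [mul_smul_comm]; exact Submodule.smul_mem _ _ hy
    | zero => rw [zero_mul]; exact Submodule.zero_mem _
    | add y z _ _ hy hz => rw [add_mul]; exact Submodule.add_mem _ hy hz
    | smul c y _ hy => rw [smul_mul_assoc]; exact Submodule.smul_mem _ _ hy
  · intro U hU
    exact hirr U fun g => hU _ (Submodule.subset_span ⟨g, rfl⟩)

variable [Fintype Q]

/-- The averaging operator `E ↦ ∑ σ g E σ g⁻¹` takes scalar values. -/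
theorem avg_scalar [IsAlgClosed K] [FiniteDimensional K W] [Nontrivial W]
    (σ : Representation K Q W)
    (hirr : ∀ U : Submodule K W, (∀ g, U.map (σ g) ≤ U) → U = ⊥ ∨ U = ⊤)
    (E : Module.End K W) :
    ∃ c : K, ∑ g, σ g * E * σ g⁻¹ = c • 1 ∧
      c * (finrank K W : K) = (Fintype.card Q : K) * LinearMap.trace K W E := by
  have hcomm : ∀ h, (∑ g, σ g * E * σ g⁻¹) * σ h = σ h * ∑ g, σ g * E * σ g⁻¹ := by
    intro h
    rw [Finset.sum_mul, Finset.mul_sum]
    refine Fintype.sum_equiv (Equiv.mulLeft h⁻¹) _ _ fun g => ?_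
    simp only [Equiv.coe_mulLeft, map_mul, mul_inv_rev, inv_inv]
    have h1 : σ h * σ h⁻¹ = 1 := rep_mul_inv σ h
    calc σ g * E * σ g⁻¹ * σ h = 1 * (σ g * E * σ g⁻¹ * σ h) := by rw [one_mul]
      _ = σ h * σ h⁻¹ * (σ g * E * σ g⁻¹ * σ h) := by rw [h1]
      _ = σ h * (σ h⁻¹ * σ g * E * (σ g⁻¹ * σ h)) := by simp only [mul_assoc]
  obtain ⟨c, hc⟩ := schur σ hirr _ hcomm
  refine ⟨c, hc, ?_⟩
  have htr := congrArg (LinearMap.trace K W) hc
  rw [map_sum, map_smul, LinearMap.trace_one, smul_eq_mul] at htr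
  rw [← htr]
  have : ∀ g, LinearMap.trace K W (σ g * E * σ g⁻¹) = LinearMap.trace K W E := by
    intro g
    rw [LinearMap.trace_mul_comm, ← mul_assoc, rep_inv_mul, one_mul]
  simp only [this, Finset.sum_const, Finset.card_univ, nsmul_eq_mul]

/-- **Fourier inversion** in the endomorphism algebra of an irreducible representation. -/
theorem fourier [IsAlgClosed K] [FiniteDimensional K W] [Nontrivial W]
    (σ : Representation K Q W)
    (hirr : ∀ U : Submodule K W, (∀ g, U.map (σ g) ≤ U) → U = ⊥ ∨ U = ⊤)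
    (hQ : (Fintype.card Q : K) ≠ 0) :
    (finrank K W : K) ≠ 0 ∧ ∀ φ : Module.End K W,
      ∑ g, LinearMap.trace K W (φ * σ g⁻¹) • σ g =
        ((Fintype.card Q : K) / (finrank K W : K)) • φ := by
  classical
  have hspan := span_range_eq_top σ hirr
  -- the map `Φ`
  let Φ : Module.End K W →ₗ[K] Module.End K W :=
    { toFun := fun φ => ∑ g, LinearMap.trace K W (φ * σ g⁻¹) • σ g
      map_add' := by
        intro φ ψ
        simp only [add_mul, map_add, add_smul, Finset.sum_add_distrib]
      map_smul' := by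
        intro c φ
        simp only [smul_mul_assoc, map_smul, smul_eq_mul, RingHom.id_apply, Finset.smul_sum,
          mul_smul] }
  have hΦ : ∀ φ, Φ φ = ∑ g, LinearMap.trace K W (φ * σ g⁻¹) • σ g := fun _ => rfl
  have hleft : ∀ h φ, Φ (σ h * φ) = σ h * Φ φ := by
    intro h φ
    rw [hΦ, hΦ, Finset.mul_sum]
    refine Fintype.sum_equiv (Equiv.mulLeft h⁻¹) _ _ fun g => ?_
    simp only [Equiv.coe_mulLeft, mul_inv_rev, inv_inv, map_mul, mul_smul_comm]
    have h1 : σ h * σ h⁻¹ = 1 := rep_mul_inv σ h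
    congr 1
    · rw [LinearMap.trace_mul_comm, ← mul_assoc]
      exact LinearMap.trace_mul_comm K _ _
    · rw [← mul_assoc, h1, one_mul]
  have hright : ∀ h φ, Φ (φ * σ h) = Φ φ * σ h := by
    intro h φ
    rw [hΦ, hΦ, Finset.sum_mul]
    refine Fintype.sum_equiv (Equiv.mulRight h⁻¹) _ _ fun g => ?_
    simp only [Equiv.coe_mulRight, mul_inv_rev, inv_inv, map_mul, smul_mul_assoc]
    have h1 : σ h⁻¹ * σ h = 1 := rep_inv_mul σ h
    congr 1
    rw [mul_assoc, h1, mul_one]
  have hleft' : ∀ a φ : Module.End K W, Φ (a * φ) = a * Φ φ := by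
    intro a φ
    have ha : a ∈ Submodule.span K (Set.range σ) := by rw [hspan]; trivial
    induction ha using Submodule.span_induction with
    | mem x hx => obtain ⟨h, rfl⟩ := hx; exact hleft h φ
    | zero => simp
    | add y z _ _ hy hz => rw [add_mul, map_add, hy, hz, add_mul]
    | smul c y _ hy => rw [smul_mul_assoc, map_smul, hy, smul_mul_assoc]
  have hcomm : ∀ h, Φ 1 * σ h = σ h * Φ 1 := by
    intro h
    rw [← hright, ← hleft, one_mul, mul_one]
  obtain ⟨c0, hc0⟩ := schur σ hirr _ hcomm
  have hΦc : ∀ φ, Φ φ = c0 • φ := by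
    intro φ
    have := hleft' φ 1
    rw [mul_one] at this
    rw [this, hc0, mul_smul_comm, mul_one]
  -- computing `c0` through a rank one idempotent
  obtain ⟨v, hv⟩ := exists_ne (0 : W)
  obtain ⟨f, hf⟩ := Module.Projective.exists_dual_eq_one K hv
  set E0 : Module.End K W := f.smulRight v with hE0
  have htrE0 : ∀ a : Module.End K W, LinearMap.trace K W (E0 * a) = f (a v) := by
    intro a
    have : E0 * a = (f.comp a).smulRight v := by
      ext y
      simp only [hE0, Module.End.mul_apply, LinearMap.smulRight_apply, LinearMap.comp_apply]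
    rw [this, LinearMap.trace_smulRight, LinearMap.comp_apply]
  obtain ⟨c, hc, hcd⟩ := avg_scalar σ hirr E0
  have hE0tr : LinearMap.trace K W E0 = 1 := by
    rw [hE0, LinearMap.trace_smulRight, hf]
  rw [hE0tr, mul_one] at hcd
  have hd : (finrank K W : K) ≠ 0 := by
    intro h
    rw [h, mul_zero] at hcd
    exact hQ hcd.symm
  -- `tr (E0 * Φ E0)` two ways
  have h1 : LinearMap.trace K W (E0 * Φ E0) = c0 := by
    rw [hΦc, mul_smul_comm, map_smul, htrE0, smul_eq_mul, hE0, LinearMap.smulRight_apply, hf,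
      one_smul, hf, mul_one]
  have h2 : LinearMap.trace K W (E0 * Φ E0) = c := by
    rw [htrE0, hΦ]
    have : (∑ g, LinearMap.trace K W (E0 * σ g⁻¹) • σ g) v = (∑ g, σ g * E0 * σ g⁻¹) v := by
      rw [LinearMap.sum_apply, LinearMap.sum_apply]
      refine Finset.sum_congr rfl fun g _ => ?_
      rw [LinearMap.smul_apply, htrE0, Module.End.mul_apply, Module.End.mul_apply, hE0,
        LinearMap.smulRight_apply, map_smul]
    rw [this, hc, LinearMap.smul_apply, Module.End.one_apply, map_smul, hf, smul_eq_mul, mul_one]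
  refine ⟨hd, fun φ => ?_⟩
  have hc0' : c0 = (Fintype.card Q : K) / (finrank K W : K) := by
    rw [eq_div_iff hd, ← h1, h2, hcd]
  rw [← hΦ, hΦc, hc0']

end Cfsg.Agent.Helper5.HHT
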