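import Mathlib

/-!
# Rank invariants of nilpotent operators

* `finrank_sub_one_eq`: an operator `z` with `z ^ N = 0` whose kernel is a line plus the image
  of `z ^ (N - 1)` lives on a space of dimension `1 + N * (dim ker z - 1)`.
* `finrank_comm`: the dimension of the commutant of a nilpotent operator `u` is
  `∑ j, (rk u j - rk u (j + 1)) ^ 2`.
-/

set_option autoImplicit false

namespace Cfsg.Agent.Helper5.HHT

open Module

section general

variable {K : Type*} [Field K] {M : Type*} [AddCommGroup M] [Module K M]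
variable {M' : Type*} [AddCommGroup M'] [Module K M']

theorem finrank_map_add_inf_ker [FiniteDimensional K M] (f : M →ₗ[K] M') (p : Submodule K M) :
    finrank K (p.map f) + finrank K (p ⊓ LinearMap.ker f : Submodule K M) = finrank K p := by
  have h := LinearMap.finrank_range_add_finrank_ker (f.domRestrict p)
  have h1 : LinearMap.range (f.domRestrict p) = p.map f := by
    ext y
    constructor
    · rintro ⟨⟨x, hx⟩, rfl⟩
      exact ⟨x, hx, rfl⟩
    · rintro ⟨x, hx, rfl⟩
      exact ⟨⟨x, hx⟩, rfl⟩
  have h2 : (LinearMap.ker (f.domRestrict p)).map p.subtype = p ⊓ LinearMap.ker f := by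
    ext y
    constructor
    · rintro ⟨⟨x, hx⟩, hx', rfl⟩
      exact ⟨hx, hx'⟩
    · rintro ⟨hy, hy'⟩
      exact ⟨⟨y, hy⟩, hy', rfl⟩
  rw [h1, ← Submodule.finrank_map_subtype_eq p (LinearMap.ker (f.domRestrict p)), h2] at h
  exact h

/-- The rank sequence of an operator. -/
noncomputable def rk (z : Module.End K M) (j : ℕ) : ℕ := finrank K (LinearMap.range (z ^ j))

theorem rk_zero (z : Module.End K M) : rk z 0 = finrank K M := by
  unfold rk
  rw [pow_zero]
  have : LinearMap.range (1 : Module.End K M) = ⊤ := LinearMap.range_id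
  rw [this, finrank_top]

theorem rk_succ [FiniteDimensional K M] (z : Module.End K M) (j : ℕ) :
    rk z j = rk z (j + 1) +
      finrank K (LinearMap.range (z ^ j) ⊓ LinearMap.ker z : Submodule K M) := by
  unfold rk
  have h := finrank_map_add_inf_ker z (LinearMap.range (z ^ j))
  have h1 : (LinearMap.range (z ^ j)).map z = LinearMap.range (z ^ (j + 1)) := by
    rw [pow_succ', Module.End.mul_eq_comp, LinearMap.range_comp]
  rw [h1] at h
  exact h.symm

theorem rk_eq_zero_of_pow_eq_zero (z : Module.End K M) {s j : ℕ} (hs : z ^ s = 0) (hj : s ≤ j) :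
    rk z j = 0 := by
  unfold rk
  have : z ^ j = 0 := by
    obtain ⟨k, rfl⟩ := Nat.exists_eq_add_of_le hj
    rw [pow_add, hs, zero_mul]
  rw [this, LinearMap.range_zero, finrank_bot]

/-- Key count: if `ker z` is a line (detected by a `z`-invariant functional) plus the image of
`z ^ (N - 1)`, then `dim M - 1 = N * (dim ker z - 1)`. -/
theorem finrank_sub_one_eq [FiniteDimensional K M] (z : Module.End K M) (N : ℕ) (hN : 2 ≤ N)
    (hzN : z ^ N = 0) (t : M →ₗ[K] K) (htz : ∀ x, t (z x) = 0) (e : M) (hez : z e = 0)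
    (hte : t e ≠ 0)
    (hker : LinearMap.ker z ≤ Submodule.span K {e} ⊔ LinearMap.range (z ^ (N - 1))) :
    finrank K M - 1 = N * (finrank K (LinearMap.ker z) - 1) := by
  set f := rk z (N - 1) with hf
  have htz' : ∀ j, 1 ≤ j → ∀ x, t ((z ^ j) x) = 0 := by
    intro j hj x
    obtain ⟨k, rfl⟩ := Nat.exists_eq_add_of_le hj
    rw [add_comm, pow_succ', Module.End.mul_apply, htz]
  have hrange_ker : LinearMap.range (z ^ (N - 1)) ≤ LinearMap.ker z := by
    rintro _ ⟨x, rfl⟩
    rw [LinearMap.mem_ker, ← Module.End.mul_apply, ← pow_succ', Nat.sub_add_cancel (by omega), hzN,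
      LinearMap.zero_apply]
  -- `ker z ⊓ range z^j = range z^(N-1)` for `1 ≤ j ≤ N - 1`
  have hinf : ∀ j, 1 ≤ j → j ≤ N - 1 →
      (LinearMap.range (z ^ j) ⊓ LinearMap.ker z : Submodule K M) = LinearMap.range (z ^ (N - 1)) := by
    intro j hj1 hjN
    apply le_antisymm
    · rintro x ⟨hx1, hx2⟩
      obtain ⟨a, ha, b, hb, rfl⟩ := Submodule.mem_sup.mp (hker hx2)
      obtain ⟨c, rfl⟩ := Submodule.mem_span_singleton.mp ha
      obtain ⟨y, hy⟩ := hx1
      obtain ⟨w, rfl⟩ := hb
      have h1 : t ((z ^ j) y) = 0 := htz' j hj1 y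
      have h2 : t ((z ^ (N - 1)) w) = 0 := htz' (N - 1) (by omega) w
      have h3 : t (c • e + (z ^ (N - 1)) w) = 0 := by
        rw [← hy, h1]
      rw [map_add, map_smul, h2, add_zero, smul_eq_mul] at h3
      have hc : c = 0 := by
        rcases mul_eq_zero.mp h3 with h | h
        · exact h
        · exact absurd h hte
      rw [hc, zero_smul, zero_add]
      exact ⟨w, rfl⟩
    · intro x hx
      refine ⟨?_, hrange_ker hx⟩
      obtain ⟨w, rfl⟩ := hx
      refine ⟨(z ^ (N - 1 - j)) w, ?_⟩
      rw [← Module.End.mul_apply, ← pow_add, Nat.add_sub_cancel' hjN]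
  -- `rk z (N - i) = i * f`
  have hrk : ∀ i, 1 ≤ i → i ≤ N - 1 → rk z (N - i) = i * f := by
    intro i hi1
    induction i, hi1 using Nat.le_induction with
    | base => intro _; rw [one_mul]
    | succ i hi ih =>
      intro hiN
      have h1 := rk_succ z (N - (i + 1))
      rw [hinf (N - (i + 1)) (by omega) (by omega)] at h1
      have h2 : N - (i + 1) + 1 = N - i := by omega
      rw [h2, ih (by omega)] at h1
      rw [h1]
      show i * f + rk z (N - 1) = (i + 1) * f
      rw [← hf]; ring
  have h1 : rk z 1 = (N - 1) * f := by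
    have := hrk (N - 1) (by omega) le_rfl
    have h2 : N - (N - 1) = 1 := by omega
    rwa [h2] at this
  have h0 := rk_succ z 0
  rw [rk_zero, zero_add, h1] at h0
  have htop : (LinearMap.range (z ^ 0) ⊓ LinearMap.ker z : Submodule K M) = LinearMap.ker z := by
    rw [pow_zero]
    have : LinearMap.range (1 : Module.End K M) = ⊤ := LinearMap.range_id
    rw [this, top_inf_eq]
  rw [htop] at h0
  -- `dim ker z = 1 + f`
  have hk : finrank K (LinearMap.ker z) = 1 + f := by
    have heq : LinearMap.ker z = Submodule.span K {e} ⊔ LinearMap.range (z ^ (N - 1)) := by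
      apply le_antisymm hker
      apply sup_le _ hrange_ker
      rw [Submodule.span_singleton_le_iff_mem]
      exact hez
    have hdisj : Submodule.span K {e} ⊓ LinearMap.range (z ^ (N - 1)) = ⊥ := by
      rw [eq_bot_iff]
      rintro x ⟨hx1, hx2⟩
      obtain ⟨c, rfl⟩ := Submodule.mem_span_singleton.mp hx1
      obtain ⟨w, hw⟩ := hx2
      have h2 : t ((z ^ (N - 1)) w) = 0 := htz' (N - 1) (by omega) w
      rw [hw, map_smul, smul_eq_mul] at h2
      have hc : c = 0 := by
        rcases mul_eq_zero.mp h2 with h | h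
        · exact h
        · exact absurd h hte
      rw [hc, zero_smul]
      exact Submodule.zero_mem _
    have hsum := Submodule.finrank_sup_add_finrank_inf_eq (Submodule.span K {e})
      (LinearMap.range (z ^ (N - 1)))
    rw [hdisj, finrank_bot, add_zero, ← heq] at hsum
    have he0 : e ≠ 0 := by
      rintro rfl
      exact hte (map_zero t)
    rw [finrank_span_singleton he0] at hsum
    rw [hsum]
    rfl
  rw [h0, hk]
  have : (N - 1) * f + (1 + f) - 1 = N * f := by
    obtain ⟨m, rfl⟩ : ∃ m, N = m + 2 := ⟨N - 2, by omega⟩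
    have h3 : m + 2 - 1 = m + 1 := by omega
    rw [h3]
    have : (m + 1) * f + (1 + f) = (m + 2) * f + 1 := by ring
    rw [this, Nat.add_sub_cancel]
  rw [this]
  have : 1 + f - 1 = f := by omega
  rw [this]

end general

end Cfsg.Agent.Helper5.HHT
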