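import Mathlib
import Cfsg.Agent.Helper5.HHTc

/-!
# The dimension of the commutant of a nilpotent operator
-/

set_option autoImplicit false

namespace Cfsg.Agent.Helper5.HHT

open Module

universe uK uV

variable {K : Type uK} [Field K]

/-- The commutant of an operator. -/
def comm {V : Type uV} [AddCommGroup V] [Module K V] (u : Module.End K V) :
    Submodule K (Module.End K V) where
  carrier := {φ | u * φ = φ * u}
  add_mem' := by
    intro a b ha hb
    simp only [Set.mem_ofPred_eq] at ha hb ⊢
    rw [mul_add, add_mul, ha, hb]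
  zero_mem' := by simp
  smul_mem' := by
    intro c a ha
    simp only [Set.mem_ofPred_eq] at ha ⊢
    rw [mul_smul_comm, smul_mul_assoc, ha]

theorem mem_comm {V : Type uV} [AddCommGroup V] [Module K V] {u φ : Module.End K V} :
    φ ∈ comm u ↔ u * φ = φ * u := Iff.rfl

theorem range_stable {V : Type uV} [AddCommGroup V] [Module K V] (u : Module.End K V) :
    ∀ x ∈ LinearMap.range u, u x ∈ LinearMap.range u := fun x _ => ⟨x, rfl⟩

/-- One step of the recursion for the dimension of the commutant. -/
theorem finrank_comm_step {V : Type uV} [AddCommGroup V] [Module K V] [FiniteDimensional K V]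
    (u : Module.End K V) :
    finrank K (comm u) = (finrank K V - finrank K (LinearMap.range u)) ^ 2 +
      finrank K (comm (u.restrict (range_stable u))) := by
  classical
  set V' := LinearMap.range u with hV'
  set u' : Module.End K V' := u.restrict (range_stable u) with hu'
  have hu'app : ∀ y : V', ((u' y : V') : V) = u (y : V) := fun y => rfl
  set R₀ : Module.End K V →ₗ[K] (V' →ₗ[K] V) := LinearMap.lcomp K V V'.subtype with hR₀
  set ι : (V' →ₗ[K] V') →ₗ[K] (V' →ₗ[K] V) := LinearMap.compRight K V'.subtype with hι
  have hR₀app : ∀ (φ : Module.End K V) (y : V'), R₀ φ y = φ (y : V) := fun _ _ => rfl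
  have hιapp : ∀ (ψ : V' →ₗ[K] V') (y : V'), ι ψ y = (ψ y : V) := fun _ _ => rfl
  -- (d1)
  have hd1 : (comm u).map R₀ = (comm u').map ι := by
    apply le_antisymm
    · rintro _ ⟨φ, hφ, rfl⟩
      have hφ' : u * φ = φ * u := hφ
      have hst : ∀ x ∈ V', φ x ∈ V' := by
        rintro _ ⟨y, rfl⟩
        refine ⟨φ y, ?_⟩
        have := congrArg (fun f => f y) hφ'
        exact this
      refine ⟨φ.restrict hst, ?_, ?_⟩
      · show u' * φ.restrict hst = φ.restrict hst * u'
        ext y
        have := congrArg (fun f => f (y : V)) hφ'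
        exact this
      · ext y
        rfl
    · rintro _ ⟨ψ, hψ, rfl⟩
      have hψ' : u' * ψ = ψ * u' := hψ
      obtain ⟨C, hC⟩ := Submodule.exists_isCompl V'
      obtain ⟨σ, hσ⟩ := u.rangeRestrict.exists_rightInverse_of_surjective
        (LinearMap.range_rangeRestrict u)
      have hσapp : ∀ y : V', u (σ y) = (y : V) := by
        intro y
        have := congrArg (fun f => ((f y : V') : V)) hσ
        exact this
      set φ : Module.End K V := LinearMap.ofIsCompl hC (V'.subtype ∘ₗ ψ)
        ((σ ∘ₗ ψ ∘ₗ u.rangeRestrict) ∘ₗ C.subtype) with hφ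
      have hφl : ∀ y : V', φ (y : V) = (ψ y : V) := by
        intro y
        rw [hφ, LinearMap.ofIsCompl_apply_left]
        rfl
      have hφr : ∀ b : C, φ (b : V) = σ (ψ (u.rangeRestrict (b : V))) := by
        intro b
        rw [hφ, LinearMap.ofIsCompl_apply_right]
        rfl
      refine ⟨φ, ?_, ?_⟩
      · show u * φ = φ * u
        ext v
        have hv : v ∈ V' ⊔ C := by rw [hC.sup_eq_top]; trivial
        obtain ⟨a, ha, b, hb, rfl⟩ := Submodule.mem_sup.mp hv
        simp only [Module.End.mul_apply, map_add]
        congr 1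
        · have h1 := hφl ⟨a, ha⟩
          have h2 := hφl ⟨u a, ⟨a, rfl⟩⟩
          simp only at h1 h2
          rw [h1, h2]
          have := congrArg (fun f => ((f ⟨a, ha⟩ : V') : V)) hψ'
          exact this
        · have h1 := hφr ⟨b, hb⟩
          have h2 := hφl ⟨u b, ⟨b, rfl⟩⟩
          simp only at h1 h2
          rw [h1, h2, hσapp]
          rfl
      · ext y
        rw [hR₀app, hιapp, hφl]
  -- (d2)
  have hιinj : Function.Injective ι := by
    intro ψ₁ ψ₂ h
    ext y
    have := congrArg (fun f => f y) h
    exact this
  have hd2 : finrank K ((comm u').map ι) = finrank K (comm u') :=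
    (LinearEquiv.finrank_eq (Submodule.equivMapOfInjective ι hιinj (comm u'))).symm
  -- (d3)/(d4)
  set Ψ : ((V ⧸ V') →ₗ[K] LinearMap.ker u) →ₗ[K] Module.End K V :=
    (LinearMap.lcomp K V V'.mkQ) ∘ₗ (LinearMap.compRight K (LinearMap.ker u).subtype) with hΨ
  have hΨapp : ∀ (ψ : (V ⧸ V') →ₗ[K] LinearMap.ker u) (v : V),
      Ψ ψ v = (ψ (V'.mkQ v) : V) := fun _ _ => rfl
  have hΨinj : Function.Injective Ψ := by
    intro ψ₁ ψ₂ h
    apply LinearMap.ext
    intro q
    obtain ⟨v, rfl⟩ := V'.mkQ_surjective q
    apply Subtype.ext
    exact congrArg (fun f => f v) h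
  have hd3 : (comm u ⊓ LinearMap.ker R₀ : Submodule K (Module.End K V)) = LinearMap.range Ψ := by
    apply le_antisymm
    · rintro φ ⟨hφc, hφk⟩
      have hφc' : u * φ = φ * u := hφc
      have hφk' : ∀ y : V', φ (y : V) = 0 := by
        intro y
        have := congrArg (fun f => f y) (LinearMap.mem_ker.mp hφk)
        exact this
      have hle : V' ≤ LinearMap.ker φ := fun x hx => hφk' ⟨x, hx⟩
      have hker : ∀ q, V'.liftQ φ hle q ∈ LinearMap.ker u := by
        intro q
        obtain ⟨v, rfl⟩ := V'.mkQ_surjective q
        rw [Submodule.mkQ_apply, Submodule.liftQ_apply, LinearMap.mem_ker]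
        have := congrArg (fun f => f v) hφc'
        simp only [Module.End.mul_apply] at this
        rw [this]
        exact hφk' ⟨u v, ⟨v, rfl⟩⟩
      refine ⟨(V'.liftQ φ hle).codRestrict (LinearMap.ker u) hker, ?_⟩
      ext v
      rw [hΨapp]
      rfl
    · rintro _ ⟨ψ, rfl⟩
      have h1 : ∀ v, Ψ ψ (u v) = 0 := by
        intro v
        rw [hΨapp]
        have : V'.mkQ (u v) = 0 := by
          rw [Submodule.mkQ_apply, Submodule.Quotient.mk_eq_zero]
          exact ⟨v, rfl⟩
        rw [this, map_zero]
        rfl
      have h2 : ∀ v, u (Ψ ψ v) = 0 := by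
        intro v
        rw [hΨapp]
        exact LinearMap.mem_ker.mp (ψ (V'.mkQ v)).2
      refine ⟨?_, ?_⟩
      · show u * Ψ ψ = Ψ ψ * u
        ext v
        simp only [Module.End.mul_apply]
        rw [h1, h2]
      · refine LinearMap.mem_ker.mpr ?_
        ext y
        rw [hR₀app]
        obtain ⟨w, hw⟩ := y.2
        rw [← hw, h1]
        rfl
  have hd4 : finrank K (LinearMap.range Ψ) =
      (finrank K V - finrank K V') ^ 2 := by
    rw [LinearMap.finrank_range_of_inj hΨinj, Module.finrank_linearMap,
      Submodule.finrank_quotient]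
    have hrn := LinearMap.finrank_range_add_finrank_ker u
    have : finrank K (LinearMap.ker u) = finrank K V - finrank K V' := by
      rw [hV']; omega
    rw [this, sq]
  have hmain := finrank_map_add_inf_ker R₀ (comm u)
  rw [hd1, hd2, hd3, hd4] at hmain
  rw [← hmain, add_comm]

/-- The rank sequence of the restriction of `u` to its range. -/
theorem rk_restrict {V : Type uV} [AddCommGroup V] [Module K V] (u : Module.End K V) (j : ℕ) :
    rk (u.restrict (range_stable u)) j = rk u (j + 1) := by
  unfold rk
  rw [← Submodule.finrank_map_subtype_eq (LinearMap.range u)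
    (LinearMap.range ((u.restrict (range_stable u)) ^ j))]
  have : (LinearMap.range ((u.restrict (range_stable u)) ^ j)).map (LinearMap.range u).subtype =
      LinearMap.range (u ^ (j + 1)) := ?_
  · rw [this]
  ext x
  constructor
  · rintro ⟨_, ⟨y, rfl⟩, rfl⟩
    obtain ⟨w, hw⟩ := y.2
    refine ⟨w, ?_⟩
    rw [Module.End.pow_restrict, pow_succ, Module.End.mul_apply, hw]
    rfl
  · rintro ⟨w, rfl⟩
    refine ⟨((u.restrict (range_stable u)) ^ j) ⟨u w, ⟨w, rfl⟩⟩, ⟨_, rfl⟩, ?_⟩
    rw [Module.End.pow_restrict, pow_succ, Module.End.mul_apply]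
    rfl

/-- **Frobenius' formula** for the dimension of the commutant of a nilpotent operator. -/
theorem finrank_comm (B : ℕ) : ∀ (V : Type uV) [AddCommGroup V] [Module K V]
    [FiniteDimensional K V] (u : Module.End K V), IsNilpotent u → finrank K V ≤ B →
    finrank K (comm u) = ∑ j ∈ Finset.range B, (rk u j - rk u (j + 1)) ^ 2 := by
  induction B with
  | zero =>
    intro V _ _ _ u _ hV
    have hV0 : finrank K V = 0 := by omega
    have : Subsingleton V := Module.finrank_zero_iff.mp hV0
    have : Subsingleton (Module.End K V) :=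
      ⟨fun f g => LinearMap.ext fun x => Subsingleton.elim _ _⟩
    rw [Finset.range_zero, Finset.sum_empty]
    exact Module.finrank_zero_of_subsingleton
  | succ B ih =>
    intro V _ _ _ u hu hV
    have hstep := finrank_comm_step u
    have hnil' : IsNilpotent (u.restrict (range_stable u)) := by
      obtain ⟨n, hn⟩ := hu
      refine ⟨n, ?_⟩
      ext y
      rw [Module.End.pow_restrict n, LinearMap.coe_restrict_apply, hn]
      rfl
    have hdim : finrank K (LinearMap.range u) ≤ B := by
      rcases subsingleton_or_nontrivial V with h | h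
      · have : finrank K (LinearMap.range u) = 0 := Module.finrank_zero_of_subsingleton
        omega
      · have hrn := LinearMap.finrank_range_add_finrank_ker u
        have hk : 1 ≤ finrank K (LinearMap.ker u) := by
          by_contra hlt
          have h0 : finrank K (LinearMap.ker u) = 0 := by omega
          have hbot : LinearMap.ker u = ⊥ := Submodule.finrank_eq_zero.mp h0
          have hinj : Function.Injective u := LinearMap.ker_eq_bot.mp hbot
          obtain ⟨n, hn⟩ := hu
          have hinjn : Function.Injective (u ^ n) := by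
            rw [Module.End.coe_pow]
            exact hinj.iterate n
          obtain ⟨v, hv⟩ := exists_ne (0 : V)
          apply hv
          apply hinjn
          rw [hn, LinearMap.zero_apply, map_zero]
        omega
    have hih := ih (LinearMap.range u) (u.restrict (range_stable u)) hnil' hdim
    rw [hstep, hih, Finset.sum_range_succ']
    simp only [rk_restrict]
    rw [rk_zero, add_comm]
    have h1 : rk u (0 + 1) = finrank K (LinearMap.range u) := by
      unfold rk
      rw [zero_add, pow_one]
    rw [h1]

end Cfsg.Agent.Helper5.HHT
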