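import Mathlib
import Cfsg.Agent.Helper5.HHTb
import Cfsg.Agent.Helper5.HHTd

/-!
# Hall–Higman critical case: orbit sums and the core counting theorem
-/

set_option autoImplicit false

namespace Cfsg.Agent.Helper5.HHT

open Module

/-- Sum over a set on which a cyclic group of order dividing `N` acts freely (with all `N`
translates distinct), grouped by orbits. -/
theorem orbit_sum {Γ X M : Type*} [Group Γ] [MulAction Γ X] [DecidableEq X] [AddCommMonoid M]
    (α : Γ) (N : ℕ) (hN0 : 0 < N) (hN : α ^ N = 1) (F : X → M) :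
    ∀ T : Finset X, (∀ x ∈ T, α • x ∈ T) →
      (∀ x ∈ T, ∀ i, 0 < i → i < N → (α ^ i) • x ≠ x) →
      ∃ R : Finset X, R ⊆ T ∧
        ∑ x ∈ T, F x = ∑ r ∈ R, ∑ i ∈ Finset.range N, F ((α ^ i) • r) := by
  intro T
  induction T using Finset.strongInduction with
  | H T ih =>
    intro hT hfree
    rcases T.eq_empty_or_nonempty with rfl | ⟨x, hx⟩
    · exact ⟨∅, by simp, by simp⟩
    · set O := (Finset.range N).image (fun i => (α ^ i) • x) with hO
      have hpowT : ∀ i, ∀ y ∈ T, (α ^ i) • y ∈ T := by
        intro i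
        induction i with
        | zero => intro y hy; simpa using hy
        | succ i ih' => intro y hy; rw [pow_succ', mul_smul]; exact hT _ (ih' y hy)
      have hOT : O ⊆ T := by
        intro y hy
        obtain ⟨i, -, rfl⟩ := Finset.mem_image.mp hy
        exact hpowT i x hx
      have hxO : x ∈ O := Finset.mem_image.mpr ⟨0, Finset.mem_range.mpr hN0, by simp⟩
      have hT' : T \ O ⊂ T := by
        refine Finset.ssubset_iff_subset_ne.mpr ⟨Finset.sdiff_subset, ?_⟩
        intro h
        have : x ∈ T \ O := by rw [h]; exact hx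
        exact (Finset.mem_sdiff.mp this).2 hxO
      have hinv : ∀ y ∈ T \ O, α • y ∈ T \ O := by
        intro y hy
        obtain ⟨hyT, hyO⟩ := Finset.mem_sdiff.mp hy
        refine Finset.mem_sdiff.mpr ⟨hT y hyT, ?_⟩
        intro h
        obtain ⟨i, hi, hiy⟩ := Finset.mem_image.mp h
        have hiN := Finset.mem_range.mp hi
        apply hyO
        rcases Nat.eq_zero_or_pos i with rfl | hipos
        · refine Finset.mem_image.mpr ⟨N - 1, Finset.mem_range.mpr (by omega), ?_⟩
          simp only [pow_zero, one_smul] at hiy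
          show (α ^ (N - 1)) • x = y
          rw [hiy, ← mul_smul, ← pow_succ, Nat.sub_add_cancel hN0, hN, one_smul]
        · refine Finset.mem_image.mpr ⟨i - 1, Finset.mem_range.mpr (by omega), ?_⟩
          have h1 : α • ((α ^ (i - 1)) • x) = α • y := by
            rw [← mul_smul, ← pow_succ', Nat.sub_add_cancel hipos]; exact hiy
          exact MulAction.injective α h1
      obtain ⟨R', hR'T, hR'⟩ :=
        ih (T \ O) hT' hinv (fun y hy => hfree y (Finset.sdiff_subset hy))
      have hxR' : x ∉ R' := fun h => (Finset.mem_sdiff.mp (hR'T h)).2 hxO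
      refine ⟨insert x R', ?_, ?_⟩
      · intro y hy
        rcases Finset.mem_insert.mp hy with rfl | hy
        · exact hx
        · exact Finset.sdiff_subset (hR'T hy)
      · rw [Finset.sum_insert hxR', ← hR', ← Finset.sum_sdiff hOT, add_comm]
        congr 1
        rw [hO, Finset.sum_image]
        have key : ∀ i j, i < j → j < N → (α ^ i) • x ≠ (α ^ j) • x := by
          intro i j hij hjN h
          have h2 : (α ^ i) • x = (α ^ i) • ((α ^ (j - i)) • x) := by
            rw [← mul_smul, ← pow_add, Nat.add_sub_cancel' hij.le]; exact h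
          have h3 := MulAction.injective (α ^ i) h2
          exact hfree x hx (j - i) (by omega) (by omega) h3.symm
        intro i hi j hj hij
        have hiN := Finset.mem_range.mp hi
        have hjN := Finset.mem_range.mp hj
        rcases lt_trichotomy i j with h | h | h
        · exact absurd hij (key i j h hjN)
        · exact h
        · exact absurd hij.symm (key j i h hiN)

/-- `(X - 1) ^ (p ^ n - 1) = ∑ i < p ^ n, X ^ i` in characteristic `p`, evaluated in any
`K`-algebra. -/
theorem sub_one_pow_eq_geom {K : Type*} [Field K] (p : ℕ) [Fact p.Prime] [CharP K p]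
    {A : Type*} [Ring A] [Algebra K A] (c : A) (n : ℕ) :
    (c - 1) ^ (p ^ n - 1) = ∑ i ∈ Finset.range (p ^ n), c ^ i := by
  open Polynomial in
  have hpoly : ((X : K[X]) - 1) ^ (p ^ n - 1) = ∑ i ∈ Finset.range (p ^ n), (X : K[X]) ^ i := by
    have hpos : 0 < p ^ n := pos_of_ne_zero (pow_ne_zero _ (Fact.out : p.Prime).ne_zero)
    have h1 : ((X : K[X]) - 1) ^ (p ^ n - 1) * (X - 1) =
        (∑ i ∈ Finset.range (p ^ n), (X : K[X]) ^ i) * (X - 1) := by
      rw [← pow_succ, Nat.sub_add_cancel hpos, geom_sum_mul, sub_pow_char_pow, one_pow]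
    have hne : (X : K[X]) - 1 ≠ 0 := by
      have := Polynomial.X_sub_C_ne_zero (1 : K)
      rwa [map_one] at this
    exact mul_right_cancel₀ hne h1
  have := congrArg (Polynomial.aeval c) hpoly
  simpa only [map_pow, map_sub, map_one, map_sum, Polynomial.aeval_X] using this

theorem sub_one_pow_char_pow {K : Type*} [Field K] (p : ℕ) [Fact p.Prime] [CharP K p]
    {A : Type*} [Ring A] [Algebra K A] (c : A) (n : ℕ) :
    (c - 1) ^ (p ^ n) = c ^ (p ^ n) - 1 := by
  open Polynomial in
  have hpoly : ((X : K[X]) - 1) ^ (p ^ n) = (X : K[X]) ^ (p ^ n) - 1 := by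
    rw [sub_pow_char_pow, one_pow]
  have := congrArg (Polynomial.aeval c) hpoly
  simpa only [map_pow, map_sub, map_one, Polynomial.aeval_X] using this

section conj

variable {K : Type*} [Field K] {W : Type*} [AddCommGroup W] [Module K W]

/-- The operator `φ ↦ a φ a⁻¹` on `End W`. -/
def conjOp (a ainv : Module.End K W) : Module.End K (Module.End K W) :=
  LinearMap.mulLeft K a ∘ₗ LinearMap.mulRight K ainv

theorem conjOp_apply (a ainv φ : Module.End K W) : conjOp a ainv φ = a * φ * ainv := by
  simp [conjOp, mul_assoc]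

theorem conjOp_pow_apply (a ainv : Module.End K W) (i : ℕ) (φ : Module.End K W) :
    (conjOp a ainv ^ i) φ = a ^ i * φ * ainv ^ i := by
  induction i generalizing φ with
  | zero => simp
  | succ i ih =>
    rw [pow_succ', Module.End.mul_apply, ih, conjOp_apply, pow_succ', pow_succ]
    simp only [mul_assoc]

variable {Q : Type*} [Group Q] [Fintype Q]

/-- The fixed points of conjugation by `a` on `End W` are spanned by `1` and the image of the
norm operator, when `a` induces a "semiregular modulo scalars" automorphism of `Q`. -/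
theorem ker_conj_le [IsAlgClosed K] [FiniteDimensional K W] [Nontrivial W]
    (σ : Representation K Q W)
    (hirr : ∀ U : Submodule K W, (∀ g, U.map (σ g) ≤ U) → U = ⊥ ∨ U = ⊤)
    (hQ : (Fintype.card Q : K) ≠ 0)
    (α : MulAut Q) (a ainv : Module.End K W) (h1 : a * ainv = 1) (h2 : ainv * a = 1)
    (N : ℕ) (hN0 : 0 < N) (hαN : α ^ N = 1)
    (ha : ∀ g, a * σ g = σ (α g) * a)
    (hsemi : ∀ i, 0 < i → i < N → ∀ g, (α ^ i) g = g → ∃ c : K, σ g = c • 1) :
    LinearMap.ker (conjOp a ainv - 1) ≤
      Submodule.span K {(1 : Module.End K W)} ⊔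
        LinearMap.range (∑ i ∈ Finset.range N, conjOp a ainv ^ i) := by
  classical
  intro φ hφ
  have hφ' : a * φ * ainv = φ := by
    have := LinearMap.mem_ker.mp hφ
    rw [LinearMap.sub_apply, conjOp_apply, Module.End.one_apply, sub_eq_zero] at this
    exact this
  have hcomm : a * φ = φ * a := by
    calc a * φ = a * φ * (ainv * a) := by rw [h2, mul_one]
      _ = (a * φ * ainv) * a := by simp only [mul_assoc]
      _ = φ * a := by rw [hφ']
  obtain ⟨hd0, hfour⟩ := fourier σ hirr hQ
  have hfφ := hfour φ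
  set f : Q → K := fun g => LinearMap.trace K W (φ * σ g⁻¹) with hf
  have hσα : ∀ g, σ (α g) = a * σ g * ainv := by
    intro g
    rw [ha g, mul_assoc, h1, mul_one]
  have hfα : ∀ g, f (α g) = f g := by
    intro g
    simp only [hf]
    rw [← map_inv, hσα]
    calc LinearMap.trace K W (φ * (a * σ g⁻¹ * ainv))
        = LinearMap.trace K W ((φ * a * σ g⁻¹) * ainv) := by simp only [mul_assoc]
      _ = LinearMap.trace K W (ainv * (φ * a * σ g⁻¹)) := LinearMap.trace_mul_comm K _ _
      _ = LinearMap.trace K W ((ainv * a) * φ * σ g⁻¹) := by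
          rw [← hcomm]; simp only [mul_assoc]
      _ = LinearMap.trace K W (φ * σ g⁻¹) := by rw [h2, one_mul]
  have hfαi : ∀ i g, f ((α ^ i) g) = f g := by
    intro i
    induction i with
    | zero => intro g; simp
    | succ i ih => intro g; rw [pow_succ', MulAut.mul_apply, hfα, ih]
  have hσαi : ∀ i g, σ ((α ^ i) g) = (conjOp a ainv ^ i) (σ g) := by
    intro i
    induction i with
    | zero => intro g; simp
    | succ i ih =>
      intro g
      rw [pow_succ', MulAut.mul_apply, hσα, ih, pow_succ', Module.End.mul_apply, conjOp_apply]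
  set P : Q → Prop := fun g => ∃ i, 0 < i ∧ i < N ∧ (α ^ i) g = g with hP
  have hsplit := Finset.sum_filter_add_sum_filter_not Finset.univ P (fun g => f g • σ g)
  have hS : ∑ g ∈ Finset.univ.filter P, f g • σ g ∈
      Submodule.span K {(1 : Module.End K W)} := by
    refine Submodule.sum_mem _ fun g hg => ?_
    obtain ⟨i, hi0, hiN, hig⟩ := (Finset.mem_filter.mp hg).2
    obtain ⟨c, hc⟩ := hsemi i hi0 hiN g hig
    rw [hc, smul_smul]
    exact Submodule.smul_mem _ _ (Submodule.mem_span_singleton_self _)
  have hT : ∑ g ∈ Finset.univ.filter (fun g => ¬ P g), f g • σ g ∈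
      LinearMap.range (∑ i ∈ Finset.range N, conjOp a ainv ^ i) := by
    have hinvT : ∀ g ∈ Finset.univ.filter (fun g => ¬ P g),
        α • g ∈ Finset.univ.filter (fun g => ¬ P g) := by
      intro g hg
      rw [Finset.mem_filter] at hg ⊢
      refine ⟨Finset.mem_univ _, ?_⟩
      rintro ⟨i, hi0, hiN, hig⟩
      apply hg.2
      refine ⟨i, hi0, hiN, ?_⟩
      rw [MulAut.smul_def] at hig
      have : α ((α ^ i) g) = α g := by
        rw [← MulAut.mul_apply, ← pow_succ', pow_succ, MulAut.mul_apply]; exact hig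
      exact α.injective this
    have hfreeT : ∀ g ∈ Finset.univ.filter (fun g => ¬ P g), ∀ i, 0 < i → i < N →
        (α ^ i) • g ≠ g := by
      intro g hg i hi0 hiN hig
      exact (Finset.mem_filter.mp hg).2 ⟨i, hi0, hiN, by rwa [MulAut.smul_def] at hig⟩
    obtain ⟨R, -, hR⟩ := orbit_sum (Γ := MulAut Q) (X := Q) α N hN0 hαN (fun g => f g • σ g)
      (Finset.univ.filter (fun g => ¬ P g)) hinvT hfreeT
    rw [hR]
    refine ⟨∑ r ∈ R, f r • σ r, ?_⟩
    rw [map_sum]
    refine Finset.sum_congr rfl fun r _ => ?_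
    rw [map_smul, LinearMap.sum_apply, Finset.smul_sum]
    refine Finset.sum_congr rfl fun i _ => ?_
    rw [MulAut.smul_def, hfαi, hσαi]
  have hφeq : φ = ((finrank K W : K) / (Fintype.card Q : K)) • ∑ g, f g • σ g := by
    rw [hfφ, smul_smul]
    have : (finrank K W : K) / (Fintype.card Q : K) *
        ((Fintype.card Q : K) / (finrank K W : K)) = 1 := by
      field_simp
    rw [this, one_smul]
  rw [hφeq, ← hsplit]
  exact Submodule.smul_mem _ _ (Submodule.add_mem_sup hS hT)

end conj

theorem core_arith (N s d S : ℕ) (hs2 : 2 ≤ s) (hd : 1 ≤ d) (hSs : s ≤ S)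
    (hCS : d * d ≤ s * S) (heq : d * d - 1 = N * (S - 1)) :
    N - 1 ≤ s ∧ (s = N - 1 → d = N - 1) := by
  obtain ⟨S', rfl⟩ : ∃ S', S = S' + 1 := ⟨S - 1, by omega⟩
  have hdd : 1 ≤ d * d := Nat.mul_pos hd hd
  have heq' : d * d = N * S' + 1 := by
    rw [Nat.add_sub_cancel] at heq
    omega
  constructor
  · by_contra h
    have h' : s + 2 ≤ N := by omega
    have h3 : (s + 2) * S' ≤ N * S' := Nat.mul_le_mul_right _ h'
    have h4 : s * (S' + 1) = s * S' + s := by ring
    have h5 : (s + 2) * S' = s * S' + 2 * S' := by ring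
    omega
  · intro hsN
    have hN : N = s + 1 := by omega
    subst hN
    have h4 : s * (S' + 1) = s * S' + s := by ring
    have h5 : (s + 1) * S' = s * S' + S' := by ring
    have hS' : S' + 1 = s := by omega
    have h6 : d * d = s * s := by
      rw [heq', ← hS']
      ring
    have := Nat.mul_self_inj.mp h6
    omega

theorem core {K : Type*} [Field K] [IsAlgClosed K] (p : ℕ) [Fact p.Prime] [CharP K p]
    {W : Type*} [AddCommGroup W] [Module K W] [FiniteDimensional K W] [Nontrivial W]
    {Q : Type*} [Group Q] [Fintype Q]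
    (σ : Representation K Q W)
    (hirr : ∀ U : Submodule K W, (∀ g, U.map (σ g) ≤ U) → U = ⊥ ∨ U = ⊤)
    (hQ : (Fintype.card Q : K) ≠ 0)
    (α : MulAut Q) (a : Module.End K W) (n : ℕ) (hn : 1 ≤ n)
    (hαN : α ^ (p ^ n) = 1)
    (ha : ∀ g, a * σ g = σ (α g) * a) (haN : a ^ (p ^ n) = 1)
    (hsemi : ∀ i, 0 < i → i < p ^ n → ∀ g, (α ^ i) g = g → ∃ c : K, σ g = c • 1)
    (ha1 : a ≠ 1) (s : ℕ) (hs : (a - 1) ^ s = 0) (hmin : ∀ k < s, (a - 1) ^ k ≠ 0) :
    p ^ n - 1 ≤ s ∧ (s = p ^ n - 1 → finrank K W = p ^ n - 1) := by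
  classical
  have hp := (Fact.out : p.Prime)
  have hN2 : 2 ≤ p ^ n := by
    calc 2 ≤ p := hp.two_le
      _ = p ^ 1 := (pow_one p).symm
      _ ≤ p ^ n := Nat.pow_le_pow_right hp.pos hn
  set ainv := a ^ (p ^ n - 1) with hainv
  have h1 : a * ainv = 1 := by rw [hainv, ← pow_succ', Nat.sub_add_cancel (by omega), haN]
  have h2 : ainv * a = 1 := by rw [hainv, ← pow_succ, Nat.sub_add_cancel (by omega), haN]
  have hainvN : ainv ^ (p ^ n) = 1 := by
    rw [hainv, ← pow_mul, mul_comm, pow_mul, haN, one_pow]
  have hcN : conjOp a ainv ^ (p ^ n) = 1 := by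
    refine LinearMap.ext fun φ => ?_
    rw [conjOp_pow_apply, haN, hainvN, one_mul, mul_one, Module.End.one_apply]
  have hzN : (conjOp a ainv - 1) ^ (p ^ n) = 0 := by
    rw [sub_one_pow_char_pow (K := K) p (conjOp a ainv) n, hcN, sub_self]
  have hzN1 : (conjOp a ainv - 1) ^ (p ^ n - 1) =
      ∑ i ∈ Finset.range (p ^ n), conjOp a ainv ^ i :=
    sub_one_pow_eq_geom (K := K) p (conjOp a ainv) n
  have hker : LinearMap.ker (conjOp a ainv - 1) ≤ Submodule.span K {(1 : Module.End K W)} ⊔
      LinearMap.range ((conjOp a ainv - 1) ^ (p ^ n - 1)) := by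
    rw [hzN1]
    exact ker_conj_le σ hirr hQ α a ainv h1 h2 (p ^ n) (by omega) hαN ha hsemi
  obtain ⟨hd0, -⟩ := fourier σ hirr hQ
  have htz : ∀ φ, LinearMap.trace K W ((conjOp a ainv - 1) φ) = 0 := by
    intro φ
    rw [LinearMap.sub_apply, Module.End.one_apply, conjOp_apply, map_sub,
      LinearMap.trace_mul_comm, ← mul_assoc, h2, one_mul, sub_self]
  have hez : (conjOp a ainv - 1) (1 : Module.End K W) = 0 := by
    rw [LinearMap.sub_apply, Module.End.one_apply, conjOp_apply, mul_one, h1, sub_self]
  have hte : LinearMap.trace K W (1 : Module.End K W) ≠ 0 := by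
    rw [LinearMap.trace_one]; exact hd0
  have hcount := finrank_sub_one_eq (conjOp a ainv - 1) (p ^ n) hN2 hzN (LinearMap.trace K W)
    htz 1 hez hte hker
  -- the kernel is the commutant of `u = a - 1`
  have hkercomm : LinearMap.ker (conjOp a ainv - 1) = comm (a - 1) := by
    ext φ
    rw [LinearMap.mem_ker, mem_comm, LinearMap.sub_apply, Module.End.one_apply, conjOp_apply,
      sub_eq_zero, sub_mul, mul_sub, one_mul, mul_one, sub_left_inj]
    constructor
    · intro h
      calc a * φ = a * φ * (ainv * a) := by rw [h2, mul_one]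
        _ = (a * φ * ainv) * a := by simp only [mul_assoc]
        _ = φ * a := by rw [h]
    · intro h
      rw [h, mul_assoc, h1, mul_one]
  rw [hkercomm] at hcount
  have hnil : IsNilpotent (a - 1) := ⟨s, hs⟩
  have hS := finrank_comm (K := K) (finrank K W + s) W (a - 1) hnil (by omega)
  have hEnd : finrank K (Module.End K W) = finrank K W * finrank K W :=
    Module.finrank_linearMap K K W W
  -- rank sequence facts
  have hmono : ∀ j, rk (a - 1) (j + 1) ≤ rk (a - 1) j := fun j => by
    have := rk_succ (a - 1) j; omega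
  have htel : ∀ B, ∑ j ∈ Finset.range B, (rk (a - 1) j - rk (a - 1) (j + 1)) + rk (a - 1) B =
      rk (a - 1) 0 := by
    intro B
    induction B with
    | zero => simp
    | succ B ih =>
      rw [Finset.sum_range_succ]
      have := hmono B
      omega
  have hzero : ∀ j, s ≤ j → rk (a - 1) j = 0 := fun j hj =>
    rk_eq_zero_of_pow_eq_zero (a - 1) hs hj
  have hs0 : s ≠ 0 := by
    rintro rfl
    rw [pow_zero] at hs
    exact one_ne_zero hs
  have hs1 : s ≠ 1 := by
    rintro rfl
    rw [pow_one, sub_eq_zero] at hs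
    exact ha1 hs
  have hone : ∀ j, j < s → 1 ≤ rk (a - 1) j - rk (a - 1) (j + 1) := by
    intro j hj
    have h3 := rk_succ (a - 1) j
    have h4 : 1 ≤ finrank K (LinearMap.range ((a - 1) ^ j) ⊓ LinearMap.ker (a - 1) :
        Submodule K W) := by
      rw [Submodule.one_le_finrank_iff]
      have hne := hmin (s - 1) (by omega)
      have : ∃ w, ((a - 1) ^ (s - 1)) w ≠ 0 := by
        by_contra hcon
        push Not at hcon
        exact hne (LinearMap.ext hcon)
      obtain ⟨w, hw⟩ := this
      intro hbot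
      apply hw
      have hmem : ((a - 1) ^ (s - 1)) w ∈ (LinearMap.range ((a - 1) ^ j) ⊓
          LinearMap.ker (a - 1) : Submodule K W) := by
        constructor
        · refine ⟨((a - 1) ^ (s - 1 - j)) w, ?_⟩
          rw [← Module.End.mul_apply, ← pow_add]
          congr 2
          omega
        · show (a - 1) (((a - 1) ^ (s - 1)) w) = 0
          rw [← Module.End.mul_apply, ← pow_succ', Nat.sub_add_cancel (by omega), hs,
            LinearMap.zero_apply]
      rw [hbot] at hmem
      exact (Submodule.mem_bot K).mp hmem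
    omega
  have hsub : Finset.range s ⊆ Finset.range (finrank K W + s) :=
    Finset.range_subset_range.mpr (by omega)
  have hsum1 : ∑ j ∈ Finset.range s, (rk (a - 1) j - rk (a - 1) (j + 1)) = finrank K W := by
    rw [Finset.sum_subset hsub]
    · have := htel (finrank K W + s)
      rw [hzero _ (by omega), rk_zero] at this
      omega
    · intro j _ hj
      rw [Finset.mem_range] at hj
      rw [hzero j (by omega)]
      simp
  have hsum2 : ∑ j ∈ Finset.range s, (rk (a - 1) j - rk (a - 1) (j + 1)) ^ 2 =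
      finrank K (comm (a - 1)) := by
    rw [hS, Finset.sum_subset hsub]
    intro j _ hj
    rw [Finset.mem_range] at hj
    rw [hzero j (by omega)]
    simp
  have hCS := sq_sum_le_card_mul_sum_sq (s := Finset.range s)
    (f := fun j => rk (a - 1) j - rk (a - 1) (j + 1))
  rw [hsum1, hsum2, Finset.card_range] at hCS
  have hSs : s ≤ finrank K (comm (a - 1)) := by
    rw [← hsum2]
    calc s = ∑ j ∈ Finset.range s, 1 := by simp
      _ ≤ ∑ j ∈ Finset.range s, (rk (a - 1) j - rk (a - 1) (j + 1)) ^ 2 := by
        refine Finset.sum_le_sum fun j hj => ?_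
        exact Nat.one_le_pow _ _ (hone j (Finset.mem_range.mp hj))
  have hd1 : 1 ≤ finrank K W := Module.finrank_pos
  rw [hEnd] at hcount
  exact core_arith (p ^ n) s (finrank K W) (finrank K (comm (a - 1))) (by omega) hd1 hSs
    (by simpa [sq] using hCS) hcount

end Cfsg.Agent.Helper5.HHT
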