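import Mathlib
import Cfsg.Agent.Helper5.HHTe

/-!
# Conjugation of linear maps between representations, relative traces, Mackey (TI case)
-/

set_option autoImplicit false

namespace Cfsg.Agent.Helper5.GC

open Module

variable {k : Type*} [Field k] {G : Type*} [Group G]
variable {V W U : Type*} [AddCommGroup V] [Module k V] [AddCommGroup W] [Module k W]
  [AddCommGroup U] [Module k U]

/-- Conjugate of a linear map by a group element. -/
def cj (ρ : Representation k G V) (σ : Representation k G W) (g : G) (f : V →ₗ[k] W) :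
    V →ₗ[k] W :=
  σ g ∘ₗ f ∘ₗ ρ g⁻¹

theorem cj_apply (ρ : Representation k G V) (σ : Representation k G W) (g : G) (f : V →ₗ[k] W)
    (v : V) : cj ρ σ g f v = σ g (f (ρ g⁻¹ v)) := rfl

theorem rep_inv_apply (ρ : Representation k G V) (g : G) (v : V) : ρ g⁻¹ (ρ g v) = v := by
  have : (ρ g⁻¹ * ρ g) v = v := by rw [← map_mul, inv_mul_cancel, map_one]; rfl
  exact this

theorem rep_apply_inv (ρ : Representation k G V) (g : G) (v : V) : ρ g (ρ g⁻¹ v) = v := by
  have : (ρ g * ρ g⁻¹) v = v := by rw [← map_mul, mul_inv_cancel, map_one]; rfl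
  exact this

theorem rep_mul_apply (ρ : Representation k G V) (g h : G) (v : V) :
    ρ (g * h) v = ρ g (ρ h v) := by
  rw [map_mul]; rfl

theorem cj_one (ρ : Representation k G V) (σ : Representation k G W) (f : V →ₗ[k] W) :
    cj ρ σ 1 f = f := by
  ext v
  simp [cj_apply]

theorem cj_mul (ρ : Representation k G V) (σ : Representation k G W) (g h : G)
    (f : V →ₗ[k] W) : cj ρ σ (g * h) f = cj ρ σ g (cj ρ σ h f) := by
  ext v
  simp only [cj_apply, mul_inv_rev, rep_mul_apply]

theorem cj_add (ρ : Representation k G V) (σ : Representation k G W) (g : G)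
    (f f' : V →ₗ[k] W) : cj ρ σ g (f + f') = cj ρ σ g f + cj ρ σ g f' := by
  ext v
  simp [cj_apply]

theorem cj_smul (ρ : Representation k G V) (σ : Representation k G W) (g : G) (c : k)
    (f : V →ₗ[k] W) : cj ρ σ g (c • f) = c • cj ρ σ g f := by
  ext v
  simp [cj_apply]

theorem cj_zero (ρ : Representation k G V) (σ : Representation k G W) (g : G) :
    cj ρ σ g (0 : V →ₗ[k] W) = 0 := by
  ext v
  simp [cj_apply]

theorem cj_neg (ρ : Representation k G V) (σ : Representation k G W) (g : G)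
    (f : V →ₗ[k] W) : cj ρ σ g (-f) = - cj ρ σ g f := by
  ext v
  simp [cj_apply]

theorem cj_sub (ρ : Representation k G V) (σ : Representation k G W) (g : G)
    (f f' : V →ₗ[k] W) : cj ρ σ g (f - f') = cj ρ σ g f - cj ρ σ g f' := by
  ext v
  simp [cj_apply]

theorem cj_sum (ρ : Representation k G V) (σ : Representation k G W) (g : G) {ι : Type*}
    (s : Finset ι) (f : ι → V →ₗ[k] W) :
    cj ρ σ g (∑ i ∈ s, f i) = ∑ i ∈ s, cj ρ σ g (f i) := by
  classical
  induction s using Finset.induction_on with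
  | empty => simp [cj_zero]
  | insert a s ha ih => rw [Finset.sum_insert ha, Finset.sum_insert ha, cj_add, ih]

/-- `f` intertwines the action of the elements of `L`. -/
def IsHomOn (ρ : Representation k G V) (σ : Representation k G W) (L : Subgroup G)
    (f : V →ₗ[k] W) : Prop :=
  ∀ g ∈ L, ∀ v, f (ρ g v) = σ g (f v)

theorem IsHomOn.cj_eq {ρ : Representation k G V} {σ : Representation k G W} {L : Subgroup G}
    {f : V →ₗ[k] W} (hf : IsHomOn ρ σ L f) {g : G} (hg : g ∈ L) : cj ρ σ g f = f := by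
  ext v
  rw [cj_apply, ← hf g hg, rep_apply_inv]

theorem isHomOn_of_cj_eq {ρ : Representation k G V} {σ : Representation k G W} {L : Subgroup G}
    {f : V →ₗ[k] W} (h : ∀ g ∈ L, cj ρ σ g f = f) : IsHomOn ρ σ L f := by
  intro g hg v
  have := congrArg (fun F => F (ρ g v)) (h g hg)
  simp only [cj_apply, rep_inv_apply] at this
  exact this.symm

theorem IsHomOn.comp {ρ : Representation k G V} {σ : Representation k G W}
    {τ : Representation k G U} {L : Subgroup G} {f : V →ₗ[k] W} {f' : W →ₗ[k] U}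
    (hf : IsHomOn ρ σ L f) (hf' : IsHomOn σ τ L f') : IsHomOn ρ τ L (f' ∘ₗ f) := by
  intro g hg v
  rw [LinearMap.comp_apply, hf g hg, hf' g hg, LinearMap.comp_apply]

theorem IsHomOn.mono {ρ : Representation k G V} {σ : Representation k G W} {L L' : Subgroup G}
    {f : V →ₗ[k] W} (hf : IsHomOn ρ σ L f) (h : L' ≤ L) : IsHomOn ρ σ L' f :=
  fun g hg v => hf g (h hg) v

theorem isHomOn_id (ρ : Representation k G V) (L : Subgroup G) :
    IsHomOn ρ ρ L LinearMap.id := fun _ _ _ => rfl

theorem isHomOn_rep_of_comm (ρ : Representation k G V) (L : Subgroup G) (z : G)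
    (hz : ∀ g ∈ L, g * z = z * g) : IsHomOn ρ ρ L (ρ z) := by
  intro g hg v
  rw [← rep_mul_apply, ← rep_mul_apply, hz g hg]

/-- composition with intertwiners commutes with conjugation -/
theorem comp_cj {ρ : Representation k G V} {σ : Representation k G W}
    {τ : Representation k G U} {L : Subgroup G} {a : W →ₗ[k] U} (ha : IsHomOn σ τ L a)
    {g : G} (hg : g ∈ L) (f : V →ₗ[k] W) : a ∘ₗ cj ρ σ g f = cj ρ τ g (a ∘ₗ f) := by
  ext v
  simp only [LinearMap.comp_apply, cj_apply]
  rw [ha g hg]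

theorem cj_comp {ρ : Representation k G V} {σ : Representation k G W}
    {τ : Representation k G U} {L : Subgroup G} {b : U →ₗ[k] V} (hb : IsHomOn τ ρ L b)
    {g : G} (hg : g ∈ L) (f : V →ₗ[k] W) : cj ρ σ g f ∘ₗ b = cj τ σ g (f ∘ₗ b) := by
  ext v
  simp only [LinearMap.comp_apply, cj_apply]
  rw [hb g⁻¹ (L.inv_mem hg)]

/-- The trace over the powers of `x` (for `x` of order `p`, this is `Tr_1^P`). -/
def trX (ρ : Representation k G V) (σ : Representation k G W) (x : G) (p : ℕ)
    (f : V →ₗ[k] W) : V →ₗ[k] W :=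
  ∑ i ∈ Finset.range p, cj ρ σ (x ^ i) f

theorem trX_apply (ρ : Representation k G V) (σ : Representation k G W) (x : G) (p : ℕ)
    (f : V →ₗ[k] W) (v : V) :
    trX ρ σ x p f v = ∑ i ∈ Finset.range p, σ (x ^ i) (f (ρ (x ^ i)⁻¹ v)) := by
  simp [trX, LinearMap.sum_apply, cj_apply]

theorem comp_trX {ρ : Representation k G V} {σ : Representation k G W}
    {τ : Representation k G U} {L : Subgroup G} {a : W →ₗ[k] U} (ha : IsHomOn σ τ L a)
    {x : G} (hx : x ∈ L) (p : ℕ) (f : V →ₗ[k] W) :
    a ∘ₗ trX ρ σ x p f = trX ρ τ x p (a ∘ₗ f) := by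
  unfold trX
  ext v
  simp only [LinearMap.comp_apply, LinearMap.sum_apply, map_sum]
  refine Finset.sum_congr rfl fun i _ => ?_
  have := congrArg (fun F => F v) (comp_cj (ρ := ρ) ha (L.pow_mem hx i) f)
  simpa using this

theorem trX_comp {ρ : Representation k G V} {σ : Representation k G W}
    {τ : Representation k G U} {L : Subgroup G} {b : U →ₗ[k] V} (hb : IsHomOn τ ρ L b)
    {x : G} (hx : x ∈ L) (p : ℕ) (f : V →ₗ[k] W) :
    trX ρ σ x p f ∘ₗ b = trX τ σ x p (f ∘ₗ b) := by
  unfold trX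
  ext v
  simp only [LinearMap.comp_apply, LinearMap.sum_apply]
  refine Finset.sum_congr rfl fun i _ => ?_
  have := congrArg (fun F => F v) (cj_comp (σ := σ) hb (L.pow_mem hx i) f)
  simpa using this

theorem trX_add (ρ : Representation k G V) (σ : Representation k G W) (x : G) (p : ℕ)
    (f f' : V →ₗ[k] W) : trX ρ σ x p (f + f') = trX ρ σ x p f + trX ρ σ x p f' := by
  unfold trX
  rw [← Finset.sum_add_distrib]
  exact Finset.sum_congr rfl fun i _ => cj_add _ _ _ _ _

theorem trX_neg (ρ : Representation k G V) (σ : Representation k G W) (x : G) (p : ℕ)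
    (f : V →ₗ[k] W) : trX ρ σ x p (-f) = - trX ρ σ x p f := by
  unfold trX
  rw [← Finset.sum_neg_distrib]
  exact Finset.sum_congr rfl fun i _ => cj_neg _ _ _ _

theorem trX_smul (ρ : Representation k G V) (σ : Representation k G W) (x : G) (p : ℕ) (c : k)
    (f : V →ₗ[k] W) : trX ρ σ x p (c • f) = c • trX ρ σ x p f := by
  unfold trX
  rw [Finset.smul_sum]
  exact Finset.sum_congr rfl fun i _ => cj_smul _ _ _ _ _

/-- The operator `P⁺ = ∑_{i<p} ρ(x^i)`. -/
def pplus (ρ : Representation k G V) (x : G) (p : ℕ) : V →ₗ[k] V :=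
  ∑ i ∈ Finset.range p, ρ (x ^ i)

theorem pplus_apply (ρ : Representation k G V) (x : G) (p : ℕ) (v : V) :
    pplus ρ x p v = ∑ i ∈ Finset.range p, ρ (x ^ i) v := by
  simp [pplus, LinearMap.sum_apply]

/-- Sum over the inverses of the powers of an element of order dividing `p`. -/
theorem sum_range_pow_inv {M : Type*} [AddCommMonoid M] (x : G) (p : ℕ) (hp : 0 < p)
    (hx : x ^ p = 1) (F : G → M) :
    ∑ i ∈ Finset.range p, F ((x ^ i)⁻¹) = ∑ i ∈ Finset.range p, F (x ^ i) := by
  have key : ∀ i ∈ Finset.range p, (x ^ i)⁻¹ = x ^ ((p - i) % p) := by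
    intro i hi
    have hi' := Finset.mem_range.mp hi
    rw [inv_eq_iff_mul_eq_one]
    rcases Nat.eq_zero_or_pos i with rfl | hipos
    · simp [hx]
    · rw [Nat.mod_eq_of_lt (by omega), ← pow_add, Nat.add_sub_cancel' hi'.le, hx]
  rw [Finset.sum_congr rfl fun i hi => by rw [key i hi]]
  refine Finset.sum_bij' (fun i _ => (p - i) % p) (fun i _ => (p - i) % p) ?_ ?_ ?_ ?_ ?_
  · intro i _; exact Finset.mem_range.mpr (Nat.mod_lt _ hp)
  · intro i _; exact Finset.mem_range.mpr (Nat.mod_lt _ hp)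
  · intro i hi
    have hi' := Finset.mem_range.mp hi
    rcases Nat.eq_zero_or_pos i with rfl | hipos
    · simp
    · rw [Nat.mod_eq_of_lt (show p - i < p by omega)]
      rw [show p - (p - i) = i by omega, Nat.mod_eq_of_lt hi']
  · intro i hi
    have hi' := Finset.mem_range.mp hi
    rcases Nat.eq_zero_or_pos i with rfl | hipos
    · simp
    · rw [Nat.mod_eq_of_lt (show p - i < p by omega)]
      rw [show p - (p - i) = i by omega, Nat.mod_eq_of_lt hi']
  · intro i _; rfl

/-- If the powers of `x` act trivially on the target, `Tr_1^P(f) = f ∘ P⁺`. -/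
theorem trX_eq_comp_pplus (ρ : Representation k G V) (σ : Representation k G W) (x : G) (p : ℕ)
    (hp : 0 < p) (hx : x ^ p = 1) (htriv : ∀ i, σ (x ^ i) = LinearMap.id)
    (f : V →ₗ[k] W) : trX ρ σ x p f = f ∘ₗ pplus ρ x p := by
  ext v
  rw [trX_apply, LinearMap.comp_apply, pplus_apply, map_sum]
  simp only [htriv, LinearMap.id_apply]
  exact sum_range_pow_inv x p hp hx (fun g => f (ρ g v))

end Cfsg.Agent.Helper5.GC
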