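import Mathlib
import Cfsg.Agent.Helper5.GCa

/-!
# Relative trace from a subgroup and the Mackey formula in the trivial-intersection case
-/

set_option autoImplicit false

namespace Cfsg.Agent.Helper5.GC

open Module

variable {k : Type*} [Field k] {G : Type*} [Group G] [Finite G]
variable {V W : Type*} [AddCommGroup V] [Module k V] [AddCommGroup W] [Module k W]

noncomputable local instance quotFintype (N : Subgroup G) : Fintype (G ⧸ N) := Fintype.ofFinite _

/-- The summand of the relative trace attached to a coset. -/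
noncomputable def cosetTerm (ρ : Representation k G V) (σ : Representation k G W) (N : Subgroup G)
    (f : V →ₗ[k] W) (c : G ⧸ N) : V →ₗ[k] W :=
  cj ρ σ (Quotient.out c) f

theorem cosetTerm_mk {ρ : Representation k G V} {σ : Representation k G W} {N : Subgroup G}
    {f : V →ₗ[k] W} (hf : IsHomOn ρ σ N f) (a : G) :
    cosetTerm ρ σ N f (QuotientGroup.mk a) = cj ρ σ a f := by
  obtain ⟨h, hh⟩ := QuotientGroup.mk_out_eq_mul N a
  unfold cosetTerm
  rw [hh, cj_mul, hf.cj_eq h.2]

theorem cosetTerm_smul {ρ : Representation k G V} {σ : Representation k G W} {N : Subgroup G}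
    {f : V →ₗ[k] W} (hf : IsHomOn ρ σ N f) (g : G) (c : G ⧸ N) :
    cosetTerm ρ σ N f (g • c) = cj ρ σ g (cosetTerm ρ σ N f c) := by
  induction c using QuotientGroup.induction_on with
  | H a =>
    rw [cosetTerm_mk hf]
    have : g • (QuotientGroup.mk a : G ⧸ N) = QuotientGroup.mk (g * a) := rfl
    rw [this, cosetTerm_mk hf, cj_mul]

/-- The relative trace `Tr_N^G`. -/
noncomputable def relTr (ρ : Representation k G V) (σ : Representation k G W) (N : Subgroup G)
    (f : V →ₗ[k] W) : V →ₗ[k] W :=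
  ∑ c : G ⧸ N, cosetTerm ρ σ N f c

theorem cj_relTr {ρ : Representation k G V} {σ : Representation k G W} {N : Subgroup G}
    {f : V →ₗ[k] W} (hf : IsHomOn ρ σ N f) (g : G) :
    cj ρ σ g (relTr ρ σ N f) = relTr ρ σ N f := by
  unfold relTr
  rw [cj_sum]
  rw [Finset.sum_congr rfl fun c _ => (cosetTerm_smul hf g c).symm]
  exact Equiv.sum_comp (MulAction.toPerm g) (cosetTerm ρ σ N f)

theorem isHomOn_relTr {ρ : Representation k G V} {σ : Representation k G W} {N : Subgroup G}
    {f : V →ₗ[k] W} (hf : IsHomOn ρ σ N f) : IsHomOn ρ σ ⊤ (relTr ρ σ N f) :=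
  isHomOn_of_cj_eq fun g _ => cj_relTr hf g

/-- **Mackey formula, trivial intersection case**: modulo traces from the group generated by `x`,
`Tr_N^G f` restricts to `f`. -/
theorem relTr_sub_self {ρ : Representation k G V} {σ : Representation k G W} {N : Subgroup G}
    {f : V →ₗ[k] W} (hf : IsHomOn ρ σ N f) (x : G) (hxN : x ∈ N) (p : ℕ) (hp : 0 < p)
    (hxp : x ^ p = 1)
    (hTI : ∀ a : G, a ∉ N → ∀ i, 0 < i → i < p → a⁻¹ * x ^ i * a ∉ N) :
    ∃ μ : V →ₗ[k] W, relTr ρ σ N f - f = trX ρ σ x p μ := by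
  classical
  set c₁ : G ⧸ N := QuotientGroup.mk 1 with hc₁
  have hc₁f : cosetTerm ρ σ N f c₁ = f := by rw [hc₁, cosetTerm_mk hf, cj_one]
  have hxc₁ : ∀ i : ℕ, (x ^ i) • c₁ = c₁ := by
    intro i
    rw [hc₁]
    show (QuotientGroup.mk (x ^ i * 1) : G ⧸ N) = QuotientGroup.mk 1
    rw [QuotientGroup.eq]
    simpa using N.pow_mem hxN i
  set T : Finset (G ⧸ N) := Finset.univ.erase c₁ with hT
  have hsplit : relTr ρ σ N f = f + ∑ c ∈ T, cosetTerm ρ σ N f c := by
    unfold relTr
    rw [← Finset.add_sum_erase Finset.univ _ (Finset.mem_univ c₁), hc₁f]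
  have hstab : ∀ c ∈ T, x • c ∈ T := by
    intro c hc
    rw [hT, Finset.mem_erase] at hc ⊢
    refine ⟨?_, Finset.mem_univ _⟩
    intro h
    apply hc.1
    have h1 : x⁻¹ • (x • c) = x⁻¹ • c₁ := by rw [h]
    rw [inv_smul_smul] at h1
    have h2 : x • (x⁻¹ • c₁) = c₁ := smul_inv_smul x c₁
    have h3 := hxc₁ 1
    rw [pow_one] at h3
    rw [h1]
    have : x⁻¹ • c₁ = x⁻¹ • (x • c₁) := by rw [h3]
    rw [this, inv_smul_smul]
  have hfree : ∀ c ∈ T, ∀ i, 0 < i → i < p → (x ^ i) • c ≠ c := by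
    intro c hc i hi hip h
    rw [hT, Finset.mem_erase] at hc
    induction c using QuotientGroup.induction_on with
    | H a =>
      have haN : a ∉ N := by
        intro haN
        apply hc.1
        rw [hc₁, QuotientGroup.eq]
        simpa using N.inv_mem haN
      have h' : (QuotientGroup.mk (x ^ i * a) : G ⧸ N) = QuotientGroup.mk a := h
      rw [QuotientGroup.eq] at h'
      apply hTI a haN i hi hip
      have := N.inv_mem h'
      simpa [mul_assoc] using this
  obtain ⟨R, -, hR⟩ := HHT.orbit_sum (Γ := G) (X := G ⧸ N) x p hp hxp (cosetTerm ρ σ N f) T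
    hstab hfree
  refine ⟨∑ r ∈ R, cosetTerm ρ σ N f r, ?_⟩
  rw [hsplit, add_sub_cancel_left, hR]
  unfold trX
  rw [Finset.sum_comm]
  refine Finset.sum_congr rfl fun i _ => ?_
  rw [cj_sum]
  exact Finset.sum_congr rfl fun r _ => cosetTerm_smul hf (x ^ i) r

end Cfsg.Agent.Helper5.GC
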