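import Mathlib
import Cfsg.Agent.Helper5.GCa

/-!
# Representations of `P ⋊ H` (`P = ⟨x⟩` of order `p`, `H` a `p'`-group) in characteristic `p`:
basic operators, stability, averaging
-/

set_option autoImplicit false

namespace Cfsg.Agent.Helper5.GC

open Module

variable {k : Type*} [Field k] {Γ : Type*} [Group Γ]
variable {X : Type*} [AddCommGroup X] [Module k X]

/-- The nilpotent operator `u = ρ(x) - 1`. -/
def uop (ρ : Representation k Γ X) (x : Γ) : Module.End k X := ρ x - 1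

theorem uop_apply (ρ : Representation k Γ X) (x : Γ) (v : X) : uop ρ x v = ρ x v - v := rfl

theorem rep_pow (ρ : Representation k Γ X) (x : Γ) (i : ℕ) : ρ (x ^ i) = ρ x ^ i := map_pow ρ x i

theorem uop_pow_p (ρ : Representation k Γ X) (x : Γ) (p : ℕ) [Fact p.Prime] [CharP k p]
    (hx : x ^ p = 1) : uop ρ x ^ p = 0 := by
  have h := HHT.sub_one_pow_char_pow (K := k) p (ρ x) 1
  rw [pow_one] at h
  unfold uop
  rw [h, ← rep_pow, hx, map_one, sub_self]

theorem pplus_eq (ρ : Representation k Γ X) (x : Γ) (p : ℕ) [Fact p.Prime] [CharP k p] :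
    pplus ρ x p = uop ρ x ^ (p - 1) := by
  have h := HHT.sub_one_pow_eq_geom (K := k) p (ρ x) 1
  rw [pow_one] at h
  unfold uop pplus
  rw [h]
  exact Finset.sum_congr rfl fun i _ => rep_pow ρ x i

theorem commute_uop_rep (ρ : Representation k Γ X) (x : Γ) : Commute (uop ρ x) (ρ x) := by
  unfold uop
  exact (Commute.refl _).sub_left (Commute.one_left _)

/-- conjugation relation: `u ρ(h) = ρ(h) (u g)` with `g` a polynomial in `ρ(x)`. -/
theorem uop_mul_rep (ρ : Representation k Γ X) (x h : Γ) (m : ℕ) (hm : h⁻¹ * x * h = x ^ m) :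
    uop ρ x * ρ h = ρ h * (uop ρ x * ∑ j ∈ Finset.range m, ρ x ^ j) := by
  unfold uop
  rw [mul_geom_sum, mul_sub, mul_one, sub_mul, one_mul, ← rep_pow, ← hm, ← map_mul, ← map_mul]
  congr 2
  group

theorem commute_geom (ρ : Representation k Γ X) (x : Γ) (m : ℕ) :
    Commute (uop ρ x) (∑ j ∈ Finset.range m, ρ x ^ j) := by
  apply Commute.sum_right
  intro j _
  exact (commute_uop_rep ρ x).pow_right j

theorem uop_pow_mul_rep (ρ : Representation k Γ X) (x h : Γ) (m : ℕ)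
    (hm : h⁻¹ * x * h = x ^ m) (j : ℕ) :
    uop ρ x ^ j * ρ h = ρ h * ((∑ j ∈ Finset.range m, ρ x ^ j) ^ j * uop ρ x ^ j) := by
  induction j with
  | zero => simp
  | succ j ih =>
    have hc := commute_geom ρ x m
    set g := ∑ j ∈ Finset.range m, ρ x ^ j with hg
    set u := uop ρ x with hu
    calc u ^ (j + 1) * ρ h = u ^ j * (u * ρ h) := by rw [pow_succ, mul_assoc]
      _ = u ^ j * (ρ h * (u * g)) := by rw [hu, hg, uop_mul_rep ρ x h m hm]
      _ = (u ^ j * ρ h) * (u * g) := by rw [mul_assoc]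
      _ = ρ h * (g ^ j * u ^ j) * (u * g) := by rw [ih]
      _ = ρ h * (g ^ j * (u ^ j * (u * g))) := by rw [mul_assoc, mul_assoc]
      _ = ρ h * (g ^ j * (g * (u ^ j * u))) := by
          congr 2
          rw [← mul_assoc, ← pow_succ, (hc.pow_left (j + 1)).eq, pow_succ]
      _ = ρ h * (g ^ (j + 1) * u ^ (j + 1)) := by
          rw [← mul_assoc (g ^ j), ← pow_succ, ← pow_succ]

/-- Stability of a subspace under `ρ(x)`. -/
def PStab (ρ : Representation k Γ X) (x : Γ) (Y : Submodule k X) : Prop := ∀ v ∈ Y, ρ x v ∈ Y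

/-- Stability of a subspace under `H`. -/
def HStab (ρ : Representation k Γ X) (H : Subgroup Γ) (Y : Submodule k X) : Prop :=
  ∀ h ∈ H, ∀ v ∈ Y, ρ h v ∈ Y

theorem PStab.pow {ρ : Representation k Γ X} {x : Γ} {Y : Submodule k X} (hY : PStab ρ x Y)
    (i : ℕ) : ∀ v ∈ Y, (ρ x ^ i) v ∈ Y := by
  induction i with
  | zero => intro v hv; simpa using hv
  | succ i ih =>
    intro v hv
    rw [pow_succ, Module.End.mul_apply]
    exact ih _ (hY v hv)

theorem PStab.uop_mem {ρ : Representation k Γ X} {x : Γ} {Y : Submodule k X} (hY : PStab ρ x Y) :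
    ∀ v ∈ Y, uop ρ x v ∈ Y := fun v hv => Y.sub_mem (hY v hv) hv

theorem PStab.uop_pow_mem {ρ : Representation k Γ X} {x : Γ} {Y : Submodule k X} (hY : PStab ρ x Y)
    (i : ℕ) : ∀ v ∈ Y, (uop ρ x ^ i) v ∈ Y := by
  induction i with
  | zero => intro v hv; simpa using hv
  | succ i ih =>
    intro v hv
    rw [pow_succ, Module.End.mul_apply]
    exact ih _ (hY.uop_mem v hv)

theorem pstab_of_uop {ρ : Representation k Γ X} {x : Γ} {Y : Submodule k X}
    (hY : ∀ v ∈ Y, uop ρ x v ∈ Y) : PStab ρ x Y := by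
  intro v hv
  have : ρ x v = uop ρ x v + v := by rw [uop_apply]; abel
  rw [this]
  exact Y.add_mem (hY v hv) hv

theorem PStab.geom {ρ : Representation k Γ X} {x : Γ} {Y : Submodule k X} (hY : PStab ρ x Y)
    (m : ℕ) : ∀ v ∈ Y, (∑ j ∈ Finset.range m, ρ x ^ j) v ∈ Y := by
  intro v hv
  rw [LinearMap.sum_apply]
  exact Y.sum_mem fun j _ => hY.pow j v hv

theorem PStab.geom_pow {ρ : Representation k Γ X} {x : Γ} {Y : Submodule k X} (hY : PStab ρ x Y)
    (m i : ℕ) : ∀ v ∈ Y, ((∑ j ∈ Finset.range m, ρ x ^ j) ^ i) v ∈ Y := by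
  induction i with
  | zero => intro v hv; simpa using hv
  | succ i ih =>
    intro v hv
    rw [pow_succ, Module.End.mul_apply]
    exact ih _ (hY.geom m v hv)

/-- Data: every element is `h x^i`, `H` normalizes `⟨x⟩`. -/
structure PHData (Γ : Type*) [Group Γ] (x : Γ) (H : Subgroup Γ) : Prop where
  gen : ∀ γ : Γ, ∃ h ∈ H, ∃ i : ℕ, γ = h * x ^ i
  norm : ∀ h ∈ H, ∃ m : ℕ, h⁻¹ * x * h = x ^ m

/-- A subspace stable under `H` and `x` is stable under the whole group. -/
theorem stab_all {ρ : Representation k Γ X} {x : Γ} {H : Subgroup Γ} (hd : PHData Γ x H)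
    {Y : Submodule k X} (hH : HStab ρ H Y) (hP : PStab ρ x Y) : ∀ γ : Γ, ∀ v ∈ Y, ρ γ v ∈ Y := by
  intro γ v hv
  obtain ⟨h, hh, i, rfl⟩ := hd.gen γ
  rw [rep_mul_apply, rep_pow]
  exact hH h hh _ (hP.pow i v hv)

/-- kernels of powers of `u` are `H`-stable -/
theorem hstab_ker_uop_pow {ρ : Representation k Γ X} {x : Γ} {H : Subgroup Γ}
    (hd : PHData Γ x H) (j : ℕ) : HStab ρ H (LinearMap.ker (uop ρ x ^ j)) := by
  intro h hh v hv
  rw [LinearMap.mem_ker] at hv ⊢
  obtain ⟨m, hm⟩ := hd.norm h hh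
  have := congrArg (fun F : Module.End k X => F v) (uop_pow_mul_rep ρ x h m hm j)
  simp only [Module.End.mul_apply] at this
  rw [this, hv, map_zero, map_zero]

theorem pstab_ker_uop_pow (ρ : Representation k Γ X) (x : Γ) (j : ℕ) :
    PStab ρ x (LinearMap.ker (uop ρ x ^ j)) := by
  intro v hv
  rw [LinearMap.mem_ker] at hv ⊢
  have hc : Commute (uop ρ x ^ j) (ρ x) := (commute_uop_rep ρ x).pow_left j
  have : (uop ρ x ^ j) (ρ x v) = ρ x ((uop ρ x ^ j) v) := by
    have := congrArg (fun F : Module.End k X => F v) hc.eq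
    simpa only [Module.End.mul_apply] using this
  rw [this, hv, map_zero]

/-- images of an `H`-stable, `x`-stable subspace under powers of `u` are `H`-stable -/
theorem hstab_map_uop_pow {ρ : Representation k Γ X} {x : Γ} {H : Subgroup Γ}
    (hd : PHData Γ x H) {Y : Submodule k X} (hH : HStab ρ H Y) (hP : PStab ρ x Y) (j : ℕ) :
    HStab ρ H (Y.map (uop ρ x ^ j)) := by
  rintro h hh _ ⟨v, hv, rfl⟩
  have hh' : h⁻¹ ∈ H := H.inv_mem hh
  obtain ⟨m, hm⟩ := hd.norm h⁻¹ hh'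
  rw [inv_inv] at hm
  -- ρ h u^j v = u^j' ... use the relation for h⁻¹: u^j ρ(h⁻¹) = ρ(h⁻¹) (g^j u^j)
  have key := uop_pow_mul_rep ρ x h⁻¹ m (by rw [inv_inv]; exact hm) j
  -- so ρ h u^j = g^j u^j ρ h
  have key2 : ρ h * uop ρ x ^ j =
      ((∑ j ∈ Finset.range m, ρ x ^ j) ^ j * uop ρ x ^ j) * ρ h := by
    have e1 : ρ h * ρ h⁻¹ = 1 := by rw [← map_mul, mul_inv_cancel, map_one]
    have e2 : ρ h⁻¹ * ρ h = 1 := by rw [← map_mul, inv_mul_cancel, map_one]
    calc ρ h * uop ρ x ^ j = ρ h * (uop ρ x ^ j * ρ h⁻¹) * ρ h := by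
          rw [mul_assoc, mul_assoc, e2, mul_one]
      _ = ρ h * (ρ h⁻¹ * ((∑ j ∈ Finset.range m, ρ x ^ j) ^ j * uop ρ x ^ j)) * ρ h := by
          rw [key]
      _ = _ := by rw [← mul_assoc (ρ h), e1, one_mul]
  have := congrArg (fun F : Module.End k X => F v) key2
  simp only [Module.End.mul_apply] at this
  show ρ h ((uop ρ x ^ j) v) ∈ _
  rw [this]
  have hc : Commute ((∑ j ∈ Finset.range m, ρ x ^ j) ^ j) (uop ρ x ^ j) :=
    ((commute_geom ρ x m).symm.pow_left j).pow_right j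
  have e3 : ((∑ j ∈ Finset.range m, ρ x ^ j) ^ j) ((uop ρ x ^ j) (ρ h v)) =
      (uop ρ x ^ j) (((∑ j ∈ Finset.range m, ρ x ^ j) ^ j) (ρ h v)) := by
    have := congrArg (fun F : Module.End k X => F (ρ h v)) hc.eq
    simpa only [Module.End.mul_apply] using this
  rw [e3]
  exact ⟨_, hP.geom_pow m j _ (hH h hh v hv), rfl⟩

end Cfsg.Agent.Helper5.GC
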