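import Mathlib
import Cfsg.Agent.Helper5.GCc

/-!
# Averaging over the `p'`-complement and the splitting lemma for `k[P ⋊ H]`-modules
-/

set_option autoImplicit false

namespace Cfsg.Agent.Helper5.GC

open Module

variable {k : Type*} [Field k] {Γ : Type*} [Group Γ] [Finite Γ]
variable {X : Type*} [AddCommGroup X] [Module k X]

noncomputable local instance subFintype (H : Subgroup Γ) : Fintype H := Fintype.ofFinite _

/-- Average of the `H`-conjugates of an endomorphism. -/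
noncomputable def avgH (ρ : Representation k Γ X) (H : Subgroup Γ) (π₀ : Module.End k X) :
    Module.End k X :=
  ((Nat.card H : k))⁻¹ • ∑ h : H, ρ (h : Γ) * π₀ * ρ ((h : Γ)⁻¹)

theorem avgH_apply (ρ : Representation k Γ X) (H : Subgroup Γ) (π₀ : Module.End k X) (v : X) :
    avgH ρ H π₀ v = ((Nat.card H : k))⁻¹ • ∑ h : H, ρ (h : Γ) (π₀ (ρ ((h : Γ)⁻¹) v)) := by
  simp [avgH, LinearMap.sum_apply, Module.End.mul_apply]

theorem avgH_mem {ρ : Representation k Γ X} {H : Subgroup Γ} {π₀ : Module.End k X}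
    {Y : Submodule k X} (hπ : ∀ v, π₀ v ∈ Y) (hY : HStab ρ H Y) (v : X) : avgH ρ H π₀ v ∈ Y := by
  rw [avgH_apply]
  exact Y.smul_mem _ (Y.sum_mem fun h _ => hY h h.2 _ (hπ _))

theorem avgH_eq_self {ρ : Representation k Γ X} {H : Subgroup Γ} {π₀ : Module.End k X}
    {Y : Submodule k X} (hπ : ∀ y ∈ Y, π₀ y = y) (hY : HStab ρ H Y)
    (hcard : (Nat.card H : k) ≠ 0) (y : X) (hy : y ∈ Y) : avgH ρ H π₀ y = y := by
  rw [avgH_apply]
  have : ∀ h : H, ρ (h : Γ) (π₀ (ρ ((h : Γ)⁻¹) y)) = y := by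
    intro h
    rw [hπ _ (hY _ (H.inv_mem h.2) y hy), rep_apply_inv]
  rw [Finset.sum_congr rfl fun h _ => this h, Finset.sum_const, Finset.card_univ,
    ← Nat.card_eq_fintype_card, ← Nat.cast_smul_eq_nsmul k, smul_smul, inv_mul_cancel₀ hcard,
    one_smul]

theorem avgH_comm_H (ρ : Representation k Γ X) (H : Subgroup Γ) (π₀ : Module.End k X)
    (h' : Γ) (hh' : h' ∈ H) : ρ h' * avgH ρ H π₀ = avgH ρ H π₀ * ρ h' := by
  unfold avgH
  rw [mul_smul_comm, smul_mul_assoc, Finset.mul_sum, Finset.sum_mul]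
  congr 1
  have e : ∀ h : H, ρ h' * (ρ (h : Γ) * π₀ * ρ ((h : Γ)⁻¹)) =
      (ρ ((⟨h', hh'⟩ * h : H) : Γ) * π₀ * ρ (((⟨h', hh'⟩ * h : H) : Γ)⁻¹)) * ρ h' := by
    intro h
    simp only [Subgroup.coe_mul, mul_inv_rev, map_mul]
    have e2 : ρ h'⁻¹ * ρ h' = 1 := by rw [← map_mul, inv_mul_cancel, map_one]
    rw [mul_assoc (ρ h' * ρ (h : Γ) * π₀), mul_assoc (ρ (h : Γ)⁻¹), e2, mul_one]
    simp only [mul_assoc]
  rw [Finset.sum_congr rfl fun h _ => e h]
  exact Equiv.sum_comp (Equiv.mulLeft (⟨h', hh'⟩ : H))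
    (fun h : H => ρ (h : Γ) * π₀ * ρ ((h : Γ)⁻¹) * ρ h')

theorem avgH_comm_x {ρ : Representation k Γ X} {x : Γ} {H : Subgroup Γ} (hd : PHData Γ x H)
    {π₀ : Module.End k X} (hπ : Commute π₀ (ρ x)) : Commute (avgH ρ H π₀) (ρ x) := by
  unfold avgH
  apply Commute.smul_left
  apply Commute.sum_left
  intro h _
  obtain ⟨m, hm⟩ := hd.norm h h.2
  -- ρ(h⁻¹) ρ(x) = ρ(x)^m ρ(h⁻¹),  ρ(x) ρ(h) = ρ(h) ρ(x)^m
  have e1 : ρ ((h : Γ)⁻¹) * ρ x = ρ x ^ m * ρ ((h : Γ)⁻¹) := by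
    rw [← rep_pow, ← hm, ← map_mul, ← map_mul]
    congr 1
    group
  have e2 : ρ x * ρ (h : Γ) = ρ (h : Γ) * ρ x ^ m := by
    rw [← rep_pow, ← hm, ← map_mul, ← map_mul]
    congr 1
    group
  show ρ (h : Γ) * π₀ * ρ ((h : Γ)⁻¹) * ρ x = ρ x * (ρ (h : Γ) * π₀ * ρ ((h : Γ)⁻¹))
  rw [mul_assoc, e1, ← mul_assoc (ρ x), ← mul_assoc (ρ x), e2, mul_assoc (ρ (h : Γ)),
    mul_assoc (ρ (h : Γ)), mul_assoc (ρ (h : Γ)), ← mul_assoc π₀, (hπ.pow_right m).eq]

/-- A projection onto `Y` gives a complement. -/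
theorem isCompl_ker_of_proj {Y : Submodule k X} {π : Module.End k X} (h1 : ∀ v, π v ∈ Y)
    (h2 : ∀ y ∈ Y, π y = y) : IsCompl Y (LinearMap.ker π) := by
  constructor
  · rw [Submodule.disjoint_def]
    intro v hv hk
    rw [LinearMap.mem_ker] at hk
    rw [← h2 v hv, hk]
  · rw [codisjoint_iff, eq_top_iff]
    intro v _
    have : v = π v + (v - π v) := by abel
    rw [this]
    refine Submodule.add_mem_sup (h1 v) ?_
    rw [LinearMap.mem_ker, map_sub, h2 _ (h1 v), sub_self]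

/-- Maschke for `H`. -/
theorem exists_hstab_compl (ρ : Representation k Γ X) (H : Subgroup Γ)
    (hcard : (Nat.card H : k) ≠ 0) (U : Submodule k X) (hU : HStab ρ H U) :
    ∃ C : Submodule k X, HStab ρ H C ∧ IsCompl U C := by
  obtain ⟨C₀, hC₀⟩ := Submodule.exists_isCompl U
  set π₀ : Module.End k X := U.subtype ∘ₗ Submodule.projectionOnto U C₀ hC₀ with hπ₀
  have h1 : ∀ v, π₀ v ∈ U := fun v => (Submodule.projectionOnto U C₀ hC₀ v).2
  have h2 : ∀ y ∈ U, π₀ y = y := by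
    intro y hy
    have := Submodule.projectionOnto_apply_of_mem_left hC₀ hy
    simp only [hπ₀, LinearMap.comp_apply, Submodule.subtype_apply]
    rw [this]
  refine ⟨LinearMap.ker (avgH ρ H π₀), ?_, isCompl_ker_of_proj (avgH_mem h1 hU)
    (avgH_eq_self h2 hU hcard)⟩
  intro h hh v hv
  rw [LinearMap.mem_ker] at hv ⊢
  have := congrArg (fun F : Module.End k X => F v) (avgH_comm_H ρ H π₀ h hh)
  simp only [Module.End.mul_apply] at this
  rw [← this, hv, map_zero]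

end Cfsg.Agent.Helper5.GC
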