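import Mathlib
import Cfsg.Agent.Helper5.GCd

/-!
# The splitting lemma: a non-zero `k[P ⋊ H]`-module has a direct summand generated over `k[u]`
by an irreducible `H`-submodule
-/

set_option autoImplicit false

namespace Cfsg.Agent.Helper5.GC

open Module

variable {k : Type*} [Field k] {Γ : Type*} [Group Γ] [Finite Γ]
variable {X : Type*} [AddCommGroup X] [Module k X]

theorem rep_uop_pow_mem {ρ : Representation k Γ X} {x : Γ} {H : Subgroup Γ}
    (hd : PHData Γ x H) {W Y : Submodule k X} (hHW : HStab ρ H W) (hWY : W ≤ Y)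
    (hPY : PStab ρ x Y) (j : ℕ) (h : Γ) (hh : h ∈ H) (w : X) (hw : w ∈ W) :
    ρ h ((uop ρ x ^ j) w) ∈ Y := by
  have hh' : h⁻¹ ∈ H := H.inv_mem hh
  obtain ⟨m, hm⟩ := hd.norm h⁻¹ hh'
  have key := uop_pow_mul_rep ρ x h⁻¹ m hm j
  have key2 : ρ h * uop ρ x ^ j =
      ((∑ j ∈ Finset.range m, ρ x ^ j) ^ j * uop ρ x ^ j) * ρ h := by
    have e1 : ρ h * ρ h⁻¹ = 1 := by rw [← map_mul, mul_inv_cancel, map_one]
    have e2 : ρ h⁻¹ * ρ h = 1 := by rw [← map_mul, inv_mul_cancel, map_one]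
    calc ρ h * uop ρ x ^ j = ρ h * (uop ρ x ^ j * ρ h⁻¹) * ρ h := by
          rw [mul_assoc, mul_assoc, e2, mul_one]
      _ = ρ h * (ρ h⁻¹ * ((∑ j ∈ Finset.range m, ρ x ^ j) ^ j * uop ρ x ^ j)) * ρ h := by
          rw [key]
      _ = _ := by rw [← mul_assoc (ρ h), e1, one_mul]
  have := congrArg (fun F : Module.End k X => F w) key2
  simp only [Module.End.mul_apply] at this
  rw [this]
  exact hPY.geom_pow m j _ (hPY.uop_pow_mem j _ (hWY (hHW h hh w hw)))

theorem exists_split (ρ : Representation k Γ X) [FiniteDimensional k X] [Nontrivial X] (x : Γ)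
    (H : Subgroup Γ) (p : ℕ) [Fact p.Prime] [CharP k p] (hd : PHData Γ x H) (hx : x ^ p = 1)
    (hcard : (Nat.card H : k) ≠ 0) :
    ∃ Y Z W : Submodule k X, Y ≠ ⊥ ∧ IsCompl Y Z ∧ (∀ γ : Γ, ∀ v ∈ Y, ρ γ v ∈ Y) ∧
      (∀ γ : Γ, ∀ v ∈ Z, ρ γ v ∈ Z) ∧ W ≤ Y ∧ HStab ρ H W ∧ W ≠ ⊥ ∧
      (∀ W' ≤ W, HStab ρ H W' → W' = ⊥ ∨ W' = W) ∧ Y = W ⊔ Y.map (uop ρ x) := by
  classical
  set u := uop ρ x with hu
  have hnil : ∃ a, u ^ a = 0 := ⟨p, uop_pow_p ρ x p hx⟩
  have ha0 : u ^ Nat.find hnil = 0 := Nat.find_spec hnil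
  have hapos : 0 < Nat.find hnil := by
    rcases Nat.eq_zero_or_pos (Nat.find hnil) with h | h
    · exfalso
      rw [h, pow_zero] at ha0
      obtain ⟨v, hv⟩ := exists_ne (0 : X)
      have := congrArg (fun F : Module.End k X => F v) ha0
      simp at this
      exact hv this
    · exact h
  obtain ⟨b, hb⟩ : ∃ b, Nat.find hnil = b + 1 := ⟨Nat.find hnil - 1, by omega⟩
  have hb0 : u ^ b ≠ 0 := Nat.find_min hnil (by omega : b < Nat.find hnil)
  have hb1 : u ^ (b + 1) = 0 := by rw [← hb]; exact ha0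
  -- the kernel of u^b and an H-stable complement
  have hK₁ : HStab ρ H (LinearMap.ker (u ^ b)) := hstab_ker_uop_pow hd b
  obtain ⟨C, hC, hKC⟩ := exists_hstab_compl ρ H hcard _ hK₁
  have hCne : C ≠ ⊥ := by
    intro h
    rw [h] at hKC
    have htop : LinearMap.ker (u ^ b) = ⊤ := by
      have := hKC.sup_eq_top
      rwa [sup_bot_eq] at this
    exact hb0 (LinearMap.ker_eq_top.mp htop)
  -- a minimal H-stable subspace of C
  obtain ⟨W, ⟨hWne, hWH, hWC⟩, hWmin⟩ := wellFounded_lt.has_min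
    {U : Submodule k X | U ≠ ⊥ ∧ HStab ρ H U ∧ U ≤ C} ⟨C, hCne, hC, le_refl _⟩
  have hWirr : ∀ W' ≤ W, HStab ρ H W' → W' = ⊥ ∨ W' = W := by
    intro W' hW'W hW'H
    by_cases h0 : W' = ⊥
    · exact Or.inl h0
    · right
      by_contra hne
      exact hWmin W' ⟨h0, hW'H, hW'W.trans hWC⟩ (lt_of_le_of_ne hW'W hne)
  have hinj : ∀ w ∈ W, (u ^ b) w = 0 → w = 0 := by
    intro w hw h0
    have h1 : w ∈ LinearMap.ker (u ^ b) ⊓ C := ⟨LinearMap.mem_ker.mpr h0, hWC hw⟩
    rw [hKC.inf_eq_bot] at h1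
    exact (Submodule.mem_bot k).mp h1
  -- the k[u]-span of W
  set Y : Submodule k X := ⨆ i : ℕ, W.map (u ^ i) with hY
  have hWY : W ≤ Y := by
    refine le_trans ?_ (le_iSup (fun i : ℕ => W.map (u ^ i)) 0)
    rw [pow_zero]
    intro w hw
    exact ⟨w, hw, rfl⟩
  have hmapu : Y.map u = ⨆ i : ℕ, W.map (u ^ (i + 1)) := by
    rw [hY, Submodule.map_iSup]
    congr 1
    funext i
    rw [← Submodule.map_comp, pow_succ']
    rfl
  have hYu : ∀ v ∈ Y, u v ∈ Y := by
    intro v hv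
    have : u v ∈ Y.map u := ⟨v, hv, rfl⟩
    rw [hmapu] at this
    exact (iSup_le fun i => le_iSup (fun i : ℕ => W.map (u ^ i)) (i + 1)) this
  have hYeq : Y = W ⊔ Y.map u := by
    rw [hmapu]
    have := sup_iSup_nat_succ (fun i : ℕ => W.map (u ^ i))
    rw [← hY] at this
    rw [← this, pow_zero]
    congr 1
    ext w
    constructor
    · rintro ⟨w', hw', rfl⟩; exact hw'
    · intro hw; exact ⟨w, hw, rfl⟩
  have hYP : PStab ρ x Y := pstab_of_uop hYu
  have hYH : HStab ρ H Y := by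
    intro h hh v hv
    have hle : Y ≤ Y.comap (ρ h) := by
      rw [hY]
      refine iSup_le fun i => ?_
      rintro _ ⟨w, hw, rfl⟩
      exact rep_uop_pow_mem hd hWH hWY hYP i h hh w hw
    exact hle hv
  have hYupow : ∀ j : ℕ, ∀ v ∈ Y, (u ^ j) v ∈ Y := hYP.uop_pow_mem
  -- the key purity property
  have hpure : ∀ y ∈ Y, (u ^ b) y = 0 → ∃ y' ∈ Y, y = u y' := by
    intro y hy h0
    rw [hYeq] at hy
    obtain ⟨w, hw, t, ⟨y', hy', rfl⟩, rfl⟩ := Submodule.mem_sup.mp hy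
    have h1 : (u ^ b) (u y') = 0 := by
      have : (u ^ b) (u y') = (u ^ (b + 1)) y' := by rw [pow_succ]; rfl
      rw [this, hb1]; rfl
    rw [map_add, h1, add_zero] at h0
    rw [hinj w hw h0, zero_add]
    exact ⟨y', hy', rfl⟩
  -- a maximal u-stable subspace disjoint from Y
  obtain ⟨Z, ⟨hZu, hYZ⟩, hZmax⟩ := wellFounded_gt.has_min
    {Z : Submodule k X | (∀ v ∈ Z, u v ∈ Z) ∧ Disjoint Y Z}
    ⟨⊥, fun v hv => by rw [(Submodule.mem_bot k).mp hv, map_zero]; exact Submodule.zero_mem _,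
      disjoint_bot_right⟩
  have hZupow : ∀ j : ℕ, ∀ v ∈ Z, (u ^ j) v ∈ Z := by
    intro j
    induction j with
    | zero => intro v hv; simpa using hv
    | succ j ih =>
      intro v hv
      rw [pow_succ, Module.End.mul_apply]
      exact ih _ (hZu v hv)
  have htop : Y ⊔ Z = ⊤ := by
    by_contra hne
    obtain ⟨v, hv⟩ : ∃ v, v ∉ Y ⊔ Z := by
      by_contra hall
      push Not at hall
      exact hne (eq_top_iff.mpr fun v _ => hall v)
    have hex : ∃ j, (u ^ j) v ∈ Y ⊔ Z := ⟨b + 1, by rw [hb1]; exact Submodule.zero_mem _⟩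
    have hj0 : Nat.find hex ≠ 0 := by
      intro h0
      have := Nat.find_spec hex
      rw [h0, pow_zero] at this
      exact hv this
    obtain ⟨j', hj'⟩ : ∃ j', Nat.find hex = j' + 1 := ⟨Nat.find hex - 1, by omega⟩
    have hv₁ : (u ^ j') v ∉ Y ⊔ Z := Nat.find_min hex (by omega : j' < Nat.find hex)
    have huv₁ : u ((u ^ j') v) ∈ Y ⊔ Z := by
      have := Nat.find_spec hex
      rw [hj', pow_succ'] at this
      exact this
    set v₁ := (u ^ j') v with hv₁def
    obtain ⟨y, hy, z, hz, hyz⟩ := Submodule.mem_sup.mp huv₁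
    have h0 : (u ^ b) (u v₁) = 0 := by
      have : (u ^ b) (u v₁) = (u ^ (b + 1)) v₁ := by rw [pow_succ]; rfl
      rw [this, hb1]; rfl
    have h1 : (u ^ b) y = - (u ^ b) z := by
      rw [← hyz, map_add] at h0
      exact eq_neg_of_add_eq_zero_left h0
    have h2 : (u ^ b) y = 0 := by
      have hmem : (u ^ b) y ∈ Y ⊓ Z :=
        ⟨hYupow b y hy, by rw [h1]; exact Z.neg_mem (hZupow b z hz)⟩
      rw [hYZ.eq_bot] at hmem
      exact (Submodule.mem_bot k).mp hmem
    obtain ⟨y', hy', rfl⟩ := hpure y hy h2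
    set v₂ := v₁ - y' with hv₂def
    have huv₂ : u v₂ = z := by
      rw [hv₂def, map_sub, ← hyz]; abel
    have hv₂ : v₂ ∉ Y ⊔ Z := by
      intro hmem
      apply hv₁
      have : v₁ = v₂ + y' := by rw [hv₂def]; abel
      rw [this]
      exact Submodule.add_mem _ hmem (Submodule.mem_sup_left hy')
    have hv₂Z : v₂ ∉ Z := fun h => hv₂ (Submodule.mem_sup_right h)
    set Z' : Submodule k X := Z ⊔ Submodule.span k {v₂} with hZ'
    have hZ'u : ∀ t ∈ Z', u t ∈ Z' := by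
      intro t ht
      obtain ⟨z₁, hz₁, s, hs, rfl⟩ := Submodule.mem_sup.mp ht
      obtain ⟨c, rfl⟩ := Submodule.mem_span_singleton.mp hs
      rw [map_add, map_smul, huv₂]
      exact Submodule.mem_sup_left (Z.add_mem (hZu z₁ hz₁) (Z.smul_mem c hz))
    have hYZ' : Disjoint Y Z' := by
      rw [Submodule.disjoint_def]
      intro t htY htZ'
      obtain ⟨z₁, hz₁, s, hs, hts⟩ := Submodule.mem_sup.mp htZ'
      obtain ⟨c, rfl⟩ := Submodule.mem_span_singleton.mp hs
      by_cases hc : c = 0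
      · rw [hc, zero_smul, add_zero] at hts
        have hmem : t ∈ Y ⊓ Z := ⟨htY, by rw [← hts]; exact hz₁⟩
        rw [hYZ.eq_bot] at hmem
        exact (Submodule.mem_bot k).mp hmem
      · exfalso
        apply hv₂
        have : v₂ = c⁻¹ • t - c⁻¹ • z₁ := by
          rw [← hts, smul_add, smul_smul, inv_mul_cancel₀ hc, one_smul]; abel
        rw [this]
        exact Submodule.sub_mem _ (Submodule.mem_sup_left (Y.smul_mem _ htY))
          (Submodule.mem_sup_right (Z.smul_mem _ hz₁))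
    have hlt : Z < Z' := by
      refine lt_of_le_of_ne le_sup_left ?_
      intro h
      apply hv₂Z
      rw [h]
      exact Submodule.mem_sup_right (Submodule.mem_span_singleton_self v₂)
    exact hZmax Z' ⟨hZ'u, hYZ'⟩ hlt
  have hcompl : IsCompl Y Z := ⟨hYZ, codisjoint_iff.mpr htop⟩
  -- the projection onto Y along Z commutes with u
  set π₀ : Module.End k X := Y.subtype ∘ₗ Submodule.projectionOnto Y Z hcompl with hπ₀
  have hπ₀Y : ∀ y ∈ Y, π₀ y = y := by
    intro y hy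
    have := Submodule.projectionOnto_apply_of_mem_left hcompl hy
    simp only [hπ₀, LinearMap.comp_apply, Submodule.subtype_apply]
    rw [this]
  have hπ₀Z : ∀ z ∈ Z, π₀ z = 0 := by
    intro z hz
    have := Submodule.projectionOnto_apply_of_mem_right hcompl hz
    simp only [hπ₀, LinearMap.comp_apply, Submodule.subtype_apply]
    rw [this]; rfl
  have hπ₀mem : ∀ v, π₀ v ∈ Y := fun v => (Submodule.projectionOnto Y Z hcompl v).2
  have hπ₀u : Commute π₀ u := by
    ext v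
    have hv : v ∈ Y ⊔ Z := by rw [htop]; trivial
    obtain ⟨y, hy, z, hz, rfl⟩ := Submodule.mem_sup.mp hv
    simp only [Module.End.mul_apply, map_add]
    rw [hπ₀Y y hy, hπ₀Z z hz, hπ₀Y _ (hYu y hy), hπ₀Z _ (hZu z hz), map_zero]
  have hπ₀x : Commute π₀ (ρ x) := by
    have : ρ x = u + 1 := by rw [hu]; unfold uop; abel
    rw [this]
    exact hπ₀u.add_right (Commute.one_right _)
  set π := avgH ρ H π₀ with hπ
  have hπ1 : ∀ v, π v ∈ Y := avgH_mem hπ₀mem hYH
  have hπ2 : ∀ y ∈ Y, π y = y := avgH_eq_self hπ₀Y hYH hcard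
  have hπx : Commute π (ρ x) := avgH_comm_x hd hπ₀x
  have hπall : ∀ γ : Γ, ∀ v, π (ρ γ v) = ρ γ (π v) := by
    intro γ v
    obtain ⟨h, hh, i, rfl⟩ := hd.gen γ
    have e1 : ρ (h * x ^ i) = ρ h * ρ x ^ i := by rw [map_mul, rep_pow]
    have e2 : π * (ρ h * ρ x ^ i) = (ρ h * ρ x ^ i) * π := by
      rw [← mul_assoc, ← avgH_comm_H ρ H π₀ h hh, mul_assoc, (hπx.pow_right i).eq, mul_assoc]
    have := congrArg (fun F : Module.End k X => F v) e2
    simp only [Module.End.mul_apply] at this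
    rw [e1]
    exact this
  refine ⟨Y, LinearMap.ker π, W, ?_, isCompl_ker_of_proj hπ1 hπ2, stab_all hd hYH hYP, ?_, hWY,
    hWH, hWne, hWirr, hYeq⟩
  · intro h
    apply hWne
    rw [eq_bot_iff, ← h]
    exact hWY
  · intro γ v hv
    rw [LinearMap.mem_ker] at hv ⊢
    rw [hπall, hv, map_zero]

end Cfsg.Agent.Helper5.GC
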