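import Mathlib
import Cfsg.Agent.Helper5.HHTb

/-!
# Class-function projectors and intertwiners (toward Clifford theory for Theorem B)
-/

set_option autoImplicit false

namespace Cfsg.Agent.Helper5.HHT

open Module

section

variable {K : Type*} [Field K] {Q : Type*} [Group Q]
variable {W₁ : Type*} [AddCommGroup W₁] [Module K W₁]
variable {W : Type*} [AddCommGroup W] [Module K W]

/-- Twist of a representation by an automorphism of the group. -/
def twistRep (τ : Representation K Q W₁) (β : MulAut Q) : Representation K Q W₁ :=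
  τ.comp β.toMonoidHom

theorem twistRep_apply (τ : Representation K Q W₁) (β : MulAut Q) (g : Q) :
    twistRep τ β g = τ (β g) := rfl

theorem twistRep_irr (τ : Representation K Q W₁) (β : MulAut Q)
    (hirr : ∀ U : Submodule K W₁, (∀ g, U.map (τ g) ≤ U) → U = ⊥ ∨ U = ⊤) :
    ∀ U : Submodule K W₁, (∀ g, U.map (twistRep τ β g) ≤ U) → U = ⊥ ∨ U = ⊤ := by
  intro U hU
  refine hirr U fun g => ?_
  have := hU (β⁻¹ g)
  rwa [twistRep_apply, MulAut.apply_inv_self] at this

/-- A nonzero intertwiner out of an irreducible representation on a finite-dimensional space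
into a representation on the same space is invertible. -/
theorem intertwiner_invertible [FiniteDimensional K W₁] (τ' τ : Representation K Q W₁)
    (hirr' : ∀ U : Submodule K W₁, (∀ g, U.map (τ' g) ≤ U) → U = ⊥ ∨ U = ⊤)
    (a : Module.End K W₁) (ha0 : a ≠ 0) (ha : ∀ g, a * τ' g = τ g * a) :
    ∃ b : Module.End K W₁, a * b = 1 ∧ b * a = 1 := by
  have hker : ∀ g, (LinearMap.ker a).map (τ' g) ≤ LinearMap.ker a := by
    rintro g _ ⟨w, hw, rfl⟩
    have hw' : a w = 0 := hw
    show a (τ' g w) = 0
    have : a (τ' g w) = (a * τ' g) w := rfl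
    rw [this, ha, Module.End.mul_apply, hw', map_zero]
  have hinj : Function.Injective a := by
    rcases hirr' _ hker with h | h
    · exact LinearMap.ker_eq_bot.mp h
    · exfalso
      apply ha0
      exact LinearMap.ker_eq_top.mp h
  have hsurj : Function.Surjective a := LinearMap.injective_iff_surjective.mp hinj
  let e := LinearEquiv.ofBijective a ⟨hinj, hsurj⟩
  refine ⟨e.symm.toLinearMap, ?_, ?_⟩
  · refine LinearMap.ext fun w => ?_
    show a (e.symm w) = w
    exact e.apply_symm_apply w
  · refine LinearMap.ext fun w => ?_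
    show e.symm (a w) = w
    exact e.symm_apply_apply w

/-- Factor an intertwiner through an injective one with larger range. -/
theorem exists_factor (τ' τ : Representation K Q W₁) (σ : Representation K Q W)
    (ι ψ : W₁ →ₗ[K] W) (hι : Function.Injective ι)
    (hιτ : ∀ g w, ι (τ g w) = σ g (ι w)) (hψτ : ∀ g w, ψ (τ' g w) = σ g (ψ w))
    (hrange : ∀ w, ψ w ∈ LinearMap.range ι) :
    ∃ a : Module.End K W₁, (∀ w, ι (a w) = ψ w) ∧ ∀ g, a * τ' g = τ g * a := by
  let e := LinearEquiv.ofInjective ι hι
  let a : Module.End K W₁ := e.symm.toLinearMap ∘ₗ LinearMap.codRestrict (LinearMap.range ι) ψ hrange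
  have hιa : ∀ w, ι (a w) = ψ w := by
    intro w
    have h1 : (e (a w) : W) = ι (a w) := rfl
    rw [← h1]
    show ((e (e.symm (LinearMap.codRestrict (LinearMap.range ι) ψ hrange w)) : LinearMap.range ι) : W)
      = ψ w
    rw [e.apply_symm_apply]
    rfl
  refine ⟨a, hιa, fun g => ?_⟩
  refine LinearMap.ext fun w => ?_
  apply hι
  rw [Module.End.mul_apply, Module.End.mul_apply, hιa, hψτ, hιτ, hιa]

end

section proj

variable {K : Type*} [Field K] {Q : Type*} [Group Q] [Fintype Q]
variable {W₁ : Type*} [AddCommGroup W₁] [Module K W₁]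
variable {W : Type*} [AddCommGroup W] [Module K W]

/-- The (unnormalised) class-function projector attached to `τ`, acting through `σ`. -/
noncomputable def cproj (τ : Representation K Q W₁) (σ : Representation K Q W) :
    Module.End K W :=
  ∑ g, LinearMap.trace K W₁ (τ g⁻¹) • σ g

/-- On the image of an intertwiner from an irreducible `τ`, the projector is a nonzero scalar. -/
theorem cproj_comp_hom [IsAlgClosed K] [FiniteDimensional K W₁] [Nontrivial W₁]
    (τ : Representation K Q W₁)
    (hirr : ∀ U : Submodule K W₁, (∀ g, U.map (τ g) ≤ U) → U = ⊥ ∨ U = ⊤)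
    (hQ : (Fintype.card Q : K) ≠ 0) (σ : Representation K Q W) (φ : W₁ →ₗ[K] W)
    (hφ : ∀ g w, φ (τ g w) = σ g (φ w)) (w : W₁) :
    cproj τ σ (φ w) = ((Fintype.card Q : K) / (finrank K W₁ : K)) • φ w := by
  obtain ⟨-, hfour⟩ := fourier τ hirr hQ
  have h1 := hfour 1
  simp only [one_mul] at h1
  unfold cproj
  rw [LinearMap.sum_apply]
  have h2 : ∀ g, (LinearMap.trace K W₁ (τ g⁻¹) • σ g) (φ w) =
      φ ((LinearMap.trace K W₁ (τ g⁻¹) • τ g) w) := by
    intro g
    rw [LinearMap.smul_apply, LinearMap.smul_apply, map_smul, hφ]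
  simp only [h2]
  rw [← map_sum, ← LinearMap.sum_apply, h1, LinearMap.smul_apply, Module.End.one_apply, map_smul]

/-- Isomorphic representations have the same projector. -/
theorem cproj_congr (τ' τ : Representation K Q W₁) (σ : Representation K Q W)
    (a b : Module.End K W₁) (hab : a * b = 1) (hba : b * a = 1)
    (ha : ∀ g, a * τ' g = τ g * a) :
    cproj τ' σ = cproj τ σ := by
  unfold cproj
  refine Finset.sum_congr rfl fun g _ => ?_
  congr 1
  calc LinearMap.trace K W₁ (τ' g⁻¹)
      = LinearMap.trace K W₁ ((b * a) * τ' g⁻¹) := by rw [hba, one_mul]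
    _ = LinearMap.trace K W₁ (b * (a * τ' g⁻¹)) := by rw [mul_assoc]
    _ = LinearMap.trace K W₁ (b * (τ g⁻¹ * a)) := by rw [ha]
    _ = LinearMap.trace K W₁ ((τ g⁻¹ * a) * b) := LinearMap.trace_mul_comm K _ _
    _ = LinearMap.trace K W₁ (τ g⁻¹) := by rw [mul_assoc, hab, mul_one]

/-- If no nonzero intertwiner from `τ` lands in the stable subspace `W'`, the projector kills
`W'`. -/
theorem cproj_vanish [FiniteDimensional K W₁] (τ : Representation K Q W₁)
    (σ : Representation K Q W) (W' : Submodule K W) (hW' : ∀ g, W'.map (σ g) ≤ W')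
    (hno : ∀ ψ : W₁ →ₗ[K] W, (∀ g w, ψ (τ g w) = σ g (ψ w)) → (∀ w, ψ w ∈ W') → ψ = 0)
    (w' : W) (hw' : w' ∈ W') : cproj τ σ w' = 0 := by
  classical
  let b := Module.finBasis K W₁
  have key : ∀ i, ∑ g, (b.coord i) (τ g⁻¹ (b i)) • σ g w' = 0 := by
    intro i
    let T : W₁ →ₗ[K] W := (b.coord i).smulRight w'
    let Tt : W₁ →ₗ[K] W := ∑ g, (σ g) ∘ₗ T ∘ₗ (τ g⁻¹)
    have hTt : ∀ w, Tt w = ∑ g, (b.coord i) (τ g⁻¹ w) • σ g w' := by
      intro w
      simp only [Tt, T, LinearMap.sum_apply, LinearMap.comp_apply, LinearMap.smulRight_apply,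
        map_smul]
    have hhom : ∀ h w, Tt (τ h w) = σ h (Tt w) := by
      intro h w
      rw [hTt, hTt, map_sum]
      refine Fintype.sum_equiv (Equiv.mulLeft h⁻¹) _ _ fun g => ?_
      simp only [Equiv.coe_mulLeft, map_smul]
      congr 1
      · congr 1
        rw [mul_inv_rev, inv_inv, map_mul]; rfl
      · rw [← Module.End.mul_apply, ← map_mul, mul_inv_cancel_left]
    have hmem : ∀ w, Tt w ∈ W' := by
      intro w
      rw [hTt]
      exact Submodule.sum_mem _ fun g _ => Submodule.smul_mem _ _ (hW' g ⟨w', hw', rfl⟩)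
    have := hno Tt hhom hmem
    rw [← hTt (b i), this, LinearMap.zero_apply]
  have htr : ∀ g, LinearMap.trace K W₁ (τ g⁻¹) = ∑ i, (b.coord i) (τ g⁻¹ (b i)) := by
    intro g
    rw [LinearMap.trace_eq_matrix_trace K b, Matrix.trace]
    simp only [Matrix.diag_apply, LinearMap.toMatrix_apply, Module.Basis.coord_apply]
  unfold cproj
  rw [LinearMap.sum_apply]
  simp only [htr, Finset.sum_smul, LinearMap.sum_apply, LinearMap.smul_apply]
  rw [Finset.sum_comm]
  exact Finset.sum_eq_zero fun i _ => key i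

/-- Conjugating the projector by an operator normalising `σ` twists `τ`. -/
theorem cproj_conj (τ : Representation K Q W₁) (σ : Representation K Q W)
    (A Ainv : Module.End K W) (β : MulAut Q) (h2 : Ainv * A = 1)
    (hA : ∀ g, A * σ g = σ (β g) * A) :
    Ainv * cproj τ σ * A = cproj (twistRep τ β) σ := by
  have hconj : ∀ g, Ainv * σ g * A = σ (β⁻¹ g) := by
    intro g
    have := hA (β⁻¹ g)
    rw [MulAut.apply_inv_self] at this
    rw [mul_assoc, ← this, ← mul_assoc, h2, one_mul]
  unfold cproj
  rw [Finset.mul_sum, Finset.sum_mul]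
  refine Fintype.sum_equiv β⁻¹.toEquiv _ _ fun g => ?_
  rw [mul_smul_comm, smul_mul_assoc, hconj, twistRep_apply]
  simp only [MulEquiv.toEquiv_eq_coe, MulEquiv.coe_toEquiv, map_inv, MulAut.apply_inv_self]

end proj

end Cfsg.Agent.Helper5.HHT
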