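import Mathlib
import Cfsg.Agent.Helper5.HHTh

/-!
# Existence of an irreducible constituent on which the group acts non-trivially
-/

set_option autoImplicit false

namespace Cfsg.Agent.Helper5.HHT

open Module

section

variable {K : Type*} [Field K] {Q : Type*} [Group Q]
variable {W : Type*} [AddCommGroup W] [Module K W]

/-- The subrepresentation on a stable subspace. -/
def subRep (σ : Representation K Q W) (U : Submodule K W) (hU : ∀ g, U.map (σ g) ≤ U) :
    Representation K Q U where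
  toFun g := (σ g).restrict (fun v hv => hU g ⟨v, hv, rfl⟩)
  map_one' := by
    ext v
    simp
  map_mul' := by
    intro a b
    ext v
    simp

theorem subRep_apply (σ : Representation K Q W) (U : Submodule K W)
    (hU : ∀ g, U.map (σ g) ≤ U) (g : Q) (v : U) :
    ((subRep σ U hU g v : U) : W) = σ g v.1 := rfl

/-- Irreducibility of a minimal stable subspace, in subtype form. -/
theorem subRep_irr (σ : Representation K Q W) (U : Submodule K W)
    (hU : ∀ g, U.map (σ g) ≤ U)
    (hmin : ∀ U' ≤ U, (∀ g, U'.map (σ g) ≤ U') → U' = ⊥ ∨ U' = U) :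
    ∀ X : Submodule K U, (∀ g, X.map (subRep σ U hU g) ≤ X) → X = ⊥ ∨ X = ⊤ := by
  intro X hX
  have hstab : ∀ g, (X.map U.subtype).map (σ g) ≤ X.map U.subtype := by
    rintro g _ ⟨_, ⟨v, hv, rfl⟩, rfl⟩
    exact ⟨subRep σ U hU g v, hX g ⟨v, hv, rfl⟩, rfl⟩
  have hle : X.map U.subtype ≤ U := by
    rintro _ ⟨v, -, rfl⟩
    exact v.2
  rcases hmin _ hle hstab with h | h
  · left
    rw [eq_bot_iff]
    intro v hv
    have : (v : W) ∈ X.map U.subtype := ⟨v, hv, rfl⟩
    rw [h] at this
    rw [Submodule.mem_bot]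
    exact Subtype.ext ((Submodule.mem_bot K).mp this)
  · right
    rw [eq_top_iff]
    intro v _
    have : (v : W) ∈ X.map U.subtype := by rw [h]; exact v.2
    obtain ⟨w, hw, hwv⟩ := this
    have : w = v := Subtype.ext hwv
    rwa [this] at hw

variable [Fintype Q]

theorem exists_irr_nontrivial [FiniteDimensional K W] (σ : Representation K Q W)
    (hQ : (Fintype.card Q : K) ≠ 0) (hnt : ∃ g, σ g ≠ 1) :
    ∃ U : Submodule K W, U ≠ ⊥ ∧ (∀ g, U.map (σ g) ≤ U) ∧
      (∀ U' ≤ U, (∀ g, U'.map (σ g) ≤ U') → U' = ⊥ ∨ U' = U) ∧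
      ∃ g, ∃ u ∈ U, σ g u ≠ u := by
  classical
  -- the commutator subspace
  set C : Submodule K W := Submodule.span K {v | ∃ g w, v = σ g w - w} with hC
  have hCstab : ∀ g, C.map (σ g) ≤ C := by
    intro h
    rw [hC, Submodule.map_span]
    apply Submodule.span_mono
    rintro _ ⟨_, ⟨g, w, rfl⟩, rfl⟩
    refine ⟨h * g * h⁻¹, σ h w, ?_⟩
    rw [map_sub]
    congr 1
    rw [← Module.End.mul_apply, ← Module.End.mul_apply, ← map_mul, ← map_mul]
    congr 2
    group
  have hCne : C ≠ ⊥ := by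
    obtain ⟨g, hg⟩ := hnt
    have : ∃ w, σ g w ≠ w := by
      by_contra hcon
      push Not at hcon
      exact hg (LinearMap.ext hcon)
    obtain ⟨w, hw⟩ := this
    intro hbot
    have hmem : σ g w - w ∈ C := Submodule.subset_span ⟨g, w, rfl⟩
    rw [hbot, Submodule.mem_bot, sub_eq_zero] at hmem
    exact hw hmem
  -- the averaging operator kills `C`
  have havg : ∀ v ∈ C, (∑ h, σ h) v = 0 := by
    intro v hv
    induction hv using Submodule.span_induction with
    | mem x hx =>
      obtain ⟨g, w, rfl⟩ := hx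
      rw [map_sub, sub_eq_zero, LinearMap.sum_apply, LinearMap.sum_apply]
      refine Fintype.sum_equiv (Equiv.mulRight g) _ _ fun h => ?_
      rw [Equiv.coe_mulRight, map_mul, Module.End.mul_apply]
    | zero => rw [map_zero]
    | add x y _ _ hx hy => rw [map_add, hx, hy, add_zero]
    | smul c x _ hx => rw [map_smul, hx, smul_zero]
  -- minimal nonzero stable subspace of `C`
  have hex : ∃ n, ∃ U : Submodule K W, U ≤ C ∧ U ≠ ⊥ ∧ (∀ g, U.map (σ g) ≤ U) ∧
      finrank K U = n := ⟨_, C, le_rfl, hCne, hCstab, rfl⟩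
  obtain ⟨U, hUC, hUne, hUstab, hUn⟩ := Nat.find_spec hex
  have hUmin : ∀ U' ≤ U, (∀ g, U'.map (σ g) ≤ U') → U' = ⊥ ∨ U' = U := by
    intro U' hU'U hU'stab
    by_cases hU'ne : U' = ⊥
    · exact Or.inl hU'ne
    · right
      have h1 : Nat.find hex ≤ finrank K U' :=
        Nat.find_min' hex ⟨U', hU'U.trans hUC, hU'ne, hU'stab, rfl⟩
      exact Submodule.eq_of_le_of_finrank_le hU'U (by omega)
  refine ⟨U, hUne, hUstab, hUmin, ?_⟩
  by_contra hcon
  push Not at hcon
  obtain ⟨u, hu, hu0⟩ := (Submodule.ne_bot_iff U).mp hUne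
  have h1 := havg u (hUC hu)
  rw [LinearMap.sum_apply] at h1
  simp only [hcon _ u hu, Finset.sum_const, Finset.card_univ] at h1
  rw [← Nat.cast_smul_eq_nsmul K, smul_eq_zero] at h1
  rcases h1 with h1 | h1
  · exact hQ h1
  · exact hu0 h1

end

end Cfsg.Agent.Helper5.HHT
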