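import Mathlib
import Cfsg.Agent.Helper5.GCe
import Cfsg.Agent.Helper5.HHTi

/-!
# Uniqueness of the stable top of a `k[P ⋊ H]`-module with one-dimensional stable endomorphisms
-/

set_option autoImplicit false

namespace Cfsg.Agent.Helper5.GC

open Module

universe u

variable {k : Type*} [Field k] {Γ : Type*} [Group Γ]

/-- `f` is a semi-invariant functional with character `lam`. -/
def SemiInv {X : Type*} [AddCommGroup X] [Module k X] (ρ : Representation k Γ X) (lam : Γ →* k)
    (f : X →ₗ[k] k) : Prop :=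
  ∀ γ v, f (ρ γ v) = lam γ * f v

/-- every equivariant endomorphism is a scalar modulo traces from `⟨x⟩`. -/
def StabEnd {X : Type*} [AddCommGroup X] [Module k X] (ρ : Representation k Γ X) (x : Γ)
    (p : ℕ) : Prop :=
  ∀ φ : Module.End k X, (∀ γ v, φ (ρ γ v) = ρ γ (φ v)) →
    ∃ (c : k) (μ : Module.End k X), φ = c • (1 : Module.End k X) + trX ρ ρ x p μ

theorem char_x_eq_one (lam : Γ →* k) (x : Γ) (p : ℕ) [Fact p.Prime] [CharP k p]
    (hx : x ^ p = 1) : lam x = 1 := by
  have h1 : lam x ^ p = 1 := by rw [← map_pow, hx, map_one]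
  have h2 : (lam x - 1) ^ p = 0 := by rw [sub_pow_char, h1, one_pow, sub_self]
  have h3 := pow_eq_zero_iff (Fact.out : p.Prime).ne_zero |>.mp h2
  exact sub_eq_zero.mp h3

section

variable {X : Type*} [AddCommGroup X] [Module k X]

theorem SemiInv.uop_eq_zero {ρ : Representation k Γ X} {lam : Γ →* k} {f : X →ₗ[k] k}
    (hf : SemiInv ρ lam f) {x : Γ} (hlx : lam x = 1) (v : X) : f (uop ρ x v) = 0 := by
  rw [uop_apply, map_sub, hf, hlx, one_mul, sub_self]

theorem SemiInv.apply_trX {ρ : Representation k Γ X} {lam : Γ →* k} {f : X →ₗ[k] k}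
    (hf : SemiInv ρ lam f) {x : Γ} (hlx : lam x = 1) (p : ℕ) (hp : 0 < p) (hx : x ^ p = 1)
    (μ : Module.End k X) (v : X) : f (trX ρ ρ x p μ v) = f (μ (pplus ρ x p v)) := by
  rw [trX_apply, map_sum, pplus_apply, map_sum, map_sum]
  have : ∀ i ∈ Finset.range p, f (ρ (x ^ i) (μ (ρ (x ^ i)⁻¹ v))) = f (μ (ρ (x ^ i)⁻¹ v)) := by
    intro i _
    rw [hf, map_pow, hlx, one_pow, one_mul]
  rw [Finset.sum_congr rfl this]
  exact sum_range_pow_inv x p hp hx (fun g => f (μ (ρ g v)))

/-- an equivariant map commutes with `P⁺` -/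
theorem pplus_comm {ρ : Representation k Γ X} {φ : Module.End k X}
    (hφ : ∀ γ v, φ (ρ γ v) = ρ γ (φ v)) (x : Γ) (p : ℕ) (v : X) :
    pplus ρ x p (φ v) = φ (pplus ρ x p v) := by
  rw [pplus_apply, pplus_apply, map_sum]
  exact Finset.sum_congr rfl fun i _ => (hφ _ _).symm

theorem projection_equivariant {ρ : Representation k Γ X} {Y Z : Submodule k X}
    (hYZ : IsCompl Y Z) (hY : ∀ γ : Γ, ∀ v ∈ Y, ρ γ v ∈ Y) (hZ : ∀ γ : Γ, ∀ v ∈ Z, ρ γ v ∈ Z)
    (γ : Γ) (v : X) : Y.projection Z hYZ (ρ γ v) = ρ γ (Y.projection Z hYZ v) := by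
  have hv := Submodule.projection_add_projection_eq_self hYZ v
  set y := Y.projection Z hYZ v with hy
  set z := Z.projection Y hYZ.symm v with hz
  have hyY : y ∈ Y := Submodule.projection_apply_mem hYZ v
  have hzZ : z ∈ Z := Submodule.projection_apply_mem hYZ.symm v
  rw [← hv, map_add, map_add, Submodule.projection_apply_of_mem_left hYZ (hY γ y hyY),
    (Submodule.projection_apply_eq_zero_iff hYZ).mpr (hZ γ z hzZ), add_zero]

end

/-- the subrepresentation on a stable subspace -/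
noncomputable def subR {X : Type*} [AddCommGroup X] [Module k X] (ρ : Representation k Γ X)
    (Z : Submodule k X) (hZ : ∀ γ : Γ, ∀ v ∈ Z, ρ γ v ∈ Z) : Representation k Γ Z :=
  HHT.subRep ρ Z (by rintro g _ ⟨v, hv, rfl⟩; exact hZ g v hv)

theorem subR_coe {X : Type*} [AddCommGroup X] [Module k X] (ρ : Representation k Γ X)
    (Z : Submodule k X) (hZ : ∀ γ : Γ, ∀ v ∈ Z, ρ γ v ∈ Z) (γ : Γ) (z : Z) :
    ((subR ρ Z hZ γ z : Z) : X) = ρ γ (z : X) := rfl

theorem unique_char [Finite Γ] (x : Γ) (H : Subgroup Γ) (p : ℕ) [Fact p.Prime] [CharP k p]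
    (hd : PHData Γ x H) (hx : x ^ p = 1) (hcard : (Nat.card H : k) ≠ 0) (n : ℕ) :
    ∀ {X : Type u} [AddCommGroup X] [Module k X] [FiniteDimensional k X]
      (ρ : Representation k Γ X), finrank k X = n → StabEnd ρ x p →
      ∀ (lam lam' : Γ →* k) (f f' : X →ₗ[k] k), SemiInv ρ lam f → SemiInv ρ lam' f' →
      (∃ v, pplus ρ x p v = 0 ∧ f v ≠ 0) → (∃ v, pplus ρ x p v = 0 ∧ f' v ≠ 0) →
      ∀ h ∈ H, lam h = lam' h := by
  induction n using Nat.strong_induction_on with
  | _ n ih =>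
  intro X _ _ _ ρ hn hSE lam lam' f f' hf hf' ⟨v₀, hv₀P, hv₀f⟩ ⟨v₀', hv₀'P, hv₀'f⟩
  have hp : 0 < p := (Fact.out : p.Prime).pos
  have hlx : lam x = 1 := char_x_eq_one lam x p hx
  have hlx' : lam' x = 1 := char_x_eq_one lam' x p hx
  have : Nontrivial X := ⟨⟨v₀, 0, fun h => hv₀f (by rw [h, map_zero])⟩⟩
  obtain ⟨Y, Z, W, hYne, hYZ, hYs, hZs, hWY, hWH, hWne, hWirr, hYeq⟩ :=
    exists_split ρ x H p hd hx hcard
  set eY := Y.projection Z hYZ with heY
  set eZ := Z.projection Y hYZ.symm with heZ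
  have heYeq : ∀ γ v, eY (ρ γ v) = ρ γ (eY v) := projection_equivariant hYZ hYs hZs
  have heZeq : ∀ γ v, eZ (ρ γ v) = ρ γ (eZ v) := projection_equivariant hYZ.symm hZs hYs
  obtain ⟨c, μ, hcμ⟩ := hSE eY heYeq
  -- f (eY v) = c f(v) for v in the kernel of P⁺
  have hfe : ∀ (lam : Γ →* k) (f : X →ₗ[k] k), SemiInv ρ lam f → lam x = 1 →
      ∀ v, pplus ρ x p v = 0 → f (eY v) = c * f v := by
    intro lam f hf hlx v hv
    rw [hcμ, LinearMap.add_apply, map_add, hf.apply_trX hlx p hp hx, hv, map_zero, map_zero,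
      add_zero, LinearMap.smul_apply, Module.End.one_apply, map_smul, smul_eq_mul]
  have hidem : eY (eY v₀) = eY v₀ :=
    Submodule.projection_apply_of_mem_left hYZ (Submodule.projection_apply_mem hYZ v₀)
  have hPe : pplus ρ x p (eY v₀) = 0 := by rw [pplus_comm heYeq, hv₀P, map_zero]
  have hc : c = 0 ∨ c = 1 := by
    have h1 := hfe lam f hf hlx (eY v₀) hPe
    rw [hidem, hfe lam f hf hlx v₀ hv₀P] at h1
    have h2 : c * (c - 1) * f v₀ = 0 := by linear_combination -h1
    rcases mul_eq_zero.mp h2 with h3 | h3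
    · rcases mul_eq_zero.mp h3 with h4 | h4
      · exact Or.inl h4
      · exact Or.inr (sub_eq_zero.mp h4)
    · exact absurd h3 hv₀f
  rcases hc with hc | hc
  · -- the complement carries everything: induct on Z
    have hsum : ∀ v, eY v + eZ v = v := Submodule.projection_add_projection_eq_self hYZ
    have hfZ : ∀ (lam : Γ →* k) (f : X →ₗ[k] k), SemiInv ρ lam f → lam x = 1 →
        ∀ v, pplus ρ x p v = 0 → f (eZ v) = f v := by
      intro lam f hf hlx v hv
      have h1 := hfe lam f hf hlx v hv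
      rw [hc, zero_mul] at h1
      have := congrArg f (hsum v)
      rw [map_add, h1, zero_add] at this
      exact this
    have hZmem : ∀ v, eZ v ∈ Z := Submodule.projection_apply_mem hYZ.symm
    set ρZ := subR ρ Z hZs with hρZ
    have hrank : finrank k Z < n := by
      have h1 := Submodule.finrank_add_eq_of_isCompl hYZ
      have h2 : 0 < finrank k Y := by
        rw [Module.finrank_pos_iff]
        exact (Submodule.nontrivial_iff_ne_bot).mpr hYne
      omega
    have hpplusZ : ∀ z : Z, ((pplus ρZ x p z : Z) : X) = pplus ρ x p (z : X) := by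
      intro z
      rw [pplus_apply, pplus_apply, Submodule.coe_sum]
      rfl
    have hSEZ : StabEnd ρZ x p := by
      intro φ hφ
      -- extend φ to X
      set φ' : Module.End k X := Z.subtype ∘ₗ φ ∘ₗ Z.projectionOnto Y hYZ.symm with hφ'
      have hφ'eq : ∀ γ v, φ' (ρ γ v) = ρ γ (φ' v) := by
        intro γ v
        simp only [hφ', LinearMap.comp_apply, Submodule.subtype_apply]
        have e1 : Z.projectionOnto Y hYZ.symm (ρ γ v) = ρZ γ (Z.projectionOnto Y hYZ.symm v) := by
          apply Subtype.ext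
          rw [subR_coe]
          exact heZeq γ v
        rw [e1, hφ, subR_coe]
      obtain ⟨c', μ', hc'⟩ := hSE φ' hφ'eq
      refine ⟨c', Z.projectionOnto Y hYZ.symm ∘ₗ μ' ∘ₗ Z.subtype, ?_⟩
      ext z
      have h1 : φ' (z : X) = (φ z : X) := by
        simp only [hφ', LinearMap.comp_apply, Submodule.subtype_apply]
        rw [Submodule.projectionOnto_apply_left]
      have h2 : eZ (φ' (z : X)) = φ' (z : X) := by
        rw [h1]
        exact Submodule.projection_apply_of_mem_left hYZ.symm (φ z).2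
      rw [← h1, ← h2, hc', LinearMap.add_apply, map_add, LinearMap.smul_apply,
        Module.End.one_apply, map_smul,
        Submodule.projection_apply_of_mem_left hYZ.symm z.2]
      rw [LinearMap.add_apply, LinearMap.smul_apply, Module.End.one_apply, Submodule.coe_add,
        Submodule.coe_smul]
      congr 1
      rw [trX_apply, trX_apply, map_sum, Submodule.coe_sum]
      refine Finset.sum_congr rfl fun i _ => ?_
      rw [heZeq, subR_coe]
      rfl
    have hfZs : ∀ (lam : Γ →* k) (f : X →ₗ[k] k), SemiInv ρ lam f →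
        SemiInv ρZ lam (f ∘ₗ Z.subtype) := by
      intro lam f hf γ z
      simp only [LinearMap.comp_apply, Submodule.subtype_apply]
      rw [subR_coe, hf]
    refine ih (finrank k Z) hrank ρZ rfl hSEZ lam lam' (f ∘ₗ Z.subtype) (f' ∘ₗ Z.subtype)
      (hfZs lam f hf) (hfZs lam' f' hf') ⟨⟨eZ v₀, hZmem v₀⟩, ?_, ?_⟩ ⟨⟨eZ v₀', hZmem v₀'⟩, ?_, ?_⟩
    · apply Subtype.ext
      rw [hpplusZ]
      show pplus ρ x p (eZ v₀) = 0
      rw [pplus_comm heZeq, hv₀P, map_zero]
    · simp only [LinearMap.comp_apply, Submodule.subtype_apply]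
      rw [hfZ lam f hf hlx v₀ hv₀P]
      exact hv₀f
    · apply Subtype.ext
      rw [hpplusZ]
      show pplus ρ x p (eZ v₀') = 0
      rw [pplus_comm heZeq, hv₀'P, map_zero]
    · simp only [LinearMap.comp_apply, Submodule.subtype_apply]
      rw [hfZ lam' f' hf' hlx' v₀' hv₀'P]
      exact hv₀'f
  · -- Y carries everything
    have hW : ∀ (lam : Γ →* k) (f : X →ₗ[k] k), SemiInv ρ lam f → lam x = 1 →
        ∀ v, pplus ρ x p v = 0 → f v ≠ 0 → ∃ w ∈ W, f w ≠ 0 := by
      intro lam f hf hlx v hv hfv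
      have h1 := hfe lam f hf hlx v hv
      rw [hc, one_mul] at h1
      have hmem : eY v ∈ Y := Submodule.projection_apply_mem hYZ v
      rw [hYeq] at hmem
      obtain ⟨w, hw, t, ⟨y', -, rfl⟩, hwt⟩ := Submodule.mem_sup.mp hmem
      refine ⟨w, hw, ?_⟩
      have := congrArg f hwt
      rw [map_add, hf.uop_eq_zero hlx, add_zero, h1] at this
      rw [this]
      exact hfv
    obtain ⟨w, hw, hfw⟩ := hW lam f hf hlx v₀ hv₀P hv₀f
    obtain ⟨w', hw', hfw'⟩ := hW lam' f' hf' hlx' v₀' hv₀'P hv₀'f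
    -- W ⊓ ker f is H-stable, hence zero
    have hker : W ⊓ LinearMap.ker f = ⊥ := by
      have hst : HStab ρ H (W ⊓ LinearMap.ker f) := by
        intro h hh v hv
        obtain ⟨hvW, hvk⟩ := Submodule.mem_inf.mp hv
        refine Submodule.mem_inf.mpr ⟨hWH h hh v hvW, ?_⟩
        rw [LinearMap.mem_ker] at hvk ⊢
        rw [hf, hvk, mul_zero]
      rcases hWirr _ inf_le_left hst with h0 | h0
      · exact h0
      · exfalso
        have : w ∈ W ⊓ LinearMap.ker f := by rw [h0]; exact hw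
        exact hfw (LinearMap.mem_ker.mp (Submodule.mem_inf.mp this).2)
    intro h hh
    have ht : ρ h w' - lam h • w' ∈ W ⊓ LinearMap.ker f := by
      refine Submodule.mem_inf.mpr ⟨W.sub_mem (hWH h hh w' hw') (W.smul_mem _ hw'), ?_⟩
      rw [LinearMap.mem_ker, map_sub, hf, map_smul, smul_eq_mul, sub_self]
    rw [hker, Submodule.mem_bot, sub_eq_zero] at ht
    have h1 := hf' h w'
    rw [ht, map_smul, smul_eq_mul] at h1
    exact mul_right_cancel₀ hfw' h1

end Cfsg.Agent.Helper5.GC
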