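import Mathlib
import Cfsg.Agent.Helper5.GCb
import Cfsg.Agent.Helper5.GCf
import Cfsg.Agent.Helper5.HHTb

/-!
# Restriction of an irreducible representation to the normalizer of a TI subgroup of order `p`:
stable endomorphisms are scalars; uniqueness of the stable top
-/

set_option autoImplicit false

namespace Cfsg.Agent.Helper5.GC

open Module

variable {k : Type*} [Field k] {G : Type*} [Group G]

/-- The hypotheses on `N = P ⋊ H ≤ G` with `P = ⟨x⟩` of order `p` trivial-intersection. -/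
structure TIData (G : Type*) [Group G] (N H : Subgroup G) (x : G) (p : ℕ) : Prop where
  hxN : x ∈ N
  hHN : H ≤ N
  gen : ∀ n ∈ N, ∃ h ∈ H, ∃ i : ℕ, n = h * x ^ i
  norm : ∀ h ∈ H, ∃ m : ℕ, h⁻¹ * x * h = x ^ m
  hxp : x ^ p = 1
  ti : ∀ a : G, a ∉ N → ∀ i, 0 < i → i < p → a⁻¹ * x ^ i * a ∉ N

/-- Irreducibility. -/
def IsIrr {V : Type*} [AddCommGroup V] [Module k V] (ρ : Representation k G V) : Prop :=
  ∀ U : Submodule k V, (∀ g, U.map (ρ g) ≤ U) → U = ⊥ ∨ U = ⊤

/-- Restriction to a subgroup. -/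
def resN {V : Type*} [AddCommGroup V] [Module k V] (ρ : Representation k G V) (N : Subgroup G) :
    Representation k N V :=
  ρ.comp N.subtype

theorem resN_apply {V : Type*} [AddCommGroup V] [Module k V] (ρ : Representation k G V)
    (N : Subgroup G) (n : N) : resN ρ N n = ρ (n : G) := rfl

theorem TIData.phData {N H : Subgroup G} {x : G} {p : ℕ} (hd : TIData G N H x p) :
    PHData N ⟨x, hd.hxN⟩ (H.subgroupOf N) where
  gen := by
    intro γ
    obtain ⟨h, hh, i, hi⟩ := hd.gen γ γ.2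
    refine ⟨⟨h, hd.hHN hh⟩, Subgroup.mem_subgroupOf.mpr hh, i, ?_⟩
    apply Subtype.ext
    simp only [Subgroup.coe_mul, Subgroup.coe_pow]
    exact hi
  norm := by
    intro h hh
    obtain ⟨m, hm⟩ := hd.norm h (Subgroup.mem_subgroupOf.mp hh)
    refine ⟨m, ?_⟩
    apply Subtype.ext
    simp only [Subgroup.coe_mul, Subgroup.coe_pow, Subgroup.coe_inv]
    exact hm

theorem TIData.pow_eq_one {N H : Subgroup G} {x : G} {p : ℕ} (hd : TIData G N H x p) :
    (⟨x, hd.hxN⟩ : N) ^ p = 1 := by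
  apply Subtype.ext
  simp only [Subgroup.coe_pow, Subgroup.coe_one]
  exact hd.hxp

theorem card_subgroupOf_of_le {N H : Subgroup G} (h : H ≤ N) :
    Nat.card (H.subgroupOf N) = Nat.card H :=
  Nat.card_congr (Subgroup.subgroupOfEquivOfLe h).toEquiv

section

variable [Finite G] {V : Type*} [AddCommGroup V] [Module k V]

theorem trX_resN (ρ : Representation k G V) (N : Subgroup G) (x : G) (hx : x ∈ N) (p : ℕ)
    (μ : Module.End k V) :
    trX (resN ρ N) (resN ρ N) (⟨x, hx⟩ : N) p μ = trX ρ ρ x p μ := by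
  unfold trX
  refine Finset.sum_congr rfl fun i _ => ?_
  ext v
  simp only [cj_apply, resN_apply, Subgroup.coe_pow, Subgroup.coe_inv]

theorem pplus_resN (ρ : Representation k G V) (N : Subgroup G) (x : G) (hx : x ∈ N) (p : ℕ) :
    pplus (resN ρ N) (⟨x, hx⟩ : N) p = pplus ρ x p := by
  unfold pplus
  refine Finset.sum_congr rfl fun i _ => ?_
  rw [resN_apply, Subgroup.coe_pow]

/-- **Stable endomorphisms of the restriction of an irreducible module are scalars.** -/
theorem stabEnd_resN [IsAlgClosed k] [FiniteDimensional k V] [Nontrivial V]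
    (ρ : Representation k G V) (hirr : IsIrr ρ) {N H : Subgroup G} {x : G} {p : ℕ}
    (hp : 0 < p) (hd : TIData G N H x p) :
    StabEnd (resN ρ N) (⟨x, hd.hxN⟩ : N) p := by
  intro φ hφ
  have hφN : IsHomOn ρ ρ N φ := fun g hg v => hφ ⟨g, hg⟩ v
  have hΦ := isHomOn_relTr hφN
  obtain ⟨c, hc⟩ := HHT.schur ρ hirr (relTr ρ ρ N φ) (by
    intro g
    ext v
    simp only [Module.End.mul_apply]
    exact hΦ g (Subgroup.mem_top g) v)
  obtain ⟨μ, hμ⟩ := relTr_sub_self hφN x hd.hxN p hp hd.hxp hd.ti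
  refine ⟨c, -μ, ?_⟩
  rw [trX_resN, trX_neg, ← hμ, hc]
  abel

end

/-- **Uniqueness of the stable top**, for an irreducible representation of `G`. -/
theorem unique_top [Finite G] [IsAlgClosed k] {V : Type*} [AddCommGroup V] [Module k V]
    [FiniteDimensional k V] [Nontrivial V]
    (ρ : Representation k G V) (hirr : IsIrr ρ) {N H : Subgroup G} {x : G} {p : ℕ}
    [Fact p.Prime] [CharP k p] (hd : TIData G N H x p) (hcard : (Nat.card H : k) ≠ 0)
    (lam lam' : N →* k) (f f' : V →ₗ[k] k)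
    (hf : ∀ (n : N) v, f (ρ (n : G) v) = lam n * f v)
    (hf' : ∀ (n : N) v, f' (ρ (n : G) v) = lam' n * f' v)
    (hv : ∃ v, pplus ρ x p v = 0 ∧ f v ≠ 0) (hv' : ∃ v, pplus ρ x p v = 0 ∧ f' v ≠ 0) :
    lam = lam' := by
  have hp : 0 < p := (Fact.out : p.Prime).pos
  have hcard' : (Nat.card (H.subgroupOf N) : k) ≠ 0 := by
    rw [card_subgroupOf_of_le hd.hHN]; exact hcard
  have hSE := stabEnd_resN ρ hirr hp hd
  have key := unique_char (⟨x, hd.hxN⟩ : N) (H.subgroupOf N) p hd.phData hd.pow_eq_one hcard'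
    (finrank k V) (resN ρ N) rfl hSE lam lam' f f' hf hf'
    (by rw [pplus_resN]; exact hv) (by rw [pplus_resN]; exact hv')
  have hx1 := char_x_eq_one lam (⟨x, hd.hxN⟩ : N) p hd.pow_eq_one
  have hx1' := char_x_eq_one lam' (⟨x, hd.hxN⟩ : N) p hd.pow_eq_one
  ext n
  obtain ⟨h, hh, i, hi⟩ := hd.phData.gen n
  rw [hi, map_mul, map_mul, map_pow, map_pow, hx1, hx1', key h hh]

end Cfsg.Agent.Helper5.GC
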