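import Mathlib
import Cfsg.Agent.Helper5.GCg

/-!
# A Sylow `p`-subgroup of order `p`: the normalizer is `P ⋊ H`, `P` is TI
-/

set_option autoImplicit false

namespace Cfsg.Agent.Helper5.GC

open Subgroup

variable {G : Type*} [Group G] [Finite G]

/-- natural powers in a finite cyclic group -/
theorem exists_pow_of_mem_zpowers {x y : G} (h : y ∈ zpowers x) : ∃ i : ℕ, y = x ^ i := by
  have hfin : IsOfFinOrder x := isOfFinOrder_of_finite x
  rw [← hfin.mem_powers_iff_mem_zpowers] at h
  obtain ⟨i, hi⟩ := Submonoid.mem_powers_iff _ _ |>.mp h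
  exact ⟨i, hi.symm⟩

/-- `p`-elements of the normalizer of a Sylow `p`-subgroup lie in it. -/
theorem mem_sylow_of_mem_normalizer {p : ℕ} [hp : Fact p.Prime] (P : Sylow p G) {n : G}
    (hn : n ∈ normalizer ((P : Subgroup G) : Set G)) (hnp : n ^ p = 1) : n ∈ (P : Subgroup G) := by
  have hQ : IsPGroup p (zpowers n) := by
    have hord : orderOf n ∣ p := orderOf_dvd_of_pow_eq_one hnp
    rcases (Nat.dvd_prime hp.out).mp hord with h | h
    · apply IsPGroup.of_card (n := 0)
      rw [Nat.card_zpowers, h, pow_zero]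
    · apply IsPGroup.of_card (n := 1)
      rw [Nat.card_zpowers, h, pow_one]
  have hle : zpowers n ≤ normalizer ((P : Subgroup G) : Set G) := by
    rw [zpowers_le]; exact hn
  have hsup := IsPGroup.to_sup_of_normal_right' hQ P.2 hle
  have := P.is_maximal' hsup le_sup_right
  have h2 : zpowers n ≤ (P : Subgroup G) := by
    rw [← this]; exact le_sup_left
  exact h2 (mem_zpowers n)

section

variable {p : ℕ} [hp : Fact p.Prime] (P : Sylow p G) (hP : Nat.card P = p)

include hP in
theorem exists_generator : ∃ x : G, x ≠ 1 ∧ x ^ p = 1 ∧ (P : Subgroup G) = zpowers x := by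
  have h1 : 1 < Nat.card (P : Subgroup G) := by
    have : Nat.card (P : Subgroup G) = p := hP
    rw [this]; exact hp.out.one_lt
  haveI : Nontrivial (P : Subgroup G) := Finite.one_lt_card_iff_nontrivial.mp h1
  obtain ⟨y, hy⟩ := exists_ne (1 : (P : Subgroup G))
  have htop : zpowers y = ⊤ := zpowers_eq_top_of_prime_card (p := p) hP hy
  refine ⟨(y : G), fun h => hy (Subtype.ext h), ?_, ?_⟩
  · have : y ^ p = 1 := by
      have := pow_card_eq_one' (G := (P : Subgroup G)) (x := y)
      have hc : Nat.card (P : Subgroup G) = p := hP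
      rwa [hc] at this
    have := congrArg Subtype.val this
    simpa using this
  · ext g
    constructor
    · intro hg
      have : (⟨g, hg⟩ : (P : Subgroup G)) ∈ zpowers y := by rw [htop]; trivial
      obtain ⟨i, hi⟩ := mem_zpowers_iff.mp this
      refine mem_zpowers_iff.mpr ⟨i, ?_⟩
      have := congrArg Subtype.val hi
      simpa using this
    · intro hg
      obtain ⟨i, hi⟩ := mem_zpowers_iff.mp hg
      rw [← hi]
      exact (P : Subgroup G).zpow_mem y.2 i

include hP in
theorem exists_tiData (k : Type*) [Field k] [CharP k p] {x : G} (hx1 : x ≠ 1) (hxp : x ^ p = 1)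
    (hPx : (P : Subgroup G) = zpowers x) :
    ∃ H : Subgroup G, TIData G (normalizer ((P : Subgroup G) : Set G)) H x p ∧
      (Nat.card H : k) ≠ 0 := by
  set N := normalizer ((P : Subgroup G) : Set G) with hN
  have hPN : (P : Subgroup G) ≤ N := le_normalizer
  have hxP : x ∈ (P : Subgroup G) := by rw [hPx]; exact mem_zpowers x
  have hord : orderOf x = p := by
    have h1 := orderOf_dvd_of_pow_eq_one hxp
    rcases (Nat.dvd_prime hp.out).mp h1 with h | h
    · exact absurd (orderOf_eq_one_iff.mp h) hx1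
    · exact h
  set P' : Subgroup N := (P : Subgroup G).subgroupOf N with hP'
  have hcardP' : Nat.card P' = p := by
    rw [hP', Nat.card_congr (Subgroup.subgroupOfEquivOfLe hPN).toEquiv]
    exact hP
  have hidx : P'.index ∣ (P : Subgroup G).index := by
    have := Subgroup.relIndex_mul_index hPN
    exact Dvd.intro _ this
  have hcop : Nat.Coprime (Nat.card P') P'.index := by
    have h1 := P.card_coprime_index
    have h2 : Nat.card P = p := hP
    rw [h2] at h1
    rw [hcardP']
    exact Nat.Coprime.coprime_dvd_right hidx h1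
  obtain ⟨H', hH'⟩ := Subgroup.exists_right_complement'_of_coprime hcop
  refine ⟨H'.map N.subtype, ⟨?_, ?_, ?_, ?_, hxp, ?_⟩, ?_⟩
  · exact hPN hxP
  · rintro _ ⟨h, -, rfl⟩
    exact h.2
  · intro n hn
    obtain ⟨⟨h, y⟩, hhy, -⟩ := (Subgroup.isComplement_iff_existsUnique.mp hH'.symm) ⟨n, hn⟩
    have hy : (y : N).1 ∈ zpowers x := by
      rw [← hPx]
      exact Subgroup.mem_subgroupOf.mp y.2
    obtain ⟨i, hi⟩ := exists_pow_of_mem_zpowers hy
    refine ⟨(h : N).1, ⟨h, h.2, rfl⟩, i, ?_⟩
    have := congrArg Subtype.val hhy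
    simp only [Subgroup.coe_mul] at this
    rw [← this, hi]
  · rintro _ ⟨h, -, rfl⟩
    have hinv : (h : G)⁻¹ ∈ N := N.inv_mem h.2
    have := ((Subgroup.mem_normalizer_iff.mp hinv) x).mp hxP
    rw [inv_inv] at this
    rw [hPx] at this
    exact (exists_pow_of_mem_zpowers this).imp fun m hm => hm
  · intro a ha i hi0 hip hmem
    apply ha
    have hyp : (a⁻¹ * x ^ i * a) ^ p = 1 := by
      have : a⁻¹ * x ^ i * a = a⁻¹ * x ^ i * a⁻¹⁻¹ := by rw [inv_inv]
      rw [this, conj_pow, ← pow_mul, mul_comm, pow_mul, hxp, one_pow, mul_one, inv_inv,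
        inv_mul_cancel]
    have hyP := mem_sylow_of_mem_normalizer P hmem hyp
    -- a⁻¹ normalizes P
    have hinv : a⁻¹ ∈ N := by
      apply Subgroup.mem_normalizer_fintype
      intro g hg
      rw [SetLike.mem_coe, hPx] at hg
      obtain ⟨j, rfl⟩ := exists_pow_of_mem_zpowers hg
      -- x = (x^i)^b
      have hcopi : Nat.Coprime i p :=
        ((Nat.Prime.coprime_iff_not_dvd hp.out).mpr (Nat.not_dvd_of_pos_of_lt hi0 hip)).symm
      obtain ⟨b, -, hb⟩ := Nat.exists_mul_mod_eq_one_of_coprime hcopi hp.out.one_lt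
      have hxb : (x ^ i) ^ b = x := by
        rw [← pow_mul, ← pow_mod_orderOf, hord, hb, pow_one]
      have : a⁻¹ * x ^ j * a⁻¹⁻¹ = (a⁻¹ * x ^ i * a) ^ (b * j) := by
        have h1 : a⁻¹ * x ^ i * a = a⁻¹ * x ^ i * a⁻¹⁻¹ := by rw [inv_inv]
        rw [h1, conj_pow, pow_mul, hxb]
      rw [this]
      exact (P : Subgroup G).pow_mem hyP _
    have := N.inv_mem hinv
    rwa [inv_inv] at this
  · have hcardH : Nat.card (H'.map N.subtype) = P'.index := by
      rw [Nat.card_congr (Subgroup.equivMapOfInjective H' N.subtype N.subtype_injective).toEquiv.symm]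
      exact (Subgroup.IsComplement'.index_eq_card hH'.symm).symm
    rw [hcardH]
    intro h0
    have hdvd : p ∣ P'.index := (CharP.cast_eq_zero_iff k p _).mp h0
    have h1 : p ∣ Nat.gcd (Nat.card P') P'.index := Nat.dvd_gcd (by rw [hcardP']) hdvd
    rw [hcop] at h1
    exact hp.out.one_lt.ne' (Nat.dvd_one.mp h1)

/-- `p`-elements of the centralizer of `x` are powers of `x`. -/
theorem pow_of_commute {x : G} (hPx : (P : Subgroup G) = zpowers x) (g : G) (hg : g * x = x * g)
    (hgp : g ^ p = 1) : ∃ i : ℕ, g = x ^ i := by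
  have hgN : g ∈ normalizer ((P : Subgroup G) : Set G) := by
    apply Subgroup.mem_normalizer_fintype
    intro y hy
    rw [SetLike.mem_coe, hPx] at hy ⊢
    obtain ⟨j, rfl⟩ := exists_pow_of_mem_zpowers hy
    have hc : Commute g (x ^ j) := (show Commute g x from hg).pow_right j
    have : g * x ^ j * g⁻¹ = x ^ j := by rw [hc.eq]; group
    rw [this]
    exact Subgroup.pow_mem _ (mem_zpowers x) j
  have := mem_sylow_of_mem_normalizer P hgN hgp
  rw [hPx] at this
  exact exists_pow_of_mem_zpowers this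

end

end Cfsg.Agent.Helper5.GC
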