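import Mathlib
import Cfsg.Agent.Helper1.S0997TDefs
import Cfsg.Agent.Helper1.S4504Main

set_option autoImplicit false

/-! S0997 TUAN half, piece T-REDUC: `x` acts nontrivially on an invariant subspace or on the
quotient by it. -/

namespace Cfsg.Agent.S0997P

open Cfsg.Agent.Helper5.GC Module Cfsg.Agent.S4504P

namespace REDUC

/-- a normal subgroup all of whose `p`-regular elements are trivial and which contains `x ≠ 1`,
in a group with Sylow `p`-subgroup `⟨x⟩`, equals `⟨x⟩` (copy of the private lemma of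
`S4504Main`). -/
theorem normal_of_pker {G : Type*} [Group G] [Finite G] (p : ℕ) [hp : Fact p.Prime]
    (P : Sylow p G) {x : G} (hPx : (P : Subgroup G) = Subgroup.zpowers x)
    (K : Subgroup G) [hKn : K.Normal] (hK : ∀ g ∈ K, ¬ p ∣ orderOf g → g = 1) (hxK : x ∈ K) :
    (P : Subgroup G).Normal := by
  have hKp : IsPGroup p K := by
    intro g
    obtain ⟨a, m, hm, hgm⟩ := Nat.exists_eq_pow_mul_and_not_dvd
      (orderOf_pos (g : G)).ne' p hp.out.ne_one
    refine ⟨a, ?_⟩
    have h1 : orderOf ((g : G) ^ p ^ a) = m := by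
      rw [orderOf_pow' _ (pow_ne_zero a hp.out.ne_zero), hgm, Nat.gcd_eq_right (Dvd.intro _ rfl),
        Nat.mul_div_cancel_left _ (pow_pos hp.out.pos a)]
    have h2 : (g : G) ^ p ^ a = 1 := hK _ (K.pow_mem g.2 _) (by rw [h1]; exact hm)
    apply Subtype.ext
    simpa using h2
  obtain ⟨Q, hQ⟩ := hKp.exists_le_sylow
  obtain ⟨g, hg⟩ := MulAction.exists_smul_eq G Q P
  have hKP : K ≤ (P : Subgroup G) := by
    intro y hy
    have hy' : g⁻¹ * y * g ∈ K := by
      have := hKn.conj_mem y hy g⁻¹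
      simpa using this
    have h1 : g * (g⁻¹ * y * g) * g⁻¹ ∈ (P : Subgroup G) := by
      rw [← hg]
      exact ⟨g⁻¹ * y * g, hQ hy', rfl⟩
    have h2 : g * (g⁻¹ * y * g) * g⁻¹ = y := by group
    rwa [h2] at h1
  have hPK : (P : Subgroup G) ≤ K := by
    rw [hPx, Subgroup.zpowers_le]
    exact hxK
  have : K = (P : Subgroup G) := le_antisymm hKP hPK
  rw [← this]
  exact hKn

end REDUC

theorem nontrivial_sub_or_quot {k : Type*} [Field k] {G : Type*} [Group G] [Finite G] (p : ℕ)
    [Fact p.Prime] [CharP k p] (P : Sylow p G) {x : G}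
    (hPx : (P : Subgroup G) = Subgroup.zpowers x) (hnn : ¬ (P : Subgroup G).Normal)
    {V : Type*} [AddCommGroup V] [Module k V] (σ : Representation k G V)
    (hker : ∀ g : G, σ g = 1 → ¬ p ∣ orderOf g → g = 1) (R : Submodule k V)
    (hR : ∀ g : G, ∀ v ∈ R, σ g v ∈ R) (hR' : ∀ g : G, R ≤ R.comap (σ g)) :
    subR σ R hR x ≠ 1 ∨ σ.quotient R hR' x ≠ 1 := by
  have hp : p.Prime := Fact.out
  by_contra hcon
  push Not at hcon
  obtain ⟨hx1, hx2⟩ := hcon
  -- the normal subgroup
  let K : Subgroup G := MonoidHom.ker (subR σ R hR) ⊓ MonoidHom.ker (σ.quotient R hR')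
  have hKn : K.Normal := inferInstance
  have hxK : x ∈ K := ⟨MonoidHom.mem_ker.mpr hx1, MonoidHom.mem_ker.mpr hx2⟩
  apply hnn
  refine REDUC.normal_of_pker p P hPx K ?_ hxK
  intro g hg hgp
  obtain ⟨hg1, hg2⟩ := hg
  have hg1' : subR σ R hR g = 1 := MonoidHom.mem_ker.mp hg1
  have hg2' : σ.quotient R hR' g = 1 := MonoidHom.mem_ker.mp hg2
  -- `σ g - 1` maps into `R` and kills `R`
  have hin : ∀ v, (σ g - 1) v ∈ R := by
    intro v
    have h := LinearMap.congr_fun hg2' (Submodule.Quotient.mk v)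
    rw [Module.End.one_apply] at h
    have h' : (Submodule.Quotient.mk (σ g v) : V ⧸ R) = Submodule.Quotient.mk v := h
    rw [LinearMap.sub_apply, Module.End.one_apply]
    exact (Submodule.Quotient.eq R).mp h'
  have hkill : ∀ v ∈ R, (σ g - 1) v = 0 := by
    intro v hv
    have h := LinearMap.congr_fun hg1' ⟨v, hv⟩
    have h' := congrArg (fun w : R => (w : V)) h
    simp only [subR_coe, Module.End.one_apply] at h'
    rw [LinearMap.sub_apply, Module.End.one_apply, h', sub_self]
  have hsq : (σ g - 1) ^ 2 = 0 := by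
    apply LinearMap.ext
    intro v
    rw [pow_two, Module.End.mul_apply, LinearMap.zero_apply]
    exact hkill _ (hin v)
  have hgp1 : σ (g ^ p) = 1 := by
    rw [map_pow]
    have key : ∀ m : ℕ, (σ g) ^ m = 1 + (m : k) • (σ g - 1) := by
      intro m
      induction m with
      | zero => simp
      | succ m ih =>
        have h1 : σ g = 1 + (σ g - 1) := by abel
        have hsq' : (σ g - 1) * (σ g - 1) = 0 := by rw [← pow_two]; exact hsq
        rw [pow_succ, ih]
        nth_rewrite 2 [h1]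
        rw [add_mul, mul_add, mul_add, one_mul, one_mul, mul_one, smul_mul_assoc, hsq', smul_zero,
          add_zero, Nat.cast_succ, add_smul, one_smul]
        abel
    rw [key p, CharP.cast_eq_zero k p, zero_smul, add_zero]
  have hreg : ¬ p ∣ orderOf (g ^ p) := by
    intro h
    exact hgp (h.trans (orderOf_pow_dvd p))
  have hgp' : g ^ p = 1 := hker _ hgp1 hreg
  have hdvd : orderOf g ∣ p := orderOf_dvd_of_pow_eq_one hgp'
  rcases (Nat.dvd_prime hp).mp hdvd with h | h
  · exact orderOf_eq_one_iff.mp h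
  · exact absurd (h ▸ dvd_rfl) hgp
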