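import Mathlib
import Cfsg.Prelude.Def_Characters

set_option autoImplicit false

/-!
# Frobenius–Schur theory via invariant bilinear forms (matrix version)

For a representation `ρ` of `G` on `Fin n → ℂ` with matrices `X g`, the group acts on
`n × n` matrices (bilinear forms) by `M ↦ X(g⁻¹)ᵀ M X(g⁻¹)`.  The invariants are the
`M` with `X(g)ᵀ M X(g) = M` for all `g`.
-/

namespace Cfsg.Agent.Helper5.FrobSchur

open Matrix

section Trace

theorem stdBasis_repr {m n : Type*} [Fintype m] [Fintype n] [DecidableEq m] [DecidableEq n]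
    (X : Matrix m n ℂ) (i : m) (j : n) :
    (Matrix.stdBasis ℂ m n).repr X (i, j) = X i j := by
  simp [Matrix.stdBasis]

/-- Trace of a linear endomorphism of a matrix space via matrix units. -/
theorem trace_eq_sum_single {n : Type*} [Fintype n] [DecidableEq n]
    (f : Matrix n n ℂ →ₗ[ℂ] Matrix n n ℂ) :
    LinearMap.trace ℂ _ f = ∑ i, ∑ j, f (Matrix.single i j 1) i j := by
  rw [LinearMap.trace_eq_matrix_trace ℂ (Matrix.stdBasis ℂ n n) f, Matrix.trace,
    Fintype.sum_prod_type]
  refine Finset.sum_congr rfl fun i _ => Finset.sum_congr rfl fun j _ => ?_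
  rw [Matrix.diag_apply, LinearMap.toMatrix_apply, stdBasis_repr, Matrix.stdBasis_eq_single]

theorem mul_single_mul_apply {n : Type*} [Fintype n] [DecidableEq n] (B A : Matrix n n ℂ)
    (i j k l : n) : (B * Matrix.single i j (1 : ℂ) * A) k l = B k i * A j l := by
  rw [Matrix.mul_apply]
  rw [Finset.sum_eq_single j]
  · rw [Matrix.mul_single_apply_same, mul_one]
  · intro b _ hb
    rw [Matrix.mul_single_apply_of_ne (c := (1 : ℂ)) i j k b hb B, zero_mul]
  · intro h; exact absurd (Finset.mem_univ _) h

end Trace

variable {G : Type*} [Group G] {n : ℕ} (ρ : Representation ℂ G (Fin n → ℂ))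

/-- The matrix of `ρ g`. -/
noncomputable def mat (g : G) : Matrix (Fin n) (Fin n) ℂ := LinearMap.toMatrix' (ρ g)

theorem mat_mul (g h : G) : mat ρ (g * h) = mat ρ g * mat ρ h := by
  rw [mat, map_mul, LinearMap.toMatrix'_mul]
  rfl

theorem mat_one : mat ρ 1 = 1 := by
  rw [mat, map_one, LinearMap.toMatrix'_one]

theorem mat_inv_mul (g : G) : mat ρ g⁻¹ * mat ρ g = 1 := by
  rw [← mat_mul, inv_mul_cancel, mat_one]

theorem mat_mul_inv (g : G) : mat ρ g * mat ρ g⁻¹ = 1 := by
  rw [← mat_mul, mul_inv_cancel, mat_one]

theorem trace_mat (g : G) : (mat ρ g).trace = ρ.character g := by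
  rw [mat, Representation.character,
    LinearMap.trace_eq_matrix_trace ℂ (Pi.basisFun ℂ (Fin n)) (ρ g),
    LinearMap.toMatrix_eq_toMatrix']

theorem mat_mulVec (g : G) (v : Fin n → ℂ) : mat ρ g *ᵥ v = ρ g v :=
  LinearMap.toMatrix'_mulVec (ρ g) v

/-- The representation of `G` on bilinear forms. -/
noncomputable def formRep : Representation ℂ G (Matrix (Fin n) (Fin n) ℂ) where
  toFun g :=
    { toFun := fun M => (mat ρ g⁻¹)ᵀ * M * mat ρ g⁻¹
      map_add' := fun M N => by rw [Matrix.mul_add, Matrix.add_mul]
      map_smul' := fun c M => by simp }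
  map_one' := by
    apply LinearMap.ext
    intro M
    simp [mat_one]
  map_mul' g h := by
    apply LinearMap.ext
    intro M
    simp only [LinearMap.coe_mk, AddHom.coe_mk, Module.End.mul_apply, _root_.mul_inv_rev, mat_mul,
      Matrix.transpose_mul, Matrix.mul_assoc]

theorem formRep_apply (g : G) (M : Matrix (Fin n) (Fin n) ℂ) :
    formRep ρ g M = (mat ρ g⁻¹)ᵀ * M * mat ρ g⁻¹ := rfl

theorem mem_invariants_formRep (M : Matrix (Fin n) (Fin n) ℂ) :
    M ∈ Representation.invariants (formRep ρ) ↔ ∀ g : G, (mat ρ g)ᵀ * M * mat ρ g = M := by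
  rw [Representation.mem_invariants]
  constructor
  · intro h g
    have := h g⁻¹
    rwa [formRep_apply, inv_inv] at this
  · intro h g
    rw [formRep_apply]
    exact h g⁻¹

theorem trace_formRep (g : G) :
    LinearMap.trace ℂ _ (formRep ρ g) = ρ.character g⁻¹ * ρ.character g⁻¹ := by
  rw [trace_eq_sum_single]
  simp_rw [formRep_apply, mul_single_mul_apply, Matrix.transpose_apply]
  rw [← trace_mat, Matrix.trace, Finset.sum_mul_sum]
  rfl

/-- Transposition as a linear map. -/
noncomputable def transposeLin : Matrix (Fin n) (Fin n) ℂ →ₗ[ℂ] Matrix (Fin n) (Fin n) ℂ :=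
  (Matrix.transposeLinearEquiv (Fin n) (Fin n) ℂ ℂ).toLinearMap

@[simp] theorem transposeLin_apply (M : Matrix (Fin n) (Fin n) ℂ) :
    transposeLin M = Mᵀ := rfl

theorem trace_transposeLin_comp_formRep (g : G) :
    LinearMap.trace ℂ _ (transposeLin ∘ₗ formRep ρ g) = ρ.character (g⁻¹ * g⁻¹) := by
  rw [trace_eq_sum_single]
  simp_rw [LinearMap.comp_apply, transposeLin_apply, Matrix.transpose_apply, formRep_apply,
    mul_single_mul_apply, Matrix.transpose_apply]
  rw [← trace_mat, mat_mul, Matrix.trace]
  simp_rw [Matrix.diag_apply, Matrix.mul_apply]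

theorem transposeLin_formRep (g : G) (M : Matrix (Fin n) (Fin n) ℂ) :
    transposeLin (formRep ρ g M) = formRep ρ g (transposeLin M) := by
  simp only [transposeLin_apply, formRep_apply, Matrix.transpose_mul, Matrix.transpose_transpose,
    Matrix.mul_assoc]

theorem transpose_mem_invariants {M : Matrix (Fin n) (Fin n) ℂ}
    (hM : M ∈ Representation.invariants (formRep ρ)) :
    Mᵀ ∈ Representation.invariants (formRep ρ) := by
  rw [Representation.mem_invariants] at hM ⊢
  intro g
  have := transposeLin_formRep ρ g M
  rw [hM g] at this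
  exact this.symm

section Finite

variable [Fintype G]

/-- The Frobenius–Schur indicator of `ρ`. -/
noncomputable def indicator : ℂ := (Nat.card G : ℂ)⁻¹ * ∑ s : G, ρ.character (s * s)

theorem card_ne_zero' : (Nat.card G : ℂ) ≠ 0 := by
  have : 0 < Nat.card G := Nat.card_pos
  exact_mod_cast this.ne'

theorem averageMap_eq {V : Type*} [AddCommGroup V] [Module ℂ V] (σ : Representation ℂ G V)
    [Invertible (Fintype.card G : ℂ)] :
    Representation.averageMap σ = (Nat.card G : ℂ)⁻¹ • ∑ g : G, σ g := by
  rw [Representation.averageMap, GroupAlgebra.average, map_smul, map_sum]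
  simp_rw [Representation.asAlgebraHom_of]
  rw [invOf_eq_inv, Nat.card_eq_fintype_card]

theorem trace_transposeLin_comp_averageMap [Invertible (Fintype.card G : ℂ)] :
    LinearMap.trace ℂ _ (transposeLin ∘ₗ Representation.averageMap (formRep ρ)) =
      indicator ρ := by
  have hsum : (transposeLin ∘ₗ ∑ g : G, formRep ρ g) = ∑ g : G, transposeLin ∘ₗ formRep ρ g := by
    apply LinearMap.ext
    intro W
    simp only [LinearMap.comp_apply, LinearMap.sum_apply, map_sum]
  rw [averageMap_eq, LinearMap.comp_smul, map_smul, hsum, map_sum]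
  simp_rw [trace_transposeLin_comp_formRep]
  rw [indicator, smul_eq_mul]
  congr 1
  rw [← Equiv.sum_comp (Equiv.inv G)]
  simp

/-- The dimension of the space of invariant forms is the average of `χ(g)²`. -/
theorem finrank_invariants_formRep :
    (Module.finrank ℂ (Representation.invariants (formRep ρ)) : ℂ) =
      (Nat.card G : ℂ)⁻¹ * ∑ g : G, ρ.character g * ρ.character g := by
  have : Invertible (Nat.card G : ℂ) := invertibleOfNonzero card_ne_zero'
  rw [← Representation.card_inv_mul_sum_char_eq_finrank (formRep ρ)]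
  congr 1
  rw [← Equiv.sum_comp (Equiv.inv G)]
  refine Finset.sum_congr rfl fun g _ => ?_
  rw [Representation.character, trace_formRep]
  simp

/-- If the invariant forms are at most one-dimensional, transposition acts on them by the
indicator. -/
theorem transpose_eq_indicator_smul
    (h : Module.finrank ℂ (Representation.invariants (formRep ρ)) ≤ 1)
    {M : Matrix (Fin n) (Fin n) ℂ} (hM : M ∈ Representation.invariants (formRep ρ)) :
    Mᵀ = indicator ρ • M := by
  have hcard : (Fintype.card G : ℂ) ≠ 0 := by
    exact_mod_cast Fintype.card_ne_zero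
  have : Invertible (Fintype.card G : ℂ) := invertibleOfNonzero hcard
  have hproj := Representation.isProj_averageMap (formRep ρ)
  rcases Nat.lt_or_ge (Module.finrank ℂ (Representation.invariants (formRep ρ))) 1 with h0 | h1
  · -- zero-dimensional
    have h0' : Module.finrank ℂ (Representation.invariants (formRep ρ)) = 0 := by omega
    rw [Submodule.finrank_eq_zero] at h0'
    rw [h0', Submodule.mem_bot] at hM
    rw [hM]
    simp
  · have h1' : Module.finrank ℂ (Representation.invariants (formRep ρ)) = 1 := by omega
    obtain ⟨v, hv0, hv⟩ := finrank_eq_one_iff'.mp h1'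
    obtain ⟨c, hc⟩ := hv ⟨(v : Matrix (Fin n) (Fin n) ℂ)ᵀ, transpose_mem_invariants ρ v.2⟩
    have hc' : (v : Matrix (Fin n) (Fin n) ℂ)ᵀ = c • (v : Matrix (Fin n) (Fin n) ℂ) := by
      have := congrArg Subtype.val hc
      simpa using this.symm
    have claim : ∀ W ∈ Representation.invariants (formRep ρ), Wᵀ = c • W := by
      intro W hW
      obtain ⟨a, ha⟩ := hv ⟨W, hW⟩
      have ha' : W = a • (v : Matrix (Fin n) (Fin n) ℂ) := by
        have := congrArg Subtype.val ha
        simpa using this.symm
      rw [ha', Matrix.transpose_smul, hc', smul_comm]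
    have hcomp : transposeLin ∘ₗ Representation.averageMap (formRep ρ) =
        c • Representation.averageMap (formRep ρ) := by
      apply LinearMap.ext
      intro W
      rw [LinearMap.comp_apply, transposeLin_apply, LinearMap.smul_apply]
      exact claim _ (hproj.map_mem W)
    have htr := trace_transposeLin_comp_averageMap ρ
    rw [hcomp, map_smul, hproj.trace, h1', smul_eq_mul, Nat.cast_one, mul_one] at htr
    rw [← htr]
    exact claim M hM

/-- If there are no invariant forms, the indicator vanishes. -/
theorem indicator_eq_zero_of_finrank_eq_zero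
    (h : Module.finrank ℂ (Representation.invariants (formRep ρ)) = 0) :
    indicator ρ = 0 := by
  have hcard : (Fintype.card G : ℂ) ≠ 0 := by
    exact_mod_cast Fintype.card_ne_zero
  have : Invertible (Fintype.card G : ℂ) := invertibleOfNonzero hcard
  have hproj := Representation.isProj_averageMap (formRep ρ)
  rw [Submodule.finrank_eq_zero] at h
  have hP : Representation.averageMap (formRep ρ) = 0 := by
    apply LinearMap.ext
    intro W
    have := hproj.map_mem W
    rw [h, Submodule.mem_bot] at this
    rw [this]
    rfl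
  rw [← trace_transposeLin_comp_averageMap ρ, hP, LinearMap.comp_zero, map_zero]

/-- If the invariant forms are one-dimensional, the indicator is `±1`. -/
theorem indicator_sq_of_finrank_eq_one
    (h : Module.finrank ℂ (Representation.invariants (formRep ρ)) = 1) :
    indicator ρ = 1 ∨ indicator ρ = -1 := by
  obtain ⟨v, hv0, hv⟩ := finrank_eq_one_iff'.mp h
  have h1 := transpose_eq_indicator_smul ρ h.le v.2
  have h2 := transpose_eq_indicator_smul ρ h.le (transpose_mem_invariants ρ v.2)
  rw [Matrix.transpose_transpose, h1, smul_smul] at h2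
  have hv0' : (v : Matrix (Fin n) (Fin n) ℂ) ≠ 0 := fun h => hv0 (Subtype.ext h)
  have h3 : (indicator ρ * indicator ρ - 1) • (v : Matrix (Fin n) (Fin n) ℂ) = 0 := by
    rw [sub_smul, one_smul, ← h2, sub_self]
  rcases smul_eq_zero.mp h3 with h4 | h4
  · have : (indicator ρ - 1) * (indicator ρ + 1) = 0 := by linear_combination h4
    rcases mul_eq_zero.mp this with h5 | h5
    · left; linear_combination h5
    · right; linear_combination h5
  · exact absurd h4 hv0'

end Finite

end Cfsg.Agent.Helper5.FrobSchur
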