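import Mathlib
import Cfsg.Prelude.Def_Characters
import Cfsg.Agent.Helper5.FrobSchur
import Cfsg.Agent.Helper24.Orthogonality
import Cfsg.Agent.Helper24.Rep

set_option autoImplicit false

/-!
# Frobenius–Schur indicator of an irreducible representation on `Fin n → ℂ`
-/

namespace Cfsg.Agent.Helper5.FrobSchur

open Matrix Cfsg Cfsg.Agent.Helper24

variable {G : Type*} [Group G] [Fintype G] {n : ℕ} (ρ : Representation ℂ G (Fin n → ℂ))

theorem classInner_character_self [ρ.IsIrreducible] :
    classInner ρ.character ρ.character = 1 := by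
  classical
  have h : IsIrrCharacter G ρ.character := ⟨n, ρ, inferInstance, rfl⟩
  rw [classInner_of_isIrrCharacter h h, if_pos rfl]

/-- `dim (invariant forms) = 1 - (2/|G|) Σ (Im χ(g))²`. -/
theorem finrank_invariants_eq [ρ.IsIrreducible] :
    (Module.finrank ℂ (Representation.invariants (formRep ρ)) : ℝ) =
      1 - 2 * ((Nat.card G : ℝ)⁻¹ * ∑ g : G, (ρ.character g).im ^ 2) := by
  have h1 := finrank_invariants_formRep ρ
  have h2 := classInner_character_self ρ
  rw [classInner] at h2
  have h1' := congrArg Complex.re h1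
  have h2' := congrArg Complex.re h2
  have hinv : ((Nat.card G : ℂ)⁻¹) = (((Nat.card G : ℝ)⁻¹ : ℝ) : ℂ) := by
    push_cast; rfl
  rw [hinv, Complex.re_ofReal_mul, Complex.re_sum] at h1' h2'
  rw [Complex.natCast_re] at h1'
  rw [Complex.one_re] at h2'
  have e1 : ∀ g : G, (ρ.character g * ρ.character g).re =
      (ρ.character g).re ^ 2 - (ρ.character g).im ^ 2 := by
    intro g; rw [Complex.mul_re]; ring
  have e2 : ∀ g : G, (ρ.character g * (starRingEnd ℂ) (ρ.character g)).re =
      (ρ.character g).re ^ 2 + (ρ.character g).im ^ 2 := by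
    intro g; rw [Complex.mul_re, Complex.conj_re, Complex.conj_im]; ring
  simp_rw [e1] at h1'
  simp_rw [e2] at h2'
  rw [Finset.sum_sub_distrib, mul_sub] at h1'
  rw [Finset.sum_add_distrib, mul_add] at h2'
  rw [h1']
  linarith

theorem finrank_invariants_le_one [ρ.IsIrreducible] :
    Module.finrank ℂ (Representation.invariants (formRep ρ)) ≤ 1 := by
  have h := finrank_invariants_eq ρ
  have hnn : 0 ≤ (Nat.card G : ℝ)⁻¹ * ∑ g : G, (ρ.character g).im ^ 2 := by
    apply mul_nonneg
    · positivity
    · exact Finset.sum_nonneg fun g _ => sq_nonneg _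
  have : (Module.finrank ℂ (Representation.invariants (formRep ρ)) : ℝ) ≤ 1 := by
    rw [h]; linarith
  exact_mod_cast this

theorem finrank_invariants_eq_one_iff [ρ.IsIrreducible] :
    Module.finrank ℂ (Representation.invariants (formRep ρ)) = 1 ↔
      ∀ g : G, (ρ.character g).im = 0 := by
  have h := finrank_invariants_eq ρ
  have hcard : (0 : ℝ) < (Nat.card G : ℝ) := by
    have : 0 < Nat.card G := Nat.card_pos
    exact_mod_cast this
  constructor
  · intro h1 g
    rw [h1] at h
    have hz : (Nat.card G : ℝ)⁻¹ * ∑ g : G, (ρ.character g).im ^ 2 = 0 := by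
      push_cast at h; linarith
    have hz' : ∑ g : G, (ρ.character g).im ^ 2 = 0 := by
      rcases mul_eq_zero.mp hz with h3 | h3
      · exact absurd h3 (inv_ne_zero hcard.ne')
      · exact h3
    have := (Finset.sum_eq_zero_iff_of_nonneg (fun g _ => sq_nonneg _)).mp hz' g (Finset.mem_univ g)
    exact pow_eq_zero_iff (two_ne_zero) |>.mp this
  · intro hreal
    have : ∑ g : G, (ρ.character g).im ^ 2 = 0 := by
      apply Finset.sum_eq_zero
      intro g _
      rw [hreal g]; ring
    rw [this, mul_zero, mul_zero, sub_zero] at h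
    exact_mod_cast h

/-- The trichotomy for the Frobenius–Schur indicator. -/
theorem indicator_trichotomy [ρ.IsIrreducible] :
    (indicator ρ = 0 ∨ indicator ρ = 1 ∨ indicator ρ = -1) ∧
      (indicator ρ = 0 ↔ ∃ s : G, (ρ.character s).im ≠ 0) := by
  by_cases hreal : ∀ g : G, (ρ.character g).im = 0
  · have h1 := (finrank_invariants_eq_one_iff ρ).mpr hreal
    have h2 := indicator_sq_of_finrank_eq_one ρ h1
    refine ⟨Or.inr h2, ?_⟩
    constructor
    · intro h0
      rcases h2 with h | h <;> rw [h] at h0 <;> norm_num at h0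
    · rintro ⟨s, hs⟩
      exact absurd (hreal s) hs
  · have h1 : Module.finrank ℂ (Representation.invariants (formRep ρ)) ≠ 1 :=
      fun h => hreal ((finrank_invariants_eq_one_iff ρ).mp h)
    have h2 := finrank_invariants_le_one ρ
    have h3 : Module.finrank ℂ (Representation.invariants (formRep ρ)) = 0 := by omega
    have h4 := indicator_eq_zero_of_finrank_eq_zero ρ h3
    refine ⟨Or.inl h4, ?_⟩
    constructor
    · intro _
      push Not at hreal
      exact hreal
    · intro _
      exact h4

omit [Fintype G] in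
/-- A nonzero invariant form of an irreducible representation is nondegenerate. -/
theorem det_ne_zero_of_mem_invariants [ρ.IsIrreducible] {M : Matrix (Fin n) (Fin n) ℂ}
    (hM : M ∈ Representation.invariants (formRep ρ)) (hM0 : M ≠ 0) : M.det ≠ 0 := by
  rw [mem_invariants_formRep] at hM
  -- the kernel of `M` is a subrepresentation
  let K : Subrepresentation ρ :=
    { toSubmodule := LinearMap.ker (Matrix.toLin' M)
      apply_mem_toSubmodule := by
        intro g v hv
        rw [LinearMap.mem_ker, Matrix.toLin'_apply] at hv ⊢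
        rw [← mat_mulVec, Matrix.mulVec_mulVec]
        have h1 : M * mat ρ g = (mat ρ g⁻¹)ᵀ * M := by
          have h2 := hM g
          calc M * mat ρ g = ((mat ρ g⁻¹)ᵀ * (mat ρ g)ᵀ) * (M * mat ρ g) := by
                rw [← Matrix.transpose_mul, mat_mul_inv, Matrix.transpose_one, Matrix.one_mul]
            _ = (mat ρ g⁻¹)ᵀ * ((mat ρ g)ᵀ * M * mat ρ g) := by
                simp only [Matrix.mul_assoc]
            _ = (mat ρ g⁻¹)ᵀ * M := by rw [h2]
        rw [h1, ← Matrix.mulVec_mulVec, hv, Matrix.mulVec_zero] }
  rcases eq_bot_or_eq_top K with hK | hK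
  · -- injective
    have hker : LinearMap.ker (Matrix.toLin' M) = ⊥ := by
      have := congrArg Subrepresentation.toSubmodule hK
      exact this
    have hinj : Function.Injective (Matrix.toLin' M) := LinearMap.ker_eq_bot.mp hker
    have hunit : IsUnit M := by
      rw [← Matrix.mulVec_injective_iff_isUnit]
      intro v w hvw
      apply hinj
      rw [Matrix.toLin'_apply, Matrix.toLin'_apply]
      exact hvw
    exact ((Matrix.isUnit_iff_isUnit_det M).mp hunit).ne_zero
  · exfalso
    apply hM0
    have hker : LinearMap.ker (Matrix.toLin' M) = ⊤ := by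
      have := congrArg Subrepresentation.toSubmodule hK
      exact this
    have h0 : Matrix.toLin' M = 0 := LinearMap.ker_eq_top.mp hker
    have := congrArg LinearMap.toMatrix' h0
    rwa [LinearMap.toMatrix'_toLin', map_zero] at this

/-- A real-valued irreducible character of odd degree has indicator `1`. -/
theorem indicator_eq_one_of_odd [ρ.IsIrreducible] (hreal : ∀ g : G, (ρ.character g).im = 0)
    (hodd : Odd n) : indicator ρ = 1 := by
  have h1 := (finrank_invariants_eq_one_iff ρ).mpr hreal
  rcases indicator_sq_of_finrank_eq_one ρ h1 with h | h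
  · exact h
  · exfalso
    obtain ⟨v, hv0, -⟩ := finrank_eq_one_iff'.mp h1
    have hv0' : (v : Matrix (Fin n) (Fin n) ℂ) ≠ 0 := fun h => hv0 (Subtype.ext h)
    have hT := transpose_eq_indicator_smul ρ h1.le v.2
    rw [h] at hT
    have hdet := det_ne_zero_of_mem_invariants ρ v.2 hv0'
    have h2 := congrArg Matrix.det hT
    rw [Matrix.det_transpose, Matrix.det_smul, Fintype.card_fin, hodd.neg_one_pow] at h2
    apply hdet
    linear_combination (1/2 : ℂ) * h2

end Cfsg.Agent.Helper5.FrobSchur
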