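import Mathlib
import Cfsg.Prelude.Def_HallClasses
import Cfsg.Prelude.Def_OddOrderLocal

set_option autoImplicit false

/-! S2534 + S2535 + S2536 + S2538 (Hall subgroups of the symmetric and alternating groups; driver helper5):
shared definitions. -/

namespace Cfsg.Agent.S2536P

open Equiv

/-- `m` is a `π`-number -/
def PiNum (π : Set ℕ) (m : ℕ) : Prop := ∀ p : ℕ, p.Prime → p ∣ m → p ∈ π

/-- `m` is a `π'`-number -/
def PiPrime (π : Set ℕ) (m : ℕ) : Prop := ∀ p : ℕ, p.Prime → p ∈ π → ¬ p ∣ m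

/-- all primes `≤ n` lie in `π` -/
def AllLE (π : Set ℕ) (n : ℕ) : Prop := ∀ r : ℕ, r.Prime → r ≤ n → r ∈ π

/-- `s` is the only prime of `π` that is `≤ n` (if any) -/
def OnlyLE (π : Set ℕ) (n s : ℕ) : Prop := ∀ r : ℕ, r.Prime → r ≤ n → r ∈ π → r = s

/-- the primes of `π` that are `≤ n` are exactly `2` and `3` -/
def Is23 (π : Set ℕ) (n : ℕ) : Prop := ∀ r : ℕ, r.Prime → r ≤ n → (r ∈ π ↔ (r = 2 ∨ r = 3))

/-- at least two primes `≤ n` lie in `π` -/
def Two (π : Set ℕ) (n : ℕ) : Prop :=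
  ∃ r s : ℕ, r.Prime ∧ s.Prime ∧ r ≠ s ∧ r ∈ π ∧ s ∈ π ∧ r ≤ n ∧ s ≤ n

/-- some prime `≤ n` is not in `π` -/
def NotAll (π : Set ℕ) (n : ℕ) : Prop := ∃ r : ℕ, r.Prime ∧ r ≤ n ∧ r ∉ π

/-- the degrees and prime sets of the TRANSITIVE Hall subgroups of symmetric groups:
degree `≤ 1`; a Sylow `s`-subgroup in degree `s ^ k`; the whole group; `S₄ ≀ S₂` in degree `8` -/
def TType (π : Set ℕ) (n : ℕ) : Prop :=
  n ≤ 1 ∨ (∃ s k : ℕ, s.Prime ∧ s ∈ π ∧ n = s ^ k ∧ OnlyLE π n s) ∨ (2 ≤ n ∧ AllLE π n) ∨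
    (n = 8 ∧ Is23 π 8)

/-- the degrees and prime sets of the PRIMITIVE Hall subgroups of symmetric groups -/
def PType (π : Set ℕ) (n : ℕ) : Prop :=
  n ≤ 1 ∨ (n.Prime ∧ n ∈ π ∧ OnlyLE π n n) ∨ AllLE π n

/-- the conclusion of the Hall--Thompson theorem -/
def Concl (π : Set ℕ) (n : ℕ) : Prop :=
  (n.Prime ∧ ∀ r : ℕ, r.Prime → r ≤ n → (r ∈ π ↔ r < n)) ∨ ((n = 7 ∨ n = 8) ∧ Is23 π n)

/-- arithmetic data of the orbits of a Hall subgroup: the orbit sizes, each of a transitive type, with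
`π'` multinomial coefficient -/
def OrbitData (π : Set ℕ) (n : ℕ) (sizes : Multiset ℕ) : Prop :=
  sizes.sum = n ∧ (∀ m ∈ sizes, 1 ≤ m ∧ TType π m) ∧
    ∃ c : ℕ, n.factorial = c * (sizes.map Nat.factorial).prod ∧ PiPrime π c

/-- the refined conclusion of the Hall--Thompson theorem, with the orbit sizes -/
def ConclS (π : Set ℕ) (n : ℕ) (sizes : Multiset ℕ) : Prop :=
  (n.Prime ∧ (∀ r : ℕ, r.Prime → r ≤ n → (r ∈ π ↔ r < n)) ∧ sizes = {n - 1, 1}) ∨
    (n = 7 ∧ Is23 π 7 ∧ sizes = {4, 3}) ∨ (n = 8 ∧ Is23 π 8 ∧ sizes = {8})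

theorem ConclS.concl {π : Set ℕ} {n : ℕ} {sizes : Multiset ℕ} (h : ConclS π n sizes) :
    Concl π n := by
  rcases h with ⟨h1, h2, -⟩ | ⟨h1, h2, -⟩ | ⟨h1, h2, -⟩
  · exact Or.inl ⟨h1, h2⟩
  · exact Or.inr ⟨Or.inl h1, h1 ▸ h2⟩
  · exact Or.inr ⟨Or.inr h1, h1 ▸ h2⟩

/-- the index of `S_a ≀ S_b` in `S_{ab}`, i.e. `(ab)! / (a! ^ b * b!)` -/
def wnum (a b : ℕ) : ℕ := ∏ i ∈ Finset.range b, (a * (i + 1) - 1).choose (a - 1)

section Res

variable {α : Type*}

/-- `H` leaves the predicate `p` invariant -/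
def Inv (p : α → Prop) (H : Subgroup (Perm α)) : Prop := ∀ g ∈ H, ∀ x, p (g x) ↔ p x

/-- restriction of a subgroup of `Perm α` to an invariant subtype -/
def resHom (p : α → Prop) (H : Subgroup (Perm α)) (hp : Inv p H) : H →* Perm {x // p x} where
  toFun g := (g : Perm α).subtypePerm (hp g g.2)
  map_one' := by
    ext x
    simp
  map_mul' g h := by
    ext x
    rfl

/-- the group induced by `H` on an invariant subtype -/
def resGroup (p : α → Prop) (H : Subgroup (Perm α)) (hp : Inv p H) : Subgroup (Perm {x // p x}) :=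
  (resHom p H hp).range

theorem inv_not {p : α → Prop} {H : Subgroup (Perm α)} (hp : Inv p H) : Inv (fun x => ¬ p x) H :=
  fun g hg x => not_congr (hp g hg x)

/-- the setwise stabilizer of a predicate -/
def setStab (p : α → Prop) : Subgroup (Perm α) where
  carrier := {g | ∀ x, p (g x) ↔ p x}
  one_mem' := fun x => Iff.rfl
  mul_mem' := by
    intro g h hg hh x
    rw [Perm.mul_apply, hg, hh]
  inv_mem' := by
    intro g hg x
    have := hg (g⁻¹ x)
    rw [show g (g⁻¹ x) = x from by simp] at this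
    exact this.symm

theorem inv_setStab (p : α → Prop) : Inv p (setStab p) := fun _ hg => hg

/-- the stabilizer of the bisection `{p, ¬ p}` -/
def biStab (p : α → Prop) : Subgroup (Perm α) where
  carrier := {g | (∀ x, p (g x) ↔ p x) ∨ (∀ x, p (g x) ↔ ¬ p x)}
  one_mem' := Or.inl fun x => Iff.rfl
  mul_mem' := by
    intro g h hg hh
    rcases hg with hg | hg <;> rcases hh with hh | hh
    · left
      intro x
      rw [Perm.mul_apply, hg, hh]
    · right
      intro x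
      rw [Perm.mul_apply, hg, hh]
    · right
      intro x
      rw [Perm.mul_apply, hg, hh]
    · left
      intro x
      rw [Perm.mul_apply, hg, hh, not_not]
  inv_mem' := by
    intro g hg
    rcases hg with hg | hg
    · left
      intro x
      have := hg (g⁻¹ x)
      rw [show g (g⁻¹ x) = x from by simp] at this
      exact this.symm
    · right
      intro x
      have := hg (g⁻¹ x)
      rw [show g (g⁻¹ x) = x from by simp] at this
      rw [this, not_not]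

/-- the stabilizer in `H` of the point `c₀` of an action `ρ` of `H`, as a subgroup of `Perm α` -/
def fiberStab {β : Type*} {H : Subgroup (Perm α)} (ρ : H →* Perm β) (c₀ : β) : Subgroup (Perm α) :=
  ((MulAction.stabilizer (Perm β) c₀).comap ρ).map H.subtype

theorem mem_fiberStab {β : Type*} {H : Subgroup (Perm α)} (ρ : H →* Perm β) (c₀ : β) (g : Perm α) :
    g ∈ fiberStab ρ c₀ ↔ ∃ hg : g ∈ H, ρ ⟨g, hg⟩ c₀ = c₀ := by
  unfold fiberStab
  constructor
  · rintro ⟨h, hh, rfl⟩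
    exact ⟨h.2, hh⟩
  · rintro ⟨hg, h⟩
    exact ⟨⟨g, hg⟩, h, rfl⟩

theorem fiberStab_le {β : Type*} {H : Subgroup (Perm α)} (ρ : H →* Perm β) (c₀ : β) :
    fiberStab ρ c₀ ≤ H := fun g hg => ((mem_fiberStab ρ c₀ g).mp hg).1

/-- the point stabilizer of the quotient action leaves the fibre invariant -/
theorem inv_fiberStab {β : Type*} {H : Subgroup (Perm α)} (f : α → β) (ρ : H →* Perm β)
    (hf : ∀ (h : H) (x : α), f ((h : Perm α) x) = ρ h (f x)) (c₀ : β) :
    Inv (fun x => f x = c₀) (fiberStab ρ c₀) := by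
  intro g hg x
  obtain ⟨hgH, hgc⟩ := (mem_fiberStab ρ c₀ g).mp hg
  have h1 := hf ⟨g, hgH⟩ x
  simp only at h1
  show f (g x) = c₀ ↔ f x = c₀
  constructor
  · intro h
    rw [h1] at h
    have h2 : ρ ⟨g, hgH⟩ (f x) = ρ ⟨g, hgH⟩ c₀ := by rw [h, hgc]
    exact (ρ ⟨g, hgH⟩).injective h2
  · intro h
    rw [h1, h, hgc]

end Res

end Cfsg.Agent.S2536P
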