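import Mathlib
import Cfsg.Agent.Helper5.S2536Defs

set_option autoImplicit false

/-! S2536 project (Hall subgroups of symmetric groups): elementary arithmetic of `π`-numbers and the
order characterisation of Hall subgroups. -/

namespace Cfsg.Agent.S2536P

open Equiv

theorem piNum_one (π : Set ℕ) : PiNum π 1 := by
  intro p hp h
  exact absurd (Nat.dvd_one.mp h) hp.one_lt.ne'

theorem piPrime_one (π : Set ℕ) : PiPrime π 1 := by
  intro p hp _ h
  exact absurd (Nat.dvd_one.mp h) hp.one_lt.ne'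

theorem piNum_of_dvd {π : Set ℕ} {a b : ℕ} (hb : PiNum π b) (h : a ∣ b) : PiNum π a :=
  fun p hp hpa => hb p hp (hpa.trans h)

theorem piPrime_of_dvd {π : Set ℕ} {a b : ℕ} (hb : PiPrime π b) (h : a ∣ b) : PiPrime π a :=
  fun p hp hpπ hpa => hb p hp hpπ (hpa.trans h)

theorem piNum_mul {π : Set ℕ} {a b : ℕ} (ha : PiNum π a) (hb : PiNum π b) : PiNum π (a * b) := by
  intro p hp h
  rcases (Nat.Prime.dvd_mul hp).mp h with h | h
  · exact ha p hp h
  · exact hb p hp h

theorem piPrime_mul {π : Set ℕ} {a b : ℕ} (ha : PiPrime π a) (hb : PiPrime π b) :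
    PiPrime π (a * b) := by
  intro p hp hpπ h
  rcases (Nat.Prime.dvd_mul hp).mp h with h | h
  · exact ha p hp hpπ h
  · exact hb p hp hpπ h

theorem piNum_pow {π : Set ℕ} {a : ℕ} (ha : PiNum π a) (k : ℕ) : PiNum π (a ^ k) := by
  intro p hp h
  exact ha p hp (hp.dvd_of_dvd_pow h)

theorem piPrime_pow {π : Set ℕ} {a : ℕ} (ha : PiPrime π a) (k : ℕ) : PiPrime π (a ^ k) := by
  intro p hp hpπ h
  exact ha p hp hpπ (hp.dvd_of_dvd_pow h)

/-- a `π`-number is coprime to a `π'`-number -/
theorem pi_coprime {π : Set ℕ} {a d : ℕ} (ha : PiNum π a) (hd : PiPrime π d) : Nat.Coprime a d :=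
  Nat.coprime_of_dvd fun p hp hpa hpd => hd p hp (ha p hp hpa) hpd

/-- a `π`-number dividing `c * d` with `d` a `π'`-number divides `c` -/
theorem pi_dvd_of_dvd_mul {π : Set ℕ} {a c d : ℕ} (ha : PiNum π a) (hd : PiPrime π d)
    (h : a ∣ c * d) : a ∣ c :=
  (pi_coprime ha hd).dvd_of_dvd_mul_right h

/-- a number that is both a `π`-number and a `π'`-number is `1` -/
theorem eq_one_of_piNum_of_piPrime {π : Set ℕ} {a : ℕ} (ha : PiNum π a) (ha' : PiPrime π a) :
    a = 1 := by
  have := pi_coprime ha ha'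
  simpa using this

/-- uniqueness of the factorisation into a `π`-number and a `π'`-number -/
theorem hall_unique {π : Set ℕ} {a b c d : ℕ} (ha : PiNum π a) (hb : PiPrime π b)
    (hc : PiNum π c) (hd : PiPrime π d) (h : a * b = c * d) : a = c := by
  have h1 : a ∣ c := pi_dvd_of_dvd_mul ha hd (h ▸ Dvd.intro _ rfl)
  have h2 : c ∣ a := pi_dvd_of_dvd_mul hc hb (h ▸ Dvd.intro _ rfl)
  exact Nat.dvd_antisymm h1 h2

theorem isPiHall_iff {G : Type*} [Group G] (π : Set ℕ) (H : Subgroup G) :
    Cfsg.IsPiHall π H ↔ PiNum π (Nat.card H) ∧ PiPrime π H.index := Iff.rfl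

/-- in a finite group, a `π`-subgroup has order dividing the order of a Hall `π`-subgroup -/
theorem card_dvd_card_of_isPiHall {G : Type*} [Group G] [Finite G] {π : Set ℕ} {H K : Subgroup G}
    (hH : Cfsg.IsPiHall π H) (hK : PiNum π (Nat.card K)) : Nat.card K ∣ Nat.card H := by
  have h1 : Nat.card K ∣ Nat.card H * H.index := by
    rw [Subgroup.card_mul_index]
    exact Subgroup.card_subgroup_dvd_card K
  exact pi_dvd_of_dvd_mul hK hH.2 h1

/-- order criterion for Hall subgroups -/
theorem isPiHall_of_card {G : Type*} [Group G] [Finite G] {π : Set ℕ} {H : Subgroup G} {h i : ℕ}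
    (hG : Nat.card G = h * i) (hh : PiNum π h) (hi : PiPrime π i) (hH : Nat.card H = h) :
    Cfsg.IsPiHall π H := by
  refine ⟨hH ▸ hh, ?_⟩
  have h1 : Nat.card H * H.index = h * i := by rw [Subgroup.card_mul_index, hG]
  rw [hH] at h1
  have hpos : 0 < h := by
    rw [← hH]
    exact Nat.card_pos
  have : H.index = i := Nat.eq_of_mul_eq_mul_left hpos h1
  rw [this]
  exact hi

/-- the order of a Hall subgroup is determined -/
theorem card_eq_of_isPiHall {G : Type*} [Group G] [Finite G] {π : Set ℕ} {H : Subgroup G} {h i : ℕ}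
    (hH : Cfsg.IsPiHall π H) (hG : Nat.card G = h * i) (hh : PiNum π h) (hi : PiPrime π i) :
    Nat.card H = h := by
  refine hall_unique hH.1 hH.2 hh hi ?_
  rw [Subgroup.card_mul_index, hG]

theorem card_perm_nat (α : Type*) [Finite α] : Nat.card (Perm α) = (Nat.card α).factorial := by
  classical
  haveI := Fintype.ofFinite α
  rw [Nat.card_eq_fintype_card, Fintype.card_perm, Nat.card_eq_fintype_card]

/-- a prime dividing the order of a subgroup of `Perm α` is at most `card α` -/
theorem prime_le_of_dvd_card {α : Type*} [Finite α] (H : Subgroup (Perm α)) {p : ℕ} (hp : p.Prime)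
    (h : p ∣ Nat.card H) : p ≤ Nat.card α := by
  have h1 : p ∣ (Nat.card α).factorial := by
    rw [← card_perm_nat]
    exact h.trans (Subgroup.card_subgroup_dvd_card H)
  exact (Nat.Prime.dvd_factorial hp).mp h1

end Cfsg.Agent.S2536P
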