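import Mathlib
import Cfsg.Agent.Helper5.S2536Basic

set_option autoImplicit false

/-! S2536 project, Stage 2 (S2535 + S2538 + S2534): Hall subgroups of the alternating group, seen as
subgroups of `Perm α`; shared definitions and the basic order counting. -/

namespace Cfsg.Agent.S2536P

open Equiv

universe u v

section BaseProd

variable {α : Type u} {β : Type v}

/-- the permutations preserving every fibre of `f` which agree on each fibre with some element of `N`
(`≅ ∏_c N|fibre c` when `N` preserves the fibres) -/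
def baseProd (f : α → β) (N : Subgroup (Perm α)) : Subgroup (Perm α) where
  carrier := {g | (∀ x, f (g x) = f x) ∧ ∀ c : β, ∃ n ∈ N, ∀ x, f x = c → g x = n x}
  one_mem' := ⟨fun _ => rfl, fun _ => ⟨1, N.one_mem, fun _ _ => rfl⟩⟩
  mul_mem' := by
    rintro g g' ⟨hg1, hg2⟩ ⟨hg'1, hg'2⟩
    refine ⟨fun x => by rw [Perm.mul_apply, hg1, hg'1], fun c => ?_⟩
    obtain ⟨n, hn, hgn⟩ := hg2 c
    obtain ⟨n', hn', hgn'⟩ := hg'2 c
    refine ⟨n * n', N.mul_mem hn hn', fun x hx => ?_⟩
    rw [Perm.mul_apply, Perm.mul_apply, ← hgn' x hx]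
    exact hgn (g' x) (by rw [hg'1, hx])
  inv_mem' := by
    rintro g ⟨hg1, hg2⟩
    have hinv : ∀ x, f (g⁻¹ x) = f x := fun x => by
      have := hg1 (g⁻¹ x)
      rw [show g (g⁻¹ x) = x by simp] at this
      exact this.symm
    refine ⟨hinv, fun c => ?_⟩
    obtain ⟨n, hn, hgn⟩ := hg2 c
    refine ⟨n⁻¹, N.inv_mem hn, fun x hx => ?_⟩
    have h1 := hgn (g⁻¹ x) (by rw [hinv, hx])
    rw [show g (g⁻¹ x) = x by simp] at h1
    show g⁻¹ x = n⁻¹ x
    rw [Perm.eq_inv_iff_eq]
    exact h1.symm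

theorem mem_baseProd (f : α → β) (N : Subgroup (Perm α)) (g : Perm α) :
    g ∈ baseProd f N ↔ (∀ x, f (g x) = f x) ∧ ∀ c : β, ∃ n ∈ N, ∀ x, f x = c → g x = n x :=
  Iff.rfl

theorem le_baseProd (f : α → β) (N : Subgroup (Perm α)) (hN : ∀ g ∈ N, ∀ x, f (g x) = f x) :
    N ≤ baseProd f N :=
  fun g hg => ⟨hN g hg, fun _ => ⟨g, hg, fun _ _ => rfl⟩⟩

end BaseProd

section AHall

variable {α : Type u} [Fintype α] [DecidableEq α]

/-- `M ≤ Perm α` is a Hall `π`-subgroup of the alternating group -/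
def AHall (π : Set ℕ) (M : Subgroup (Perm α)) : Prop :=
  M ≤ alternatingGroup α ∧ PiNum π (Nat.card M) ∧
    ∃ i : ℕ, Nat.card (alternatingGroup α) = Nat.card M * i ∧ PiPrime π i

theorem card_subgroupOf_of_le {G : Type*} [Group G] {M A : Subgroup G} (h : M ≤ A) :
    Nat.card (M.subgroupOf A) = Nat.card M :=
  Nat.card_congr (Subgroup.subgroupOfEquivOfLe h).toEquiv

theorem ahall_iff_isPiHall {π : Set ℕ} {M : Subgroup (Perm α)} (hM : M ≤ alternatingGroup α) :
    AHall π M ↔ Cfsg.IsPiHall π (M.subgroupOf (alternatingGroup α)) := by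
  have hc := card_subgroupOf_of_le hM
  constructor
  · rintro ⟨-, h1, i, hi, hiπ⟩
    exact isPiHall_of_card (h := Nat.card M) (i := i) hi h1 hiπ hc
  · rintro ⟨h1, h2⟩
    refine ⟨hM, hc ▸ h1, (M.subgroupOf (alternatingGroup α)).index, ?_, h2⟩
    rw [← hc, Subgroup.card_mul_index]

theorem ahall_map_subtype_iff {π : Set ℕ} (K : Subgroup (alternatingGroup α)) :
    AHall π (K.map (alternatingGroup α).subtype) ↔ Cfsg.IsPiHall π K := by
  have hle : K.map (alternatingGroup α).subtype ≤ alternatingGroup α := by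
    rintro _ ⟨k, -, rfl⟩
    exact k.2
  rw [ahall_iff_isPiHall hle]
  have : (K.map (alternatingGroup α).subtype).subgroupOf (alternatingGroup α) = K := by
    ext k
    simp [Subgroup.mem_subgroupOf]
  rw [this]

theorem two_mul_card_alt (hn : 2 ≤ Fintype.card α) :
    2 * Nat.card (alternatingGroup α) = (Fintype.card α).factorial := by
  have : Nontrivial α := Fintype.one_lt_card_iff_nontrivial.mp (by omega)
  rw [two_mul_nat_card_alternatingGroup, Nat.card_eq_fintype_card, Fintype.card_perm]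

/-- `2 * |M|` is the `π`-part of `n!` -/
theorem AHall.factorial {π : Set ℕ} {M : Subgroup (Perm α)} (hM : AHall π M)
    (hn : 2 ≤ Fintype.card α) :
    ∃ i : ℕ, (Fintype.card α).factorial = 2 * Nat.card M * i ∧ PiPrime π i := by
  obtain ⟨-, -, i, hi, hiπ⟩ := hM
  refine ⟨i, ?_, hiπ⟩
  rw [← two_mul_card_alt hn, hi, mul_assoc]

/-- every `π`-subgroup of `Perm α` has order dividing `2 * |M|` -/
theorem AHall.card_dvd {π : Set ℕ} {M : Subgroup (Perm α)} (hM : AHall π M)
    (hn : 2 ≤ Fintype.card α) {K : Subgroup (Perm α)} (hK : PiNum π (Nat.card K)) :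
    Nat.card K ∣ 2 * Nat.card M := by
  obtain ⟨i, hi, hiπ⟩ := hM.factorial hn
  have h1 : Nat.card K ∣ 2 * Nat.card M * i := by
    rw [← hi, ← Fintype.card_perm, ← Nat.card_eq_fintype_card]
    exact Subgroup.card_subgroup_dvd_card K
  exact pi_dvd_of_dvd_mul hK hiπ h1

/-- an extension of `M` of twice the order is a Hall subgroup of `Perm α` meeting the alternating group
in `M` -/
theorem AHall.isPiHall_of_card_eq {π : Set ℕ} {M : Subgroup (Perm α)} (hM : AHall π M) (h2 : 2 ∈ π)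
    (hn : 2 ≤ Fintype.card α) {M₀ : Subgroup (Perm α)} (hle : M ≤ M₀)
    (hc : Nat.card M₀ = 2 * Nat.card M) :
    Cfsg.IsPiHall π M₀ ∧ M₀ ⊓ alternatingGroup α = M := by
  obtain ⟨i, hi, hiπ⟩ := hM.factorial hn
  have h2M : PiNum π (2 * Nat.card M) := by
    apply piNum_mul _ hM.2.1
    intro p hp hpd
    rw [(Nat.prime_dvd_prime_iff_eq hp Nat.prime_two).mp hpd]
    exact h2
  have hHall : Cfsg.IsPiHall π M₀ :=
    isPiHall_of_card (h := 2 * Nat.card M) (i := i)
      (by rw [Nat.card_eq_fintype_card, Fintype.card_perm, hi]) h2M hiπ hc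
  refine ⟨hHall, ?_⟩
  symm
  apply Subgroup.eq_of_le_of_card_ge (le_inf hle hM.1)
  -- `|M₀ ∩ A|` is a `π`-number dividing `|A| = |M| * i'`
  obtain ⟨-, -, i', hi', hi'π⟩ := hM
  have h3 : PiNum π (Nat.card (M₀ ⊓ alternatingGroup α : Subgroup (Perm α))) :=
    piNum_of_dvd hHall.1 (Subgroup.card_dvd_of_le inf_le_left)
  have h4 : Nat.card (M₀ ⊓ alternatingGroup α : Subgroup (Perm α)) ∣ Nat.card M * i' := by
    rw [← hi']
    exact Subgroup.card_dvd_of_le inf_le_right
  exact Nat.le_of_dvd Nat.card_pos (pi_dvd_of_dvd_mul h3 hi'π h4)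

end AHall

end Cfsg.Agent.S2536P
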