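import Mathlib
import Cfsg.Agent.Helper5.HHTb

/-!
# Irreducible representations of `q`-groups over an algebraically closed field have `q`-power
degree
-/

set_option autoImplicit false

namespace Cfsg.Agent.Helper5.HHT

open Module

universe uK uH uW

section

variable {K : Type uK} [Field K] {W : Type uW} [AddCommGroup W] [Module K W]
variable {H : Type uH} [Group H]

theorem rep_ne_zero [Nontrivial W] (σ : Representation K H W) (h : H) : σ h ≠ 0 := by
  intro h0
  have := rep_mul_inv σ h
  rw [h0, zero_mul] at this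
  exact zero_ne_one this

/-- The elements acting by scalars. -/
def scalarSubgroup [Nontrivial W] (σ : Representation K H W) : Subgroup H where
  carrier := {h | ∃ c : K, σ h = c • 1}
  one_mem' := ⟨1, by simp⟩
  mul_mem' := by
    rintro a b ⟨c, hc⟩ ⟨d, hd⟩
    exact ⟨c * d, by rw [map_mul, hc, hd, smul_mul_smul_comm, mul_one]⟩
  inv_mem' := by
    rintro a ⟨c, hc⟩
    have hc0 : c ≠ 0 := by
      rintro rfl
      rw [zero_smul] at hc
      exact rep_ne_zero σ a hc
    refine ⟨c⁻¹, ?_⟩
    have h1 := rep_inv_mul σ a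
    rw [hc, mul_smul_comm, mul_one] at h1
    rw [← h1, smul_smul, inv_mul_cancel₀ hc0, one_smul]

theorem mem_scalarSubgroup [Nontrivial W] (σ : Representation K H W) (h : H) :
    h ∈ scalarSubgroup σ ↔ ∃ c : K, σ h = c • 1 := Iff.rfl

instance scalarSubgroup_normal [Nontrivial W] (σ : Representation K H W) :
    (scalarSubgroup σ).Normal := ⟨by
  rintro a ⟨c, hc⟩ g
  refine ⟨c, ?_⟩
  rw [map_mul, map_mul, hc, mul_smul_comm, mul_one, smul_mul_assoc, rep_mul_inv]⟩

theorem exists_noncentral [Finite H] (q : ℕ) [Fact q.Prime] (hH : IsPGroup q H) [Nontrivial W]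
    (σ : Representation K H W) (hne : scalarSubgroup σ ≠ ⊤) :
    ∃ t : H, t ∉ scalarSubgroup σ ∧ ∀ h, (h * t)⁻¹ * (t * h) ∈ scalarSubgroup σ := by
  have hnt : Nontrivial (H ⧸ scalarSubgroup σ) := by
    by_contra hcon
    rw [not_nontrivial_iff_subsingleton] at hcon
    exact hne (QuotientGroup.subgroup_eq_top_of_subsingleton _ hcon)
  have hq : IsPGroup q (H ⧸ scalarSubgroup σ) := hH.to_quotient _
  have hcen := hq.center_nontrivial
  obtain ⟨⟨tbar, htbar⟩, hne1⟩ := exists_ne (1 : Subgroup.center (H ⧸ scalarSubgroup σ))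
  obtain ⟨t, rfl⟩ := QuotientGroup.mk_surjective tbar
  refine ⟨t, ?_, ?_⟩
  · intro ht
    apply hne1
    apply Subtype.ext
    exact (QuotientGroup.eq_one_iff t).mpr ht
  · intro h
    rw [← QuotientGroup.eq]
    exact Subgroup.mem_center_iff.mp htbar (h : H ⧸ _)

theorem exists_unit_comm [Nontrivial W] (σ : Representation K H W) (t : H)
    (ht : ∀ h, (h * t)⁻¹ * (t * h) ∈ scalarSubgroup σ) (h : H) :
    ∃ u : Kˣ, σ t * σ h = (u : K) • (σ h * σ t) := by
  obtain ⟨c, hc⟩ := ht h
  have h1 : σ t * σ h = c • (σ h * σ t) := by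
    rw [← map_mul, ← map_mul]
    have h2 : σ (t * h) = σ ((h * t) * ((h * t)⁻¹ * (t * h))) := by
      congr 1
      group
    rw [h2, map_mul, hc, mul_smul_comm, mul_one]
  have hc0 : c ≠ 0 := by
    rintro rfl
    rw [zero_smul, ← map_mul] at h1
    exact rep_ne_zero σ _ h1
  exact ⟨Units.mk0 c hc0, h1⟩

/-- The twisting character attached to an element `t` central modulo scalars. -/
noncomputable def twist [Nontrivial W] (σ : Representation K H W) (t : H)
    (ht : ∀ h, (h * t)⁻¹ * (t * h) ∈ scalarSubgroup σ) : H →* Kˣ :=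
  MonoidHom.mk' (fun h => (exists_unit_comm σ t ht h).choose) (by
    intro g h
    have hg := (exists_unit_comm σ t ht g).choose_spec
    have hh := (exists_unit_comm σ t ht h).choose_spec
    have hgh := (exists_unit_comm σ t ht (g * h)).choose_spec
    set cg := (exists_unit_comm σ t ht g).choose
    set ch := (exists_unit_comm σ t ht h).choose
    set cgh := (exists_unit_comm σ t ht (g * h)).choose
    have h1 : σ t * σ (g * h) = ((cg : K) * (ch : K)) • (σ (g * h) * σ t) := by
      rw [map_mul, ← mul_assoc, hg, smul_mul_assoc, mul_assoc, hh, mul_smul_comm, smul_smul,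
        mul_assoc]
    rw [hgh] at h1
    have hX : σ (g * h) * σ t ≠ 0 := by
      rw [← map_mul]; exact rep_ne_zero σ _
    have := smul_left_injective K hX h1
    apply Units.ext
    rw [Units.val_mul]
    exact this)

theorem twist_spec [Nontrivial W] (σ : Representation K H W) (t : H)
    (ht : ∀ h, (h * t)⁻¹ * (t * h) ∈ scalarSubgroup σ) (h : H) :
    σ t * σ h = ((twist σ t ht h : Kˣ) : K) • (σ h * σ t) :=
  (exists_unit_comm σ t ht h).choose_spec

/-- `σ h` maps the `μ`-eigenspace of `σ t` into the `χ(h) μ`-eigenspace. -/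
theorem map_eigenspace_le [Nontrivial W] (σ : Representation K H W) (t : H)
    (ht : ∀ h, (h * t)⁻¹ * (t * h) ∈ scalarSubgroup σ) (h : H) (μ : K) :
    (Module.End.eigenspace (σ t) μ).map (σ h) ≤
      Module.End.eigenspace (σ t) ((twist σ t ht h : Kˣ) * μ) := by
  rintro _ ⟨v, hv, rfl⟩
  have hv' : σ t v = μ • v := Module.End.mem_eigenspace_iff.mp hv
  rw [Module.End.mem_eigenspace_iff]
  calc σ t (σ h v) = (σ t * σ h) v := rfl
    _ = (((twist σ t ht h : Kˣ) : K) • (σ h * σ t)) v := by rw [twist_spec σ t ht h]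
    _ = (((twist σ t ht h : Kˣ) : K) * μ) • σ h v := by
      rw [LinearMap.smul_apply, Module.End.mul_apply, hv', map_smul, smul_smul]

theorem rep_injective (σ : Representation K H W) (h : H) : Function.Injective (σ h) := by
  have : Function.LeftInverse (σ h⁻¹) (σ h) := fun v => by
    rw [← Module.End.mul_apply, rep_inv_mul, Module.End.one_apply]
  exact this.injective

/-- The eigenvalue family indexed by the range of the twisting character. -/
noncomputable def eigFam [Nontrivial W] (σ : Representation K H W) (t : H)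
    (ht : ∀ h, (h * t)⁻¹ * (t * h) ∈ scalarSubgroup σ) (l : K) :
    (twist σ t ht).range → Submodule K W :=
  fun u => Module.End.eigenspace (σ t) (((u : Kˣ) : K) * l)

theorem eigFam_one [Nontrivial W] (σ : Representation K H W) (t : H)
    (ht : ∀ h, (h * t)⁻¹ * (t * h) ∈ scalarSubgroup σ) (l : K) :
    eigFam σ t ht l 1 = Module.End.eigenspace (σ t) l := by
  unfold eigFam
  rw [OneMemClass.coe_one, Units.val_one, one_mul]

theorem eigenvalue_ne_zero [Nontrivial W] (σ : Representation K H W) (t : H) (l : K)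
    (hl : Module.End.HasEigenvalue (σ t) l) : l ≠ 0 := by
  rintro rfl
  obtain ⟨v, hv⟩ := hl.exists_hasEigenvector
  have h1 : σ t v = (0 : K) • v := Module.End.mem_eigenspace_iff.mp hv.1
  rw [zero_smul] at h1
  have h2 : σ t v = σ t 0 := by rw [h1, map_zero]
  exact hv.2 (rep_injective σ t h2)

theorem eigFam_indep [Nontrivial W] (σ : Representation K H W) (t : H)
    (ht : ∀ h, (h * t)⁻¹ * (t * h) ∈ scalarSubgroup σ) (l : K) (hl0 : l ≠ 0) :
    iSupIndep (eigFam σ t ht l) := by
  have hinj : Function.Injective (fun u : (twist σ t ht).range => ((u : Kˣ) : K) * l) := by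
    intro u v huv
    have := mul_right_cancel₀ hl0 huv
    exact Subtype.ext (Units.ext this)
  exact (Module.End.eigenspaces_iSupIndep (σ t)).comp hinj

theorem map_eigFam_le [Nontrivial W] (σ : Representation K H W) (t : H)
    (ht : ∀ h, (h * t)⁻¹ * (t * h) ∈ scalarSubgroup σ) (l : K) (g : H)
    (u : (twist σ t ht).range) :
    (eigFam σ t ht l u).map (σ g) ≤
      eigFam σ t ht l ⟨twist σ t ht g * u, mul_mem ⟨g, rfl⟩ u.2⟩ := by
  unfold eigFam
  refine le_trans (map_eigenspace_le σ t ht g _) (le_of_eq ?_)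
  congr 1
  rw [Units.val_mul, mul_assoc]

theorem iSup_eigFam_eq_top [Nontrivial W] (σ : Representation K H W)
    (hirr : ∀ U : Submodule K W, (∀ g, U.map (σ g) ≤ U) → U = ⊥ ∨ U = ⊤)
    (t : H) (ht : ∀ h, (h * t)⁻¹ * (t * h) ∈ scalarSubgroup σ) (l : K)
    (hl : Module.End.HasEigenvalue (σ t) l) :
    ⨆ u, eigFam σ t ht l u = ⊤ := by
  have hstab : ∀ g, (⨆ u, eigFam σ t ht l u).map (σ g) ≤ ⨆ u, eigFam σ t ht l u := by
    intro g
    rw [Submodule.map_iSup]
    exact iSup_le fun u => le_trans (map_eigFam_le σ t ht l g u) (le_iSup _ _)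
  refine (hirr _ hstab).resolve_left ?_
  intro hbot
  have h1 : eigFam σ t ht l 1 ≤ ⨆ u, eigFam σ t ht l u := le_iSup _ _
  rw [hbot, eigFam_one, le_bot_iff] at h1
  exact hl h1

theorem finrank_eigFam [Nontrivial W] [FiniteDimensional K W] (σ : Representation K H W)
    (t : H) (ht : ∀ h, (h * t)⁻¹ * (t * h) ∈ scalarSubgroup σ) (l : K)
    (u : (twist σ t ht).range) :
    finrank K (eigFam σ t ht l u) = finrank K (Module.End.eigenspace (σ t) l) := by
  obtain ⟨u, h, rfl⟩ := u
  apply le_antisymm
  · have h1 := map_eigFam_le σ t ht l h⁻¹ ⟨twist σ t ht h, h, rfl⟩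
    have h2 : (⟨twist σ t ht h⁻¹ * twist σ t ht h, mul_mem ⟨h⁻¹, rfl⟩ ⟨h, rfl⟩⟩ :
        (twist σ t ht).range) = 1 := by
      apply Subtype.ext
      show twist σ t ht h⁻¹ * twist σ t ht h = 1
      rw [← map_mul, inv_mul_cancel, map_one]
    rw [h2, eigFam_one] at h1
    calc finrank K (eigFam σ t ht l ⟨twist σ t ht h, h, rfl⟩)
        = finrank K ((eigFam σ t ht l ⟨twist σ t ht h, h, rfl⟩).map (σ h⁻¹)) :=
          (Submodule.equivMapOfInjective _ (rep_injective σ h⁻¹) _).finrank_eq
      _ ≤ _ := Submodule.finrank_mono h1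
  · have h1 := map_eigFam_le σ t ht l h 1
    have h2 : (⟨twist σ t ht h * (1 : (twist σ t ht).range), mul_mem ⟨h, rfl⟩
        (1 : (twist σ t ht).range).2⟩ : (twist σ t ht).range) = ⟨twist σ t ht h, h, rfl⟩ := by
      apply Subtype.ext
      show twist σ t ht h * ((1 : (twist σ t ht).range) : Kˣ) = twist σ t ht h
      rw [OneMemClass.coe_one, mul_one]
    rw [h2, eigFam_one] at h1
    calc finrank K (Module.End.eigenspace (σ t) l)
        = finrank K ((Module.End.eigenspace (σ t) l).map (σ h)) :=
          (Submodule.equivMapOfInjective _ (rep_injective σ h) _).finrank_eq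
      _ ≤ _ := Submodule.finrank_mono h1

theorem finrank_eq_card_mul [Nontrivial W] [FiniteDimensional K W] [Finite H]
    (σ : Representation K H W)
    (hirr : ∀ U : Submodule K W, (∀ g, U.map (σ g) ≤ U) → U = ⊥ ∨ U = ⊤)
    (t : H) (ht : ∀ h, (h * t)⁻¹ * (t * h) ∈ scalarSubgroup σ) (l : K)
    (hl : Module.End.HasEigenvalue (σ t) l) :
    finrank K W = Nat.card (twist σ t ht).range *
      finrank K (Module.End.eigenspace (σ t) l) := by
  classical
  have hfin : Finite (twist σ t ht).range :=
    Finite.of_surjective _ (twist σ t ht).rangeRestrict_surjective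
  have : Fintype (twist σ t ht).range := Fintype.ofFinite _
  have hindep := eigFam_indep σ t ht l (eigenvalue_ne_zero σ t l hl)
  have htop := iSup_eigFam_eq_top σ hirr t ht l hl
  have hint := DirectSum.isInternal_submodule_of_iSupIndep_of_iSup_eq_top hindep htop
  have e := LinearEquiv.ofBijective (DirectSum.coeLinearMap (eigFam σ t ht l)) hint
  rw [← e.finrank_eq, Module.finrank_directSum]
  simp only [finrank_eigFam, Finset.sum_const, Finset.card_univ, smul_eq_mul,
    Nat.card_eq_fintype_card]

/-- Restriction of a representation to a subgroup and a stable subspace. -/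
def restrictRep (σ : Representation K H W) (H₁ : Subgroup H) (E : Submodule K W)
    (hE : ∀ h ∈ H₁, ∀ v ∈ E, σ h v ∈ E) : Representation K H₁ E where
  toFun h := (σ h.1).restrict (hE h.1 h.2)
  map_one' := by
    ext v
    simp
  map_mul' := by
    intro a b
    ext v
    simp

theorem restrictRep_apply (σ : Representation K H W) (H₁ : Subgroup H) (E : Submodule K W)
    (hE : ∀ h ∈ H₁, ∀ v ∈ E, σ h v ∈ E) (h : H₁) (v : E) :
    ((restrictRep σ H₁ E hE h v : E) : W) = σ h.1 v.1 := rfl

theorem ker_stable [Nontrivial W] (σ : Representation K H W) (t : H)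
    (ht : ∀ h, (h * t)⁻¹ * (t * h) ∈ scalarSubgroup σ) (l : K) :
    ∀ h ∈ (twist σ t ht).ker, ∀ v ∈ Module.End.eigenspace (σ t) l,
      σ h v ∈ Module.End.eigenspace (σ t) l := by
  intro h hh v hv
  have h1 := map_eigenspace_le σ t ht h l ⟨v, hv, rfl⟩
  rw [MonoidHom.mem_ker.mp hh, Units.val_one, one_mul] at h1
  exact h1

theorem restrict_irreducible [Nontrivial W] (σ : Representation K H W)
    (hirr : ∀ U : Submodule K W, (∀ g, U.map (σ g) ≤ U) → U = ⊥ ∨ U = ⊤)
    (t : H) (ht : ∀ h, (h * t)⁻¹ * (t * h) ∈ scalarSubgroup σ) (l : K) (hl0 : l ≠ 0)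
    (U : Submodule K (Module.End.eigenspace (σ t) l))
    (hU : ∀ h : (twist σ t ht).ker,
      U.map (restrictRep σ (twist σ t ht).ker (Module.End.eigenspace (σ t) l)
        (ker_stable σ t ht l) h) ≤ U) :
    U = ⊥ ∨ U = ⊤ := by
  set U' : Submodule K W := U.map (Module.End.eigenspace (σ t) l).subtype with hU'
  have hU'E : U' ≤ Module.End.eigenspace (σ t) l := by
    rintro _ ⟨v, -, rfl⟩
    exact v.2
  -- the family `B`
  let B : (twist σ t ht).range → Submodule K W := fun u => ⨆ (h : H) (_ : twist σ t ht h = u), U'.map (σ h)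
  have hBA : ∀ u, B u ≤ eigFam σ t ht l u := by
    intro u
    refine iSup₂_le fun h hh => ?_
    have h1 : U'.map (σ h) ≤ (Module.End.eigenspace (σ t) l).map (σ h) := Submodule.map_mono hU'E
    refine le_trans h1 (le_trans (map_eigenspace_le σ t ht h l) (le_of_eq ?_))
    unfold eigFam
    rw [← hh]
  have hstab : ∀ g, (⨆ u, B u).map (σ g) ≤ ⨆ u, B u := by
    intro g
    rw [Submodule.map_iSup]
    refine iSup_le fun u => ?_
    show (⨆ (h : H) (_ : twist σ t ht h = u), U'.map (σ h)).map (σ g) ≤ _
    rw [Submodule.map_iSup]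
    refine iSup_le fun h => ?_
    rw [Submodule.map_iSup]
    refine iSup_le fun hh => ?_
    have h1 : (U'.map (σ h)).map (σ g) = U'.map (σ (g * h)) := by
      rw [← Submodule.map_comp, map_mul]
      rfl
    rw [h1]
    refine le_trans ?_ (le_iSup B ⟨twist σ t ht (g * h), g * h, rfl⟩)
    exact le_iSup₂_of_le (g * h) rfl le_rfl
  have hB1 : B 1 ≤ U' := by
    refine iSup₂_le fun h hh => ?_
    have hker : h ∈ (twist σ t ht).ker := by
      rw [MonoidHom.mem_ker]
      rw [hh]; rfl
    rintro _ ⟨_, ⟨v, hv, rfl⟩, rfl⟩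
    have := hU ⟨h, hker⟩ ⟨v, hv, rfl⟩
    exact ⟨_, this, rfl⟩
  rcases hirr _ hstab with hbot | htop
  · left
    have h1 : U' ≤ ⨆ u, B u := by
      refine le_trans ?_ (le_iSup B 1)
      refine le_trans ?_ (le_iSup₂_of_le (1 : H) (by rw [map_one]; rfl) le_rfl)
      rw [map_one]
      intro x hx
      exact ⟨x, hx, rfl⟩
    rw [hbot, le_bot_iff] at h1
    rw [eq_bot_iff]
    intro v hv
    have : (v : W) ∈ U' := ⟨v, hv, rfl⟩
    rw [h1] at this
    rw [Submodule.mem_bot]
    exact Subtype.ext ((Submodule.mem_bot K).mp this)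
  · right
    have hindep := eigFam_indep σ t ht l hl0
    have hdisj := (iSupIndep_def.mp hindep) 1
    have h1 : eigFam σ t ht l 1 ≤ B 1 := by
      have h2 : eigFam σ t ht l 1 = (⨆ u, B u) ⊓ eigFam σ t ht l 1 := by
        rw [htop, top_inf_eq]
      rw [iSup_split_single B 1, sup_inf_assoc_of_le _ (hBA 1)] at h2
      rw [h2]
      refine sup_le le_rfl ?_
      have h3 : (⨆ i, ⨆ (_ : i ≠ 1), B i) ⊓ eigFam σ t ht l 1 ≤
          (⨆ j, ⨆ (_ : j ≠ 1), eigFam σ t ht l j) ⊓ eigFam σ t ht l 1 :=
        inf_le_inf_right _ (iSup₂_mono fun i _ => hBA i)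
      refine le_trans h3 ?_
      rw [inf_comm, hdisj.eq_bot]
      exact bot_le
    rw [eigFam_one] at h1
    rw [eq_top_iff]
    intro v _
    have hv : (v : W) ∈ U' := hB1 (h1 v.2)
    obtain ⟨w, hw, hwv⟩ := hv
    have : w = v := Subtype.ext hwv
    rwa [this] at hw

end

/-- An irreducible representation of a finite `q`-group over an algebraically closed field has
`q`-power degree. -/
theorem qpower_degree (q : ℕ) [Fact q.Prime] {K : Type uK} [Field K] [IsAlgClosed K] (d : ℕ) :
    ∀ (H : Type uH) [Group H] [Finite H] (W : Type uW) [AddCommGroup W] [Module K W]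
      [FiniteDimensional K W] [Nontrivial W] (σ : Representation K H W), IsPGroup q H →
      (∀ U : Submodule K W, (∀ g, U.map (σ g) ≤ U) → U = ⊥ ∨ U = ⊤) → finrank K W ≤ d →
      ∃ b : ℕ, finrank K W = q ^ b := by
  induction d with
  | zero =>
    intro H _ _ W _ _ _ _ σ _ _ hd
    exfalso
    have := Module.finrank_pos (R := K) (M := W)
    omega
  | succ d ih =>
    intro H _ _ W _ _ _ _ σ hH hirr hd
    by_cases hZ : scalarSubgroup σ = ⊤
    · refine ⟨0, ?_⟩
      rw [pow_zero]
      obtain ⟨v, hv⟩ := exists_ne (0 : W)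
      have hstab : ∀ g, (Submodule.span K {v}).map (σ g) ≤ Submodule.span K {v} := by
        intro g
        obtain ⟨c, hc⟩ : g ∈ scalarSubgroup σ := by rw [hZ]; trivial
        rintro _ ⟨w, hw, rfl⟩
        rw [hc, LinearMap.smul_apply, Module.End.one_apply]
        exact Submodule.smul_mem _ _ hw
      rcases hirr _ hstab with h | h
      · exfalso
        have := Submodule.mem_span_singleton_self (R := K) v
        rw [h] at this
        exact hv ((Submodule.mem_bot K).mp this)
      · rw [← finrank_top K W, ← h]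
        exact finrank_span_singleton hv
    · obtain ⟨t, htZ, ht⟩ := exists_noncentral q hH σ hZ
      obtain ⟨l, hl⟩ := Module.End.exists_eigenvalue (σ t)
      have hl0 := eigenvalue_ne_zero σ t l hl
      have hcount := finrank_eq_card_mul σ hirr t ht l hl
      have hfin : Finite (twist σ t ht).range :=
        Finite.of_surjective _ (twist σ t ht).rangeRestrict_surjective
      have hqr : IsPGroup q (twist σ t ht).range :=
        hH.of_surjective _ (twist σ t ht).rangeRestrict_surjective
      obtain ⟨k, hk⟩ := IsPGroup.iff_card.mp hqr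
      have hEtop : Module.End.eigenspace (σ t) l ≠ ⊤ := by
        intro htop
        apply htZ
        refine ⟨l, ?_⟩
        refine LinearMap.ext fun v => ?_
        have hv : v ∈ Module.End.eigenspace (σ t) l := by rw [htop]; trivial
        rw [Module.End.mem_eigenspace_iff.mp hv, LinearMap.smul_apply, Module.End.one_apply]
      have hlt := Submodule.finrank_lt hEtop
      have hnt : Nontrivial (Module.End.eigenspace (σ t) l) :=
        Submodule.nontrivial_iff_ne_bot.mpr hl
      obtain ⟨b, hb⟩ := ih (twist σ t ht).ker (Module.End.eigenspace (σ t) l)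
        (restrictRep σ (twist σ t ht).ker (Module.End.eigenspace (σ t) l) (ker_stable σ t ht l))
        (hH.to_subgroup _) (restrict_irreducible σ hirr t ht l hl0) (by omega)
      refine ⟨k + b, ?_⟩
      rw [hcount, hk, hb, pow_add]

end Cfsg.Agent.Helper5.HHT
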