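import Mathlib
import Cfsg.Agent.Helper5.HHTe
import Cfsg.Agent.Helper5.HHTf

/-!
# Hall–Higman critical case: assembly lemmas
-/

set_option autoImplicit false

namespace Cfsg.Agent.Helper5.HHT

open Module

/-- If every group element acts by a scalar on an irreducible module, the module is a line. -/
theorem finrank_eq_one_of_forall_scalar {K : Type*} [Field K] {W : Type*} [AddCommGroup W]
    [Module K W] [Nontrivial W] {H : Type*} [Group H] (σ : Representation K H W)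
    (hirr : ∀ U : Submodule K W, (∀ g, U.map (σ g) ≤ U) → U = ⊥ ∨ U = ⊤)
    (hsc : ∀ g, ∃ c : K, σ g = c • 1) : finrank K W = 1 := by
  obtain ⟨v, hv⟩ := exists_ne (0 : W)
  have hstab : ∀ g, (Submodule.span K {v}).map (σ g) ≤ Submodule.span K {v} := by
    intro g
    obtain ⟨c, hc⟩ := hsc g
    rintro _ ⟨w, hw, rfl⟩
    rw [hc, LinearMap.smul_apply, Module.End.one_apply]
    exact Submodule.smul_mem _ _ hw
  rcases hirr _ hstab with h | h
  · exfalso
    have := Submodule.mem_span_singleton_self (R := K) v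
    rw [h] at this
    exact hv ((Submodule.mem_bot K).mp this)
  · rw [← finrank_top K W, ← h]
    exact finrank_span_singleton hv

/-- A unipotent scalar is `1`. -/
theorem scalar_unipotent_eq_one {K : Type*} [Field K] {W : Type*} [AddCommGroup W]
    [Module K W] [Nontrivial W] (c : K) (M : ℕ)
    (h : ((c • (1 : Module.End K W)) - 1) ^ M = 0) : c = 1 := by
  have h1 : (c • (1 : Module.End K W)) - 1 = (c - 1) • (1 : Module.End K W) := by
    rw [sub_smul, one_smul]
  rw [h1, smul_pow, one_pow] at h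
  rcases smul_eq_zero.mp h with h2 | h2
  · exact sub_eq_zero.mp (eq_zero_of_pow_eq_zero h2)
  · exact absurd h2 one_ne_zero

/-- Semiregularity modulo scalars in the critical configuration. -/
theorem semireg_scalar {G : Type*} [Group G] [Finite G] (p q : ℕ) [Fact p.Prime] [Fact q.Prime]
    (hpq : p ≠ q) (Q : Subgroup G) [Q.Normal] (hQ : IsPGroup q Q) (x : G) (n : ℕ)
    (hcard : orderOf x = p ^ n)
    (hC : ∀ y ∈ Subgroup.zpowers x, y ≠ 1 →
      Subgroup.centralizer ({y} : Set G) = Subgroup.zpowers x ⊔ Subgroup.center G)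
    {K : Type*} [Field K] [IsAlgClosed K] [CharP K p] {V : Type*} [AddCommGroup V] [Module K V]
    [FiniteDimensional K V] [Nontrivial V] (ρ : Representation K G V)
    (hfaith : Function.Injective ρ)
    (hirr : ∀ W : Submodule K V, (∀ g ∈ Q, Submodule.map (ρ g) W ≤ W) → W = ⊥ ∨ W = ⊤)
    (i : ℕ) (hi0 : 0 < i) (hiN : i < p ^ n) (g : G) (hg : g ∈ Q)
    (hcomm : x ^ i * g = g * x ^ i) :
    ∃ c : K, ρ g = c • 1 := by
  have hp := (Fact.out : p.Prime)
  have hq := (Fact.out : q.Prime)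
  have hxN : x ^ (p ^ n) = 1 := by rw [← hcard]; exact pow_orderOf_eq_one x
  have hy : x ^ i ∈ Subgroup.zpowers x := Subgroup.npow_mem_zpowers x i
  have hy1 : x ^ i ≠ 1 := pow_ne_one_of_lt_orderOf hi0.ne' (by rw [hcard]; exact hiN)
  have hgc : g ∈ Subgroup.centralizer ({x ^ i} : Set G) := by
    rw [Subgroup.mem_centralizer_iff]
    intro h hh
    rw [Set.mem_singleton_iff] at hh
    rw [hh]; exact hcomm
  rw [hC _ hy hy1, Subgroup.mem_sup_of_normal_right] at hgc
  obtain ⟨y', hy', z, hz, rfl⟩ := hgc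
  -- the restricted representation
  set σ : Representation K Q V := ρ.comp Q.subtype with hσ
  have hirr' : ∀ U : Submodule K V, (∀ g, U.map (σ g) ≤ U) → U = ⊥ ∨ U = ⊤ :=
    fun U hU => hirr U fun g hg => hU ⟨g, hg⟩
  have hzcomm : ∀ g' : Q, ρ z * σ g' = σ g' * ρ z := by
    intro g'
    show ρ z * ρ g'.1 = ρ g'.1 * ρ z
    rw [← map_mul, ← map_mul, Subgroup.mem_center_iff.mp hz g'.1]
  obtain ⟨cz, hcz⟩ := schur σ hirr' (ρ z) hzcomm
  have hcz0 : cz ≠ 0 := by
    rintro rfl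
    rw [zero_smul] at hcz
    exact rep_ne_zero ρ z hcz
  obtain ⟨j, rfl⟩ : ∃ j : ℕ, x ^ j = y' :=
    (Submonoid.mem_powers_iff _ _).mp
      ((isOfFinOrder_of_finite x).mem_powers_iff_mem_zpowers.mpr hy')
  obtain ⟨m, hm⟩ := hQ ⟨x ^ j * z, hg⟩
  have hm' : (x ^ j * z) ^ (q ^ m) = 1 := by
    have := congrArg Subtype.val hm
    simpa using this
  have hcomm' : Commute (x ^ j) z := (Subgroup.mem_center_iff.mp hz (x ^ j))
  rw [hcomm'.mul_pow] at hm'
  -- apply ρ
  have h1 : ρ ((x ^ j) ^ (q ^ m)) * ρ (z ^ (q ^ m)) = 1 := by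
    rw [← map_mul, hm', map_one]
  rw [map_pow ρ z, hcz, smul_pow, one_pow, mul_smul_comm, mul_one] at h1
  have hb' : ρ ((x ^ j) ^ (q ^ m)) = (cz ^ (q ^ m))⁻¹ • 1 := by
    rw [← h1, smul_smul, inv_mul_cancel₀ (pow_ne_zero _ hcz0), one_smul]
  have hb'N : ρ ((x ^ j) ^ (q ^ m)) ^ (p ^ n) = 1 := by
    have : ((x ^ j) ^ (q ^ m)) ^ (p ^ n) = 1 := by
      have h2 : ((x ^ j) ^ (q ^ m)) ^ (p ^ n) = (x ^ (p ^ n)) ^ (j * q ^ m) := by
        rw [← pow_mul, ← pow_mul, ← pow_mul]; congr 1; ring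
      rw [h2, hxN, one_pow]
    rw [← map_pow, this, map_one]
  have hunip : (ρ ((x ^ j) ^ (q ^ m)) - 1) ^ (p ^ n) = 0 := by
    rw [sub_one_pow_char_pow (K := K) p _ n, hb'N, sub_self]
  rw [hb'] at hunip
  have hc1 := scalar_unipotent_eq_one _ _ hunip
  rw [hc1, one_smul] at hb'
  have hxj1 : (x ^ j) ^ (q ^ m) = 1 := hfaith (by rw [hb', map_one])
  have hxj2 : (x ^ j) ^ (p ^ n) = 1 := by
    rw [← pow_mul, mul_comm, pow_mul, hxN, one_pow]
  have hord : orderOf (x ^ j) = 1 :=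
    Nat.eq_one_of_dvd_coprimes (Nat.Coprime.pow m n ((Nat.coprime_primes hq hp).mpr hpq.symm))
      (orderOf_dvd_of_pow_eq_one hxj1) (orderOf_dvd_of_pow_eq_one hxj2)
  rw [orderOf_eq_one_iff] at hord
  refine ⟨cz, ?_⟩
  rw [hord, one_mul, hcz]

end Cfsg.Agent.Helper5.HHT
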