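import Mathlib
import Cfsg.Agent.Helper5.HHTg
import Cfsg.Agent.Helper5.HHTi

/-!
# Theorem B of Hall–Higman: the representation-theoretic core (abstract form)
-/

set_option autoImplicit false

namespace Cfsg.Agent.Helper5.HHT

open Module

/-- The set of exponents `i` with `A ^ i` commuting with `P` is "generated" by a power of `p`,
when `A ^ (p ^ n) = 1`. -/
theorem pow_comm_min {M : Type*} [Monoid M] (A P : M) (p n : ℕ) (hp : p.Prime)
    (hAN : A ^ (p ^ n) = 1) :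
    ∃ k ≤ n, A ^ (p ^ k) * P = P * A ^ (p ^ k) ∧
      ∀ i, 0 < i → i < p ^ k → A ^ i * P ≠ P * A ^ i := by
  classical
  have hex : ∃ k, k ≤ n ∧ A ^ (p ^ k) * P = P * A ^ (p ^ k) :=
    ⟨n, le_rfl, by rw [hAN, one_mul, mul_one]⟩
  obtain ⟨hkn, hk⟩ := Nat.find_spec hex
  refine ⟨Nat.find hex, hkn, hk, ?_⟩
  intro i hi0 hik hcomm
  have hpk_le : p ^ Nat.find hex ≤ p ^ n := Nat.pow_le_pow_right hp.pos hkn
  have hgdvd : Nat.gcd i (p ^ n) ∣ p ^ n := Nat.gcd_dvd_right _ _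
  obtain ⟨j, hjn, hj⟩ := (Nat.dvd_prime_pow hp).mp hgdvd
  have hgle : Nat.gcd i (p ^ n) ≤ i := Nat.gcd_le_left _ hi0
  have hjk : j < Nat.find hex := by
    by_contra hcon
    push Not at hcon
    have : p ^ Nat.find hex ≤ p ^ j := Nat.pow_le_pow_right hp.pos hcon
    omega
  have hglt : Nat.gcd i (p ^ n) < p ^ n := by omega
  obtain ⟨m, -, hm⟩ := Nat.exists_mul_mod_eq_gcd hglt
  have hpow : A ^ (i * m) = A ^ (p ^ j) := by
    rw [← Nat.div_add_mod (i * m) (p ^ n), hm, hj, pow_add, pow_mul, hAN, one_pow, one_mul]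
  have hc : Commute (A ^ i) P := hcomm
  have hc2 : Commute (A ^ (i * m)) P := by
    rw [pow_mul]; exact hc.pow_left m
  rw [hpow] at hc2
  exact Nat.find_min hex hjk ⟨hjn, hc2⟩

section copy

variable {K : Type*} [Field K] {Q : Type*} [Group Q]
variable {W : Type*} [AddCommGroup W] [Module K W]
variable {W₁ : Type*} [AddCommGroup W₁] [Module K W₁]

/-- The space of intertwiners. -/
def homSpace (τ : Representation K Q W₁) (σ : Representation K Q W) :
    Submodule K (W₁ →ₗ[K] W) where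
  carrier := {φ | ∀ g w, φ (τ g w) = σ g (φ w)}
  add_mem' := by
    intro a b ha hb g w
    rw [LinearMap.add_apply, LinearMap.add_apply, ha, hb, map_add]
  zero_mem' := by
    intro g w
    simp
  smul_mem' := by
    intro c a ha g w
    rw [LinearMap.smul_apply, LinearMap.smul_apply, ha, map_smul]

theorem mem_homSpace (τ : Representation K Q W₁) (σ : Representation K Q W)
    (φ : W₁ →ₗ[K] W) : φ ∈ homSpace τ σ ↔ ∀ g w, φ (τ g w) = σ g (φ w) := Iff.rfl

/-- A nonzero intertwiner out of an irreducible representation is injective. -/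
theorem hom_injective (τ : Representation K Q W₁) (σ : Representation K Q W)
    (hτirr : ∀ U : Submodule K W₁, (∀ g, U.map (τ g) ≤ U) → U = ⊥ ∨ U = ⊤)
    (f : W₁ →ₗ[K] W) (hf : ∀ g w, f (τ g w) = σ g (f w)) (hf0 : f ≠ 0) :
    Function.Injective f := by
  have hker : ∀ g, (LinearMap.ker f).map (τ g) ≤ LinearMap.ker f := by
    rintro g _ ⟨w, hw, rfl⟩
    have hw' : f w = 0 := hw
    show f (τ g w) = 0
    rw [hf, hw', map_zero]
  rcases hτirr _ hker with h | h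
  · exact LinearMap.ker_eq_bot.mp h
  · exact absurd (LinearMap.ker_eq_top.mp h) hf0

variable [Fintype Q]

theorem exists_stable_copy [IsAlgClosed K] [FiniteDimensional K W] [FiniteDimensional K W₁]
    [Nontrivial W₁] (σ : Representation K Q W) (τ : Representation K Q W₁)
    (hτirr : ∀ U : Submodule K W₁, (∀ g, U.map (τ g) ≤ U) → U = ⊥ ∨ U = ⊤)
    (hQ : (Fintype.card Q : K) ≠ 0)
    (ι : W₁ →ₗ[K] W) (hι : Function.Injective ι) (hιτ : ∀ g w, ι (τ g w) = σ g (ι w))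
    (α₁ : MulAut Q) (A₁ Ainv₁ : Module.End K W) (h1 : A₁ * Ainv₁ = 1) (h2 : Ainv₁ * A₁ = 1)
    (hA₁ : ∀ g, A₁ * σ g = σ (α₁ g) * A₁)
    (hcomm : A₁ * cproj τ σ = cproj τ σ * A₁) :
    ∃ (f : W₁ →ₗ[K] W) (a : Module.End K W₁), Function.Injective f ∧
      (∀ g w, f (τ g w) = σ g (f w)) ∧ (∀ w, A₁ (f w) = f (a w)) ∧
      (∀ g, a * τ g = τ (α₁ g) * a) := by
  classical
  obtain ⟨hd0, -⟩ := fourier τ hτirr hQ
  -- Step A
  have hPeq : cproj (twistRep τ α₁) σ = cproj τ σ := by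
    rw [← cproj_conj τ σ A₁ Ainv₁ α₁ h2 hA₁, mul_assoc, ← hcomm, ← mul_assoc, h2, one_mul]
  -- range ι is stable
  have hrstab : ∀ g, (LinearMap.range ι).map (σ g) ≤ LinearMap.range ι := by
    rintro g _ ⟨_, ⟨w, rfl⟩, rfl⟩
    exact ⟨τ g w, hιτ g w⟩
  -- Step B
  have hex : ∃ ψ : W₁ →ₗ[K] W, (∀ g w, ψ (twistRep τ α₁ g w) = σ g (ψ w)) ∧
      (∀ w, ψ w ∈ LinearMap.range ι) ∧ ψ ≠ 0 := by
    by_contra hcon
    push Not at hcon
    obtain ⟨w, hw⟩ := exists_ne (0 : W₁)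
    have hv := cproj_vanish (twistRep τ α₁) σ (LinearMap.range ι) hrstab
      (fun ψ h1 h2 => hcon ψ h1 h2) (ι w) ⟨w, rfl⟩
    rw [hPeq, cproj_comp_hom τ hτirr hQ σ ι hιτ w] at hv
    rcases smul_eq_zero.mp hv with h | h
    · exact div_ne_zero hQ hd0 h
    · exact hw (hι (by rw [h, map_zero]))
  obtain ⟨ψ, hψ, hψr, hψ0⟩ := hex
  -- Step C
  obtain ⟨a₀, hιa₀, ha₀⟩ := exists_factor (twistRep τ α₁) τ σ ι ψ hι hιτ hψ hψr
  have ha₀ne : a₀ ≠ 0 := by
    rintro rfl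
    apply hψ0
    refine LinearMap.ext fun w => ?_
    rw [← hιa₀, LinearMap.zero_apply, map_zero, LinearMap.zero_apply]
  obtain ⟨b₀, hab, hba⟩ := intertwiner_invertible (twistRep τ α₁) τ
    (twistRep_irr τ α₁ hτirr) a₀ ha₀ne ha₀
  have ha₀' : ∀ g w, a₀ (τ g w) = τ (α₁⁻¹ g) (a₀ w) := by
    intro g w
    have := ha₀ (α₁⁻¹ g)
    rw [twistRep_apply, MulAut.apply_inv_self] at this
    have h3 : a₀ (τ g w) = (a₀ * τ g) w := rfl
    rw [h3, this, Module.End.mul_apply]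
  -- Step D
  let B : Module.End K (W₁ →ₗ[K] W) :=
    { toFun := fun φ => A₁ ∘ₗ φ ∘ₗ a₀
      map_add' := by
        intro φ φ'
        refine LinearMap.ext fun w => ?_
        simp
      map_smul' := by
        intro c φ
        refine LinearMap.ext fun w => ?_
        simp }
  have hBapp : ∀ φ w, B φ w = A₁ (φ (a₀ w)) := fun φ w => rfl
  have hB : ∀ φ ∈ homSpace τ σ, B φ ∈ homSpace τ σ := by
    intro φ hφ g w
    rw [hBapp, hBapp, ha₀', hφ]
    have h3 := hA₁ (α₁⁻¹ g)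
    rw [MulAut.apply_inv_self] at h3
    have h4 : A₁ (σ (α₁⁻¹ g) (φ (a₀ w))) = (A₁ * σ (α₁⁻¹ g)) (φ (a₀ w)) := rfl
    rw [h4, h3, Module.End.mul_apply]
  have hιmem : ι ∈ homSpace τ σ := hιτ
  have hι0 : ι ≠ 0 := by
    intro h
    obtain ⟨w, hw⟩ := exists_ne (0 : W₁)
    exact hw (hι (by rw [h, LinearMap.zero_apply, LinearMap.zero_apply]))
  have hnt : Nontrivial (homSpace τ σ) :=
    ⟨⟨⟨ι, hιmem⟩, 0, fun h => hι0 (congrArg Subtype.val h)⟩⟩
  obtain ⟨μ, hμ⟩ := Module.End.exists_eigenvalue (B.restrict hB)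
  obtain ⟨φ₀, hφ₀⟩ := hμ.exists_hasEigenvector
  have hφ₀eq : B.restrict hB φ₀ = μ • φ₀ := Module.End.mem_eigenspace_iff.mp hφ₀.1
  have hφ₀ne : (φ₀ : W₁ →ₗ[K] W) ≠ 0 := fun h => hφ₀.2 (Subtype.ext h)
  have hfeq : ∀ w, A₁ ((φ₀ : W₁ →ₗ[K] W) (a₀ w)) = μ • (φ₀ : W₁ →ₗ[K] W) w := by
    intro w
    have := congrArg (fun x : homSpace τ σ => (x : W₁ →ₗ[K] W) w) hφ₀eq
    rw [← hBapp]
    simpa using this
  have hfinj := hom_injective τ σ hτirr (φ₀ : W₁ →ₗ[K] W) φ₀.2 hφ₀ne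
  refine ⟨(φ₀ : W₁ →ₗ[K] W), μ • b₀, hfinj, φ₀.2, ?_, ?_⟩
  · intro w
    have := hfeq (b₀ w)
    have h3 : a₀ (b₀ w) = w := by
      rw [← Module.End.mul_apply, hab, Module.End.one_apply]
    rw [h3] at this
    rw [this, LinearMap.smul_apply, map_smul]
  · intro g
    have h3 : b₀ * τ g = τ (α₁ g) * b₀ := by
      have h4 := ha₀ g
      rw [twistRep_apply] at h4
      calc b₀ * τ g = b₀ * τ g * (a₀ * b₀) := by rw [hab, mul_one]
        _ = b₀ * (τ g * a₀) * b₀ := by simp only [mul_assoc]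
        _ = b₀ * (a₀ * τ (α₁ g)) * b₀ := by rw [h4]
        _ = (b₀ * a₀) * τ (α₁ g) * b₀ := by simp only [mul_assoc]
        _ = τ (α₁ g) * b₀ := by rw [hba, one_mul]
    rw [smul_mul_assoc, h3, mul_smul_comm]

theorem pow_rel (σ : Representation K Q W) (α : MulAut Q) (A : Module.End K W)
    (hA : ∀ g, A * σ g = σ (α g) * A) (i : ℕ) (g : Q) :
    A ^ i * σ g = σ ((α ^ i) g) * A ^ i := by
  induction i with
  | zero => simp
  | succ i ih =>
    rw [pow_succ', mul_assoc, ih, ← mul_assoc, hA, mul_assoc, pow_succ' α, MulAut.mul_apply]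

theorem pow_inv_rel (A Ainv : Module.End K W) (h1 : A * Ainv = 1) (h2 : Ainv * A = 1) (i : ℕ) :
    A ^ i * Ainv ^ i = 1 ∧ Ainv ^ i * A ^ i = 1 := by
  have hc : Commute A Ainv := by
    show A * Ainv = Ainv * A
    rw [h1, h2]
  constructor
  · rw [← hc.mul_pow, h1, one_pow]
  · rw [← hc.symm.mul_pow, h2, one_pow]

theorem orbit_bound [IsAlgClosed K] (p : ℕ) [Fact p.Prime] [CharP K p] [FiniteDimensional K W]
    [FiniteDimensional K W₁] [Nontrivial W₁] (σ : Representation K Q W)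
    (τ : Representation K Q W₁)
    (hτirr : ∀ U : Submodule K W₁, (∀ g, U.map (τ g) ≤ U) → U = ⊥ ∨ U = ⊤)
    (hQ : (Fintype.card Q : K) ≠ 0)
    (α : MulAut Q) (A Ainv : Module.End K W) (h1 : A * Ainv = 1) (h2 : Ainv * A = 1)
    (hA : ∀ g, A * σ g = σ (α g) * A) (k : ℕ)
    (hk : ∀ i, 0 < i → i < p ^ k → A ^ i * cproj τ σ ≠ cproj τ σ * A ^ i)
    (f : W₁ →ₗ[K] W) (a : Module.End K W₁) (hfinj : Function.Injective f)
    (hfτ : ∀ g w, f (τ g w) = σ g (f w)) (hfa : ∀ w, (A ^ (p ^ k)) (f w) = f (a w))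
    (s₁ : ℕ) (hs₁ : 1 ≤ s₁) (hne : (a - 1) ^ (s₁ - 1) ≠ 0) (r : ℕ) (hr : (A - 1) ^ r = 0) :
    p ^ k * s₁ ≤ r := by
  classical
  have hp := (Fact.out : p.Prime)
  obtain ⟨hd0, -⟩ := fourier τ hτirr hQ
  by_contra hlt
  push Not at hlt
  have hpk : 0 < p ^ k := pos_of_ne_zero (pow_ne_zero _ hp.ne_zero)
  obtain ⟨w₁, hw₁⟩ : ∃ w₁, ((a - 1) ^ (s₁ - 1)) w₁ ≠ 0 := by
    by_contra hcon
    push Not at hcon
    exact hne (LinearMap.ext hcon)
  set w := f (((a - 1) ^ (s₁ - 1)) w₁) with hw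
  have hw0 : w ≠ 0 := by
    intro h
    apply hw₁
    apply hfinj
    rw [map_zero]; exact h
  have hconj : ∀ (m : ℕ) (w' : W₁),
      ((A ^ (p ^ k) - 1) ^ m) (f w') = f (((a - 1) ^ m) w') := by
    intro m
    induction m with
    | zero => intro w'; simp
    | succ m ih =>
      intro w'
      rw [pow_succ', Module.End.mul_apply, ih, LinearMap.sub_apply, Module.End.one_apply, hfa,
        ← map_sub, pow_succ', Module.End.mul_apply, LinearMap.sub_apply, Module.End.one_apply]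
  -- the exponent
  set e := p ^ k * (s₁ - 1) + (p ^ k - 1) with he
  have hre : r ≤ e := by
    have : p ^ k * s₁ = p ^ k * (s₁ - 1) + p ^ k := by
      rw [← Nat.mul_succ]
      congr 1
      omega
    omega
  have hzero : (A - 1) ^ e = 0 := by
    obtain ⟨t, ht⟩ := Nat.exists_eq_add_of_le hre
    rw [ht, pow_add, hr, zero_mul]
  have hsum : ((A - 1) ^ e) (f w₁) = ∑ i ∈ Finset.range (p ^ k), (A ^ i) w := by
    rw [he, add_comm, pow_add, pow_mul, sub_one_pow_char_pow (K := K) p A k,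
      sub_one_pow_eq_geom (K := K) p A k, Module.End.mul_apply, hconj, LinearMap.sum_apply]
  rw [hzero, LinearMap.zero_apply] at hsum
  -- apply the projector
  have hP0 : cproj τ σ w = ((Fintype.card Q : K) / (finrank K W₁ : K)) • w :=
    cproj_comp_hom τ hτirr hQ σ f hfτ _
  have hrstab : ∀ g, (LinearMap.range f).map (σ g) ≤ LinearMap.range f := by
    rintro g _ ⟨_, ⟨w', rfl⟩, rfl⟩
    exact ⟨τ g w', hfτ g w'⟩
  have hPi : ∀ i, 0 < i → i < p ^ k → cproj τ σ ((A ^ i) w) = 0 := by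
    intro i hi0 hik
    obtain ⟨hi1, hi2⟩ := pow_inv_rel A Ainv h1 h2 i
    have hconjP := cproj_conj τ σ (A ^ i) (Ainv ^ i) (α ^ i) hi2 (pow_rel σ α A hA i)
    have hvan : cproj (twistRep τ (α ^ i)) σ w = 0 := by
      refine cproj_vanish (twistRep τ (α ^ i)) σ (LinearMap.range f) hrstab ?_ w ⟨_, rfl⟩
      intro ψ hψ hψr
      by_contra hψ0
      obtain ⟨a', hfa', ha'⟩ := exists_factor (twistRep τ (α ^ i)) τ σ f ψ hfinj hfτ hψ hψr
      have ha'ne : a' ≠ 0 := by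
        rintro rfl
        apply hψ0
        refine LinearMap.ext fun w' => ?_
        rw [← hfa', LinearMap.zero_apply, map_zero, LinearMap.zero_apply]
      obtain ⟨b', hab', hba'⟩ := intertwiner_invertible (twistRep τ (α ^ i)) τ
        (twistRep_irr τ (α ^ i) hτirr) a' ha'ne ha'
      have hcg := cproj_congr (twistRep τ (α ^ i)) τ σ a' b' hab' hba' ha'
      rw [hcg] at hconjP
      apply hk i hi0 hik
      calc A ^ i * cproj τ σ = A ^ i * (Ainv ^ i * cproj τ σ * A ^ i) := by rw [hconjP]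
        _ = (A ^ i * Ainv ^ i) * cproj τ σ * A ^ i := by simp only [mul_assoc]
        _ = cproj τ σ * A ^ i := by rw [hi1, one_mul]
    have h3 : cproj τ σ ((A ^ i) w) = (A ^ i) ((Ainv ^ i * cproj τ σ * A ^ i) w) := by
      rw [← Module.End.mul_apply, ← Module.End.mul_apply]
      congr 1
      calc cproj τ σ * A ^ i = (A ^ i * Ainv ^ i) * cproj τ σ * A ^ i := by rw [hi1, one_mul]
        _ = A ^ i * (Ainv ^ i * cproj τ σ * A ^ i) := by simp only [mul_assoc]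
    rw [h3, hconjP, hvan, map_zero]
  have hPsum := congrArg (cproj τ σ) hsum
  rw [map_zero, map_sum, Finset.sum_eq_single 0] at hPsum
  · rw [pow_zero, Module.End.one_apply, hP0] at hPsum
    rcases smul_eq_zero.mp hPsum.symm with h | h
    · exact div_ne_zero hQ hd0 h
    · exact hw0 h
  · intro i hi hi0
    exact hPi i (Nat.pos_of_ne_zero hi0) (Finset.mem_range.mp hi)
  · intro h
    exact absurd (Finset.mem_range.mpr hpk) h

end copy

section main

variable {K : Type*} [Field K] [IsAlgClosed K] {Q : Type*} [Group Q] [Fintype Q]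
variable {W : Type*} [AddCommGroup W] [Module K W] [FiniteDimensional K W]

theorem thmB_abstract_irr (p q : ℕ) [Fact p.Prime] [Fact q.Prime] (hpq : p ≠ q) [CharP K p]
    (hQ : IsPGroup q Q) (σ : Representation K Q W) (α : MulAut Q) (A : Module.End K W)
    (n : ℕ) (hn : 1 ≤ n) (hαN : α ^ (p ^ n) = 1) (hAN : A ^ (p ^ n) = 1)
    (hA : ∀ g, A * σ g = σ (α g) * A)
    (hZ : ∀ j, 0 < j → j < p ^ n → ∀ g, (α ^ j) g = g → ∀ h, g * h = h * g)
    (hgen : Subgroup.closure {z : Q | ∃ (i : ℕ) (g : Q),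
      z = ((α ^ (p ^ (n - 1))) ^ i) g * g⁻¹} = ⊤)
    {W₁ : Type*} [AddCommGroup W₁] [Module K W₁] [FiniteDimensional K W₁] [Nontrivial W₁]
    (τ : Representation K Q W₁)
    (hτirr : ∀ U : Submodule K W₁, (∀ g, U.map (τ g) ≤ U) → U = ⊥ ∨ U = ⊤)
    (hτnt : ∃ g, τ g ≠ 1)
    (ι : W₁ →ₗ[K] W) (hι : Function.Injective ι) (hιτ : ∀ g w, ι (τ g w) = σ g (ι w))
    (r : ℕ) (hr : (A - 1) ^ r = 0) :
    p ^ n ≤ r ∨ ∃ n₀ m : ℕ, 1 ≤ n₀ ∧ n₀ ≤ n ∧ 1 ≤ m ∧ p ^ n₀ - 1 = q ^ m ∧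
      (¬ ∀ g h : Q, g * h = h * g) ∧ p ^ (n - n₀) * (p ^ n₀ - 1) ≤ r := by
  classical
  have hp := (Fact.out : p.Prime)
  have hq := (Fact.out : q.Prime)
  have hQK : (Fintype.card Q : K) ≠ 0 := by
    obtain ⟨m, hm⟩ := IsPGroup.iff_card.mp hQ
    rw [← Nat.card_eq_fintype_card, hm, Nat.cast_pow]
    apply pow_ne_zero
    rw [Ne, CharP.cast_eq_zero_iff K p q]
    intro hdvd
    exact hpq ((Nat.prime_dvd_prime_iff_eq hp hq).mp hdvd)
  have hpn : 0 < p ^ n := pos_of_ne_zero (pow_ne_zero _ hp.ne_zero)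
  set Ainv := A ^ (p ^ n - 1) with hAinv
  have h1 : A * Ainv = 1 := by rw [hAinv, ← pow_succ', Nat.sub_add_cancel hpn, hAN]
  have h2 : Ainv * A = 1 := by rw [hAinv, ← pow_succ, Nat.sub_add_cancel hpn, hAN]
  obtain ⟨k, hkn, hkcomm, hkmin⟩ := pow_comm_min A (cproj τ σ) p n hp hAN
  obtain ⟨hk1, hk2⟩ := pow_inv_rel A Ainv h1 h2 (p ^ k)
  obtain ⟨f, a, hfinj, hfτ, hfa, haτ⟩ := exists_stable_copy σ τ hτirr hQK ι hι hιτ (α ^ (p ^ k))
    (A ^ (p ^ k)) (Ainv ^ (p ^ k)) hk1 hk2 (pow_rel σ α A hA (p ^ k)) hkcomm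
  have hbound : ∀ s₁, 1 ≤ s₁ → (a - 1) ^ (s₁ - 1) ≠ 0 → p ^ k * s₁ ≤ r := fun s₁ hs₁ hne =>
    orbit_bound p σ τ hτirr hQK α A Ainv h1 h2 hA k hkmin f a hfinj hfτ hfa s₁ hs₁ hne r hr
  have hone : (1 : Module.End K W₁) ≠ 0 := one_ne_zero
  rcases Nat.lt_or_ge k n with hklt | hkge
  · -- `k < n`: apply the core
    have hpnk : p ^ k * p ^ (n - k) = p ^ n := by
      rw [← pow_add]; congr 1; omega
    have hfapow : ∀ (m : ℕ) (w : W₁), ((A ^ (p ^ k)) ^ m) (f w) = f ((a ^ m) w) := by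
      intro m
      induction m with
      | zero => intro w; simp
      | succ m ih => intro w; rw [pow_succ', Module.End.mul_apply, ih, hfa, pow_succ', Module.End.mul_apply]
    have haN : a ^ (p ^ (n - k)) = 1 := by
      refine LinearMap.ext fun w => ?_
      apply hfinj
      rw [← hfapow, ← pow_mul, hpnk, hAN, Module.End.one_apply, Module.End.one_apply]
    have hα₁N : (α ^ (p ^ k)) ^ (p ^ (n - k)) = 1 := by
      rw [← pow_mul, hpnk, hαN]
    have hsemi : ∀ i, 0 < i → i < p ^ (n - k) → ∀ g, ((α ^ (p ^ k)) ^ i) g = g →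
        ∃ c : K, τ g = c • 1 := by
      intro i hi0 hiN g hg
      rw [← pow_mul] at hg
      have hpk : 0 < p ^ k := pos_of_ne_zero (pow_ne_zero _ hp.ne_zero)
      have hlt : p ^ k * i < p ^ n := by
        rw [← hpnk]; exact Nat.mul_lt_mul_of_pos_left hiN hpk
      have hcen := hZ (p ^ k * i) (Nat.mul_pos hpk hi0) hlt g hg
      refine schur τ hτirr (τ g) fun h => ?_
      rw [← map_mul, ← map_mul, hcen h]
    have ha1 : a ≠ 1 := by
      intro ha1
      obtain ⟨g₀, hg₀⟩ := hτnt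
      apply hg₀
      have hfix : ∀ g, τ ((α ^ (p ^ k)) g) = τ g := by
        intro g
        have := haτ g
        rw [ha1, one_mul, mul_one] at this
        exact this.symm
      have hfixpow : ∀ (m : ℕ) (g : Q), τ (((α ^ (p ^ k)) ^ m) g) = τ g := by
        intro m
        induction m with
        | zero => intro g; simp
        | succ m ih => intro g; rw [pow_succ', MulAut.mul_apply, hfix, ih]
      have hβ : ∀ i : ℕ, (α ^ (p ^ (n - 1))) ^ i = (α ^ (p ^ k)) ^ (p ^ (n - 1 - k) * i) := by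
        intro i
        rw [← pow_mul, ← pow_mul, ← mul_assoc, ← pow_add]; congr 3; omega
      have hker : Subgroup.closure {z : Q | ∃ (i : ℕ) (g : Q),
          z = ((α ^ (p ^ (n - 1))) ^ i) g * g⁻¹} ≤ MonoidHom.ker τ := by
        rw [Subgroup.closure_le]
        rintro _ ⟨i, g, rfl⟩
        show _ ∈ MonoidHom.ker τ
        rw [MonoidHom.mem_ker, map_mul, hβ, hfixpow, ← map_mul, mul_inv_cancel, map_one]
      rw [hgen] at hker
      exact MonoidHom.mem_ker.mp (hker (Subgroup.mem_top g₀))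
    have hnil : ∃ s, (a - 1) ^ s = 0 :=
      ⟨p ^ (n - k), by rw [sub_one_pow_char_pow (K := K) p a (n - k), haN, sub_self]⟩
    have hs₁ := Nat.find_spec hnil
    have hs₁min : ∀ j < Nat.find hnil, (a - 1) ^ j ≠ 0 := fun j hj => Nat.find_min hnil hj
    have hs₁le : Nat.find hnil ≤ p ^ (n - k) :=
      Nat.find_min' hnil (by rw [sub_one_pow_char_pow (K := K) p a (n - k), haN, sub_self])
    have hs₁pos : 1 ≤ Nat.find hnil := by
      rw [Nat.one_le_iff_ne_zero]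
      intro h0
      rw [h0, pow_zero] at hs₁
      exact hone hs₁
    obtain ⟨hcore1, hcore2⟩ := core p τ hτirr hQK (α ^ (p ^ k)) a (n - k) (by omega) hα₁N
      (fun g => haτ g) haN hsemi ha1 (Nat.find hnil) hs₁ hs₁min
    have hb := hbound (Nat.find hnil) hs₁pos (hs₁min _ (by omega))
    rcases Nat.lt_or_ge (Nat.find hnil) (p ^ (n - k)) with hlt | hge
    · -- exceptional case
      right
      have hseq : Nat.find hnil = p ^ (n - k) - 1 := by omega
      have hdim := hcore2 hseq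
      obtain ⟨b, hb'⟩ := qpower_degree q (finrank K W₁) Q W₁ τ hQ hτirr le_rfl
      have hsne1 : Nat.find hnil ≠ 1 := by
        intro h1'
        rw [h1', pow_one, sub_eq_zero] at hs₁
        exact ha1 hs₁
      refine ⟨n - k, b, by omega, by omega, ?_, by rw [← hdim, hb'], ?_, ?_⟩
      · rw [Nat.one_le_iff_ne_zero]
        rintro rfl
        rw [pow_zero] at hb'
        omega
      · intro hcommQ
        have hsc : ∀ g : Q, ∃ c : K, τ g = c • 1 := by
          intro g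
          refine schur τ hτirr (τ g) fun h => ?_
          rw [← map_mul, ← map_mul, hcommQ g h]
        have hone' := finrank_eq_one_of_forall_scalar τ hτirr hsc
        omega
      · have hnk : n - (n - k) = k := by omega
        rw [hnk, ← hseq]
        exact hb
    · left
      have : Nat.find hnil = p ^ (n - k) := le_antisymm hs₁le hge
      rw [this, hpnk] at hb
      exact hb
  · -- `k = n`
    left
    have hkn' : k = n := le_antisymm hkn hkge
    have := hbound 1 le_rfl (by rw [Nat.sub_self, pow_zero]; exact hone)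
    rw [hkn', mul_one] at this
    exact this

theorem thmB_abstract (p q : ℕ) [Fact p.Prime] [Fact q.Prime] (hpq : p ≠ q) [CharP K p]
    (hQ : IsPGroup q Q) (σ : Representation K Q W) (α : MulAut Q) (A : Module.End K W)
    (n : ℕ) (hn : 1 ≤ n) (hαN : α ^ (p ^ n) = 1) (hAN : A ^ (p ^ n) = 1)
    (hA : ∀ g, A * σ g = σ (α g) * A)
    (hZ : ∀ j, 0 < j → j < p ^ n → ∀ g, (α ^ j) g = g → ∀ h, g * h = h * g)
    (hgen : Subgroup.closure {z : Q | ∃ (i : ℕ) (g : Q),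
      z = ((α ^ (p ^ (n - 1))) ^ i) g * g⁻¹} = ⊤)
    (hnt : ∃ g, σ g ≠ 1) (r : ℕ) (hr : (A - 1) ^ r = 0) :
    p ^ n ≤ r ∨ ∃ n₀ m : ℕ, 1 ≤ n₀ ∧ n₀ ≤ n ∧ 1 ≤ m ∧ p ^ n₀ - 1 = q ^ m ∧
      (¬ ∀ g h : Q, g * h = h * g) ∧ p ^ (n - n₀) * (p ^ n₀ - 1) ≤ r := by
  have hp := (Fact.out : p.Prime)
  have hq := (Fact.out : q.Prime)
  have hQK : (Fintype.card Q : K) ≠ 0 := by
    obtain ⟨m, hm⟩ := IsPGroup.iff_card.mp hQ
    rw [← Nat.card_eq_fintype_card, hm, Nat.cast_pow]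
    apply pow_ne_zero
    rw [Ne, CharP.cast_eq_zero_iff K p q]
    intro hdvd
    exact hpq ((Nat.prime_dvd_prime_iff_eq hp hq).mp hdvd)
  obtain ⟨U, hUne, hUstab, hUmin, g₀, u, hu, hgu⟩ := exists_irr_nontrivial σ hQK hnt
  have hnt' : Nontrivial U := Submodule.nontrivial_iff_ne_bot.mpr hUne
  refine thmB_abstract_irr p q hpq hQ σ α A n hn hαN hAN hA hZ hgen (subRep σ U hUstab)
    (subRep_irr σ U hUstab hUmin) ⟨g₀, ?_⟩ U.subtype U.subtype_injective (fun g w => rfl) r hr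
  intro h
  apply hgu
  have := congrArg (fun φ : Module.End K U => ((φ ⟨u, hu⟩ : U) : W)) h
  simpa [subRep_apply] using this

end main

end Cfsg.Agent.Helper5.HHT
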