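import Mathlib

/-!
# Base change of a linear group to the algebraic closure, via matrices
-/

set_option autoImplicit false

namespace Cfsg.Agent.Helper5.HHT

open Module

section

variable {F : Type*} [Field F] {V : Type*} [AddCommGroup V] [Module F V] [FiniteDimensional F V]
variable (K : Type*) [Field K] [Algebra F K]

/-- Base change of endomorphisms to a field extension, through matrices in a chosen basis. -/
noncomputable def baseChangeHom :
    Module.End F V →+* Module.End K (Fin (finrank F V) → K) :=
  ((Matrix.toLinAlgEquiv' : Matrix (Fin (finrank F V)) (Fin (finrank F V)) K ≃ₐ[K] _)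
      ).toRingEquiv.toRingHom.comp
    (((algebraMap F K).mapMatrix).comp
      (LinearMap.toMatrixAlgEquiv (Module.finBasis F V)).toRingEquiv.toRingHom)

theorem baseChangeHom_injective : Function.Injective (baseChangeHom (F := F) (V := V) K) := by
  unfold baseChangeHom
  intro a b hab
  simp only [RingHom.coe_comp, Function.comp_apply, RingEquiv.toRingHom_eq_coe,
    RingHom.coe_coe, AlgEquiv.coe_ringEquiv] at hab
  have h1 := (Matrix.toLinAlgEquiv' : Matrix (Fin (finrank F V)) (Fin (finrank F V)) K ≃ₐ[K] _).injective hab
  have h2 : Function.Injective ((algebraMap F K).mapMatrix :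
      Matrix (Fin (finrank F V)) (Fin (finrank F V)) F → _) :=
    Matrix.map_injective (algebraMap F K).injective
  exact (LinearMap.toMatrixAlgEquiv (Module.finBasis F V)).injective (h2 h1)

/-- The induced representation of a linear group. -/
noncomputable def baseChangeRep (H : Subgroup (V ≃ₗ[F] V)) :
    Representation K H (Fin (finrank F V) → K) :=
  ((baseChangeHom (F := F) (V := V) K : _ →* _).comp
    LinearEquiv.automorphismGroup.toLinearMapMonoidHom).comp H.subtype

theorem baseChangeRep_apply (H : Subgroup (V ≃ₗ[F] V)) (g : H) :
    baseChangeRep K H g = baseChangeHom K ((g : V ≃ₗ[F] V) : Module.End F V) := rfl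

theorem baseChangeRep_injective (H : Subgroup (V ≃ₗ[F] V)) :
    Function.Injective (baseChangeRep (F := F) (V := V) K H) := by
  intro a b hab
  rw [baseChangeRep_apply, baseChangeRep_apply] at hab
  have h1 := baseChangeHom_injective K hab
  exact Subtype.ext (LinearEquiv.toLinearMap_injective h1)

end

end Cfsg.Agent.Helper5.HHT
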