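import Mathlib
import Cfsg.Agent.Helper5.HHTj
import Cfsg.Agent.Helper5.HHTk
import Cfsg.Agent.Helper5.HHTl

/-!
# Theorem B of Hall–Higman for linear groups
-/

set_option autoImplicit false

namespace Cfsg.Agent.Helper5.HHT

open Module
open scoped Pointwise

theorem conjEquiv_pow_apply {G : Type*} [Group G] (Qs : Subgroup G)
    (a : Subgroup.normalizer (Qs : Set G)) (i : ℕ) (g : Qs) :
    ((((Cfsg.Agent.Lead.conjEquiv Qs a : MulAut Qs) ^ i) g : Qs) : G) =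
      (a : G) ^ i * g * ((a : G) ^ i)⁻¹ := by
  induction i generalizing g with
  | zero => simp
  | succ i ih =>
    rw [pow_succ', MulAut.mul_apply, Cfsg.Agent.Lead.conjEquiv_apply, ih, pow_succ']
    group

theorem thmB_linear {F : Type*} [Field F] {p : ℕ} [Fact p.Prime] [CharP F p] {V : Type*}
    [AddCommGroup V] [Module F V] [FiniteDimensional F V] [Nontrivial V]
    (H : Subgroup (V ≃ₗ[F] V)) [Finite H] (hsol : Cfsg.IsPSolvable p H)
    (hOp : Cfsg.pCore p H = ⊥) (x : V ≃ₗ[F] V) (hx : x ∈ H) (n : ℕ) (hn1 : 1 ≤ n)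
    (hn : orderOf x = p ^ n) (r : ℕ) (hr : ((x : Module.End F V) - 1) ^ r = 0) :
    p ^ n ≤ r ∨ ∃ n₀ q m : ℕ, 1 ≤ n₀ ∧ n₀ ≤ n ∧ q.Prime ∧ 1 ≤ m ∧ p ^ n₀ - 1 = q ^ m ∧
      (∀ Q : Sylow q H, ¬ IsMulCommutative Q) ∧ p ^ (n - n₀) * (p ^ n₀ - 1) ≤ r := by
  classical
  have hp := (Fact.out : p.Prime)
  set xH : H := ⟨x, hx⟩ with hxH
  have hordH : orderOf xH = p ^ n := by rw [hxH, Subgroup.orderOf_mk, hn]
  obtain ⟨q, Qs, hq, hqp, hQq, hQne, hxnorm, hZ, hgen⟩ :=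
    exists_critical_subgroup p hsol hOp xH n hn1 hordH
  have hqf : Fact q.Prime := ⟨hq⟩
  have hxN : xH ^ (p ^ n) = 1 := by rw [← hordH]; exact pow_orderOf_eq_one xH
  -- the representation
  let K := AlgebraicClosure F
  set ρ : Representation K H (Fin (finrank F V) → K) := baseChangeRep K H with hρ
  have hρinj : Function.Injective ρ := baseChangeRep_injective K H
  have hfin : Fintype Qs := Fintype.ofFinite Qs
  set σ : Representation K Qs (Fin (finrank F V) → K) := ρ.comp Qs.subtype with hσ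
  set α : MulAut Qs := Cfsg.Agent.Lead.conjEquiv Qs ⟨xH, hxnorm⟩ with hα
  have hαpow : ∀ (i : ℕ) (g : Qs), (((α ^ i) g : Qs) : H) = xH ^ i * g * (xH ^ i)⁻¹ :=
    fun i g => conjEquiv_pow_apply Qs ⟨xH, hxnorm⟩ i g
  have hαN : α ^ (p ^ n) = 1 := by
    refine MulEquiv.ext fun g => Subtype.ext ?_
    rw [hαpow, hxN, one_mul, inv_one, mul_one]
    rfl
  have hAN : ρ xH ^ (p ^ n) = 1 := by rw [← map_pow, hxN, map_one]
  have hA : ∀ g : Qs, ρ xH * σ g = σ (α g) * ρ xH := by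
    intro g
    show ρ xH * ρ g.1 = ρ (α g).1 * ρ xH
    have h1 : ((α g : Qs) : H) = xH * g * xH⁻¹ := by
      have := hαpow 1 g
      rwa [pow_one, pow_one] at this
    rw [h1, ← map_mul, ← map_mul]
    congr 1
    group
  have hZ' : ∀ j, 0 < j → j < p ^ n → ∀ g : Qs, (α ^ j) g = g → ∀ h : Qs, g * h = h * g := by
    intro j hj0 hjn g hg h
    have h1 : xH ^ j * g.1 = g.1 * xH ^ j := by
      have := congrArg Subtype.val hg
      rw [hαpow] at this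
      calc xH ^ j * g.1 = (xH ^ j * g.1 * (xH ^ j)⁻¹) * xH ^ j := by group
        _ = g.1 * xH ^ j := by rw [this]
    exact Subtype.ext (hZ j hj0 hjn g.1 g.2 h1 h.1 h.2)
  have hgen' : Subgroup.closure {z : Qs | ∃ (i : ℕ) (g : Qs),
      z = ((α ^ (p ^ (n - 1))) ^ i) g * g⁻¹} = ⊤ := by
    rw [eq_top_iff]
    intro g _
    have hg := hgen g.2
    have hsub : {z : H | ∃ (i : ℕ), ∃ g ∈ Qs,
        z = (xH ^ (p ^ (n - 1))) ^ i * g * ((xH ^ (p ^ (n - 1))) ^ i)⁻¹ * g⁻¹} ⊆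
        Qs.subtype '' {z : Qs | ∃ (i : ℕ) (g : Qs), z = ((α ^ (p ^ (n - 1))) ^ i) g * g⁻¹} := by
      rintro _ ⟨i, g', hg', rfl⟩
      refine ⟨((α ^ (p ^ (n - 1))) ^ i) ⟨g', hg'⟩ * (⟨g', hg'⟩ : Qs)⁻¹, ⟨i, ⟨g', hg'⟩, rfl⟩, ?_⟩
      rw [← pow_mul, Subgroup.coe_subtype, Subgroup.coe_mul, hαpow, pow_mul]
      rfl
    have h2 := Subgroup.closure_mono hsub hg
    rw [← MonoidHom.map_closure] at h2
    obtain ⟨g', hg', hgg'⟩ := h2
    have : g' = g := Subtype.ext hgg'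
    rw [← this]; exact hg'
  have hnt : ∃ g : Qs, σ g ≠ 1 := by
    obtain ⟨g, hg1⟩ := (Subgroup.ne_bot_iff_exists_ne_one.mp hQne)
    refine ⟨g, ?_⟩
    intro h
    apply hg1
    have h3 : ρ g.1 = ρ 1 := by rw [map_one]; exact h
    exact Subtype.ext (by rw [hρinj h3]; rfl)
  have hrK : (ρ xH - 1) ^ r = 0 := by
    have h1 : ρ xH - 1 = baseChangeHom K ((x : Module.End F V) - 1) := by
      rw [map_sub, map_one]; rfl
    rw [h1, ← map_pow, hr, map_zero]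
  rcases thmB_abstract p q (Ne.symm hqp) hQq σ α (ρ xH) n hn1 hαN hAN hA hZ' hgen' hnt r hrK
    with h | ⟨n₀, m, h1, h2, h3, h4, h5, h6⟩
  · exact Or.inl h
  · right
    refine ⟨n₀, q, m, h1, h2, hq, h3, h4, ?_, h6⟩
    intro P hP
    apply h5
    obtain ⟨P₀, hP₀⟩ := hQq.exists_le_sylow
    obtain ⟨c, hc⟩ := MulAction.exists_smul_eq H P₀ P
    intro a b
    have hPeq : (P : Subgroup H) = MulAut.conj c • (P₀ : Subgroup H) := by
      rw [← hc]; rfl
    have hconjmem : ∀ a : Qs, c * a.1 * c⁻¹ ∈ (P : Subgroup H) := by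
      intro a
      have : MulAut.conj c • a.1 ∈ MulAut.conj c • (P₀ : Subgroup H) :=
        Subgroup.smul_mem_pointwise_smul _ _ _ (hP₀ a.2)
      rw [hPeq]
      rwa [MulAut.smul_def, MulAut.conj_apply] at this
    have ha := hconjmem a
    have hb := hconjmem b
    have hcomm := mul_comm' (⟨_, ha⟩ : P) ⟨_, hb⟩
    have hcomm' : (c * a.1 * c⁻¹) * (c * b.1 * c⁻¹) = (c * b.1 * c⁻¹) * (c * a.1 * c⁻¹) :=
      congrArg Subtype.val hcomm
    apply Subtype.ext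
    have e1 : (c * a.1 * c⁻¹) * (c * b.1 * c⁻¹) = c * (a.1 * b.1) * c⁻¹ := by group
    have e2 : (c * b.1 * c⁻¹) * (c * a.1 * c⁻¹) = c * (b.1 * a.1) * c⁻¹ := by group
    rw [e1, e2] at hcomm'
    exact mul_left_cancel (mul_right_cancel hcomm')

end Cfsg.Agent.Helper5.HHT
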