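import Mathlib
import Cfsg.Prelude.Def_Blocks
import Cfsg.Agent.Helper5.DefectOrder
import Cfsg.Agent.Helper5.BlockSupport
import Cfsg.Agent.S0906

set_option autoImplicit false
set_option linter.unusedSectionVars false
set_option linter.unusedVariables false

/-!
# Counting blocks

A determinant argument: if `A` and `W` have local-integer entries and `A * W` is congruent to the
identity, then `A` has at least as many columns as rows.  Application: the number of blocks of
defect at least `d` is at most the number of `p`-regular classes of defect at least `d`.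
-/

namespace Cfsg.Agent.Helper5.BCnt

open Cfsg Cfsg.Agent.Helper24 Cfsg.Agent.Helper5 Cfsg.Agent.Helper5.Loc Cfsg.Agent.Helper5.CC
open Cfsg.Agent.Helper14

variable {M : Ideal AlgInt}

/-- A product of local integers congruent to one is congruent to one. -/
theorem li_prod_sub_one (hMp : M.IsPrime) {ι : Type*} (s : Finset ι) (f : ι → ℂ)
    (h : ∀ i ∈ s, MemLocalIdeal M (f i - 1)) : MemLocalIdeal M (∏ i ∈ s, f i - 1) := by
  classical
  induction s using Finset.induction_on with
  | empty => simpa using memLocalIdeal_zero hMp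
  | insert a s ha ih =>
    rw [Finset.prod_insert ha]
    have h1 := h a (Finset.mem_insert_self a s)
    have h2 := ih fun i hi => h i (Finset.mem_insert_of_mem hi)
    have hlr : MemLocalRing M (∏ i ∈ s, f i) := by
      have := lr_add hMp (li_lr h2) (memLocalRing_one hMp)
      rwa [sub_add_cancel] at this
    have e : f a * ∏ i ∈ s, f i - 1 = (f a - 1) * ∏ i ∈ s, f i + (∏ i ∈ s, f i - 1) := by ring
    rw [e]
    exact li_add hMp (li_mul_right hMp h1 hlr) h2

/-- The determinant of a matrix congruent to the identity is congruent to one. -/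
theorem li_det_sub_one (hMp : M.IsPrime) {n : Type*} [Fintype n] [DecidableEq n]
    (P : Matrix n n ℂ) (h : ∀ i j, MemLocalIdeal M (P i j - if i = j then 1 else 0)) :
    MemLocalIdeal M (P.det - 1) := by
  classical
  have hlr : ∀ i j, MemLocalRing M (P i j) := by
    intro i j
    have h1 := li_lr (h i j)
    have h2 : MemLocalRing M (if i = j then (1 : ℂ) else 0) := by
      split_ifs
      · exact memLocalRing_one hMp
      · exact memLocalRing_zero hMp
    have := lr_add hMp h1 h2
    rwa [sub_add_cancel] at this
  rw [Matrix.det_apply]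
  rw [← Finset.add_sum_erase Finset.univ _ (Finset.mem_univ (1 : Equiv.Perm n))]
  have e1 : (Equiv.Perm.sign (1 : Equiv.Perm n)) • ∏ i, P ((1 : Equiv.Perm n) i) i = ∏ i, P i i := by
    simp
  rw [e1, add_sub_right_comm]
  apply li_add hMp
  · apply li_prod_sub_one hMp
    intro i _
    have := h i i
    rwa [if_pos rfl] at this
  · apply li_sum hMp
    intro σ hσ
    have hσ1 : σ ≠ 1 := (Finset.mem_erase.mp hσ).1
    obtain ⟨i, hi⟩ : ∃ i, σ i ≠ i := by
      by_contra hcon
      push Not at hcon
      exact hσ1 (Equiv.ext hcon)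
    have hprod : MemLocalIdeal M (∏ j, P (σ j) j) := by
      rw [← Finset.mul_prod_erase Finset.univ _ (Finset.mem_univ i)]
      apply li_mul_right hMp
      · have := h (σ i) i
        rwa [if_neg hi, sub_zero] at this
      · exact lr_prod hMp _ _ fun j _ => hlr _ _
    rcases Int.units_eq_one_or (Equiv.Perm.sign σ) with hs | hs
    · rw [hs, one_smul]; exact hprod
    · rw [hs]
      have : ((-1 : ℤˣ)) • (∏ j, P (σ j) j) = - ∏ j, P (σ j) j := by simp
      rw [this]
      exact li_neg hprod

/-- **Rank bound.** If `A * W` is congruent to the identity then `A` has at least as many columns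
as rows. -/
theorem card_le_card_of_mul_congr_one (hMp : M.IsPrime) {n m : Type*} [Fintype n] [Fintype m]
    [DecidableEq n] [DecidableEq m]
    (A : Matrix n m ℂ) (W : Matrix m n ℂ)
    (h : ∀ i j, MemLocalIdeal M ((A * W) i j - if i = j then 1 else 0)) :
    Fintype.card n ≤ Fintype.card m := by
  have hdet := li_det_sub_one hMp (A * W) h
  have hne : (A * W).det ≠ 0 := by
    intro h0
    rw [h0, zero_sub] at hdet
    have := li_neg hdet
    rw [neg_neg] at this
    exact not_memLocalIdeal_one hMp this
  have hunit : IsUnit (A * W) := (Matrix.isUnit_iff_isUnit_det _).mpr (isUnit_iff_ne_zero.mpr hne)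
  have h1 : (A * W).rank = Fintype.card n := Matrix.rank_of_isUnit _ hunit
  have h2 : (A * W).rank ≤ A.rank := Matrix.rank_mul_le_left A W
  have h3 : A.rank ≤ Fintype.card m := Matrix.rank_le_card_width A
  omega

section Blocks

variable {G : Type*} [Group G] [Fintype G]

/-- If the central character of a member of `B` is a unit at `u`, the class of `u` has defect at
least the defect of `B`. -/
theorem blockDefect_le_of_centralChar [Fintype (IrrCharacter G)] {p : ℕ} [hp : Fact p.Prime]
    (hM : IsPModular p M) {B : Set (IrrCharacter G)} (hB : IsPBlock M B) {χ : IrrCharacter G}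
    (hχ : χ ∈ B) (u : G) (hu : ¬ MemLocalIdeal M (centralChar (χ : G → ℂ) u)) :
    blockDefect p B ≤ (Nat.card (Subgroup.centralizer ({u} : Set G))).factorization p := by
  classical
  have hMp := isPrime_of_isPModular hM
  have : Finite G := Finite.of_fintype G
  obtain ⟨w, hw⟩ := Cfsg.Agent.S0906.result p M hM B hB
  obtain ⟨Wg, hWg⟩ := exists_isSylowIn (p := p) (Subgroup.centralizer ({w} : Set G))
  obtain ⟨Ug, hUg⟩ := exists_isSylowIn (p := p) (Subgroup.centralizer ({u} : Set G))
  have hD : IsDefectGroup p M B Wg := isDefectGroup_iff.mpr ⟨w, hw, hWg⟩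
  have hcardW : Nat.card Wg = p ^ blockDefect p B := card_defectGroup hM hB hD
  obtain ⟨x, hx⟩ := minmax_sylow hM B hB u w
    (not_memLocalIdeal_centralChar_of_mem hMp hB ⟨χ, hχ, hu⟩) hw.2.1 Ug Wg hUg hWg
  have hcardU : Nat.card Ug =
      p ^ (Nat.card (Subgroup.centralizer ({u} : Set G))).factorization p := by
    rw [← hUg.toSylow_map, card_map_subtype]
    exact (hUg.toSylow).card_eq_multiplicity
  have hcardUx : Nat.card (Ug.map (cj x)) = Nat.card Ug :=
    Subgroup.card_map_of_injective (cj_injective x)
  have hle : Nat.card Wg ≤ Nat.card (Ug.map (cj x)) := Subgroup.card_le_of_le hx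
  rw [hcardW, hcardUx, hcardU] at hle
  exact (Nat.pow_le_pow_iff_right hp.out.one_lt).mp hle

/-- **The number of blocks of defect at least `d` is at most the number of `p`-regular classes of
defect at least `d`.** -/
theorem card_blocks_le_card_classes {p : ℕ} [hp : Fact p.Prime]
    (hM : IsPModular p M) (d : ℕ) :
    Nat.card {B : Set (IrrCharacter G) // IsPBlock M B ∧ d ≤ blockDefect p B} ≤
      Nat.card {C : ConjClasses G // ∃ g : G, ConjClasses.mk g = C ∧ IsPRegular p g ∧
        d ≤ (Nat.card (Subgroup.centralizer ({g} : Set G))).factorization p} := by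
  classical
  have hMp := isPrime_of_isPModular hM
  have : Finite G := Finite.of_fintype G
  have : Fintype (IrrCharacter G) := Fintype.ofFinite _
  have : Fintype (ConjClasses G) := Fintype.ofFinite _
  have : Fintype {B : Set (IrrCharacter G) // IsPBlock M B ∧ d ≤ blockDefect p B} :=
    Fintype.ofFinite _
  rw [Nat.card_eq_fintype_card, Nat.card_eq_fintype_card]
  have hch : ∀ b : {B : Set (IrrCharacter G) // IsPBlock M B ∧ d ≤ blockDefect p B},
      ∃ χ : IrrCharacter G, χ ∈ b.1 := fun b => IsPBlock.nonempty hMp b.2.1
  choose ch hch using hch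
  let A : Matrix {B : Set (IrrCharacter G) // IsPBlock M B ∧ d ≤ blockDefect p B}
      {C : ConjClasses G // ∃ g : G, ConjClasses.mk g = C ∧ IsPRegular p g ∧
        d ≤ (Nat.card (Subgroup.centralizer ({g} : Set G))).factorization p} ℂ :=
    fun b K => blockCoeff b.1 (rep K.1)
  let W : Matrix {C : ConjClasses G // ∃ g : G, ConjClasses.mk g = C ∧ IsPRegular p g ∧
        d ≤ (Nat.card (Subgroup.centralizer ({g} : Set G))).factorization p}
      {B : Set (IrrCharacter G) // IsPBlock M B ∧ d ≤ blockDefect p B} ℂ :=
    fun K b => centralChar (ch b : G → ℂ) (rep K.1)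
  apply card_le_card_of_mul_congr_one hMp A W
  intro b b'
  have hfull : (∑ K : ConjClasses G, blockCoeff b.1 (rep K) * centralChar (ch b' : G → ℂ) (rep K))
      = if b = b' then 1 else 0 := by
    rw [← act_eq_sum_centralChar (isClassFunction_blockCoeff b.1), act_blockCoeff]
    by_cases hbb : b = b'
    · rw [if_pos hbb, if_pos (hbb ▸ hch b')]
    · rw [if_neg hbb, if_neg]
      intro hmem
      apply hbb
      apply Subtype.ext
      rw [IsPBlock_eq_blockOf hMp b.2.1 hmem, IsPBlock_eq_blockOf hMp b'.2.1 (hch b')]
  have hsplit : (A * W) b b' = ∑ K ∈ Finset.univ.filter (fun C : ConjClasses G =>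
      ∃ g : G, ConjClasses.mk g = C ∧ IsPRegular p g ∧
        d ≤ (Nat.card (Subgroup.centralizer ({g} : Set G))).factorization p),
      blockCoeff b.1 (rep K) * centralChar (ch b' : G → ℂ) (rep K) := by
    rw [Matrix.mul_apply]
    symm
    exact Finset.sum_subtype _ (by simp) (fun K : ConjClasses G =>
      blockCoeff b.1 (rep K) * centralChar (ch b' : G → ℂ) (rep K))
  rw [hsplit, ← hfull, ← Finset.sum_filter_add_sum_filter_not Finset.univ (fun C : ConjClasses G =>
      ∃ g : G, ConjClasses.mk g = C ∧ IsPRegular p g ∧
        d ≤ (Nat.card (Subgroup.centralizer ({g} : Set G))).factorization p), sub_add_cancel_left]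
  apply li_neg
  apply li_sum hMp
  intro K hK
  have hK' := (Finset.mem_filter.mp hK).2
  by_cases hreg : p ∣ orderOf (rep K)
  · rw [blockCoeff_eq_zero_of_singular hM b.2.1 _ hreg, zero_mul]
    exact memLocalIdeal_zero hMp
  · apply li_mul_left hMp (osima hMp b.1 b.2.1 _)
    by_contra hcon
    apply hK'
    refine ⟨rep K, mk_rep K, hreg, ?_⟩
    exact b'.2.2.trans (blockDefect_le_of_centralChar hM b'.2.1 (hch b') _ hcon)

end Blocks

end Cfsg.Agent.Helper5.BCnt
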