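import Mathlib
import Cfsg.Prelude.Def_Characters

/-!
# Splitting an elementary group into coprime parts

An elementary group `E` (in the sense of `Cfsg.IsElementary`) whose order divides `m * n` with
`m`, `n` coprime is an internal direct product `A * B` with `|A| ∣ m`, `|B| ∣ n`.
-/

set_option autoImplicit false

namespace Cfsg.Agent.Helper5

open Cfsg

variable {E : Type*} [Group E]

/-- A subgroup of the centre is normal. -/
theorem normal_of_le_center' {C : Subgroup E} (hC : C ≤ Subgroup.center E) : C.Normal := by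
  refine ⟨fun c hc g => ?_⟩
  have h := Subgroup.mem_center_iff.mp (hC hc) g
  have : g * c * g⁻¹ = c := by
    rw [h]; group
  rw [this]
  exact hc

/-- Core lemma: a central cyclic Hall subgroup with a normal complement. -/
theorem exists_central_hall [Finite E] {q : ℕ} (hE : IsElementary q E) (r s : ℕ)
    (hrs : Nat.Coprime r s) (hs0 : s ≠ 0) (hcard : Nat.card E ∣ r * s)
    (hq : ∀ k : ℕ, q ^ k ∣ Nat.card E → Nat.Coprime (q ^ k) r) :
    ∃ C C' : Subgroup E, C ≤ Subgroup.center E ∧ C'.Normal ∧ Subgroup.IsComplement' C C' ∧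
      Nat.card C ∣ r ∧ Nat.card C' ∣ s := by
  obtain ⟨x, hxc, hxq, k, hk⟩ := hE
  have hEpos : 0 < Nat.card E := Nat.card_pos
  set d := orderOf x with hd
  have hdpos : 0 < d := orderOf_pos x
  have hZcard : Nat.card (Subgroup.zpowers x) = d := Nat.card_zpowers x
  have hEeq : d * q ^ k = Nat.card E := by
    rw [← hZcard, ← hk]
    exact Subgroup.card_mul_index _
  have hqk : Nat.Coprime (q ^ k) r := hq k (Dvd.intro_left _ hEeq)
  set C : Subgroup E := Subgroup.zpowers (x ^ s) with hCdef
  have hCc : C ≤ Subgroup.center E := by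
    rw [hCdef, Subgroup.zpowers_le]
    exact (Subgroup.center E).pow_mem hxc s
  have hCn : C.Normal := normal_of_le_center' hCc
  set g := Nat.gcd d s with hg
  have hgpos : 0 < g := Nat.gcd_pos_of_pos_left _ hdpos
  have hCcard : Nat.card C = d / g := by
    rw [hCdef, Nat.card_zpowers, orderOf_pow' _ hs0]
  have hgd : g ∣ d := Nat.gcd_dvd_left d s
  have hgs : g ∣ s := Nat.gcd_dvd_right d s
  have hdr : d / g ∣ r := by
    have h1 : d ∣ r * s := (Dvd.intro _ hEeq).trans hcard
    have hcop : Nat.Coprime (d / g) (s / g) := Nat.coprime_div_gcd_div_gcd hgpos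
    have h2 : d / g ∣ r * (s / g) := by
      have h3 : g * (d / g) ∣ g * (r * (s / g)) := by
        rw [Nat.mul_div_cancel' hgd]
        have : g * (r * (s / g)) = r * (g * (s / g)) := by ring
        rw [this, Nat.mul_div_cancel' hgs]
        exact h1
      exact Nat.dvd_of_mul_dvd_mul_left hgpos h3
    exact hcop.dvd_of_dvd_mul_right h2
  have hidx : C.index = g * q ^ k := by
    have h1 : Nat.card C * C.index = Nat.card E := Subgroup.card_mul_index C
    rw [hCcard, ← hEeq] at h1
    have h2 : d / g * C.index = d / g * (g * q ^ k) := by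
      rw [h1, ← mul_assoc, Nat.div_mul_cancel hgd]
    have hpos : 0 < d / g := Nat.div_pos (Nat.le_of_dvd hdpos hgd) hgpos
    exact Nat.eq_of_mul_eq_mul_left hpos h2
  have hidxr : Nat.Coprime C.index r := by
    rw [hidx]
    apply Nat.Coprime.mul_left _ hqk
    exact (Nat.Coprime.coprime_dvd_left hgs hrs.symm)
  have hcopC : Nat.Coprime (Nat.card C) C.index := by
    rw [hCcard]
    exact (Nat.Coprime.coprime_dvd_left hdr hidxr.symm)
  obtain ⟨C', hC'⟩ := Subgroup.exists_right_complement'_of_coprime hcopC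
  have hC'card : Nat.card C' = C.index := by
    have h1 := hC'.card_mul_card
    have h2 : Nat.card C * C.index = Nat.card E := Subgroup.card_mul_index C
    have hpos : 0 < Nat.card C := Nat.card_pos
    exact Nat.eq_of_mul_eq_mul_left hpos (h1.trans h2.symm)
  refine ⟨C, C', hCc, ?_, hC', ?_, ?_⟩
  · -- `C'` is normal since `C` is central
    refine ⟨fun c' hc' t => ?_⟩
    obtain ⟨⟨c, c''⟩, hcc⟩ := hC'.2 t
    have ht : t = (c : E) * (c'' : E) := hcc.symm
    have hcen := Subgroup.mem_center_iff.mp (hCc c.2)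
    have : t * c' * t⁻¹ = (c'' : E) * c' * (c'' : E)⁻¹ := by
      rw [ht]
      calc (c : E) * c'' * c' * ((c : E) * c'')⁻¹
          = (c : E) * (c'' * c' * (c'' : E)⁻¹) * (c : E)⁻¹ := by group
        _ = (c'' * c' * (c'' : E)⁻¹) * (c : E) * (c : E)⁻¹ := by rw [hcen]
        _ = c'' * c' * (c'' : E)⁻¹ := by group
    rw [this]
    exact C'.mul_mem (C'.mul_mem c''.2 hc') (C'.inv_mem c''.2)
  · rw [hCcard]; exact hdr
  · rw [hC'card]
    have h1 : C.index ∣ r * s := (Subgroup.index_dvd_card C).trans hcard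
    exact hidxr.dvd_of_dvd_mul_left h1

/-- **Structure lemma.** An elementary group whose order divides `m * n` (`m`, `n` coprime) is an
internal product `A * B` with `A` normal, `|A| ∣ m`, `|B| ∣ n`, elementwise commuting. -/
theorem exists_coprime_split [Finite E] {q : ℕ} (hqp : q.Prime) (hE : IsElementary q E)
    (m n : ℕ) (hmn : Nat.Coprime m n) (hm0 : m ≠ 0) (hn0 : n ≠ 0) (hcard : Nat.card E ∣ m * n) :
    ∃ A B : Subgroup E, A.Normal ∧ (∀ a ∈ A, ∀ b ∈ B, a * b = b * a) ∧
      (∀ e : E, ∃ a ∈ A, ∃ b ∈ B, e = a * b) ∧ Nat.card A ∣ m ∧ Nat.card B ∣ n := by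
  by_cases hqm : q ∣ m
  · -- the `q`-part goes with `m`: the central part is `B`
    have hq : ∀ k : ℕ, q ^ k ∣ Nat.card E → Nat.Coprime (q ^ k) n := by
      intro k _
      apply Nat.Coprime.pow_left
      rw [Nat.Prime.coprime_iff_not_dvd hqp]
      intro hqn
      have := Nat.dvd_gcd hqm hqn
      rw [hmn] at this
      exact hqp.one_lt.ne' (Nat.dvd_one.mp this)
    obtain ⟨C, C', hCc, hC'n, hcompl, hCr, hC's⟩ :=
      exists_central_hall hE n m hmn.symm hm0 (by rwa [mul_comm]) hq
    refine ⟨C', C, hC'n, ?_, ?_, hC's, hCr⟩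
    · intro a _ b hb
      exact (Subgroup.mem_center_iff.mp (hCc hb) a)
    · intro e
      obtain ⟨⟨c, c'⟩, hcc⟩ := hcompl.2 e
      refine ⟨c', c'.2, c, c.2, ?_⟩
      have : e = (c : E) * (c' : E) := hcc.symm
      rw [this]
      exact (Subgroup.mem_center_iff.mp (hCc c.2) c').symm
  · have hq : ∀ k : ℕ, q ^ k ∣ Nat.card E → Nat.Coprime (q ^ k) m := by
      intro k _
      apply Nat.Coprime.pow_left
      rwa [Nat.Prime.coprime_iff_not_dvd hqp]
    obtain ⟨C, C', hCc, hC'n, hcompl, hCr, hC's⟩ :=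
      exists_central_hall hE m n hmn hn0 hcard hq
    refine ⟨C, C', normal_of_le_center' hCc, ?_, ?_, hCr, hC's⟩
    · intro a ha b _
      exact (Subgroup.mem_center_iff.mp (hCc ha) b).symm
    · intro e
      obtain ⟨⟨c, c'⟩, hcc⟩ := hcompl.2 e
      exact ⟨c, c.2, c', c'.2, hcc.symm⟩

end Cfsg.Agent.Helper5
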