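import Mathlib
import Cfsg.Prelude.Def_Blocks
import Cfsg.Agent.Helper5.PPart
import Cfsg.Agent.Helper5.BrauerFormula
import Cfsg.Agent.Helper5.ElementarySplit
import Cfsg.Agent.Helper18.FocalFusion
import Cfsg.Agent.Helper23.CentralChar
import Cfsg.Agent.Helper24.BrauerChar
import Cfsg.Agent.Helper24.Generalized
import Cfsg.Agent.Helper5.DefectOrder

set_option autoImplicit false
set_option linter.unusedSectionVars false
set_option linter.unusedVariables false

/-!
# Relative defect zero and twisting by characters of a central `p`-subgroup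

Let `D` be a central `p`-subgroup of `G` and `ψ` an irreducible character with
`ν_p(ψ(1)) = ν_p(|G : D|)`.  Then `ψ` vanishes at every element whose `p`-part is not in `D`, and
for every linear character `μ` of `D` the function `g ↦ μ(g_p) ψ(g)` (zero when `g_p ∉ D`) is an
irreducible character.
-/

namespace Cfsg.Agent.Helper5.RDZ

open Cfsg Cfsg.Agent.Helper24 Cfsg.Agent.Helper5

variable {G : Type*} [Group G]

/-- For a central `z` of `p`-power order, `z` is the `p`-part of `z * x` iff `x` is `p`-regular. -/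
theorem isPPart_mul_central_iff {p : ℕ} {z x : G} (hz : z ∈ Subgroup.center G)
    (hzp : ∃ k : ℕ, orderOf z = p ^ k) : IsPPart p (z * x) z ↔ ¬ p ∣ orderOf x := by
  constructor
  · rintro ⟨y, hy, -, -, hyp⟩
    have : y = x := mul_left_cancel hy
    rwa [this] at hyp
  · intro hx
    exact ⟨x, rfl, (Subgroup.mem_center_iff.mp hz x).symm, hzp, hx⟩

/-- The `p`-part of an element is a power of it. -/
theorem IsPPart.mem_zpowers [Finite G] {p : ℕ} [hp : Fact p.Prime] {g x : G} (h : IsPPart p g x) :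
    x ∈ Subgroup.zpowers g := by
  obtain ⟨z₀, y₀, hzy, hzz, hyz, ⟨k, hk⟩, hcop⟩ := Cfsg.Agent.Helper18.exists_pPart_decomp p g
  have hcomm : Commute z₀ y₀ := by
    obtain ⟨i, rfl⟩ := Subgroup.mem_zpowers_iff.mp hzz
    obtain ⟨j, rfl⟩ := Subgroup.mem_zpowers_iff.mp hyz
    exact (Commute.refl g).zpow_zpow i j
  have hyreg : ¬ p ∣ orderOf y₀ := fun hd => by
    have := Nat.Coprime.eq_one_of_dvd hcop.symm hd
    exact hp.out.one_lt.ne' this
  have hpp : IsPPart p g z₀ := ⟨y₀, hzy.symm, hcomm, ⟨k, hk⟩, hyreg⟩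
  rw [isPPart_unique h hpp]
  exact hzz

theorem exists_isPPart [Finite G] (p : ℕ) [hp : Fact p.Prime] (g : G) : ∃ x, IsPPart p g x := by
  obtain ⟨z₀, y₀, hzy, hzz, hyz, ⟨k, hk⟩, hcop⟩ := Cfsg.Agent.Helper18.exists_pPart_decomp p g
  have hcomm : Commute z₀ y₀ := by
    obtain ⟨i, rfl⟩ := Subgroup.mem_zpowers_iff.mp hzz
    obtain ⟨j, rfl⟩ := Subgroup.mem_zpowers_iff.mp hyz
    exact (Commute.refl g).zpow_zpow i j
  have hyreg : ¬ p ∣ orderOf y₀ := fun hd => by
    have := Nat.Coprime.eq_one_of_dvd hcop.symm hd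
    exact hp.out.one_lt.ne' this
  exact ⟨z₀, y₀, hzy.symm, hcomm, ⟨k, hk⟩, hyreg⟩

/-- Conjugation does not move central `p`-parts. -/
theorem isPPart_conj_central_iff {p : ℕ} {g z : G} (hz : z ∈ Subgroup.center G) (t : G) :
    IsPPart p (t * g * t⁻¹) z ↔ IsPPart p g z := by
  have hzt : ∀ s : G, s * z * s⁻¹ = z := by
    intro s
    rw [(Subgroup.mem_center_iff.mp hz s), mul_inv_cancel_right]
  constructor
  · intro h
    have := isPPart_conj' h t⁻¹
    rw [hzt] at this
    have e : t⁻¹ * (t * g * t⁻¹) * t⁻¹⁻¹ = g := by group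
    rwa [e] at this
  · intro h
    have := isPPart_conj' h t
    rwa [hzt] at this

section Tw

variable (p : ℕ) (D : Subgroup G) [Fintype D]

/-- The twisting function: `μ z` at the elements with `p`-part `z ∈ D`, zero at the elements whose
`p`-part is not in `D`. -/
noncomputable def tw (μ : D → ℂ) (g : G) : ℂ := by
  classical exact ∑ z : D, if IsPPart p g (z : G) then μ z else 0

variable {p D}

theorem tw_conj (hD : D ≤ Subgroup.center G) (μ : D → ℂ) (g t : G) :
    tw p D μ (t * g * t⁻¹) = tw p D μ g := by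
  classical
  unfold tw
  refine Finset.sum_congr rfl fun z _ => ?_
  rw [if_congr (isPPart_conj_central_iff (hD z.2) t) rfl rfl]

/-- The value of `tw` at an element with `p`-part `z ∈ D`. -/
theorem tw_of_isPPart [hp : Fact p.Prime] (μ : D → ℂ) {g : G} (z : D) (h : IsPPart p g (z : G)) :
    tw p D μ g = μ z := by
  classical
  unfold tw
  rw [Finset.sum_eq_single z]
  · rw [if_pos h]
  · intro w _ hw
    rw [if_neg]
    intro h'
    exact hw (Subtype.ext (isPPart_unique h' h))
  · intro h'; exact absurd (Finset.mem_univ z) h'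

/-- The value of `tw` at an element whose `p`-part is not in `D`. -/
theorem tw_of_not_mem [hp : Fact p.Prime] (μ : D → ℂ) {g x : G} (h : IsPPart p g x) (hx : x ∉ D) :
    tw p D μ g = 0 := by
  classical
  unfold tw
  apply Finset.sum_eq_zero
  intro z _
  rw [if_neg]
  intro h'
  apply hx
  rw [isPPart_unique h h']
  exact z.2

/-- **Summation against `tw`.** -/
theorem sum_tw_mul [Fintype G] [hp : Fact p.Prime] (hD : D ≤ Subgroup.center G) (hDp : IsPGroup p D) (μ : D → ℂ)
    (H : G → ℂ) :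
    ∑ g : G, tw p D μ g * H g =
      ∑ z : D, μ z * ∑ x : G, if ¬ p ∣ orderOf x then H ((z : G) * x) else 0 := by
  classical
  unfold tw
  simp_rw [Finset.sum_mul]
  rw [Finset.sum_comm]
  refine Finset.sum_congr rfl fun z _ => ?_
  rw [Finset.mul_sum]
  rw [← Equiv.sum_comp (Equiv.mulLeft (z : G))]
  refine Finset.sum_congr rfl fun x _ => ?_
  have hzp : ∃ k : ℕ, orderOf (z : G) = p ^ k := by
    obtain ⟨k, hk⟩ := (IsPGroup.iff_orderOf.mp hDp) z
    exact ⟨k, by rw [Subgroup.orderOf_coe, hk]⟩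
  have hiff := isPPart_mul_central_iff (x := x) (hD z.2) hzp
  show (if IsPPart p ((z : G) * x) (z : G) then μ z else 0) * H ((z : G) * x) =
    μ z * if ¬ p ∣ orderOf x then H ((z : G) * x) else 0
  by_cases hx : p ∣ orderOf x
  · have : ¬ IsPPart p ((z : G) * x) (z : G) := fun h => hiff.mp h hx
    simp [this, hx]
  · have : IsPPart p ((z : G) * x) (z : G) := hiff.mpr hx
    simp [this, hx]

open Classical in
/-- **Summation against `tw` over a subgroup.** -/
theorem sum_tw_mul_subgroup [Finite G] [hp : Fact p.Prime] (hD : D ≤ Subgroup.center G)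
    (hDp : IsPGroup p D) (μ : D → ℂ) (E : Subgroup G) [Fintype E] (H : E → ℂ) :
    ∑ e : E, tw p D μ (e : G) * H e =
      ∑ z : D, if h : (z : G) ∈ E then
        μ z * ∑ x : E, (if ¬ p ∣ orderOf x then H (⟨(z : G), h⟩ * x) else 0) else 0 := by
  classical
  unfold tw
  simp_rw [Finset.sum_mul]
  rw [Finset.sum_comm]
  refine Finset.sum_congr rfl fun z _ => ?_
  by_cases h : (z : G) ∈ E
  · rw [dif_pos h, Finset.mul_sum]
    rw [← Equiv.sum_comp (Equiv.mulLeft (⟨(z : G), h⟩ : E))]
    refine Finset.sum_congr rfl fun x _ => ?_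
    have hzp : ∃ k : ℕ, orderOf (z : G) = p ^ k := by
      obtain ⟨k, hk⟩ := (IsPGroup.iff_orderOf.mp hDp) z
      exact ⟨k, by rw [Subgroup.orderOf_coe, hk]⟩
    have hiff := isPPart_mul_central_iff (x := (x : G)) (hD z.2) hzp
    rw [Subgroup.orderOf_coe] at hiff
    show (if IsPPart p (((⟨(z : G), h⟩ : E) * x : E) : G) (z : G) then μ z else 0) *
      H ((⟨(z : G), h⟩ : E) * x) =
      μ z * if ¬ p ∣ orderOf x then H ((⟨(z : G), h⟩ : E) * x) else 0
    have hcoe : (((⟨(z : G), h⟩ : E) * x : E) : G) = (z : G) * (x : G) := rfl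
    rw [hcoe]
    by_cases hx : p ∣ orderOf x
    · have : ¬ IsPPart p ((z : G) * (x : G)) (z : G) := fun h' => hiff.mp h' hx
      simp [this, hx]
    · have : IsPPart p ((z : G) * (x : G)) (z : G) := hiff.mpr hx
      simp [this, hx]
  · rw [dif_neg h]
    apply Finset.sum_eq_zero
    intro e _
    rw [if_neg, zero_mul]
    intro h'
    apply h
    have h1 := IsPPart.mem_zpowers h'
    exact (Subgroup.zpowers_le.mpr e.2) h1

end Tw

/-- The sum of a homomorphism to `ℂ` over a finite group is a natural number (the order or zero). -/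
theorem sum_hom_eq {Z : Type*} [Group Z] [Fintype Z] (κ : Z →* ℂ) :
    ∑ z, κ z = if ∀ z, κ z = 1 then (Fintype.card Z : ℂ) else 0 := by
  classical
  by_cases h : ∀ z, κ z = 1
  · rw [if_pos h]
    simp [h]
  · rw [if_neg h]
    push Not at h
    obtain ⟨z₀, hz₀⟩ := h
    have h1 : ∑ z, κ z = κ z₀ * ∑ z, κ z := by
      rw [Finset.mul_sum, ← Equiv.sum_comp (Equiv.mulLeft z₀)]
      refine Finset.sum_congr rfl fun z _ => ?_
      simp
    have h2 : (1 - κ z₀) * ∑ z, κ z = 0 := by
      rw [sub_mul, one_mul, ← h1, sub_self]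
    rcases mul_eq_zero.mp h2 with h3 | h3
    · exact absurd (sub_eq_zero.mp h3).symm hz₀
    · exact h3

theorem exists_nat_sum_hom {Z : Type*} [Group Z] [Fintype Z] (κ : Z →* ℂ) :
    ∃ N : ℕ, ∑ z, κ z = N := by
  classical
  rw [sum_hom_eq]
  split_ifs
  · exact ⟨_, rfl⟩
  · exact ⟨0, by simp⟩

/-- In a split `E = A * B` with `A` a `p'`-group and `B` a `p`-group, the `p`-regular elements are
the elements of `A`. -/
theorem regular_iff_mem_of_split {E : Type*} [Group E] [Finite E] {p : ℕ} [hp : Fact p.Prime]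
    (A B : Subgroup E) (hcomm : ∀ a ∈ A, ∀ b ∈ B, a * b = b * a)
    (hprod : ∀ e : E, ∃ a ∈ A, ∃ b ∈ B, e = a * b) (m a : ℕ) (hpm : ¬ p ∣ m)
    (hAm : Nat.card A ∣ m) (hBn : Nat.card B ∣ p ^ a) (x : E) :
    ¬ p ∣ orderOf x ↔ x ∈ A := by
  constructor
  · intro hx
    obtain ⟨u, hu, b, hb, rfl⟩ := hprod x
    have hum : u ^ m = 1 := by
      have h1 : orderOf u ∣ Nat.card A := Subgroup.orderOf_dvd_natCard A hu
      exact orderOf_dvd_iff_pow_eq_one.mp (h1.trans hAm)
    have hbn : b ^ (p ^ a) = 1 := by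
      have h1 : orderOf b ∣ Nat.card B := Subgroup.orderOf_dvd_natCard B hb
      exact orderOf_dvd_iff_pow_eq_one.mp (h1.trans hBn)
    set N := orderOf (u * b) * m with hN
    have hcm : Commute u b := hcomm u hu b hb
    have h1 : (u * b) ^ N = 1 := by rw [hN, pow_mul, pow_orderOf_eq_one, one_pow]
    have h2 : b ^ N = 1 := by
      rw [hcm.mul_pow, hN, mul_comm (orderOf (u * b)) m, pow_mul u, hum, one_pow, one_mul] at h1
      rw [hN, mul_comm]
      exact h1
    have hcop : Nat.Coprime N (p ^ a) := by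
      apply Nat.Coprime.pow_right
      apply Nat.Coprime.mul_left
      · exact ((Nat.Prime.coprime_iff_not_dvd hp.out).2 hx).symm
      · exact ((Nat.Prime.coprime_iff_not_dvd hp.out).2 hpm).symm
    have hb1 : b = 1 := by
      have h3 : orderOf b ∣ N := orderOf_dvd_of_pow_eq_one h2
      have h4 : orderOf b ∣ p ^ a := orderOf_dvd_of_pow_eq_one hbn
      have := Nat.dvd_gcd h3 h4
      rw [hcop.gcd_eq_one] at this
      exact orderOf_eq_one_iff.mp (Nat.dvd_one.mp this)
    rw [hb1, mul_one]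
    exact hu
  · intro hx hdvd
    have h1 : orderOf x ∣ Nat.card A := Subgroup.orderOf_dvd_natCard A hx
    exact hpm (hdvd.trans (h1.trans hAm))

section Elem

variable [Fintype G] {p : ℕ} [hp : Fact p.Prime] {D : Subgroup G} [Fintype D]

/-- **Elementary subgroups.** The restriction of `|G|_p * tw μ` to an elementary subgroup is a
generalized character. -/
theorem isGeneralizedCharacter_tw_restrict (hD : D ≤ Subgroup.center G) (hDp : IsPGroup p D)
    (μ : D →* ℂ) (E : Subgroup G) (q : ℕ) (hq : q.Prime) (hE : IsElementary q E) :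
    IsGeneralizedCharacter E (fun e : E =>
      ((p ^ (Nat.card G).factorization p : ℕ) : ℂ) * tw p D μ (e : G)) := by
  classical
  have : Fintype E := Fintype.ofFinite _
  have : Fintype (IrrCharacter E) := Fintype.ofFinite _
  set a := (Nat.card G).factorization p with ha
  set m := Nat.card G / p ^ a with hm
  have hGpos : 0 < Nat.card G := Nat.card_pos
  have hmn : Nat.card G = m * p ^ a := (Nat.div_mul_cancel (Nat.ordProj_dvd _ _)).symm
  have hpm : ¬ p ∣ m := Nat.not_dvd_ordCompl hp.out hGpos.ne'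
  have hcop : Nat.Coprime m (p ^ a) :=
    Nat.Coprime.pow_right a ((Nat.Prime.coprime_iff_not_dvd hp.out).2 hpm).symm
  have hm0 : m ≠ 0 := fun h => by rw [h, zero_mul] at hmn; omega
  have hn0 : p ^ a ≠ 0 := (pow_pos hp.out.pos a).ne'
  have hEcard : Nat.card E ∣ m * p ^ a := by
    rw [← hmn]; exact Subgroup.card_subgroup_dvd_card E
  obtain ⟨A, B, hAn, hcomm, hprod, hAm, hBn⟩ :=
    exists_coprime_split hq hE m (p ^ a) hcop hm0 hn0 hEcard
  have : Fintype A := Fintype.ofFinite _
  have : Fintype (IrrCharacter A) := Fintype.ofFinite _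
  have hreg := regular_iff_mem_of_split A B hcomm hprod m a hpm hAm hBn
  have hcf : IsClassFunction E (fun e : E => ((p ^ a : ℕ) : ℂ) * tw p D μ (e : G)) := by
    intro e t
    show _ * tw p D μ ((t * e * t⁻¹ : E) : G) = _
    rw [show ((t * e * t⁻¹ : E) : G) = (t : G) * (e : G) * (t : G)⁻¹ from rfl, tw_conj hD]
  apply isGeneralizedCharacter_of_classInner_int hcf
  intro ξ
  obtain ⟨ω, hω⟩ := Cfsg.Agent.Helper23.exists_central_character ξ
  have hzc : ∀ (z : D) (h : (z : G) ∈ E), (⟨(z : G), h⟩ : E) ∈ Subgroup.center E := by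
    intro z h
    rw [Subgroup.mem_center_iff]
    intro e
    apply Subtype.ext
    exact Subgroup.mem_center_iff.mp (hD z.2) (e : G)
  -- the index of `A` divides `p ^ a`
  have hidx : A.index ∣ p ^ a := by
    have hsurj : Function.Surjective ((QuotientGroup.mk' A).comp B.subtype) := by
      intro q'
      obtain ⟨e, rfl⟩ := QuotientGroup.mk_surjective q'
      obtain ⟨u, hu, b, hb, rfl⟩ := hprod e
      refine ⟨⟨b, hb⟩, ?_⟩
      show (QuotientGroup.mk b : E ⧸ A) = QuotientGroup.mk (u * b)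
      rw [QuotientGroup.mk_mul, (QuotientGroup.eq_one_iff u).mpr hu, one_mul]
    have := Subgroup.card_dvd_of_surjective _ hsurj
    rw [Subgroup.index_eq_card]
    exact this.trans hBn
  obtain ⟨c, hc⟩ := hidx
  -- the regular sum
  have hR : ∃ k : ℤ, (∑ x : E, if ¬ p ∣ orderOf x then (starRingEnd ℂ) ((ξ : E → ℂ) x) else 0) =
      (Nat.card A : ℂ) * k := by
    have h1 : IsGeneralizedCharacter A (fun x : A => (ξ : E → ℂ) x) :=
      IsCharacter.isGeneralizedCharacter
        (Cfsg.Agent.Helper8.isCharacter_restrict A (IsIrrCharacter.isCharacter ξ.2))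
    have h2 : IsGeneralizedCharacter A ((trivIrr A : IrrCharacter A) : A → ℂ) :=
      IsIrrCharacter.isGeneralizedCharacter (trivIrr A).2
    obtain ⟨k, hk⟩ := IsGeneralizedCharacter.classInner_int h1 h2
    refine ⟨k, ?_⟩
    have e1 : (∑ x : E, if ¬ p ∣ orderOf x then (starRingEnd ℂ) ((ξ : E → ℂ) x) else 0) =
        ∑ x : A, (starRingEnd ℂ) ((ξ : E → ℂ) x) := by
      rw [← Finset.sum_subtype (Finset.univ.filter (fun x : E => x ∈ A)) (by simp)
        (fun x : E => (starRingEnd ℂ) ((ξ : E → ℂ) x)), Finset.sum_filter]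
      refine Finset.sum_congr rfl fun x _ => ?_
      rw [if_congr (hreg x) rfl rfl]
    rw [e1, ← map_sum]
    have e2 : ∑ x : A, (ξ : E → ℂ) x = (Nat.card A : ℂ) * k := by
      rw [← hk, classInner]
      have hApos : (Nat.card A : ℂ) ≠ 0 := by
        have : 0 < Nat.card A := Nat.card_pos
        exact_mod_cast this.ne'
      rw [← mul_assoc, mul_inv_cancel₀ hApos, one_mul]
      refine Finset.sum_congr rfl fun x _ => ?_
      simp
    rw [e2, map_mul, map_natCast, map_intCast]
  obtain ⟨k, hk⟩ := hR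
  -- the homomorphism sum
  have instD' : Fintype ↥(E.subgroupOf D) := Fintype.ofFinite _
  let κ : ↥(E.subgroupOf D) →* ℂ :=
    { toFun := fun z => μ z.1 * (starRingEnd ℂ) (ω ⟨⟨(z.1 : G), z.2⟩, hzc z.1 z.2⟩)
      map_one' := by
        have h1 : (⟨⟨((1 : ↥(E.subgroupOf D)).1 : G), (1 : ↥(E.subgroupOf D)).2⟩,
            hzc (1 : ↥(E.subgroupOf D)).1 (1 : ↥(E.subgroupOf D)).2⟩ : Subgroup.center E) = 1 := rfl
        show μ (1 : ↥(E.subgroupOf D)).1 * (starRingEnd ℂ) (ω _) = 1
        rw [h1, map_one, map_one]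
        simp
      map_mul' := by
        intro z w
        have h1 : (⟨⟨((z * w : ↥(E.subgroupOf D)).1 : G), (z * w).2⟩, hzc (z * w).1 (z * w).2⟩ :
            Subgroup.center E) = ⟨⟨(z.1 : G), z.2⟩, hzc z.1 z.2⟩ * ⟨⟨(w.1 : G), w.2⟩, hzc w.1 w.2⟩ :=
          rfl
        show μ (z * w).1 * (starRingEnd ℂ) (ω _) = _
        rw [h1, map_mul, map_mul]
        show μ (z.1 * w.1) * _ = _
        rw [map_mul]
        ring }
  obtain ⟨N, hN⟩ := exists_nat_sum_hom κ
  refine ⟨c * k * N, ?_⟩
  rw [classInner]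
  have hsum : ∑ e : E, (((p ^ a : ℕ) : ℂ) * tw p D μ (e : G)) * (starRingEnd ℂ) ((ξ : E → ℂ) e) =
      ((p ^ a : ℕ) : ℂ) * ((Nat.card A : ℂ) * k) * N := by
    simp_rw [mul_assoc]
    rw [← Finset.mul_sum, sum_tw_mul_subgroup hD hDp μ E
      (fun e : E => (starRingEnd ℂ) ((ξ : E → ℂ) e))]
    congr 1
    have hterm : ∀ z : D, (if h : (z : G) ∈ E then
        μ z * ∑ x : E, (if ¬ p ∣ orderOf x then
          (starRingEnd ℂ) ((ξ : E → ℂ) (⟨(z : G), h⟩ * x)) else 0) else 0) =
        (if h : z ∈ E.subgroupOf D then κ ⟨z, h⟩ else 0) * ((Nat.card A : ℂ) * k) := by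
      intro z
      by_cases h : (z : G) ∈ E
      · rw [dif_pos h, dif_pos (show z ∈ E.subgroupOf D from h), ← hk, Finset.mul_sum,
          Finset.mul_sum]
        refine Finset.sum_congr rfl fun x _ => ?_
        by_cases hx : p ∣ orderOf x
        · simp [hx]
        · rw [if_pos hx, if_pos hx]
          have h1 : (⟨(z : G), h⟩ : E) * x = x * ⟨(z : G), h⟩ :=
            (Subgroup.mem_center_iff.mp (hzc z h) x).symm
          have h2 := hω ⟨⟨(z : G), h⟩, hzc z h⟩ x
          rw [h1]
          show μ z * (starRingEnd ℂ) ((ξ : E → ℂ) (x * ⟨(z : G), h⟩)) = _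
          rw [show (ξ : E → ℂ) (x * ⟨(z : G), h⟩) = ω ⟨⟨(z : G), h⟩, hzc z h⟩ * (ξ : E → ℂ) x
            from h2, map_mul]
          show _ = μ z * (starRingEnd ℂ) (ω ⟨⟨(z : G), h⟩, hzc z h⟩) * _
          ring
      · rw [dif_neg h, dif_neg (show z ∉ E.subgroupOf D from h), zero_mul]
    have hT : ∑ z : D, (if h : z ∈ E.subgroupOf D then κ ⟨z, h⟩ else 0) = (N : ℂ) := by
      rw [← hN]
      have := Finset.sum_subtype (F := instD') (Finset.univ.filter (fun z : D => z ∈ E.subgroupOf D))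
        (p := fun z : D => z ∈ E.subgroupOf D) (by simp)
        (fun z : D => if h : z ∈ E.subgroupOf D then κ ⟨z, h⟩ else 0)
      rw [Finset.sum_filter] at this
      have h3 : ∀ z : D, (if z ∈ E.subgroupOf D then
          (if h : z ∈ E.subgroupOf D then κ ⟨z, h⟩ else 0) else 0) =
          (if h : z ∈ E.subgroupOf D then κ ⟨z, h⟩ else 0) := by
        intro z
        by_cases h : z ∈ E.subgroupOf D
        · rw [if_pos h]
        · rw [if_neg h, dif_neg h]
      rw [Finset.sum_congr rfl (fun z _ => h3 z)] at this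
      rw [this]
      refine Finset.sum_congr rfl fun z _ => ?_
      rw [dif_pos z.2]
    rw [Finset.sum_congr rfl (fun z _ => hterm z), ← Finset.sum_mul, hT]
    ring
  rw [hsum]
  have hEA : (Nat.card E : ℂ) = (Nat.card A : ℂ) * (A.index : ℂ) := by
    rw [← Subgroup.card_mul_index A]
    push_cast
    ring
  have hEpos : (Nat.card E : ℂ) ≠ 0 := by
    have : 0 < Nat.card E := Nat.card_pos
    exact_mod_cast this.ne'
  have hApos : (Nat.card A : ℂ) ≠ 0 := by
    have : 0 < Nat.card A := Nat.card_pos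
    exact_mod_cast this.ne'
  have hipos : (A.index : ℂ) ≠ 0 := by
    have : A.index ≠ 0 := Subgroup.index_ne_zero_of_finite
    exact_mod_cast this
  rw [hEA, hc]
  push_cast
  field_simp

end Elem

/-- Arithmetic: a complex number `r` with `p ^ a * r` a rational integer and `m * r` an algebraic
integer, `p ∤ m`, is a rational integer. -/
theorem exists_int_of_coprime_mul {p : ℕ} [hp : Fact p.Prime] (r : ℂ) (a m : ℕ) (hpm : ¬ p ∣ m)
    (n : ℤ) (h1 : ((p ^ a : ℕ) : ℂ) * r = n) (h2 : IsIntegral ℤ ((m : ℂ) * r)) :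
    ∃ k : ℤ, r = k := by
  have hcop : IsCoprime ((p ^ a : ℕ) : ℤ) (m : ℤ) := by
    rw [Nat.isCoprime_iff_coprime]
    exact Nat.Coprime.pow_left a ((Nat.Prime.coprime_iff_not_dvd hp.out).2 hpm)
  obtain ⟨u, v, huv⟩ := hcop
  have hr : r = u * n + v * ((m : ℂ) * r) := by
    have h3 : ((u * ((p ^ a : ℕ) : ℤ) + v * (m : ℤ) : ℤ) : ℂ) = 1 := by rw [huv]; simp
    push_cast at h3
    calc r = (u * (p : ℂ) ^ a + v * m) * r := by rw [h3, one_mul]
      _ = u * (((p ^ a : ℕ) : ℂ) * r) + v * ((m : ℂ) * r) := by push_cast; ring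
      _ = u * n + v * ((m : ℂ) * r) := by rw [h1]
  have hint : IsIntegral ℤ r := by
    rw [hr]
    apply IsIntegral.add
    · exact IsIntegral.mul isIntegral_algebraMap isIntegral_algebraMap
    · exact IsIntegral.mul isIntegral_algebraMap h2
  have hpa : ((p ^ a : ℕ) : ℂ) ≠ 0 := by
    have : 0 < p ^ a := pow_pos hp.out.pos a
    exact_mod_cast this.ne'
  have hq : r = (((n : ℚ) / ((p ^ a : ℕ) : ℚ) : ℚ) : ℂ) := by
    push_cast
    rw [eq_div_iff (by exact_mod_cast hpa), mul_comm]
    exact_mod_cast h1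
  rw [hq] at hint ⊢
  have h5 : IsIntegral ℤ ((n : ℚ) / ((p ^ a : ℕ) : ℚ)) := by
    have := (isIntegral_algebraMap_iff (algebraMap ℚ ℂ).injective
      (x := (n : ℚ) / ((p ^ a : ℕ) : ℚ))).mp (by simpa using hint)
    exact this
  obtain ⟨k, hk⟩ := IsIntegrallyClosed.isIntegral_iff.mp h5
  refine ⟨k, ?_⟩
  rw [← hk]
  simp

section Main

open Cfsg.Agent.Helper5.CC

variable [Fintype G] {p : ℕ} [hp : Fact p.Prime] {D : Subgroup G} [Fintype D]

/-- `|G|_p * tw μ` is a generalized character of `G`. -/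
theorem isGeneralizedCharacter_tw (hD : D ≤ Subgroup.center G) (hDp : IsPGroup p D)
    (μ : D →* ℂ) :
    IsGeneralizedCharacter G (fun g : G =>
      ((p ^ (Nat.card G).factorization p : ℕ) : ℂ) * tw p D μ g) := by
  apply isGeneralizedCharacter_of_restrict_elementary
  · intro g t
    show _ * tw p D μ (t * g * t⁻¹) = _
    rw [tw_conj hD]
  · intro E q hq hE
    exact isGeneralizedCharacter_tw_restrict hD hDp μ E q hq hE

/-- The central-character factorization of the sum defining `⟨tw μ * ψ, χ⟩`. -/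
theorem sum_tw_mul_irr (hD : D ≤ Subgroup.center G) (hDp : IsPGroup p D)
    (μ : D →* ℂ) (ψ χ : IrrCharacter G) :
    ∃ κ : D →* ℂ, (∀ z : D, ∀ g : G, (ψ : G → ℂ) ((z : G) * g) *
        (starRingEnd ℂ) ((χ : G → ℂ) ((z : G) * g)) * μ z =
        κ z * ((ψ : G → ℂ) g * (starRingEnd ℂ) ((χ : G → ℂ) g))) ∧
      ∑ g : G, tw p D μ g * ((ψ : G → ℂ) g * (starRingEnd ℂ) ((χ : G → ℂ) g)) =
      (∑ z : D, κ z) * ∑ x : G, if ¬ p ∣ orderOf x then
        (ψ : G → ℂ) x * (starRingEnd ℂ) ((χ : G → ℂ) x) else 0 := by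
  classical
  obtain ⟨ωψ, hωψ⟩ := Cfsg.Agent.Helper23.exists_central_character ψ
  obtain ⟨ωχ, hωχ⟩ := Cfsg.Agent.Helper23.exists_central_character χ
  let κ : D →* ℂ :=
    { toFun := fun z => μ z * ωψ ⟨(z : G), hD z.2⟩ * (starRingEnd ℂ) (ωχ ⟨(z : G), hD z.2⟩)
      map_one' := by
        have h1 : (⟨((1 : D) : G), hD (1 : D).2⟩ : Subgroup.center G) = 1 := rfl
        show μ 1 * ωψ _ * (starRingEnd ℂ) (ωχ _) = 1
        rw [h1, map_one, map_one, map_one]
        simp
      map_mul' := by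
        intro z w
        have h1 : (⟨((z * w : D) : G), hD (z * w).2⟩ : Subgroup.center G) =
            ⟨(z : G), hD z.2⟩ * ⟨(w : G), hD w.2⟩ := rfl
        show μ (z * w) * ωψ _ * (starRingEnd ℂ) (ωχ _) = _
        rw [h1, map_mul, map_mul, map_mul, map_mul]
        ring }
  have hκ : ∀ z : D, ∀ g : G, (ψ : G → ℂ) ((z : G) * g) *
        (starRingEnd ℂ) ((χ : G → ℂ) ((z : G) * g)) * μ z =
        κ z * ((ψ : G → ℂ) g * (starRingEnd ℂ) ((χ : G → ℂ) g)) := by
    intro z g
    have hc : (z : G) * g = g * (z : G) := (Subgroup.mem_center_iff.mp (hD z.2) g).symm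
    have h1 := hωψ ⟨(z : G), hD z.2⟩ g
    have h2 := hωχ ⟨(z : G), hD z.2⟩ g
    rw [hc]
    show (ψ : G → ℂ) (g * (z : G)) * (starRingEnd ℂ) ((χ : G → ℂ) (g * (z : G))) * μ z = _
    rw [show (ψ : G → ℂ) (g * (z : G)) = ωψ ⟨(z : G), hD z.2⟩ * (ψ : G → ℂ) g from h1,
      show (χ : G → ℂ) (g * (z : G)) = ωχ ⟨(z : G), hD z.2⟩ * (χ : G → ℂ) g from h2, map_mul]
    show _ = μ z * ωψ ⟨(z : G), hD z.2⟩ * (starRingEnd ℂ) (ωχ ⟨(z : G), hD z.2⟩) * _
    ring
  refine ⟨κ, hκ, ?_⟩
  rw [sum_tw_mul hD hDp μ, Finset.sum_mul]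
  refine Finset.sum_congr rfl fun z _ => ?_
  rw [Finset.mul_sum, Finset.mul_sum]
  refine Finset.sum_congr rfl fun x _ => ?_
  by_cases hx : p ∣ orderOf x
  · simp [hx]
  · rw [if_pos hx, if_pos hx, ← hκ z x]
    ring

/-- The sum of `ψ * conj χ` over the `p`-regular elements, regrouped by classes. -/
theorem regular_sum_eq_explicit [Fintype (ConjClasses G)] (ψ χ : IrrCharacter G) :
    (∑ x : G, if ¬ p ∣ orderOf x then
        (ψ : G → ℂ) x * (starRingEnd ℂ) ((χ : G → ℂ) x) else 0) = (ψ : G → ℂ) 1 *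
      ∑ K : ConjClasses G, if ¬ p ∣ orderOf (rep K) then
        centralChar (ψ : G → ℂ) (rep K) * (starRingEnd ℂ) ((χ : G → ℂ) (rep K)) else 0 := by
  classical
  have hF : IsClassFunction G (fun x : G => if ¬ p ∣ orderOf x then
      (ψ : G → ℂ) x * (starRingEnd ℂ) ((χ : G → ℂ) x) else 0) := by
    intro x t
    have ho : orderOf (t * x * t⁻¹) = orderOf x := by
      have : t * x * t⁻¹ = MulAut.conj t x := rfl
      rw [this, MulEquiv.orderOf_eq]
    show (if ¬ p ∣ orderOf (t * x * t⁻¹) then (ψ : G → ℂ) (t * x * t⁻¹) *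
      (starRingEnd ℂ) ((χ : G → ℂ) (t * x * t⁻¹)) else 0) = _
    rw [ho, isClassFunction_irr ψ x t, isClassFunction_irr χ x t]
  rw [sum_eq_sum_conjClasses hF, Finset.mul_sum]
  refine Finset.sum_congr rfl fun K _ => ?_
  have h1 : (ψ : G → ℂ) 1 ≠ 0 := irr_one_ne_zero ψ
  by_cases hK : p ∣ orderOf (rep K)
  · simp [hK]
  · rw [if_pos hK, if_pos hK, centralChar]
    field_simp

/-- The sum of `ψ * conj χ` over the `p`-regular elements is `ψ 1` times an algebraic integer. -/
theorem regular_sum_eq (ψ χ : IrrCharacter G) :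
    ∃ J : ℂ, IsIntegral ℤ J ∧ (∑ x : G, if ¬ p ∣ orderOf x then
        (ψ : G → ℂ) x * (starRingEnd ℂ) ((χ : G → ℂ) x) else 0) = (ψ : G → ℂ) 1 * J := by
  classical
  have : Fintype (ConjClasses G) := Fintype.ofFinite _
  refine ⟨_, ?_, regular_sum_eq_explicit ψ χ⟩
  apply IsIntegral.sum
  intro K _
  split_ifs
  · exact isIntegral_zero
  · exact IsIntegral.mul (isIntegral_centralChar ψ _)
      ((irr_isIntegral χ _).map (starRingEnd ℂ).toIntAlgHom)

/-- **Integrality of the inner products of the twisted character.** -/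
theorem classInner_tw_mul_int (hD : D ≤ Subgroup.center G) (hDp : IsPGroup p D)
    (μ : D →* ℂ) (ψ : IrrCharacter G)
    (hdeg : (charDegree (ψ : G → ℂ)).factorization p = D.index.factorization p)
    (χ : IrrCharacter G) :
    ∃ n : ℤ, classInner (fun g => tw p D μ g * (ψ : G → ℂ) g) (χ : G → ℂ) = n := by
  classical
  have : Finite G := Finite.of_fintype G
  have : Fintype (IrrCharacter G) := Fintype.ofFinite _
  set a := (Nat.card G).factorization p with ha
  set m := Nat.card G / p ^ a with hm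
  have hGpos : 0 < Nat.card G := Nat.card_pos
  have hmn : Nat.card G = m * p ^ a := (Nat.div_mul_cancel (Nat.ordProj_dvd _ _)).symm
  have hpm : ¬ p ∣ m := Nat.not_dvd_ordCompl hp.out hGpos.ne'
  have hΦψ := IsGeneralizedCharacter.mul (isGeneralizedCharacter_tw hD hDp μ)
    (IsIrrCharacter.isGeneralizedCharacter ψ.2)
  obtain ⟨n, hn⟩ := IsGeneralizedCharacter.classInner_irr_int hΦψ χ
  set r := classInner (fun g => tw p D μ g * (ψ : G → ℂ) g) (χ : G → ℂ) with hr
  have h1 : ((p ^ a : ℕ) : ℂ) * r = n := by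
    rw [← hn, hr, classInner, classInner, ← mul_assoc, mul_comm ((p ^ a : ℕ) : ℂ), mul_assoc,
      Finset.mul_sum]
    congr 1
    refine Finset.sum_congr rfl fun g _ => ?_
    simp only [Pi.mul_apply]
    ring
  obtain ⟨κ, -, hsum⟩ := sum_tw_mul_irr hD hDp μ ψ χ
  obtain ⟨J, hJ, hJeq⟩ := regular_sum_eq (p := p) ψ χ
  have hr2 : r = (Nat.card G : ℂ)⁻¹ * ((∑ z : D, κ z) * ((ψ : G → ℂ) 1 * J)) := by
    rw [hr, classInner, ← hJeq, ← hsum]
    congr 1
    refine Finset.sum_congr rfl fun g _ => by ring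
  have h2 : IsIntegral ℤ ((m : ℂ) * r) := by
    rw [sum_hom_eq] at hr2
    split_ifs at hr2 with hκ1
    · obtain ⟨δ, hδ⟩ := IsPGroup.iff_card.mp hDp
      have hcardD : (Fintype.card D : ℂ) = (p : ℂ) ^ δ := by
        rw [← Nat.card_eq_fintype_card, hδ]; push_cast; rfl
      have hidx : D.index * p ^ δ = Nat.card G := by rw [← hδ]; exact D.index_mul_card
      have hidx0 : D.index ≠ 0 := Subgroup.index_ne_zero_of_finite
      have hfac : D.index.factorization p + δ = a := by
        rw [ha, ← hidx, Nat.factorization_mul hidx0 (pow_pos hp.out.pos δ).ne',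
          Finsupp.add_apply, Nat.Prime.factorization_pow hp.out]
        simp
      have hd : (irrDeg ψ).factorization p = a - δ := by
        rw [← charDegree_eq_irrDeg, hdeg]; omega
      obtain ⟨c', hc'⟩ : p ^ (a - δ) ∣ irrDeg ψ := by
        rw [← hd]; exact Nat.ordProj_dvd _ _
      have hψ1 : (ψ : G → ℂ) 1 = (p : ℂ) ^ (a - δ) * c' := by
        rw [irrDeg_spec, hc']; push_cast; ring
      have hδa : δ ≤ a := by omega
      have hmr : (m : ℂ) * r = c' * J := by
        rw [hr2, hcardD, hψ1, hmn]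
        have hm0 : (m : ℂ) ≠ 0 := by
          have : m ≠ 0 := fun h => by rw [h, zero_mul] at hmn; omega
          exact_mod_cast this
        have hp0 : (p : ℂ) ≠ 0 := by exact_mod_cast hp.out.ne_zero
        have hpa : (p : ℂ) ^ a = (p : ℂ) ^ δ * (p : ℂ) ^ (a - δ) := by
          rw [← pow_add]; congr 1; omega
        push_cast
        rw [hpa]
        field_simp
      rw [hmr]
      exact IsIntegral.mul isIntegral_algebraMap hJ
    · rw [hr2]
      simp
      exact isIntegral_zero
  exact exists_int_of_coprime_mul r a m hpm n h1 h2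

/-- The twisted function is a generalized character. -/
theorem isGeneralizedCharacter_tw_mul (hD : D ≤ Subgroup.center G) (hDp : IsPGroup p D)
    (μ : D →* ℂ) (ψ : IrrCharacter G)
    (hdeg : (charDegree (ψ : G → ℂ)).factorization p = D.index.factorization p) :
    IsGeneralizedCharacter G (fun g => tw p D μ g * (ψ : G → ℂ) g) := by
  classical
  have : Finite G := Finite.of_fintype G
  have : Fintype (IrrCharacter G) := Fintype.ofFinite _
  apply isGeneralizedCharacter_of_classInner_int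
  · intro g t
    show tw p D μ (t * g * t⁻¹) * (ψ : G → ℂ) (t * g * t⁻¹) = _
    rw [tw_conj hD, isClassFunction_irr ψ g t]
  · intro χ
    exact classInner_tw_mul_int hD hDp μ ψ hdeg χ

open Classical in
/-- The untwisted indicator. -/
theorem tw_one_eq (g : G) :
    tw p D (fun _ => (1 : ℂ)) g = if ∃ z : D, IsPPart p g (z : G) then 1 else 0 := by
  by_cases h : ∃ z : D, IsPPart p g (z : G)
  · obtain ⟨z, hz⟩ := h
    rw [if_pos ⟨z, hz⟩, tw_of_isPPart _ z hz]
  · rw [if_neg h]
    unfold tw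
    apply Finset.sum_eq_zero
    intro z _
    rw [if_neg]
    intro hz
    exact h ⟨z, hz⟩

open Classical in
/-- **Relative defect zero**: the norm of `ψ` is concentrated on the elements whose `p`-part lies
in `D`, and `ψ` vanishes at the other elements. -/
theorem sum_normSq_and_vanish (hD : D ≤ Subgroup.center G) (hDp : IsPGroup p D)
    (ψ : IrrCharacter G)
    (hdeg : (charDegree (ψ : G → ℂ)).factorization p = D.index.factorization p) :
    (∑ g : G, (if ∃ z : D, IsPPart p g (z : G) then (1 : ℝ) else 0) *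
      Complex.normSq ((ψ : G → ℂ) g) = Nat.card G) ∧
    ∀ g : G, (¬ ∃ z : D, IsPPart p g (z : G)) → (ψ : G → ℂ) g = 0 := by
  classical
  have : Finite G := Finite.of_fintype G
  have : Fintype (IrrCharacter G) := Fintype.ofFinite _
  obtain ⟨n, hn⟩ := classInner_tw_mul_int hD hDp (1 : D →* ℂ) ψ hdeg ψ
  have hGpos : (0 : ℝ) < Nat.card G := by exact_mod_cast (Nat.card_pos (α := G))
  have hGne : (Nat.card G : ℂ) ≠ 0 := by exact_mod_cast hGpos.ne'
  -- the full norm
  have hnorm : ∑ g : G, Complex.normSq ((ψ : G → ℂ) g) = Nat.card G := by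
    have h1 := (isIrrCharacter_iff_classInner_self.mp ψ.2).2
    rw [classInner, inv_mul_eq_iff_eq_mul₀ hGne, mul_one] at h1
    have h2 : ∑ g : G, (ψ : G → ℂ) g * (starRingEnd ℂ) ((ψ : G → ℂ) g) =
        ((∑ g : G, Complex.normSq ((ψ : G → ℂ) g) : ℝ) : ℂ) := by
      push_cast
      refine Finset.sum_congr rfl fun g _ => ?_
      rw [Complex.mul_conj]
    rw [h2] at h1
    exact_mod_cast h1
  set tr : G → ℝ := fun g => if ∃ z : D, IsPPart p g (z : G) then (1 : ℝ) else 0 with htr
  have htw : ∀ g, tw p D (⇑(1 : D →* ℂ)) g = (tr g : ℂ) := by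
    intro g
    have : (⇑(1 : D →* ℂ)) = fun _ => (1 : ℂ) := rfl
    rw [this, tw_one_eq]
    simp only [htr]
    by_cases h : ∃ z : D, IsPPart p g (z : G)
    · rw [if_pos h, if_pos h]; norm_num
    · rw [if_neg h, if_neg h]; norm_num
  have hkey : ((∑ g : G, tr g * Complex.normSq ((ψ : G → ℂ) g) : ℝ) : ℂ) = (Nat.card G : ℂ) * n := by
    rw [← hn, classInner, ← mul_assoc, mul_inv_cancel₀ hGne, one_mul]
    push_cast
    refine Finset.sum_congr rfl fun g _ => ?_
    rw [htw, mul_assoc, Complex.mul_conj]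
  have hkeyR : ∑ g : G, tr g * Complex.normSq ((ψ : G → ℂ) g) = (Nat.card G : ℝ) * n := by
    have : ((Nat.card G : ℂ) * n) = (((Nat.card G : ℝ) * n : ℝ) : ℂ) := by push_cast; rfl
    rw [this] at hkey
    exact_mod_cast hkey
  have htr01 : ∀ g, 0 ≤ tr g ∧ tr g ≤ 1 := by
    intro g
    simp only [htr]
    split_ifs <;> constructor <;> norm_num
  have hle : ∑ g : G, tr g * Complex.normSq ((ψ : G → ℂ) g) ≤ Nat.card G := by
    rw [← hnorm]
    apply Finset.sum_le_sum
    intro g _
    have := Complex.normSq_nonneg ((ψ : G → ℂ) g)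
    nlinarith [(htr01 g).2]
  have hpos : 0 < ∑ g : G, tr g * Complex.normSq ((ψ : G → ℂ) g) := by
    have h1 : tr 1 = 1 := by
      simp only [htr]
      rw [if_pos]
      refine ⟨1, 1, ?_, Commute.one_left _, ⟨0, by simp⟩, by simp [hp.out.ne_one]⟩
      simp
    have h2 : 0 < Complex.normSq ((ψ : G → ℂ) 1) :=
      Complex.normSq_pos.mpr (irr_one_ne_zero ψ)
    calc 0 < tr 1 * Complex.normSq ((ψ : G → ℂ) 1) := by rw [h1, one_mul]; exact h2
      _ ≤ _ := Finset.single_le_sum (f := fun g => tr g * Complex.normSq ((ψ : G → ℂ) g))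
          (fun g _ => mul_nonneg (htr01 g).1 (Complex.normSq_nonneg _)) (Finset.mem_univ 1)
  rw [hkeyR] at hle hpos
  have hn1 : n = 1 := by
    have h1 : (0 : ℝ) < n := by
      by_contra hcon
      push Not at hcon
      nlinarith
    have h2 : (n : ℝ) ≤ 1 := by
      by_contra hcon
      push Not at hcon
      nlinarith
    have h1' : 0 < n := by exact_mod_cast h1
    have h2' : n ≤ 1 := by exact_mod_cast h2
    omega
  rw [hn1] at hkeyR
  refine ⟨by rw [hkeyR]; simp, ?_⟩
  intro g hg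
  -- the complementary sum vanishes
  have hzero : ∑ g : G, (1 - tr g) * Complex.normSq ((ψ : G → ℂ) g) = 0 := by
    have : ∑ g : G, (1 - tr g) * Complex.normSq ((ψ : G → ℂ) g) =
        ∑ g : G, Complex.normSq ((ψ : G → ℂ) g) -
          ∑ g : G, tr g * Complex.normSq ((ψ : G → ℂ) g) := by
      rw [← Finset.sum_sub_distrib]
      refine Finset.sum_congr rfl fun g _ => by ring
    rw [this, hnorm, hkeyR]
    simp
  have hterm := (Finset.sum_eq_zero_iff_of_nonneg (fun g _ =>
    mul_nonneg (sub_nonneg.mpr (htr01 g).2) (Complex.normSq_nonneg _))).mp hzero g (Finset.mem_univ g)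
  have htg : tr g = 0 := by simp only [htr]; exact if_neg hg
  rw [htg, sub_zero, one_mul] at hterm
  exact Complex.normSq_eq_zero.mp hterm

/-- The norm of `ψ` on the `p`-regular elements. -/
theorem card_mul_regular_normSq_sum (hD : D ≤ Subgroup.center G) (hDp : IsPGroup p D)
    (ψ : IrrCharacter G)
    (hdeg : (charDegree (ψ : G → ℂ)).factorization p = D.index.factorization p) :
    (Fintype.card D : ℂ) * (∑ x : G, if ¬ p ∣ orderOf x then
        (ψ : G → ℂ) x * (starRingEnd ℂ) ((ψ : G → ℂ) x) else 0) = Nat.card G := by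
  classical
  have hGne : (Nat.card G : ℂ) ≠ 0 := by
    have : 0 < Nat.card G := Nat.card_pos
    exact_mod_cast this.ne'
  obtain ⟨κ, -, hsum⟩ := sum_tw_mul_irr hD hDp (1 : D →* ℂ) ψ ψ
  obtain ⟨hnorm, -⟩ := sum_normSq_and_vanish hD hDp ψ hdeg
  have hL : ∑ g : G, tw p D (⇑(1 : D →* ℂ)) g *
      ((ψ : G → ℂ) g * (starRingEnd ℂ) ((ψ : G → ℂ) g)) = Nat.card G := by
    have : (Nat.card G : ℂ) = (((Nat.card G : ℝ)) : ℂ) := by push_cast; rfl
    rw [this, ← hnorm]
    push_cast
    refine Finset.sum_congr rfl fun g _ => ?_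
    have h1 : (⇑(1 : D →* ℂ)) = fun _ => (1 : ℂ) := rfl
    rw [h1, tw_one_eq, Complex.mul_conj]
    by_cases h : ∃ z : D, IsPPart p g (z : G)
    · rw [if_pos h, if_pos h]; norm_num
    · rw [if_neg h, if_neg h]; norm_num
  rw [hsum, sum_hom_eq] at hL
  split_ifs at hL with h
  · exact hL
  · rw [zero_mul] at hL
    exact absurd hL.symm hGne

omit [Fintype G] hp in
/-- The values of a homomorphism from a finite group to `ℂ` have absolute value one. -/
theorem normSq_hom_eq_one [Finite D] (μ : D →* ℂ) (z : D) : Complex.normSq (μ z) = 1 := by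
  have ho : 0 < orderOf z := orderOf_pos z
  have h1 : μ z ^ orderOf z = 1 := by rw [← map_pow, pow_orderOf_eq_one, map_one]
  have h2 : ‖μ z‖ ^ orderOf z = 1 := by rw [← norm_pow, h1, norm_one]
  have h3 : ‖μ z‖ = 1 := (pow_eq_one_iff_of_nonneg (norm_nonneg _) ho.ne').mp h2
  rw [Complex.normSq_eq_norm_sq, h3, one_pow]

/-- **Twisting.** For a linear character `μ` of `D`, the twisted function `tw μ * ψ` is an
irreducible character. -/
theorem isIrrCharacter_tw_mul (hD : D ≤ Subgroup.center G) (hDp : IsPGroup p D)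
    (μ : D →* ℂ) (ψ : IrrCharacter G)
    (hdeg : (charDegree (ψ : G → ℂ)).factorization p = D.index.factorization p) :
    IsIrrCharacter G (fun g => tw p D μ g * (ψ : G → ℂ) g) := by
  classical
  have : Finite G := Finite.of_fintype G
  have : Fintype (IrrCharacter G) := Fintype.ofFinite _
  have hgen := isGeneralizedCharacter_tw_mul hD hDp μ ψ hdeg
  have hGne : (Nat.card G : ℂ) ≠ 0 := by
    have : 0 < Nat.card G := Nat.card_pos
    exact_mod_cast this.ne'
  have h11 : IsPPart p (1 : G) ((1 : D) : G) :=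
    ⟨1, by simp, Commute.one_left _, ⟨0, by simp⟩, by simp [hp.out.ne_one]⟩
  apply IsGeneralizedCharacter.isIrrCharacter_of_classInner_self hgen
  · obtain ⟨hsum, -⟩ := sum_normSq_and_vanish hD hDp ψ hdeg
    rw [classInner, inv_mul_eq_iff_eq_mul₀ hGne, mul_one]
    have h2 : ∑ g : G, (tw p D μ g * (ψ : G → ℂ) g) *
        (starRingEnd ℂ) (tw p D μ g * (ψ : G → ℂ) g) =
        ((∑ g : G, (if ∃ z : D, IsPPart p g (z : G) then (1 : ℝ) else 0) *
          Complex.normSq ((ψ : G → ℂ) g) : ℝ) : ℂ) := by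
      push_cast
      refine Finset.sum_congr rfl fun g _ => ?_
      rw [Complex.mul_conj, Complex.normSq_mul]
      push_cast
      congr 1
      by_cases h : ∃ z : D, IsPPart p g (z : G)
      · obtain ⟨z, hz⟩ := h
        rw [if_pos ⟨z, hz⟩, tw_of_isPPart _ z hz, normSq_hom_eq_one]
      · rw [if_neg h]
        have : tw p D μ g = 0 := by
          unfold tw
          apply Finset.sum_eq_zero
          intro z _
          rw [if_neg]
          intro hz
          exact h ⟨z, hz⟩
        rw [this]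
        simp
    rw [h2, hsum]
    simp
  · show 0 < (tw p D μ 1 * (ψ : G → ℂ) 1).re
    rw [tw_of_isPPart _ 1 h11, map_one, one_mul, irrDeg_spec]
    simp only [Complex.natCast_re]
    exact_mod_cast irrDeg_pos ψ

end Main

end Cfsg.Agent.Helper5.RDZ
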