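import Mathlib
import Cfsg.Prelude.Def_Blocks
import Cfsg.Agent.Helper5.RelDefectZero
import Cfsg.Agent.Helper5.BlockCount
import Cfsg.Agent.Helper5.CharFacts
import Cfsg.Agent.S0912
import Cfsg.Agent.S0906

set_option autoImplicit false
set_option linter.unusedSectionVars false
set_option linter.unusedVariables false

/-!
# Blocks with central defect groups

If `D` is a central `p`-subgroup of `G` and `χ` is an irreducible character with
`ν_p(χ(1)) = ν_p(|G : D|)`, then `D` is a defect group of the block of `χ`.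
-/

namespace Cfsg.Agent.Helper5.CD

open Cfsg Cfsg.Agent.Helper24 Cfsg.Agent.Helper5 Cfsg.Agent.Helper5.Loc Cfsg.Agent.Helper5.CC
open Cfsg.Agent.Helper14 Cfsg.Agent.Helper5.RDZ Cfsg.Agent.Helper5.BCnt

variable {G : Type*} [Group G] [Fintype G] {M : Ideal AlgInt}

/-- If `χ g` is a unit and `p ^ j` divides the degree of `χ`, then `p ^ j` divides the class size
of `g`. -/
theorem pow_dvd_index_of_char_unit {p : ℕ} [hp : Fact p.Prime] (hM : IsPModular p M)
    (χ : IrrCharacter G) (g : G) (h : ¬ MemLocalIdeal M ((χ : G → ℂ) g)) (j : ℕ)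
    (hj : p ^ j ∣ irrDeg χ) : p ^ j ∣ (Subgroup.centralizer ({g} : Set G)).index := by
  classical
  have hMp := isPrime_of_isPModular hM
  have : Finite G := Finite.of_fintype G
  set i := (Subgroup.centralizer ({g} : Set G)).index with hi
  have hi0 : i ≠ 0 := Subgroup.index_ne_zero_of_finite
  obtain ⟨e, i', hi', hie⟩ := Nat.exists_eq_pow_mul_and_not_dvd hi0 p hp.out.ne_one
  by_cases hje : j ≤ e
  · rw [hie]
    exact (pow_dvd_pow p hje).mul_right i'
  · exfalso
    push Not at hje
    obtain ⟨d', hd'⟩ := hj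
    apply h
    have h1 : (χ : G → ℂ) 1 ≠ 0 := irr_one_ne_zero χ
    have hω : (i : ℂ) * (χ : G → ℂ) g = centralChar (χ : G → ℂ) g * (χ : G → ℂ) 1 := by
      rw [centralChar, ← hi]
      field_simp
    have hp0 : ((p : ℂ) ^ e) ≠ 0 := pow_ne_zero _ (by exact_mod_cast hp.out.ne_zero)
    have heq : (i' : ℂ) * (χ : G → ℂ) g =
        centralChar (χ : G → ℂ) g * ((p : ℂ) ^ (j - e) * d') := by
      have h2 : (i : ℂ) = (p : ℂ) ^ e * i' := by rw [hie]; push_cast; ring
      have h3 : (χ : G → ℂ) 1 = (p : ℂ) ^ e * ((p : ℂ) ^ (j - e) * d') := by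
        rw [irrDeg_spec, hd', ← mul_assoc, ← pow_add]
        push_cast
        congr 2
        omega
      rw [h2, h3] at hω
      have : (p : ℂ) ^ e * ((i' : ℂ) * (χ : G → ℂ) g) =
          (p : ℂ) ^ e * (centralChar (χ : G → ℂ) g * ((p : ℂ) ^ (j - e) * d')) := by
        rw [← mul_assoc, hω]; ring
      exact mul_left_cancel₀ hp0 this
    have hli : MemLocalIdeal M ((i' : ℂ) * (χ : G → ℂ) g) := by
      rw [heq]
      apply li_mul_left hMp (memLocalRing_centralChar hMp χ g)
      apply li_mul_right hMp _ (memLocalRing_natCast hMp d')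
      have : ((p : ℂ) ^ (j - e)) = ((p ^ (j - e) : ℕ) : ℂ) := by push_cast; rfl
      rw [this, memLocalIdeal_natCast_iff hM]
      exact dvd_pow_self p (by omega)
    rcases li_of_mul hMp (memLocalRing_natCast hMp i')
      (memLocalRing_of_isIntegral hMp (irr_isIntegral χ g)) hli with h5 | h5
    · exact absurd ((memLocalIdeal_natCast_iff hM i').mp h5) hi'
    · exact h5

omit [Fintype G] in
theorem centralizer_singleton_inv (x : G) :
    Subgroup.centralizer ({x⁻¹} : Set G) = Subgroup.centralizer ({x} : Set G) := by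
  ext y
  rw [Subgroup.mem_centralizer_singleton_iff, Subgroup.mem_centralizer_singleton_iff]
  constructor
  · intro h
    calc y * x = x * (x⁻¹ * y) * x := by group
      _ = x * (y * x⁻¹) * x := by rw [h]
      _ = x * y := by group
  · intro h
    calc y * x⁻¹ = x⁻¹ * (x * y) * x⁻¹ := by group
      _ = x⁻¹ * (y * x) * x⁻¹ := by rw [h]
      _ = x⁻¹ * y := by group

/-- **Central defect groups.** -/
theorem isDefectGroup_of_central {p : ℕ} [hp : Fact p.Prime] (hM : IsPModular p M)
    (D : Subgroup G) (hDp : IsPGroup p D) (hDZ : D ≤ Subgroup.center G) (χ : IrrCharacter G)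
    (hdeg : (charDegree (χ : G → ℂ)).factorization p = D.index.factorization p) :
    IsDefectGroup p M (blockOf M (χ : G → ℂ)) D := by
  classical
  have hMp := isPrime_of_isPModular hM
  have : Finite G := Finite.of_fintype G
  have : Fintype (IrrCharacter G) := Fintype.ofFinite _
  have : Fintype (ConjClasses G) := Fintype.ofFinite _
  have : Fintype D := Fintype.ofFinite _
  set a := (Nat.card G).factorization p with ha
  set m := Nat.card G / p ^ a with hm
  have hGpos : 0 < Nat.card G := Nat.card_pos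
  have hmn : Nat.card G = m * p ^ a := (Nat.div_mul_cancel (Nat.ordProj_dvd _ _)).symm
  have hpm : ¬ p ∣ m := Nat.not_dvd_ordCompl hp.out hGpos.ne'
  obtain ⟨δ, hδ⟩ := IsPGroup.iff_card.mp hDp
  have hcardD : (Fintype.card D : ℂ) = (p : ℂ) ^ δ := by
    rw [← Nat.card_eq_fintype_card, hδ]; push_cast; rfl
  have hidx : D.index * p ^ δ = Nat.card G := by rw [← hδ]; exact D.index_mul_card
  have hidx0 : D.index ≠ 0 := Subgroup.index_ne_zero_of_finite
  have hfac : D.index.factorization p + δ = a := by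
    rw [ha, ← hidx, Nat.factorization_mul hidx0 (pow_pos hp.out.pos δ).ne',
      Finsupp.add_apply, Nat.Prime.factorization_pow hp.out]
    simp
  have hd : (irrDeg χ).factorization p = a - δ := by
    rw [← charDegree_eq_irrDeg, hdeg]; omega
  obtain ⟨c', hc'⟩ : p ^ (a - δ) ∣ irrDeg χ := by
    rw [← hd]; exact Nat.ordProj_dvd _ _
  have hχ1 : (χ : G → ℂ) 1 = (p : ℂ) ^ (a - δ) * c' := by
    rw [irrDeg_spec, hc']; push_cast; ring
  have hδa : δ ≤ a := by omega
  -- the key identity `c' * J = m`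
  set J : ℂ := ∑ K : ConjClasses G, if ¬ p ∣ orderOf (rep K) then
        centralChar (χ : G → ℂ) (rep K) * (starRingEnd ℂ) ((χ : G → ℂ) (rep K)) else 0 with hJ
  have hkey : (c' : ℂ) * J = m := by
    have h1 := card_mul_regular_normSq_sum hDZ hDp χ hdeg
    rw [regular_sum_eq_explicit χ χ, ← hJ, hcardD, hχ1, hmn] at h1
    have hp0 : (p : ℂ) ≠ 0 := by exact_mod_cast hp.out.ne_zero
    have hpa : (p : ℂ) ^ a = (p : ℂ) ^ δ * (p : ℂ) ^ (a - δ) := by
      rw [← pow_add]; congr 1; omega
    push_cast at h1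
    rw [hpa] at h1
    have hpp : (p : ℂ) ^ δ * (p : ℂ) ^ (a - δ) ≠ 0 := mul_ne_zero (pow_ne_zero _ hp0) (pow_ne_zero _ hp0)
    apply mul_left_cancel₀ hpp
    linear_combination h1
  have hmli : ¬ MemLocalIdeal M (m : ℂ) := fun h => hpm ((memLocalIdeal_natCast_iff hM m).mp h)
  have hJli : ¬ MemLocalIdeal M J := by
    intro h
    apply hmli
    rw [← hkey]
    exact li_mul_left hMp (memLocalRing_natCast hMp c') h
  obtain ⟨K, hKreg, hK⟩ : ∃ K : ConjClasses G, ¬ p ∣ orderOf (rep K) ∧
      ¬ MemLocalIdeal M (centralChar (χ : G → ℂ) (rep K) *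
        (starRingEnd ℂ) ((χ : G → ℂ) (rep K))) := by
    by_contra hcon
    push Not at hcon
    apply hJli
    rw [hJ]
    apply li_sum hMp
    intro K _
    by_cases hK : p ∣ orderOf (rep K)
    · rw [if_neg (not_not.mpr hK)]
      exact memLocalIdeal_zero hMp
    · rw [if_pos hK]
      exact hcon K hK
  set x := rep K with hx
  have hconj : (starRingEnd ℂ) ((χ : G → ℂ) x) = (χ : G → ℂ) x⁻¹ := (irr_inv χ x).symm
  have hω : ¬ MemLocalIdeal M (centralChar (χ : G → ℂ) x) := by
    intro h
    apply hK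
    apply li_mul_right hMp h
    rw [hconj]
    exact memLocalRing_of_isIntegral hMp (irr_isIntegral χ _)
  have hχx : ¬ MemLocalIdeal M ((χ : G → ℂ) x⁻¹) := by
    intro h
    apply hK
    rw [hconj]
    exact li_mul_left hMp (memLocalRing_centralChar hMp χ x) h
  have hdvd : p ^ (a - δ) ∣ (Subgroup.centralizer ({x} : Set G)).index := by
    have := pow_dvd_index_of_char_unit hM χ x⁻¹ hχx (a - δ) ⟨c', hc'⟩
    rwa [centralizer_singleton_inv] at this
  -- the defect of the class of `x` is at most `δ`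
  have hCx : (Nat.card (Subgroup.centralizer ({x} : Set G))).factorization p ≤ δ := by
    set C := Subgroup.centralizer ({x} : Set G) with hC
    have hGC : Nat.card C * C.index = Nat.card G := Subgroup.card_mul_index C
    have hCi0 : C.index ≠ 0 := Subgroup.index_ne_zero_of_finite
    have hfacC : (Nat.card C).factorization p + C.index.factorization p = a := by
      rw [ha, ← hGC, Nat.factorization_mul (Nat.card_pos (α := C)).ne' hCi0, Finsupp.add_apply]
    have hle : a - δ ≤ C.index.factorization p :=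
      (Nat.Prime.pow_dvd_iff_le_factorization hp.out hCi0).mp hdvd
    omega
  have hB : IsPBlock M (blockOf M (χ : G → ℂ)) := isPBlock_blockOf χ
  have hdB : blockDefect p (blockOf M (χ : G → ℂ)) ≤ δ :=
    (blockDefect_le_of_centralChar hM hB (mem_blockOf_self hMp χ) x hω).trans hCx
  -- a defect group
  obtain ⟨y, hy⟩ := Cfsg.Agent.S0906.result p M hM _ hB
  obtain ⟨Δ, hΔ⟩ := exists_isSylowIn (p := p) (Subgroup.centralizer ({y} : Set G))
  have hDΔ : IsDefectGroup p M (blockOf M (χ : G → ℂ)) Δ := isDefectGroup_iff.mpr ⟨y, hy, hΔ⟩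
  have hcardΔ : Nat.card Δ = p ^ blockDefect p (blockOf M (χ : G → ℂ)) :=
    card_defectGroup hM hB hDΔ
  have hDn : D.Normal := by
    constructor
    intro d hd g
    have : g * d * g⁻¹ = d := by
      rw [(Subgroup.mem_center_iff.mp (hDZ hd) g), mul_inv_cancel_right]
    rwa [this]
  have hDcore : D ≤ pCore p G :=
    le_sSup (show D ∈ {N : Subgroup G | N.Normal ∧ IsPGroup p N} from ⟨hDn, hDp⟩)
  have hDle : D ≤ Δ := hDcore.trans (Cfsg.Agent.S0912.result p M hM _ hB Δ hDΔ)
  have hcardle : Nat.card Δ ≤ Nat.card D := by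
    rw [hcardΔ, hδ]
    exact Nat.pow_le_pow_right hp.out.pos hdB
  have hEq : D = Δ := Subgroup.eq_of_le_of_card_ge hDle hcardle
  rw [hEq]
  exact hDΔ

end Cfsg.Agent.Helper5.CD
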