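import Mathlib
import Cfsg.Prelude.Def_Blocks
import Cfsg.Prelude.Def_BlockRank
import Cfsg.Agent.Helper5.CentralDefect
import Cfsg.Agent.Helper24.Ito

set_option autoImplicit false
set_option linter.unusedSectionVars false
set_option linter.unusedVariables false

/-!
# Blocks with central defect groups, II

All characters of a block with a central defect group agree on the `p`-regular elements.
-/

namespace Cfsg.Agent.Helper5.CD

open Cfsg Cfsg.Agent.Helper24 Cfsg.Agent.Helper5 Cfsg.Agent.Helper5.Loc Cfsg.Agent.Helper5.CC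
open Cfsg.Agent.Helper14 Cfsg.Agent.Helper5.RDZ Cfsg.Agent.Helper5.BCnt

variable {G : Type*} [Group G] [Fintype G] {M : Ideal AlgInt}

/-- The `p`-regular class sum `J(χ, χ)` is a unit of the local ring when `χ` has relative defect
zero with respect to the central `p`-subgroup `D`. -/
theorem regularJ_not_mem [Fintype (ConjClasses G)] {p : ℕ} [hp : Fact p.Prime]
    (hM : IsPModular p M)
    (D : Subgroup G) (hDp : IsPGroup p D) (hDZ : D ≤ Subgroup.center G) (χ : IrrCharacter G)
    (hdeg : (charDegree (χ : G → ℂ)).factorization p = D.index.factorization p) :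
    ¬ MemLocalIdeal M (∑ K : ConjClasses G, if ¬ p ∣ orderOf (rep K) then
        centralChar (χ : G → ℂ) (rep K) * (starRingEnd ℂ) ((χ : G → ℂ) (rep K)) else 0) := by
  classical
  have hMp := isPrime_of_isPModular hM
  have : Finite G := Finite.of_fintype G
  have : Fintype (IrrCharacter G) := Fintype.ofFinite _
  have : Fintype D := Fintype.ofFinite _
  set a := (Nat.card G).factorization p with ha
  set m := Nat.card G / p ^ a with hm
  have hGpos : 0 < Nat.card G := Nat.card_pos
  have hmn : Nat.card G = m * p ^ a := (Nat.div_mul_cancel (Nat.ordProj_dvd _ _)).symm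
  have hpm : ¬ p ∣ m := Nat.not_dvd_ordCompl hp.out hGpos.ne'
  obtain ⟨δ, hδ⟩ := IsPGroup.iff_card.mp hDp
  have hcardD : (Fintype.card D : ℂ) = (p : ℂ) ^ δ := by
    rw [← Nat.card_eq_fintype_card, hδ]; push_cast; rfl
  have hidx : D.index * p ^ δ = Nat.card G := by rw [← hδ]; exact D.index_mul_card
  have hidx0 : D.index ≠ 0 := Subgroup.index_ne_zero_of_finite
  have hfac : D.index.factorization p + δ = a := by
    rw [ha, ← hidx, Nat.factorization_mul hidx0 (pow_pos hp.out.pos δ).ne',
      Finsupp.add_apply, Nat.Prime.factorization_pow hp.out]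
    simp
  have hd : (irrDeg χ).factorization p = a - δ := by
    rw [← charDegree_eq_irrDeg, hdeg]; omega
  obtain ⟨c', hc'⟩ : p ^ (a - δ) ∣ irrDeg χ := by
    rw [← hd]; exact Nat.ordProj_dvd _ _
  have hχ1 : (χ : G → ℂ) 1 = (p : ℂ) ^ (a - δ) * c' := by
    rw [irrDeg_spec, hc']; push_cast; ring
  have hδa : δ ≤ a := by omega
  set J : ℂ := ∑ K : ConjClasses G, if ¬ p ∣ orderOf (rep K) then
        centralChar (χ : G → ℂ) (rep K) * (starRingEnd ℂ) ((χ : G → ℂ) (rep K)) else 0 with hJ
  have hkey : (c' : ℂ) * J = m := by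
    have h1 := card_mul_regular_normSq_sum hDZ hDp χ hdeg
    rw [regular_sum_eq_explicit χ χ, ← hJ, hcardD, hχ1, hmn] at h1
    have hp0 : (p : ℂ) ≠ 0 := by exact_mod_cast hp.out.ne_zero
    have hpa : (p : ℂ) ^ a = (p : ℂ) ^ δ * (p : ℂ) ^ (a - δ) := by
      rw [← pow_add]; congr 1; omega
    push_cast at h1
    rw [hpa] at h1
    have hpp : (p : ℂ) ^ δ * (p : ℂ) ^ (a - δ) ≠ 0 := mul_ne_zero (pow_ne_zero _ hp0) (pow_ne_zero _ hp0)
    apply mul_left_cancel₀ hpp
    linear_combination h1
  have hmli : ¬ MemLocalIdeal M (m : ℂ) := fun h => hpm ((memLocalIdeal_natCast_iff hM m).mp h)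
  intro h
  apply hmli
  rw [← hkey]
  exact li_mul_left hMp (memLocalRing_natCast hMp c') h

/-- **Agreement on the `p`-regular elements.** Two characters of the same block, both of relative
defect zero with respect to a central `p`-subgroup `D`, agree at the `p`-regular elements. -/
theorem eq_on_regular {p : ℕ} [hp : Fact p.Prime] (hM : IsPModular p M)
    (D : Subgroup G) (hDp : IsPGroup p D) (hDZ : D ≤ Subgroup.center G) (ψ ψ' : IrrCharacter G)
    (hdeg : (charDegree (ψ : G → ℂ)).factorization p = D.index.factorization p)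
    (hdeg' : (charDegree (ψ' : G → ℂ)).factorization p = D.index.factorization p)
    (hsame : SameBlock M (ψ : G → ℂ) (ψ' : G → ℂ)) (x : G) (hx : ¬ p ∣ orderOf x) :
    (ψ : G → ℂ) x = (ψ' : G → ℂ) x := by
  classical
  have hMp := isPrime_of_isPModular hM
  have : Finite G := Finite.of_fintype G
  have : Fintype (IrrCharacter G) := Fintype.ofFinite _
  have : Fintype (ConjClasses G) := Fintype.ofFinite _
  have : Fintype D := Fintype.ofFinite _
  obtain ⟨ω, hω⟩ := Cfsg.Agent.Helper23.exists_central_character ψ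
  obtain ⟨ω', hω'⟩ := Cfsg.Agent.Helper23.exists_central_character ψ'
  -- the twisting character
  let μ : D →* ℂ := (ω.comp (Subgroup.inclusion hDZ)) *
    (((starRingEnd ℂ : ℂ →+* ℂ).toMonoidHom.comp ω').comp (Subgroup.inclusion hDZ))
  have hμ : ∀ z : D, μ z = ω ⟨(z : G), hDZ z.2⟩ * (starRingEnd ℂ) (ω' ⟨(z : G), hDZ z.2⟩) :=
    fun z => rfl
  have hirr := isIrrCharacter_tw_mul hDZ hDp μ ψ' hdeg'
  set ψ'' : IrrCharacter G := ⟨fun g => tw p D μ g * (ψ' : G → ℂ) g, hirr⟩ with hψ''
  have h1x : IsPPart p x ((1 : D) : G) :=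
    ⟨x, by simp, Commute.one_left _, ⟨0, by simp⟩, hx⟩
  have hval : (ψ'' : G → ℂ) x = (ψ' : G → ℂ) x := by
    show tw p D μ x * (ψ' : G → ℂ) x = _
    rw [tw_of_isPPart _ 1 h1x, map_one, one_mul]
  rw [← hval]
  suffices h : ψ = ψ'' by rw [← h]
  by_contra hne
  have h0 := classInner_irr_ne (fun h => hne h.symm : ψ'' ≠ ψ)
  -- compute the inner product
  obtain ⟨κ, hκ, hsum⟩ := sum_tw_mul_irr hDZ hDp μ ψ' ψ
  have hψ1 : (ψ : G → ℂ) 1 ≠ 0 := irr_one_ne_zero ψ
  have hψ'1 : (ψ' : G → ℂ) 1 ≠ 0 := irr_one_ne_zero ψ'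
  have hκ1 : ∀ z : D, κ z = 1 := by
    intro z
    have h1 := hκ z 1
    have h2 : (ψ : G → ℂ) ((z : G) * 1) = ω ⟨(z : G), hDZ z.2⟩ * (ψ : G → ℂ) 1 := by
      rw [mul_one]
      have := hω ⟨(z : G), hDZ z.2⟩ 1
      rwa [one_mul] at this
    have h3 : (ψ' : G → ℂ) ((z : G) * 1) = ω' ⟨(z : G), hDZ z.2⟩ * (ψ' : G → ℂ) 1 := by
      rw [mul_one]
      have := hω' ⟨(z : G), hDZ z.2⟩ 1
      rwa [one_mul] at this
    rw [h2, h3, hμ, map_mul] at h1
    have n1 := normSq_hom_eq_one (D := Subgroup.center G) ω ⟨(z : G), hDZ z.2⟩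
    have n2 := normSq_hom_eq_one (D := Subgroup.center G) ω' ⟨(z : G), hDZ z.2⟩
    have e1 : ω ⟨(z : G), hDZ z.2⟩ * (starRingEnd ℂ) (ω ⟨(z : G), hDZ z.2⟩) = 1 := by
      rw [Complex.mul_conj, n1]; simp
    have e2 : ω' ⟨(z : G), hDZ z.2⟩ * (starRingEnd ℂ) (ω' ⟨(z : G), hDZ z.2⟩) = 1 := by
      rw [Complex.mul_conj, n2]; simp
    have hne0 : (ψ' : G → ℂ) 1 * (starRingEnd ℂ) ((ψ : G → ℂ) 1) ≠ 0 :=
      mul_ne_zero hψ'1 (by simpa using hψ1)
    apply mul_right_cancel₀ hne0
    rw [← h1, one_mul]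
    linear_combination ((ψ' : G → ℂ) 1 * (starRingEnd ℂ) ((ψ : G → ℂ) 1)) *
      ((starRingEnd ℂ) (ω ⟨(z : G), hDZ z.2⟩) * ω ⟨(z : G), hDZ z.2⟩ * e2 + e1)
  have hsumκ : ∑ z : D, κ z = (Fintype.card D : ℂ) := by
    simp [hκ1]
  -- the class sums
  set J' : ℂ := ∑ K : ConjClasses G, if ¬ p ∣ orderOf (rep K) then
        centralChar (ψ' : G → ℂ) (rep K) * (starRingEnd ℂ) ((ψ : G → ℂ) (rep K)) else 0 with hJ'
  set J : ℂ := ∑ K : ConjClasses G, if ¬ p ∣ orderOf (rep K) then
        centralChar (ψ : G → ℂ) (rep K) * (starRingEnd ℂ) ((ψ : G → ℂ) (rep K)) else 0 with hJ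
  have hJn : ¬ MemLocalIdeal M J := regularJ_not_mem hM D hDp hDZ ψ hdeg
  have hdiff : MemLocalIdeal M (J - J') := by
    rw [hJ, hJ', ← Finset.sum_sub_distrib]
    apply li_sum hMp
    intro K _
    by_cases hK : p ∣ orderOf (rep K)
    · rw [if_neg (not_not.mpr hK), if_neg (not_not.mpr hK), sub_zero]
      exact memLocalIdeal_zero hMp
    · rw [if_pos hK, if_pos hK, ← sub_mul]
      apply li_mul_right hMp (hsame (rep K))
      rw [← irr_inv ψ]
      exact memLocalRing_of_isIntegral hMp (irr_isIntegral ψ _)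
  have hJ'n : J' ≠ 0 := by
    intro h
    apply hJn
    rw [h, sub_zero] at hdiff
    exact hdiff
  have hcalc : classInner (ψ'' : G → ℂ) (ψ : G → ℂ) =
      (Nat.card G : ℂ)⁻¹ * ((Fintype.card D : ℂ) * ((ψ' : G → ℂ) 1 * J')) := by
    rw [classInner, hJ', ← regular_sum_eq_explicit ψ' ψ, ← hsumκ, ← hsum]
    congr 1
    refine Finset.sum_congr rfl fun g _ => ?_
    show tw p D μ g * (ψ' : G → ℂ) g * _ = _
    ring
  rw [hcalc] at h0
  have hGne : (Nat.card G : ℂ) ≠ 0 := by
    have : 0 < Nat.card G := Nat.card_pos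
    exact_mod_cast this.ne'
  have hDne : (Fintype.card D : ℂ) ≠ 0 := by
    have : 0 < Fintype.card D := Fintype.card_pos
    exact_mod_cast this.ne'
  exact (mul_ne_zero (inv_ne_zero hGne) (mul_ne_zero hDne (mul_ne_zero hψ'1 hJ'n))) h0

/-- In a block with a central defect group `P`, every character has relative defect zero with
respect to `P`. -/
theorem factorization_degree_of_central_defect {p : ℕ} [hp : Fact p.Prime] (hM : IsPModular p M)
    {B : Set (IrrCharacter G)} (hB : IsPBlock M B) {P : Subgroup G}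
    (hD : IsDefectGroup p M B P) (hPZ : P ≤ Subgroup.center G) (ψ : IrrCharacter G)
    (hψ : ψ ∈ B) :
    (charDegree (ψ : G → ℂ)).factorization p = P.index.factorization p := by
  classical
  have : Finite G := Finite.of_fintype G
  have : Fintype (IrrCharacter G) := Fintype.ofFinite _
  have hcard := card_defectGroup hM hB hD
  set d := blockDefect p B with hd
  set a := (Nat.card G).factorization p with ha
  have hidx : P.index * p ^ d = Nat.card G := by rw [← hcard]; exact P.index_mul_card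
  have hidx0 : P.index ≠ 0 := Subgroup.index_ne_zero_of_finite
  have hfac : P.index.factorization p + d = a := by
    rw [ha, ← hidx, Nat.factorization_mul hidx0 (pow_pos hp.out.pos d).ne',
      Finsupp.add_apply, Nat.Prime.factorization_pow hp.out]
    simp
  have hPn : P.Normal := by
    constructor
    intro z hz g
    have : g * z * g⁻¹ = z := by
      rw [(Subgroup.mem_center_iff.mp (hPZ hz) g), mul_inv_cancel_right]
    rwa [this]
  have hab : ∀ a ∈ P, ∀ b ∈ P, a * b = b * a := by
    intro a ha b hb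
    exact (Subgroup.mem_center_iff.mp (hPZ hb) a)
  -- Itô
  have hito : ∀ χ : IrrCharacter G, (charDegree (χ : G → ℂ)).factorization p ≤
      P.index.factorization p := by
    intro χ
    obtain ⟨e, he1, he2⟩ := ito_character P hab (χ : G → ℂ) χ.2
    have : charDegree (χ : G → ℂ) = e := by
      rw [charDegree, he1, Complex.natCast_re, Nat.floor_natCast]
    rw [this]
    have he0 : e ≠ 0 := by
      intro h
      rw [h] at he2
      exact hidx0 (Nat.eq_zero_of_zero_dvd he2)
    exact (Nat.factorization_le_iff_dvd he0 hidx0).mpr he2 p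
  have hinf : sInf ((fun χ : IrrCharacter G => (charDegree (χ : G → ℂ)).factorization p) '' B) ≤
      (charDegree (ψ : G → ℂ)).factorization p := Nat.sInf_le ⟨ψ, hψ, rfl⟩
  have hdef : d = a - sInf ((fun χ : IrrCharacter G =>
      (charDegree (χ : G → ℂ)).factorization p) '' B) := rfl
  have := hito ψ
  omega

/-- **Blocks with central defect groups have `p`-regular rank one.** -/
theorem blockRank_eq_one_of_central {p : ℕ} [hp : Fact p.Prime] (hM : IsPModular p M)
    {B : Set (IrrCharacter G)} (hB : IsPBlock M B) {P : Subgroup G}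
    (hD : IsDefectGroup p M B P) (hPZ : P ≤ Subgroup.center G) : blockRank p B = 1 := by
  classical
  have hMp := isPrime_of_isPModular hM
  have : Finite G := Finite.of_fintype G
  have : Fintype (IrrCharacter G) := Fintype.ofFinite _
  obtain ⟨χ₀, hχ₀⟩ := IsPBlock.nonempty hMp hB
  have hPp : IsPGroup p P := IsPGroup.of_card (card_defectGroup hM hB hD)
  have hall : ∀ ψ ∈ B, pRegularPart p (ψ : G → ℂ) = pRegularPart p (χ₀ : G → ℂ) := by
    intro ψ hψ
    funext x
    unfold pRegularPart
    by_cases hx : IsPRegular p x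
    · rw [if_pos hx, if_pos hx]
      exact eq_on_regular hM P hPp hPZ ψ χ₀
        (factorization_degree_of_central_defect hM hB hD hPZ ψ hψ)
        (factorization_degree_of_central_defect hM hB hD hPZ χ₀ hχ₀)
        (sameBlock_of_mem hMp hB hψ hχ₀) x hx
    · rw [if_neg hx, if_neg hx]
  have himg : (fun χ : IrrCharacter G => pRegularPart p (χ : G → ℂ)) '' B =
      {pRegularPart p (χ₀ : G → ℂ)} := by
    ext v
    constructor
    · rintro ⟨ψ, hψ, rfl⟩
      exact hall ψ hψ
    · intro hv
      rw [Set.mem_singleton_iff] at hv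
      exact ⟨χ₀, hχ₀, hv.symm⟩
  have hne : pRegularPart p (χ₀ : G → ℂ) ≠ 0 := by
    intro h
    have h1 := congrFun h 1
    unfold pRegularPart at h1
    have hreg : IsPRegular p (1 : G) := by
      unfold IsPRegular
      rw [orderOf_one]
      exact hp.out.not_dvd_one
    rw [if_pos hreg] at h1
    exact irr_one_ne_zero χ₀ h1
  rw [blockRank, himg]
  exact finrank_span_singleton hne

end Cfsg.Agent.Helper5.CD
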