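import Mathlib
import Cfsg.Prelude.Def_Blocks
import Cfsg.Agent.Helper24.Product
import Cfsg.Agent.Helper8.CharComp
import Cfsg.Agent.Helper23.PrincipalBlock
import Cfsg.Agent.Helper5.ClaimN
import Cfsg.Agent.Helper24.Classes

set_option autoImplicit false
set_option linter.unusedSectionVars false
set_option linter.unusedVariables false

/-!
# Characters of a central product `G = P · C_G(P)`

For a subgroup `P` with `G = P C_G(P)`, the irreducible characters of `G` are the "products"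
`(u c ↦ ζ u * φ c)` of irreducible characters `ζ` of `P` and `φ` of `C = C_G(P)` agreeing on
`P ∩ C`.
-/

namespace Cfsg.Agent.Helper5.CP

open Cfsg Cfsg.Agent.Helper24 Cfsg.Agent.Helper5 Cfsg.Agent.Helper5.Loc Cfsg.Agent.Helper5.CC

variable {G : Type*} [Group G] (P : Subgroup G)

/-- The centralizer of the subgroup `P`. -/
abbrev Cen : Subgroup G := Subgroup.centralizer (P : Set G)

theorem commute_coe (u : P) (c : Cen P) : Commute (u : G) (c : G) :=
  Subgroup.mem_centralizer_iff.mp c.2 (u : G) u.2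

/-- The multiplication map `P × C_G(P) → G`. -/
noncomputable def prodMap : P × Cen P →* G :=
  P.subtype.noncommCoprod (Cen P).subtype (fun u c => commute_coe P u c)

theorem prodMap_apply (x : P × Cen P) :
    prodMap P x = (x.1 : G) * (x.2 : G) := rfl

variable {P}

theorem prodMap_surjective (hG : P ⊔ Cen P = ⊤) :
    Function.Surjective (prodMap P) := by
  rw [← MonoidHom.range_eq_top, eq_top_iff, ← hG, sup_le_iff]
  constructor
  · intro u hu
    exact ⟨(⟨u, hu⟩, 1), by simp [prodMap_apply]⟩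
  · intro c hc
    exact ⟨(1, ⟨c, hc⟩), by simp [prodMap_apply]⟩

/-- Every element of `G = P C` is a product. -/
theorem exists_mul_eq (hG : P ⊔ Cen P = ⊤) (g : G) :
    ∃ (u : P) (c : Cen P), (u : G) * (c : G) = g := by
  obtain ⟨x, hx⟩ := prodMap_surjective hG g
  exact ⟨x.1, x.2, hx⟩

/-- **Decomposition** of an irreducible character of `G = P C`. -/
theorem exists_decomp [Finite G] (hG : P ⊔ Cen P = ⊤)
    (χ : IrrCharacter G) :
    ∃ (ζ : IrrCharacter P) (φ : IrrCharacter (Cen P)),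
      ∀ (u : P) (c : Cen P),
        (χ : G → ℂ) ((u : G) * (c : G)) = (ζ : P → ℂ) u * (φ : Cen P → ℂ) c := by
  have h1 := Cfsg.Agent.Helper8.isIrrCharacter_comp_surjective (prodMap P)
    (prodMap_surjective hG) χ.2
  obtain ⟨ζ, φ, hζ, hφ, h⟩ := (isIrrCharacter_prod_iff _).mp h1
  refine ⟨⟨ζ, hζ⟩, ⟨φ, hφ⟩, ?_⟩
  intro u c
  have := congrFun h (u, c)
  exact this

/-- **Construction**: a compatible pair of irreducible characters of `P` and `C` gives an
irreducible character of `G`. -/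
theorem exists_of_compatible [Finite G] (hG : P ⊔ Cen P = ⊤)
    (ζ : IrrCharacter P) (φ : IrrCharacter (Cen P))
    (hcomp : ∀ (z : G) (hzP : z ∈ P) (hzC : z⁻¹ ∈ Cen P),
      (ζ : P → ℂ) ⟨z, hzP⟩ * (φ : Cen P → ℂ) ⟨z⁻¹, hzC⟩ = (ζ : P → ℂ) 1 * (φ : Cen P → ℂ) 1) :
    ∃ χ : IrrCharacter G, ∀ (u : P) (c : Cen P),
        (χ : G → ℂ) ((u : G) * (c : G)) = (ζ : P → ℂ) u * (φ : Cen P → ℂ) c := by
  have hF : IsIrrCharacter (P × Cen P)
      (fun x => (ζ : P → ℂ) x.1 * (φ : Cen P → ℂ) x.2) := isIrrCharacter_prod ζ.2 φ.2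
  set F : IrrCharacter (P × Cen P) := ⟨_, hF⟩ with hFdef
  have hker : ∀ k ∈ (prodMap P).ker, (F : P × Cen P → ℂ) k = (F : P × Cen P → ℂ) 1 := by
    intro k hk
    rw [MonoidHom.mem_ker, prodMap_apply] at hk
    have h2 : ((k.2 : Cen P) : G) = ((k.1 : P) : G)⁻¹ :=
      eq_inv_of_mul_eq_one_right hk
    have h3 := hcomp (k.1 : G) k.1.2 (by rw [← h2]; exact k.2.2)
    have e2 : k.2 = ⟨((k.1 : P) : G)⁻¹, by rw [← h2]; exact k.2.2⟩ := Subtype.ext h2
    show (ζ : P → ℂ) k.1 * (φ : Cen P → ℂ) k.2 = (ζ : P → ℂ) 1 * (φ : Cen P → ℂ) 1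
    rw [e2]
    exact h3
  obtain ⟨ψ, hψ⟩ := Cfsg.Agent.Helper23.PB.exists_irr_quotient (prodMap P).ker F hker
  set e := QuotientGroup.quotientKerEquivOfSurjective (prodMap P) (prodMap_surjective hG) with he
  have hχ := Cfsg.Agent.Helper8.isIrrCharacter_comp_surjective e.symm.toMonoidHom
    e.symm.surjective ψ.2
  refine ⟨⟨_, hχ⟩, ?_⟩
  intro u c
  have h4 : e.symm ((u : G) * (c : G)) = QuotientGroup.mk' (prodMap P).ker (u, c) := by
    rw [MulEquiv.symm_apply_eq]
    rfl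
  show (ψ : _ → ℂ) (e.symm ((u : G) * (c : G))) = _
  rw [h4, hψ]


/-- `P` is normal in `G = P C_G(P)`. -/
theorem normal_of_sup_eq_top (hG : P ⊔ Cen P = ⊤) : P.Normal := by
  constructor
  intro n hn g
  obtain ⟨u, c, rfl⟩ := exists_mul_eq hG g
  have hc : (c : G) * n * (c : G)⁻¹ = n := by
    have := commute_coe P ⟨n, hn⟩ c
    have h2 : (c : G) * n = n * (c : G) := this.eq.symm
    rw [h2, mul_assoc, mul_inv_cancel, mul_one]
  have : (u : G) * (c : G) * n * ((u : G) * (c : G))⁻¹ =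
      (u : G) * ((c : G) * n * (c : G)⁻¹) * (u : G)⁻¹ := by group
  rw [this, hc]
  exact P.mul_mem (P.mul_mem u.2 hn) (P.inv_mem u.2)

/-- Conjugates in `G` of an element of `C` are its conjugates in `C`. -/
theorem isConj_coe_iff (hG : P ⊔ Cen P = ⊤) (c : Cen P) (x : G) :
    IsConj (c : G) x ↔ ∃ y : Cen P, IsConj c y ∧ (y : G) = x := by
  constructor
  · intro h
    obtain ⟨g, rfl⟩ := isConj_iff.mp h
    obtain ⟨u, c', rfl⟩ := exists_mul_eq hG g
    refine ⟨c' * c * c'⁻¹, isConj_iff.mpr ⟨c', rfl⟩, ?_⟩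
    have hcomm := commute_coe P u (c' * c * c'⁻¹)
    have h1 : (u : G) * (c' : G) * (c : G) * ((u : G) * (c' : G))⁻¹ =
        (u : G) * ((c' * c * c'⁻¹ : Cen P) : G) * (u : G)⁻¹ := by
      push_cast
      group
    rw [h1, hcomm.eq]
    group
  · rintro ⟨y, hy, rfl⟩
    obtain ⟨g, rfl⟩ := isConj_iff.mp hy
    exact isConj_iff.mpr ⟨(g : G), by push_cast; rfl⟩

/-- Class sizes of elements of `C` are the same in `G` and in `C`. -/
theorem index_centralizer_coe [Finite G] (hG : P ⊔ Cen P = ⊤) (c : Cen P) :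
    (Subgroup.centralizer ({(c : G)} : Set G)).index =
      (Subgroup.centralizer ({c} : Set (Cen P))).index := by
  rw [index_centralizer_eq_card_conj, index_centralizer_eq_card_conj]
  symm
  apply Nat.card_congr
  refine Equiv.ofBijective (fun y => ⟨(y.1 : G), (isConj_coe_iff hG c _).mpr ⟨y.1, y.2, rfl⟩⟩)
    ⟨?_, ?_⟩
  · intro y y' h
    have := congrArg Subtype.val h
    exact Subtype.ext (Subtype.ext this)
  · rintro ⟨x, hx⟩
    obtain ⟨y, hy, rfl⟩ := (isConj_coe_iff hG c x).mp hx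
    exact ⟨⟨y, hy⟩, rfl⟩

/-- Central characters at elements of `C`. -/
theorem centralChar_coe [Finite G] (hG : P ⊔ Cen P = ⊤) (χ : IrrCharacter G)
    (ζ : IrrCharacter P) (φ : IrrCharacter (Cen P))
    (h : ∀ (u : P) (c : Cen P), (χ : G → ℂ) ((u : G) * (c : G)) = (ζ : P → ℂ) u * (φ : Cen P → ℂ) c)
    (c : Cen P) :
    centralChar (χ : G → ℂ) (c : G) = centralChar (φ : Cen P → ℂ) c := by
  have h1 : (χ : G → ℂ) (c : G) = (ζ : P → ℂ) 1 * (φ : Cen P → ℂ) c := by
    have := h 1 c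
    simpa using this
  have h2 : (χ : G → ℂ) 1 = (ζ : P → ℂ) 1 * (φ : Cen P → ℂ) 1 := by
    have := h 1 1
    simpa using this
  have hζ := irr_one_ne_zero ζ
  have hφ := irr_one_ne_zero φ
  rw [centralChar, centralChar, h1, h2, index_centralizer_coe hG c]
  field_simp

variable {M : Ideal AlgInt}

/-- **Blocks of `G = P C_G(P)` correspond to blocks of `C_G(P)`.** -/
theorem sameBlock_iff [Fintype G] {p : ℕ} [Fact p.Prime] (hM : IsPModular p M)
    (hP : IsPGroup p P) (hG : P ⊔ Cen P = ⊤) (χ χ' : IrrCharacter G)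
    (ζ ζ' : IrrCharacter P) (φ φ' : IrrCharacter (Cen P))
    (h : ∀ (u : P) (c : Cen P), (χ : G → ℂ) ((u : G) * (c : G)) = (ζ : P → ℂ) u * (φ : Cen P → ℂ) c)
    (h' : ∀ (u : P) (c : Cen P),
      (χ' : G → ℂ) ((u : G) * (c : G)) = (ζ' : P → ℂ) u * (φ' : Cen P → ℂ) c) :
    SameBlock M (χ : G → ℂ) (χ' : G → ℂ) ↔ SameBlock M (φ : Cen P → ℂ) (φ' : Cen P → ℂ) := by
  have hMp := isPrime_of_isPModular hM
  have : Finite G := Finite.of_fintype G
  have hPn : P.Normal := normal_of_sup_eq_top hG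
  constructor
  · intro hs c
    rw [← centralChar_coe hG χ ζ φ h c, ← centralChar_coe hG χ' ζ' φ' h' c]
    exact hs (c : G)
  · intro hs g
    by_cases hg : g ∈ Cen P
    · have := hs ⟨g, hg⟩
      rw [← centralChar_coe hG χ ζ φ h ⟨g, hg⟩, ← centralChar_coe hG χ' ζ' φ' h' ⟨g, hg⟩] at this
      exact this
    · exact li_sub hMp (centralChar_memLocalIdeal_of_not_mem_centralizer hM P hP χ g hg)
        (centralChar_memLocalIdeal_of_not_mem_centralizer hM P hP χ' g hg)

end Cfsg.Agent.Helper5.CP
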