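import Mathlib
import Cfsg.Prelude.Def_Blocks
import Cfsg.Agent.Helper5.LocalRing

set_option autoImplicit false
set_option linter.unusedSectionVars false
set_option linter.unusedVariables false

/-!
# The residue map of the local ring at `M`

`res M z` is the residue class in the field `AlgInt ⧸ M` of the local integer `z` (and `0` when `z`
is not a local integer).  It is additive and multiplicative on the local ring, with kernel the
local ideal.
-/

namespace Cfsg.Agent.Helper5.Res

open Cfsg Cfsg.Agent.Helper5 Cfsg.Agent.Helper5.Loc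

variable (M : Ideal AlgInt) [hMax : M.IsMaximal]

noncomputable instance instFieldQuot : Field (AlgInt ⧸ M) := Ideal.Quotient.field M

open Classical in
/-- The residue of a local integer. -/
noncomputable def res (z : ℂ) : AlgInt ⧸ M :=
  if h : MemLocalRing M z then
    Ideal.Quotient.mk M h.choose * (Ideal.Quotient.mk M h.choose_spec.choose)⁻¹
  else 0

variable {M}

theorem mk_ne_zero {b : AlgInt} (hb : b ∉ M) : Ideal.Quotient.mk M b ≠ 0 := by
  intro h
  exact hb (Ideal.Quotient.eq_zero_iff_mem.mp h)

/-- The residue, computed from any representation as a fraction. -/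
theorem res_eq {a b : AlgInt} (hb : b ∉ M) :
    res M ((a : ℂ) / (b : ℂ)) = Ideal.Quotient.mk M a * (Ideal.Quotient.mk M b)⁻¹ := by
  have h : MemLocalRing M ((a : ℂ) / (b : ℂ)) := ⟨a, b, hb, rfl⟩
  rw [res, dif_pos h]
  have key : ∀ a' b' : AlgInt, b' ∉ M → (a' : ℂ) / (b' : ℂ) = (a : ℂ) / (b : ℂ) →
      Ideal.Quotient.mk M a' * (Ideal.Quotient.mk M b')⁻¹ =
        Ideal.Quotient.mk M a * (Ideal.Quotient.mk M b)⁻¹ := by
    intro a' b' hb' heq
    have hb0 := coe_ne_zero_of_not_mem hb
    have hb0' := coe_ne_zero_of_not_mem hb'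
    have h1 : a' * b = a * b' := by
      apply Subtype.ext
      push_cast
      field_simp at heq
      linear_combination heq
    have h2 := congrArg (Ideal.Quotient.mk M) h1
    rw [map_mul, map_mul] at h2
    have hπb := mk_ne_zero hb
    have hπb' := mk_ne_zero hb'
    field_simp
    linear_combination h2
  exact key _ _ h.choose_spec.choose_spec.1 h.choose_spec.choose_spec.2

theorem res_algInt (a : AlgInt) : res M (a : ℂ) = Ideal.Quotient.mk M a := by
  have h1 : (1 : AlgInt) ∉ M := one_not_mem hMax.isPrime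
  have := res_eq (a := a) h1
  simpa using this

theorem res_of_isIntegral {z : ℂ} (hz : IsIntegral ℤ z) :
    res M z = Ideal.Quotient.mk M ⟨z, hz⟩ :=
  res_algInt ⟨z, hz⟩

theorem res_natCast (n : ℕ) : res M (n : ℂ) = (n : AlgInt ⧸ M) := by
  have := res_algInt (M := M) (n : AlgInt)
  simpa using this

theorem res_intCast (n : ℤ) : res M (n : ℂ) = (n : AlgInt ⧸ M) := by
  have := res_algInt (M := M) (n : AlgInt)
  simpa using this

theorem res_zero : res M 0 = 0 := by
  have := res_natCast (M := M) 0
  simpa using this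

theorem res_one : res M 1 = 1 := by
  have := res_natCast (M := M) 1
  simpa using this

theorem res_add {z w : ℂ} (hz : MemLocalRing M z) (hw : MemLocalRing M w) :
    res M (z + w) = res M z + res M w := by
  obtain ⟨a, b, hb, rfl⟩ := hz
  obtain ⟨a', b', hb', rfl⟩ := hw
  have hb0 := coe_ne_zero_of_not_mem hb
  have hb0' := coe_ne_zero_of_not_mem hb'
  have hbb : b * b' ∉ M := fun h => (hMax.isPrime.mem_or_mem h).elim hb hb'
  have e : (a : ℂ) / (b : ℂ) + (a' : ℂ) / (b' : ℂ) =
      ((a * b' + a' * b : AlgInt) : ℂ) / ((b * b' : AlgInt) : ℂ) := by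
    push_cast
    field_simp
  rw [e, res_eq hbb, res_eq hb, res_eq hb', map_add, map_mul, map_mul, map_mul]
  have hπb := mk_ne_zero hb
  have hπb' := mk_ne_zero hb'
  field_simp

theorem res_mul {z w : ℂ} (hz : MemLocalRing M z) (hw : MemLocalRing M w) :
    res M (z * w) = res M z * res M w := by
  obtain ⟨a, b, hb, rfl⟩ := hz
  obtain ⟨a', b', hb', rfl⟩ := hw
  have hb0 := coe_ne_zero_of_not_mem hb
  have hb0' := coe_ne_zero_of_not_mem hb'
  have hbb : b * b' ∉ M := fun h => (hMax.isPrime.mem_or_mem h).elim hb hb'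
  have e : (a : ℂ) / (b : ℂ) * ((a' : ℂ) / (b' : ℂ)) =
      ((a * a' : AlgInt) : ℂ) / ((b * b' : AlgInt) : ℂ) := by
    push_cast
    field_simp
  rw [e, res_eq hbb, res_eq hb, res_eq hb', map_mul, map_mul]
  have hπb := mk_ne_zero hb
  have hπb' := mk_ne_zero hb'
  field_simp

theorem res_neg {z : ℂ} (hz : MemLocalRing M z) : res M (-z) = - res M z := by
  have h1 : MemLocalRing M (-1 : ℂ) := lr_neg (memLocalRing_one hMax.isPrime)
  have h2 : res M (-1 : ℂ) = -1 := by
    have := res_intCast (M := M) (-1)
    simpa using this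
  have : -z = (-1 : ℂ) * z := by ring
  rw [this, res_mul h1 hz, h2, neg_one_mul]

theorem res_sub {z w : ℂ} (hz : MemLocalRing M z) (hw : MemLocalRing M w) :
    res M (z - w) = res M z - res M w := by
  rw [sub_eq_add_neg, res_add hz (lr_neg hw), res_neg hw, sub_eq_add_neg]

theorem res_eq_zero_iff {z : ℂ} (hz : MemLocalRing M z) : res M z = 0 ↔ MemLocalIdeal M z := by
  obtain ⟨a, b, hb, rfl⟩ := hz
  rw [res_eq hb]
  have hπb := mk_ne_zero hb
  constructor
  · intro h
    rw [mul_eq_zero] at h
    rcases h with h | h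
    · exact ⟨a, b, Ideal.Quotient.eq_zero_iff_mem.mp h, hb, rfl⟩
    · exact absurd (inv_eq_zero.mp h) hπb
  · rintro ⟨c, d, hc, hd, hcd⟩
    have hb0 := coe_ne_zero_of_not_mem hb
    have hd0 := coe_ne_zero_of_not_mem hd
    have h1 : a * d = c * b := by
      apply Subtype.ext
      push_cast
      field_simp at hcd
      linear_combination -hcd
    have h2 : a * d ∈ M := h1 ▸ M.mul_mem_right _ hc
    have h3 : a ∈ M := (hMax.isPrime.mem_or_mem h2).resolve_right hd
    rw [Ideal.Quotient.eq_zero_iff_mem.mpr h3, zero_mul]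

theorem res_eq_of_li {z w : ℂ} (hz : MemLocalRing M z) (hw : MemLocalRing M w)
    (h : MemLocalIdeal M (z - w)) : res M z = res M w := by
  have h1 := (res_eq_zero_iff (lr_sub hMax.isPrime hz hw)).mpr h
  rw [res_sub hz hw, sub_eq_zero] at h1
  exact h1

theorem res_sum {ι : Type*} (s : Finset ι) (f : ι → ℂ) (h : ∀ i ∈ s, MemLocalRing M (f i)) :
    res M (∑ i ∈ s, f i) = ∑ i ∈ s, res M (f i) := by
  classical
  induction s using Finset.induction_on with
  | empty => simp [res_zero]
  | insert a s ha ih =>
    rw [Finset.sum_insert ha, Finset.sum_insert ha,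
      res_add (h a (Finset.mem_insert_self a s))
        (lr_sum hMax.isPrime s f (fun i hi => h i (Finset.mem_insert_of_mem hi))),
      ih (fun i hi => h i (Finset.mem_insert_of_mem hi))]

end Cfsg.Agent.Helper5.Res
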