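import Mathlib
import Cfsg.Prelude.Def_Blocks
import Cfsg.Agent.Helper5.ClassMul
import Cfsg.Agent.Helper5.LocalRing
import Cfsg.Agent.Helper5.CentralDefect
import Cfsg.Agent.Helper24.DefectZero

set_option autoImplicit false
set_option linter.unusedSectionVars false
set_option linter.unusedVariables false

/-!
# A counting argument of Brauer and Fowler

Let `T` be a set of elements containing `1` such that no quotient `t h⁻¹` of conjugates of `z` is a
nonidentity element of `T`, and such that the sums of the irreducible characters over `T` are all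
integer multiples of `p ^ c`.  Then some irreducible character has degree divisible by
`p ^ (c - a)`, where `p ^ a` is the `p`-part of `|C(z)|`.
-/

namespace Cfsg.Agent.Helper5.DZC

open Cfsg Cfsg.Agent.Helper24 Cfsg.Agent.Helper5 Cfsg.Agent.Helper5.Loc Cfsg.Agent.Helper5.CC
open Cfsg.Agent.Helper5.ClassMul Cfsg.Agent.Helper5.CD

variable {G : Type*} [Group G] [Fintype G]

omit [Fintype G] in
theorem isConj_inv_iff (z w : G) : IsConj z⁻¹ w ↔ IsConj z w⁻¹ := by
  rw [isConj_iff, isConj_iff]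
  constructor
  · rintro ⟨g, rfl⟩
    exact ⟨g, by group⟩
  · rintro ⟨g, hg⟩
    refine ⟨g, ?_⟩
    have : w = (g * z * g⁻¹)⁻¹ := by rw [hg, inv_inv]
    rw [this]
    group

variable [Fintype (IrrCharacter G)]

/-- The counting identity. -/
theorem card_centralizer_eq (z : G) (T : Finset G) (h1 : (1 : G) ∈ T) (D : ℕ)
    (m : IrrCharacter G → ℤ)
    (hm : ∀ χ : IrrCharacter G, ∑ u ∈ T, (starRingEnd ℂ) ((χ : G → ℂ) u) = (D : ℂ) * m χ)
    (hT : ∀ u ∈ T, u ≠ 1 → ∀ t h : G, IsConj z t → IsConj z h → t * h⁻¹ ≠ u) :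
    (Nat.card (Subgroup.centralizer ({z} : Set G)) : ℂ) =
      (D : ℂ) * ∑ χ : IrrCharacter G, (χ : G → ℂ) z * (starRingEnd ℂ) ((χ : G → ℂ) z) *
        (m χ : ℂ) / (χ : G → ℂ) 1 := by
  classical
  have : Finite G := Finite.of_fintype G
  -- the convolution on `T`
  have hc1 : conv (classIndicator z) (classIndicator z⁻¹) 1 =
      (Nat.card {x : G // IsConj z x} : ℂ) := by
    rw [conv_classIndicator_apply]
    congr 1
    apply Nat.card_congr
    apply Equiv.subtypeEquivRight
    intro t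
    rw [mul_one, isConj_inv_iff, inv_inv]
    exact and_self_iff
  have hcu : ∀ u ∈ T, u ≠ 1 → conv (classIndicator z) (classIndicator z⁻¹) u = 0 := by
    intro u hu hu1
    rw [conv_classIndicator_apply]
    have : IsEmpty {t : G // IsConj z t ∧ IsConj z⁻¹ (t⁻¹ * u)} := by
      constructor
      rintro ⟨t, ht1, ht2⟩
      rw [isConj_inv_iff] at ht2
      apply hT u hu hu1 t _ ht1 ht2
      group
    rw [Nat.card_of_isEmpty, Nat.cast_zero]
  have hsumT : ∑ u ∈ T, conv (classIndicator z) (classIndicator z⁻¹) u =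
      (Nat.card {x : G // IsConj z x} : ℂ) := by
    rw [Finset.sum_eq_single_of_mem 1 h1 (fun u hu hu1 => hcu u hu hu1), hc1]
  -- expand by the class multiplication formula
  have hexp : ∑ u ∈ T, conv (classIndicator z) (classIndicator z⁻¹) u =
      (Nat.card G : ℂ)⁻¹ * ∑ χ : IrrCharacter G,
        centralChar (χ : G → ℂ) z * centralChar (χ : G → ℂ) z⁻¹ *
          ((χ : G → ℂ) 1 * ((D : ℂ) * m χ)) := by
    simp_rw [conv_classIndicator_eq]
    rw [← Finset.mul_sum, Finset.sum_comm]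
    congr 1
    refine Finset.sum_congr rfl fun χ _ => ?_
    rw [← hm χ, Finset.mul_sum, Finset.mul_sum]
  rw [hsumT] at hexp
  have hK0 : (Nat.card {x : G // IsConj z x} : ℂ) ≠ 0 := by
    have : Nat.card {x : G // IsConj z x} ≠ 0 := by
      have : Nonempty {x : G // IsConj z x} := ⟨⟨z, IsConj.refl z⟩⟩
      exact Nat.card_pos.ne'
    exact_mod_cast this
  have hKC : (Nat.card {x : G // IsConj z x} : ℂ) *
      (Nat.card (Subgroup.centralizer ({z} : Set G)) : ℂ) = (Nat.card G : ℂ) := by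
    exact_mod_cast card_conj_mul_card_centralizer z
  have hG0 : (Nat.card G : ℂ) ≠ 0 := by
    have := Nat.card_pos (α := G)
    exact_mod_cast this.ne'
  have hterm : ∀ χ : IrrCharacter G,
      centralChar (χ : G → ℂ) z * centralChar (χ : G → ℂ) z⁻¹ *
          ((χ : G → ℂ) 1 * ((D : ℂ) * m χ)) =
      (Nat.card {x : G // IsConj z x} : ℂ) ^ 2 * ((D : ℂ) * ((χ : G → ℂ) z *
        (starRingEnd ℂ) ((χ : G → ℂ) z) * (m χ : ℂ) / (χ : G → ℂ) 1)) := by
    intro χ
    have h1 := irr_one_ne_zero χ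
    rw [centralChar, centralChar, centralizer_singleton_inv, index_centralizer_eq_card_conj,
      Cfsg.Agent.Helper5.irr_inv]
    field_simp
  simp_rw [hterm] at hexp
  rw [← Finset.mul_sum, ← Finset.mul_sum] at hexp
  rw [← hKC] at hexp hG0
  have hC0 : (Nat.card (Subgroup.centralizer ({z} : Set G)) : ℂ) ≠ 0 := right_ne_zero_of_mul hG0
  field_simp at hexp
  exact hexp

/-- **The degree bound.** -/
theorem exists_pow_dvd_irrDeg {p : ℕ} [hp : Fact p.Prime] (z : G) (T : Finset G)
    (h1 : (1 : G) ∈ T) (c : ℕ) (m : IrrCharacter G → ℤ)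
    (hm : ∀ χ : IrrCharacter G, ∑ u ∈ T, (starRingEnd ℂ) ((χ : G → ℂ) u) =
      ((p ^ c : ℕ) : ℂ) * m χ)
    (hT : ∀ u ∈ T, u ≠ 1 → ∀ t h : G, IsConj z t → IsConj z h → t * h⁻¹ ≠ u) :
    ∃ χ : IrrCharacter G,
      p ^ (c - (Nat.card (Subgroup.centralizer ({z} : Set G))).factorization p) ∣ irrDeg χ := by
  classical
  have : Finite G := Finite.of_fintype G
  by_contra hcon
  push Not at hcon
  set a := (Nat.card (Subgroup.centralizer ({z} : Set G))).factorization p with ha
  have hca : a < c := by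
    by_contra hle
    have h0 : c - a = 0 := by omega
    apply hcon (trivIrr G)
    rw [h0, pow_zero]
    exact one_dvd _
  obtain ⟨M, hM⟩ := exists_isPModular p hp.out
  have hMp := isPrime_of_isPModular hM
  have hkey := card_centralizer_eq z T h1 (p ^ c) m hm hT
  have hn0 : Nat.card (Subgroup.centralizer ({z} : Set G)) ≠ 0 := Nat.card_pos.ne'
  set k := Nat.card (Subgroup.centralizer ({z} : Set G)) / p ^ a with hk
  have hak : p ^ a * k = Nat.card (Subgroup.centralizer ({z} : Set G)) :=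
    Nat.ordProj_mul_ordCompl_eq_self _ p
  have hpk : ¬ p ∣ k := Nat.not_dvd_ordCompl hp.out hn0
  have hp0 : (p : ℂ) ≠ 0 := by
    have := hp.out.pos.ne'
    exact_mod_cast this
  -- the quotients `p ^ (c - a - 1) / χ(1)` are local integers
  have hr : ∀ χ : IrrCharacter G,
      MemLocalRing M ((p : ℂ) ^ (c - a - 1) / (χ : G → ℂ) 1) := by
    intro χ
    obtain ⟨i, d', hd', hid⟩ :=
      Nat.exists_eq_pow_mul_and_not_dvd (irrDeg_pos χ).ne' p hp.out.ne_one
    have hi : i < c - a := by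
      by_contra hle
      push Not at hle
      apply hcon χ
      rw [hid]
      exact Dvd.dvd.mul_right (pow_dvd_pow p hle) _
    have hd0 : (d' : ℂ) ≠ 0 := by
      have : d' ≠ 0 := by
        rintro rfl
        exact hd' (dvd_zero _)
      exact_mod_cast this
    have e : (p : ℂ) ^ (c - a - 1) / (χ : G → ℂ) 1 =
        ((p ^ (c - a - 1 - i) : ℕ) : ℂ) * (d' : ℂ)⁻¹ := by
      rw [irrDeg_spec, hid]
      have hpow : (p : ℂ) ^ (c - a - 1) = (p : ℂ) ^ (c - a - 1 - i) * (p : ℂ) ^ i := by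
        rw [← pow_add]
        congr 1
        omega
      push_cast
      rw [hpow]
      field_simp
    rw [e]
    exact lr_mul hMp (memLocalRing_natCast hMp _) (memLocalRing_inv_natCast hM hd')
  -- `k = p * S` with `S` a local integer
  have hS : MemLocalRing M (∑ χ : IrrCharacter G, (χ : G → ℂ) z *
      (starRingEnd ℂ) ((χ : G → ℂ) z) * (m χ : ℂ) * ((p : ℂ) ^ (c - a - 1) / (χ : G → ℂ) 1)) := by
    apply lr_sum hMp
    intro χ _
    apply lr_mul hMp (lr_mul hMp (lr_mul hMp ?_ ?_) (memLocalRing_intCast hMp _)) (hr χ)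
    · exact memLocalRing_of_isIntegral hMp (irr_isIntegral χ z)
    · rw [← Cfsg.Agent.Helper5.irr_inv]
      exact memLocalRing_of_isIntegral hMp (irr_isIntegral χ z⁻¹)
  have hkS : (k : ℂ) = (p : ℂ) * (∑ χ : IrrCharacter G, (χ : G → ℂ) z *
      (starRingEnd ℂ) ((χ : G → ℂ) z) * (m χ : ℂ) * ((p : ℂ) ^ (c - a - 1) / (χ : G → ℂ) 1)) := by
    have hpa0 : ((p : ℂ) ^ a) ≠ 0 := pow_ne_zero _ hp0
    apply mul_left_cancel₀ hpa0
    have h2 : ((p : ℂ) ^ a) * (k : ℂ) =
        (Nat.card (Subgroup.centralizer ({z} : Set G)) : ℂ) := by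
      exact_mod_cast hak
    rw [h2, hkey, Finset.mul_sum, Finset.mul_sum, Finset.mul_sum]
    refine Finset.sum_congr rfl fun χ _ => ?_
    have hpow : ((p ^ c : ℕ) : ℂ) = (p : ℂ) ^ a * ((p : ℂ) * (p : ℂ) ^ (c - a - 1)) := by
      push_cast
      rw [← pow_succ', ← pow_add]
      congr 1
      omega
    rw [hpow]
    have h1' := irr_one_ne_zero χ
    field_simp
  have hli : MemLocalIdeal M (k : ℂ) := by
    rw [hkS]
    exact li_mul_right hMp ((memLocalIdeal_natCast_iff hM p).mpr dvd_rfl) hS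
  exact hpk ((memLocalIdeal_natCast_iff hM k).mp hli)

end Cfsg.Agent.Helper5.DZC
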