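import Mathlib
import Cfsg.Prelude.Def_Blocks
import Cfsg.Agent.Helper5.LocalRing

set_option autoImplicit false
set_option linter.unusedSectionVars false
set_option linter.unusedVariables false

/-!
# Selecting an invertible minor modulo the maximal ideal

If `W * V` is congruent to an invertible diagonal matrix modulo `M`, then `W` has a square minor
(using all rows) whose determinant is a unit modulo `M`.  Also: matrices of algebraic integers
which are congruent entrywise have congruent determinants.
-/

namespace Cfsg.Agent.Helper5.Minor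

open Cfsg Cfsg.Agent.Helper5 Cfsg.Agent.Helper5.Loc

/-- Over a field, a matrix with a right inverse has an invertible full-row minor. -/
theorem exists_minor_of_right_inverse {K : Type*} [Field K] {r : ℕ} {ι : Type*} [Fintype ι]
    [DecidableEq ι] (A : Matrix (Fin r) ι K) (B : Matrix ι (Fin r) K) (hAB : A * B = 1) :
    ∃ f : Fin r → ι, Function.Injective f ∧
      (Matrix.of fun i l => A i (f l) : Matrix (Fin r) (Fin r) K).det ≠ 0 := by
  classical
  have hsurj : Function.Surjective A.mulVec :=
    Matrix.mulVec_surjective_iff_exists_right_inverse.mpr ⟨B, hAB⟩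
  have hspan : Submodule.span K (Set.range A.col) = ⊤ := by
    rw [← Matrix.range_mulVecLin, LinearMap.range_eq_top]
    exact hsurj
  obtain ⟨κ, a, hinj, hsp, hli⟩ := exists_linearIndependent' K A.col
  have : Finite κ := Finite.of_injective a hinj
  have : Fintype κ := Fintype.ofFinite κ
  let b : Module.Basis κ K (Fin r → K) := Module.Basis.mk hli (by rw [hsp, hspan])
  have hcard : Fintype.card κ = r := by
    have h1 := Module.finrank_eq_card_basis b
    rw [Module.finrank_fin_fun] at h1
    exact h1.symm
  let e : Fin r ≃ κ := (Fintype.equivFinOfCardEq hcard).symm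
  refine ⟨a ∘ e, hinj.comp e.injective, ?_⟩
  have hli2 : LinearIndependent K
      (Matrix.of fun i l => A i ((a ∘ e) l) : Matrix (Fin r) (Fin r) K).col := by
    have : (Matrix.of fun i l => A i ((a ∘ e) l) : Matrix (Fin r) (Fin r) K).col =
        (A.col ∘ a) ∘ e := by
      funext l i
      rfl
    rw [this]
    exact hli.comp e e.injective
  have hunit := Matrix.linearIndependent_cols_iff_isUnit.mp hli2
  have hdet := (Matrix.isUnit_iff_isUnit_det _).mp hunit
  exact hdet.ne_zero

variable {M : Ideal AlgInt}

/-- The determinant of a matrix of algebraic integers. -/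
theorem coe_det {n : Type*} [Fintype n] [DecidableEq n] (A : Matrix n n AlgInt) :
    ((A.det : AlgInt) : ℂ) = (Matrix.of fun i j => ((A i j : AlgInt) : ℂ)).det := by
  have := RingHom.map_det (algebraMap AlgInt ℂ) A
  rw [Subalgebra.algebraMap_eq] at this
  exact this

/-- Entrywise congruent matrices of algebraic integers have congruent determinants. -/
theorem li_det_sub_det (hM : M.IsPrime) {n : Type*} [Fintype n] [DecidableEq n]
    (A B : Matrix n n ℂ) (hA : ∀ i j, IsIntegral ℤ (A i j)) (hB : ∀ i j, IsIntegral ℤ (B i j))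
    (h : ∀ i j, MemLocalIdeal M (A i j - B i j)) : MemLocalIdeal M (A.det - B.det) := by
  let A' : Matrix n n AlgInt := fun i j => ⟨A i j, hA i j⟩
  let B' : Matrix n n AlgInt := fun i j => ⟨B i j, hB i j⟩
  have hA' : A.det = ((A'.det : AlgInt) : ℂ) := by
    rw [coe_det]; rfl
  have hB' : B.det = ((B'.det : AlgInt) : ℂ) := by
    rw [coe_det]; rfl
  have hmem : A'.det - B'.det ∈ M := by
    rw [← Ideal.Quotient.eq, RingHom.map_det, RingHom.map_det]
    congr 1
    ext i j
    simp only [RingHom.mapMatrix_apply, Matrix.map_apply]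
    rw [Ideal.Quotient.eq]
    have := (memLocalIdeal_algInt_iff hM (A' i j - B' i j)).mp (by
      have e : (((A' i j - B' i j : AlgInt)) : ℂ) = A i j - B i j := by
        simp [A', B']
      rw [e]; exact h i j)
    exact this
  rw [hA', hB']
  have := (memLocalIdeal_algInt_iff hM (A'.det - B'.det)).mpr hmem
  simpa using this

/-- A matrix of algebraic integers with a column in the local ideal has determinant in the local
ideal. -/
theorem li_det_of_col_li (hM : M.IsPrime) {n : Type*} [Fintype n] [DecidableEq n]
    (A : Matrix n n ℂ) (hA : ∀ i j, IsIntegral ℤ (A i j)) (l : n)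
    (h : ∀ i, MemLocalIdeal M (A i l)) : MemLocalIdeal M A.det := by
  have h0 : (A.updateCol l 0).det = 0 :=
    Matrix.det_eq_zero_of_column_eq_zero l (fun i => by simp)
  have h1 := li_det_sub_det hM A (A.updateCol l 0) hA (by
    intro i j
    rw [Matrix.updateCol_apply]
    split_ifs
    · exact isIntegral_zero
    · exact hA i j) (by
    intro i j
    rw [Matrix.updateCol_apply]
    split_ifs with hj
    · rw [hj, Pi.zero_apply, sub_zero]
      exact h i
    · rw [sub_self]
      exact memLocalIdeal_zero hM)
  rw [h0, sub_zero] at h1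
  exact h1

/-- **Selecting a minor.** If `W * V` is congruent to a diagonal matrix of units, some full-row
minor of `W` has a unit determinant. -/
theorem exists_minor_not_li (hM : M.IsMaximal) {r : ℕ} {ι : Type*} [Fintype ι] [DecidableEq ι]
    (W : Matrix (Fin r) ι ℂ) (V : Matrix ι (Fin r) ℂ) (u : Fin r → ℂ)
    (hW : ∀ i b, IsIntegral ℤ (W i b)) (hV : ∀ b j, IsIntegral ℤ (V b j))
    (hu : ∀ i, IsIntegral ℤ (u i)) (hu' : ∀ i, ¬ MemLocalIdeal M (u i))
    (h : ∀ i j, MemLocalIdeal M ((W * V) i j - if i = j then u i else 0)) :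
    ∃ f : Fin r → ι, Function.Injective f ∧
      ¬ MemLocalIdeal M (Matrix.of fun i l => W i (f l) : Matrix (Fin r) (Fin r) ℂ).det := by
  classical
  have hMp : M.IsPrime := hM.isPrime
  let _ : Field (AlgInt ⧸ M) := Ideal.Quotient.field M
  let π : AlgInt →+* AlgInt ⧸ M := Ideal.Quotient.mk M
  let W' : Matrix (Fin r) ι AlgInt := fun i b => ⟨W i b, hW i b⟩
  let V' : Matrix ι (Fin r) AlgInt := fun b j => ⟨V b j, hV b j⟩
  let u' : Fin r → AlgInt := fun i => ⟨u i, hu i⟩
  have hu0 : ∀ i, π (u' i) ≠ 0 := by
    intro i h0
    apply hu' i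
    have hmem : u' i ∈ M := Ideal.Quotient.eq_zero_iff_mem.mp h0
    exact (memLocalIdeal_algInt_iff hMp (u' i)).mpr hmem
  have hprod : (W'.map π) * (V'.map π) = Matrix.diagonal (fun i => π (u' i)) := by
    ext i j
    rw [← Matrix.map_mul, Matrix.map_apply, Matrix.diagonal_apply]
    have hmem : (W' * V') i j - (if i = j then u' i else 0) ∈ M := by
      apply (memLocalIdeal_algInt_iff hMp _).mp
      have e : ((((W' * V') i j - (if i = j then u' i else 0) : AlgInt)) : ℂ) =
          (W * V) i j - if i = j then u i else 0 := by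
        rw [Matrix.mul_apply, Matrix.mul_apply]
        push_cast
        congr 1
        split_ifs <;> simp [u']
      rw [e]
      exact h i j
    have := Ideal.Quotient.eq.mpr hmem
    rw [this]
    split_ifs
    · rfl
    · exact map_zero _
  have hAB : (W'.map π) * ((V'.map π) * Matrix.diagonal (fun i => (π (u' i))⁻¹)) = 1 := by
    rw [← Matrix.mul_assoc, hprod, Matrix.diagonal_mul_diagonal]
    rw [← Matrix.diagonal_one]
    congr 1
    funext i
    exact mul_inv_cancel₀ (hu0 i)
  obtain ⟨f, hf, hdet⟩ := exists_minor_of_right_inverse _ _ hAB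
  refine ⟨f, hf, ?_⟩
  intro hli
  apply hdet
  have e1 : (Matrix.of fun i l => (W'.map π) i (f l) : Matrix (Fin r) (Fin r) (AlgInt ⧸ M)) =
      π.mapMatrix (Matrix.of fun i l => W' i (f l)) := by
    ext i l
    simp
  rw [e1, ← RingHom.map_det]
  apply Ideal.Quotient.eq_zero_iff_mem.mpr
  apply (memLocalIdeal_algInt_iff hMp _).mp
  rw [coe_det]
  exact hli

end Cfsg.Agent.Helper5.Minor
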