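import Mathlib
import Cfsg.Prelude.Def_Blocks
import Cfsg.Agent.Helper8.PRegular
import Cfsg.Agent.Helper24.Artin
import Cfsg.Agent.Helper24.Linear

set_option autoImplicit false
set_option linter.unusedSectionVars false
set_option linter.unusedVariables false

/-!
# Sums of character values over the `p`-elements

`|G|_{p'}` times the indicator function of the set of `p`-elements is a generalized character, so
the sum of the values of an irreducible character over the `p`-elements is an integer multiple of
`|G|_p`.
-/

namespace Cfsg.Agent.Helper5.PES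

open Cfsg Cfsg.Agent.Helper24

universe u

variable {G : Type u} [Group G] [Fintype G]

/-- The product of the scaled `q`-regular indicators over a set of primes. -/
theorem isGeneralizedCharacter_prod_regular (s : Finset ℕ) (hs : ∀ q ∈ s, q.Prime) :
    IsGeneralizedCharacter G (fun x : G => ∏ q ∈ s, (if q ∣ orderOf x then (0 : ℂ) else
      ((q ^ (Nat.card G).factorization q : ℕ) : ℂ))) := by
  classical
  have : Finite G := Finite.of_fintype G
  induction s using Finset.induction_on with
  | empty =>
    simp only [Finset.prod_empty]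
    exact IsIrrCharacter.isGeneralizedCharacter (trivIrr G).2
  | insert q s hq ih =>
    have hqp : q.Prime := hs q (Finset.mem_insert_self q s)
    have : Fact q.Prime := ⟨hqp⟩
    have h1 := Cfsg.Agent.Helper8.PRegular.isGeneralizedCharacter_pRegular (G := G) q
      (IsIrrCharacter.isCharacter (trivIrr G).2)
    have h2 := ih (fun r hr => hs r (Finset.mem_insert_of_mem hr))
    have h3 := IsGeneralizedCharacter.mul h1 h2
    convert h3 using 1
    funext x
    rw [Finset.prod_insert hq, Pi.mul_apply]
    congr 1
    simp

/-- The constant `|G|_{p'}` as a product. -/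
theorem prod_erase_mul (n p : ℕ) (hn : n ≠ 0) (hp : p.Prime) :
    (∏ q ∈ n.primeFactors.erase p, q ^ n.factorization q) * p ^ n.factorization p = n := by
  by_cases hpn : p ∈ n.primeFactors
  · rw [mul_comm, Finset.mul_prod_erase _ (fun q => q ^ n.factorization q) hpn]
    have := Nat.prod_factorization_pow_eq_self hn
    rw [Finsupp.prod, Nat.support_factorization] at this
    exact this
  · rw [Finset.erase_eq_of_notMem hpn]
    have h0 : n.factorization p = 0 := by
      rw [← Finsupp.notMem_support_iff, Nat.support_factorization]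
      exact hpn
    rw [h0, pow_zero, mul_one]
    have := Nat.prod_factorization_pow_eq_self hn
    rw [Finsupp.prod, Nat.support_factorization] at this
    exact this

/-- An element whose order is divisible by no prime other than `p` is a `p`-element. -/
theorem exists_orderOf_eq_pow [Finite G] (p : ℕ) (x : G)
    (h : ∀ q ∈ (Nat.card G).primeFactors.erase p, ¬ q ∣ orderOf x) : ∃ k : ℕ, orderOf x = p ^ k := by
  refine ⟨_, Nat.eq_prime_pow_of_unique_prime_dvd (orderOf_pos x).ne' ?_⟩
  intro d hd hdx
  by_contra hne
  apply h d _ hdx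
  rw [Finset.mem_erase]
  refine ⟨hne, ?_⟩
  rw [Nat.mem_primeFactors]
  exact ⟨hd, hdx.trans (orderOf_dvd_natCard x), Nat.card_pos.ne'⟩

open Classical in
/-- `|G|_{p'}` times the indicator of the `p`-elements is a generalized character. -/
theorem isGeneralizedCharacter_pElements (p : ℕ) [hp : Fact p.Prime] :
    IsGeneralizedCharacter G (fun x : G => if (∃ k : ℕ, orderOf x = p ^ k) then
      ((∏ q ∈ (Nat.card G).primeFactors.erase p, q ^ (Nat.card G).factorization q : ℕ) : ℂ)
      else 0) := by
  classical
  have : Finite G := Finite.of_fintype G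
  have h := isGeneralizedCharacter_prod_regular (G := G) ((Nat.card G).primeFactors.erase p)
    (fun q hq => Nat.prime_of_mem_primeFactors (Finset.mem_of_mem_erase hq))
  convert h using 1
  funext x
  have : (∏ q ∈ (Nat.card G).primeFactors.erase p, (if q ∣ orderOf x then (0 : ℂ) else
      ((q ^ (Nat.card G).factorization q : ℕ) : ℂ))) =
      ∏ q ∈ (Nat.card G).primeFactors.erase p, (if ¬ q ∣ orderOf x then
      ((q ^ (Nat.card G).factorization q : ℕ) : ℂ) else 0) := by
    refine Finset.prod_congr rfl fun q _ => ?_
    by_cases hq : q ∣ orderOf x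
    · rw [if_pos hq, if_neg (not_not.mpr hq)]
    · rw [if_neg hq, if_pos hq]
  rw [this, Finset.prod_ite_zero]
  by_cases hx : ∃ k : ℕ, orderOf x = p ^ k
  · rw [if_pos hx, if_pos]
    · push_cast; rfl
    · intro q hq hqx
      obtain ⟨k, hk⟩ := hx
      rw [hk] at hqx
      have hqp := Nat.prime_of_mem_primeFactors (Finset.mem_of_mem_erase hq)
      have := (Nat.prime_dvd_prime_iff_eq hqp hp.out).mp (hqp.dvd_of_dvd_pow hqx)
      exact (Finset.ne_of_mem_erase hq) this
  · rw [if_neg hx, if_neg]
    intro hall
    exact hx (exists_orderOf_eq_pow p x hall)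

variable [Fintype (IrrCharacter G)]

/-- **The sum of the values of an irreducible character over the `p`-elements is an integer
multiple of `|G|_p`.** -/
theorem sum_pElements_irr (p : ℕ) [hp : Fact p.Prime]
    [DecidablePred fun x : G => ∃ k : ℕ, orderOf x = p ^ k] (χ : IrrCharacter G) :
    ∃ m : ℤ, ∑ u ∈ Finset.univ.filter (fun x : G => ∃ k : ℕ, orderOf x = p ^ k),
      (starRingEnd ℂ) ((χ : G → ℂ) u) = ((p ^ (Nat.card G).factorization p : ℕ) : ℂ) * m := by
  classical
  have : Finite G := Finite.of_fintype G
  obtain ⟨m, hm⟩ := IsGeneralizedCharacter.classInner_irr_int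
    (isGeneralizedCharacter_pElements (G := G) p) χ
  refine ⟨m, ?_⟩
  set c : ℕ := ∏ q ∈ (Nat.card G).primeFactors.erase p, q ^ (Nat.card G).factorization q with hc
  have hcG : c * p ^ (Nat.card G).factorization p = Nat.card G :=
    prod_erase_mul (Nat.card G) p Nat.card_pos.ne' hp.out
  have hc0 : (c : ℂ) ≠ 0 := by
    have : c ≠ 0 := by
      rintro h0
      rw [h0, zero_mul] at hcG
      exact Nat.card_pos.ne' hcG.symm
    exact_mod_cast this
  have hG0 : (Nat.card G : ℂ) ≠ 0 := by
    have := Nat.card_pos (α := G)
    exact_mod_cast this.ne'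
  rw [classInner] at hm
  have hm' : (Nat.card G : ℂ)⁻¹ * ((c : ℂ) *
      ∑ u ∈ Finset.univ.filter (fun x : G => ∃ k : ℕ, orderOf x = p ^ k),
        (starRingEnd ℂ) ((χ : G → ℂ) u)) = m := by
    rw [← hm]
    congr 1
    rw [Finset.mul_sum, Finset.sum_filter]
    refine Finset.sum_congr rfl fun g _ => ?_
    by_cases hg : ∃ k : ℕ, orderOf g = p ^ k
    · rw [if_pos hg, if_pos hg]
    · rw [if_neg hg, if_neg hg, zero_mul]
  clear hm
  have hm := hm'
  have hcG' : (c : ℂ) * ((p ^ (Nat.card G).factorization p : ℕ) : ℂ) = (Nat.card G : ℂ) := by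
    exact_mod_cast hcG
  rw [← hcG'] at hm hG0
  have hp0 : ((p ^ (Nat.card G).factorization p : ℕ) : ℂ) ≠ 0 := right_ne_zero_of_mul hG0
  field_simp at hm
  rw [hm]

end Cfsg.Agent.Helper5.PES
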