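import Mathlib
import Cfsg.Prelude.Def_Blocks
import Cfsg.Agent.Helper5.DefectZeroCount
import Cfsg.Agent.Helper5.PElementSum
import Cfsg.Agent.Helper5.MinorSelect
import Cfsg.Agent.Helper5.BlockCount
import Cfsg.Agent.Helper5.HeightZero
import Cfsg.Agent.Helper5.DefectGroups2

set_option autoImplicit false
set_option linter.unusedSectionVars false
set_option linter.unusedVariables false

/-!
# Blocks from classes with a common defect group

Classes `K₁, …, K_r` with common defect group `D` such that no quotient `g h⁻¹` of elements of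
these classes is a nonidentity `p`-element give `r` distinct blocks with defect group `D`.
-/

namespace Cfsg.Agent.Helper5.BFC

open Cfsg Cfsg.Agent.Helper24 Cfsg.Agent.Helper5 Cfsg.Agent.Helper5.Loc Cfsg.Agent.Helper5.CC
open Cfsg.Agent.Helper5.ClassMul Cfsg.Agent.Helper5.CD Cfsg.Agent.Helper5.DZC
open Cfsg.Agent.Helper5.BCnt Cfsg.Agent.Helper14

variable {G : Type*} [Group G] [Fintype G] [Fintype (IrrCharacter G)] {M : Ideal AlgInt}

/-- Expansion of the sum of a convolution of class indicators over a set. -/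
theorem sum_conv_eq (x y : G) (T : Finset G) (D : ℕ) (m : IrrCharacter G → ℤ)
    (hm : ∀ χ : IrrCharacter G, ∑ u ∈ T, (starRingEnd ℂ) ((χ : G → ℂ) u) = (D : ℂ) * m χ) :
    ∑ u ∈ T, conv (classIndicator x) (classIndicator y) u =
      (Nat.card G : ℂ)⁻¹ * ∑ χ : IrrCharacter G,
        centralChar (χ : G → ℂ) x * centralChar (χ : G → ℂ) y *
          ((χ : G → ℂ) 1 * ((D : ℂ) * m χ)) := by
  simp_rw [conv_classIndicator_eq]
  rw [← Finset.mul_sum, Finset.sum_comm]
  congr 1
  refine Finset.sum_congr rfl fun χ _ => ?_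
  rw [← hm χ, Finset.mul_sum, Finset.mul_sum]

/-- The number of pairs with quotient a `p`-element. -/
theorem sum_conv_pElements {p : ℕ} [hp : Fact p.Prime]
    [DecidablePred fun x : G => ∃ k : ℕ, orderOf x = p ^ k] (x y : G) [Decidable (IsConj x y)]
    (hsep : ∀ g h : G, IsConj x g → IsConj y h → ∀ k : ℕ, 0 < k → orderOf (g * h⁻¹) ≠ p ^ k) :
    ∑ u ∈ Finset.univ.filter (fun u : G => ∃ k : ℕ, orderOf u = p ^ k),
      conv (classIndicator x) (classIndicator y⁻¹) u =
      if IsConj x y then (Nat.card {t : G // IsConj x t} : ℂ) else 0 := by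
  classical
  have h1mem : (1 : G) ∈ Finset.univ.filter (fun u : G => ∃ k : ℕ, orderOf u = p ^ k) := by
    rw [Finset.mem_filter]
    exact ⟨Finset.mem_univ _, 0, by rw [orderOf_one, pow_zero]⟩
  rw [Finset.sum_eq_single_of_mem 1 h1mem]
  · rw [conv_classIndicator_apply]
    by_cases hxy : IsConj x y
    · rw [if_pos hxy]
      congr 1
      apply Nat.card_congr
      apply Equiv.subtypeEquivRight
      intro t
      rw [mul_one, isConj_inv_iff, inv_inv]
      constructor
      · intro h; exact h.1
      · intro h; exact ⟨h, hxy.symm.trans h⟩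
    · rw [if_neg hxy]
      have : IsEmpty {t : G // IsConj x t ∧ IsConj y⁻¹ (t⁻¹ * 1)} := by
        constructor
        rintro ⟨t, ht1, ht2⟩
        rw [mul_one, isConj_inv_iff, inv_inv] at ht2
        exact hxy (ht1.trans ht2.symm)
      rw [Nat.card_of_isEmpty, Nat.cast_zero]
  · intro u hu hu1
    rw [conv_classIndicator_apply]
    have : IsEmpty {t : G // IsConj x t ∧ IsConj y⁻¹ (t⁻¹ * u)} := by
      constructor
      rintro ⟨t, ht1, ht2⟩
      rw [isConj_inv_iff] at ht2
      obtain ⟨k, hk⟩ := (Finset.mem_filter.mp hu).2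
      have hk0 : 0 < k := by
        rcases Nat.eq_zero_or_pos k with h0 | h0
        · rw [h0, pow_zero, orderOf_eq_one_iff] at hk
          exact absurd hk hu1
        · exact h0
      apply hsep t _ ht1 ht2 k hk0
      have : t * ((t⁻¹ * u)⁻¹)⁻¹ = u := by group
      rw [this]
      exact hk
    rw [Nat.card_of_isEmpty, Nat.cast_zero]

omit [Fintype (IrrCharacter G)] in
theorem factorization_index_centralizer (p : ℕ) (g : G) :
    (Subgroup.centralizer ({g} : Set G)).index.factorization p +
      (Nat.card (Subgroup.centralizer ({g} : Set G))).factorization p =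
      (Nat.card G).factorization p := by
  have hidx0 : (Subgroup.centralizer ({g} : Set G)).index ≠ 0 := Subgroup.index_ne_zero_of_finite
  rw [← Subgroup.card_mul_index (Subgroup.centralizer ({g} : Set G)),
    Nat.factorization_mul (Nat.card_pos (α := Subgroup.centralizer ({g} : Set G))).ne' hidx0,
    Finsupp.add_apply, add_comm]

omit [Fintype G] [Fintype (IrrCharacter G)] in
theorem centralChar_mul_one [Finite G] (χ : IrrCharacter G) (g : G) :
    centralChar (χ : G → ℂ) g * (χ : G → ℂ) 1 =
      ((Subgroup.centralizer ({g} : Set G)).index : ℂ) * (χ : G → ℂ) g := by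
  have h1 := irr_one_ne_zero χ
  rw [centralChar]
  field_simp

omit [Fintype (IrrCharacter G)] in
/-- The index of a centralizer with `p`-part `p ^ d` is `p ^ (a - d)` times a `p'`-number. -/
theorem exists_index_eq {p : ℕ} [hp : Fact p.Prime] (g : G) (d : ℕ)
    (hd : (Nat.card (Subgroup.centralizer ({g} : Set G))).factorization p = d) :
    ∃ q : ℕ, ¬ p ∣ q ∧ (Subgroup.centralizer ({g} : Set G)).index =
      p ^ ((Nat.card G).factorization p - d) * q := by
  have hidx0 : (Subgroup.centralizer ({g} : Set G)).index ≠ 0 := Subgroup.index_ne_zero_of_finite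
  have h1 := factorization_index_centralizer p g
  refine ⟨(Subgroup.centralizer ({g} : Set G)).index /
    p ^ (Subgroup.centralizer ({g} : Set G)).index.factorization p,
    Nat.not_dvd_ordCompl hp.out hidx0, ?_⟩
  have h2 : (Nat.card G).factorization p - d =
      (Subgroup.centralizer ({g} : Set G)).index.factorization p := by omega
  rw [h2]
  exact (Nat.ordProj_mul_ordCompl_eq_self _ p).symm

/-- **The terms outside the height-zero characters of the blocks of defect `d` are negligible.** -/
theorem term_li {p : ℕ} [hp : Fact p.Prime] (hM : IsPModular p M) (χ : IrrCharacter G)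
    (g h : G) (d : ℕ)
    (hg : (Nat.card (Subgroup.centralizer ({g} : Set G))).factorization p = d)
    (hh : (Nat.card (Subgroup.centralizer ({h} : Set G))).factorization p = d) (m : ℤ)
    (hχ : ¬ (blockDefect p (blockOf M (χ : G → ℂ)) = d ∧
      (irrDeg χ).factorization p = (Nat.card G).factorization p - d)) :
    MemLocalIdeal M (centralChar (χ : G → ℂ) g * centralChar (χ : G → ℂ) h *
      ((χ : G → ℂ) 1 * (m : ℂ)) / ((p : ℂ) ^ ((Nat.card G).factorization p - d))) := by
  classical
  have hMp := isPrime_of_isPModular hM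
  have : Finite G := Finite.of_fintype G
  have hp0 : (p : ℂ) ≠ 0 := by
    have := hp.out.pos.ne'
    exact_mod_cast this
  have hpow0 : ((p : ℂ) ^ ((Nat.card G).factorization p - d)) ≠ 0 := pow_ne_zero _ hp0
  obtain ⟨qg, hqg, hidxg⟩ := exists_index_eq (p := p) g d hg
  obtain ⟨qh, hqh, hidxh⟩ := exists_index_eq (p := p) h d hh
  by_cases h1 : MemLocalIdeal M (centralChar (χ : G → ℂ) h)
  · -- `ω_χ(h)` negligible
    have e : centralChar (χ : G → ℂ) g * centralChar (χ : G → ℂ) h *
        ((χ : G → ℂ) 1 * (m : ℂ)) / ((p : ℂ) ^ ((Nat.card G).factorization p - d)) =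
        ((qg : ℂ) * (χ : G → ℂ) g * (m : ℂ)) * centralChar (χ : G → ℂ) h := by
      have h2 := centralChar_mul_one χ g
      rw [hidxg] at h2
      push_cast at h2
      rw [div_eq_iff hpow0]
      linear_combination (centralChar (χ : G → ℂ) h * (m : ℂ)) * h2
    rw [e]
    apply li_mul_left hMp _ h1
    exact lr_mul hMp (lr_mul hMp (memLocalRing_natCast hMp _)
      (memLocalRing_of_isIntegral hMp (irr_isIntegral χ g))) (memLocalRing_intCast hMp _)
  by_cases h2 : MemLocalIdeal M (centralChar (χ : G → ℂ) g)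
  · have e : centralChar (χ : G → ℂ) g * centralChar (χ : G → ℂ) h *
        ((χ : G → ℂ) 1 * (m : ℂ)) / ((p : ℂ) ^ ((Nat.card G).factorization p - d)) =
        ((qh : ℂ) * (χ : G → ℂ) h * (m : ℂ)) * centralChar (χ : G → ℂ) g := by
      have h3 := centralChar_mul_one χ h
      rw [hidxh] at h3
      push_cast at h3
      rw [div_eq_iff hpow0]
      linear_combination (centralChar (χ : G → ℂ) g * (m : ℂ)) * h3
    rw [e]
    apply li_mul_left hMp _ h2
    exact lr_mul hMp (lr_mul hMp (memLocalRing_natCast hMp _)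
      (memLocalRing_of_isIntegral hMp (irr_isIntegral χ h))) (memLocalRing_intCast hMp _)
  -- both central characters are units: the block has defect at most `d`
  have hB : IsPBlock M (blockOf M (χ : G → ℂ)) := isPBlock_blockOf χ
  have hχB : χ ∈ blockOf M (χ : G → ℂ) := mem_blockOf_self hMp χ
  have hle : blockDefect p (blockOf M (χ : G → ℂ)) ≤ d := by
    rw [← hg]
    exact blockDefect_le_of_centralChar hM hB hχB g h2
  -- the `p`-part of the degree
  have hmem : (charDegree (χ : G → ℂ)).factorization p ∈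
      (fun ψ : IrrCharacter G => (charDegree (ψ : G → ℂ)).factorization p) ''
        (blockOf M (χ : G → ℂ)) := ⟨χ, hχB, rfl⟩
  have hinf := Nat.sInf_le hmem
  rw [charDegree_eq_irrDeg] at hinf
  have hdef : blockDefect p (blockOf M (χ : G → ℂ)) = (Nat.card G).factorization p -
      sInf ((fun ψ : IrrCharacter G => (charDegree (ψ : G → ℂ)).factorization p) ''
        (blockOf M (χ : G → ℂ))) := rfl
  have hda : d ≤ (Nat.card G).factorization p := by
    have := factorization_index_centralizer p g
    omega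
  have hgt : (Nat.card G).factorization p - d < (irrDeg χ).factorization p := by
    by_contra hcon
    push Not at hcon
    apply hχ
    constructor <;> omega
  -- so `p ^ (a - d + 1)` divides the degree
  have hdvd : p ^ ((Nat.card G).factorization p - d + 1) ∣ irrDeg χ :=
    (hp.out.pow_dvd_iff_le_factorization (irrDeg_pos χ).ne').mpr hgt
  obtain ⟨c, hc⟩ := hdvd
  have e : centralChar (χ : G → ℂ) g * centralChar (χ : G → ℂ) h *
      ((χ : G → ℂ) 1 * (m : ℂ)) / ((p : ℂ) ^ ((Nat.card G).factorization p - d)) =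
      (p : ℂ) * (centralChar (χ : G → ℂ) g * centralChar (χ : G → ℂ) h * ((c : ℂ) * (m : ℂ))) := by
    rw [irrDeg_spec, hc, div_eq_iff hpow0]
    push_cast
    ring
  rw [e]
  apply li_mul_right hMp ((memLocalIdeal_natCast_iff hM p).mpr dvd_rfl)
  exact lr_mul hMp (lr_mul hMp (memLocalRing_centralChar hMp χ g) (memLocalRing_centralChar hMp χ h))
    (lr_mul hMp (memLocalRing_natCast hMp _) (memLocalRing_intCast hMp _))

/-- Regrouping a sum over the height-zero characters of the blocks of defect `d` by blocks. -/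
theorem sum_regroup {p : ℕ} (hMp : M.IsPrime) (d : ℕ) (ν : IrrCharacter G → Prop)
    [DecidablePred ν]
    [Fintype {B : Set (IrrCharacter G) // IsPBlock M B ∧ blockDefect p B = d}]
    [∀ B : Set (IrrCharacter G), DecidablePred (· ∈ B)]
    [DecidablePred fun χ : IrrCharacter G => blockDefect p (blockOf M (χ : G → ℂ)) = d ∧ ν χ]
    (F : IrrCharacter G → ℂ) :
    ∑ b : {B : Set (IrrCharacter G) // IsPBlock M B ∧ blockDefect p B = d},
      ∑ χ ∈ Finset.univ.filter (fun χ : IrrCharacter G => χ ∈ b.1 ∧ ν χ), F χ =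
    ∑ χ ∈ Finset.univ.filter (fun χ : IrrCharacter G =>
      blockDefect p (blockOf M (χ : G → ℂ)) = d ∧ ν χ), F χ := by
  classical
  simp_rw [Finset.sum_filter]
  rw [Finset.sum_comm]
  refine Finset.sum_congr rfl fun χ _ => ?_
  by_cases hg : blockDefect p (blockOf M (χ : G → ℂ)) = d ∧ ν χ
  · rw [if_pos hg]
    rw [Finset.sum_eq_single (⟨blockOf M (χ : G → ℂ), isPBlock_blockOf χ, hg.1⟩ :
      {B : Set (IrrCharacter G) // IsPBlock M B ∧ blockDefect p B = d})]
    · rw [if_pos ⟨mem_blockOf_self hMp χ, hg.2⟩]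
    · intro b _ hb
      rw [if_neg]
      rintro ⟨hmem, _⟩
      apply hb
      apply Subtype.ext
      exact IsPBlock_eq_blockOf hMp b.2.1 hmem
    · intro h
      exact absurd (Finset.mem_univ _) h
  · rw [if_neg hg]
    apply Finset.sum_eq_zero
    intro b _
    rw [if_neg]
    rintro ⟨hmem, hν⟩
    apply hg
    refine ⟨?_, hν⟩
    rw [← IsPBlock_eq_blockOf hMp b.2.1 hmem]
    exact b.2.2

/-- **The matrix congruence.** -/
theorem congr_matrix {p : ℕ} [hp : Fact p.Prime] (hM : IsPModular p M) {r : ℕ} (x : Fin r → G)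
    (d : ℕ)
    (hd : ∀ i, (Nat.card (Subgroup.centralizer ({x i} : Set G))).factorization p = d)
    (hx : ∀ i j : Fin r, IsConj (x i) (x j) → i = j)
    (hsep : ∀ i j : Fin r, ∀ g h : G, IsConj (x i) g → IsConj (x j) h →
      ∀ k : ℕ, 0 < k → orderOf (g * h⁻¹) ≠ p ^ k)
    [DecidablePred fun x : G => ∃ k : ℕ, orderOf x = p ^ k]
    (m : IrrCharacter G → ℤ)
    (hm : ∀ χ : IrrCharacter G,
      ∑ u ∈ Finset.univ.filter (fun x : G => ∃ k : ℕ, orderOf x = p ^ k),
        (starRingEnd ℂ) ((χ : G → ℂ) u) = ((p ^ (Nat.card G).factorization p : ℕ) : ℂ) * m χ)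
    [Fintype {B : Set (IrrCharacter G) // IsPBlock M B ∧ blockDefect p B = d}]
    [∀ B : Set (IrrCharacter G), DecidablePred (· ∈ B)]
    (ch : {B : Set (IrrCharacter G) // IsPBlock M B ∧ blockDefect p B = d} → IrrCharacter G)
    (hch : ∀ b, ch b ∈ b.1) (i j : Fin r) :
    MemLocalIdeal M
      (∑ b : {B : Set (IrrCharacter G) // IsPBlock M B ∧ blockDefect p B = d},
        centralChar (ch b : G → ℂ) (x i) * (centralChar (ch b : G → ℂ) (x j)⁻¹ *
          ∑ χ ∈ Finset.univ.filter (fun χ : IrrCharacter G => χ ∈ b.1 ∧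
              (irrDeg χ).factorization p = (Nat.card G).factorization p - d),
            ((irrDeg χ / p ^ ((Nat.card G).factorization p - d) : ℕ) : ℂ) * (m χ : ℂ)) -
        if i = j then
          (((Subgroup.centralizer ({x i} : Set G)).index /
            p ^ ((Nat.card G).factorization p - d) : ℕ) : ℂ) *
            ((Nat.card G / p ^ (Nat.card G).factorization p : ℕ) : ℂ) else 0) := by
  classical
  have hMp := isPrime_of_isPModular hM
  have : Finite G := Finite.of_fintype G
  set A := (Nat.card G).factorization p with hA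
  have hp0 : (p : ℂ) ≠ 0 := by
    have := hp.out.pos.ne'
    exact_mod_cast this
  have hpow0 : ((p : ℂ) ^ (A - d)) ≠ 0 := pow_ne_zero _ hp0
  have hpA0 : ((p : ℂ) ^ A) ≠ 0 := pow_ne_zero _ hp0
  have hG0 : (Nat.card G : ℂ) ≠ 0 := by
    have := Nat.card_pos (α := G)
    exact_mod_cast this.ne'
  -- the exact identity
  have hS : ∑ χ : IrrCharacter G, centralChar (χ : G → ℂ) (x i) *
      centralChar (χ : G → ℂ) (x j)⁻¹ * ((χ : G → ℂ) 1 * (m χ : ℂ)) / ((p : ℂ) ^ (A - d)) =
      if i = j then
          (((Subgroup.centralizer ({x i} : Set G)).index / p ^ (A - d) : ℕ) : ℂ) *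
            ((Nat.card G / p ^ A : ℕ) : ℂ) else 0 := by
    have h1 := sum_conv_eq (x i) (x j)⁻¹
      (Finset.univ.filter (fun x : G => ∃ k : ℕ, orderOf x = p ^ k)) (p ^ A) m hm
    have h2 := sum_conv_pElements (p := p) (x i) (x j) (hsep i j)
    rw [h2] at h1
    have hGA : (Nat.card G : ℂ) = (p : ℂ) ^ A * ((Nat.card G / p ^ A : ℕ) : ℂ) := by
      have : p ^ A * (Nat.card G / p ^ A) = Nat.card G :=
        Nat.ordProj_mul_ordCompl_eq_self _ p
      exact_mod_cast this.symm
    rw [← Finset.sum_div]
    by_cases hij : i = j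
    · subst hij
      rw [if_pos rfl]
      rw [if_pos (IsConj.refl _)] at h1
      obtain ⟨q, hq, hidx⟩ := exists_index_eq (p := p) (x i) d (hd i)
      have hqdiv : (Subgroup.centralizer ({x i} : Set G)).index / p ^ (A - d) = q := by
        rw [hidx]
        exact Nat.mul_div_cancel_left q (pow_pos hp.out.pos _)
      rw [hqdiv]
      have hK : (Nat.card {t : G // IsConj (x i) t} : ℂ) = (p : ℂ) ^ (A - d) * (q : ℂ) := by
        rw [← index_centralizer_eq_card_conj, hidx]
        push_cast
        rfl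
      rw [hK] at h1
      rw [div_eq_iff hpow0]
      have h3 : ∑ χ : IrrCharacter G, centralChar (χ : G → ℂ) (x i) *
          centralChar (χ : G → ℂ) (x i)⁻¹ * ((χ : G → ℂ) 1 * (((p ^ A : ℕ) : ℂ) * (m χ : ℂ))) =
          (p : ℂ) ^ A * ∑ χ : IrrCharacter G, centralChar (χ : G → ℂ) (x i) *
          centralChar (χ : G → ℂ) (x i)⁻¹ * ((χ : G → ℂ) 1 * (m χ : ℂ)) := by
        rw [Finset.mul_sum]
        refine Finset.sum_congr rfl fun χ _ => ?_
        push_cast
        ring
      rw [h3, hGA] at h1
      have hn0 : ((Nat.card G / p ^ A : ℕ) : ℂ) ≠ 0 := by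
        rw [hGA] at hG0
        exact right_ne_zero_of_mul hG0
      generalize (∑ χ : IrrCharacter G, centralChar (χ : G → ℂ) (x i) *
          centralChar (χ : G → ℂ) (x i)⁻¹ * ((χ : G → ℂ) 1 * (m χ : ℂ))) = Ssum at h1 ⊢
      field_simp at h1
      linear_combination -h1
    · rw [if_neg hij]
      rw [if_neg (fun hc => hij (hx i j hc))] at h1
      have h3 : ∑ χ : IrrCharacter G, centralChar (χ : G → ℂ) (x i) *
          centralChar (χ : G → ℂ) (x j)⁻¹ * ((χ : G → ℂ) 1 * (((p ^ A : ℕ) : ℂ) * (m χ : ℂ))) =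
          (p : ℂ) ^ A * ∑ χ : IrrCharacter G, centralChar (χ : G → ℂ) (x i) *
          centralChar (χ : G → ℂ) (x j)⁻¹ * ((χ : G → ℂ) 1 * (m χ : ℂ)) := by
        rw [Finset.mul_sum]
        refine Finset.sum_congr rfl fun χ _ => ?_
        push_cast
        ring
      rw [h3] at h1
      have h4 : ∑ χ : IrrCharacter G, centralChar (χ : G → ℂ) (x i) *
          centralChar (χ : G → ℂ) (x j)⁻¹ * ((χ : G → ℂ) 1 * (m χ : ℂ)) = 0 := by
        have h5 := h1.symm
        rw [mul_eq_zero] at h5
        rcases h5 with h5 | h5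
        · exact absurd (inv_eq_zero.mp h5) hG0
        · rw [mul_eq_zero] at h5
          rcases h5 with h5 | h5
          · exact absurd h5 hpA0
          · exact h5
      rw [h4, zero_div]
  rw [← hS]
  -- split the sum over all characters
  rw [← Finset.sum_filter_add_sum_filter_not Finset.univ (fun χ : IrrCharacter G =>
    blockDefect p (blockOf M (χ : G → ℂ)) = d ∧ (irrDeg χ).factorization p = A - d)]
  have hbad : MemLocalIdeal M (∑ χ ∈ Finset.univ.filter (fun χ : IrrCharacter G =>
      ¬ (blockDefect p (blockOf M (χ : G → ℂ)) = d ∧ (irrDeg χ).factorization p = A - d)),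
      centralChar (χ : G → ℂ) (x i) * centralChar (χ : G → ℂ) (x j)⁻¹ *
        ((χ : G → ℂ) 1 * (m χ : ℂ)) / ((p : ℂ) ^ (A - d))) := by
    apply li_sum hMp
    intro χ hχ
    have hχ' := (Finset.mem_filter.mp hχ).2
    apply term_li hM χ (x i) (x j)⁻¹ d (hd i) _ (m χ) hχ'
    rw [centralizer_singleton_inv]
    exact hd j
  -- the good part, regrouped by blocks
  have hgood : ∑ χ ∈ Finset.univ.filter (fun χ : IrrCharacter G =>
      blockDefect p (blockOf M (χ : G → ℂ)) = d ∧ (irrDeg χ).factorization p = A - d),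
      centralChar (χ : G → ℂ) (x i) * centralChar (χ : G → ℂ) (x j)⁻¹ *
        ((χ : G → ℂ) 1 * (m χ : ℂ)) / ((p : ℂ) ^ (A - d)) =
      ∑ b : {B : Set (IrrCharacter G) // IsPBlock M B ∧ blockDefect p B = d},
        ∑ χ ∈ Finset.univ.filter (fun χ : IrrCharacter G => χ ∈ b.1 ∧
          (irrDeg χ).factorization p = A - d),
          centralChar (χ : G → ℂ) (x i) * centralChar (χ : G → ℂ) (x j)⁻¹ *
            (((irrDeg χ / p ^ (A - d) : ℕ) : ℂ) * (m χ : ℂ)) := by
    rw [sum_regroup (p := p) hMp d (fun χ => (irrDeg χ).factorization p = A - d)]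
    refine Finset.sum_congr rfl fun χ hχ => ?_
    have hν := (Finset.mem_filter.mp hχ).2.2
    have hdvd : p ^ (A - d) ∣ irrDeg χ := by
      rw [← hν]
      exact Nat.ordProj_dvd _ p
    have hdeg : ((irrDeg χ : ℕ) : ℂ) = (p : ℂ) ^ (A - d) * ((irrDeg χ / p ^ (A - d) : ℕ) : ℂ) := by
      have := Nat.mul_div_cancel' hdvd
      exact_mod_cast this.symm
    rw [irrDeg_spec, hdeg, div_eq_iff hpow0]
    ring
  rw [hgood]
  have hrew : (∑ b : {B : Set (IrrCharacter G) // IsPBlock M B ∧ blockDefect p B = d},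
        centralChar (ch b : G → ℂ) (x i) * (centralChar (ch b : G → ℂ) (x j)⁻¹ *
          ∑ χ ∈ Finset.univ.filter (fun χ : IrrCharacter G => χ ∈ b.1 ∧
              (irrDeg χ).factorization p = A - d),
            ((irrDeg χ / p ^ (A - d) : ℕ) : ℂ) * (m χ : ℂ))) -
      (∑ b : {B : Set (IrrCharacter G) // IsPBlock M B ∧ blockDefect p B = d},
        ∑ χ ∈ Finset.univ.filter (fun χ : IrrCharacter G => χ ∈ b.1 ∧
          (irrDeg χ).factorization p = A - d),
          centralChar (χ : G → ℂ) (x i) * centralChar (χ : G → ℂ) (x j)⁻¹ *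
            (((irrDeg χ / p ^ (A - d) : ℕ) : ℂ) * (m χ : ℂ)) +
        ∑ χ ∈ Finset.univ.filter (fun χ : IrrCharacter G =>
          ¬ (blockDefect p (blockOf M (χ : G → ℂ)) = d ∧ (irrDeg χ).factorization p = A - d)),
          centralChar (χ : G → ℂ) (x i) * centralChar (χ : G → ℂ) (x j)⁻¹ *
            ((χ : G → ℂ) 1 * (m χ : ℂ)) / ((p : ℂ) ^ (A - d))) =
      (∑ b : {B : Set (IrrCharacter G) // IsPBlock M B ∧ blockDefect p B = d},
        ∑ χ ∈ Finset.univ.filter (fun χ : IrrCharacter G => χ ∈ b.1 ∧
          (irrDeg χ).factorization p = A - d),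
          (centralChar (ch b : G → ℂ) (x i) * centralChar (ch b : G → ℂ) (x j)⁻¹ -
            centralChar (χ : G → ℂ) (x i) * centralChar (χ : G → ℂ) (x j)⁻¹) *
            (((irrDeg χ / p ^ (A - d) : ℕ) : ℂ) * (m χ : ℂ))) -
        ∑ χ ∈ Finset.univ.filter (fun χ : IrrCharacter G =>
          ¬ (blockDefect p (blockOf M (χ : G → ℂ)) = d ∧ (irrDeg χ).factorization p = A - d)),
          centralChar (χ : G → ℂ) (x i) * centralChar (χ : G → ℂ) (x j)⁻¹ *
            ((χ : G → ℂ) 1 * (m χ : ℂ)) / ((p : ℂ) ^ (A - d)) := by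
    rw [← sub_sub]
    congr 1
    rw [← Finset.sum_sub_distrib]
    refine Finset.sum_congr rfl fun b _ => ?_
    rw [Finset.mul_sum, Finset.mul_sum, ← Finset.sum_sub_distrib]
    refine Finset.sum_congr rfl fun χ _ => ?_
    ring
  rw [hrew]
  apply li_sub hMp _ hbad
  apply li_sum hMp
  intro b _
  apply li_sum hMp
  intro χ hχ
  have hχb := (Finset.mem_filter.mp hχ).2.1
  have hsb := sameBlock_of_mem hMp b.2.1 (hch b) hχb
  apply li_mul_right hMp _ (lr_mul hMp (memLocalRing_natCast hMp _) (memLocalRing_intCast hMp _))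
  have e : centralChar (ch b : G → ℂ) (x i) * centralChar (ch b : G → ℂ) (x j)⁻¹ -
      centralChar (χ : G → ℂ) (x i) * centralChar (χ : G → ℂ) (x j)⁻¹ =
      (centralChar (ch b : G → ℂ) (x i) - centralChar (χ : G → ℂ) (x i)) *
        centralChar (ch b : G → ℂ) (x j)⁻¹ +
      centralChar (χ : G → ℂ) (x i) *
        (centralChar (ch b : G → ℂ) (x j)⁻¹ - centralChar (χ : G → ℂ) (x j)⁻¹) := by ring
  rw [e]
  apply li_add hMp
  · exact li_mul_right hMp (hsb (x i)) (memLocalRing_centralChar hMp _ _)
  · exact li_mul_left hMp (memLocalRing_centralChar hMp _ _) (hsb (x j)⁻¹)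

omit [Fintype (IrrCharacter G)] in
theorem char_eq_centralChar [Finite G] (χ : IrrCharacter G) (g : G) :
    (χ : G → ℂ) g = ((irrDeg χ : ℕ) : ℂ) * centralChar (χ : G → ℂ) g /
      (((Subgroup.centralizer ({g} : Set G)).index : ℕ) : ℂ) := by
  have hidx0 : (((Subgroup.centralizer ({g} : Set G)).index : ℕ) : ℂ) ≠ 0 := by
    have : (Subgroup.centralizer ({g} : Set G)).index ≠ 0 := Subgroup.index_ne_zero_of_finite
    exact_mod_cast this
  have h1 := irr_one_ne_zero χ
  rw [centralChar, ← irrDeg_spec]
  field_simp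

/-- **Classes with a common defect group and no `p`-element quotients give blocks.** -/
theorem main {p : ℕ} [hp : Fact p.Prime] (hM : IsPModular p M) (D : Subgroup G) {r : ℕ}
    (x : Fin r → G) (hx : ∀ i j : Fin r, IsConj (x i) (x j) → i = j)
    (hD : ∀ i : Fin r, ∃ S : Sylow p ↥(Subgroup.centralizer ({x i} : Set G)),
      (S : Subgroup ↥(Subgroup.centralizer ({x i} : Set G))).map
        (Subgroup.centralizer ({x i} : Set G)).subtype = D)
    (hsep : ∀ i j : Fin r, ∀ g h : G, IsConj (x i) g → IsConj (x j) h →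
      ∀ k : ℕ, 0 < k → orderOf (g * h⁻¹) ≠ p ^ k) :
    ∃ B : Fin r → Set (IrrCharacter G), Function.Injective B ∧
      (∀ i : Fin r, IsPBlock M (B i) ∧ IsDefectGroup p M (B i) D) ∧
      ∀ χ : Fin r → IrrCharacter G,
        (∀ i : Fin r, χ i ∈ B i ∧ blockHeight p (B i) (χ i : G → ℂ) = 0) →
        ¬ MemLocalIdeal M (Matrix.det (Matrix.of fun i j : Fin r => (χ i : G → ℂ) (x j))) := by
  classical
  have hMp := isPrime_of_isPModular hM
  have : Finite G := Finite.of_fintype G
  set A := (Nat.card G).factorization p with hA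
  set d := (Nat.card D).factorization p with hd_def
  -- the common `p`-part of the centralizers
  have hDS : ∀ i, IsSylowIn p D (Subgroup.centralizer ({x i} : Set G)) := fun i =>
    isSylowIn_iff.mpr (hD i)
  have hcardD : ∀ i, Nat.card D =
      p ^ (Nat.card (Subgroup.centralizer ({x i} : Set G))).factorization p := by
    intro i
    obtain ⟨S, hS⟩ := hD i
    rw [← hS, card_map_subtype]
    exact S.card_eq_multiplicity
  have hd : ∀ i, (Nat.card (Subgroup.centralizer ({x i} : Set G))).factorization p = d := by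
    intro i
    rw [hd_def, hcardD i, Nat.Prime.factorization_pow hp.out, Finsupp.single_eq_same]
  have hdA : ∀ i : Fin r, d ≤ A := by
    intro i
    have := factorization_index_centralizer p (x i)
    rw [hd i] at this
    omega
  -- the sums over the `p`-elements
  have hsum : ∀ χ : IrrCharacter G, ∃ m : ℤ,
      ∑ u ∈ Finset.univ.filter (fun x : G => ∃ k : ℕ, orderOf x = p ^ k),
        (starRingEnd ℂ) ((χ : G → ℂ) u) = ((p ^ (Nat.card G).factorization p : ℕ) : ℂ) * m :=
    fun χ => Cfsg.Agent.Helper5.PES.sum_pElements_irr p χ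
  choose m hm using hsum
  -- the blocks of defect `d`
  have : Fintype {B : Set (IrrCharacter G) // IsPBlock M B ∧ blockDefect p B = d} :=
    Fintype.ofFinite _
  have hchoose : ∀ b : {B : Set (IrrCharacter G) // IsPBlock M B ∧ blockDefect p B = d},
      ∃ χ : IrrCharacter G, χ ∈ b.1 := fun b => IsPBlock.nonempty hMp b.2.1
  choose ch hch using hchoose
  -- the matrices
  let W : Matrix (Fin r) {B : Set (IrrCharacter G) // IsPBlock M B ∧ blockDefect p B = d} ℂ :=
    fun i b => centralChar (ch b : G → ℂ) (x i)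
  let V : Matrix {B : Set (IrrCharacter G) // IsPBlock M B ∧ blockDefect p B = d} (Fin r) ℂ :=
    fun b j => centralChar (ch b : G → ℂ) (x j)⁻¹ *
      ∑ χ ∈ Finset.univ.filter (fun χ : IrrCharacter G => χ ∈ b.1 ∧
          (irrDeg χ).factorization p = A - d),
        ((irrDeg χ / p ^ (A - d) : ℕ) : ℂ) * (m χ : ℂ)
  let u : Fin r → ℂ := fun i =>
    (((Subgroup.centralizer ({x i} : Set G)).index / p ^ (A - d) : ℕ) : ℂ) *
      ((Nat.card G / p ^ A : ℕ) : ℂ)
  have hW : ∀ i b, IsIntegral ℤ (W i b) := fun i b => isIntegral_centralChar _ _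
  have hV : ∀ b j, IsIntegral ℤ (V b j) := by
    intro b j
    apply IsIntegral.mul (isIntegral_centralChar _ _)
    apply IsIntegral.sum
    intro χ _
    apply IsIntegral.mul
    · exact isIntegral_natCast _
    · exact isIntegral_intCast _
  have hu : ∀ i, IsIntegral ℤ (u i) := by
    intro i
    apply IsIntegral.mul
    · exact isIntegral_natCast _
    · exact isIntegral_natCast _
  have hu' : ∀ i, ¬ MemLocalIdeal M (u i) := by
    intro i hli
    have e : u i = (((Subgroup.centralizer ({x i} : Set G)).index / p ^ (A - d) *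
        (Nat.card G / p ^ A) : ℕ) : ℂ) := by
      simp only [u]
      push_cast
      rfl
    rw [e, memLocalIdeal_natCast_iff hM] at hli
    rcases (Nat.Prime.dvd_mul hp.out).mp hli with h1 | h1
    · have hidx0 : (Subgroup.centralizer ({x i} : Set G)).index ≠ 0 :=
        Subgroup.index_ne_zero_of_finite
      have h2 := factorization_index_centralizer p (x i)
      rw [hd i] at h2
      have h3 : A - d = (Subgroup.centralizer ({x i} : Set G)).index.factorization p := by omega
      rw [h3] at h1
      exact Nat.not_dvd_ordCompl hp.out hidx0 h1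
    · exact Nat.not_dvd_ordCompl hp.out Nat.card_pos.ne' h1
  have hcong : ∀ i j, MemLocalIdeal M ((W * V) i j - if i = j then u i else 0) := by
    intro i j
    rw [Matrix.mul_apply]
    exact congr_matrix hM x d hd hx hsep m hm ch hch i j
  obtain ⟨f, hf, hdet⟩ := Cfsg.Agent.Helper5.Minor.exists_minor_not_li hM.2.1 W V u hW hV hu hu' hcong
  refine ⟨fun l => (f l).1, ?_, ?_, ?_⟩
  · intro l l' hll
    exact hf (Subtype.ext hll)
  · intro l
    refine ⟨(f l).2.1, ?_⟩
    -- some `ω(x i)` is a unit
    have hex : ∃ i, ¬ MemLocalIdeal M (W i (f l)) := by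
      by_contra hcon
      push Not at hcon
      apply hdet
      apply Cfsg.Agent.Helper5.Minor.li_det_of_col_li hMp _ _ l
      · intro i
        exact hcon i
      · intro i j
        exact hW i (f j)
    obtain ⟨i, hi⟩ := hex
    have hB := (f l).2.1
    obtain ⟨w, hw⟩ := Cfsg.Agent.S0906.result p M hM (f l).1 hB
    obtain ⟨Wg, hWg⟩ := exists_isSylowIn (p := p) (Subgroup.centralizer ({w} : Set G))
    have hDg : IsDefectGroup p M (f l).1 Wg := isDefectGroup_iff.mpr ⟨w, hw, hWg⟩
    have hcardW : Nat.card Wg = p ^ blockDefect p (f l).1 := card_defectGroup hM hB hDg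
    obtain ⟨y, hy⟩ := minmax_sylow hM (f l).1 hB (x i) w
      (not_memLocalIdeal_centralChar_of_mem hMp hB ⟨ch (f l), hch (f l), hi⟩) hw.2.1 D Wg
      (hDS i) hWg
    have hcardDy : Nat.card (D.map (cj y)) = Nat.card D :=
      Subgroup.card_map_of_injective (cj_injective y)
    have hEq : Wg = D.map (cj y) := by
      apply Subgroup.eq_of_le_of_card_ge hy
      rw [hcardDy, hcardW, (f l).2.2, hcardD i, hd i]
    have hD2 := isDefectGroup_map_cj hDg y⁻¹
    rw [hEq] at hD2
    have h3 := map_cj_inv_map_cj D y⁻¹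
    rw [inv_inv] at h3
    rw [h3] at hD2
    exact hD2
  · intro χ hχ
    -- the matrix of central characters
    have hΩ : ¬ MemLocalIdeal M (Matrix.det (Matrix.of fun l j : Fin r =>
        centralChar (χ l : G → ℂ) (x j))) := by
      intro hli
      apply hdet
      have h1 := Cfsg.Agent.Helper5.Minor.li_det_sub_det hMp
        (Matrix.of fun l j : Fin r => centralChar (χ l : G → ℂ) (x j))
        (Matrix.of fun l j : Fin r => W j (f l))
        (fun l j => isIntegral_centralChar _ _) (fun l j => hW j (f l))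
        (fun l j => sameBlock_of_mem hMp (f l).2.1 (hχ l).1 (hch (f l)) (x j))
      have h2 : (Matrix.of fun l j : Fin r => W j (f l)).det =
          (Matrix.of fun i l : Fin r => W i (f l)).det := by
        rw [← Matrix.det_transpose]
        rfl
      rw [h2] at h1
      have h3 := li_sub hMp hli h1
      rwa [sub_sub_cancel] at h3
    -- pass to the character values
    have hfac : (Matrix.of fun i j : Fin r => (χ i : G → ℂ) (x j)) =
        Matrix.diagonal (fun l : Fin r => ((irrDeg (χ l) : ℕ) : ℂ)) *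
          (Matrix.of fun l j : Fin r => centralChar (χ l : G → ℂ) (x j)) *
          Matrix.diagonal (fun j : Fin r =>
            ((((Subgroup.centralizer ({x j} : Set G)).index : ℕ) : ℂ))⁻¹) := by
      ext l j
      rw [Matrix.mul_diagonal, Matrix.diagonal_mul]
      simp only [Matrix.of_apply]
      rw [char_eq_centralChar (χ l) (x j), div_eq_mul_inv]
    rw [hfac, Matrix.det_mul, Matrix.det_mul, Matrix.det_diagonal, Matrix.det_diagonal]
    have hprodinv : ∏ j : Fin r, ((((Subgroup.centralizer ({x j} : Set G)).index : ℕ) : ℂ))⁻¹ =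
        (((∏ j : Fin r, (Subgroup.centralizer ({x j} : Set G)).index : ℕ) : ℂ))⁻¹ := by
      push_cast
      rw [Finset.prod_inv_distrib]
    have hprodα : ∏ l : Fin r, ((irrDeg (χ l) : ℕ) : ℂ) =
        ((∏ l : Fin r, irrDeg (χ l) : ℕ) : ℂ) := by
      push_cast
      rfl
    rw [hprodinv, hprodα, ← div_eq_mul_inv]
    have hα0 : (∏ l : Fin r, irrDeg (χ l)) ≠ 0 :=
      Finset.prod_ne_zero_iff.mpr (fun l _ => (irrDeg_pos (χ l)).ne')
    have hβ0 : (∏ j : Fin r, (Subgroup.centralizer ({x j} : Set G)).index) ≠ 0 :=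
      Finset.prod_ne_zero_iff.mpr (fun j _ => Subgroup.index_ne_zero_of_finite)
    have hν : (∏ l : Fin r, irrDeg (χ l)).factorization p =
        (∏ j : Fin r, (Subgroup.centralizer ({x j} : Set G)).index).factorization p := by
      rw [Nat.factorization_prod (fun l _ => (irrDeg_pos (χ l)).ne'),
        Nat.factorization_prod (fun j _ => Subgroup.index_ne_zero_of_finite),
        Finset.sum_apply', Finset.sum_apply']
      refine Finset.sum_congr rfl fun l _ => ?_
      have h1 := factorization_irrDeg_of_height_zero (χ l) (hχ l).1 (hχ l).2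
      rw [(f l).2.2] at h1
      have h2 := factorization_index_centralizer p (x l)
      rw [hd l] at h2
      omega
    rw [li_natCast_mul_div_iff hM _ _ hα0 hβ0 hν]
    exact hΩ

end Cfsg.Agent.Helper5.BFC
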