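import Mathlib
import Cfsg.Prelude.Def_Characters
import Cfsg.Agent.Helper5.ElementarySplit
import Cfsg.Agent.Helper24.BrauerChar
import Cfsg.Agent.Helper24.Artin
import Cfsg.Agent.Helper24.RealChar
import Cfsg.Agent.Helper8.Ind

/-!
# Class functions constant on `π`-sections are algebraic-integer combinations of characters
-/

set_option autoImplicit false

namespace Cfsg.Agent.Helper5

open Cfsg Cfsg.Agent.Helper24

/-- Elements with equal `m`-th powers and orders dividing `n` coprime to `m` are equal. -/
theorem eq_of_pow_eq_of_coprime {G : Type*} [Group G] {x y : G} {m n : ℕ} (h : Nat.Coprime m n)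
    (hx : x ^ n = 1) (hy : y ^ n = 1) (hxy : x ^ m = y ^ m) : x = y := by
  have hb := Nat.gcd_eq_gcd_ab m n
  rw [h.gcd_eq_one] at hb
  have key : ∀ z : G, z ^ n = 1 → z = (z ^ m) ^ (Nat.gcdA m n) := by
    intro z hz
    have h1 : z ^ ((m : ℤ) * Nat.gcdA m n + (n : ℤ) * Nat.gcdB m n) = z := by
      rw [← hb]; simp
    rw [zpow_add, zpow_mul, zpow_mul, zpow_natCast, zpow_natCast, hz, one_zpow, mul_one] at h1
    exact h1.symm
  rw [key x hx, key y hy, hxy]

section Quot

variable {E : Type*} [Group E] [Fintype E]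

/-- A class function that is invariant under a normal subgroup `A`, with values integer multiples of
`N` where `|E : A|` divides `N`, is an algebraic-integer combination of characters. -/
theorem mem_charSpanA_of_invariant (A : Subgroup E) [A.Normal] (f : E → ℂ)
    (hf : IsClassFunction E f) (hinv : ∀ e : E, ∀ a ∈ A, f (e * a) = f e) (N : ℕ)
    (hN : A.index ∣ N) (hval : ∀ e, ∃ z : ℤ, f e = (N : ℂ) * z) : f ∈ charSpanA E := by
  classical
  have : Fintype (E ⧸ A) := Fintype.ofFinite _
  have : Fintype (IrrCharacter (E ⧸ A)) := Fintype.ofFinite _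
  set fbar : E ⧸ A → ℂ := fun q => f q.out with hfbar
  have hlift : ∀ e : E, fbar (QuotientGroup.mk e) = f e := by
    intro e
    obtain ⟨a, ha⟩ := QuotientGroup.mk_out_eq_mul A e
    simp only [hfbar]
    rw [ha]
    exact hinv e a a.2
  have hcf : IsClassFunction (E ⧸ A) fbar := by
    intro q t
    obtain ⟨e, rfl⟩ := QuotientGroup.mk_surjective q
    obtain ⟨s, rfl⟩ := QuotientGroup.mk_surjective t
    have : (QuotientGroup.mk s : E ⧸ A) * QuotientGroup.mk e * (QuotientGroup.mk s)⁻¹ =
        QuotientGroup.mk (s * e * s⁻¹) := by simp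
    rw [this, hlift, hlift]
    exact hf e s
  have hexp := IsClassFunction.eq_sum_classInner hcf
  have hidx : A.index = Nat.card (E ⧸ A) := Subgroup.index_eq_card A
  have hcoef : ∀ ξ : IrrCharacter (E ⧸ A), IsIntegral ℤ (classInner fbar (ξ : E ⧸ A → ℂ)) := by
    intro ξ
    rw [classInner, Finset.mul_sum]
    apply IsIntegral.sum
    intro q _
    obtain ⟨e, rfl⟩ := QuotientGroup.mk_surjective q
    obtain ⟨z, hz⟩ := hval e
    obtain ⟨c, hc⟩ := hN
    have hpos : (Nat.card (E ⧸ A) : ℂ) ≠ 0 := by
      have : 0 < Nat.card (E ⧸ A) := Nat.card_pos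
      exact_mod_cast this.ne'
    have e1 : (Nat.card (E ⧸ A) : ℂ)⁻¹ * (fbar (QuotientGroup.mk e) *
        (starRingEnd ℂ) ((ξ : E ⧸ A → ℂ) (QuotientGroup.mk e))) =
        ((c * z : ℤ) : ℂ) * (starRingEnd ℂ) ((ξ : E ⧸ A → ℂ) (QuotientGroup.mk e)) := by
      rw [hlift, hz, hc, hidx]
      push_cast
      field_simp
    rw [e1]
    apply IsIntegral.mul
    · exact isIntegral_algebraMap (R := ℤ) (A := ℂ) (x := c * z) |> fun h => by simpa using h
    · have := irr_isIntegral ξ (QuotientGroup.mk e)
      exact this.map (starRingEnd ℂ).toIntAlgHom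
  have hfeq : f = fun e => fbar (QuotientGroup.mk e) := by
    funext e; exact (hlift e).symm
  rw [hfeq, hexp]
  have : (fun e : E => (∑ ξ : IrrCharacter (E ⧸ A),
      classInner fbar (ξ : E ⧸ A → ℂ) • (ξ : E ⧸ A → ℂ)) (QuotientGroup.mk e)) =
      ∑ ξ : IrrCharacter (E ⧸ A), classInner fbar (ξ : E ⧸ A → ℂ) •
        (fun e : E => (ξ : E ⧸ A → ℂ) (QuotientGroup.mk e)) := by
    funext e
    simp [Finset.sum_apply]
  rw [this]
  apply sum_mem
  intro ξ _
  apply AddSubgroup.subset_closure
  exact ⟨_, _, hcoef ξ, Cfsg.Agent.Helper8.isCharacter_comp (QuotientGroup.mk' A)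
    (IsIrrCharacter.isCharacter ξ.2), rfl⟩

end Quot

section Ind

variable {G : Type*} [Group G] [Fintype G]

/-- Induction maps algebraic-integer combinations of characters to such. -/
theorem indFun_mem_charSpanA (H : Subgroup G) {f : H → ℂ} (hf : f ∈ charSpanA H) :
    indFun H f ∈ charSpanA G := by
  induction hf using AddSubgroup.closure_induction with
  | mem h hh =>
    obtain ⟨a, θ, ha, hθ, rfl⟩ := hh
    rw [Cfsg.Agent.Helper8.indFun_smul]
    apply AddSubgroup.subset_closure
    exact ⟨a, indFun H θ, ha, isCharacter_indFun H hθ, rfl⟩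
  | zero => rw [Cfsg.Agent.Helper8.indFun_zero]; exact zero_mem _
  | add x y _ _ hx hy => rw [Cfsg.Agent.Helper8.indFun_add]; exact add_mem hx hy
  | neg x _ hx => rw [Cfsg.Agent.Helper8.indFun_neg]; exact neg_mem hx

/-- **Brauer's characterization, algebraic-integer version.** A class function whose restriction
to every elementary subgroup is an algebraic-integer combination of characters is one itself. -/
theorem mem_charSpanA_of_restrict_elementary (θ : G → ℂ) (hθ : IsClassFunction G θ)
    (hE : ∀ (E : Subgroup G) (p : ℕ), p.Prime → IsElementary p E →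
      (fun e : E => θ e) ∈ charSpanA E) : θ ∈ charSpanA G := by
  have key : ∀ f ∈ AddSubgroup.closure (brauerIndSet G), f * θ ∈ charSpanA G := by
    intro f hf
    induction hf using AddSubgroup.closure_induction with
    | mem φ hφ =>
      obtain ⟨p, E, ψ, hp, hEl, hψ, rfl⟩ := hφ
      rw [← indFun_mul_restrict E ψ θ hθ]
      apply indFun_mem_charSpanA
      rw [mul_comm]
      exact charSpanA_mul_character (hE E p hp hEl) hψ
    | zero => rw [zero_mul]; exact zero_mem _
    | add x y _ _ hx hy => rw [add_mul]; exact add_mem hx hy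
    | neg x _ hx => rw [neg_mul]; exact neg_mem hx
  have := key _ (one_mem_closure_brauerIndSet (G := G))
  have h1 : (fun _ : G => (1 : ℂ)) * θ = θ := by
    funext g
    simp
  rwa [h1] at this

end Ind

end Cfsg.Agent.Helper5
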