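import Mathlib
import Cfsg.Prelude.Def_Characters
import Cfsg.Agent.Helper5.SectionChar

/-!
# The indicator of a `π`-section, scaled by `n`, is an algebraic-integer combination of characters
-/

set_option autoImplicit false

namespace Cfsg.Agent.Helper5

open Cfsg Cfsg.Agent.Helper24

variable {G : Type*} [Group G]

/-- `x` lies in the section of `g`: `x = u * v` with `u`, `v` commuting, the order of `u` coprime to
`n`, the order of `v` coprime to `m`, and `v` conjugate to `g`. -/
def InSection (m n : ℕ) (g x : G) : Prop :=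
  ∃ v : G, IsConj v g ∧ (∃ u : G, x = u * v ∧ Commute u v ∧ Nat.Coprime (orderOf u) n ∧
    Nat.Coprime (orderOf v) m)

theorem InSection.conj {m n : ℕ} {g x : G} (h : InSection m n g x) (t : G) :
    InSection m n g (t * x * t⁻¹) := by
  obtain ⟨v, hv, u, rfl, hc, hu, hv'⟩ := h
  refine ⟨t * v * t⁻¹, ?_, t * u * t⁻¹, ?_, ?_, ?_, ?_⟩
  · refine IsConj.trans ?_ hv
    rw [isConj_iff]
    exact ⟨t⁻¹, by group⟩
  · group
  · have := hc.eq
    show t * u * t⁻¹ * (t * v * t⁻¹) = t * v * t⁻¹ * (t * u * t⁻¹)
    calc t * u * t⁻¹ * (t * v * t⁻¹) = t * (u * v) * t⁻¹ := by group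
      _ = t * (v * u) * t⁻¹ := by rw [this]
      _ = t * v * t⁻¹ * (t * u * t⁻¹) := by group
  · have : orderOf (t * u * t⁻¹) = orderOf u := by
      have := orderOf_injective (MulAut.conj t).toMonoidHom (MulAut.conj t).injective u
      simpa using this
    rwa [this]
  · have : orderOf (t * v * t⁻¹) = orderOf v := by
      have := orderOf_injective (MulAut.conj t).toMonoidHom (MulAut.conj t).injective v
      simpa using this
    rwa [this]

theorem inSection_conj_iff {m n : ℕ} {g x : G} (t : G) :
    InSection m n g (t * x * t⁻¹) ↔ InSection m n g x := by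
  constructor
  · intro h
    have := h.conj t⁻¹
    have e : t⁻¹ * (t * x * t⁻¹) * t⁻¹⁻¹ = x := by group
    rwa [e] at this
  · intro h; exact h.conj t

/-- Membership in the section for a product `a * b` of commuting elements of coprime orders. -/
theorem inSection_mul_iff [Finite G] {m n : ℕ} (hmn : Nat.card G = m * n) (hcop : Nat.Coprime m n) (g : G)
    {a b : G} (hab : Commute a b) (ha : a ^ m = 1) (hb : b ^ n = 1) :
    InSection m n g (a * b) ↔ IsConj b g := by
  constructor
  · rintro ⟨v, hv, u, huv, hc, hu, hv'⟩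
    have hum : u ^ m = 1 := by
      have h1 : orderOf u ∣ m * n := by rw [← hmn]; exact orderOf_dvd_natCard u
      exact orderOf_dvd_iff_pow_eq_one.mp (hu.dvd_of_dvd_mul_right h1)
    have hvn : v ^ n = 1 := by
      have h1 : orderOf v ∣ m * n := by rw [← hmn]; exact orderOf_dvd_natCard v
      exact orderOf_dvd_iff_pow_eq_one.mp (hv'.dvd_of_dvd_mul_left h1)
    have h1 : (a * b) ^ m = b ^ m := by rw [hab.mul_pow, ha, one_mul]
    have h2 : (u * v) ^ m = v ^ m := by rw [hc.mul_pow, hum, one_mul]
    have h3 : b ^ m = v ^ m := by rw [← h1, ← h2, huv]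
    have := eq_of_pow_eq_of_coprime hcop hb hvn h3
    rw [this]
    exact hv
  · intro h
    refine ⟨b, h, a, rfl, hab, ?_, ?_⟩
    · exact Nat.Coprime.coprime_dvd_left (orderOf_dvd_iff_pow_eq_one.mpr ha) hcop
    · exact Nat.Coprime.coprime_dvd_left (orderOf_dvd_iff_pow_eq_one.mpr hb) hcop.symm

variable [Fintype G]

/-- **Section indicator.** If `|G| = m * n` with `m`, `n` coprime, the function equal to `n` on the
section of `g` and `0` elsewhere is an algebraic-integer combination of characters. -/
theorem section_mem_charSpanA (m n : ℕ) (hmn : Nat.card G = m * n) (hcop : Nat.Coprime m n)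
    (g : G) (ϑ : G → ℂ) (hϑ1 : ∀ x : G, InSection m n g x → ϑ x = n)
    (hϑ0 : ∀ x : G, ¬ InSection m n g x → ϑ x = 0) : ϑ ∈ charSpanA G := by
  classical
  have hGpos : 0 < Nat.card G := Nat.card_pos
  have hm0 : m ≠ 0 := fun h => by rw [h, zero_mul] at hmn; omega
  have hn0 : n ≠ 0 := fun h => by rw [h, mul_zero] at hmn; omega
  have hcf : IsClassFunction G ϑ := by
    intro x t
    by_cases h : InSection m n g x
    · rw [hϑ1 x h, hϑ1 _ (h.conj t)]
    · rw [hϑ0 x h, hϑ0 _ (fun h' => h ((inSection_conj_iff t).mp h'))]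
  apply mem_charSpanA_of_restrict_elementary ϑ hcf
  intro E q hq hEl
  have : Fintype E := Fintype.ofFinite _
  have hEcard : Nat.card E ∣ m * n := by rw [← hmn]; exact Subgroup.card_subgroup_dvd_card E
  obtain ⟨A, B, hAn, hcomm, hprod, hAm, hBn⟩ := exists_coprime_split hq hEl m n hcop hm0 hn0 hEcard
  -- the key description on `E`
  have hkey : ∀ a ∈ A, ∀ b ∈ B, ϑ ((a * b : E) : G) = if IsConj (b : G) g then (n : ℂ) else 0 := by
    intro a ha b hb
    have hab : Commute (a : G) (b : G) := by
      have := congrArg Subtype.val (hcomm a ha b hb)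
      exact this
    have ham : (a : G) ^ m = 1 := by
      have h1 : orderOf a ∣ Nat.card A := Subgroup.orderOf_dvd_natCard A ha
      have h2 : a ^ m = 1 := orderOf_dvd_iff_pow_eq_one.mp (h1.trans hAm)
      have := congrArg Subtype.val h2
      simpa using this
    have hbn : (b : G) ^ n = 1 := by
      have h1 : orderOf b ∣ Nat.card B := Subgroup.orderOf_dvd_natCard B hb
      have h2 : b ^ n = 1 := orderOf_dvd_iff_pow_eq_one.mp (h1.trans hBn)
      have := congrArg Subtype.val h2
      simpa using this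
    have hiff := inSection_mul_iff hmn hcop g hab ham hbn
    have hcoe : ((a * b : E) : G) = (a : G) * (b : G) := rfl
    rw [hcoe]
    by_cases h : IsConj (b : G) g
    · rw [if_pos h, hϑ1 _ (hiff.mpr h)]
    · rw [if_neg h, hϑ0 _ (fun h' => h (hiff.mp h'))]
  apply mem_charSpanA_of_invariant A (fun e : E => ϑ e) _ _ n _ _
  · intro e t
    exact hcf (e : G) (t : G)
  · intro e a' ha'
    obtain ⟨a, ha, b, hb, rfl⟩ := hprod e
    have e1 : a * b * a' = (a * a') * b := by
      rw [mul_assoc, ← hcomm a' ha' b hb, ← mul_assoc]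
    show ϑ ((a * b * a' : E) : G) = ϑ ((a * b : E) : G)
    rw [e1, hkey _ (A.mul_mem ha ha') b hb, hkey a ha b hb]
  · -- `A.index ∣ n`
    have hsurj : Function.Surjective ((QuotientGroup.mk' A).comp B.subtype) := by
      intro q
      obtain ⟨e, rfl⟩ := QuotientGroup.mk_surjective q
      obtain ⟨a, ha, b, hb, rfl⟩ := hprod e
      refine ⟨⟨b, hb⟩, ?_⟩
      show (QuotientGroup.mk b : E ⧸ A) = QuotientGroup.mk (a * b)
      rw [QuotientGroup.mk_mul, (QuotientGroup.eq_one_iff a).mpr ha, one_mul]
    have := Subgroup.card_dvd_of_surjective _ hsurj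
    rw [Subgroup.index_eq_card]
    exact this.trans hBn
  · intro e
    obtain ⟨a, ha, b, hb, rfl⟩ := hprod e
    show ∃ z : ℤ, ϑ ((a * b : E) : G) = (n : ℂ) * z
    rw [hkey a ha b hb]
    by_cases h : IsConj (b : G) g
    · exact ⟨1, by rw [if_pos h]; simp⟩
    · exact ⟨0, by rw [if_neg h]; simp⟩

end Cfsg.Agent.Helper5
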