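import Mathlib
import Cfsg.Prelude.Def_Blocks
import Cfsg.Agent.Helper5.SectionChar2
import Cfsg.Agent.Helper5.ThirdMain
import Cfsg.Agent.Helper5.DefectOrder
import Cfsg.Agent.Helper5.HeightZero2
import Cfsg.Agent.Helper5.CentralDefect
import Cfsg.Agent.S0906
import Cfsg.Agent.Helper5.KerDegrees

set_option autoImplicit false
set_option linter.unusedSectionVars false
set_option linter.unusedVariables false

/-!
# The `p`-part of `∑_{χ ∈ B} χ(1)²`

On the `p`-regular elements every class function with values in the local ring is a combination of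
the irreducible characters with coefficients in the local ring (via the section indicators of
Brauer's characterization of characters).  For a block idempotent this combination can be taken in
the block, which gives `e_B(1) = p^(a-d) * unit`.
-/

namespace Cfsg.Agent.Helper5.BDS

open Cfsg Cfsg.Agent.Helper24 Cfsg.Agent.Helper5 Cfsg.Agent.Helper5.Loc Cfsg.Agent.Helper5.CC
open Cfsg.Agent.Helper14

variable {G : Type*} [Group G] [Fintype G] {M : Ideal AlgInt}

omit [Fintype G] in
/-- On the `p`-regular elements the `p'`-section of `g` is the class of `g`. -/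
theorem inSection_iff_of_regular [Finite G] {p : ℕ} [hp : Fact p.Prime] (a n : ℕ)
    (hmn : Nat.card G = p ^ a * n) (g x : G) (hx : ¬ p ∣ orderOf x) :
    InSection (p ^ a) n g x ↔ IsConj x g := by
  constructor
  · rintro ⟨v, hv, u, rfl, hc, hu, hv'⟩
    have hudvd : orderOf u ∣ p ^ a := by
      have h1 : orderOf u ∣ p ^ a * n := by rw [← hmn]; exact orderOf_dvd_natCard u
      exact (Nat.Coprime.dvd_of_dvd_mul_right hu) h1
    have hcop : Nat.Coprime (orderOf u) (orderOf v) :=
      (Nat.Coprime.coprime_dvd_right hudvd hv').symm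
    have hord : orderOf (u * v) = orderOf u * orderOf v :=
      hc.orderOf_mul_eq_mul_orderOf_of_coprime hcop
    obtain ⟨k, hk, hk'⟩ := (Nat.dvd_prime_pow hp.out).mp hudvd
    have hk0 : k = 0 := by
      by_contra h
      apply hx
      rw [hord, hk']
      exact Dvd.dvd.mul_right (dvd_pow_self p h) _
    rw [hk0, pow_zero, orderOf_eq_one_iff] at hk'
    rw [hk', one_mul]
    exact hv
  · intro h
    refine ⟨x, h, 1, (one_mul x).symm, Commute.one_left x, ?_, ?_⟩
    · rw [orderOf_one]; exact Nat.coprime_one_left n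
    · exact Nat.Coprime.pow_right a ((Nat.Prime.coprime_iff_not_dvd hp.out).mpr hx).symm

/-- **Class functions on the `p`-regular elements.** A class function with values in the local ring
agrees on the `p`-regular elements with a combination of the irreducible characters with
coefficients in the local ring. -/
theorem exists_lr_coeff_of_regular [Fintype (IrrCharacter G)] {p : ℕ} [hp : Fact p.Prime]
    (hM : IsPModular p M) {f : G → ℂ} (hf : IsClassFunction G f)
    (hfM : ∀ t, MemLocalRing M (f t)) :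
    ∃ r : IrrCharacter G → ℂ, (∀ χ, MemLocalRing M (r χ)) ∧
      ∀ x : G, ¬ p ∣ orderOf x → f x = ∑ χ : IrrCharacter G, r χ * (χ : G → ℂ) x := by
  classical
  have hMp := isPrime_of_isPModular hM
  have : Finite G := Finite.of_fintype G
  have : Fintype (ConjClasses G) := Fintype.ofFinite _
  set a := (Nat.card G).factorization p with ha
  set n := Nat.card G / p ^ a with hn
  have hGpos : 0 < Nat.card G := Nat.card_pos
  have hmn : Nat.card G = p ^ a * n := (Nat.mul_div_cancel' (Nat.ordProj_dvd _ _)).symm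
  have hpn : ¬ p ∣ n := Nat.not_dvd_ordCompl hp.out hGpos.ne'
  have hcop : Nat.Coprime (p ^ a) n :=
    Nat.Coprime.pow_left a ((Nat.Prime.coprime_iff_not_dvd hp.out).mpr hpn)
  have hn0 : (n : ℂ) ≠ 0 := by
    have : n ≠ 0 := fun h => hpn (h ▸ dvd_zero p)
    exact_mod_cast this
  -- the section indicators
  have hsec : ∀ g : G, ∃ d : IrrCharacter G → ℂ, (∀ χ, IsIntegral ℤ (d χ)) ∧
      ∀ x : G, ¬ p ∣ orderOf x →
        ∑ χ : IrrCharacter G, d χ * (χ : G → ℂ) x = (n : ℂ) * classIndicator g x := by
    intro g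
    have hmem := section_mem_charSpanA (p ^ a) n hmn hcop g
      (fun x => if InSection (p ^ a) n g x then (n : ℂ) else 0)
      (fun x hx => if_pos hx) (fun x hx => if_neg hx)
    obtain ⟨d, hd, hdeq⟩ := charSpanA_exists_coeff hmem
    refine ⟨d, hd, fun x hx => ?_⟩
    have h1 := congrFun hdeq x
    rw [Finset.sum_apply] at h1
    simp only [Pi.smul_apply, smul_eq_mul] at h1
    rw [← h1]
    by_cases hc : IsConj g x
    · rw [if_pos ((inSection_iff_of_regular a n hmn g x hx).mpr hc.symm),
        classIndicator_of_isConj hc, mul_one]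
    · rw [if_neg (fun h => hc ((inSection_iff_of_regular a n hmn g x hx).mp h).symm),
        classIndicator_of_not_isConj hc, mul_zero]
  choose d hd hdsum using hsec
  refine ⟨fun χ => (n : ℂ)⁻¹ * ∑ K : ConjClasses G, f (rep K) * d (rep K) χ, ?_, ?_⟩
  · intro χ
    apply lr_mul hMp (memLocalRing_inv_natCast hM hpn)
    apply lr_sum hMp
    intro K _
    exact lr_mul hMp (hfM _) (memLocalRing_of_isIntegral hMp (hd _ χ))
  · intro x hx
    have h1 : ∑ χ : IrrCharacter G, ((n : ℂ)⁻¹ * ∑ K : ConjClasses G, f (rep K) * d (rep K) χ) *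
        (χ : G → ℂ) x = (n : ℂ)⁻¹ * ∑ K : ConjClasses G, f (rep K) *
          ∑ χ : IrrCharacter G, d (rep K) χ * (χ : G → ℂ) x := by
      have e1 : ∀ χ : IrrCharacter G, ((n : ℂ)⁻¹ * ∑ K : ConjClasses G, f (rep K) * d (rep K) χ) *
          (χ : G → ℂ) x = ∑ K : ConjClasses G, (n : ℂ)⁻¹ * (f (rep K) * (d (rep K) χ *
            (χ : G → ℂ) x)) := by
        intro χ
        rw [Finset.mul_sum, Finset.sum_mul]
        refine Finset.sum_congr rfl fun K _ => ?_
        ring
      have e2 : ∀ K : ConjClasses G, f (rep K) * ∑ χ : IrrCharacter G, d (rep K) χ * (χ : G → ℂ) x =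
          ∑ χ : IrrCharacter G, f (rep K) * (d (rep K) χ * (χ : G → ℂ) x) := by
        intro K
        rw [Finset.mul_sum]
      rw [Finset.sum_congr rfl (fun χ _ => e1 χ), Finset.sum_congr rfl (fun K _ => e2 K),
        Finset.sum_comm, Finset.mul_sum]
      refine Finset.sum_congr rfl fun K _ => ?_
      rw [Finset.mul_sum]
    rw [h1]
    have h2 : ∑ K : ConjClasses G, f (rep K) * ∑ χ : IrrCharacter G, d (rep K) χ * (χ : G → ℂ) x =
        (n : ℂ) * ∑ K : ConjClasses G, f (rep K) * classIndicator (rep K) x := by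
      rw [Finset.mul_sum]
      refine Finset.sum_congr rfl fun K _ => ?_
      rw [hdsum (rep K) x hx]
      ring
    rw [h2, sum_conjClasses_classIndicator hf x, ← mul_assoc, inv_mul_cancel₀ hn0, one_mul]

open Classical in
/-- **The block idempotent on the `p`-regular elements** is a combination of the members of the
block with coefficients in the local ring. -/
theorem blockCoeff_regular_expansion [Fintype (IrrCharacter G)] {p : ℕ} [hp : Fact p.Prime]
    (hM : IsPModular p M) {B : Set (IrrCharacter G)} (hB : IsPBlock M B) :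
    ∃ r : IrrCharacter G → ℂ, (∀ χ, MemLocalRing M (r χ)) ∧
      ∀ x : G, ¬ p ∣ orderOf x → blockCoeff B x⁻¹ =
        ∑ χ : IrrCharacter G, (if χ ∈ B then r χ else 0) * (χ : G → ℂ) x := by
  classical
  have hMp := isPrime_of_isPModular hM
  have : Finite G := Finite.of_fintype G
  have hGne : (Nat.card G : ℂ) ≠ 0 := by
    have : 0 < Nat.card G := Nat.card_pos
    exact_mod_cast this.ne'
  set f : G → ℂ := fun g => blockCoeff B g⁻¹ with hf
  have hfcf : IsClassFunction G f := by
    intro g t
    show blockCoeff B (t * g * t⁻¹)⁻¹ = blockCoeff B g⁻¹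
    have : (t * g * t⁻¹)⁻¹ = t * g⁻¹ * t⁻¹ := by group
    rw [this, isClassFunction_blockCoeff B g⁻¹ t]
  have hfM : ∀ t, MemLocalRing M (f t) := fun t => osima hMp B hB t⁻¹
  obtain ⟨r, hr, hrf⟩ := exists_lr_coeff_of_regular hM hfcf hfM
  refine ⟨r, hr, ?_⟩
  -- the explicit form of `f`
  have hfeq : ∀ g : G, f g = (Nat.card G : ℂ)⁻¹ * ∑ χ : IrrCharacter G,
      (if χ ∈ B then (1 : ℂ) else 0) * ((χ : G → ℂ) 1 * (χ : G → ℂ) g) := by
    intro g
    show blockCoeff B g⁻¹ = _
    rw [blockCoeff_eq]
    congr 1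
    refine Finset.sum_congr rfl fun χ _ => ?_
    rw [← irr_inv χ, inv_inv]
  -- the complementary part
  set h : G → ℂ := fun x => regInd p x *
    ∑ χ : IrrCharacter G, (if χ ∈ B then 0 else r χ) * (χ : G → ℂ) x with hh
  have hsplit : ∀ x : G, ∑ χ : IrrCharacter G, r χ * (χ : G → ℂ) x =
      ∑ χ : IrrCharacter G, (if χ ∈ B then r χ else 0) * (χ : G → ℂ) x +
      ∑ χ : IrrCharacter G, (if χ ∈ B then 0 else r χ) * (χ : G → ℂ) x := by
    intro x
    rw [← Finset.sum_add_distrib]
    refine Finset.sum_congr rfl fun χ _ => ?_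
    by_cases hχ : χ ∈ B
    · rw [if_pos hχ, if_pos hχ]; ring
    · rw [if_neg hχ, if_neg hχ]; ring
  have hh2 : ∀ x : G, h x = f x - regInd p x *
      ∑ χ : IrrCharacter G, (if χ ∈ B then r χ else 0) * (χ : G → ℂ) x := by
    intro x
    by_cases hx : p ∣ orderOf x
    · have hx' : p ∣ orderOf x⁻¹ := by rwa [orderOf_inv]
      show regInd p x * _ = blockCoeff B x⁻¹ - _
      rw [regInd_of_dvd hx, blockCoeff_eq_zero_of_singular hM hB x⁻¹ hx']
      ring
    · show regInd p x * _ = f x - _
      rw [regInd_of_not_dvd hx, hrf x hx, hsplit x]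
      ring
  have hhcf : IsClassFunction G h := by
    intro g t
    show regInd p (t * g * t⁻¹) * _ = regInd p g * _
    rw [isClassFunction_regInd p g t]
    congr 1
    refine Finset.sum_congr rfl fun χ _ => ?_
    rw [isClassFunction_irr χ g t]
  have hzero : h = 0 := by
    apply eq_zero_of_classInner_irr_eq_zero h hhcf
    intro ξ
    by_cases hξ : ξ ∈ B
    · -- use the first form
      rw [classInner]
      have e1 : ∑ g : G, h g * (starRingEnd ℂ) ((ξ : G → ℂ) g) =
          ∑ χ : IrrCharacter G, (if χ ∈ B then 0 else r χ) *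
            ∑ g : G, regInd p g * ((χ : G → ℂ) g * (starRingEnd ℂ) ((ξ : G → ℂ) g)) := by
        simp_rw [hh, Finset.mul_sum, Finset.sum_mul]
        rw [Finset.sum_comm]
        refine Finset.sum_congr rfl fun χ _ => ?_
        refine Finset.sum_congr rfl fun g _ => ?_
        ring
      rw [e1, Finset.sum_eq_zero, mul_zero]
      intro χ _
      by_cases hχ : χ ∈ B
      · rw [if_pos hχ, zero_mul]
      · rw [sum_regInd_mul_conj_eq_zero hM hB χ hχ ξ hξ, mul_zero]
    · -- use the second form
      rw [classInner]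
      have e1 : ∑ g : G, h g * (starRingEnd ℂ) ((ξ : G → ℂ) g) =
          (Nat.card G : ℂ)⁻¹ * ∑ χ : IrrCharacter G, (if χ ∈ B then (1 : ℂ) else 0) *
            ((χ : G → ℂ) 1 * ∑ g : G, (χ : G → ℂ) g * (starRingEnd ℂ) ((ξ : G → ℂ) g)) -
          ∑ χ : IrrCharacter G, (if χ ∈ B then r χ else 0) *
            ∑ g : G, regInd p g * ((χ : G → ℂ) g * (starRingEnd ℂ) ((ξ : G → ℂ) g)) := by
        have e2 : ∀ g : G, h g * (starRingEnd ℂ) ((ξ : G → ℂ) g) =
            ∑ χ : IrrCharacter G, ((Nat.card G : ℂ)⁻¹ * ((if χ ∈ B then (1 : ℂ) else 0) *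
              ((χ : G → ℂ) 1 * ((χ : G → ℂ) g * (starRingEnd ℂ) ((ξ : G → ℂ) g)))) -
            (if χ ∈ B then r χ else 0) *
              (regInd p g * ((χ : G → ℂ) g * (starRingEnd ℂ) ((ξ : G → ℂ) g)))) := by
          intro g
          rw [hh2 g, hfeq g, Finset.sum_sub_distrib, sub_mul, Finset.mul_sum, Finset.sum_mul,
            Finset.mul_sum, Finset.sum_mul]
          congr 1
          · refine Finset.sum_congr rfl fun χ _ => ?_
            ring
          · refine Finset.sum_congr rfl fun χ _ => ?_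
            ring
        rw [Finset.sum_congr rfl (fun g _ => e2 g), Finset.sum_comm]
        simp_rw [Finset.sum_sub_distrib]
        congr 1
        · rw [Finset.mul_sum]
          refine Finset.sum_congr rfl fun χ _ => ?_
          rw [Finset.mul_sum, Finset.mul_sum, Finset.mul_sum]
        · refine Finset.sum_congr rfl fun χ _ => ?_
          rw [Finset.mul_sum]
      rw [e1]
      have z1 : ∑ χ : IrrCharacter G, (if χ ∈ B then (1 : ℂ) else 0) *
            ((χ : G → ℂ) 1 * ∑ g : G, (χ : G → ℂ) g * (starRingEnd ℂ) ((ξ : G → ℂ) g)) = 0 := by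
        apply Finset.sum_eq_zero
        intro χ _
        by_cases hχ : χ ∈ B
        · have hne : χ ≠ ξ := fun h => hξ (h ▸ hχ)
          have h1 := classInner_irr_ne hne
          simp only [classInner] at h1
          have h2 : ∑ g : G, (χ : G → ℂ) g * (starRingEnd ℂ) ((ξ : G → ℂ) g) = 0 := by
            rcases mul_eq_zero.mp h1 with h | h
            · exact absurd h (inv_ne_zero hGne)
            · exact h
          rw [h2, mul_zero, mul_zero]
        · rw [if_neg hχ, zero_mul]
      have z2 : ∑ χ : IrrCharacter G, (if χ ∈ B then r χ else 0) *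
            ∑ g : G, regInd p g * ((χ : G → ℂ) g * (starRingEnd ℂ) ((ξ : G → ℂ) g)) = 0 := by
        apply Finset.sum_eq_zero
        intro χ _
        by_cases hχ : χ ∈ B
        · have h1 := sum_regInd_mul_conj_eq_zero hM hB ξ hξ χ hχ
          have h2 := congrArg (starRingEnd ℂ) h1
          simp only [map_sum, map_mul, map_zero, Complex.conj_conj] at h2
          have h3 : ∑ g : G, regInd p g * ((χ : G → ℂ) g * (starRingEnd ℂ) ((ξ : G → ℂ) g)) = 0 := by
            refine Eq.trans ?_ h2
            refine Finset.sum_congr rfl fun g _ => ?_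
            have : (starRingEnd ℂ) (regInd p g) = regInd p g := by
              unfold regInd; split_ifs <;> simp
            rw [this]; ring
          rw [h3, mul_zero]
        · rw [if_neg hχ, zero_mul]
      rw [z1, z2]
      simp
  intro x hx
  have h1 := congrFun hzero x
  rw [hh2 x, regInd_of_not_dvd hx, one_mul] at h1
  exact sub_eq_zero.mp h1

open Classical in
/-- **The coefficient of `1` in a block idempotent** is `p ^ (a - d)` times a unit of the local
ring, `p ^ a` the `p`-part of the group order and `d` the defect of the block. -/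
theorem blockCoeff_one_eq [Fintype (IrrCharacter G)] {p : ℕ} [hp : Fact p.Prime]
    (hM : IsPModular p M) {B : Set (IrrCharacter G)} (hB : IsPBlock M B) :
    ∃ ρ : ℂ, MemLocalRing M ρ ∧ ¬ MemLocalIdeal M ρ ∧ blockDefect p B ≤ (Nat.card G).factorization p ∧
      blockCoeff B 1 =
        ((p ^ ((Nat.card G).factorization p - blockDefect p B) : ℕ) : ℂ) * ρ := by
  have hMp := isPrime_of_isPModular hM
  have : Finite G := Finite.of_fintype G
  obtain ⟨y, hy⟩ := Cfsg.Agent.S0906.result p M hM B hB
  have hyreg : ¬ p ∣ orderOf y := not_dvd_orderOf_of_defectClass hM hB hy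
  set C := Subgroup.centralizer ({y} : Set G) with hC
  obtain ⟨D, hD⟩ := exists_isSylowIn (p := p) C
  have hDB : IsDefectGroup p M B D := isDefectGroup_iff.mpr ⟨y, hy, hD⟩
  have hcard := card_defectGroup hM hB hDB
  have hcard2 : Nat.card D = p ^ (Nat.card C).factorization p := by
    rw [← hD.toSylow_map, card_map_subtype]
    exact (hD.toSylow).card_eq_multiplicity
  have hd : blockDefect p B = (Nat.card C).factorization p :=
    Nat.pow_right_injective hp.out.two_le (hcard.symm.trans hcard2)
  set a := (Nat.card G).factorization p with ha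
  set d := blockDefect p B with hdd
  set e := C.index.factorization p with he
  have hGC : Nat.card C * C.index = Nat.card G := Subgroup.card_mul_index C
  have hidx0 : C.index ≠ 0 := Subgroup.index_ne_zero_of_finite
  have hfac : a = d + e := by
    rw [ha, ← hGC, Nat.factorization_mul (Nat.card_pos (α := C)).ne' hidx0, Finsupp.add_apply,
      ← hd]
  have hae : a - d = e := by omega
  set k' := C.index / p ^ e with hk'
  have hidx : C.index = p ^ e * k' := (Nat.mul_div_cancel' (Nat.ordProj_dvd _ _)).symm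
  have hpk : ¬ p ∣ k' := Nat.not_dvd_ordCompl hp.out hidx0
  have hdiv : ∀ χ ∈ B, p ^ e ∣ irrDeg χ := fun χ hχ =>
    pow_dvd_irrDeg_of_unit hM χ y (hy.2.2 χ hχ) e (Nat.ordProj_dvd _ _)
  set c : IrrCharacter G → ℕ := fun χ => irrDeg χ / p ^ e with hc
  have hcχ : ∀ χ ∈ B, (χ : G → ℂ) 1 = ((p ^ e : ℕ) : ℂ) * (c χ : ℂ) := by
    intro χ hχ
    rw [irrDeg_spec, ← Nat.cast_mul, hc]
    beta_reduce
    rw [Nat.mul_div_cancel' (hdiv χ hχ)]
  obtain ⟨r, hr, hrexp⟩ := blockCoeff_regular_expansion hM hB
  set ρ : ℂ := ∑ χ : IrrCharacter G, (if χ ∈ B then r χ else 0) * (c χ : ℂ) with hρ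
  have hρR : MemLocalRing M ρ := by
    apply lr_sum hMp
    intro χ _
    apply lr_mul hMp _ (memLocalRing_natCast hMp _)
    split_ifs
    · exact hr χ
    · exact memLocalRing_zero hMp
  have hone : blockCoeff B 1 = ((p ^ e : ℕ) : ℂ) * ρ := by
    have h1 := hrexp 1 (by rw [orderOf_one]; exact hp.out.not_dvd_one)
    rw [inv_one] at h1
    rw [h1, hρ, Finset.mul_sum]
    refine Finset.sum_congr rfl fun χ _ => ?_
    by_cases hχ : χ ∈ B
    · rw [if_pos hχ, hcχ χ hχ]; ring
    · rw [if_neg hχ]; ring
  refine ⟨ρ, hρR, ?_, by omega, by rw [hae]; exact hone⟩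
  -- `ρ` is a unit
  intro hρI
  obtain ⟨χ₀, hχ₀⟩ := IsPBlock.nonempty hMp hB
  set w := centralChar (χ₀ : G → ℂ) y⁻¹ with hw
  have hyinv : ¬ p ∣ orderOf y⁻¹ := by rwa [orderOf_inv]
  have h2 := hrexp y⁻¹ hyinv
  rw [inv_inv] at h2
  have hp0 : ((p ^ e : ℕ) : ℂ) ≠ 0 := by
    have : p ^ e ≠ 0 := (pow_pos hp.out.pos e).ne'
    exact_mod_cast this
  -- values at `y⁻¹`
  have hval : ∀ χ ∈ B, (k' : ℂ) * (χ : G → ℂ) y⁻¹ =
      centralChar (χ : G → ℂ) y⁻¹ * (c χ : ℂ) := by
    intro χ hχ
    have h1 : (χ : G → ℂ) 1 ≠ 0 := irr_one_ne_zero χ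
    have hω : ((Subgroup.centralizer ({y⁻¹} : Set G)).index : ℂ) * (χ : G → ℂ) y⁻¹ =
        centralChar (χ : G → ℂ) y⁻¹ * (χ : G → ℂ) 1 := by
      rw [centralChar]
      field_simp
    rw [Cfsg.Agent.Helper5.CD.centralizer_singleton_inv, ← hC, hidx, hcχ χ hχ] at hω
    push_cast at hω
    have hp0' : ((p : ℂ) ^ e) ≠ 0 := by
      have := hp0
      push_cast at this
      exact this
    apply mul_left_cancel₀ hp0'
    linear_combination hω
  have hkey : MemLocalIdeal M ((k' : ℂ) * blockCoeff B y - w * ρ) := by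
    have e1 : (k' : ℂ) * blockCoeff B y - w * ρ =
        ∑ χ : IrrCharacter G, (if χ ∈ B then
          r χ * ((centralChar (χ : G → ℂ) y⁻¹ - w) * (c χ : ℂ)) else 0) := by
      rw [h2, hρ, Finset.mul_sum, Finset.mul_sum, ← Finset.sum_sub_distrib]
      refine Finset.sum_congr rfl fun χ _ => ?_
      by_cases hχ : χ ∈ B
      · rw [if_pos hχ, if_pos hχ]
        have := hval χ hχ
        linear_combination (r χ) * this
      · rw [if_neg hχ, if_neg hχ]; ring
    rw [e1]
    apply li_sum hMp
    intro χ _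
    by_cases hχ : χ ∈ B
    · rw [if_pos hχ]
      apply li_mul_left hMp (hr χ)
      apply li_mul_right hMp _ (memLocalRing_natCast hMp _)
      have := sameBlock_of_mem hMp hB hχ hχ₀ y⁻¹
      exact this
    · rw [if_neg hχ]; exact memLocalIdeal_zero hMp
  have hwR : MemLocalRing M w := memLocalRing_centralChar hMp χ₀ _
  have h3 : MemLocalIdeal M ((k' : ℂ) * blockCoeff B y) := by
    have := li_add hMp hkey (li_mul_left hMp hwR hρI)
    rwa [sub_add_cancel] at this
  rcases li_of_mul hMp (memLocalRing_natCast hMp k') hy.1 h3 with h4 | h4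
  · exact hpk ((memLocalIdeal_natCast_iff hM k').mp h4)
  · exact hy.2.1 h4

omit [Fintype G] in
/-- A natural number equal to `p ^ k` times a unit of the local ring has `p`-adic valuation `k`. -/
theorem factorization_eq_of_eq_pow_mul_unit {p : ℕ} [hp : Fact p.Prime] (hM : IsPModular p M)
    (S k : ℕ) (u : ℂ) (huR : MemLocalRing M u) (huI : ¬ MemLocalIdeal M u)
    (h : (S : ℂ) = ((p ^ k : ℕ) : ℂ) * u) : S.factorization p = k := by
  have hMp := isPrime_of_isPModular hM
  have hp0 : (p : ℂ) ≠ 0 := by exact_mod_cast hp.out.ne_zero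
  have hS0 : S ≠ 0 := by
    rintro rfl
    apply huI
    have : u = 0 := by
      have hpk : ((p ^ k : ℕ) : ℂ) ≠ 0 := by
        have : p ^ k ≠ 0 := (pow_pos hp.out.pos k).ne'
        exact_mod_cast this
      have h' : ((p ^ k : ℕ) : ℂ) * u = 0 := by rw [← h]; simp
      rcases mul_eq_zero.mp h' with h1 | h1
      · exact absurd h1 hpk
      · exact h1
    rw [this]
    exact memLocalIdeal_zero hMp
  obtain ⟨s, S', hS', hSeq⟩ := Nat.exists_eq_pow_mul_and_not_dvd hS0 p hp.out.ne_one
  have hS'0 : S' ≠ 0 := fun h0 => hS' (h0 ▸ dvd_zero p)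
  have hfs : S.factorization p = s := by
    rw [hSeq, Nat.factorization_mul (pow_pos hp.out.pos s).ne' hS'0, Finsupp.add_apply,
      Nat.Prime.factorization_pow hp.out, Nat.factorization_eq_zero_of_not_dvd hS']
    simp
  rw [hfs]
  rw [hSeq] at h
  push_cast at h
  rcases lt_trichotomy s k with hlt | heq | hgt
  · exfalso
    apply hS'
    rw [← memLocalIdeal_natCast_iff hM]
    have e1 : (S' : ℂ) = ((p ^ (k - s) : ℕ) : ℂ) * u := by
      have hps : (p : ℂ) ^ s ≠ 0 := pow_ne_zero _ hp0
      apply mul_left_cancel₀ hps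
      rw [h]
      push_cast
      rw [← mul_assoc, ← pow_add]
      congr 2
      omega
    rw [e1]
    apply li_mul_right hMp _ huR
    rw [memLocalIdeal_natCast_iff hM]
    exact dvd_pow_self p (by omega)
  · exact heq
  · exfalso
    apply huI
    have e1 : u = ((p ^ (s - k) : ℕ) : ℂ) * (S' : ℂ) := by
      have hpk : (p : ℂ) ^ k ≠ 0 := pow_ne_zero _ hp0
      apply mul_left_cancel₀ hpk
      rw [← h]
      push_cast
      rw [← mul_assoc, ← pow_add]
      congr 2
      omega
    rw [e1]
    apply li_mul_right hMp _ (memLocalRing_natCast hMp _)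
    rw [memLocalIdeal_natCast_iff hM]
    exact dvd_pow_self p (by omega)

/-- **The `p`-part of the sum of the squares of the degrees in a block** is `p ^ (2a - d)`. -/
theorem factorization_sum_degree_sq [Fintype (IrrCharacter G)] {p : ℕ} [hp : Fact p.Prime]
    (hM : IsPModular p M) {B : Set (IrrCharacter G)} (hB : IsPBlock M B) :
    (∑ᶠ χ ∈ B, charDegree (χ : G → ℂ) ^ 2).factorization p =
      2 * (Nat.card G).factorization p - blockDefect p B := by
  classical
  have hMp := isPrime_of_isPModular hM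
  have : Finite G := Finite.of_fintype G
  obtain ⟨ρ, hρR, hρI, hda, hone⟩ := blockCoeff_one_eq hM hB
  set a := (Nat.card G).factorization p with ha
  set d := blockDefect p B with hd
  set m := Nat.card G / p ^ a with hm
  have hGpos : 0 < Nat.card G := Nat.card_pos
  have hmn : Nat.card G = p ^ a * m := (Nat.mul_div_cancel' (Nat.ordProj_dvd _ _)).symm
  have hpm : ¬ p ∣ m := Nat.not_dvd_ordCompl hp.out hGpos.ne'
  have hGne : (Nat.card G : ℂ) ≠ 0 := by exact_mod_cast hGpos.ne'
  -- the sum as a complex number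
  have hS : ((∑ᶠ χ ∈ B, charDegree (χ : G → ℂ) ^ 2 : ℕ) : ℂ) =
      (Nat.card G : ℂ) * blockCoeff B 1 := by
    rw [blockCoeff_eq, ← mul_assoc, mul_inv_cancel₀ hGne, one_mul, finsum_mem_eq_sum_ite']
    push_cast
    refine Finset.sum_congr rfl fun χ _ => ?_
    by_cases hχ : χ ∈ B
    · rw [if_pos hχ, if_pos hχ, one_mul, charDegree_eq_irrDeg, ← irr_inv χ, inv_one, irrDeg_spec]
      ring
    · rw [if_neg hχ, if_neg hχ, zero_mul]
  apply factorization_eq_of_eq_pow_mul_unit hM _ _ ((m : ℂ) * ρ)
    (lr_mul hMp (memLocalRing_natCast hMp m) hρR)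
  · intro h
    rcases li_of_mul hMp (memLocalRing_natCast hMp m) hρR h with h1 | h1
    · exact hpm ((memLocalIdeal_natCast_iff hM m).mp h1)
    · exact hρI h1
  · rw [hS, hone, hmn]
    push_cast
    have : (p : ℂ) ^ (2 * a - d) = (p : ℂ) ^ a * (p : ℂ) ^ (a - d) := by
      rw [← pow_add]; congr 1; omega
    rw [this]
    ring

end Cfsg.Agent.Helper5.BDS
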