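import Mathlib
import Cfsg.Prelude.Def_Blocks
import Cfsg.Agent.Helper5.QuotP
import Cfsg.Agent.Helper5.ClaimN
import Cfsg.Agent.Helper5.DefectGroups2
import Cfsg.Agent.Helper5.DefectOrder
import Cfsg.Agent.S0906
import Cfsg.Agent.Helper5.BlockDegSq
import Cfsg.Agent.Helper5.BrauerMap2

set_option autoImplicit false
set_option linter.unusedSectionVars false
set_option linter.unusedVariables false

/-!
# Blocks of a quotient group inside blocks of the group

For `N ⊴ G`, central characters of inflated characters are integer multiples of the central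
characters of the quotient; a block of `G ⧸ N` contained in the block `B` of `G` has its defect
groups inside images of defect groups of `B`.
-/

namespace Cfsg.Agent.Helper5.QB

open Cfsg Cfsg.Agent.Helper24 Cfsg.Agent.Helper5 Cfsg.Agent.Helper5.Loc Cfsg.Agent.Helper5.CC
open Cfsg.Agent.Helper14

variable {G : Type*} [Group G] [Fintype G] {M : Ideal AlgInt}

variable (N : Subgroup G) [hNn : N.Normal]

omit [Fintype G] in
/-- The centralizer of `g` lies in the preimage of the centralizer of its image. -/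
theorem centralizer_le_comap (g : G) :
    Subgroup.centralizer ({g} : Set G) ≤
      (Subgroup.centralizer ({(g : G ⧸ N)} : Set (G ⧸ N))).comap (QuotientGroup.mk' N) := by
  intro x hx
  rw [Subgroup.mem_comap, Subgroup.mem_centralizer_singleton_iff]
  rw [Subgroup.mem_centralizer_singleton_iff] at hx
  show ((x : G ⧸ N)) * (g : G ⧸ N) = (g : G ⧸ N) * (x : G ⧸ N)
  rw [← QuotientGroup.mk_mul, ← QuotientGroup.mk_mul, hx]

omit [Fintype G] in
/-- The class size of `g` is a multiple of the class size of its image. -/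
theorem index_centralizer_eq_mul (g : G) :
    (Subgroup.centralizer ({g} : Set G)).index =
      (Subgroup.centralizer ({g} : Set G)).relIndex
        ((Subgroup.centralizer ({(g : G ⧸ N)} : Set (G ⧸ N))).comap (QuotientGroup.mk' N)) *
      (Subgroup.centralizer ({(g : G ⧸ N)} : Set (G ⧸ N))).index := by
  rw [← Subgroup.relIndex_mul_index (centralizer_le_comap N g),
    Subgroup.index_comap_of_surjective _ (QuotientGroup.mk'_surjective N)]

/-- **Central characters of inflated characters.** -/
theorem centralChar_infl_eq (χ : IrrCharacter (G ⧸ N)) (g : G) :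
    centralChar (infl N χ : G → ℂ) g =
      ((Subgroup.centralizer ({g} : Set G)).relIndex
        ((Subgroup.centralizer ({(g : G ⧸ N)} : Set (G ⧸ N))).comap (QuotientGroup.mk' N)) : ℂ) *
      centralChar (χ : G ⧸ N → ℂ) (g : G ⧸ N) := by
  rw [centralChar, centralChar, index_centralizer_eq_mul N g, infl_apply, infl_apply]
  push_cast
  rw [QuotientGroup.mk_one]
  ring

/-- **Transfer of Sylow subgroups of centralizers to the quotient.** -/
theorem isSylowIn_map_mk {p : ℕ} [hp : Fact p.Prime] (g : G) (P : Subgroup G)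
    (hP : IsSylowIn p P (Subgroup.centralizer ({g} : Set G)))
    (hk : ¬ p ∣ (Subgroup.centralizer ({g} : Set G)).relIndex
        ((Subgroup.centralizer ({(g : G ⧸ N)} : Set (G ⧸ N))).comap (QuotientGroup.mk' N))) :
    IsSylowIn p (P.map (QuotientGroup.mk' N))
      (Subgroup.centralizer ({(g : G ⧸ N)} : Set (G ⧸ N))) := by
  classical
  have : Finite G := Finite.of_fintype G
  set Cs := (Subgroup.centralizer ({(g : G ⧸ N)} : Set (G ⧸ N))).comap (QuotientGroup.mk' N)
    with hCs
  have hle : Subgroup.centralizer ({g} : Set G) ≤ Cs := centralizer_le_comap N g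
  -- `P` is a Sylow subgroup of the preimage
  have hP' : IsSylowIn p P Cs := by
    apply isSylowIn_of_card hle _ hP
    intro S S'
    rw [S.card_eq_multiplicity, S'.card_eq_multiplicity]
    congr 1
    have h1 : Nat.card (Subgroup.centralizer ({g} : Set G)) *
        (Subgroup.centralizer ({g} : Set G)).relIndex Cs = Nat.card Cs := by
      rw [Subgroup.relIndex, ← Subgroup.card_mul_index
        ((Subgroup.centralizer ({g} : Set G)).subgroupOf Cs)]
      congr 1
      exact (Nat.card_congr (Subgroup.subgroupOfEquivOfLe hle).toEquiv).symm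
    rw [← h1, Nat.factorization_mul Nat.card_pos.ne' (by
      intro h0
      rw [h0] at hk
      exact hk (dvd_zero _)), Finsupp.add_apply,
      Nat.factorization_eq_zero_of_not_dvd hk, add_zero]
  -- push it forward
  have hφ : Function.Surjective ((QuotientGroup.mk' N).subgroupComap
      (Subgroup.centralizer ({(g : G ⧸ N)} : Set (G ⧸ N)))) :=
    MonoidHom.subgroupComap_surjective_of_surjective _ _ (QuotientGroup.mk'_surjective N)
  have hS := isSylowIn_of_sylow ((hP'.toSylow).mapSurjective hφ)
  convert hS using 1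
  rw [Sylow.coe_mapSurjective]
  ext y
  constructor
  · rintro ⟨x, hx, rfl⟩
    have hxC : x ∈ Cs := hP'.1 hx
    refine ⟨⟨(QuotientGroup.mk' N) x, hxC⟩, ?_, rfl⟩
    refine ⟨⟨x, hxC⟩, ?_, rfl⟩
    show (⟨x, hxC⟩ : Cs) ∈ P.subgroupOf Cs
    rw [Subgroup.mem_subgroupOf]
    exact hx
  · rintro ⟨y', ⟨x, hx, rfl⟩, rfl⟩
    have hx' : (x : G) ∈ P := by
      have : x ∈ P.subgroupOf Cs := hx
      rwa [Subgroup.mem_subgroupOf] at this
    exact ⟨x, hx', rfl⟩

omit [Fintype G] in
theorem map_cj_map_mk (P : Subgroup G) (x : G) :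
    (P.map (QuotientGroup.mk' N)).map (cj ((x : G ⧸ N))) =
      (P.map (cj x)).map (QuotientGroup.mk' N) := by
  rw [Subgroup.map_map, Subgroup.map_map]
  congr 1

/-- **A block of the quotient inside a block of the group: defect groups.** -/
theorem defectGroup_quotient_le [Fintype (IrrCharacter G)] [Fintype (G ⧸ N)]
    [Fintype (IrrCharacter (G ⧸ N))] {p : ℕ} [hp : Fact p.Prime] (hM : IsPModular p M)
    (Bbar : Set (IrrCharacter (G ⧸ N))) (hBbar : IsPBlock M Bbar)
    (B : Set (IrrCharacter G)) (hB : IsPBlock M B)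
    (hsub : ∀ χ ∈ Bbar, infl N χ ∈ B) (Dbar : Subgroup (G ⧸ N))
    (hDbar : IsDefectGroup p M Bbar Dbar) :
    ∃ P : Subgroup G, IsDefectGroup p M B P ∧ Dbar ≤ P.map (QuotientGroup.mk' N) := by
  classical
  have hMp := isPrime_of_isPModular hM
  have : Finite G := Finite.of_fintype G
  have : Fintype (ConjClasses G) := Fintype.ofFinite _
  obtain ⟨χb, hχb⟩ := IsPBlock.nonempty hMp hBbar
  have hχB : infl N χb ∈ B := hsub χb hχb
  -- a class where both the idempotent coefficient and the central character are units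
  have hone : ∑ K : ConjClasses G, blockCoeff B (rep K) *
      centralChar (infl N χb : G → ℂ) (rep K) = 1 := by
    rw [← act_eq_sum_centralChar (isClassFunction_blockCoeff B), act_blockCoeff, if_pos hχB]
  obtain ⟨K, hK⟩ : ∃ K : ConjClasses G, ¬ MemLocalIdeal M (blockCoeff B (rep K) *
      centralChar (infl N χb : G → ℂ) (rep K)) := by
    by_contra hcon
    push Not at hcon
    have := li_sum hMp Finset.univ _ (fun K _ => hcon K)
    rw [hone] at this
    exact not_memLocalIdeal_one hMp this
  set g := rep K with hg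
  have hosima := osima hMp B hB g
  have hωlr := memLocalRing_centralChar hMp (infl N χb) g
  have ha : ¬ MemLocalIdeal M (blockCoeff B g) := fun h => hK (li_mul_right hMp h hωlr)
  have hω : ¬ MemLocalIdeal M (centralChar (infl N χb : G → ℂ) g) :=
    fun h => hK (li_mul_left hMp hosima h)
  have hgdef : IsDefectClass M B g :=
    ⟨hosima, ha, not_memLocalIdeal_centralChar_of_mem hMp hB ⟨infl N χb, hχB, hω⟩⟩
  obtain ⟨P, hP⟩ := exists_isSylowIn (p := p) (Subgroup.centralizer ({g} : Set G))
  have hPD : IsDefectGroup p M B P := isDefectGroup_iff.mpr ⟨g, hgdef, hP⟩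
  -- down to the quotient
  rw [centralChar_infl_eq] at hω
  have hk : ¬ p ∣ (Subgroup.centralizer ({g} : Set G)).relIndex
      ((Subgroup.centralizer ({(g : G ⧸ N)} : Set (G ⧸ N))).comap (QuotientGroup.mk' N)) := by
    intro hdvd
    apply hω
    exact li_mul_right hMp ((memLocalIdeal_natCast_iff hM _).mpr hdvd)
      (memLocalRing_centralChar hMp χb _)
  have hωb : ¬ MemLocalIdeal M (centralChar (χb : G ⧸ N → ℂ) (g : G ⧸ N)) :=
    fun h => hω (li_mul_left hMp (memLocalRing_natCast hMp _) h)
  have hPb := isSylowIn_map_mk N g P hP hk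
  obtain ⟨w, hw, hDS⟩ := isDefectGroup_iff.mp hDbar
  obtain ⟨xb, hxb⟩ := minmax_sylow hM Bbar hBbar (g : G ⧸ N) w
    (not_memLocalIdeal_centralChar_of_mem hMp hBbar ⟨χb, hχb, hωb⟩) hw.2.1 _ Dbar hPb hDS
  obtain ⟨x, rfl⟩ := QuotientGroup.mk_surjective xb
  refine ⟨P.map (cj x), isDefectGroup_map_cj hPD x, ?_⟩
  rw [← map_cj_map_mk]
  exact hxb

/-- Inflation preserves blocks. -/
theorem sameBlock_infl (hMp : M.IsPrime) [Finite G] (χ ψ : IrrCharacter (G ⧸ N))
    (h : SameBlock M (χ : G ⧸ N → ℂ) (ψ : G ⧸ N → ℂ)) :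
    SameBlock M (infl N χ : G → ℂ) (infl N ψ : G → ℂ) := by
  intro g
  rw [centralChar_infl_eq, centralChar_infl_eq, ← mul_sub]
  exact li_mul_left hMp (memLocalRing_natCast hMp _) (h (g : G ⧸ N))

/-- **A normal `p`-subgroup lies in every defect group.** -/
theorem normal_le_defectGroup [Fintype (IrrCharacter G)] {p : ℕ} [hp : Fact p.Prime]
    (hM : IsPModular p M) (hN : IsPGroup p N) {B : Set (IrrCharacter G)} (hB : IsPBlock M B)
    {D : Subgroup G} (hD : IsDefectGroup p M B D) : N ≤ D := by
  have hMp := isPrime_of_isPModular hM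
  obtain ⟨g, hg, hS⟩ := isDefectGroup_iff.mp hD
  obtain ⟨χ, hχ⟩ := IsPBlock.nonempty hMp hB
  have hgC : g ∈ Subgroup.centralizer (N : Set G) := by
    by_contra hcon
    exact hg.2.2 χ hχ (centralChar_memLocalIdeal_of_not_mem_centralizer hM N hN χ g hcon)
  have hNC : N ≤ Subgroup.centralizer ({g} : Set G) := by
    intro n hn
    rw [Subgroup.mem_centralizer_singleton_iff]
    exact (Subgroup.mem_centralizer_iff.mp hgC n hn)
  have hsup : IsPGroup p ↥(N ⊔ D) := IsPGroup.to_sup_of_normal_left hN hS.2.1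
  have := hS.2.2 (N ⊔ D) (sup_le hNC hS.1) hsup le_sup_right
  rw [← this]
  exact le_sup_left

omit [Fintype G] in
/-- The order of the image of a subgroup containing `N`. -/
theorem card_map_mk_mul [Finite G] (P : Subgroup G) (hNP : N ≤ P) :
    Nat.card (P.map (QuotientGroup.mk' N)) * Nat.card N = Nat.card P := by
  have h1 : (P.map (QuotientGroup.mk' N)).comap (QuotientGroup.mk' N) = P := by
    apply Subgroup.comap_map_eq_self
    rw [QuotientGroup.ker_mk']
    exact hNP
  have h2 : (P.map (QuotientGroup.mk' N)).index = P.index := by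
    rw [← Subgroup.index_comap_of_surjective _ (QuotientGroup.mk'_surjective N), h1]
  have h3 := Subgroup.card_mul_index (P.map (QuotientGroup.mk' N))
  have h4 := Subgroup.card_eq_card_quotient_mul_card_subgroup N
  have h5 := Subgroup.card_mul_index P
  have hidx : P.index ≠ 0 := Subgroup.index_ne_zero_of_finite
  rw [h2] at h3
  apply Nat.eq_of_mul_eq_mul_right (Nat.pos_of_ne_zero hidx)
  calc Nat.card (P.map (QuotientGroup.mk' N)) * Nat.card N * P.index
      = (Nat.card (P.map (QuotientGroup.mk' N)) * P.index) * Nat.card N := by ring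
    _ = Nat.card (G ⧸ N) * Nat.card N := by rw [h3]
    _ = Nat.card G := h4.symm
    _ = Nat.card P * P.index := h5.symm

/-- **Every block contains a block of the quotient by a normal `p`-subgroup, of large defect.** -/
theorem exists_block_quotient [Fintype (IrrCharacter G)] [Fintype (G ⧸ N)]
    [Fintype (IrrCharacter (G ⧸ N))] {p : ℕ} [hp : Fact p.Prime] (hM : IsPModular p M)
    (hN : IsPGroup p N) (n : ℕ) (hn : Nat.card N = p ^ n)
    {B : Set (IrrCharacter G)} (hB : IsPBlock M B) :
    ∃ Bbar : Set (IrrCharacter (G ⧸ N)), IsPBlock M Bbar ∧ (∀ χ ∈ Bbar, infl N χ ∈ B) ∧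
      blockDefect p B ≤ blockDefect p Bbar + n := by
  classical
  have hMp := isPrime_of_isPModular hM
  have : Finite G := Finite.of_fintype G
  have : Fintype {b : Set (IrrCharacter (G ⧸ N)) // IsPBlock M b} := Fintype.ofFinite _
  set 𝒮 : Finset {b : Set (IrrCharacter (G ⧸ N)) // IsPBlock M b} :=
    Finset.univ.filter (fun b => ∀ χ ∈ b.1, infl N χ ∈ B) with h𝒮
  -- the image of the block idempotent
  have hcc : push N (blockCoeff B) = ∑ b ∈ 𝒮, blockCoeff b.1 := by
    apply eq_of_act_eq (isClassFunction_push N (isClassFunction_blockCoeff B))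
      (isClassFunction_sum _ _ (fun b _ => isClassFunction_blockCoeff b.1))
    intro χ
    rw [act_push, act_blockCoeff, act_sum]
    simp_rw [act_blockCoeff]
    by_cases hχ : infl N χ ∈ B
    · rw [if_pos hχ]
      have hb0 : (⟨blockOf M (χ : G ⧸ N → ℂ), isPBlock_blockOf χ⟩ :
          {b : Set (IrrCharacter (G ⧸ N)) // IsPBlock M b}) ∈ 𝒮 := by
        rw [h𝒮, Finset.mem_filter]
        refine ⟨Finset.mem_univ _, ?_⟩
        intro ψ hψ
        have hs := sameBlock_infl N hMp χ ψ (mem_blockOf_iff.mp hψ)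
        rw [IsPBlock_eq_blockOf hMp hB hχ]
        exact mem_blockOf_iff.mpr hs
      rw [Finset.sum_eq_single_of_mem _ hb0]
      · rw [if_pos (mem_blockOf_self hMp χ)]
      · intro b _ hb
        rw [if_neg]
        intro hmem
        apply hb
        apply Subtype.ext
        exact IsPBlock_eq_blockOf hMp b.2 hmem
    · rw [if_neg hχ]
      symm
      apply Finset.sum_eq_zero
      intro b hb
      rw [if_neg]
      intro hmem
      exact hχ ((Finset.mem_filter.mp hb).2 χ hmem)
  -- evaluate at the identity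
  have hone : push N (blockCoeff B) ((1 : G) : G ⧸ N) = blockCoeff B 1 := by
    rw [push_apply, Finset.sum_eq_single 1]
    · rw [if_pos rfl]
    · intro t _ ht
      split_ifs with h1
      · have htN : t ∈ N := (QuotientGroup.eq_one_iff t).mp h1
        obtain ⟨k, hk⟩ := (IsPGroup.iff_orderOf.mp hN) ⟨t, htN⟩
        rw [← Subgroup.orderOf_coe] at hk
        have hk0 : k ≠ 0 := by
          rintro rfl
          rw [pow_zero, orderOf_eq_one_iff] at hk
          exact ht hk
        apply blockCoeff_eq_zero_of_singular hM hB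
        show p ∣ orderOf t
        rw [hk]
        exact dvd_pow_self p hk0
      · rfl
    · intro h
      exact absurd (Finset.mem_univ _) h
  have hval : blockCoeff B 1 = ∑ b ∈ 𝒮, blockCoeff b.1 1 := by
    rw [← hone, hcc, Finset.sum_apply]
    rfl
  -- the `p`-parts
  obtain ⟨ρ, hρlr, hρli, hdA, hρ⟩ := Cfsg.Agent.Helper5.BDS.blockCoeff_one_eq hM hB
  have hb1 : ∀ b : {b : Set (IrrCharacter (G ⧸ N)) // IsPBlock M b},
      ∃ σ : ℂ, MemLocalRing M σ ∧ ¬ MemLocalIdeal M σ ∧
        blockDefect p b.1 ≤ (Nat.card (G ⧸ N)).factorization p ∧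
        blockCoeff b.1 1 = ((p ^ ((Nat.card (G ⧸ N)).factorization p - blockDefect p b.1) : ℕ) : ℂ) * σ :=
    fun b => Cfsg.Agent.Helper5.BDS.blockCoeff_one_eq hM b.2
  choose σ hσlr hσli hdb hσ using hb1
  have hcard : (Nat.card G).factorization p = (Nat.card (G ⧸ N)).factorization p + n := by
    rw [Subgroup.card_eq_card_quotient_mul_card_subgroup N, hn,
      Nat.factorization_mul Nat.card_pos.ne' (pow_pos hp.out.pos n).ne', Finsupp.add_apply,
      Nat.Prime.factorization_pow hp.out, Finsupp.single_eq_same]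
  by_contra hcon
  push Not at hcon
  have hlt : ∀ b ∈ 𝒮, blockDefect p b.1 + n < blockDefect p B := by
    intro b hb
    exact hcon b.1 b.2 (Finset.mem_filter.mp hb).2
  have hp0 : (p : ℂ) ≠ 0 := by
    have := hp.out.pos.ne'
    exact_mod_cast this
  set A := (Nat.card G).factorization p with hA
  set Ab := (Nat.card (G ⧸ N)).factorization p with hAb
  set d := blockDefect p B with hd
  have hkey : ρ = (p : ℂ) * ∑ b ∈ 𝒮,
      ((p ^ (Ab - blockDefect p b.1 - (A - d + 1)) : ℕ) : ℂ) * σ b := by
    have hpow0 : ((p : ℂ) ^ (A - d)) ≠ 0 := pow_ne_zero _ hp0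
    apply mul_left_cancel₀ hpow0
    have h1 : (p : ℂ) ^ (A - d) * ρ = blockCoeff B 1 := by
      rw [hρ]
      push_cast
      rfl
    rw [h1, hval, Finset.mul_sum, Finset.mul_sum]
    refine Finset.sum_congr rfl fun b hb => ?_
    rw [hσ b]
    have h2 := hlt b hb
    have h3 := hdb b
    have hexp : Ab - blockDefect p b.1 = (A - d) + (1 + (Ab - blockDefect p b.1 - (A - d + 1))) := by
      omega
    push_cast
    rw [hexp, pow_add, pow_add, pow_one]
    have h4 : A - d + (1 + (Ab - blockDefect p b.1 - (A - d + 1))) - (A - d + 1) =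
        Ab - blockDefect p b.1 - (A - d + 1) := by omega
    rw [h4]
    ring
  apply hρli
  rw [hkey]
  apply li_mul_right hMp ((memLocalIdeal_natCast_iff hM p).mpr dvd_rfl)
  apply lr_sum hMp
  intro b _
  exact lr_mul hMp (memLocalRing_natCast hMp _) (hσlr b)

/-- **Blocks of the quotient by a normal `p`-subgroup: defect groups are the images.** -/
theorem quotient_defectGroups [Fintype (IrrCharacter G)] [Fintype (G ⧸ N)]
    [Fintype (IrrCharacter (G ⧸ N))] {p : ℕ} [hp : Fact p.Prime] (hM : IsPModular p M)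
    (hN : IsPGroup p N) {B : Set (IrrCharacter G)} (hB : IsPBlock M B) :
    ∃ Bbar : Set (IrrCharacter (G ⧸ N)), IsPBlock M Bbar ∧ (∀ χ ∈ Bbar, infl N χ ∈ B) ∧
      ∀ Dbar : Subgroup (G ⧸ N), IsDefectGroup p M Bbar Dbar ↔
        ∃ P : Subgroup G, IsDefectGroup p M B P ∧ Dbar = P.map (QuotientGroup.mk' N) := by
  classical
  have hMp := isPrime_of_isPModular hM
  have : Finite G := Finite.of_fintype G
  obtain ⟨n, hn⟩ := IsPGroup.iff_card.mp hN
  obtain ⟨Bbar, hBb, hsub, hdef⟩ := exists_block_quotient N hM hN n hn hB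
  refine ⟨Bbar, hBb, hsub, ?_⟩
  -- orders of the images of the defect groups of `B`
  have hF1 : ∀ P : Subgroup G, IsDefectGroup p M B P →
      Nat.card (P.map (QuotientGroup.mk' N)) * p ^ n = p ^ blockDefect p B := by
    intro P hP
    rw [← hn, card_map_mk_mul N P (normal_le_defectGroup N hM hN hB hP)]
    exact card_defectGroup hM hB hP
  have hF2 : ∀ Dbar : Subgroup (G ⧸ N), IsDefectGroup p M Bbar Dbar →
      ∃ P : Subgroup G, IsDefectGroup p M B P ∧ Dbar = P.map (QuotientGroup.mk' N) := by
    intro Dbar hD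
    obtain ⟨P, hP, hle⟩ := defectGroup_quotient_le N hM Bbar hBb B hB hsub Dbar hD
    refine ⟨P, hP, ?_⟩
    apply Subgroup.eq_of_le_of_card_ge hle
    have h1 := hF1 P hP
    have h2 : Nat.card Dbar = p ^ blockDefect p Bbar := card_defectGroup hM hBb hD
    have h3 : Nat.card (P.map (QuotientGroup.mk' N)) * p ^ n ≤ Nat.card Dbar * p ^ n := by
      rw [h1, h2, ← pow_add]
      exact Nat.pow_le_pow_right hp.out.pos hdef
    exact Nat.le_of_mul_le_mul_right h3 (pow_pos hp.out.pos n)
  intro Dbar
  constructor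
  · exact hF2 Dbar
  · rintro ⟨P, hP, rfl⟩
    obtain ⟨w, hw⟩ := Cfsg.Agent.S0906.result p M hM Bbar hBb
    obtain ⟨D0, hD0⟩ := exists_isSylowIn (p := p) (Subgroup.centralizer ({w} : Set (G ⧸ N)))
    have hD0' : IsDefectGroup p M Bbar D0 := isDefectGroup_iff.mpr ⟨w, hw, hD0⟩
    obtain ⟨P0, hP0, hD0P0⟩ := hF2 D0 hD0'
    obtain ⟨x, hx⟩ := defectGroup_conj hM B hB P0 P hP0 hP
    rw [hx, ← map_cj_map_mk, ← hD0P0]
    exact isDefectGroup_map_cj hD0' _

end Cfsg.Agent.Helper5.QB
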