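import Mathlib
import Cfsg.Prelude.Def_Blocks
import Cfsg.Agent.Helper5.BlocksFromClasses
import Cfsg.Agent.Helper5.QuotBlocks

set_option autoImplicit false
set_option linter.unusedSectionVars false
set_option linter.unusedVariables false

/-!
# Robinson's theorem on the number of blocks with a given normal defect group
-/

namespace Cfsg.Agent.Helper5.Rob

open Cfsg Cfsg.Agent.Helper24 Cfsg.Agent.Helper5 Cfsg.Agent.Helper5.Loc Cfsg.Agent.Helper5.CC
open Cfsg.Agent.Helper5.ClassMul Cfsg.Agent.Helper5.CD Cfsg.Agent.Helper5.DZC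
open Cfsg.Agent.Helper5.BCnt Cfsg.Agent.Helper14 Cfsg.Agent.Helper5.BFC

variable {G : Type*} [Group G] [Fintype G] [Fintype (IrrCharacter G)] {M : Ideal AlgInt}

/-- **Reduction to the blocks of defect `d`.** -/
theorem congr_blocks {p : ℕ} [hp : Fact p.Prime] (hM : IsPModular p M) (g h : G) (d : ℕ)
    (hg : (Nat.card (Subgroup.centralizer ({g} : Set G))).factorization p = d)
    (hh : (Nat.card (Subgroup.centralizer ({h} : Set G))).factorization p = d)
    (m : IrrCharacter G → ℤ)
    [Fintype {B : Set (IrrCharacter G) // IsPBlock M B ∧ blockDefect p B = d}]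
    [∀ B : Set (IrrCharacter G), DecidablePred (· ∈ B)]
    (ch : {B : Set (IrrCharacter G) // IsPBlock M B ∧ blockDefect p B = d} → IrrCharacter G)
    (hch : ∀ b, ch b ∈ b.1) :
    MemLocalIdeal M
      (∑ b : {B : Set (IrrCharacter G) // IsPBlock M B ∧ blockDefect p B = d},
        centralChar (ch b : G → ℂ) g * (centralChar (ch b : G → ℂ) h *
          ∑ χ ∈ Finset.univ.filter (fun χ : IrrCharacter G => χ ∈ b.1 ∧
              (irrDeg χ).factorization p = (Nat.card G).factorization p - d),
            ((irrDeg χ / p ^ ((Nat.card G).factorization p - d) : ℕ) : ℂ) * (m χ : ℂ)) -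
        ∑ χ : IrrCharacter G, centralChar (χ : G → ℂ) g * centralChar (χ : G → ℂ) h *
          ((χ : G → ℂ) 1 * (m χ : ℂ)) / ((p : ℂ) ^ ((Nat.card G).factorization p - d))) := by
  classical
  have hMp := isPrime_of_isPModular hM
  have : Finite G := Finite.of_fintype G
  set A := (Nat.card G).factorization p with hA
  have hp0 : (p : ℂ) ≠ 0 := by
    have := hp.out.pos.ne'
    exact_mod_cast this
  have hpow0 : ((p : ℂ) ^ (A - d)) ≠ 0 := pow_ne_zero _ hp0
  rw [← Finset.sum_filter_add_sum_filter_not Finset.univ (fun χ : IrrCharacter G =>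
    blockDefect p (blockOf M (χ : G → ℂ)) = d ∧ (irrDeg χ).factorization p = A - d)]
  have hbad : MemLocalIdeal M (∑ χ ∈ Finset.univ.filter (fun χ : IrrCharacter G =>
      ¬ (blockDefect p (blockOf M (χ : G → ℂ)) = d ∧ (irrDeg χ).factorization p = A - d)),
      centralChar (χ : G → ℂ) g * centralChar (χ : G → ℂ) h *
        ((χ : G → ℂ) 1 * (m χ : ℂ)) / ((p : ℂ) ^ (A - d))) := by
    apply li_sum hMp
    intro χ hχ
    have hχ' := (Finset.mem_filter.mp hχ).2
    exact term_li hM χ g h d hg hh (m χ) hχ'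
  have hgood : ∑ χ ∈ Finset.univ.filter (fun χ : IrrCharacter G =>
      blockDefect p (blockOf M (χ : G → ℂ)) = d ∧ (irrDeg χ).factorization p = A - d),
      centralChar (χ : G → ℂ) g * centralChar (χ : G → ℂ) h *
        ((χ : G → ℂ) 1 * (m χ : ℂ)) / ((p : ℂ) ^ (A - d)) =
      ∑ b : {B : Set (IrrCharacter G) // IsPBlock M B ∧ blockDefect p B = d},
        ∑ χ ∈ Finset.univ.filter (fun χ : IrrCharacter G => χ ∈ b.1 ∧
          (irrDeg χ).factorization p = A - d),
          centralChar (χ : G → ℂ) g * centralChar (χ : G → ℂ) h *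
            (((irrDeg χ / p ^ (A - d) : ℕ) : ℂ) * (m χ : ℂ)) := by
    rw [sum_regroup (p := p) hMp d (fun χ => (irrDeg χ).factorization p = A - d)]
    refine Finset.sum_congr rfl fun χ hχ => ?_
    have hν := (Finset.mem_filter.mp hχ).2.2
    have hdvd : p ^ (A - d) ∣ irrDeg χ := by
      rw [← hν]
      exact Nat.ordProj_dvd _ p
    have hdeg : ((irrDeg χ : ℕ) : ℂ) = (p : ℂ) ^ (A - d) * ((irrDeg χ / p ^ (A - d) : ℕ) : ℂ) := by
      have := Nat.mul_div_cancel' hdvd
      exact_mod_cast this.symm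
    rw [irrDeg_spec, hdeg, div_eq_iff hpow0]
    ring
  rw [hgood]
  have hrew : (∑ b : {B : Set (IrrCharacter G) // IsPBlock M B ∧ blockDefect p B = d},
        centralChar (ch b : G → ℂ) g * (centralChar (ch b : G → ℂ) h *
          ∑ χ ∈ Finset.univ.filter (fun χ : IrrCharacter G => χ ∈ b.1 ∧
              (irrDeg χ).factorization p = A - d),
            ((irrDeg χ / p ^ (A - d) : ℕ) : ℂ) * (m χ : ℂ))) -
      (∑ b : {B : Set (IrrCharacter G) // IsPBlock M B ∧ blockDefect p B = d},
        ∑ χ ∈ Finset.univ.filter (fun χ : IrrCharacter G => χ ∈ b.1 ∧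
          (irrDeg χ).factorization p = A - d),
          centralChar (χ : G → ℂ) g * centralChar (χ : G → ℂ) h *
            (((irrDeg χ / p ^ (A - d) : ℕ) : ℂ) * (m χ : ℂ)) +
        ∑ χ ∈ Finset.univ.filter (fun χ : IrrCharacter G =>
          ¬ (blockDefect p (blockOf M (χ : G → ℂ)) = d ∧ (irrDeg χ).factorization p = A - d)),
          centralChar (χ : G → ℂ) g * centralChar (χ : G → ℂ) h *
            ((χ : G → ℂ) 1 * (m χ : ℂ)) / ((p : ℂ) ^ (A - d))) =
      (∑ b : {B : Set (IrrCharacter G) // IsPBlock M B ∧ blockDefect p B = d},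
        ∑ χ ∈ Finset.univ.filter (fun χ : IrrCharacter G => χ ∈ b.1 ∧
          (irrDeg χ).factorization p = A - d),
          (centralChar (ch b : G → ℂ) g * centralChar (ch b : G → ℂ) h -
            centralChar (χ : G → ℂ) g * centralChar (χ : G → ℂ) h) *
            (((irrDeg χ / p ^ (A - d) : ℕ) : ℂ) * (m χ : ℂ))) -
        ∑ χ ∈ Finset.univ.filter (fun χ : IrrCharacter G =>
          ¬ (blockDefect p (blockOf M (χ : G → ℂ)) = d ∧ (irrDeg χ).factorization p = A - d)),
          centralChar (χ : G → ℂ) g * centralChar (χ : G → ℂ) h *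
            ((χ : G → ℂ) 1 * (m χ : ℂ)) / ((p : ℂ) ^ (A - d)) := by
    rw [← sub_sub]
    congr 1
    rw [← Finset.sum_sub_distrib]
    refine Finset.sum_congr rfl fun b _ => ?_
    rw [Finset.mul_sum, Finset.mul_sum, ← Finset.sum_sub_distrib]
    refine Finset.sum_congr rfl fun χ _ => ?_
    ring
  rw [hrew]
  apply li_sub hMp _ hbad
  apply li_sum hMp
  intro b _
  apply li_sum hMp
  intro χ hχ
  have hχb := (Finset.mem_filter.mp hχ).2.1
  have hsb := sameBlock_of_mem hMp b.2.1 (hch b) hχb
  apply li_mul_right hMp _ (lr_mul hMp (memLocalRing_natCast hMp _) (memLocalRing_intCast hMp _))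
  have e : centralChar (ch b : G → ℂ) g * centralChar (ch b : G → ℂ) h -
      centralChar (χ : G → ℂ) g * centralChar (χ : G → ℂ) h =
      (centralChar (ch b : G → ℂ) g - centralChar (χ : G → ℂ) g) *
        centralChar (ch b : G → ℂ) h +
      centralChar (χ : G → ℂ) g *
        (centralChar (ch b : G → ℂ) h - centralChar (χ : G → ℂ) h) := by ring
  rw [e]
  apply li_add hMp
  · exact li_mul_right hMp (hsb g) (memLocalRing_centralChar hMp _ _)
  · exact li_mul_left hMp (memLocalRing_centralChar hMp _ _) (hsb h)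

end Cfsg.Agent.Helper5.Rob
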