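import Mathlib
import Cfsg.Prelude.Def_Blocks
import Cfsg.Agent.Helper5.Robinson
import Cfsg.Agent.Helper5.Residue
import Cfsg.Agent.Helper5.AlgIntMod
import Cfsg.Agent.Helper8.CharComp

set_option autoImplicit false
set_option linter.unusedSectionVars false
set_option linter.unusedVariables false

/-!
# Robinson's theorem: auxiliary facts
-/

namespace Cfsg.Agent.Helper5.Rob

open Cfsg Cfsg.Agent.Helper24 Cfsg.Agent.Helper5 Cfsg.Agent.Helper5.Loc Cfsg.Agent.Helper5.CC
open Cfsg.Agent.Helper5.ClassMul Cfsg.Agent.Helper5.CD Cfsg.Agent.Helper5.DZC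
open Cfsg.Agent.Helper5.BCnt Cfsg.Agent.Helper14 Cfsg.Agent.Helper5.BFC

section Arith

variable {M : Ideal AlgInt}

/-- A natural number whose quotient by `p ^ k` is a local integer is divisible by `p ^ k`. -/
theorem pow_dvd_of_lr_div {p : ℕ} [hp : Fact p.Prime] (hM : IsPModular p M) (k : ℕ) :
    ∀ a : ℕ, MemLocalRing M ((a : ℂ) / (p : ℂ) ^ k) → p ^ k ∣ a := by
  have hMp := isPrime_of_isPModular hM
  have hp0 : (p : ℂ) ≠ 0 := by
    have := hp.out.pos.ne'
    exact_mod_cast this
  induction k with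
  | zero => intro a _; simp
  | succ k ih =>
    intro a h
    have h1 : MemLocalRing M ((a : ℂ) / (p : ℂ) ^ k) := by
      have e : (a : ℂ) / (p : ℂ) ^ k = (p : ℂ) * ((a : ℂ) / (p : ℂ) ^ (k + 1)) := by
        have : ((p : ℂ) ^ k) ≠ 0 := pow_ne_zero _ hp0
        field_simp
        ring
      rw [e]
      exact lr_mul hMp (memLocalRing_natCast hMp _) h
    obtain ⟨a', rfl⟩ := ih a h1
    have h2 : MemLocalIdeal M ((a' : ℕ) : ℂ) := by
      have e : ((a' : ℕ) : ℂ) = (p : ℂ) * (((p ^ k * a' : ℕ) : ℂ) / (p : ℂ) ^ (k + 1)) := by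
        have : ((p : ℂ) ^ k) ≠ 0 := pow_ne_zero _ hp0
        push_cast
        field_simp
        ring
      rw [e]
      exact li_mul_right hMp ((memLocalIdeal_natCast_iff hM p).mpr dvd_rfl) h
    obtain ⟨c, rfl⟩ := (memLocalIdeal_natCast_iff hM a').mp h2
    exact ⟨c, by ring⟩

end Arith

variable {G : Type*} [Group G] [Fintype G]

/-- The number of pairs in two classes with quotient in `S`, as a sum of convolutions. -/
theorem card_pairs_eq (S : Subgroup G) [DecidablePred fun u : G => u ∈ S] (x y : G) :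
    (Nat.card {yz : G × G // IsConj x yz.1 ∧ IsConj y yz.2 ∧ yz.2 * yz.1⁻¹ ∈ S} : ℂ) =
      ∑ u ∈ Finset.univ.filter (fun u : G => u ∈ S),
        conv (classIndicator y) (classIndicator x⁻¹) u := by
  classical
  rw [Nat.card_eq_fintype_card, Fintype.card_subtype, Finset.card_filter]
  push_cast
  rw [Fintype.sum_prod_type, Finset.sum_filter]
  simp only [conv]
  have h1 : ∀ u : G, (if u ∈ S then ∑ t : G, classIndicator y t * classIndicator x⁻¹ (t⁻¹ * u)
      else 0) = ∑ t : G, if u ∈ S then classIndicator y t * classIndicator x⁻¹ (t⁻¹ * u) else 0 := by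
    intro u
    by_cases hu : u ∈ S
    · simp [hu]
    · simp [hu]
  simp_rw [h1]
  rw [Finset.sum_comm]
  conv_rhs => rw [Finset.sum_comm]
  refine Finset.sum_congr rfl fun t _ => ?_
  symm
  rw [← Equiv.sum_comp ((Equiv.inv G).trans (Equiv.mulLeft t))]
  refine Finset.sum_congr rfl fun a _ => ?_
  symm
  have e : t⁻¹ * ((Equiv.inv G).trans (Equiv.mulLeft t)) a = a⁻¹ := by
    simp
  have e2 : ((Equiv.inv G).trans (Equiv.mulLeft t)) a = t * a⁻¹ := by simp
  rw [e, e2]
  by_cases hS : t * a⁻¹ ∈ S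
  · rw [if_pos hS]
    by_cases hy : IsConj y t
    · by_cases hx : IsConj x a
      · have hx' : IsConj x⁻¹ a⁻¹ := by rw [isConj_inv_iff, inv_inv]; exact hx
        rw [if_pos ⟨hx, hy, hS⟩, classIndicator_of_isConj hy, classIndicator_of_isConj hx', one_mul]
      · have hx' : ¬ IsConj x⁻¹ a⁻¹ := by rw [isConj_inv_iff, inv_inv]; exact hx
        rw [if_neg (fun h => hx h.1), classIndicator_of_not_isConj hx', mul_zero]
    · rw [if_neg (fun h => hy h.2.1), classIndicator_of_not_isConj hy, zero_mul]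
  · rw [if_neg hS, if_neg (fun h => hS h.2.2)]

/-- The sum of an irreducible character over a subgroup of order `n` is `n` times a natural
number. -/
theorem sum_subgroup_irr (P : Subgroup G) [DecidablePred fun u : G => u ∈ P]
    (χ : IrrCharacter G) :
    ∃ n : ℕ, ∑ u ∈ Finset.univ.filter (fun u : G => u ∈ P), (starRingEnd ℂ) ((χ : G → ℂ) u) =
      ((Nat.card P : ℕ) : ℂ) * ((n : ℤ) : ℂ) := by
  classical
  have : Fintype P := Fintype.ofFinite _
  have : Fintype (IrrCharacter P) := Fintype.ofFinite _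
  obtain ⟨n, hn⟩ := Cfsg.Agent.Helper24.IsCharacter.classInner_irr_nat
    (Cfsg.Agent.Helper8.isCharacter_restrict P
      (Cfsg.Agent.Helper24.IsIrrCharacter.isCharacter χ.2)) (Cfsg.Agent.Helper24.trivIrr P)
  refine ⟨n, ?_⟩
  rw [classInner] at hn
  have h1 : ∑ u ∈ Finset.univ.filter (fun u : G => u ∈ P), (starRingEnd ℂ) ((χ : G → ℂ) u) =
      ∑ u : P, (starRingEnd ℂ) ((χ : G → ℂ) u) := by
    rw [Finset.sum_subtype (p := fun u : G => u ∈ P) _ (by simp)]
  rw [h1]
  have h2 : ∑ u : P, (χ : G → ℂ) u = ((Nat.card P : ℕ) : ℂ) * (n : ℂ) := by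
    have hpc : ((Nat.card P : ℕ) : ℂ) ≠ 0 := by
      have := (Nat.card_pos (α := P)).ne'
      exact_mod_cast this
    rw [← hn, ← mul_assoc, mul_inv_cancel₀ hpc, one_mul]
    refine Finset.sum_congr rfl fun u _ => ?_
    simp
  have h3 := congrArg (starRingEnd ℂ) h2
  rw [map_sum] at h3
  rw [h3]
  simp


variable {M : Ideal AlgInt}

omit [Fintype G] in
theorem map_cj_normal (D : Subgroup G) [hDn : D.Normal] (x : G) : D.map (cj x) = D := by
  ext n
  rw [mem_map_cj]
  constructor
  · intro h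
    have := hDn.conj_mem _ h x
    simpa [mul_assoc] using this
  · intro h
    have := hDn.conj_mem _ h x⁻¹
    simpa [mul_assoc] using this

/-- For a normal `p`-subgroup `D`, being a defect group of `B` is a condition on the defect. -/
theorem isDefectGroup_iff_defect [Fintype (IrrCharacter G)] {p : ℕ} [hp : Fact p.Prime]
    (hM : IsPModular p M) (D : Subgroup G) [D.Normal] (hD : IsPGroup p D)
    {B : Set (IrrCharacter G)} (hB : IsPBlock M B) :
    IsDefectGroup p M B D ↔ blockDefect p B = (Nat.card D).factorization p := by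
  have hMp := isPrime_of_isPModular hM
  have : Finite G := Finite.of_fintype G
  constructor
  · intro h
    rw [card_defectGroup hM hB h, Nat.Prime.factorization_pow hp.out, Finsupp.single_eq_same]
  · intro h
    obtain ⟨y, hy⟩ := Cfsg.Agent.S0906.result p M hM B hB
    obtain ⟨E, hE⟩ := exists_isSylowIn (p := p) (Subgroup.centralizer ({y} : Set G))
    have hEB : IsDefectGroup p M B E := isDefectGroup_iff.mpr ⟨y, hy, hE⟩
    have hle : D ≤ E := Cfsg.Agent.Helper5.QB.normal_le_defectGroup D hM hD hB hEB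
    have hcE := card_defectGroup hM hB hEB
    obtain ⟨k, hk⟩ := hD.exists_card_eq
    have hk' : (Nat.card D).factorization p = k := by
      rw [hk, Nat.Prime.factorization_pow hp.out, Finsupp.single_eq_same]
    have hDE : D = E := by
      apply Subgroup.eq_of_le_of_card_ge hle
      rw [hcE, hk, h, hk']
    rw [hDE]
    exact hEB

/-- **Orthogonality of idempotent coefficients and central characters restricted to the classes
with Sylow centralizer subgroup `D`.** -/
theorem sum_blockCoeff_centralChar [Fintype (IrrCharacter G)] {p : ℕ} [hp : Fact p.Prime]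
    (hM : IsPModular p M) (D : Subgroup G) [D.Normal] (hD : IsPGroup p D)
    {ι : Type*} [Fintype ι] (y : ι → G)
    (hyinj : Function.Injective fun i => ConjClasses.mk (y i))
    (hy : ∀ C : ConjClasses G, (∃ i, ConjClasses.mk (y i) = C) ↔
      ∃ g : G, ConjClasses.mk g = C ∧ ¬ p ∣ orderOf g ∧
        IsSylowIn p D (Subgroup.centralizer ({g} : Set G)))
    {B B' : Set (IrrCharacter G)} (hB : IsPBlock M B) (hB' : IsPBlock M B')
    (hBD : IsDefectGroup p M B D) (hBD' : IsDefectGroup p M B' D) [DecidablePred (· ∈ B)]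
    (χ : IrrCharacter G) (hχ : χ ∈ B') :
    MemLocalIdeal M (∑ i, blockCoeff B (y i) * centralChar (χ : G → ℂ) (y i) -
      if χ ∈ B then 1 else 0) := by
  classical
  have hMp := isPrime_of_isPModular hM
  have : Finite G := Finite.of_fintype G
  have : Fintype (ConjClasses G) := Fintype.ofFinite _
  have hfull : (∑ K : ConjClasses G, blockCoeff B (rep K) * centralChar (χ : G → ℂ) (rep K))
      = if χ ∈ B then 1 else 0 := by
    rw [← act_eq_sum_centralChar (isClassFunction_blockCoeff B), act_blockCoeff]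
  have hcf : ∀ g : G, blockCoeff B (rep (ConjClasses.mk g)) *
      centralChar (χ : G → ℂ) (rep (ConjClasses.mk g)) =
      blockCoeff B g * centralChar (χ : G → ℂ) g := by
    intro g
    have hc : IsConj (rep (ConjClasses.mk g)) g := ConjClasses.mk_eq_mk_iff_isConj.mp (mk_rep _)
    obtain ⟨c, hc⟩ := isConj_iff.mp hc
    generalize rep (ConjClasses.mk g) = r at hc
    subst hc
    rw [isClassFunction_blockCoeff B, Cfsg.Agent.Helper5.CC.centralChar_conj]
  have himg : ∑ i, blockCoeff B (y i) * centralChar (χ : G → ℂ) (y i) =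
      ∑ K ∈ Finset.univ.image (fun i => ConjClasses.mk (y i)),
        blockCoeff B (rep K) * centralChar (χ : G → ℂ) (rep K) := by
    rw [Finset.sum_image (fun a _ b _ h => hyinj h)]
    refine Finset.sum_congr rfl fun i _ => ?_
    rw [hcf]
  rw [himg, ← hfull, ← Finset.sum_sdiff (Finset.subset_univ
    (Finset.univ.image (fun i => ConjClasses.mk (y i)))), sub_add_cancel_right]
  apply li_neg
  apply li_sum hMp
  intro K hK
  have hK' : ¬ ∃ i, ConjClasses.mk (y i) = K := by
    intro ⟨i, hi⟩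
    rw [Finset.mem_sdiff] at hK
    exact hK.2 (Finset.mem_image.mpr ⟨i, Finset.mem_univ _, hi⟩)
  rw [hy K] at hK'
  by_cases hreg : p ∣ orderOf (rep K)
  · rw [blockCoeff_eq_zero_of_singular hM hB _ hreg, zero_mul]
    exact memLocalIdeal_zero hMp
  by_contra hcon
  apply hK'
  refine ⟨rep K, mk_rep K, hreg, ?_⟩
  have h1 : ¬ MemLocalIdeal M (blockCoeff B (rep K)) := fun h =>
    hcon (li_mul_right hMp h (memLocalRing_centralChar hMp _ _))
  have h2 : ¬ MemLocalIdeal M (centralChar (χ : G → ℂ) (rep K)) := fun h =>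
    hcon (li_mul_left hMp (osima hMp B hB _) h)
  obtain ⟨w, hw, hDw⟩ := isDefectGroup_iff.mp hBD
  obtain ⟨w', hw', hDw'⟩ := isDefectGroup_iff.mp hBD'
  obtain ⟨U, hU⟩ := exists_isSylowIn (p := p) (Subgroup.centralizer ({rep K} : Set G))
  obtain ⟨x, hx⟩ := minmax_sylow hM B' hB' (rep K) w'
    (not_memLocalIdeal_centralChar_of_mem hMp hB' ⟨χ, hχ, h2⟩) hw'.2.1 U D hU hDw'
  obtain ⟨x', hx'⟩ := minmax_sylow hM B hB w (rep K) hw.2.2 h1 D U hDw hU
  rw [map_cj_normal] at hx'
  have hDU : D ≤ U := by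
    have h3 : D.map (cj x⁻¹) ≤ U := by
      rw [map_cj_le_iff, inv_inv]
      exact hx
    rwa [map_cj_normal] at h3
  rw [le_antisymm hDU hx']
  exact hU


/-- For a member of `B`, the degree is divisible by `p ^ (a - d)`. -/
theorem pow_dvd_irrDeg_of_mem {p : ℕ} [hp : Fact p.Prime] {B : Set (IrrCharacter G)}
    {χ : IrrCharacter G} (hχ : χ ∈ B) :
    (Nat.card G).factorization p - blockDefect p B ≤ (irrDeg χ).factorization p := by
  have : Finite G := Finite.of_fintype G
  have hmem : (charDegree (χ : G → ℂ)).factorization p ∈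
      (fun ψ : IrrCharacter G => (charDegree (ψ : G → ℂ)).factorization p) '' B := ⟨χ, hχ, rfl⟩
  have hinf := Nat.sInf_le hmem
  rw [charDegree_eq_irrDeg] at hinf
  have hdef : blockDefect p B = (Nat.card G).factorization p -
      sInf ((fun ψ : IrrCharacter G => (charDegree (ψ : G → ℂ)).factorization p) '' B) := rfl
  omega

/-- **The block sums `E_B` are units.** -/
theorem E_not_li [Fintype (IrrCharacter G)] {p : ℕ} [hp : Fact p.Prime]
    (hM : IsPModular p M) (S : Subgroup G) [DecidablePred fun u : G => u ∈ S]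
    (hS : IsPGroup p S)
    {B : Set (IrrCharacter G)} (hB : IsPBlock M B) [DecidablePred (· ∈ B)]
    (m : IrrCharacter G → ℤ)
    (hm : ∀ χ : IrrCharacter G, ∑ u ∈ Finset.univ.filter (fun u : G => u ∈ S),
      (starRingEnd ℂ) ((χ : G → ℂ) u) = ((p ^ (Nat.card G).factorization p : ℕ) : ℂ) * m χ) :
    ¬ MemLocalIdeal M (∑ χ ∈ Finset.univ.filter (fun χ : IrrCharacter G => χ ∈ B ∧
        (irrDeg χ).factorization p = (Nat.card G).factorization p - blockDefect p B),
      ((irrDeg χ / p ^ ((Nat.card G).factorization p - blockDefect p B) : ℕ) : ℂ) *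
        (m χ : ℂ)) := by
  classical
  have hMp := isPrime_of_isPModular hM
  have : Finite G := Finite.of_fintype G
  set A := (Nat.card G).factorization p with hA
  set d := blockDefect p B with hd
  have hp0 : (p : ℂ) ≠ 0 := by
    have := hp.out.pos.ne'
    exact_mod_cast this
  have hpow0 : ((p : ℂ) ^ (A - d)) ≠ 0 := pow_ne_zero _ hp0
  have hpA0 : ((p : ℂ) ^ A) ≠ 0 := pow_ne_zero _ hp0
  have hG0 : (Nat.card G : ℂ) ≠ 0 := by
    have := Nat.card_pos (α := G)
    exact_mod_cast this.ne'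
  have hGA : (Nat.card G : ℂ) = (p : ℂ) ^ A * ((Nat.card G / p ^ A : ℕ) : ℂ) := by
    have : p ^ A * (Nat.card G / p ^ A) = Nat.card G :=
      Nat.ordProj_mul_ordCompl_eq_self _ p
    exact_mod_cast this.symm
  -- the sum of the idempotent over `S`
  have h1mem : (1 : G) ∈ Finset.univ.filter (fun u : G => u ∈ S) := by
    rw [Finset.mem_filter]
    exact ⟨Finset.mem_univ _, S.one_mem⟩
  have h1 : ∑ u ∈ Finset.univ.filter (fun u : G => u ∈ S), blockCoeff B u = blockCoeff B 1 := by
    rw [Finset.sum_eq_single_of_mem 1 h1mem]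
    intro u hu hu1
    have huS : u ∈ S := (Finset.mem_filter.mp hu).2
    apply blockCoeff_eq_zero_of_singular hM hB
    obtain ⟨k, hk⟩ := hS ⟨u, huS⟩
    have hk' : u ^ (p ^ k) = 1 := by
      have := congrArg Subtype.val hk
      simpa using this
    obtain ⟨j, hj, hj'⟩ := (Nat.dvd_prime_pow hp.out).mp (orderOf_dvd_of_pow_eq_one hk')
    rw [hj']
    rcases Nat.eq_zero_or_pos j with h0 | h0
    · rw [h0, pow_zero, orderOf_eq_one_iff] at hj'
      exact absurd hj' hu1
    · exact dvd_pow_self p h0.ne'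
  have h2 : ∑ u ∈ Finset.univ.filter (fun u : G => u ∈ S), blockCoeff B u =
      (Nat.card G : ℂ)⁻¹ * ∑ χ : IrrCharacter G, (if χ ∈ B then (1 : ℂ) else 0) *
        ((χ : G → ℂ) 1 * (((p ^ A : ℕ) : ℂ) * m χ)) := by
    simp_rw [blockCoeff_eq]
    rw [← Finset.mul_sum, Finset.sum_comm]
    congr 1
    refine Finset.sum_congr rfl fun χ _ => ?_
    rw [← hm χ, Finset.mul_sum, Finset.mul_sum]
  obtain ⟨ρ, hρ1, hρ2, hdA, hρ⟩ := Cfsg.Agent.Helper5.BDS.blockCoeff_one_eq hM hB
  rw [← hA, ← hd] at hρ hdA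
  -- degrees
  have hdeg : ∀ χ : IrrCharacter G, χ ∈ B →
      (χ : G → ℂ) 1 = (p : ℂ) ^ (A - d) * ((irrDeg χ / p ^ (A - d) : ℕ) : ℂ) := by
    intro χ hχ
    have hdvd : p ^ (A - d) ∣ irrDeg χ :=
      (hp.out.pow_dvd_iff_le_factorization (irrDeg_pos χ).ne').mpr (pow_dvd_irrDeg_of_mem hχ)
    have := Nat.mul_div_cancel' hdvd
    rw [irrDeg_spec]
    exact_mod_cast this.symm
  have h3 : ∑ χ : IrrCharacter G, (if χ ∈ B then (1 : ℂ) else 0) *
        ((χ : G → ℂ) 1 * (((p ^ A : ℕ) : ℂ) * m χ)) =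
      (p : ℂ) ^ A * (p : ℂ) ^ (A - d) * ∑ χ ∈ Finset.univ.filter (fun χ : IrrCharacter G => χ ∈ B),
        ((irrDeg χ / p ^ (A - d) : ℕ) : ℂ) * (m χ : ℂ) := by
    rw [Finset.mul_sum, Finset.sum_filter]
    refine Finset.sum_congr rfl fun χ _ => ?_
    by_cases hχ : χ ∈ B
    · rw [if_pos hχ, if_pos hχ, hdeg χ hχ]
      push_cast
      ring
    · rw [if_neg hχ, if_neg hχ, zero_mul]
  have h4 : ∑ χ ∈ Finset.univ.filter (fun χ : IrrCharacter G => χ ∈ B),
        ((irrDeg χ / p ^ (A - d) : ℕ) : ℂ) * (m χ : ℂ) =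
      ((Nat.card G / p ^ A : ℕ) : ℂ) * ρ := by
    have h5 := h1.symm.trans h2
    rw [h3, hρ, hGA] at h5
    have hn0 : ((Nat.card G / p ^ A : ℕ) : ℂ) ≠ 0 := by
      intro h0
      rw [h0, mul_zero] at hGA
      exact hG0 hGA
    push_cast at h5
    field_simp at h5
    rw [← h5]
    ring
  -- split off positive heights
  have hsplit : ∑ χ ∈ Finset.univ.filter (fun χ : IrrCharacter G => χ ∈ B),
        ((irrDeg χ / p ^ (A - d) : ℕ) : ℂ) * (m χ : ℂ) =
      ∑ χ ∈ Finset.univ.filter (fun χ : IrrCharacter G => χ ∈ B ∧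
        (irrDeg χ).factorization p = A - d),
        ((irrDeg χ / p ^ (A - d) : ℕ) : ℂ) * (m χ : ℂ) +
      ∑ χ ∈ Finset.univ.filter (fun χ : IrrCharacter G => χ ∈ B ∧
        ¬ (irrDeg χ).factorization p = A - d),
        ((irrDeg χ / p ^ (A - d) : ℕ) : ℂ) * (m χ : ℂ) := by
    rw [← Finset.sum_filter_add_sum_filter_not (Finset.univ.filter
      (fun χ : IrrCharacter G => χ ∈ B)) (fun χ : IrrCharacter G =>
        (irrDeg χ).factorization p = A - d), Finset.filter_filter, Finset.filter_filter]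
  have hbad : MemLocalIdeal M (∑ χ ∈ Finset.univ.filter (fun χ : IrrCharacter G => χ ∈ B ∧
        ¬ (irrDeg χ).factorization p = A - d),
        ((irrDeg χ / p ^ (A - d) : ℕ) : ℂ) * (m χ : ℂ)) := by
    apply li_sum hMp
    intro χ hχ
    obtain ⟨hχB, hν⟩ := (Finset.mem_filter.mp hχ).2
    have hle := pow_dvd_irrDeg_of_mem (p := p) hχB
    have hgt : A - d + 1 ≤ (irrDeg χ).factorization p := by omega
    have hdvd : p ^ (A - d + 1) ∣ irrDeg χ :=
      (hp.out.pow_dvd_iff_le_factorization (irrDeg_pos χ).ne').mpr hgt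
    obtain ⟨c, hc⟩ := hdvd
    have hq : irrDeg χ / p ^ (A - d) = p * c := by
      rw [hc, pow_succ, mul_assoc]
      exact Nat.mul_div_cancel_left _ (pow_pos hp.out.pos _)
    rw [hq]
    apply li_mul_right hMp _ (memLocalRing_intCast hMp _)
    rw [memLocalIdeal_natCast_iff hM]
    exact dvd_mul_right p c
  intro hE
  have h6 : MemLocalIdeal M (((Nat.card G / p ^ A : ℕ) : ℂ) * ρ) := by
    rw [← h4, hsplit]
    exact li_add hMp hE hbad
  rcases li_of_mul hMp (memLocalRing_natCast hMp _) hρ1 h6 with h7 | h7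
  · rw [memLocalIdeal_natCast_iff hM] at h7
    exact Nat.not_dvd_ordCompl hp.out (Nat.card_pos (α := G)).ne' h7
  · exact hρ2 h7


section Good

omit [Fintype G]

theorem centralizer_singleton_inv (g : G) :
    Subgroup.centralizer ({g⁻¹} : Set G) = Subgroup.centralizer ({g} : Set G) := by
  ext z
  rw [Subgroup.mem_centralizer_singleton_iff, Subgroup.mem_centralizer_singleton_iff]
  constructor
  · intro h
    calc z * g = g * (g⁻¹ * z) * g := by group
      _ = g * (z * g⁻¹) * g := by rw [h]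
      _ = g * z := by group
  · intro h
    calc z * g⁻¹ = g⁻¹ * (g * z) * g⁻¹ := by group
      _ = g⁻¹ * (z * g) * g⁻¹ := by rw [h]
      _ = g⁻¹ * z := by group

theorem good_conj {p : ℕ} (D : Subgroup G) [D.Normal] {g : G}
    (h : ¬ p ∣ orderOf g ∧ IsSylowIn p D (Subgroup.centralizer ({g} : Set G))) (c : G) :
    ¬ p ∣ orderOf (c * g * c⁻¹) ∧
      IsSylowIn p D (Subgroup.centralizer ({c * g * c⁻¹} : Set G)) := by
  constructor
  · have : orderOf (c * g * c⁻¹) = orderOf g := by
      have := orderOf_injective (MulAut.conj c).toMonoidHom (MulAut.conj c).injective g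
      simpa using this
    rw [this]
    exact h.1
  · have := h.2.map_cj c
    rwa [map_cj_centralizer_singleton, map_cj_normal] at this

theorem good_inv {p : ℕ} (D : Subgroup G) {g : G}
    (h : ¬ p ∣ orderOf g ∧ IsSylowIn p D (Subgroup.centralizer ({g} : Set G))) :
    ¬ p ∣ orderOf g⁻¹ ∧ IsSylowIn p D (Subgroup.centralizer ({g⁻¹} : Set G)) := by
  rw [orderOf_inv, centralizer_singleton_inv]
  exact h

theorem isConj_inv_inv {a b : G} (h : IsConj a b) : IsConj a⁻¹ b⁻¹ := by
  obtain ⟨c, hc⟩ := isConj_iff.mp h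
  rw [isConj_iff]
  exact ⟨c, by rw [← hc]; group⟩

/-- The representatives `y` may be replaced by their inverses. -/
theorem reps_inv {p : ℕ} (D : Subgroup G) [D.Normal] {ι : Type*} (y : ι → G)
    (hyinj : Function.Injective fun i => ConjClasses.mk (y i))
    (hy : ∀ C : ConjClasses G, (∃ i, ConjClasses.mk (y i) = C) ↔
      ∃ g : G, ConjClasses.mk g = C ∧ ¬ p ∣ orderOf g ∧
        IsSylowIn p D (Subgroup.centralizer ({g} : Set G))) :
    (Function.Injective fun i => ConjClasses.mk (y i)⁻¹) ∧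
    ∀ C : ConjClasses G, (∃ i, ConjClasses.mk (y i)⁻¹ = C) ↔
      ∃ g : G, ConjClasses.mk g = C ∧ ¬ p ∣ orderOf g ∧
        IsSylowIn p D (Subgroup.centralizer ({g} : Set G)) := by
  constructor
  · intro i j hij
    apply hyinj
    have h1 : IsConj (y i)⁻¹ (y j)⁻¹ := ConjClasses.mk_eq_mk_iff_isConj.mp hij
    have h2 := isConj_inv_inv h1
    rw [inv_inv, inv_inv] at h2
    exact ConjClasses.mk_eq_mk_iff_isConj.mpr h2
  · intro C
    constructor
    · rintro ⟨i, rfl⟩
      obtain ⟨g, hg, hgood⟩ := (hy (ConjClasses.mk (y i))).mp ⟨i, rfl⟩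
      obtain ⟨c, hc⟩ := isConj_iff.mp (ConjClasses.mk_eq_mk_iff_isConj.mp hg)
      have h1 := good_conj D hgood c
      rw [hc] at h1
      exact ⟨(y i)⁻¹, rfl, good_inv D h1⟩
    · rintro ⟨g, rfl, hgood⟩
      obtain ⟨i, hi⟩ := (hy (ConjClasses.mk g⁻¹)).mpr ⟨g⁻¹, rfl, good_inv D hgood⟩
      refine ⟨i, ?_⟩
      have h1 : IsConj (y i) g⁻¹ := ConjClasses.mk_eq_mk_iff_isConj.mp hi
      have h2 := isConj_inv_inv h1
      rw [inv_inv] at h2
      exact ConjClasses.mk_eq_mk_iff_isConj.mpr h2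

theorem factorization_card_centralizer_of_isSylowIn [Finite G] {p : ℕ} [hp : Fact p.Prime]
    {D : Subgroup G} {g : G} (h : IsSylowIn p D (Subgroup.centralizer ({g} : Set G))) :
    (Nat.card (Subgroup.centralizer ({g} : Set G))).factorization p =
      (Nat.card D).factorization p := by
  obtain ⟨Q, hQ⟩ := isSylowIn_iff.mp h
  have hcard : Nat.card D =
      p ^ (Nat.card (Subgroup.centralizer ({g} : Set G))).factorization p := by
    rw [← hQ, card_map_subtype]
    exact Q.card_eq_multiplicity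
  rw [hcard, Nat.Prime.factorization_pow hp.out, Finsupp.single_eq_same]

end Good

end Cfsg.Agent.Helper5.Rob
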