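import Mathlib
import Cfsg.Prelude.Def_Blocks
import Cfsg.Agent.Helper5.CentralProduct
import Cfsg.Agent.Helper5.CentralDefect2
import Cfsg.Agent.Helper5.RelDefectZero
import Cfsg.Agent.Helper5.Robinson2
import Cfsg.Agent.Helper23.CentralChar

set_option autoImplicit false
set_option linter.unusedSectionVars false
set_option linter.unusedVariables false

/-!
# Blocks of `G = P · C_G(P)` with defect group `P`
-/

namespace Cfsg.Agent.Helper5.CP

open Cfsg Cfsg.Agent.Helper24 Cfsg.Agent.Helper5 Cfsg.Agent.Helper5.Loc Cfsg.Agent.Helper5.CC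
open Cfsg.Agent.Helper5.CD Cfsg.Agent.Helper5.BCnt Cfsg.Agent.Helper14 Cfsg.Agent.Helper5.BFC
open Cfsg.Agent.Helper5.Rob Cfsg.Agent.Helper5.RDZ

variable {G : Type*} [Group G] (P : Subgroup G)

/-- `P ∩ C_G(P)` as a subgroup of `C_G(P)`. -/
abbrev Zc : Subgroup (Cen P) := P.subgroupOf (Cen P)

/-- The product decomposition of a character of `G = P C`. -/
def Decomp (χ : G → ℂ) (ζ : P → ℂ) (φ : Cen P → ℂ) : Prop :=
  ∀ (u : P) (c : Cen P), χ ((u : G) * (c : G)) = ζ u * φ c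

variable {P}

theorem zc_le_center : Zc P ≤ Subgroup.center (Cen P) := by
  intro z hz
  rw [Subgroup.mem_center_iff]
  intro c
  apply Subtype.ext
  have hz' : (z : G) ∈ P := Subgroup.mem_subgroupOf.mp hz
  exact ((commute_coe P ⟨(z : G), hz'⟩ c).eq).symm

theorem zc_normal : (Zc P).Normal := by
  constructor
  intro z hz g
  have := Subgroup.mem_center_iff.mp (zc_le_center hz) g
  rw [this, mul_assoc, mul_inv_cancel, mul_one]
  exact hz

theorem zc_isPGroup {p : ℕ} (hP : IsPGroup p P) : IsPGroup p (Zc P) :=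
  hP.comap_subtype

theorem zc_index (hG : P ⊔ Cen P = ⊤) : (Zc P).index = P.index := by
  have hPn : P.Normal := normal_of_sup_eq_top hG
  have h1 := Subgroup.relIndex_sup_left (K := P) (H := Cen P)
  rw [hG, Subgroup.relIndex_top_right] at h1
  exact h1.symm

variable {M : Ideal AlgInt} [Fintype G] {p : ℕ} [hp : Fact p.Prime]

/-- **The block of `C_G(P)` below a block of `G` with defect group `P` has the central defect
group `P ∩ C_G(P)`.** -/
theorem isDefectGroup_cen (hM : IsPModular p M) (hP : IsPGroup p P) (hG : P ⊔ Cen P = ⊤)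
    {B : Set (IrrCharacter G)} (hB : IsPBlock M B) (hBD : IsDefectGroup p M B P)
    (χ : IrrCharacter G) (hχ : χ ∈ B) (ζ : IrrCharacter P) (φ : IrrCharacter (Cen P))
    (h : Decomp P (χ : G → ℂ) (ζ : P → ℂ) (φ : Cen P → ℂ)) :
    IsDefectGroup p M (blockOf M (φ : Cen P → ℂ)) (Zc P) := by
  classical
  have hMp := isPrime_of_isPModular hM
  have : Finite G := Finite.of_fintype G
  have : Fintype (IrrCharacter G) := Fintype.ofFinite _
  have : Fintype (Cen P) := Fintype.ofFinite _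
  have : Fintype (IrrCharacter (Cen P)) := Fintype.ofFinite _
  have hZn : (Zc P).Normal := zc_normal
  have hZp : IsPGroup p (Zc P) := zc_isPGroup hP
  have hb : IsPBlock M (blockOf M (φ : Cen P → ℂ)) := isPBlock_blockOf φ
  rw [isDefectGroup_iff_defect hM (Zc P) hZp hb]
  obtain ⟨k, hk⟩ := hZp.exists_card_eq
  have hk' : (Nat.card (Zc P)).factorization p = k := by
    rw [hk, Nat.Prime.factorization_pow hp.out, Finsupp.single_eq_same]
  apply le_antisymm
  · -- the defect class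
    obtain ⟨x, hx, hS⟩ := isDefectGroup_iff.mp hBD
    have hxC : x ∈ Cen P := by
      rw [Subgroup.mem_centralizer_iff]
      intro u hu
      have := hS.1 hu
      rw [Subgroup.mem_centralizer_singleton_iff] at this
      exact this
    have hω : ¬ MemLocalIdeal M (centralChar (φ : Cen P → ℂ) ⟨x, hxC⟩) := by
      rw [← centralChar_coe hG χ ζ φ h ⟨x, hxC⟩]
      exact hx.2.2 χ hχ
    have h1 := blockDefect_le_of_centralChar hM hb (mem_blockOf_self hMp φ) ⟨x, hxC⟩ hω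
    refine h1.trans (le_of_eq ?_)
    have e1 := factorization_index_centralizer p x
    have e2 := factorization_index_centralizer p (⟨x, hxC⟩ : Cen P)
    have e3 := index_centralizer_coe hG (⟨x, hxC⟩ : Cen P)
    have e4 := factorization_card_centralizer_of_isSylowIn hS
    have e5 : (Nat.card G).factorization p = P.index.factorization p +
        (Nat.card P).factorization p := by
      rw [← P.index_mul_card, Nat.factorization_mul Subgroup.index_ne_zero_of_finite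
        (Nat.card_pos (α := P)).ne', Finsupp.add_apply]
    have e6 : (Nat.card (Cen P)).factorization p = (Zc P).index.factorization p +
        (Nat.card (Zc P)).factorization p := by
      rw [← (Zc P).index_mul_card, Nat.factorization_mul Subgroup.index_ne_zero_of_finite
        (Nat.card_pos (α := Zc P)).ne', Finsupp.add_apply]
    have e7 := zc_index hG
    simp only at e3
    rw [e3] at e1
    rw [e7] at e6
    omega
  · obtain ⟨y, hy⟩ := Cfsg.Agent.S0906.result p M hM _ hb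
    obtain ⟨E, hE⟩ := exists_isSylowIn (p := p) (Subgroup.centralizer ({y} : Set (Cen P)))
    have hEB : IsDefectGroup p M (blockOf M (φ : Cen P → ℂ)) E :=
      isDefectGroup_iff.mpr ⟨y, hy, hE⟩
    have hle : Zc P ≤ E := Cfsg.Agent.Helper5.QB.normal_le_defectGroup (Zc P) hM hZp hb hEB
    have hcE := card_defectGroup hM hb hEB
    have h2 : Nat.card (Zc P) ∣ Nat.card E := Subgroup.card_dvd_of_le hle
    rw [hcE, hk, Nat.pow_dvd_pow_iff_le_right hp.out.one_lt] at h2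
    rw [hk']
    exact h2


/-- Members of the block of `C_G(P)` are determined by their values on `p`-regular elements and
by the character `ζ` of `P`. -/
theorem phi_eq_of_decomp (hM : IsPModular p M) (hP : IsPGroup p P) (hG : P ⊔ Cen P = ⊤)
    {B : Set (IrrCharacter G)} (hB : IsPBlock M B) (hBD : IsDefectGroup p M B P)
    (χ χ' : IrrCharacter G) (hχ : χ ∈ B) (hχ' : χ' ∈ B) (ζ : IrrCharacter P)
    (φ φ' : IrrCharacter (Cen P))
    (h : Decomp P (χ : G → ℂ) (ζ : P → ℂ) (φ : Cen P → ℂ))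
    (h' : Decomp P (χ' : G → ℂ) (ζ : P → ℂ) (φ' : Cen P → ℂ)) : φ = φ' := by
  classical
  have hMp := isPrime_of_isPModular hM
  have : Finite G := Finite.of_fintype G
  have : Fintype (Cen P) := Fintype.ofFinite _
  have : Fintype (IrrCharacter (Cen P)) := Fintype.ofFinite _
  have : Fintype (Zc P) := Fintype.ofFinite _
  have hZp : IsPGroup p (Zc P) := zc_isPGroup hP
  have hsame : SameBlock M (φ : Cen P → ℂ) (φ' : Cen P → ℂ) :=
    (sameBlock_iff hM hP hG χ χ' ζ ζ φ φ' h h').mp (sameBlock_of_mem hMp hB hχ hχ')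
  have hdef := isDefectGroup_cen hM hP hG hB hBD χ hχ ζ φ h
  have hb : IsPBlock M (blockOf M (φ : Cen P → ℂ)) := isPBlock_blockOf φ
  have hdeg := factorization_degree_of_central_defect hM hb hdef zc_le_center φ
    (mem_blockOf_self hMp φ)
  have hdeg' := factorization_degree_of_central_defect hM hb hdef zc_le_center φ' hsame
  have hζ1 := irr_one_ne_zero ζ
  apply Subtype.ext
  funext c
  obtain ⟨z, hz⟩ := exists_isPPart p c
  by_cases hzZ : z ∈ Zc P
  · obtain ⟨w, hzw, hcomm, hzp, hw⟩ := hz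
    have hzP : (z : G) ∈ P := Subgroup.mem_subgroupOf.mp hzZ
    have hcG : (c : G) = ((⟨(z : G), hzP⟩ : P) : G) * (w : G) := by
      rw [← hzw]; rfl
    have e1 : (ζ : P → ℂ) 1 * (φ : Cen P → ℂ) c = (ζ : P → ℂ) ⟨(z : G), hzP⟩ * (φ : Cen P → ℂ) w := by
      rw [← h 1 c, ← h ⟨(z : G), hzP⟩ w, ← hcG]
      simp
    have e2 : (ζ : P → ℂ) 1 * (φ' : Cen P → ℂ) c =
        (ζ : P → ℂ) ⟨(z : G), hzP⟩ * (φ' : Cen P → ℂ) w := by
      rw [← h' 1 c, ← h' ⟨(z : G), hzP⟩ w, ← hcG]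
      simp
    have hreg := eq_on_regular hM (Zc P) hZp zc_le_center φ φ' hdeg hdeg' hsame w hw
    rw [hreg, ← e2] at e1
    exact mul_left_cancel₀ hζ1 e1
  · have hno : ¬ ∃ z' : Zc P, IsPPart p c ((z' : Cen P)) := by
      rintro ⟨z', hz'⟩
      apply hzZ
      rw [isPPart_unique hz hz']
      exact z'.2
    rw [(sum_normSq_and_vanish zc_le_center hZp φ hdeg).2 c hno,
      (sum_normSq_and_vanish zc_le_center hZp φ' hdeg').2 c hno]

/-- **A member of the block is determined by its `P`-part.** -/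
theorem eq_of_decomp_same_zeta (hM : IsPModular p M) (hP : IsPGroup p P) (hG : P ⊔ Cen P = ⊤)
    {B : Set (IrrCharacter G)} (hB : IsPBlock M B) (hBD : IsDefectGroup p M B P)
    (χ χ' : IrrCharacter G) (hχ : χ ∈ B) (hχ' : χ' ∈ B) (ζ : IrrCharacter P)
    (φ φ' : IrrCharacter (Cen P))
    (h : Decomp P (χ : G → ℂ) (ζ : P → ℂ) (φ : Cen P → ℂ))
    (h' : Decomp P (χ' : G → ℂ) (ζ : P → ℂ) (φ' : Cen P → ℂ)) : χ = χ' := by
  have hφ := phi_eq_of_decomp hM hP hG hB hBD χ χ' hχ hχ' ζ φ φ' h h'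
  apply Subtype.ext
  funext g
  obtain ⟨u, c, rfl⟩ := exists_mul_eq hG g
  rw [h u c, h' u c, hφ]


omit [Fintype G] in
/-- The inclusion of `P ∩ C_G(P)` into the centre of `P`. -/
noncomputable def toCenterP : Zc P →* Subgroup.center P where
  toFun z := ⟨⟨((z : Cen P) : G), Subgroup.mem_subgroupOf.mp z.2⟩, by
    rw [Subgroup.mem_center_iff]
    intro u
    apply Subtype.ext
    exact (commute_coe P u (z : Cen P)).eq⟩
  map_one' := rfl
  map_mul' := fun _ _ => rfl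

omit [Fintype G] in
theorem isPPart_self {H : Type*} [Group H] {g : H} (hg : ∃ k : ℕ, orderOf g = p ^ k) :
    IsPPart p g g :=
  ⟨1, mul_one g, Commute.one_right g, hg, by
    rw [orderOf_one]; exact hp.out.one_lt.ne' ∘ Nat.dvd_one.mp⟩

omit [Fintype G] in
theorem isPPart_one_of_regular {H : Type*} [Group H] {g : H} (hg : ¬ p ∣ orderOf g) :
    IsPPart p g 1 :=
  ⟨g, one_mul g, Commute.one_left g, ⟨0, by rw [orderOf_one, pow_zero]⟩, hg⟩

/-- **Every irreducible character of `P` occurs as the `P`-part of a member of the block.** -/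
theorem exists_of_zeta (hM : IsPModular p M) (hP : IsPGroup p P) (hG : P ⊔ Cen P = ⊤)
    {B : Set (IrrCharacter G)} (hB : IsPBlock M B) (hBD : IsDefectGroup p M B P)
    (ζ : IrrCharacter P) :
    ∃ χ ∈ B, ∃ φ : IrrCharacter (Cen P),
      Decomp P (χ : G → ℂ) (ζ : P → ℂ) (φ : Cen P → ℂ) := by
  classical
  have hMp := isPrime_of_isPModular hM
  have : Finite G := Finite.of_fintype G
  have : Fintype (IrrCharacter G) := Fintype.ofFinite _
  have : Fintype (Cen P) := Fintype.ofFinite _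
  have : Fintype (IrrCharacter (Cen P)) := Fintype.ofFinite _
  have : Fintype (Zc P) := Fintype.ofFinite _
  have hZp : IsPGroup p (Zc P) := zc_isPGroup hP
  obtain ⟨χ₀, hχ₀⟩ := IsPBlock.nonempty hMp hB
  obtain ⟨ζ₀, φ₀, h₀⟩ := exists_decomp hG χ₀
  have hdef := isDefectGroup_cen hM hP hG hB hBD χ₀ hχ₀ ζ₀ φ₀ h₀
  have hb : IsPBlock M (blockOf M (φ₀ : Cen P → ℂ)) := isPBlock_blockOf φ₀
  have hdeg₀ := factorization_degree_of_central_defect hM hb hdef zc_le_center φ₀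
    (mem_blockOf_self hMp φ₀)
  obtain ⟨ωζ, hωζ⟩ := Cfsg.Agent.Helper23.exists_central_character ζ
  obtain ⟨ωφ, hωφ⟩ := Cfsg.Agent.Helper23.exists_central_character φ₀
  set ι₂ : Zc P →* Subgroup.center (Cen P) := Subgroup.inclusion zc_le_center with hι₂
  set μ : Zc P →* ℂ := (ωζ.comp toCenterP) *
    ((starRingEnd ℂ : ℂ →+* ℂ).toMonoidHom.comp (ωφ.comp ι₂)) with hμ
  have hμa : ∀ z : Zc P, μ z = ωζ (toCenterP z) * (starRingEnd ℂ) (ωφ (ι₂ z)) := fun z => rfl
  set φ : IrrCharacter (Cen P) := ⟨fun c => tw p (Zc P) μ c * (φ₀ : Cen P → ℂ) c,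
    isIrrCharacter_tw_mul zc_le_center hZp μ φ₀ hdeg₀⟩ with hφ
  have hφa : ∀ c, (φ : Cen P → ℂ) c = tw p (Zc P) μ c * (φ₀ : Cen P → ℂ) c := fun c => rfl
  have hφreg : ∀ c : Cen P, ¬ p ∣ orderOf c → (φ : Cen P → ℂ) c = (φ₀ : Cen P → ℂ) c := by
    intro c hc
    rw [hφa, tw_of_isPPart μ (1 : Zc P) (isPPart_one_of_regular hc), map_one, one_mul]
  have hφ1 : (φ : Cen P → ℂ) 1 = (φ₀ : Cen P → ℂ) 1 :=
    hφreg 1 (by rw [orderOf_one]; exact hp.out.one_lt.ne' ∘ Nat.dvd_one.mp)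
  -- compatibility
  have hcomp : ∀ (z : G) (hzP : z ∈ P) (hzC : z⁻¹ ∈ Cen P),
      (ζ : P → ℂ) ⟨z, hzP⟩ * (φ : Cen P → ℂ) ⟨z⁻¹, hzC⟩ = (ζ : P → ℂ) 1 * (φ : Cen P → ℂ) 1 := by
    intro z hzP hzC
    have hzC' : z ∈ Cen P := by
      have := (Cen P).inv_mem hzC
      rwa [inv_inv] at this
    set zc : Zc P := ⟨⟨z, hzC'⟩, Subgroup.mem_subgroupOf.mpr hzP⟩ with hzc
    have hzcinv : ((zc⁻¹ : Zc P) : Cen P) = ⟨z⁻¹, hzC⟩ := rfl
    have hpow : ∃ k : ℕ, orderOf ((zc⁻¹ : Zc P) : Cen P) = p ^ k := by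
      obtain ⟨k, hk⟩ := hZp (zc⁻¹)
      have hk' : ((zc⁻¹ : Zc P) : Cen P) ^ (p ^ k) = 1 := by
        have := congrArg Subtype.val hk
        simpa using this
      obtain ⟨j, -, hj'⟩ := (Nat.dvd_prime_pow hp.out).mp (orderOf_dvd_of_pow_eq_one hk')
      exact ⟨j, hj'⟩
    have e1 : (ζ : P → ℂ) ⟨z, hzP⟩ = ωζ (toCenterP zc) * (ζ : P → ℂ) 1 := by
      have := hωζ (toCenterP zc) 1
      rw [one_mul] at this
      exact this
    have e2 : (φ₀ : Cen P → ℂ) ⟨z⁻¹, hzC⟩ = ωφ (ι₂ zc⁻¹) * (φ₀ : Cen P → ℂ) 1 := by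
      have := hωφ (ι₂ zc⁻¹) 1
      rw [one_mul] at this
      exact this
    have e3 : tw p (Zc P) μ (⟨z⁻¹, hzC⟩ : Cen P) = μ zc⁻¹ := by
      rw [← hzcinv]
      exact tw_of_isPPart μ (zc⁻¹) (isPPart_self hpow)
    have e4 : ωζ (toCenterP zc) * ωζ (toCenterP zc⁻¹) = 1 := by
      rw [← map_mul, ← map_mul, mul_inv_cancel, map_one, map_one]
    have e5 : (starRingEnd ℂ) (ωφ (ι₂ zc⁻¹)) * ωφ (ι₂ zc⁻¹) = 1 := by
      rw [mul_comm, Complex.mul_conj, normSq_hom_eq_one ωφ (ι₂ zc⁻¹)]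
      simp
    rw [hφa, e1, e2, e3, hμa, hφ1]
    linear_combination ((ζ : P → ℂ) 1 * (φ₀ : Cen P → ℂ) 1 *
      ((starRingEnd ℂ) (ωφ (ι₂ zc⁻¹)) * ωφ (ι₂ zc⁻¹))) * e4 +
      ((ζ : P → ℂ) 1 * (φ₀ : Cen P → ℂ) 1) * e5
  obtain ⟨χ, hχ⟩ := exists_of_compatible hG ζ φ hcomp
  refine ⟨χ, ?_, φ, hχ⟩
  rw [IsPBlock_eq_blockOf hMp hB hχ₀]
  show SameBlock M (χ₀ : G → ℂ) (χ : G → ℂ)
  rw [sameBlock_iff hM hP hG χ₀ χ ζ₀ ζ φ₀ φ h₀ hχ]
  apply sameBlock_of_regular hM
  intro c hc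
  have : centralChar (φ₀ : Cen P → ℂ) c = centralChar (φ : Cen P → ℂ) c := by
    rw [centralChar, centralChar, hφreg c hc, hφ1]
  rw [this, sub_self]
  exact memLocalIdeal_zero hMp


omit [Fintype G] hp in
/-- Proportional irreducible characters are equal. -/
theorem irr_eq_of_smul {H : Type*} [Group H] [Fintype H] (ζ ζ' : IrrCharacter H) (r : ℂ)
    (h : (ζ : H → ℂ) = r • (ζ' : H → ℂ)) : ζ = ζ' := by
  by_contra hne
  have h1 := classInner_irr_ne hne
  rw [h, classInner_smul_left, classInner_irr_self, mul_one] at h1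
  have h2 := irr_one_ne_zero ζ
  rw [h, h1] at h2
  simp at h2

omit hp in
/-- The `P`-part of a character of `G = P C` is unique. -/
theorem decomp_zeta_unique (χ : IrrCharacter G) (ζ ζ' : IrrCharacter P)
    (φ φ' : IrrCharacter (Cen P))
    (h : Decomp P (χ : G → ℂ) (ζ : P → ℂ) (φ : Cen P → ℂ))
    (h' : Decomp P (χ : G → ℂ) (ζ' : P → ℂ) (φ' : Cen P → ℂ)) : ζ = ζ' := by
  have : Fintype P := Fintype.ofFinite _
  have hφ := irr_one_ne_zero φ
  apply irr_eq_of_smul ζ ζ' ((φ' : Cen P → ℂ) 1 / (φ : Cen P → ℂ) 1)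
  funext u
  have e1 := h u 1
  have e2 := h' u 1
  rw [e1] at e2
  rw [Pi.smul_apply, smul_eq_mul]
  field_simp
  linear_combination e2

omit hp in
/-- A character of `G = P C` is trivial on `P` iff its `P`-part is trivial. -/
theorem zeta_eq_triv_of_ker (χ : IrrCharacter G) (ζ : IrrCharacter P) (φ : IrrCharacter (Cen P))
    (h : Decomp P (χ : G → ℂ) (ζ : P → ℂ) (φ : Cen P → ℂ))
    (hker : ∀ x ∈ P, (χ : G → ℂ) x = (χ : G → ℂ) 1) : ζ = trivIrr P := by
  have : Fintype P := Fintype.ofFinite _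
  have hφ := irr_one_ne_zero φ
  apply irr_eq_of_smul ζ (trivIrr P) ((ζ : P → ℂ) 1)
  funext u
  have e1 := h u 1
  have e2 := h 1 1
  have e3 := hker (u : G) u.2
  simp only [OneMemClass.coe_one, mul_one] at e1 e2
  rw [e1, e2] at e3
  rw [Pi.smul_apply, smul_eq_mul, trivIrr_apply, mul_one]
  exact mul_right_cancel₀ hφ e3

/-- **Blocks of `G = P C_G(P)` with defect group `P`** (the statement S0968). -/
theorem block_structure (hM : IsPModular p M) (hP : IsPGroup p P) (hG : P ⊔ Cen P = ⊤)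
    {B : Set (IrrCharacter G)} (hB : IsPBlock M B) (hBD : IsDefectGroup p M B P) :
    (∃! θ : IrrCharacter G, θ ∈ B ∧ ∀ x ∈ P, (θ : G → ℂ) x = (θ : G → ℂ) 1) ∧
    (∀ θ ∈ B, (∀ x ∈ P, (θ : G → ℂ) x = (θ : G → ℂ) 1) →
      (charDegree (θ : G → ℂ)).factorization p = P.index.factorization p) ∧
    Nat.card B = Nat.card (ConjClasses P) := by
  classical
  have hMp := isPrime_of_isPModular hM
  have : Finite G := Finite.of_fintype G
  have : Fintype (IrrCharacter G) := Fintype.ofFinite _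
  have : Fintype (Cen P) := Fintype.ofFinite _
  have : Fintype (IrrCharacter (Cen P)) := Fintype.ofFinite _
  have : Fintype P := Fintype.ofFinite _
  refine ⟨?_, ?_, ?_⟩
  · obtain ⟨θ, hθB, φ, hθ⟩ := exists_of_zeta hM hP hG hB hBD (trivIrr P)
    refine ⟨θ, ⟨hθB, ?_⟩, ?_⟩
    · intro x hx
      have e1 := hθ ⟨x, hx⟩ 1
      have e2 := hθ 1 1
      simp only [OneMemClass.coe_one, mul_one, trivIrr_apply] at e1 e2
      rw [e1, e2]
    · rintro θ' ⟨hθ'B, hθ'ker⟩
      obtain ⟨ζ', φ', hθ'⟩ := exists_decomp hG θ'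
      have hζ' := zeta_eq_triv_of_ker θ' ζ' φ' hθ' hθ'ker
      rw [hζ'] at hθ'
      exact eq_of_decomp_same_zeta hM hP hG hB hBD θ' θ hθ'B hθB (trivIrr P) φ' φ hθ' hθ
  · intro θ hθB hθker
    obtain ⟨ζ, φ, hθ⟩ := exists_decomp hG θ
    have hζ := zeta_eq_triv_of_ker θ ζ φ hθ hθker
    rw [hζ] at hθ
    have hdef := isDefectGroup_cen hM hP hG hB hBD θ hθB (trivIrr P) φ hθ
    have hb : IsPBlock M (blockOf M (φ : Cen P → ℂ)) := isPBlock_blockOf φ
    have hdeg := factorization_degree_of_central_defect hM hb hdef zc_le_center φ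
      (mem_blockOf_self hMp φ)
    rw [zc_index hG] at hdeg
    rw [← hdeg]
    have e2 := hθ 1 1
    simp only [OneMemClass.coe_one, mul_one, trivIrr_apply, one_mul] at e2
    unfold charDegree
    rw [e2]
  · rw [← card_irr_eq_card_conjClasses]
    have hex : ∀ χ : B, ∃ ζ : IrrCharacter P, ∃ φ : IrrCharacter (Cen P),
        Decomp P ((χ : IrrCharacter G) : G → ℂ) (ζ : P → ℂ) (φ : Cen P → ℂ) :=
      fun χ => exists_decomp hG χ.1
    choose fζ hfζ using hex
    apply Nat.card_congr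
    refine Equiv.ofBijective fζ ⟨?_, ?_⟩
    · intro χ χ' hχχ'
      obtain ⟨φ, hφ⟩ := hfζ χ
      obtain ⟨φ', hφ'⟩ := hfζ χ'
      rw [← hχχ'] at hφ'
      exact Subtype.ext (eq_of_decomp_same_zeta hM hP hG hB hBD χ.1 χ'.1 χ.2 χ'.2 _ φ φ' hφ hφ')
    · intro ζ
      obtain ⟨χ, hχB, φ, hχ⟩ := exists_of_zeta hM hP hG hB hBD ζ
      refine ⟨⟨χ, hχB⟩, ?_⟩
      obtain ⟨φ', hφ'⟩ := hfζ ⟨χ, hχB⟩
      exact decomp_zeta_unique χ _ ζ φ' φ hφ' hχ

end Cfsg.Agent.Helper5.CP
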