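import Mathlib
import Cfsg.Prelude.Def_Blocks
import Cfsg.Prelude.Def_BlockLocal
import Cfsg.Agent.Helper23.MaxConj
import Cfsg.Agent.Helper5.FirstMain
import Cfsg.Agent.S0971
import Cfsg.Agent.S0964
import Cfsg.Agent.S0963
import Cfsg.Agent.S0958
import Cfsg.Agent.S0919

set_option autoImplicit false
set_option linter.unusedSectionVars false
set_option linter.unusedVariables false

/-!
# The extended first main theorem

Blocks of `L = P·C_G(P)` inducing a block `B` of `G` with defect group `P` exist, have defect group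
`P`, and are conjugate under `N_G(P)`.
-/

namespace Cfsg.Agent.Helper5.EFM

open Cfsg Cfsg.Agent.Helper24 Cfsg.Agent.Helper5 Cfsg.Agent.Helper5.Loc Cfsg.Agent.Helper5.CC
open Cfsg.Agent.Helper14
open Cfsg.Agent.Helper23.BT Cfsg.Agent.Helper23.IC Cfsg.Agent.Helper23.TM
open Cfsg.Agent.Helper23.SB Cfsg.Agent.Helper23.TMH Cfsg.Agent.Helper23.SP
open Cfsg.Agent.Helper23.MP Cfsg.Agent.Helper23.BC

variable {G : Type*} [Group G] [Fintype G] {M : Ideal AlgInt}

/-- The image in `G` of `P·C_H(P)` computed inside `H ⊇ P·C_G(P)`. -/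
theorem map_sup_centralizer_subgroupOf (P H : Subgroup G) (hPH : P ≤ H)
    (hCH : Subgroup.centralizer (P : Set G) ≤ H) :
    ((P.subgroupOf H) ⊔ Subgroup.centralizer ((P.subgroupOf H : Subgroup H) : Set H)).map
      H.subtype = P ⊔ Subgroup.centralizer (P : Set G) := by
  rw [Subgroup.map_sup, map_subtype_subgroupOf hPH, map_centralizer_subgroupOf P H hPH hCH]

/-- The normalizer of `P` normalizes `P·C_G(P)`. -/
theorem normalizer_le_normalizer_sup (P : Subgroup G) :
    Subgroup.normalizer (P : Set G) ≤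
      Subgroup.normalizer ((P ⊔ Subgroup.centralizer (P : Set G) : Subgroup G) : Set G) := by
  intro x hx
  have h1 : (P ⊔ Subgroup.centralizer (P : Set G)).map (MulAut.conj x).toMonoidHom =
      P ⊔ Subgroup.centralizer (P : Set G) := by
    rw [Subgroup.map_sup]
    have e1 : P.map (MulAut.conj x).toMonoidHom = P :=
      Subgroup.mem_normalizer_iff_map_conj_eq.mp hx
    have e2 : (Subgroup.centralizer (P : Set G)).map (MulAut.conj x).toMonoidHom =
        Subgroup.centralizer (P : Set G) :=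
      Subgroup.mem_normalizer_iff_map_conj_eq.mp
        (le_normalizer_centralizer (le_refl (Subgroup.normalizer (P : Set G))) hx)
    rw [e1, e2]
  exact Subgroup.mem_normalizer_iff_map_conj_eq.mpr h1

/-- A block of `H`, `P ≤ H ≤ N_G(P)`, inducing a block with defect group `P` has defect group
`P`. -/
theorem isDefectGroup_of_induced' {p : ℕ} [Fact p.Prime] (hM : IsPModular p M)
    (B : Set (IrrCharacter G)) (P H : Subgroup G) (hPD : IsDefectGroup p M B P)
    (hP : IsPGroup p P) (hPH : P ≤ H) (hHN : H ≤ Subgroup.normalizer (P : Set G))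
    (b : Set (IrrCharacter H))
    (hind : IsInducedBlock M H b B) :
    IsDefectGroup p M b (P.subgroupOf H) := by
  classical
  have hMp := isPrime_of_isPModular hM
  have : Fintype (IrrCharacter G) := Fintype.ofFinite _
  have hb := hind.1
  have hB := hind.2.1
  obtain ⟨y, hy⟩ := Cfsg.Agent.S0906.result p M hM b hb
  obtain ⟨S⟩ : Nonempty (Sylow p (Subgroup.centralizer
    ({y} : Set H))) := inferInstance
  set D' : Subgroup H :=
    (S : Subgroup _).map (Subgroup.centralizer
      ({y} : Set H)).subtype with hD'def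
  have hD' : IsDefectGroup p M b D' := ⟨y, hy, S, rfl⟩
  have hPn : (P.subgroupOf H).Normal :=
    (Subgroup.normal_subgroupOf_iff_le_normalizer hPH).mpr hHN
  have hP'core : P.subgroupOf H ≤ pCore p H :=
    le_sSup (show P.subgroupOf H ∈
      {N : Subgroup H | N.Normal ∧ IsPGroup p N} from
      ⟨hPn, hP.comap_subtype⟩)
  have hP'D' : P.subgroupOf H ≤ D' :=
    hP'core.trans (Cfsg.Agent.S0912.result p M hM b hb D' hD')
  obtain ⟨E, hE, hDE⟩ := Cfsg.Agent.S0917.result p M hM _ b hb B hB hind D' hD'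
  obtain ⟨x, hx⟩ := defectGroup_conj hM B hB P E hPD hE
  have hc1 : Nat.card E = Nat.card P := by
    rw [hx]
    exact Subgroup.card_map_of_injective (cj_injective x)
  have hc2 : Nat.card (D'.map H.subtype) = Nat.card D' :=
    Subgroup.card_map_of_injective (Subgroup.subtype_injective _)
  have hc3 : Nat.card (D'.map H.subtype) ≤ Nat.card E :=
    Subgroup.card_le_of_le hDE
  have hc4 : Nat.card (P.subgroupOf H) = Nat.card P := by
    rw [← Subgroup.card_map_of_injective (Subgroup.subtype_injective H),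
      map_subtype_subgroupOf hPH]
  have hEq : P.subgroupOf H = D' :=
    Subgroup.eq_of_le_of_card_ge hP'D' (by omega)
  rw [hEq]
  exact hD'

local notation "NP" P => Subgroup.normalizer ((P : Subgroup _) : Set _)

/-- The isomorphism from `P·C_N(P)` computed in `N = N_G(P)` to `P·C_G(P)`. -/
noncomputable def supEquiv (P : Subgroup G) :
    ↥((P.subgroupOf (Subgroup.normalizer (P : Set G))) ⊔ Subgroup.centralizer
      ((P.subgroupOf (Subgroup.normalizer (P : Set G)) :
        Subgroup (Subgroup.normalizer (P : Set G))) : Set (Subgroup.normalizer (P : Set G)))) ≃*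
      ↥(P ⊔ Subgroup.centralizer (P : Set G)) :=
  liftEquiv (Subgroup.normalizer (P : Set G)) _ _
    (map_sup_centralizer_subgroupOf P (Subgroup.normalizer (P : Set G)) Subgroup.le_normalizer
      (Subgroup.centralizer_le_normalizer _))

theorem coe_supEquiv (P : Subgroup G) (a) :
    ((supEquiv P a : ↥(P ⊔ Subgroup.centralizer (P : Set G))) : G) =
      ((a : Subgroup.normalizer (P : Set G)) : G) := rfl

/-- A block of `L = P·C_G(P)` inducing `B` (with defect group `P`) is covered by a block of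
`N_G(P)` inducing `B`. -/
theorem exists_cover_of_induced {p : ℕ} [Fact p.Prime] (hM : IsPModular p M)
    (B : Set (IrrCharacter G)) (P : Subgroup G) (hP : IsPGroup p P)
    [Fintype (Subgroup.normalizer (P : Set G))]
    [Fintype ↥((P.subgroupOf (Subgroup.normalizer (P : Set G))) ⊔ Subgroup.centralizer
      ((P.subgroupOf (Subgroup.normalizer (P : Set G)) :
        Subgroup (Subgroup.normalizer (P : Set G))) : Set (Subgroup.normalizer (P : Set G))))]
    (b : Set (IrrCharacter ↥(P ⊔ Subgroup.centralizer (P : Set G))))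
    (hb : IsInducedBlock M (P ⊔ Subgroup.centralizer (P : Set G)) b B)
    (θ : IrrCharacter ↥(P ⊔ Subgroup.centralizer (P : Set G))) (hθ : θ ∈ b) :
    ∃ χ : IrrCharacter (Subgroup.normalizer (P : Set G)),
      classInner (fun n : ↥((P.subgroupOf (Subgroup.normalizer (P : Set G))) ⊔
        Subgroup.centralizer ((P.subgroupOf (Subgroup.normalizer (P : Set G)) :
        Subgroup (Subgroup.normalizer (P : Set G))) : Set (Subgroup.normalizer (P : Set G)))) =>
          (χ : Subgroup.normalizer (P : Set G) → ℂ) n)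
        ((pullIrr (supEquiv P) θ : IrrCharacter _) : _ → ℂ) ≠ 0 ∧
      IsInducedBlock M (Subgroup.normalizer (P : Set G))
        (blockOf M (χ : Subgroup.normalizer (P : Set G) → ℂ)) B := by
  classical
  have hMp := isPrime_of_isPModular hM
  have : Fintype (IrrCharacter G) := Fintype.ofFinite _
  have : Fintype (IrrCharacter (Subgroup.normalizer (P : Set G))) := Fintype.ofFinite _
  have : Fintype ↥(P ⊔ Subgroup.centralizer (P : Set G)) := Fintype.ofFinite _
  have hPN : P ≤ Subgroup.normalizer (P : Set G) := Subgroup.le_normalizer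
  have hCN : Subgroup.centralizer (P : Set G) ≤ Subgroup.normalizer (P : Set G) :=
    Subgroup.centralizer_le_normalizer _
  have hQn : (P.subgroupOf (Subgroup.normalizer (P : Set G))).Normal :=
    (Subgroup.normal_subgroupOf_iff_le_normalizer hPN).mpr le_rfl
  have hQ : IsPGroup p (P.subgroupOf (Subgroup.normalizer (P : Set G))) := hP.comap_subtype
  have hβ : IsPBlock M (pullBlock (supEquiv P) b) := isPBlock_pullBlock _ hb.1
  have hθ' : pullIrr (supEquiv P) θ ∈ pullBlock (supEquiv P) b :=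
    (pullIrr_mem_pullBlock_iff _ b θ).mpr hθ
  obtain ⟨χ, hχ⟩ := Cfsg.Agent.S0963.exists_irr_over _ (pullIrr (supEquiv P) θ)
  refine ⟨χ, hχ, ?_⟩
  have h1 := (Cfsg.Agent.S0971.result p M hM (P.subgroupOf (Subgroup.normalizer (P : Set G))) hQ
    (pullBlock (supEquiv P) b) hβ).2 (blockOf M (χ : Subgroup.normalizer (P : Set G) → ℂ))
    (isPBlock_blockOf χ) ⟨χ, mem_blockOf_self hMp χ, _, hθ', hχ⟩
  obtain ⟨B₁, h2⟩ := Cfsg.Agent.S0919.result p M hM P (Subgroup.normalizer (P : Set G)) hP hPN hCN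
    le_rfl _ (isPBlock_blockOf χ)
  have h3 := isInducedBlock_trans hMp (Subgroup.normalizer (P : Set G)) _
    (P ⊔ Subgroup.centralizer (P : Set G)) (supEquiv P) (coe_supEquiv P) h1 h2
  rw [pullBlock_symm_pullBlock] at h3
  rw [induced_unique hMp _ hb h3]
  exact h2

/-- **Extended first main theorem, conjugacy part.** -/
theorem exists_conj_of_induced {p : ℕ} [Fact p.Prime] (hM : IsPModular p M)
    (B : Set (IrrCharacter G)) (P : Subgroup G) (hPD : IsDefectGroup p M B P)
    (b b' : Set (IrrCharacter ↥(P ⊔ Subgroup.centralizer (P : Set G))))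
    (hb : IsInducedBlock M (P ⊔ Subgroup.centralizer (P : Set G)) b B)
    (hb' : IsInducedBlock M (P ⊔ Subgroup.centralizer (P : Set G)) b' B) :
    ∃ n ∈ Subgroup.normalizer (P : Set G), ∀ θ ∈ b, ∃ θ' ∈ b',
      ∀ x : ↥(P ⊔ Subgroup.centralizer (P : Set G)),
      ∀ hx : n * (x : G) * n⁻¹ ∈ P ⊔ Subgroup.centralizer (P : Set G),
        (θ' : ↥(P ⊔ Subgroup.centralizer (P : Set G)) → ℂ) x =
          (θ : ↥(P ⊔ Subgroup.centralizer (P : Set G)) → ℂ) ⟨n * (x : G) * n⁻¹, hx⟩ := by
  classical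
  have hMp := isPrime_of_isPModular hM
  have hP : IsPGroup p P := by
    obtain ⟨y, hy, S, rfl⟩ := hPD
    exact S.2.map _
  have : Fintype (IrrCharacter G) := Fintype.ofFinite _
  have : Fintype (Subgroup.normalizer (P : Set G)) := Fintype.ofFinite _
  have : Fintype (IrrCharacter (Subgroup.normalizer (P : Set G))) := Fintype.ofFinite _
  have : Fintype ↥(P ⊔ Subgroup.centralizer (P : Set G)) := Fintype.ofFinite _
  have : Fintype ↥((P.subgroupOf (Subgroup.normalizer (P : Set G))) ⊔ Subgroup.centralizer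
      ((P.subgroupOf (Subgroup.normalizer (P : Set G)) :
        Subgroup (Subgroup.normalizer (P : Set G))) : Set (Subgroup.normalizer (P : Set G)))) :=
    Fintype.ofFinite _
  have hPN : P ≤ Subgroup.normalizer (P : Set G) := Subgroup.le_normalizer
  have hQn : (P.subgroupOf (Subgroup.normalizer (P : Set G))).Normal :=
    (Subgroup.normal_subgroupOf_iff_le_normalizer hPN).mpr le_rfl
  have hLn : ((P.subgroupOf (Subgroup.normalizer (P : Set G))) ⊔ Subgroup.centralizer
      ((P.subgroupOf (Subgroup.normalizer (P : Set G)) :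
        Subgroup (Subgroup.normalizer (P : Set G))) : Set (Subgroup.normalizer (P : Set G)))).Normal :=
    inferInstance
  obtain ⟨θ₁, hθ₁⟩ := IsPBlock.nonempty hMp hb.1
  obtain ⟨θ₂, hθ₂⟩ := IsPBlock.nonempty hMp hb'.1
  obtain ⟨χ₁, hχ₁, hind₁⟩ := exists_cover_of_induced hM B P hP b hb θ₁ hθ₁
  obtain ⟨χ₂, hχ₂, hind₂⟩ := exists_cover_of_induced hM B P hP b' hb' θ₂ hθ₂
  have hD₁ := Cfsg.Agent.Helper23.MC.isDefectGroup_of_induced hM B P hPD hP _ hind₁
  have hbb := block_eq_of_induced_eq hM P hP hind₁.1 hind₂.1 hD₁ hind₁ hind₂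
  obtain ⟨g, θ₃, hθ₃, hconj⟩ := Cfsg.Agent.S0964.result p M hM _
    (blockOf M (χ₁ : Subgroup.normalizer (P : Set G) → ℂ)) (isPBlock_blockOf χ₁)
    (pullBlock (supEquiv P) b) (isPBlock_pullBlock _ hb.1) χ₁ (mem_blockOf_self hMp χ₁)
    (pullIrr (supEquiv P) θ₁) ((pullIrr_mem_pullBlock_iff _ b θ₁).mpr hθ₁) hχ₁ χ₂
    (by rw [hbb]; exact mem_blockOf_self hMp χ₂) (pullIrr (supEquiv P) θ₂) hχ₂
  have hθ₄ : pullIrr (supEquiv P).symm θ₃ ∈ b := (mem_pullBlock_iff _ b θ₃).mp hθ₃
  have hn : (g : G) ∈ Subgroup.normalizer (P : Set G) := g.2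
  have hn' : (g : G)⁻¹ ∈ Subgroup.normalizer
      ((P ⊔ Subgroup.centralizer (P : Set G) : Subgroup G) : Set G) :=
    normalizer_le_normalizer_sup P (Subgroup.inv_mem _ hn)
  -- the key relation
  have key : ∀ (x : ↥(P ⊔ Subgroup.centralizer (P : Set G)))
      (hx : (g : G) * (x : G) * (g : G)⁻¹ ∈ P ⊔ Subgroup.centralizer (P : Set G)),
      (θ₂ : ↥(P ⊔ Subgroup.centralizer (P : Set G)) → ℂ) x =
        (pullIrr (supEquiv P).symm θ₃ : ↥(P ⊔ Subgroup.centralizer (P : Set G)) → ℂ)
          ⟨(g : G) * (x : G) * (g : G)⁻¹, hx⟩ := by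
    intro x hx
    have h1 := hconj ((supEquiv P).symm x)
    rw [pullIrr_apply, MulEquiv.apply_symm_apply] at h1
    rw [h1, pullIrr_apply]
    refine congrArg θ₃.1 ?_
    apply (supEquiv P).injective
    rw [MulEquiv.apply_symm_apply]
    apply Subtype.ext
    rw [coe_supEquiv]
    show (g : G) * ((((supEquiv P).symm x : _) : Subgroup.normalizer (P : Set G)) : G) *
      ((g⁻¹ : Subgroup.normalizer (P : Set G)) : G) = (g : G) * (x : G) * (g : G)⁻¹
    rw [← coe_supEquiv, MulEquiv.apply_symm_apply, Subgroup.coe_inv]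
  have hmem : θ₂ ∈ pullBlock (conjEquiv (P ⊔ Subgroup.centralizer (P : Set G)) (g : G)⁻¹ hn') b := by
    rw [mem_pullBlock_iff]
    convert hθ₄ using 1
    apply Subtype.ext
    funext y
    rw [pullIrr_apply]
    have hx : (g : G) * (((conjEquiv (P ⊔ Subgroup.centralizer (P : Set G)) (g : G)⁻¹ hn').symm y :
        ↥(P ⊔ Subgroup.centralizer (P : Set G))) : G) * (g : G)⁻¹ ∈
        P ⊔ Subgroup.centralizer (P : Set G) := by
      have : (g : G) * (((conjEquiv (P ⊔ Subgroup.centralizer (P : Set G)) (g : G)⁻¹ hn').symm y :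
        ↥(P ⊔ Subgroup.centralizer (P : Set G))) : G) * (g : G)⁻¹ = (y : G) := by
        show (g : G) * ((g : G)⁻¹ * (y : G) * (g : G)⁻¹⁻¹) * (g : G)⁻¹ = (y : G)
        group
      rw [this]
      exact y.2
    rw [key _ hx]
    refine congrArg (pullIrr (supEquiv P).symm θ₃).1 ?_
    apply Subtype.ext
    show (g : G) * ((g : G)⁻¹ * (y : G) * (g : G)⁻¹⁻¹) * (g : G)⁻¹ = (y : G)
    group
  have hbeq : b' = pullBlock (conjEquiv (P ⊔ Subgroup.centralizer (P : Set G)) (g : G)⁻¹ hn') b := by
    rw [IsPBlock_eq_blockOf hMp hb'.1 hθ₂,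
      IsPBlock_eq_blockOf hMp (isPBlock_pullBlock _ hb.1) hmem]
  refine ⟨(g : G), hn, ?_⟩
  intro θ hθ
  refine ⟨pullIrr (conjEquiv (P ⊔ Subgroup.centralizer (P : Set G)) (g : G)⁻¹ hn') θ, ?_, ?_⟩
  · rw [hbeq]
    exact (pullIrr_mem_pullBlock_iff _ b θ).mpr hθ
  · intro x hx
    rw [pullIrr_apply]
    refine congrArg θ.1 ?_
    apply Subtype.ext
    show (g : G)⁻¹⁻¹ * (x : G) * (g : G)⁻¹ = (g : G) * (x : G) * (g : G)⁻¹
    rw [inv_inv]

end Cfsg.Agent.Helper5.EFM
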