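import Mathlib
import Cfsg.Agent.Helper8.D1Base
import Cfsg.Agent.Helper1.D1PA
import Cfsg.Agent.Helper5.ExtFirstMain
import Cfsg.Agent.Helper5.CentralProduct2
import Cfsg.Agent.Helper5.DefectOrder
import Cfsg.Agent.S0931
import Cfsg.Agent.S0958

/-!
# Defect one, piece (QB): root data of a block of positive defect when `p ∥ |G|`
-/

set_option autoImplicit false

namespace Cfsg.Agent.Helper5.D1Q

open Cfsg Cfsg.Agent.Helper24 Cfsg.Agent.Helper5 Cfsg.Agent.Helper5.Loc Cfsg.Agent.Helper5.CC
  Cfsg.Agent.Helper8.D1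

/-- root data from a Sylow defect group of order `p` -/
theorem exists_root_of_defectGroup {G : Type*} [Group G] [Finite G] (p : ℕ) [Fact p.Prime]
    (M : Ideal AlgInt) (hM : IsPModular p M) (P : Sylow p G) (hP : Nat.card P = p)
    (B : Set (IrrCharacter G)) (hB : IsPBlock M B) (hBP : IsDefectGroup p M B P) :
    ∃ (b : Set (IrrCharacter (Subgroup.centralizer ((P : Subgroup G) : Set G))))
      (θ : IrrCharacter (Subgroup.centralizer ((P : Subgroup G) : Set G))),
      IsInducedBlock M (Subgroup.centralizer ((P : Subgroup G) : Set G)) b B ∧ θ ∈ b ∧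
      ∀ x : Subgroup.centralizer ((P : Subgroup G) : Set G), (x : G) ∈ (P : Subgroup G) →
        (θ : Subgroup.centralizer ((P : Subgroup G) : Set G) → ℂ) x =
          (θ : Subgroup.centralizer ((P : Subgroup G) : Set G) → ℂ) 1 := by
  classical
  haveI : Fintype G := Fintype.ofFinite G
  have hPC : (P : Subgroup G) ≤ Subgroup.centralizer ((P : Subgroup G) : Set G) :=
    Cfsg.Agent.Helper1.D1PA.le_centralizer P hP
  have hCN : Subgroup.centralizer ((P : Subgroup G) : Set G) ≤
      Subgroup.normalizer ((P : Subgroup G) : Set G) :=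
    fun g hg => Subgroup.centralizer_le_normalizer _ hg
  have hPp : IsPGroup p (P : Subgroup G) := P.2
  obtain ⟨b, hind⟩ := (Cfsg.Agent.S0958.result p M hM (P : Subgroup G)
    (Subgroup.centralizer ((P : Subgroup G) : Set G)) hPp (sup_le hPC le_rfl) hCN B hB).mpr
    ⟨(P : Subgroup G), hBP, 1, by
      intro x hx
      obtain ⟨y, hy, rfl⟩ := hx
      have : (MulAut.conj (1 : G)).toMonoidHom y = y := by simp
      rw [this]
      exact hy⟩
  set P' : Subgroup (Subgroup.centralizer ((P : Subgroup G) : Set G)) :=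
    (P : Subgroup G).subgroupOf (Subgroup.centralizer ((P : Subgroup G) : Set G)) with hP'
  have hD' : IsDefectGroup p M b P' :=
    EFM.isDefectGroup_of_induced' hM B (P : Subgroup G) _ hBP hPp hPC hCN b hind
  have hP'p : IsPGroup p P' := hPp.comap_subtype
  have hcent : P' ⊔ Subgroup.centralizer (P' : Set (Subgroup.centralizer ((P : Subgroup G) : Set G))) =
      ⊤ := by
    have : Subgroup.centralizer (P' : Set (Subgroup.centralizer ((P : Subgroup G) : Set G))) = ⊤ := by
      rw [eq_top_iff]
      intro c _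
      rw [Subgroup.mem_centralizer_iff]
      intro x hx
      have hxP : (x : G) ∈ (P : Subgroup G) := Subgroup.mem_subgroupOf.mp hx
      apply Subtype.ext
      simp only [Subgroup.coe_mul]
      exact (Subgroup.mem_centralizer_iff.mp c.2 (x : G) hxP)
    rw [this, sup_top_eq]
  haveI : Fintype (Subgroup.centralizer ((P : Subgroup G) : Set G)) := Fintype.ofFinite _
  obtain ⟨⟨θ, ⟨hθb, hθk⟩, -⟩, -, -⟩ :=
    Cfsg.Agent.Helper5.CP.block_structure hM hP'p hcent hind.1 hD'
  exact ⟨b, θ, hind, hθb, fun x hx => hθk x (Subgroup.mem_subgroupOf.mpr hx)⟩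

theorem exists_root_data {G : Type*} [Group G] [Finite G] (p : ℕ) [hp : Fact p.Prime]
    (M : Ideal AlgInt) (hM : IsPModular p M) (hdiv : p ∣ Nat.card G) (hsq : ¬ p ^ 2 ∣ Nat.card G)
    (B : Set (IrrCharacter G)) (hB : IsPBlock M B) (hd : 0 < blockDefect p B) :
    ∃ P : Sylow p G, Nat.card P = p ∧ IsDefectGroup p M B P ∧
      ∃ (b : Set (IrrCharacter (Subgroup.centralizer ((P : Subgroup G) : Set G))))
        (θ : IrrCharacter (Subgroup.centralizer ((P : Subgroup G) : Set G))),
        IsInducedBlock M (Subgroup.centralizer ((P : Subgroup G) : Set G)) b B ∧ θ ∈ b ∧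
        ∀ x : Subgroup.centralizer ((P : Subgroup G) : Set G), (x : G) ∈ (P : Subgroup G) →
          (θ : Subgroup.centralizer ((P : Subgroup G) : Set G) → ℂ) x =
            (θ : Subgroup.centralizer ((P : Subgroup G) : Set G) → ℂ) 1 := by
  classical
  haveI : Fintype G := Fintype.ofFinite G
  haveI : Fintype (IrrCharacter G) := Fintype.ofFinite _
  have hfac : (Nat.card G).factorization p = 1 := by
    have h0 : Nat.card G ≠ 0 := Nat.card_pos.ne'
    have h1 : 1 ≤ (Nat.card G).factorization p :=
      (hp.out.dvd_iff_one_le_factorization h0).mp hdiv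
    have h2 : ¬ 2 ≤ (Nat.card G).factorization p := fun h =>
      hsq ((hp.out.pow_dvd_iff_le_factorization h0).mpr h)
    omega
  obtain ⟨D, hD⟩ := Cfsg.Agent.S0931.exists_defectGroup p M hM B hB
  have hcard := card_defectGroup hM hB hD
  have hle : blockDefect p B ≤ 1 := by
    unfold blockDefect
    rw [hfac]
    exact Nat.sub_le _ _
  have hdef : blockDefect p B = 1 := by omega
  rw [hdef, pow_one] at hcard
  have hcard' : Nat.card D = p ^ (Nat.card G).factorization p := by rw [hfac, pow_one, hcard]
  set P : Sylow p G := Sylow.ofCard D hcard' with hPdef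
  have hPD : (P : Subgroup G) = D := Sylow.coe_ofCard D hcard'
  have hP : Nat.card P = p := by
    show Nat.card (P : Subgroup G) = p
    rw [hPD, hcard]
  have hBP : IsDefectGroup p M B P := by rw [hPD]; exact hD
  exact ⟨P, hP, hBP, exists_root_of_defectGroup p M hM P hP B hB hBP⟩

end Cfsg.Agent.Helper5.D1Q
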