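import Mathlib
import Cfsg.Agent.Helper8.D1Base
import Cfsg.Agent.Helper1.D1PA
import Cfsg.Agent.Helper5.ExtFirstMain
import Cfsg.Agent.Helper5.CentralProduct2

/-!
# Defect one, piece (QX): extended first main theorem in canonical-character form
-/

set_option autoImplicit false

namespace Cfsg.Agent.Helper5.D1Q

open Cfsg Cfsg.Agent.Helper24 Cfsg.Agent.Helper5 Cfsg.Agent.Helper5.Loc Cfsg.Agent.Helper5.CC
  Cfsg.Agent.Helper8.D1

/-- the conjugacy part of the extended first main theorem, transported to a subgroup equal to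
`P ⊔ C_G(P)` -/
theorem exists_conj_of_induced_of_eq {G : Type*} [Group G] [Fintype G] {M : Ideal AlgInt}
    {p : ℕ} [Fact p.Prime] (hM : IsPModular p M)
    (B : Set (IrrCharacter G)) (P : Subgroup G) (hPD : IsDefectGroup p M B P)
    (L : Subgroup G) (hL : P ⊔ Subgroup.centralizer (P : Set G) = L)
    (b b' : Set (IrrCharacter L))
    (hb : IsInducedBlock M L b B) (hb' : IsInducedBlock M L b' B) :
    ∃ n ∈ Subgroup.normalizer (P : Set G), ∀ θ ∈ b, ∃ θ' ∈ b',
      ∀ x : L, ∀ hx : n * (x : G) * n⁻¹ ∈ L,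
        (θ' : L → ℂ) x = (θ : L → ℂ) ⟨n * (x : G) * n⁻¹, hx⟩ := by
  subst hL
  exact EFM.exists_conj_of_induced hM B P hPD b b' hb hb'

theorem exists_conj_canonical {G : Type*} [Group G] [Finite G] {p : ℕ} [Fact p.Prime]
    {M : Ideal AlgInt} (hM : IsPModular p M) (P : Sylow p G) (hP : Nat.card P = p)
    (B : Set (IrrCharacter G)) (hBP : IsDefectGroup p M B P)
    (b b' : Set (IrrCharacter (Subgroup.centralizer ((P : Subgroup G) : Set G))))
    (hind : IsInducedBlock M (Subgroup.centralizer ((P : Subgroup G) : Set G)) b B)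
    (hind' : IsInducedBlock M (Subgroup.centralizer ((P : Subgroup G) : Set G)) b' B)
    (θ θ' : IrrCharacter (Subgroup.centralizer ((P : Subgroup G) : Set G)))
    (hθ : θ ∈ b) (hθ' : θ' ∈ b')
    (hθP : ∀ x : Subgroup.centralizer ((P : Subgroup G) : Set G), (x : G) ∈ (P : Subgroup G) →
      (θ : Subgroup.centralizer ((P : Subgroup G) : Set G) → ℂ) x =
        (θ : Subgroup.centralizer ((P : Subgroup G) : Set G) → ℂ) 1)
    (hθ'P : ∀ x : Subgroup.centralizer ((P : Subgroup G) : Set G), (x : G) ∈ (P : Subgroup G) →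
      (θ' : Subgroup.centralizer ((P : Subgroup G) : Set G) → ℂ) x =
        (θ' : Subgroup.centralizer ((P : Subgroup G) : Set G) → ℂ) 1) :
    ∃ (n : G) (hn : n ∈ Subgroup.normalizer ((P : Subgroup G) : Set G)),
      ∀ c : Subgroup.centralizer ((P : Subgroup G) : Set G),
        (θ' : Subgroup.centralizer ((P : Subgroup G) : Set G) → ℂ) c =
          (θ : Subgroup.centralizer ((P : Subgroup G) : Set G) → ℂ) (kap (P : Subgroup G) n hn c) := by
  classical
  haveI : Fintype G := Fintype.ofFinite G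
  have hPC : (P : Subgroup G) ≤ Subgroup.centralizer ((P : Subgroup G) : Set G) :=
    Cfsg.Agent.Helper1.D1PA.le_centralizer P hP
  have hCN : Subgroup.centralizer ((P : Subgroup G) : Set G) ≤
      Subgroup.normalizer ((P : Subgroup G) : Set G) :=
    fun g hg => Subgroup.centralizer_le_normalizer _ hg
  have hPp : IsPGroup p (P : Subgroup G) := P.2
  obtain ⟨n, hn, hconj⟩ := exists_conj_of_induced_of_eq hM B (P : Subgroup G) hBP
    (Subgroup.centralizer ((P : Subgroup G) : Set G)) (sup_eq_right.mpr hPC) b b' hind hind'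
  obtain ⟨θ₁, hθ₁, hθ₁eq⟩ := hconj θ hθ
  refine ⟨n, hn, ?_⟩
  have hθ₁kap : ∀ c : Subgroup.centralizer ((P : Subgroup G) : Set G),
      (θ₁ : Subgroup.centralizer ((P : Subgroup G) : Set G) → ℂ) c =
        (θ : Subgroup.centralizer ((P : Subgroup G) : Set G) → ℂ) (kap (P : Subgroup G) n hn c) :=
    fun c => hθ₁eq c (kap (P : Subgroup G) n hn c).2
  -- uniqueness of the canonical character in `b'`
  set P' : Subgroup (Subgroup.centralizer ((P : Subgroup G) : Set G)) :=
    (P : Subgroup G).subgroupOf (Subgroup.centralizer ((P : Subgroup G) : Set G)) with hP'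
  have hD' : IsDefectGroup p M b' P' :=
    EFM.isDefectGroup_of_induced' hM B (P : Subgroup G) _ hBP hPp hPC hCN b' hind'
  have hP'p : IsPGroup p P' := hPp.comap_subtype
  have hcent : P' ⊔ Subgroup.centralizer (P' : Set (Subgroup.centralizer ((P : Subgroup G) : Set G))) =
      ⊤ := by
    have : Subgroup.centralizer (P' : Set (Subgroup.centralizer ((P : Subgroup G) : Set G))) = ⊤ := by
      rw [eq_top_iff]
      intro c _
      rw [Subgroup.mem_centralizer_iff]
      intro x hx
      have hxP : (x : G) ∈ (P : Subgroup G) := Subgroup.mem_subgroupOf.mp hx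
      apply Subtype.ext
      simp only [Subgroup.coe_mul]
      exact (Subgroup.mem_centralizer_iff.mp c.2 (x : G) hxP)
    rw [this, sup_top_eq]
  haveI : Fintype (Subgroup.centralizer ((P : Subgroup G) : Set G)) := Fintype.ofFinite _
  obtain ⟨⟨θ₀, -, huniq⟩, -, -⟩ := Cfsg.Agent.Helper5.CP.block_structure hM hP'p hcent hind'.1 hD'
  have h1 : θ₁ = θ₀ := by
    apply huniq
    refine ⟨hθ₁, fun x hx => ?_⟩
    have hxP : (x : G) ∈ (P : Subgroup G) := Subgroup.mem_subgroupOf.mp hx
    rw [hθ₁kap, hθ₁kap 1, map_one]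
    apply hθP
    rw [coe_kap]
    exact (Subgroup.mem_normalizer_iff.mp hn (x : G)).mp hxP
  have h2 : θ' = θ₀ := by
    apply huniq
    exact ⟨hθ', fun x hx => hθ'P x (Subgroup.mem_subgroupOf.mp hx)⟩
  intro c
  rw [h2, ← h1]
  exact hθ₁kap c

end Cfsg.Agent.Helper5.D1Q
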