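import Mathlib
import Cfsg.Agent.Helper8.D1Base
import Cfsg.Agent.Helper1.D1PA
import Cfsg.Agent.Helper5.D1QB
import Cfsg.Agent.Helper5.D1QX
import Cfsg.Agent.Helper5.ExtFirstMain
import Cfsg.Agent.Helper23.InducedCalc
import Cfsg.Agent.Helper23.BlockTransport
import Cfsg.Agent.Helper23.ThirdMainHard
import Cfsg.Agent.S0912
import Cfsg.Agent.S0917
import Cfsg.Agent.S0919
import Cfsg.Agent.S0931
import Cfsg.Agent.S0958
import Cfsg.Agent.Helper5.DefectGroups2
import Cfsg.Agent.Helper24.ColumnOrth
import Cfsg.Agent.Helper24.DefectZero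
import Cfsg.Agent.Helper24.D1QH
import Cfsg.Agent.Helper20.D1CNT

/-!
# Defect one: counting characters of degree prime to `p` (towards S4502)
-/

set_option autoImplicit false


namespace Cfsg.Agent.Helper5.D1Q

open Cfsg Cfsg.Agent.Helper24 Cfsg.Agent.Helper5 Cfsg.Agent.Helper5.Loc Cfsg.Agent.Helper5.CC
  Cfsg.Agent.Helper8.D1 Cfsg.Agent.Helper23.BT Cfsg.Agent.Helper23.IC Cfsg.Agent.Helper23.TMH

universe u

/-- the cardinality clause of the main theorem on blocks with a Sylow defect group of order `p`,
as a hypothesis (for all groups in a fixed universe) -/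
def BlockMainCard (p : ℕ) [Fact p.Prime] (M : Ideal AlgInt) : Prop :=
  ∀ (X : Type u) [Group X] [Finite X] (P : Sylow p X) (_hP : Nat.card P = p)
    (B : Set (IrrCharacter X)) (_hB : IsPBlock M B) (_hBP : IsDefectGroup p M B P)
    (b : Set (IrrCharacter (Subgroup.centralizer ((P : Subgroup X) : Set X))))
    (_hind : IsInducedBlock M (Subgroup.centralizer ((P : Subgroup X) : Set X)) b B)
    (θ : IrrCharacter (Subgroup.centralizer ((P : Subgroup X) : Set X))) (_hθ : θ ∈ b)
    (_hθP : ∀ x : Subgroup.centralizer ((P : Subgroup X) : Set X), (x : X) ∈ (P : Subgroup X) →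
      (θ : Subgroup.centralizer ((P : Subgroup X) : Set X) → ℂ) x =
        (θ : Subgroup.centralizer ((P : Subgroup X) : Set X) → ℂ) 1)
    (T : Subgroup X)
    (_hT : ∀ g : X, g ∈ T ↔ (g ∈ Subgroup.normalizer ((P : Subgroup X) : Set X) ∧
      ∀ c c' : Subgroup.centralizer ((P : Subgroup X) : Set X), (c' : X) = g * c * g⁻¹ →
        (θ : Subgroup.centralizer ((P : Subgroup X) : Set X) → ℂ) c' =
          (θ : Subgroup.centralizer ((P : Subgroup X) : Set X) → ℂ) c)),
    Nat.card B = (Subgroup.centralizer ((P : Subgroup X) : Set X)).relIndex T +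
      (p - 1) / (Subgroup.centralizer ((P : Subgroup X) : Set X)).relIndex T

/-- the stabilizer in `N_G(P)` of a function on `C_G(P)` -/
def stabT {G : Type*} [Group G] (P : Subgroup G)
    (θ : Subgroup.centralizer (P : Set G) → ℂ) : Subgroup G where
  carrier := {g | g ∈ Subgroup.normalizer (P : Set G) ∧
    ∀ c c' : Subgroup.centralizer (P : Set G), (c' : G) = g * c * g⁻¹ → θ c' = θ c}
  one_mem' := by
    refine ⟨Subgroup.one_mem _, fun c c' h => ?_⟩
    have : c' = c := by
      apply Subtype.ext
      rw [h]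
      group
    rw [this]
  mul_mem' := by
    rintro g h ⟨hg, hg'⟩ ⟨hh, hh'⟩
    refine ⟨Subgroup.mul_mem _ hg hh, fun c c' hc => ?_⟩
    have h1 := hh' c (kap P h hh c) rfl
    have h2 := hg' (kap P h hh c) c' (by
      rw [hc, coe_kap]
      group)
    rw [h2, h1]
  inv_mem' := by
    rintro g ⟨hg, hg'⟩
    refine ⟨Subgroup.inv_mem _ hg, fun c c' hc => ?_⟩
    have h1 := hg' c' c (by
      rw [hc]
      group)
    exact h1.symm

theorem mem_stabT {G : Type*} [Group G] (P : Subgroup G)
    (θ : Subgroup.centralizer (P : Set G) → ℂ) (g : G) :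
    g ∈ stabT P θ ↔ (g ∈ Subgroup.normalizer (P : Set G) ∧
      ∀ c c' : Subgroup.centralizer (P : Set G), (c' : G) = g * c * g⁻¹ → θ c' = θ c) :=
  Iff.rfl

/-- every block of a group with a normal Sylow `p`-subgroup has that subgroup as defect group -/
theorem isDefectGroup_of_normal_sylow {X : Type*} [Group X] [Finite X] {p : ℕ} [Fact p.Prime]
    {M : Ideal AlgInt} (hM : IsPModular p M) (Q : Sylow p X) [hQn : (Q : Subgroup X).Normal]
    (β : Set (IrrCharacter X)) (hβ : IsPBlock M β) : IsDefectGroup p M β Q := by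
  classical
  obtain ⟨D, hD⟩ := Cfsg.Agent.S0931.exists_defectGroup p M hM β hβ
  have h1 : (Q : Subgroup X) ≤ D := by
    have hcore : (Q : Subgroup X) ≤ pCore p X :=
      le_sSup (show (Q : Subgroup X) ∈ {N : Subgroup X | N.Normal ∧ IsPGroup p N} from ⟨hQn, Q.2⟩)
    exact hcore.trans (Cfsg.Agent.S0912.result p M hM β hβ D hD)
  have hDp : IsPGroup p D := by
    obtain ⟨g, -, S, rfl⟩ := hD
    exact S.2.map _
  have hsup : IsPGroup p (D ⊔ (Q : Subgroup X) : Subgroup X) := hDp.to_sup_of_normal_right Q.2
  have hmax := Q.is_maximal' hsup le_sup_right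
  have hS : D ≤ (Q : Subgroup X) := by
    rw [← hmax]
    exact le_sup_left
  have : D = (Q : Subgroup X) := le_antisymm hS h1
  rw [← this]
  exact hD

/-- a block of `N_G(P)` and the block of `G` it induces have the same number of characters -/
theorem card_eq_of_induced {G : Type u} [Group G] [Finite G] {p : ℕ} [hp : Fact p.Prime]
    {M : Ideal AlgInt} (hM : IsPModular p M) (hmain : BlockMainCard.{u} p M)
    (P : Sylow p G) (hP : Nat.card P = p)
    (β : Set (IrrCharacter (Subgroup.normalizer ((P : Subgroup G) : Set G))))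
    (B : Set (IrrCharacter G))
    (hind : IsInducedBlock M (Subgroup.normalizer ((P : Subgroup G) : Set G)) β B) :
    Nat.card β = Nat.card B ∧ IsDefectGroup p M B P := by
  classical
  haveI : Fintype G := Fintype.ofFinite G
  have hMp := isPrime_of_isPModular hM
  have hβ : IsPBlock M β := hind.1
  have hB : IsPBlock M B := hind.2.1
  have hPN : (P : Subgroup G) ≤ Subgroup.normalizer ((P : Subgroup G) : Set G) :=
    Subgroup.le_normalizer
  have hCN : Subgroup.centralizer ((P : Subgroup G) : Set G) ≤
      Subgroup.normalizer ((P : Subgroup G) : Set G) :=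
    fun g hg => Subgroup.centralizer_le_normalizer _ hg
  -- the Sylow subgroup of `N`
  set Pt : Sylow p (Subgroup.normalizer ((P : Subgroup G) : Set G)) := P.subtype hPN with hPt
  have hPtcoe : (Pt : Subgroup (Subgroup.normalizer ((P : Subgroup G) : Set G))) =
      (P : Subgroup G).subgroupOf (Subgroup.normalizer ((P : Subgroup G) : Set G)) :=
    Sylow.coe_subtype P hPN
  have hPtmap : (Pt : Subgroup (Subgroup.normalizer ((P : Subgroup G) : Set G))).map
      (Subgroup.normalizer ((P : Subgroup G) : Set G)).subtype = (P : Subgroup G) := by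
    rw [hPtcoe]
    exact Cfsg.Agent.Helper14.map_subtype_subgroupOf hPN
  have hPtcard : Nat.card Pt = p := by
    show Nat.card (Pt : Subgroup (Subgroup.normalizer ((P : Subgroup G) : Set G))) = p
    rw [← Subgroup.card_map_of_injective (Subgroup.subtype_injective _), hPtmap]
    exact hP
  haveI hPtn : (Pt : Subgroup (Subgroup.normalizer ((P : Subgroup G) : Set G))).Normal := by
    rw [hPtcoe]
    exact Subgroup.normal_in_normalizer
  have hβD : IsDefectGroup p M β Pt := isDefectGroup_of_normal_sylow hM Pt β hβ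
  -- `B` has defect group `P`
  have hBP : IsDefectGroup p M B P := by
    obtain ⟨E, hE, hPE⟩ := Cfsg.Agent.S0917.result p M hM _ β hβ B hB hind _ hβD
    rw [hPtmap] at hPE
    have hEp : IsPGroup p E := by
      obtain ⟨g, -, S, rfl⟩ := hE
      exact S.2.map _
    have := P.is_maximal' hEp hPE
    rw [← this]
    exact hE
  refine ⟨?_, hBP⟩
  -- the root in `N`
  obtain ⟨bt, θt, hindt, hθt, hθtP⟩ := exists_root_of_defectGroup p M hM Pt hPtcard β hβ hβD
  -- transport to `G`
  have hmap : (Subgroup.centralizer ((Pt : Subgroup (Subgroup.normalizer ((P : Subgroup G) : Set G))) :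
      Set (Subgroup.normalizer ((P : Subgroup G) : Set G)))).map
      (Subgroup.normalizer ((P : Subgroup G) : Set G)).subtype =
      Subgroup.centralizer ((P : Subgroup G) : Set G) := by
    have := map_centralizer_subtype (Subgroup.normalizer ((P : Subgroup G) : Set G))
      (Pt : Subgroup (Subgroup.normalizer ((P : Subgroup G) : Set G))) (by rw [hPtmap]; exact hCN)
    rw [this, hPtmap]
  set φ := liftEquiv (Subgroup.normalizer ((P : Subgroup G) : Set G)) _ _ hmap with hφ
  have hφcoe : ∀ a, ((φ a : Subgroup.centralizer ((P : Subgroup G) : Set G)) : G) =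
      ((a : Subgroup.normalizer ((P : Subgroup G) : Set G)) : G) := fun a => rfl
  have hφsymm : ∀ c : Subgroup.centralizer ((P : Subgroup G) : Set G),
      (((φ.symm c : _) : Subgroup.normalizer ((P : Subgroup G) : Set G)) : G) = (c : G) := by
    intro c
    rw [← hφcoe, MulEquiv.apply_symm_apply]
  haveI : Fintype (Subgroup.normalizer ((P : Subgroup G) : Set G)) := Fintype.ofFinite _
  haveI : Fintype (Subgroup.centralizer ((P : Subgroup G) : Set G)) := Fintype.ofFinite _
  haveI : Fintype (Subgroup.centralizer ((Pt : Subgroup (Subgroup.normalizer ((P : Subgroup G) : Set G))) :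
      Set (Subgroup.normalizer ((P : Subgroup G) : Set G)))) := Fintype.ofFinite _
  have hindG := isInducedBlock_trans hMp (Subgroup.normalizer ((P : Subgroup G) : Set G)) _ _ φ
    hφcoe hindt hind
  set θ := pullIrr φ.symm θt with hθdef
  have hθb : θ ∈ pullBlock φ.symm bt := (pullIrr_mem_pullBlock_iff _ bt θt).mpr hθt
  have hθval : ∀ c, (θ : Subgroup.centralizer ((P : Subgroup G) : Set G) → ℂ) c =
      (θt : _ → ℂ) (φ.symm c) := fun c => pullIrr_apply φ.symm θt c
  have hθP : ∀ x : Subgroup.centralizer ((P : Subgroup G) : Set G), (x : G) ∈ (P : Subgroup G) →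
      (θ : Subgroup.centralizer ((P : Subgroup G) : Set G) → ℂ) x =
        (θ : Subgroup.centralizer ((P : Subgroup G) : Set G) → ℂ) 1 := by
    intro x hx
    rw [hθval, hθval, map_one]
    apply hθtP
    have h3 : ((φ.symm x : _) : Subgroup.normalizer ((P : Subgroup G) : Set G)) ∈
        (P : Subgroup G).subgroupOf (Subgroup.normalizer ((P : Subgroup G) : Set G)) := by
      rw [Subgroup.mem_subgroupOf, hφsymm]
      exact hx
    exact h3
  -- the two inertial indices agree
  have hCeq : Subgroup.centralizer ((Pt : Subgroup (Subgroup.normalizer ((P : Subgroup G) : Set G))) :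
      Set (Subgroup.normalizer ((P : Subgroup G) : Set G))) =
      (Subgroup.centralizer ((P : Subgroup G) : Set G)).subgroupOf
        (Subgroup.normalizer ((P : Subgroup G) : Set G)) := by
    ext x
    rw [Subgroup.mem_subgroupOf, ← hmap]
    exact (Subgroup.mem_map_iff_mem (Subgroup.subtype_injective _)).symm
  have hTeq : stabT (Pt : Subgroup (Subgroup.normalizer ((P : Subgroup G) : Set G))) (θt : _ → ℂ) =
      (stabT (P : Subgroup G) (θ : _ → ℂ)).subgroupOf
        (Subgroup.normalizer ((P : Subgroup G) : Set G)) := by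
    ext g
    rw [Subgroup.mem_subgroupOf, mem_stabT, mem_stabT]
    constructor
    · rintro ⟨-, h⟩
      refine ⟨g.2, fun c c' hc => ?_⟩
      rw [hθval, hθval]
      apply h
      apply Subtype.ext
      simp only [Subgroup.coe_mul, Subgroup.coe_inv]
      rw [hφsymm, hφsymm]
      exact hc
    · rintro ⟨-, h⟩
      refine ⟨?_, fun c c' hc => ?_⟩
      · have htop : Subgroup.normalizer
            ((Pt : Subgroup (Subgroup.normalizer ((P : Subgroup G) : Set G))) :
              Set (Subgroup.normalizer ((P : Subgroup G) : Set G))) = ⊤ :=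
          Subgroup.normalizer_eq_top _
        rw [htop]
        trivial
      · have h1 := h (φ c) (φ c') (by
          rw [hφcoe, hφcoe, hc]
          simp only [Subgroup.coe_mul, Subgroup.coe_inv])
        rw [hθval, hθval, MulEquiv.symm_apply_apply, MulEquiv.symm_apply_apply] at h1
        exact h1
  have hTN : stabT (P : Subgroup G) (θ : _ → ℂ) ≤ Subgroup.normalizer ((P : Subgroup G) : Set G) :=
    fun g hg => ((mem_stabT _ _ g).mp hg).1
  have he : (Subgroup.centralizer ((Pt : Subgroup (Subgroup.normalizer ((P : Subgroup G) : Set G))) :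
      Set (Subgroup.normalizer ((P : Subgroup G) : Set G)))).relIndex
      (stabT (Pt : Subgroup (Subgroup.normalizer ((P : Subgroup G) : Set G))) (θt : _ → ℂ)) =
      (Subgroup.centralizer ((P : Subgroup G) : Set G)).relIndex
        (stabT (P : Subgroup G) (θ : _ → ℂ)) := by
    have e1 : ∀ (H H' K K' : Subgroup (Subgroup.normalizer ((P : Subgroup G) : Set G))),
        H = H' → K = K' → H.relIndex K = H'.relIndex K' := by
      intro H H' K K' h1 h2
      rw [h1, h2]
    rw [e1 _ _ _ _ hCeq hTeq]
    exact Subgroup.relIndex_subgroupOf hTN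
  have h1 := hmain _ Pt hPtcard β hβ hβD bt hindt θt hθt hθtP
    (stabT (Pt : Subgroup (Subgroup.normalizer ((P : Subgroup G) : Set G))) (θt : _ → ℂ))
    (mem_stabT _ _)
  have h2 := hmain _ P hP B hB hBP (pullBlock φ.symm bt) hindG θ hθb hθP
    (stabT (P : Subgroup G) (θ : _ → ℂ)) (mem_stabT _ _)
  rw [h1, h2, he]

/-- when `p ∥ |G|`, every Sylow `p`-subgroup is a defect group of every block of positive
defect -/
theorem isDefectGroup_sylow_of_pos {G : Type*} [Group G] [Finite G] {p : ℕ} [hp : Fact p.Prime]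
    {M : Ideal AlgInt} (hM : IsPModular p M) (hdiv : p ∣ Nat.card G) (hsq : ¬ p ^ 2 ∣ Nat.card G)
    (P : Sylow p G) (B : Set (IrrCharacter G)) (hB : IsPBlock M B) (hd : 0 < blockDefect p B) :
    IsDefectGroup p M B P := by
  classical
  haveI : Fintype G := Fintype.ofFinite G
  haveI : Fintype (IrrCharacter G) := Fintype.ofFinite _
  obtain ⟨P₀, -, hBP₀, -⟩ := exists_root_data p M hM hdiv hsq B hB hd
  obtain ⟨g, hg⟩ := MulAction.exists_smul_eq G P₀ P
  have h1 := isDefectGroup_map_cj hBP₀ g
  have h2 : (P₀ : Subgroup G).map (Cfsg.Agent.Helper14.cj g) = (P : Subgroup G) := by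
    rw [← hg, Sylow.coe_subgroup_smul]
    rfl
  rwa [h2] at h1

theorem card_sylow_eq {G : Type*} [Group G] [Finite G] {p : ℕ} [hp : Fact p.Prime]
    (hdiv : p ∣ Nat.card G) (hsq : ¬ p ^ 2 ∣ Nat.card G) (P : Sylow p G) : Nat.card P = p := by
  have hfac : (Nat.card G).factorization p = 1 := by
    have h0 : Nat.card G ≠ 0 := Nat.card_pos.ne'
    have h1 : 1 ≤ (Nat.card G).factorization p :=
      (hp.out.dvd_iff_one_le_factorization h0).mp hdiv
    have h2 : ¬ 2 ≤ (Nat.card G).factorization p := fun h =>
      hsq ((hp.out.pow_dvd_iff_le_factorization h0).mpr h)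
    omega
  have := P.card_eq_multiplicity
  rw [hfac, pow_one] at this
  exact this

/-- **Characters of degree prime to `p` are counted by the classes of `N_G(P)`** when
`p ∥ |G|`. -/
theorem card_pprime_degree {G : Type u} [Group G] [Finite G] (p : ℕ) [hp : Fact p.Prime]
    (hmain : ∀ M : Ideal AlgInt, IsPModular p M → BlockMainCard.{u} p M)
    (hdiv : p ∣ Nat.card G) (hsq : ¬ p ^ 2 ∣ Nat.card G) (P : Sylow p G) :
    Nat.card {χ : IrrCharacter G // ¬ p ∣ charDegree (χ : G → ℂ)} =
      Nat.card (ConjClasses (Subgroup.normalizer ((P : Subgroup G) : Set G))) := by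
  classical
  haveI : Fintype G := Fintype.ofFinite G
  haveI : Fintype (IrrCharacter G) := Fintype.ofFinite _
  obtain ⟨M, hM⟩ := Cfsg.Agent.Helper24.exists_isPModular p hp.out
  have hMp := isPrime_of_isPModular hM
  have hP : Nat.card P = p := card_sylow_eq hdiv hsq P
  have hPp : IsPGroup p (P : Subgroup G) := P.2
  have hPN : (P : Subgroup G) ≤ Subgroup.normalizer ((P : Subgroup G) : Set G) :=
    Subgroup.le_normalizer
  have hCN : Subgroup.centralizer ((P : Subgroup G) : Set G) ≤
      Subgroup.normalizer ((P : Subgroup G) : Set G) :=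
    fun g hg => Subgroup.centralizer_le_normalizer _ hg
  haveI : Fintype (Subgroup.normalizer ((P : Subgroup G) : Set G)) := Fintype.ofFinite _
  haveI : Fintype (IrrCharacter (Subgroup.normalizer ((P : Subgroup G) : Set G))) :=
    Fintype.ofFinite _
  rw [← card_irr_eq_card_conjClasses]
  -- defect groups of the blocks of `N`
  set Pt : Sylow p (Subgroup.normalizer ((P : Subgroup G) : Set G)) := P.subtype hPN with hPt
  haveI hPtn : (Pt : Subgroup (Subgroup.normalizer ((P : Subgroup G) : Set G))).Normal := by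
    have : (Pt : Subgroup (Subgroup.normalizer ((P : Subgroup G) : Set G))) =
        (P : Subgroup G).subgroupOf (Subgroup.normalizer ((P : Subgroup G) : Set G)) :=
      Sylow.coe_subtype P hPN
    rw [this]
    exact Subgroup.normal_in_normalizer
  refine Cfsg.Agent.Helper20.D1CNT.card_eq_of_partition
    {B : Set (IrrCharacter G) | IsPBlock M B ∧ 0 < blockDefect p B}
    {β : Set (IrrCharacter (Subgroup.normalizer ((P : Subgroup G) : Set G))) | IsPBlock M β}
    {χ : IrrCharacter G | ¬ p ∣ charDegree (χ : G → ℂ)}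
    ?_ ?_ ?_ ?_ ?_
    (fun β B => IsInducedBlock M (Subgroup.normalizer ((P : Subgroup G) : Set G)) β B)
    ?_ ?_ ?_ ?_ ?_
  · -- members of blocks of positive defect have degree prime to `p`
    rintro B ⟨hB, hd⟩ χ hχ
    exact Cfsg.Agent.Helper24.D1QH.not_dvd_charDegree hM P hP B hB
      (isDefectGroup_sylow_of_pos hM hdiv hsq P B hB hd) χ hχ
  · -- a character of degree prime to `p` lies in a block of positive defect
    intro χ hχ
    refine ⟨blockOf M (χ : G → ℂ), ⟨isPBlock_blockOf χ, ?_⟩, mem_blockOf_self hMp χ⟩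
    unfold blockDefect
    have h1 : sInf ((fun ψ : IrrCharacter G => (charDegree (ψ : G → ℂ)).factorization p) ''
        blockOf M (χ : G → ℂ)) = 0 := by
      apply Nat.eq_zero_of_le_zero
      apply Nat.sInf_le
      refine ⟨χ, mem_blockOf_self hMp χ, ?_⟩
      exact Nat.factorization_eq_zero_of_not_dvd hχ
    rw [h1, Nat.sub_zero]
    have h0 : Nat.card G ≠ 0 := Nat.card_pos.ne'
    exact (hp.out.dvd_iff_one_le_factorization h0).mp hdiv
  · rintro B ⟨hB, -⟩ B' ⟨hB', -⟩ χ hχ hχ'
    rw [IsPBlock_eq_blockOf hMp hB hχ, IsPBlock_eq_blockOf hMp hB' hχ']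
  · intro ψ
    refine ⟨blockOf M (ψ : Subgroup.normalizer ((P : Subgroup G) : Set G) → ℂ), ?_,
      mem_blockOf_self hMp ψ⟩
    exact isPBlock_blockOf ψ
  · rintro β hβ β' hβ' ψ hψ hψ'
    rw [IsPBlock_eq_blockOf hMp hβ hψ, IsPBlock_eq_blockOf hMp hβ' hψ']
  · -- every block of `N` induces a block of positive defect
    intro β hβ
    obtain ⟨B, hind⟩ := Cfsg.Agent.S0919.result p M hM (P : Subgroup G)
      (Subgroup.normalizer ((P : Subgroup G) : Set G)) hPp hPN hCN le_rfl β hβ
    refine ⟨B, ⟨hind.2.1, ?_⟩, hind⟩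
    have hBP := (card_eq_of_induced hM (hmain M hM) P hP β B hind).2
    have hcard := card_defectGroup hM hind.2.1 hBP
    by_contra h0
    have h0' : blockDefect p B = 0 := by omega
    rw [h0', pow_zero] at hcard
    have hP' : Nat.card (P : Subgroup G) = p := hP
    rw [hP'] at hcard
    exact hp.out.one_lt.ne' hcard
  · -- every block of positive defect is induced from `N`
    rintro B ⟨hB, hd⟩
    have hBP := isDefectGroup_sylow_of_pos hM hdiv hsq P B hB hd
    obtain ⟨β, hind⟩ := (Cfsg.Agent.S0958.result p M hM (P : Subgroup G)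
      (Subgroup.normalizer ((P : Subgroup G) : Set G)) hPp (sup_le hPN hCN) le_rfl B hB).mpr
      ⟨(P : Subgroup G), hBP, 1, by
        intro x hx
        obtain ⟨y, hy, rfl⟩ := hx
        have : (MulAut.conj (1 : G)).toMonoidHom y = y := by simp
        rw [this]
        exact hy⟩
    exact ⟨β, hind.1, hind⟩
  · intro β B B' h1 h2
    exact induced_unique hMp _ h1 h2
  · intro β β' B h1 h2
    have hD₁ : IsDefectGroup p M β ((P : Subgroup G).subgroupOf
        (Subgroup.normalizer ((P : Subgroup G) : Set G))) := by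
      have := isDefectGroup_of_normal_sylow hM Pt β h1.1
      exact this
    exact block_eq_of_induced_eq hM (P : Subgroup G) hPp h1.1 h2.1 hD₁ h1 h2
  · intro β _ B _ hind
    exact (card_eq_of_induced hM (hmain M hM) P hP β B hind).1

end Cfsg.Agent.Helper5.D1Q
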