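import Mathlib
import Cfsg.Agent.Helper8.D1Base
import Cfsg.Agent.Helper1.D1PA
import Cfsg.Agent.Helper5.SecondMain
import Cfsg.Agent.Helper5.BlockPart
import Cfsg.Agent.Helper5.BlockSupport
import Cfsg.Agent.Helper5.RelDefectZero

/-!
# Defect one, piece (QS): support of the numbers `Dnum` (second main theorem)
-/

set_option autoImplicit false

namespace Cfsg.Agent.Helper5.D1Q

open Cfsg Cfsg.Agent.Helper24 Cfsg.Agent.Helper5 Cfsg.Agent.Helper5.Loc Cfsg.Agent.Helper5.CC
  Cfsg.Agent.Helper8.D1

/-- inner products with members of a block only see the block part -/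
theorem classInner_blockPart {X : Type*} [Group X] [Fintype X] (b : Set (IrrCharacter X))
    (Φ : X → ℂ) (ξ : IrrCharacter X) (hξ : ξ ∈ b) :
    classInner (blockPart b Φ) (ξ : X → ℂ) = classInner Φ (ξ : X → ℂ) := by
  classical
  haveI : Fintype (IrrCharacter X) := Fintype.ofFinite _
  have hinst : Fintype.ofFinite X = ‹Fintype X› := Subsingleton.elim _ _
  have h1 : blockPart b Φ = ∑ η : IrrCharacter X,
      (if η ∈ b then classInner Φ (η : X → ℂ) else 0) • (η : X → ℂ) := by
    funext g
    simp only [blockPart]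
    rw [hinst, finsum_mem_eq_sum_ite, Finset.sum_apply]
    refine Finset.sum_congr rfl fun η _ => ?_
    rw [Pi.smul_apply, smul_eq_mul]
    split_ifs <;> simp
  rw [h1, classInner_sum_irr, if_pos hξ]

theorem Dnum_eq_zero_of_not_mem {G : Type*} [Group G] [Finite G] {p : ℕ} [Fact p.Prime]
    {M : Ideal AlgInt} (hM : IsPModular p M) (P : Sylow p G) (hP : Nat.card P = p)
    (b : Set (IrrCharacter (Subgroup.centralizer ((P : Subgroup G) : Set G))))
    (B : Set (IrrCharacter G))
    (hind : IsInducedBlock M (Subgroup.centralizer ((P : Subgroup G) : Set G)) b B)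
    (θ : IrrCharacter (Subgroup.centralizer ((P : Subgroup G) : Set G))) (hθ : θ ∈ b)
    (μ : Subgroup.centralizer ((P : Subgroup G) : Set G) → ℂ) (hμ : IsPLin p μ)
    (χ : IrrCharacter G) (hχ : χ ∉ B) :
    Dnum (Subgroup.centralizer ((P : Subgroup G) : Set G)) μ
      (θ : Subgroup.centralizer ((P : Subgroup G) : Set G) → ℂ) (χ : G → ℂ) = 0 := by
  classical
  haveI : Fintype G := Fintype.ofFinite G
  haveI : Fintype (IrrCharacter G) := Fintype.ofFinite _
  letI : Fintype (Subgroup.centralizer ((P : Subgroup G) : Set G)) := Fintype.ofFinite _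
  haveI : Fintype (IrrCharacter (Subgroup.centralizer ((P : Subgroup G) : Set G))) :=
    Fintype.ofFinite _
  have hMp := isPrime_of_isPModular hM
  have hb : IsPBlock M b := hind.1
  -- `μ θ` as an irreducible character in `b`
  set μθ : IrrCharacter (Subgroup.centralizer ((P : Subgroup G) : Set G)) :=
    ⟨fun c => μ c * (θ : Subgroup.centralizer ((P : Subgroup G) : Set G) → ℂ) c,
      hμ.isIrr_mul θ.2⟩ with hμθ
  have hsame : SameBlock M (θ : Subgroup.centralizer ((P : Subgroup G) : Set G) → ℂ)
      (μθ : Subgroup.centralizer ((P : Subgroup G) : Set G) → ℂ) := by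
    apply sameBlock_of_regular hM θ μθ
    intro g hg
    have : centralChar (θ : Subgroup.centralizer ((P : Subgroup G) : Set G) → ℂ) g =
        centralChar (μθ : Subgroup.centralizer ((P : Subgroup G) : Set G) → ℂ) g := by
      unfold centralChar
      show _ = _ * (μ g * _) / (μ 1 * _)
      rw [hμ.reg g hg, hμ.one, one_mul, one_mul]
    rw [this, sub_self]
    exact memLocalIdeal_zero hMp
  have hμθb : μθ ∈ b := by
    rw [IsPBlock_eq_blockOf hMp hb hθ]
    exact mem_blockOf_iff.mpr hsame
  -- the restriction of `χ` and its block part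
  set Φ : Subgroup.centralizer ((P : Subgroup G) : Set G) → ℂ := fun c => (χ : G → ℂ) c with hΦ
  have hΦcf : IsClassFunction (Subgroup.centralizer ((P : Subgroup G) : Set G)) Φ := by
    intro g h
    show (χ : G → ℂ) ((h * g * h⁻¹ : Subgroup.centralizer ((P : Subgroup G) : Set G)) : G) = _
    simp only [Subgroup.coe_mul, Subgroup.coe_inv]
    exact isClassFunction_irr χ (g : G) (h : G)
  set Ψ := blockPart b Φ with hΨ
  have hΨval : ∀ c : Subgroup.centralizer ((P : Subgroup G) : Set G), p ∣ orderOf c → Ψ c = 0 := by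
    intro c hc
    rw [hΨ, blockPart_eq_sum_blockCoeff b hΦcf c]
    have hcG : p ∣ orderOf (c : G) := by rwa [Subgroup.orderOf_coe]
    have h1 := second_main_idem hM (Subgroup.centralizer ((P : Subgroup G) : Set G)) b B hind c ?_
      χ hχ
    · exact h1
    · intro z hz
      have hzC : z ∈ Subgroup.centralizer ((P : Subgroup G) : Set G) := by
        have := RDZ.IsPPart.mem_zpowers hz
        exact (Subgroup.zpowers_le.mpr c.2) this
      obtain ⟨y, hzy, hcomm, ⟨k, hk⟩, hyreg⟩ := hz
      have hzk : z ^ (p ^ k) = 1 := by rw [← hk]; exact pow_orderOf_eq_one z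
      have hzP : z ∈ (P : Subgroup G) := Cfsg.Agent.Helper1.D1PA.mem_of_pow_eq_one P hzC hzk
      have hz1 : z ≠ 1 := by
        intro h1
        rw [h1, one_mul] at hzy
        rw [← hzy] at hcG
        exact hyreg hcG
      rw [Cfsg.Agent.Helper1.D1PA.centralizer_singleton_eq P hP hzP hz1]
  -- compute
  unfold Dnum
  have e1 : classInner (fun c : Subgroup.centralizer ((P : Subgroup G) : Set G) => (χ : G → ℂ) c)
      (fun c => μ c * (θ : Subgroup.centralizer ((P : Subgroup G) : Set G) → ℂ) c) =
      classInner Ψ (μθ : Subgroup.centralizer ((P : Subgroup G) : Set G) → ℂ) :=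
    (classInner_blockPart b Φ μθ hμθb).symm
  have e2 : classInner (fun c : Subgroup.centralizer ((P : Subgroup G) : Set G) => (χ : G → ℂ) c)
      (θ : Subgroup.centralizer ((P : Subgroup G) : Set G) → ℂ) =
      classInner Ψ (θ : Subgroup.centralizer ((P : Subgroup G) : Set G) → ℂ) :=
    (classInner_blockPart b Φ θ hθ).symm
  rw [e1, e2]
  unfold classInner
  rw [← mul_sub, ← Finset.sum_sub_distrib]
  rw [Finset.sum_eq_zero, mul_zero]
  intro c _
  by_cases hc : p ∣ orderOf c
  · rw [hΨval c hc, zero_mul, zero_mul, sub_zero]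
  · show Ψ c * (starRingEnd ℂ) (μ c * _) - _ = 0
    rw [hμ.reg c hc, one_mul, sub_self]

end Cfsg.Agent.Helper5.D1Q
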