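import Mathlib
import Cfsg.Prelude.Def_Blocks
import Cfsg.Agent.Helper5.Passman
import Cfsg.Agent.Helper5.BrauerMap2
import Cfsg.Agent.Helper8.Ind
import Cfsg.Agent.Helper24.Induced
import Cfsg.Agent.S0933

set_option autoImplicit false
set_option linter.unusedSectionVars false
set_option linter.unusedVariables false

/-!
# Fong–Reynolds, part A: induced functions with local-integer values, idempotents of induced sets
-/

namespace Cfsg.Agent.Helper5.FR

open Cfsg Cfsg.Agent.Helper24 Cfsg.Agent.Helper5 Cfsg.Agent.Helper5.Loc Cfsg.Agent.Helper5.CC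
open Cfsg.Agent.Helper8

variable {G : Type*} [Group G] [Fintype G] {M : Ideal AlgInt}

omit [Fintype G] in
/-- The bijection `(G/T) × T ≃ G`, `(q, t) ↦ q.out * t`. -/
noncomputable def cosetEquiv (T : Subgroup G) : (G ⧸ T) × T ≃ G where
  toFun p := p.1.out * (p.2 : G)
  invFun g := ((g : G ⧸ T), ⟨((g : G ⧸ T).out)⁻¹ * g, by
    rw [← QuotientGroup.eq]
    exact QuotientGroup.out_eq' _⟩)
  left_inv := by
    rintro ⟨q, t⟩
    have h : ((q.out * (t : G) : G) : G ⧸ T) = q := by
      rw [QuotientGroup.mk_mul_of_mem _ t.2]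
      exact QuotientGroup.out_eq' q
    apply Prod.ext
    · exact h
    · apply Subtype.ext
      show ((q.out * (t : G) : G) : G ⧸ T).out⁻¹ * (q.out * (t : G)) = (t : G)
      rw [h]
      group
  right_inv := by
    intro g
    show (g : G ⧸ T).out * ((g : G ⧸ T).out⁻¹ * g) = g
    group

/-- A sum over `G` of a function invariant under right translation by `T` is `|T|` times the sum
over coset representatives. -/
theorem sum_right_invariant (T : Subgroup G) [Fintype T] [Fintype (G ⧸ T)] (f : G → ℂ)
    (hf : ∀ (x : G) (t : T), f (x * (t : G)) = f x) :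
    ∑ x : G, f x = (Nat.card T : ℂ) * ∑ q : G ⧸ T, f q.out := by
  classical
  rw [← (cosetEquiv T).sum_comp, Fintype.sum_prod_type, Finset.mul_sum]
  refine Finset.sum_congr rfl fun q _ => ?_
  have : ∀ t : T, f ((cosetEquiv T) (q, t)) = f q.out := by
    intro t
    exact hf q.out t
  rw [Finset.sum_congr rfl (fun t _ => this t), Finset.sum_const, Finset.card_univ,
    nsmul_eq_mul, Nat.card_eq_fintype_card]

/-- A function induced from a class function with local-integer values has local-integer
values. -/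
theorem lr_indFun (hM : M.IsPrime) (T : Subgroup G) [Fintype T] {a : T → ℂ}
    (ha : IsClassFunction T a) (haM : ∀ t, MemLocalRing M (a t)) (g : G) :
    MemLocalRing M (indFun T a g) := by
  classical
  have : Fintype (G ⧸ T) := Fintype.ofFinite _
  rw [indFun_def]
  have hinv : ∀ (x : G) (t : T), extendByZero T a ((x * (t : G))⁻¹ * g * (x * (t : G))) =
      extendByZero T a (x⁻¹ * g * x) := by
    intro x t
    have e : (x * (t : G))⁻¹ * g * (x * (t : G)) = (t : G)⁻¹ * (x⁻¹ * g * x) * (t : G) := by group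
    rw [e]
    by_cases h : x⁻¹ * g * x ∈ T
    · have h' : (t : G)⁻¹ * (x⁻¹ * g * x) * (t : G) ∈ T :=
        T.mul_mem (T.mul_mem (T.inv_mem t.2) h) t.2
      rw [ebz_mem T a h, ebz_mem T a h']
      have := ha ⟨x⁻¹ * g * x, h⟩ t⁻¹
      rw [← this]
      congr 1
      apply Subtype.ext
      simp
    · have h' : (t : G)⁻¹ * (x⁻¹ * g * x) * (t : G) ∉ T := by
        intro h2
        apply h
        have := T.mul_mem (T.mul_mem t.2 h2) (T.inv_mem t.2)
        simpa [mul_assoc] using this
      rw [ebz_not_mem T a h, ebz_not_mem T a h']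
  rw [sum_right_invariant T (fun x => extendByZero T a (x⁻¹ * g * x)) hinv, ← mul_assoc,
    inv_mul_cancel₀ (by exact_mod_cast (Nat.card_pos (α := T)).ne'), one_mul]
  apply lr_sum hM
  intro q _
  by_cases h : q.out⁻¹ * g * q.out ∈ T
  · rw [ebz_mem T a h]
    exact haM _
  · rw [ebz_not_mem T a h]
    exact memLocalRing_zero hM

omit [Fintype G] in
theorem ebz_star (T : Subgroup G) (θ : T → ℂ) (g : G) :
    extendByZero T (fun t => (starRingEnd ℂ) (θ t)) g = (starRingEnd ℂ) (extendByZero T θ g) := by
  by_cases h : g ∈ T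
  · rw [ebz_mem T _ h, ebz_mem T _ h]
  · rw [ebz_not_mem T _ h, ebz_not_mem T _ h, map_zero]

/-- Induction commutes with complex conjugation. -/
theorem indFun_star (T : Subgroup G) (θ : T → ℂ) (g : G) :
    indFun T (fun t => (starRingEnd ℂ) (θ t)) g = (starRingEnd ℂ) (indFun T θ g) := by
  rw [indFun_def, indFun_def, map_mul, map_inv₀, map_natCast, map_sum]
  congr 1
  refine Finset.sum_congr rfl fun x _ => ?_
  exact ebz_star T θ _

/-- The map on irreducible characters given by induction (junk value when the induced function is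
not irreducible). -/
noncomputable def indIrr (T : Subgroup G) (ψ : IrrCharacter T) : IrrCharacter G :=
  by
    classical
    exact if h : IsIrrCharacter G (indFun T (ψ : T → ℂ)) then ⟨indFun T (ψ : T → ℂ), h⟩
      else trivIrr G

theorem indIrr_coe (T : Subgroup G) (ψ : IrrCharacter T)
    (h : IsIrrCharacter G (indFun T (ψ : T → ℂ))) :
    (indIrr T ψ : G → ℂ) = indFun T (ψ : T → ℂ) := by
  unfold indIrr
  rw [dif_pos h]

/-- The idempotent of the set of characters induced from a set `B'` of characters of `T`, all of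
which induce irreducibly and injectively, is induced from the idempotent of `B'`. -/
theorem blockCoeff_image_indIrr (T : Subgroup G) [Fintype T] (B' : Set (IrrCharacter T))
    (hirr : ∀ ψ ∈ B', IsIrrCharacter G (indFun T (ψ : T → ℂ)))
    (hinj : Set.InjOn (indIrr T) B') (g : G) :
    blockCoeff (indIrr T '' B') g = indFun T (blockCoeff B') g := by
  classical
  have : Fintype (IrrCharacter T) := Fintype.ofFinite _
  have hT : (Nat.card T : ℂ) ≠ 0 := by exact_mod_cast (Nat.card_pos (α := T)).ne'
  have hG : (Nat.card G : ℂ) ≠ 0 := by exact_mod_cast (Nat.card_pos (α := G)).ne'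
  rw [blockCoeff, finsum_mem_image hinj]
  have hfun : (blockCoeff B' : T → ℂ) = (Nat.card T : ℂ)⁻¹ • ∑ ψ : IrrCharacter T,
      (if ψ ∈ B' then (ψ : T → ℂ) 1 else 0) • (fun t => (starRingEnd ℂ) ((ψ : T → ℂ) t)) := by
    funext t
    rw [blockCoeff_eq, Pi.smul_apply, Finset.sum_apply, smul_eq_mul]
    congr 1
    refine Finset.sum_congr rfl fun ψ _ => ?_
    rw [Pi.smul_apply, smul_eq_mul]
    split_ifs <;> ring
  rw [hfun, indFun_smul, indFun_sum, Pi.smul_apply, Finset.sum_apply, smul_eq_mul,
    finsum_mem_eq_sum_ite]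
  have hcard : (Nat.card G : ℂ) = (T.index : ℂ) * (Nat.card T : ℂ) := by
    rw [← Nat.cast_mul, mul_comm, T.card_mul_index]
  rw [Finset.mul_sum, Finset.mul_sum]
  refine Finset.sum_congr rfl fun ψ _ => ?_
  by_cases hψ : ψ ∈ B'
  · rw [if_pos hψ, if_pos hψ, indFun_smul, Pi.smul_apply, smul_eq_mul, indFun_star,
      indIrr_coe T ψ (hirr ψ hψ), indFun_apply_one, hcard]
    have hidx : (T.index : ℂ) ≠ 0 := by
      exact_mod_cast (Subgroup.index_ne_zero_of_finite (H := T))
    field_simp
  · rw [if_neg hψ, if_neg hψ, zero_smul, indFun_zero, Pi.zero_apply, mul_zero, mul_zero]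

end Cfsg.Agent.Helper5.FR
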