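import Mathlib
import Cfsg.Prelude.Def_Blocks
import Cfsg.Agent.Helper5.FongReynolds
import Cfsg.Agent.Helper24.Span
import Cfsg.Agent.Helper24.Abelian
import Cfsg.Agent.Helper24.RealChar
import Cfsg.Agent.Helper8.CharComp

set_option autoImplicit false
set_option linter.unusedSectionVars false
set_option linter.unusedVariables false

/-!
# Fong–Reynolds, part B: characters of the stabilizer lying over a block of a normal subgroup
-/

namespace Cfsg.Agent.Helper5.FR

open Cfsg Cfsg.Agent.Helper24 Cfsg.Agent.Helper5 Cfsg.Agent.Helper5.Loc Cfsg.Agent.Helper5.CC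
open Cfsg.Agent.Helper8

variable {G : Type*} [Group G] [Fintype G] {M : Ideal AlgInt}
variable (N : Subgroup G) [hN : N.Normal] [Fintype N] (T : Subgroup G) [Fintype T]
variable (b : Set (IrrCharacter N))

theorem coe_inclusion (hNT : N ≤ T) (n : N) : ((Subgroup.inclusion hNT n : T) : G) = (n : G) := rfl

/-- A sum over `T` of a function supported on `N` is a sum over `N`. -/
theorem sum_T_eq_sum_N (hNT : N ≤ T) (F : T → ℂ) (hF : ∀ t : T, (t : G) ∉ N → F t = 0) :
    ∑ t : T, F t = ∑ n : N, F (Subgroup.inclusion hNT n) := by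
  symm
  apply Fintype.sum_of_injective (Subgroup.inclusion hNT) (Subgroup.inclusion_injective hNT)
  · intro t ht
    apply hF t
    intro htN
    apply ht
    exact ⟨⟨(t : G), htN⟩, Subtype.ext rfl⟩
  · intro n
    rfl

/-- The extension by zero to `T` of a function on `N`. -/
noncomputable def extT (e : N → ℂ) : T → ℂ := fun t => extendByZero N e (t : G)

theorem extT_inclusion (hNT : N ≤ T) (e : N → ℂ) (n : N) : extT N T e (Subgroup.inclusion hNT n) = e n := by
  unfold extT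
  rw [coe_inclusion N T hNT, ebz_coe]

theorem extT_of_not_mem (e : N → ℂ) (t : T) (ht : (t : G) ∉ N) : extT N T e t = 0 :=
  ebz_not_mem N e ht

theorem extT_of_mem (e : N → ℂ) (t : T) (ht : (t : G) ∈ N) : extT N T e t = e ⟨(t : G), ht⟩ :=
  ebz_mem N e ht

theorem conjIrr_injective (x : G) : Function.Injective (conjIrr N x) := by
  intro η₁ η₂ h
  have h2 := congrArg (conjIrr N x⁻¹) h
  rw [conjIrr_conjIrr, conjIrr_conjIrr, mul_inv_cancel, conjIrr_one, conjIrr_one] at h2
  exact h2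

/-- The idempotent of a conjugate set of characters. -/
theorem blockCoeff_conj_image (x : G) (n : N) :
    blockCoeff (conjIrr N x '' b) n = blockCoeff b ⟨x * n * x⁻¹, hN.conj_mem n n.2 x⟩ := by
  rw [blockCoeff, blockCoeff, finsum_mem_image ((conjIrr_injective N x).injOn)]
  congr 1
  apply finsum_mem_congr rfl
  intro η _
  have h1 : ((conjIrr N x η : IrrCharacter N) : N → ℂ) 1 = (η : N → ℂ) 1 := by
    show conjFun N (η : N → ℂ) x 1 = _
    rw [conjFun_apply]
    exact congrArg (η : N → ℂ) (Subtype.ext (by simp))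
  have h2 : ((conjIrr N x η : IrrCharacter N) : N → ℂ) n =
      (η : N → ℂ) ⟨x * n * x⁻¹, hN.conj_mem n n.2 x⟩ := rfl
  rw [h1, h2]

theorem blockCoeff_inv {H : Type*} [Group H] [Fintype H] (A : Set (IrrCharacter H)) (g : H) :
    blockCoeff A g⁻¹ = (starRingEnd ℂ) (blockCoeff A g) := by
  classical
  have : Fintype (IrrCharacter H) := Fintype.ofFinite _
  rw [blockCoeff_eq, blockCoeff_eq, map_mul, map_inv₀, map_natCast, map_sum]
  congr 1
  refine Finset.sum_congr rfl fun χ _ => ?_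
  rw [map_mul, map_mul, Complex.conj_conj, irr_inv, Complex.conj_conj, irr_one_conj]
  split_ifs <;> simp

/-- Idempotents of disjoint sets of characters are orthogonal. -/
theorem conv_blockCoeff_disjoint {H : Type*} [Group H] [Fintype H] (A A' : Set (IrrCharacter H))
    (hd : ∀ η, η ∈ A → η ∉ A') : conv (blockCoeff A) (blockCoeff A') = 0 := by
  classical
  have : Fintype (IrrCharacter H) := Fintype.ofFinite _
  have h0 : IsClassFunction H (0 : H → ℂ) := fun _ _ => rfl
  apply eq_of_act_eq (isClassFunction_conv (isClassFunction_blockCoeff A)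
    (isClassFunction_blockCoeff A')) h0
  intro χ
  rw [act_conv (isClassFunction_blockCoeff A), act_blockCoeff, act_blockCoeff, act_zero]
  by_cases h : χ ∈ A
  · rw [if_pos h, if_neg (hd χ h), mul_zero]
  · rw [if_neg h, zero_mul]


/-- `ψ` lies over `b`. -/
def Over (hNT : N ≤ T) (ψ : T → ℂ) : Prop :=
  ∃ θ ∈ b, classInner (fun n : N => ψ ⟨(n : G), hNT n.2⟩) (θ : N → ℂ) ≠ 0

theorem image_conjIrr_eq_of_stab (hstab : ∀ x ∈ T, ∀ θ ∈ b, conjIrr N x θ ∈ b) (x : G)
    (hx : x ∈ T) : conjIrr N x '' b = b := by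
  apply Set.Subset.antisymm
  · rintro η ⟨θ, hθ, rfl⟩
    exact hstab x hx θ hθ
  · intro θ hθ
    refine ⟨conjIrr N x⁻¹ θ, hstab x⁻¹ (T.inv_mem hx) θ hθ, ?_⟩
    rw [conjIrr_conjIrr, inv_mul_cancel, conjIrr_one]

theorem isClassFunction_eT (hstab : ∀ x ∈ T, ∀ θ ∈ b, conjIrr N x θ ∈ b) :
    IsClassFunction T (extT N T (blockCoeff b)) := by
  intro t s
  have hiff : ((s * t * s⁻¹ : T) : G) ∈ N ↔ (t : G) ∈ N := by
    simp only [Subgroup.coe_mul, Subgroup.coe_inv]
    constructor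
    · intro hx
      have := hN.conj_mem _ hx (s : G)⁻¹
      simpa [mul_assoc] using this
    · intro hg
      exact hN.conj_mem _ hg s
  by_cases ht : (t : G) ∈ N
  · rw [extT_of_mem N T _ _ ht, extT_of_mem N T _ _ (hiff.mpr ht)]
    have := blockCoeff_conj_image N b (s : G) ⟨(t : G), ht⟩
    rw [image_conjIrr_eq_of_stab N T b hstab s s.2] at this
    rw [this]
    congr 1
  · rw [extT_of_not_mem N T _ _ ht, extT_of_not_mem N T _ _ (fun h => ht (hiff.mp h))]

theorem conv_eT_self (hNT : N ≤ T) : conv (extT N T (blockCoeff b)) (extT N T (blockCoeff b)) = extT N T (blockCoeff b) := by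
  classical
  have : Fintype (IrrCharacter N) := Fintype.ofFinite _
  funext u
  show ∑ t : T, extT N T (blockCoeff b) t * extT N T (blockCoeff b) (t⁻¹ * u) = _
  rw [sum_T_eq_sum_N N T hNT (fun t => extT N T (blockCoeff b) t * extT N T (blockCoeff b) (t⁻¹ * u))
    (fun t ht => by rw [extT_of_not_mem N T _ _ ht, zero_mul])]
  by_cases hu : (u : G) ∈ N
  · rw [extT_of_mem N T _ _ hu]
    calc ∑ n : N, extT N T (blockCoeff b) (Subgroup.inclusion hNT n) *
          extT N T (blockCoeff b) ((Subgroup.inclusion hNT n)⁻¹ * u)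
        = ∑ n : N, blockCoeff b n * blockCoeff b (n⁻¹ * ⟨(u : G), hu⟩) := by
          refine Finset.sum_congr rfl fun n _ => ?_
          rw [extT_inclusion N T hNT]
          congr 1
          have hmem : (((Subgroup.inclusion hNT n)⁻¹ * u : T) : G) ∈ N := by
            simp only [Subgroup.coe_mul, Subgroup.coe_inv, coe_inclusion]
            exact N.mul_mem (N.inv_mem n.2) hu
          rw [extT_of_mem N T _ _ hmem]
          congr 1
      _ = conv (blockCoeff b) (blockCoeff b) ⟨(u : G), hu⟩ := rfl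
      _ = blockCoeff b ⟨(u : G), hu⟩ := by rw [conv_blockCoeff_self]
  · rw [extT_of_not_mem N T _ _ hu]
    apply Finset.sum_eq_zero
    intro n _
    have hmem : (((Subgroup.inclusion hNT n)⁻¹ * u : T) : G) ∉ N := by
      simp only [Subgroup.coe_mul, Subgroup.coe_inv, coe_inclusion]
      intro h
      apply hu
      have := N.mul_mem n.2 h
      simpa using this
    rw [extT_of_not_mem N T _ _ hmem, mul_zero]

/-- The scalar by which the idempotent of `b` acts on a character of `T`. -/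
theorem act_eT (hNT : N ≤ T) (ψ : IrrCharacter T) :
    act (extT N T (blockCoeff b)) ψ * (ψ : T → ℂ) 1 = ∑ᶠ θ ∈ b, (θ : N → ℂ) 1 *
      classInner (fun n : N => (ψ : T → ℂ) ⟨(n : G), hNT n.2⟩) (θ : N → ℂ) := by
  classical
  have : Fintype (IrrCharacter N) := Fintype.ofFinite _
  rw [act, div_mul_cancel₀ _ (irr_one_ne_zero ψ),
    sum_T_eq_sum_N N T hNT (fun t => extT N T (blockCoeff b) t * (ψ : T → ℂ) t)
      (fun t ht => by rw [extT_of_not_mem N T _ _ ht, zero_mul]), finsum_mem_eq_sum_ite]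
  have h1 : ∀ n : N, extT N T (blockCoeff b) (Subgroup.inclusion hNT n) *
      (ψ : T → ℂ) (Subgroup.inclusion hNT n) =
      ∑ θ : IrrCharacter N, (Nat.card N : ℂ)⁻¹ * ((if θ ∈ b then (1 : ℂ) else 0) *
        ((θ : N → ℂ) 1 * (starRingEnd ℂ) ((θ : N → ℂ) n))) * (ψ : T → ℂ) ⟨(n : G), hNT n.2⟩ := by
    intro n
    rw [extT_inclusion N T hNT, blockCoeff_eq, Finset.mul_sum, Finset.sum_mul]
    rfl
  rw [Finset.sum_congr rfl (fun n _ => h1 n), Finset.sum_comm]
  refine Finset.sum_congr rfl fun θ _ => ?_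
  by_cases hθ : θ ∈ b
  · rw [if_pos hθ]
    simp_rw [if_pos hθ]
    rw [classInner, Finset.mul_sum, Finset.mul_sum]
    refine Finset.sum_congr rfl fun n _ => ?_
    ring
  · rw [if_neg hθ]
    simp_rw [if_neg hθ]
    simp


theorem isCharacter_resN (hNT : N ≤ T) (ψ : IrrCharacter T) :
    IsCharacter N (fun n : N => (ψ : T → ℂ) ⟨(n : G), hNT n.2⟩) :=
  isCharacter_comp (Subgroup.inclusion hNT) (IsIrrCharacter.isCharacter ψ.2)

/-- The multiplicities of the restriction to `N`. -/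
theorem exists_mult (hNT : N ≤ T) (ψ : IrrCharacter T) :
    ∃ m : IrrCharacter N → ℕ, ∀ θ : IrrCharacter N,
      classInner (fun n : N => (ψ : T → ℂ) ⟨(n : G), hNT n.2⟩) (θ : N → ℂ) = (m θ : ℂ) := by
  have : Fintype (IrrCharacter N) := Fintype.ofFinite _
  have h := fun θ : IrrCharacter N => IsCharacter.classInner_nat (isCharacter_resN N T hNT ψ)
    (IsIrrCharacter.isCharacter θ.2)
  choose m hm using h
  exact ⟨m, hm⟩

/-- A character of `T` lying over `b` is fixed by the idempotent of `b`. -/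
theorem act_eT_of_over (hNT : N ≤ T) (hstab : ∀ x ∈ T, ∀ θ ∈ b, conjIrr N x θ ∈ b)
    (ψ : IrrCharacter T) (hψ : Over N T b hNT (ψ : T → ℂ)) :
    act (extT N T (blockCoeff b)) ψ = 1 := by
  classical
  have : Fintype (IrrCharacter N) := Fintype.ofFinite _
  have hcf := isClassFunction_eT N T b hstab
  have hidem : act (extT N T (blockCoeff b)) ψ * act (extT N T (blockCoeff b)) ψ =
      act (extT N T (blockCoeff b)) ψ := by
    rw [← act_conv hcf, conv_eT_self N T b hNT]
  have hne : act (extT N T (blockCoeff b)) ψ ≠ 0 := by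
    intro h0
    have h1 := act_eT N T b hNT ψ
    rw [h0, zero_mul, finsum_mem_eq_sum_ite] at h1
    obtain ⟨m, hm⟩ := exists_mult N T hNT ψ
    obtain ⟨θ₀, hθ₀b, hθ₀⟩ := hψ
    simp_rw [hm, irrDeg_spec] at h1
    have h2 : (0 : ℂ) = ((∑ θ : IrrCharacter N, if θ ∈ b then irrDeg θ * m θ else 0 : ℕ) : ℂ) := by
      rw [h1]
      push_cast
      refine Finset.sum_congr rfl fun θ _ => ?_
      split_ifs <;> simp
    have h3 : (∑ θ : IrrCharacter N, if θ ∈ b then irrDeg θ * m θ else 0 : ℕ) = 0 := by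
      exact_mod_cast h2.symm
    rw [Finset.sum_eq_zero_iff] at h3
    have h4 := h3 θ₀ (Finset.mem_univ _)
    rw [if_pos hθ₀b] at h4
    rcases Nat.mul_eq_zero.mp h4 with h5 | h5
    · exact (irrDeg_pos θ₀).ne' h5
    · apply hθ₀
      rw [hm, h5, Nat.cast_zero]
  have : act (extT N T (blockCoeff b)) ψ * (act (extT N T (blockCoeff b)) ψ - 1) = 0 := by
    rw [mul_sub, hidem, mul_one, sub_self]
  rcases mul_eq_zero.mp this with h | h
  · exact absurd h hne
  · exact sub_eq_zero.mp h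

/-- A character of `T` not annihilated by the idempotent of `b` lies over `b`. -/
theorem over_of_act_eT_ne_zero (hNT : N ≤ T) (ψ : IrrCharacter T)
    (hψ : act (extT N T (blockCoeff b)) ψ ≠ 0) : Over N T b hNT (ψ : T → ℂ) := by
  classical
  by_contra hcon
  apply hψ
  have h1 := act_eT N T b hNT ψ
  have h2 : ∑ᶠ θ ∈ b, (θ : N → ℂ) 1 *
      classInner (fun n : N => (ψ : T → ℂ) ⟨(n : G), hNT n.2⟩) (θ : N → ℂ) = 0 := by
    apply finsum_mem_eq_zero_of_forall_eq_zero
    intro θ hθ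
    have : classInner (fun n : N => (ψ : T → ℂ) ⟨(n : G), hNT n.2⟩) (θ : N → ℂ) = 0 := by
      by_contra h
      exact hcon ⟨θ, hθ, h⟩
    rw [this, mul_zero]
  rw [h2] at h1
  rcases mul_eq_zero.mp h1 with h | h
  · exact h
  · exact absurd h (irr_one_ne_zero ψ)

/-- **Absorption**: a character of `T` over `b` absorbs the idempotent of `b`. -/
theorem absorb (hNT : N ≤ T) (hstab : ∀ x ∈ T, ∀ θ ∈ b, conjIrr N x θ ∈ b)
    (ψ : IrrCharacter T) (hψ : Over N T b hNT (ψ : T → ℂ)) (s : T) :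
    ∑ n : N, blockCoeff b n * (ψ : T → ℂ) (Subgroup.inclusion hNT n * s) = (ψ : T → ℂ) s := by
  have hcf := isClassFunction_eT N T b hstab
  have h1 := irr_sum_mul_char_mul ψ (extT N T (blockCoeff b)) hcf s
  have h2 := act_eT_of_over N T b hNT hstab ψ hψ
  rw [act, div_eq_iff (irr_one_ne_zero ψ), one_mul] at h2
  rw [h2, mul_comm] at h1
  have h3 := mul_right_cancel₀ (irr_one_ne_zero ψ) h1
  rw [← h3, sum_T_eq_sum_N N T hNT
    (fun t => extT N T (blockCoeff b) t * (ψ : T → ℂ) (t * s))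
    (fun t ht => by rw [extT_of_not_mem N T _ _ ht, zero_mul])]
  refine Finset.sum_congr rfl fun n _ => ?_
  rw [extT_inclusion N T hNT]


theorem mul_mem_iff_of_le (hNT : N ≤ T) (n : N) (s : G) : (n : G) * s ∈ T ↔ s ∈ T := by
  constructor
  · intro h
    have := T.mul_mem (T.inv_mem (hNT n.2)) h
    simpa using this
  · intro h
    exact T.mul_mem (hNT n.2) h

/-- Absorption, for the extension by zero. -/
theorem absorb' (hNT : N ≤ T) (hstab : ∀ x ∈ T, ∀ θ ∈ b, conjIrr N x θ ∈ b)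
    (ψ : IrrCharacter T) (hψ : Over N T b hNT (ψ : T → ℂ)) (s : G) :
    ∑ n : N, blockCoeff b n * extendByZero T (ψ : T → ℂ) ((n : G) * s) =
      extendByZero T (ψ : T → ℂ) s := by
  by_cases hs : s ∈ T
  · rw [ebz_mem T _ hs, ← absorb N T b hNT hstab ψ hψ ⟨s, hs⟩]
    refine Finset.sum_congr rfl fun n _ => ?_
    rw [ebz_mem T _ ((mul_mem_iff_of_le N T hNT n s).mpr hs)]
    rfl
  · rw [ebz_not_mem T _ hs]
    apply Finset.sum_eq_zero
    intro n _
    rw [ebz_not_mem T _ (fun h => hs ((mul_mem_iff_of_le N T hNT n s).mp h)), mul_zero]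

/-- A character of `T` over `b` is annihilated by the idempotent of a set disjoint from `b`. -/
theorem annihilate (hNT : N ≤ T) (hstab : ∀ x ∈ T, ∀ θ ∈ b, conjIrr N x θ ∈ b)
    (ψ : IrrCharacter T) (hψ : Over N T b hNT (ψ : T → ℂ)) (b' : Set (IrrCharacter N))
    (hd : ∀ η, η ∈ b' → η ∉ b) (s : G) :
    ∑ m : N, blockCoeff b' m * extendByZero T (ψ : T → ℂ) ((m : G) * s) = 0 := by
  classical
  have : Fintype (IrrCharacter N) := Fintype.ofFinite _
  have h1 : ∀ m : N, blockCoeff b' m * extendByZero T (ψ : T → ℂ) ((m : G) * s) =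
      ∑ u : N, blockCoeff b' m * blockCoeff b (u * m⁻¹) *
        extendByZero T (ψ : T → ℂ) ((u : G) * s) := by
    intro m
    rw [← absorb' N T b hNT hstab ψ hψ ((m : G) * s), Finset.mul_sum,
      ← Equiv.sum_comp (Equiv.mulRight m⁻¹)]
    refine Finset.sum_congr rfl fun u _ => ?_
    simp only [Equiv.coe_mulRight, Subgroup.coe_mul, Subgroup.coe_inv]
    rw [show (u : G) * (m : G)⁻¹ * ((m : G) * s) = (u : G) * s by group, mul_assoc]
  rw [Finset.sum_congr rfl (fun m _ => h1 m), Finset.sum_comm]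
  apply Finset.sum_eq_zero
  intro u _
  rw [← Finset.sum_mul]
  have h2 : ∑ m : N, blockCoeff b' m * blockCoeff b (u * m⁻¹) =
      conv (blockCoeff b') (blockCoeff b) u := by
    show _ = ∑ m : N, blockCoeff b' m * blockCoeff b (m⁻¹ * u)
    refine Finset.sum_congr rfl fun m _ => ?_
    congr 1
    have := isClassFunction_blockCoeff b (u * m⁻¹) m⁻¹
    rw [← this]
    congr 1
    group
  rw [h2, conv_blockCoeff_disjoint b' b hd]
  simp


/-- Twisted sums against the idempotent of `b` vanish for conjugating elements outside `T`. -/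
theorem twisted_zero (hNT : N ≤ T) (hstab : ∀ x ∈ T, ∀ θ ∈ b, conjIrr N x θ ∈ b)
    (hdisj : ∀ x, x ∉ T → ∀ θ ∈ b, conjIrr N x θ ∉ b)
    (ψ : IrrCharacter T) (hψ : Over N T b hNT (ψ : T → ℂ)) (x : G) (hx : x ∉ T) (g : G) :
    ∑ n : N, blockCoeff b n *
      (starRingEnd ℂ) (extendByZero T (ψ : T → ℂ) (x⁻¹ * ((n : G)⁻¹ * g) * x)) = 0 := by
  classical
  set φ : N ≃ N := (Equiv.inv N).trans (MulAut.conjNormal x : N ≃* N).toEquiv with hφ
  have hφc : ∀ m : N, ((φ m : N) : G) = x * (m : G)⁻¹ * x⁻¹ := by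
    intro m
    simp [hφ, mul_assoc]
  rw [← Equiv.sum_comp φ]
  have hd : ∀ η, η ∈ conjIrr N x '' b → η ∉ b := by
    rintro η ⟨θ, hθ, rfl⟩
    exact hdisj x hx θ hθ
  have h0 := annihilate N T b hNT hstab ψ hψ (conjIrr N x '' b) hd (x⁻¹ * g * x)
  have h1 := congrArg (starRingEnd ℂ) h0
  rw [map_zero, map_sum] at h1
  rw [← h1]
  refine Finset.sum_congr rfl fun m _ => ?_
  rw [map_mul, blockCoeff_conj_image, ← blockCoeff_inv]
  congr 2
  · apply Subtype.ext
    rw [hφc]
    simp [mul_assoc]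
  · rw [hφc]
    group

/-- The cross terms of the Mackey formula vanish. -/
theorem cross_zero (hNT : N ≤ T) (hstab : ∀ x ∈ T, ∀ θ ∈ b, conjIrr N x θ ∈ b)
    (hdisj : ∀ x, x ∉ T → ∀ θ ∈ b, conjIrr N x θ ∉ b)
    (ψ ψ' : IrrCharacter T) (hψ : Over N T b hNT (ψ : T → ℂ)) (hψ' : Over N T b hNT (ψ' : T → ℂ))
    (x : G) (hx : x ∉ T) :
    ∑ t : T, (ψ' : T → ℂ) t *
      (starRingEnd ℂ) (extendByZero T (ψ : T → ℂ) (x⁻¹ * (t : G) * x)) = 0 := by
  classical
  have h1 : ∀ t : T, (ψ' : T → ℂ) t *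
      (starRingEnd ℂ) (extendByZero T (ψ : T → ℂ) (x⁻¹ * (t : G) * x)) =
      ∑ n : N, blockCoeff b n * (ψ' : T → ℂ) (Subgroup.inclusion hNT n * t) *
        (starRingEnd ℂ) (extendByZero T (ψ : T → ℂ) (x⁻¹ * (t : G) * x)) := by
    intro t
    rw [← Finset.sum_mul, absorb N T b hNT hstab ψ' hψ' t]
  rw [Finset.sum_congr rfl (fun t _ => h1 t), Finset.sum_comm]
  have h2 : ∀ n : N, ∑ t : T, blockCoeff b n * (ψ' : T → ℂ) (Subgroup.inclusion hNT n * t) *
        (starRingEnd ℂ) (extendByZero T (ψ : T → ℂ) (x⁻¹ * (t : G) * x)) =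
      ∑ t : T, (ψ' : T → ℂ) t * (blockCoeff b n *
        (starRingEnd ℂ) (extendByZero T (ψ : T → ℂ) (x⁻¹ * ((n : G)⁻¹ * (t : G)) * x))) := by
    intro n
    rw [← Equiv.sum_comp (Equiv.mulLeft (Subgroup.inclusion hNT n)⁻¹)]
    refine Finset.sum_congr rfl fun t _ => ?_
    simp only [Equiv.coe_mulLeft, mul_inv_cancel_left, Subgroup.coe_mul, Subgroup.coe_inv,
      coe_inclusion]
    ring
  rw [Finset.sum_congr rfl (fun n _ => h2 n), Finset.sum_comm]
  apply Finset.sum_eq_zero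
  intro t _
  rw [← Finset.mul_sum, twisted_zero N T b hNT hstab hdisj ψ hψ x hx (t : G), mul_zero]


/-- **Inner products of characters induced from the stabilizer.** -/
theorem classInner_indFun_indFun (hNT : N ≤ T) (hstab : ∀ x ∈ T, ∀ θ ∈ b, conjIrr N x θ ∈ b)
    (hdisj : ∀ x, x ∉ T → ∀ θ ∈ b, conjIrr N x θ ∉ b)
    (ψ ψ' : IrrCharacter T) (hψ : Over N T b hNT (ψ : T → ℂ)) (hψ' : Over N T b hNT (ψ' : T → ℂ)) :
    classInner (indFun T (ψ' : T → ℂ)) (indFun T (ψ : T → ℂ)) =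
      classInner (ψ' : T → ℂ) (ψ : T → ℂ) := by
  classical
  have hT : (Nat.card T : ℂ) ≠ 0 := by exact_mod_cast (Nat.card_pos (α := T)).ne'
  rw [frobenius_reciprocity T _ _ (indFun_isClassFunction T _), classInner, classInner]
  congr 1
  have h1 : ∀ t : T, (ψ' : T → ℂ) t * (starRingEnd ℂ) (indFun T (ψ : T → ℂ) (t : G)) =
      (Nat.card T : ℂ)⁻¹ * ∑ x : G, (ψ' : T → ℂ) t *
        (starRingEnd ℂ) (extendByZero T (ψ : T → ℂ) (x⁻¹ * (t : G) * x)) := by
    intro t
    rw [indFun_def, map_mul, map_inv₀, map_natCast, map_sum, Finset.mul_sum, Finset.mul_sum,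
      Finset.mul_sum]
    refine Finset.sum_congr rfl fun x _ => ?_
    ring
  rw [Finset.sum_congr rfl (fun t _ => h1 t), ← Finset.mul_sum, Finset.sum_comm]
  have h2 : ∀ x : G, ∑ t : T, (ψ' : T → ℂ) t *
      (starRingEnd ℂ) (extendByZero T (ψ : T → ℂ) (x⁻¹ * (t : G) * x)) =
      if x ∈ T then ∑ t : T, (ψ' : T → ℂ) t * (starRingEnd ℂ) ((ψ : T → ℂ) t) else 0 := by
    intro x
    by_cases hx : x ∈ T
    · rw [if_pos hx]
      refine Finset.sum_congr rfl fun t _ => ?_
      have hmem : x⁻¹ * (t : G) * x ∈ T := T.mul_mem (T.mul_mem (T.inv_mem hx) t.2) hx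
      rw [ebz_mem T _ hmem]
      have := isClassFunction_irr ψ t (⟨x, hx⟩ : T)⁻¹
      have e : (⟨x⁻¹ * (t : G) * x, hmem⟩ : T) =
          (⟨x, hx⟩ : T)⁻¹ * t * ((⟨x, hx⟩ : T)⁻¹)⁻¹ := Subtype.ext (by simp)
      rw [e, this]
    · rw [if_neg hx]
      exact cross_zero N T b hNT hstab hdisj ψ ψ' hψ hψ' x hx
  rw [Finset.sum_congr rfl (fun x _ => h2 x),
    ← Cfsg.Agent.Helper5.RS.sum_subgroup_eq_sum' T (fun x => if x ∈ T then
      ∑ t : T, (ψ' : T → ℂ) t * (starRingEnd ℂ) ((ψ : T → ℂ) t) else 0)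
      (fun x hx => by rw [if_neg hx])]
  simp only [SetLike.coe_mem, if_true]
  rw [Finset.sum_const, Finset.card_univ, nsmul_eq_mul, ← Nat.card_eq_fintype_card, ← mul_assoc,
    inv_mul_cancel₀ hT, one_mul]

end Cfsg.Agent.Helper5.FR
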