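import Mathlib
import Cfsg.Prelude.Def_Blocks
import Cfsg.Agent.Helper5.FongReynolds2
import Cfsg.Agent.Helper23.InducedCalc

set_option autoImplicit false
set_option linter.unusedSectionVars false
set_option linter.unusedVariables false

/-!
# Fong–Reynolds, part C: the correspondence
-/

namespace Cfsg.Agent.Helper5.FR

open Cfsg Cfsg.Agent.Helper24 Cfsg.Agent.Helper5 Cfsg.Agent.Helper5.Loc Cfsg.Agent.Helper5.CC
open Cfsg.Agent.Helper8

variable {G : Type*} [Group G] [Fintype G] {M : Ideal AlgInt}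
variable (N : Subgroup G) [hN : N.Normal] [Fintype N] (T : Subgroup G) [Fintype T]
variable (b : Set (IrrCharacter N))

/-- Characters of `T` over `b` induce irreducibly. -/
theorem isIrrCharacter_indFun (hNT : N ≤ T) (hstab : ∀ x ∈ T, ∀ θ ∈ b, conjIrr N x θ ∈ b)
    (hdisj : ∀ x, x ∉ T → ∀ θ ∈ b, conjIrr N x θ ∉ b)
    (ψ : IrrCharacter T) (hψ : Over N T b hNT (ψ : T → ℂ)) :
    IsIrrCharacter G (indFun T (ψ : T → ℂ)) := by
  have : Fintype (IrrCharacter G) := Fintype.ofFinite _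
  rw [isIrrCharacter_iff_classInner_self]
  refine ⟨isCharacter_indFun T (IsIrrCharacter.isCharacter ψ.2), ?_⟩
  rw [classInner_indFun_indFun N T b hNT hstab hdisj ψ ψ hψ hψ, classInner_irr_self]

/-- Induction is injective on the characters of `T` over `b`. -/
theorem indFun_inj (hNT : N ≤ T) (hstab : ∀ x ∈ T, ∀ θ ∈ b, conjIrr N x θ ∈ b)
    (hdisj : ∀ x, x ∉ T → ∀ θ ∈ b, conjIrr N x θ ∉ b)
    (ψ ψ' : IrrCharacter T) (hψ : Over N T b hNT (ψ : T → ℂ)) (hψ' : Over N T b hNT (ψ' : T → ℂ))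
    (h : indFun T (ψ : T → ℂ) = indFun T (ψ' : T → ℂ)) : ψ = ψ' := by
  by_contra hne
  have h1 := classInner_indFun_indFun N T b hNT hstab hdisj ψ ψ' hψ hψ'
  have h2 := classInner_indFun_indFun N T b hNT hstab hdisj ψ ψ hψ hψ
  rw [← h, h2, classInner_irr_self, classInner_irr_ne (Ne.symm hne)] at h1
  exact one_ne_zero h1

theorem indIrr_inj (hNT : N ≤ T) (hstab : ∀ x ∈ T, ∀ θ ∈ b, conjIrr N x θ ∈ b)
    (hdisj : ∀ x, x ∉ T → ∀ θ ∈ b, conjIrr N x θ ∉ b)
    (ψ ψ' : IrrCharacter T) (hψ : Over N T b hNT (ψ : T → ℂ)) (hψ' : Over N T b hNT (ψ' : T → ℂ))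
    (h : indIrr T ψ = indIrr T ψ') : ψ = ψ' := by
  apply indFun_inj N T b hNT hstab hdisj ψ ψ' hψ hψ'
  rw [← indIrr_coe T ψ (isIrrCharacter_indFun N T b hNT hstab hdisj ψ hψ),
    ← indIrr_coe T ψ' (isIrrCharacter_indFun N T b hNT hstab hdisj ψ' hψ'), h]

theorem isClassFunction_restrict (χ : IrrCharacter G) :
    IsClassFunction T (fun t : T => (χ : G → ℂ) t) := by
  intro g x
  simp only [Subgroup.coe_mul, Subgroup.coe_inv]
  exact isClassFunction_irr χ (g : G) (x : G)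

/-- Multiplicities in the restriction to `N` via the restriction to `T`. -/
theorem classInner_restrict_eq_sum (hNT : N ≤ T) (χ : IrrCharacter G) (θ : IrrCharacter N)
    [Fintype (IrrCharacter T)] :
    classInner (fun n : N => (χ : G → ℂ) n) (θ : N → ℂ) =
      ∑ ψ : IrrCharacter T, classInner (fun t : T => (χ : G → ℂ) t) (ψ : T → ℂ) *
        classInner (fun n : N => (ψ : T → ℂ) ⟨(n : G), hNT n.2⟩) (θ : N → ℂ) := by
  have h1 := IsClassFunction.eq_sum_classInner (isClassFunction_restrict T χ)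
  have h2 : (fun n : N => (χ : G → ℂ) n) = ∑ ψ : IrrCharacter T,
      classInner (fun t : T => (χ : G → ℂ) t) (ψ : T → ℂ) •
        (fun n : N => (ψ : T → ℂ) ⟨(n : G), hNT n.2⟩) := by
    funext n
    have := congrFun h1 ⟨(n : G), hNT n.2⟩
    rw [Finset.sum_apply] at this ⊢
    exact this
  rw [h2, classInner_sum_left]
  refine Finset.sum_congr rfl fun ψ _ => ?_
  rw [classInner_smul_left]

/-- Every character of `G` over `θ ∈ b` is induced from a character of `T` over `θ`. -/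
theorem exists_indFun_eq (hNT : N ≤ T) (hstab : ∀ x ∈ T, ∀ θ ∈ b, conjIrr N x θ ∈ b)
    (hdisj : ∀ x, x ∉ T → ∀ θ ∈ b, conjIrr N x θ ∉ b)
    (χ : IrrCharacter G) (θ : IrrCharacter N) (hθ : θ ∈ b)
    (hχθ : classInner (fun n : N => (χ : G → ℂ) n) (θ : N → ℂ) ≠ 0) :
    ∃ ψ : IrrCharacter T,
      classInner (fun n : N => (ψ : T → ℂ) ⟨(n : G), hNT n.2⟩) (θ : N → ℂ) ≠ 0 ∧
      indFun T (ψ : T → ℂ) = (χ : G → ℂ) := by
  classical
  have : Fintype (IrrCharacter T) := Fintype.ofFinite _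
  rw [classInner_restrict_eq_sum N T hNT χ θ] at hχθ
  obtain ⟨ψ, -, hψ⟩ := Finset.exists_ne_zero_of_sum_ne_zero hχθ
  have hψ1 : classInner (fun t : T => (χ : G → ℂ) t) (ψ : T → ℂ) ≠ 0 := left_ne_zero_of_mul hψ
  have hψ2 := right_ne_zero_of_mul hψ
  refine ⟨ψ, hψ2, ?_⟩
  have hover : Over N T b hNT (ψ : T → ℂ) := ⟨θ, hθ, hψ2⟩
  have hirr := isIrrCharacter_indFun N T b hNT hstab hdisj ψ hover
  by_contra hne
  have hne' : (⟨indFun T (ψ : T → ℂ), hirr⟩ : IrrCharacter G) ≠ χ := by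
    intro h
    apply hne
    exact congrArg Subtype.val h
  have h0 := classInner_irr_ne hne'
  rw [show ((⟨indFun T (ψ : T → ℂ), hirr⟩ : IrrCharacter G) : G → ℂ) = indFun T (ψ : T → ℂ) from rfl,
    frobenius_reciprocity T _ _ (isClassFunction_irr χ)] at h0
  apply hψ1
  rw [← Helper24.classInner_conj_symm, h0, map_zero]


/-- The induced character lies over the same character of `N`. -/
theorem classInner_indFun_restrict_ne_zero (hNT : N ≤ T)
    (hstab : ∀ x ∈ T, ∀ θ ∈ b, conjIrr N x θ ∈ b)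
    (hdisj : ∀ x, x ∉ T → ∀ θ ∈ b, conjIrr N x θ ∉ b)
    (ψ : IrrCharacter T) (θ : IrrCharacter N) (hθ : θ ∈ b)
    (hψθ : classInner (fun n : N => (ψ : T → ℂ) ⟨(n : G), hNT n.2⟩) (θ : N → ℂ) ≠ 0) :
    classInner (fun n : N => indFun T (ψ : T → ℂ) n) (θ : N → ℂ) ≠ 0 := by
  classical
  have : Fintype (IrrCharacter T) := Fintype.ofFinite _
  have hover : Over N T b hNT (ψ : T → ℂ) := ⟨θ, hθ, hψθ⟩
  have hirr := isIrrCharacter_indFun N T b hNT hstab hdisj ψ hover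
  set χ : IrrCharacter G := ⟨indFun T (ψ : T → ℂ), hirr⟩ with hχ
  have hχc : (χ : G → ℂ) = indFun T (ψ : T → ℂ) := rfl
  rw [← hχc, classInner_restrict_eq_sum N T hNT χ θ]
  have ha : ∀ ψ' : IrrCharacter T, ∃ a : ℕ,
      classInner (fun t : T => (χ : G → ℂ) t) (ψ' : T → ℂ) = a := fun ψ' =>
    IsCharacter.classInner_nat (isCharacter_restrict T (IsIrrCharacter.isCharacter χ.2))
      (IsIrrCharacter.isCharacter ψ'.2)
  choose a ha using ha
  have hm' : ∀ ψ' : IrrCharacter T, ∃ k : ℕ,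
      classInner (fun n : N => (ψ' : T → ℂ) ⟨(n : G), hNT n.2⟩) (θ : N → ℂ) = k := by
    intro ψ'
    obtain ⟨m, hm⟩ := exists_mult N T hNT ψ'
    exact ⟨m θ, hm θ⟩
  choose k hk using hm'
  simp_rw [ha, hk]
  have h1 : a ψ = 1 := by
    have h2 : classInner (fun t : T => (χ : G → ℂ) t) (ψ : T → ℂ) = 1 := by
      rw [← Helper24.classInner_conj_symm, ← frobenius_reciprocity T _ _ (isClassFunction_irr χ),
        hχc, classInner_indFun_indFun N T b hNT hstab hdisj ψ ψ hover hover, classInner_irr_self,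
        map_one]
    rw [ha] at h2
    exact_mod_cast h2
  have h2 : k ψ ≠ 0 := by
    intro h0
    apply hψθ
    rw [hk, h0, Nat.cast_zero]
  have h3 : (∑ ψ' : IrrCharacter T, a ψ' * k ψ' : ℕ) ≠ 0 := by
    intro h0
    rw [Finset.sum_eq_zero_iff] at h0
    have := h0 ψ (Finset.mem_univ _)
    rw [h1, one_mul] at this
    exact h2 this
  have h4 : (∑ ψ' : IrrCharacter T, (a ψ' : ℂ) * (k ψ' : ℂ)) =
      ((∑ ψ' : IrrCharacter T, a ψ' * k ψ' : ℕ) : ℂ) := by
    push_cast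
    rfl
  rw [h4]
  exact_mod_cast h3

/-- Members of a block of `T` lie over `b` together. -/
theorem over_of_sameBlock (hM : M.IsPrime) (hb : IsPBlock M b) (hNT : N ≤ T)
    (hstab : ∀ x ∈ T, ∀ θ ∈ b, conjIrr N x θ ∈ b)
    (ψ ψ' : IrrCharacter T) (h : SameBlock M (ψ : T → ℂ) (ψ' : T → ℂ))
    (hψ : Over N T b hNT (ψ : T → ℂ)) : Over N T b hNT (ψ' : T → ℂ) := by
  classical
  have : Fintype (IrrCharacter N) := Fintype.ofFinite _
  have hcf := isClassFunction_eT N T b hstab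
  have hR : ∀ t : T, MemLocalRing M (extT N T (blockCoeff b) t) := by
    intro t
    by_cases ht : (t : G) ∈ N
    · rw [extT_of_mem N T _ _ ht]
      exact osima hM b hb _
    · rw [extT_of_not_mem N T _ _ ht]
      exact memLocalRing_zero hM
  have h1 := act_sub_act_memLocalIdeal hM hcf hR h
  rw [act_eT_of_over N T b hNT hstab ψ hψ] at h1
  apply over_of_act_eT_ne_zero N T b hNT ψ'
  intro h0
  rw [h0, sub_zero] at h1
  exact not_memLocalIdeal_one hM h1

/-- **Fong–Reynolds**: a block of `T` covering `b` induces, member by member, onto a block of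
`G`. -/
theorem image_block {p : ℕ} [Fact p.Prime] (hM : IsPModular p M) (hb : IsPBlock M b)
    (hNT : N ≤ T) (hstab : ∀ x ∈ T, ∀ θ ∈ b, conjIrr N x θ ∈ b)
    (hdisj : ∀ x, x ∉ T → ∀ θ ∈ b, conjIrr N x θ ∉ b)
    (B' : Set (IrrCharacter T)) (hB' : IsPBlock M B') (ψ₀ : IrrCharacter T) (hψ₀ : ψ₀ ∈ B')
    (hover : Over N T b hNT (ψ₀ : T → ℂ)) :
    (∀ ψ ∈ B', Over N T b hNT (ψ : T → ℂ)) ∧
    IsInducedBlock M T B' (blockOf M (indFun T (ψ₀ : T → ℂ))) ∧
    indIrr T '' B' = blockOf M (indFun T (ψ₀ : T → ℂ)) := by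
  classical
  have hMp := isPrime_of_isPModular hM
  have : Fintype (IrrCharacter T) := Fintype.ofFinite _
  have : Fintype (IrrCharacter G) := Fintype.ofFinite _
  have hall : ∀ ψ ∈ B', Over N T b hNT (ψ : T → ℂ) := fun ψ hψ =>
    over_of_sameBlock N T b hMp hb hNT hstab ψ₀ ψ (sameBlock_of_mem hMp hB' hψ₀ hψ) hover
  have hirr : ∀ ψ ∈ B', IsIrrCharacter G (indFun T (ψ : T → ℂ)) := fun ψ hψ =>
    isIrrCharacter_indFun N T b hNT hstab hdisj ψ (hall ψ hψ)
  have hind : ∀ ψ ∈ B', IsInducedBlock M T B' (blockOf M (indFun T (ψ : T → ℂ))) := by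
    intro ψ hψ
    have := Cfsg.Agent.S0933.result p M hM T ψ (hirr ψ hψ)
    rwa [← IsPBlock_eq_blockOf hMp hB' hψ] at this
  refine ⟨hall, hind ψ₀ hψ₀, ?_⟩
  have hinj : Set.InjOn (indIrr T) B' := fun ψ hψ ψ' hψ' h =>
    indIrr_inj N T b hNT hstab hdisj ψ ψ' (hall ψ hψ) (hall ψ' hψ') h
  apply Set.Subset.antisymm
  · rintro χ ⟨ψ, hψ, rfl⟩
    have h1 := Cfsg.Agent.Helper23.IC.induced_unique hMp T (hind ψ hψ) (hind ψ₀ hψ₀)
    rw [← h1]
    show SameBlock M (indFun T (ψ : T → ℂ)) (indIrr T ψ : G → ℂ)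
    rw [indIrr_coe T ψ (hirr ψ hψ)]
    exact sameBlock_refl hMp _
  · intro χ hχ
    have hχ' : SameBlock M (indFun T (ψ₀ : T → ℂ)) (χ : G → ℂ) := hχ
    rw [← indIrr_coe T ψ₀ (hirr ψ₀ hψ₀)] at hχ'
    by_contra hcon
    have hcf := isClassFunction_blockCoeff (indIrr T '' B')
    have hR : ∀ g : G, MemLocalRing M (blockCoeff (indIrr T '' B') g) := by
      intro g
      rw [blockCoeff_image_indIrr T B' hirr hinj g]
      exact lr_indFun hMp T (isClassFunction_blockCoeff B') (osima hMp B' hB') g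
    have h1 := act_sub_act_memLocalIdeal hMp hcf hR hχ'
    rw [act_blockCoeff, act_blockCoeff, if_pos ⟨ψ₀, hψ₀, rfl⟩, if_neg hcon, sub_zero] at h1
    exact not_memLocalIdeal_one hMp h1


section Stab

variable {N}

/-- The stabilizer condition in the form used by the statements. -/
def IsStab (hN : N.Normal) (b : Set (IrrCharacter N)) (T : Subgroup G) : Prop :=
  ∀ g : G, g ∈ T ↔ ∀ θ ∈ b, ∀ θ' : IrrCharacter N,
    (∀ n : N, (θ' : N → ℂ) n = (θ : N → ℂ) ⟨g * n * g⁻¹, hN.conj_mem n n.2 g⟩) → θ' ∈ b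

theorem IsStab.stab {b : Set (IrrCharacter N)} {T : Subgroup G} (hT : IsStab hN b T) :
    ∀ x ∈ T, ∀ θ ∈ b, conjIrr N x θ ∈ b :=
  fun x hx θ hθ => (hT x).mp hx θ hθ (conjIrr N x θ) (fun n => rfl)

theorem IsStab.disj (hM : M.IsPrime) {b : Set (IrrCharacter N)} (hb : IsPBlock M b)
    {T : Subgroup G} (hT : IsStab hN b T) :
    ∀ x, x ∉ T → ∀ θ ∈ b, conjIrr N x θ ∉ b := by
  intro x hx θ hθ hcon
  apply hx
  rw [hT x]
  intro θ₁ hθ₁ θ' hθ'
  have e : θ' = conjIrr N x θ₁ := Subtype.ext (funext hθ')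
  rw [e, IsPBlock_eq_blockOf hM hb hcon]
  exact sameBlock_conjIrr N x (sameBlock_of_mem hM hb hθ hθ₁)

end Stab

end Cfsg.Agent.Helper5.FR
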