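import Mathlib
import Cfsg.Agent.Helper5.Residue
import Cfsg.Agent.Helper5.CentralChar

/-!
# Defect one: shared definitions

`rq k Pn` : the right translation representation of `Γ` on the functions `Γ ⧸ Pn → k`
(`Pn` a normal subgroup); elements of `Pn` act trivially.
-/

set_option autoImplicit false

namespace Cfsg.Agent.Helper5.D1

variable (k : Type*) [Field k] {Γ : Type*} [Group Γ]

/-- right translation of `Γ` on functions on `Γ ⧸ Pn`. -/
def rq (Pn : Subgroup Γ) [Pn.Normal] : Representation k Γ (Γ ⧸ Pn → k) where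
  toFun g :=
    { toFun := fun φ q => φ (q * (g : Γ ⧸ Pn))
      map_add' := fun _ _ => rfl
      map_smul' := fun _ _ => rfl }
  map_one' := by
    ext φ q
    simp
  map_mul' := by
    intro g h
    ext φ q
    simp [mul_assoc]

variable {k}

theorem rq_apply (Pn : Subgroup Γ) [Pn.Normal] (g : Γ) (φ : Γ ⧸ Pn → k) (q : Γ ⧸ Pn) :
    rq k Pn g φ q = φ (q * (g : Γ ⧸ Pn)) := rfl

theorem rq_of_mem (Pn : Subgroup Γ) [Pn.Normal] {u : Γ} (hu : u ∈ Pn) : rq k Pn u = 1 := by
  ext φ q
  rw [rq_apply]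
  have : ((u : Γ) : Γ ⧸ Pn) = 1 := (QuotientGroup.eq_one_iff u).mpr hu
  rw [this, mul_one]
  rfl

end Cfsg.Agent.Helper5.D1
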