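import Mathlib
import Cfsg.Agent.Helper5.GCg

/-!
# Defect one, modular part (a): uniqueness of the stable top, for module-valued tops

Generalization of `GC.unique_char` / `GC.unique_top` from one-dimensional tops `lam : Γ →* k`
to arbitrary representations `σ` on which `x` acts trivially; two tops are told apart by an
element `A` of the group algebra acting as `1` on one and as `0` on the other.
-/

set_option autoImplicit false

namespace Cfsg.Agent.Helper5.D1

open Module Cfsg.Agent.Helper5.GC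

universe u w

variable {k : Type*} [Field k] {Γ : Type*} [Group Γ]

/-- `f` is equivariant from `ρ` to `σ`. -/
def Equi {X S : Type*} [AddCommGroup X] [Module k X] [AddCommGroup S] [Module k S]
    (ρ : Representation k Γ X) (σ : Representation k Γ S) (f : X →ₗ[k] S) : Prop :=
  ∀ γ v, f (ρ γ v) = σ γ (f v)

section

variable {X S : Type*} [AddCommGroup X] [Module k X] [AddCommGroup S] [Module k S]

theorem Equi.uop_eq_zero {ρ : Representation k Γ X} {σ : Representation k Γ S} {f : X →ₗ[k] S}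
    (hf : Equi ρ σ f) {x : Γ} (hσx : σ x = 1) (v : X) : f (uop ρ x v) = 0 := by
  rw [uop_apply, map_sub, hf, hσx, Module.End.one_apply, sub_self]

theorem Equi.apply_trX {ρ : Representation k Γ X} {σ : Representation k Γ S} {f : X →ₗ[k] S}
    (hf : Equi ρ σ f) {x : Γ} (hσx : σ x = 1) (p : ℕ) (hp : 0 < p) (hx : x ^ p = 1)
    (μ : Module.End k X) (v : X) : f (trX ρ ρ x p μ v) = f (μ (pplus ρ x p v)) := by
  rw [trX_apply, map_sum, pplus_apply, map_sum, map_sum]
  have : ∀ i ∈ Finset.range p, f (ρ (x ^ i) (μ (ρ (x ^ i)⁻¹ v))) = f (μ (ρ (x ^ i)⁻¹ v)) := by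
    intro i _
    rw [hf, map_pow, hσx, one_pow, Module.End.one_apply]
  rw [Finset.sum_congr rfl this]
  exact sum_range_pow_inv x p hp hx (fun g => f (μ (ρ g v)))

theorem Equi.comp_subtype {ρ : Representation k Γ X} {σ : Representation k Γ S} {f : X →ₗ[k] S}
    (hf : Equi ρ σ f) (Z : Submodule k X) (hZ : ∀ γ : Γ, ∀ v ∈ Z, ρ γ v ∈ Z) :
    Equi (subR ρ Z hZ) σ (f ∘ₗ Z.subtype) := by
  intro γ z
  simp only [LinearMap.comp_apply, Submodule.subtype_apply]
  rw [subR_coe, hf]

end

/-- **Uniqueness of the stable top** for `k[⟨x⟩ ⋊ H]`-modules with scalar stable endomorphisms: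
two stably nonzero equivariant maps cannot go to tops separated by a group algebra element. -/
theorem unique_char' [Fintype Γ] (x : Γ) (H : Subgroup Γ) (p : ℕ) [Fact p.Prime] [CharP k p]
    (hd : PHData Γ x H) (hx : x ^ p = 1) (hcard : (Nat.card H : k) ≠ 0)
    {S S' : Type w} [AddCommGroup S] [Module k S] [AddCommGroup S'] [Module k S']
    (σ : Representation k Γ S) (σ' : Representation k Γ S') (hσx : σ x = 1) (hσ'x : σ' x = 1)
    (A : Γ → k) (hA : ∀ s, ∑ γ, A γ • σ γ s = s) (hA' : ∀ s', ∑ γ, A γ • σ' γ s' = 0) (n : ℕ) :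
    ∀ {X : Type u} [AddCommGroup X] [Module k X] [FiniteDimensional k X]
      (ρ : Representation k Γ X), finrank k X = n → StabEnd ρ x p →
      ∀ (f : X →ₗ[k] S) (f' : X →ₗ[k] S'), Equi ρ σ f → Equi ρ σ' f' →
      (∃ v, pplus ρ x p v = 0 ∧ f v ≠ 0) → (∃ v, pplus ρ x p v = 0 ∧ f' v ≠ 0) → False := by
  induction n using Nat.strong_induction_on with
  | _ n ih =>
  intro X _ _ _ ρ hn hSE f f' hf hf' ⟨v₀, hv₀P, hv₀f⟩ ⟨v₀', hv₀'P, hv₀'f⟩
  have hp : 0 < p := (Fact.out : p.Prime).pos
  have : Nontrivial X := ⟨⟨v₀, 0, fun h => hv₀f (by rw [h, map_zero])⟩⟩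
  obtain ⟨Y, Z, W, hYne, hYZ, hYs, hZs, hWY, hWH, hWne, hWirr, hYeq⟩ :=
    exists_split ρ x H p hd hx hcard
  set eY := Y.projection Z hYZ with heY
  set eZ := Z.projection Y hYZ.symm with heZ
  have heYeq : ∀ γ v, eY (ρ γ v) = ρ γ (eY v) := projection_equivariant hYZ hYs hZs
  have heZeq : ∀ γ v, eZ (ρ γ v) = ρ γ (eZ v) := projection_equivariant hYZ.symm hZs hYs
  obtain ⟨c, μ, hcμ⟩ := hSE eY heYeq
  -- f (eY v) = c f(v) for v in the kernel of P⁺
  have hfe : ∀ {T : Type w} [AddCommGroup T] [Module k T] (τ : Representation k Γ T)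
      (g : X →ₗ[k] T), Equi ρ τ g → τ x = 1 →
      ∀ v, pplus ρ x p v = 0 → g (eY v) = c • g v := by
    intro T _ _ τ g hg hτx v hv
    rw [hcμ, LinearMap.add_apply, map_add, hg.apply_trX hτx p hp hx, hv, map_zero, map_zero,
      add_zero, LinearMap.smul_apply, Module.End.one_apply, map_smul]
  have hidem : eY (eY v₀) = eY v₀ :=
    Submodule.projection_apply_of_mem_left hYZ (Submodule.projection_apply_mem hYZ v₀)
  have hPe : pplus ρ x p (eY v₀) = 0 := by rw [pplus_comm heYeq, hv₀P, map_zero]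
  have hc : c = 0 ∨ c = 1 := by
    have h1 := hfe σ f hf hσx (eY v₀) hPe
    rw [hidem, hfe σ f hf hσx v₀ hv₀P] at h1
    have h2 : (c * (c - 1)) • f v₀ = 0 := by
      rw [mul_sub, sub_smul, mul_one, mul_smul, ← h1, sub_self]
    rcases smul_eq_zero.mp h2 with h3 | h3
    · rcases mul_eq_zero.mp h3 with h4 | h4
      · exact Or.inl h4
      · exact Or.inr (sub_eq_zero.mp h4)
    · exact absurd h3 hv₀f
  rcases hc with hc | hc
  · -- the complement carries everything: induct on Z
    have hsum : ∀ v, eY v + eZ v = v := Submodule.projection_add_projection_eq_self hYZ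
    have hfZ : ∀ {T : Type w} [AddCommGroup T] [Module k T] (τ : Representation k Γ T)
        (g : X →ₗ[k] T), Equi ρ τ g → τ x = 1 →
        ∀ v, pplus ρ x p v = 0 → g (eZ v) = g v := by
      intro T _ _ τ g hg hτx v hv
      have h1 := hfe τ g hg hτx v hv
      rw [hc, zero_smul] at h1
      have := congrArg g (hsum v)
      rw [map_add, h1, zero_add] at this
      exact this
    have hZmem : ∀ v, eZ v ∈ Z := Submodule.projection_apply_mem hYZ.symm
    set ρZ := subR ρ Z hZs with hρZ
    have hrank : finrank k Z < n := by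
      have h1 := Submodule.finrank_add_eq_of_isCompl hYZ
      have h2 : 0 < finrank k Y := by
        rw [Module.finrank_pos_iff]
        exact (Submodule.nontrivial_iff_ne_bot).mpr hYne
      omega
    have hpplusZ : ∀ z : Z, ((pplus ρZ x p z : Z) : X) = pplus ρ x p (z : X) := by
      intro z
      rw [pplus_apply, pplus_apply, Submodule.coe_sum]
      rfl
    have hSEZ : StabEnd ρZ x p := by
      intro φ hφ
      -- extend φ to X
      set φ' : Module.End k X := Z.subtype ∘ₗ φ ∘ₗ Z.projectionOnto Y hYZ.symm with hφ'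
      have hφ'eq : ∀ γ v, φ' (ρ γ v) = ρ γ (φ' v) := by
        intro γ v
        simp only [hφ', LinearMap.comp_apply, Submodule.subtype_apply]
        have e1 : Z.projectionOnto Y hYZ.symm (ρ γ v) = ρZ γ (Z.projectionOnto Y hYZ.symm v) := by
          apply Subtype.ext
          rw [subR_coe]
          exact heZeq γ v
        rw [e1, hφ, subR_coe]
      obtain ⟨c', μ', hc'⟩ := hSE φ' hφ'eq
      refine ⟨c', Z.projectionOnto Y hYZ.symm ∘ₗ μ' ∘ₗ Z.subtype, ?_⟩
      ext z
      have h1 : φ' (z : X) = (φ z : X) := by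
        simp only [hφ', LinearMap.comp_apply, Submodule.subtype_apply]
        rw [Submodule.projectionOnto_apply_left]
      have h2 : eZ (φ' (z : X)) = φ' (z : X) := by
        rw [h1]
        exact Submodule.projection_apply_of_mem_left hYZ.symm (φ z).2
      rw [← h1, ← h2, hc', LinearMap.add_apply, map_add, LinearMap.smul_apply,
        Module.End.one_apply, map_smul,
        Submodule.projection_apply_of_mem_left hYZ.symm z.2]
      rw [LinearMap.add_apply, LinearMap.smul_apply, Module.End.one_apply, Submodule.coe_add,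
        Submodule.coe_smul]
      congr 1
      rw [trX_apply, trX_apply, map_sum, Submodule.coe_sum]
      refine Finset.sum_congr rfl fun i _ => ?_
      rw [heZeq, subR_coe]
      rfl
    refine ih (finrank k Z) hrank ρZ rfl hSEZ (f ∘ₗ Z.subtype) (f' ∘ₗ Z.subtype)
      (hf.comp_subtype Z hZs) (hf'.comp_subtype Z hZs)
      ⟨⟨eZ v₀, hZmem v₀⟩, ?_, ?_⟩ ⟨⟨eZ v₀', hZmem v₀'⟩, ?_, ?_⟩
    · apply Subtype.ext
      rw [hpplusZ]
      show pplus ρ x p (eZ v₀) = 0
      rw [pplus_comm heZeq, hv₀P, map_zero]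
    · simp only [LinearMap.comp_apply, Submodule.subtype_apply]
      rw [hfZ σ f hf hσx v₀ hv₀P]
      exact hv₀f
    · apply Subtype.ext
      rw [hpplusZ]
      show pplus ρ x p (eZ v₀') = 0
      rw [pplus_comm heZeq, hv₀'P, map_zero]
    · simp only [LinearMap.comp_apply, Submodule.subtype_apply]
      rw [hfZ σ' f' hf' hσ'x v₀' hv₀'P]
      exact hv₀'f
  · -- Y carries everything
    have hW : ∀ {T : Type w} [AddCommGroup T] [Module k T] (τ : Representation k Γ T)
        (g : X →ₗ[k] T), Equi ρ τ g → τ x = 1 →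
        ∀ v, pplus ρ x p v = 0 → g v ≠ 0 → ∃ w ∈ W, g w ≠ 0 := by
      intro T _ _ τ g hg hτx v hv hgv
      have h1 := hfe τ g hg hτx v hv
      rw [hc, one_smul] at h1
      have hmem : eY v ∈ Y := Submodule.projection_apply_mem hYZ v
      rw [hYeq] at hmem
      obtain ⟨w, hw, t, ⟨y', -, rfl⟩, hwt⟩ := Submodule.mem_sup.mp hmem
      refine ⟨w, hw, ?_⟩
      have := congrArg g hwt
      rw [map_add, hg.uop_eq_zero hτx, add_zero, h1] at this
      rw [this]
      exact hgv
    obtain ⟨w, hw, hfw⟩ := hW σ f hf hσx v₀ hv₀P hv₀f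
    obtain ⟨w', hw', hfw'⟩ := hW σ' f' hf' hσ'x v₀' hv₀'P hv₀'f
    -- W ⊓ ker f is H-stable, hence zero
    have hker : W ⊓ LinearMap.ker f = ⊥ := by
      have hst : HStab ρ H (W ⊓ LinearMap.ker f) := by
        intro h hh v hv
        obtain ⟨hvW, hvk⟩ := Submodule.mem_inf.mp hv
        refine Submodule.mem_inf.mpr ⟨hWH h hh v hvW, ?_⟩
        rw [LinearMap.mem_ker] at hvk ⊢
        rw [hf, hvk, map_zero]
      rcases hWirr _ inf_le_left hst with h0 | h0
      · exact h0
      · exfalso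
        have : w ∈ W ⊓ LinearMap.ker f := by rw [h0]; exact hw
        exact hfw (LinearMap.mem_ker.mp (Submodule.mem_inf.mp this).2)
    -- on Y, the kernel of f is contained in the kernel of f'
    have hkk : ∀ y ∈ Y, f y = 0 → f' y = 0 := by
      intro y hy hfy
      rw [hYeq] at hy
      obtain ⟨w₁, hw₁, t, ⟨y₁, -, rfl⟩, hwt⟩ := Submodule.mem_sup.mp hy
      have h1 : f w₁ = 0 := by
        have := congrArg f hwt
        rw [map_add, hf.uop_eq_zero hσx, add_zero, hfy] at this
        exact this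
      have h2 : w₁ ∈ W ⊓ LinearMap.ker f :=
        Submodule.mem_inf.mpr ⟨hw₁, LinearMap.mem_ker.mpr h1⟩
      rw [hker, Submodule.mem_bot] at h2
      rw [← hwt, h2, zero_add, hf'.uop_eq_zero hσ'x]
    -- the operator of A
    have hAY : ∑ γ, A γ • ρ γ w' ∈ Y :=
      Y.sum_mem fun γ _ => Y.smul_mem _ (hYs γ w' (hWY hw'))
    have hy : ∑ γ, A γ • ρ γ w' - w' ∈ Y := Y.sub_mem hAY (hWY hw')
    have hfy : f (∑ γ, A γ • ρ γ w' - w') = 0 := by
      rw [map_sub, map_sum]
      have : ∀ γ ∈ Finset.univ, f (A γ • ρ γ w') = A γ • σ γ (f w') := by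
        intro γ _
        rw [map_smul, hf]
      rw [Finset.sum_congr rfl this, hA, sub_self]
    have hf'y := hkk _ hy hfy
    rw [map_sub, map_sum] at hf'y
    have : ∀ γ ∈ Finset.univ, f' (A γ • ρ γ w') = A γ • σ' γ (f' w') := by
      intro γ _
      rw [map_smul, hf']
    rw [Finset.sum_congr rfl this, hA', zero_sub, neg_eq_zero] at hf'y
    exact hfw' hf'y

/-- **Uniqueness of the stable top**, for an irreducible representation of `G` and module tops. -/
theorem unique_top' {G : Type*} [Group G] [Fintype G] [IsAlgClosed k] {V : Type*} [AddCommGroup V]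
    [Module k V] [FiniteDimensional k V] [Nontrivial V]
    (ρ : Representation k G V) (hirr : IsIrr ρ) {N H : Subgroup G} [Fintype N] {x : G} {p : ℕ}
    [Fact p.Prime] [CharP k p] (hd : TIData G N H x p) (hcard : (Nat.card H : k) ≠ 0)
    {S S' : Type w} [AddCommGroup S] [Module k S] [AddCommGroup S'] [Module k S']
    (σ : Representation k N S) (σ' : Representation k N S')
    (hσx : σ ⟨x, hd.hxN⟩ = 1) (hσ'x : σ' ⟨x, hd.hxN⟩ = 1)
    (A : N → k) (hA : ∀ s, ∑ γ, A γ • σ γ s = s) (hA' : ∀ s', ∑ γ, A γ • σ' γ s' = 0)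
    (f : V →ₗ[k] S) (f' : V →ₗ[k] S')
    (hf : ∀ (n : N) v, f (ρ (n : G) v) = σ n (f v))
    (hf' : ∀ (n : N) v, f' (ρ (n : G) v) = σ' n (f' v))
    (hv : ∃ v, pplus ρ x p v = 0 ∧ f v ≠ 0) (hv' : ∃ v, pplus ρ x p v = 0 ∧ f' v ≠ 0) :
    False := by
  have hp : 0 < p := (Fact.out : p.Prime).pos
  have hcard' : (Nat.card (H.subgroupOf N) : k) ≠ 0 := by
    rw [card_subgroupOf_of_le hd.hHN]; exact hcard
  have hSE := stabEnd_resN ρ hirr hp hd
  exact unique_char' (⟨x, hd.hxN⟩ : N) (H.subgroupOf N) p hd.phData hd.pow_eq_one hcard'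
    σ σ' hσx hσ'x A hA hA' (finrank k V) (resN ρ N) rfl hSE f f' hf hf'
    (by rw [pplus_resN]; exact hv) (by rw [pplus_resN]; exact hv')

end Cfsg.Agent.Helper5.D1
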