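import Mathlib
import Cfsg.Agent.Helper5.GCg

/-!
# Sums over `N = ⟨x⟩ ⋊ H`, and factoring a functional through a linear map
-/

set_option autoImplicit false

namespace Cfsg.Agent.Helper5.GC

open Module

variable {k : Type*} [Field k] {G : Type*} [Group G] [Finite G]

noncomputable local instance subFintype' (H : Subgroup G) : Fintype H := Fintype.ofFinite _

/-- `p ∤ |H|` and `x` of order `p`: `H ∩ ⟨x⟩ = 1` in the form needed. -/
theorem pow_mem_H_iff {H : Subgroup G} {x : G} {p : ℕ} [hp : Fact p.Prime] [CharP k p]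
    (hcard : (Nat.card H : k) ≠ 0) (hxp : x ^ p = 1) (hx1 : x ≠ 1) (i : ℕ) (hi : x ^ i ∈ H) :
    p ∣ i := by
  by_contra hpi
  have hord : orderOf x = p := by
    have h1 := orderOf_dvd_of_pow_eq_one hxp
    rcases (Nat.dvd_prime hp.out).mp h1 with h | h
    · exact absurd (orderOf_eq_one_iff.mp h) hx1
    · exact h
  have hcop : Nat.Coprime i p := (Nat.Prime.coprime_iff_not_dvd hp.out).mpr hpi |>.symm
  -- x is a power of x^i
  obtain ⟨a, ha⟩ : ∃ a : ℕ, (x ^ i) ^ a = x := by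
    obtain ⟨a, -, ha⟩ := Nat.exists_mul_mod_eq_one_of_coprime hcop (hp.out.one_lt)
    refine ⟨a, ?_⟩
    rw [← pow_mul, ← pow_mod_orderOf, hord, ha, pow_one]
  have hxH : x ∈ H := by rw [← ha]; exact H.pow_mem hi a
  have hdvd : p ∣ Nat.card H := by
    have := Subgroup.orderOf_dvd_natCard H hxH
    rwa [hord] at this
  apply hcard
  exact (CharP.cast_eq_zero_iff k p _).mpr hdvd

/-- Summation over `N` as a double sum over `H` and the powers of `x`: `n = x^i h`. -/
theorem sum_N_eq {M : Type*} [AddCommMonoid M] {N H : Subgroup G} {x : G} {p : ℕ}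
    [hp : Fact p.Prime] [CharP k p] (hd : TIData G N H x p) (hcard : (Nat.card H : k) ≠ 0)
    (hx1 : x ≠ 1) (F : G → M) :
    ∑ n : N, F (n : G) = ∑ h : H, ∑ i ∈ Finset.range p, F (x ^ i * (h : G)) := by
  classical
  have hppos : 0 < p := hp.out.pos
  rw [← Finset.sum_product']
  symm
  refine Finset.sum_bij (fun a _ => (⟨x ^ a.2 * (a.1 : G),
    N.mul_mem (N.pow_mem hd.hxN _) (hd.hHN a.1.2)⟩ : N)) ?_ ?_ ?_ ?_
  · intro a _; exact Finset.mem_univ _
  · rintro ⟨h, i⟩ ha ⟨h', j⟩ ha' heq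
    simp only [Finset.mem_product, Finset.mem_univ, Finset.mem_range, true_and] at ha ha'
    have heq' : x ^ i * (h : G) = x ^ j * (h' : G) := congrArg Subtype.val heq
    -- wlog i ≤ j
    have key : ∀ (i j : ℕ) (h h' : H), i ≤ j → j < p → x ^ i * (h : G) = x ^ j * (h' : G) →
        i = j ∧ h = h' := by
      intro i j h h' hij hjp e
      have e2 : x ^ (j - i) = (h : G) * (h' : G)⁻¹ := by
        have : x ^ j = x ^ i * x ^ (j - i) := by rw [← pow_add, Nat.add_sub_cancel' hij]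
        rw [this, mul_assoc] at e
        have e3 := mul_left_cancel e
        rw [e3]; group
      have hmem : x ^ (j - i) ∈ H := by rw [e2]; exact H.mul_mem h.2 (H.inv_mem h'.2)
      have hdvd := pow_mem_H_iff (k := k) hcard hd.hxp hx1 (j - i) hmem
      have hji : j - i = 0 := Nat.eq_zero_of_dvd_of_lt hdvd (by omega)
      have hij' : i = j := by omega
      subst hij'
      exact ⟨rfl, Subtype.ext (mul_left_cancel e)⟩
    rcases le_total i j with hij | hij
    · obtain ⟨h1, h2⟩ := key i j h h' hij ha' heq'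
      rw [h1, h2]
    · obtain ⟨h1, h2⟩ := key j i h' h hij ha heq'.symm
      rw [h1, h2]
  · intro n _
    obtain ⟨h₀, hh₀, i₀, hi₀⟩ := hd.gen _ (N.inv_mem n.2)
    -- n = x^(-i₀) h₀⁻¹
    refine ⟨(⟨h₀⁻¹, H.inv_mem hh₀⟩, (p - i₀ % p) % p), ?_, ?_⟩
    · simp only [Finset.mem_product, Finset.mem_univ, Finset.mem_range, true_and]
      exact Nat.mod_lt _ hppos
    · apply Subtype.ext
      show x ^ ((p - i₀ % p) % p) * h₀⁻¹ = (n : G)
      have hn : (n : G) = (x ^ i₀)⁻¹ * h₀⁻¹ := by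
        have := congrArg (·⁻¹) hi₀
        simp only [inv_inv, mul_inv_rev] at this
        exact this
      rw [hn]
      congr 1
      rw [eq_inv_iff_mul_eq_one, ← pow_add]
      have hlt : i₀ % p < p := Nat.mod_lt _ hppos
      have h1 : ((p - i₀ % p) % p + i₀) % p = 0 := by
        rw [Nat.add_mod, Nat.mod_mod, ← Nat.add_mod]
        have : (p - i₀ % p + i₀) % p = (p - i₀ % p + i₀ % p) % p := by
          rw [Nat.add_mod, Nat.add_mod (p - i₀ % p) (i₀ % p), Nat.mod_mod]
        rw [this, Nat.sub_add_cancel hlt.le, Nat.mod_self]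
      obtain ⟨c, hc⟩ := Nat.dvd_of_mod_eq_zero h1
      rw [hc, pow_mul, hd.hxp, one_pow]
  · intro a _; rfl

/-- Summation over `N` with the other order: `n = h x^i`. -/
theorem sum_N_eq' {M : Type*} [AddCommMonoid M] {N H : Subgroup G} {x : G} {p : ℕ}
    [hp : Fact p.Prime] [CharP k p] (hd : TIData G N H x p) (hcard : (Nat.card H : k) ≠ 0)
    (hx1 : x ≠ 1) (F : G → M) :
    ∑ n : N, F (n : G) = ∑ h : H, ∑ i ∈ Finset.range p, F ((h : G) * x ^ i) := by
  have h1 : ∑ n : N, F (n : G) = ∑ n : N, F ((n : G)⁻¹⁻¹) := by simp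
  have h2 : ∑ n : N, F ((n : G)⁻¹⁻¹) = ∑ n : N, F ((n : G)⁻¹) := by
    have := Equiv.sum_comp (Equiv.inv N) (fun n : N => F ((n : G)⁻¹))
    simpa using this
  rw [h1, h2, sum_N_eq (k := k) hd hcard hx1 (fun g => F g⁻¹)]
  have h3 : ∀ h : H, ∑ i ∈ Finset.range p, F ((x ^ i * (h : G))⁻¹) =
      ∑ i ∈ Finset.range p, F ((h : G)⁻¹ * x ^ i) := by
    intro h
    have := sum_range_pow_inv x p hp.out.pos hd.hxp (fun g => F ((h : G)⁻¹ * g))
    rw [← this]
    exact Finset.sum_congr rfl fun i _ => by rw [mul_inv_rev]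
  rw [Finset.sum_congr rfl fun h _ => h3 h]
  have := Equiv.sum_comp (Equiv.inv H) (fun h : H => ∑ i ∈ Finset.range p, F ((h : G) * x ^ i))
  simpa using this

/-- Factoring a functional through a linear map whose kernel it kills. -/
theorem exists_factor {E F : Type*} [AddCommGroup E] [Module k E] [AddCommGroup F] [Module k F]
    (A : E →ₗ[k] F) (B : E →ₗ[k] k) (h : LinearMap.ker A ≤ LinearMap.ker B) :
    ∃ μ : F →ₗ[k] k, ∀ e, μ (A e) = B e := by
  -- define on the range, then extend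
  let B' : (E ⧸ LinearMap.ker A) →ₗ[k] k := (LinearMap.ker A).liftQ B h
  let e := A.quotKerEquivRange
  let μ₀ : LinearMap.range A →ₗ[k] k := B' ∘ₗ e.symm.toLinearMap
  obtain ⟨μ, hμ⟩ := LinearMap.exists_extend μ₀
  refine ⟨μ, fun v => ?_⟩
  have h1 : μ (A v) = μ₀ ⟨A v, LinearMap.mem_range_self A v⟩ := by
    rw [← hμ]; rfl
  rw [h1]
  show B' (e.symm ⟨A v, _⟩) = B v
  have h2 : e.symm ⟨A v, LinearMap.mem_range_self A v⟩ = Submodule.Quotient.mk v := by
    rw [LinearEquiv.symm_apply_eq]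
    rfl
  rw [h2]
  rfl

end Cfsg.Agent.Helper5.GC
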