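import Mathlib
import Cfsg.Agent.Helper5.GCh

/-!
# The coinduced module and the existence of a simple submodule with prescribed stable top
-/

set_option autoImplicit false

namespace Cfsg.Agent.Helper5.GC

open Module

variable {k : Type*} [Field k] {G : Type*} [Group G]

/-- The right regular representation on functions. -/
def rreg (k : Type*) [Field k] (G : Type*) [Group G] : Representation k G (G → k) where
  toFun g :=
    { toFun := fun φ y => φ (y * g)
      map_add' := fun _ _ => rfl
      map_smul' := fun _ _ => rfl }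
  map_one' := by
    ext φ y
    simp
  map_mul' := by
    intro g g'
    ext φ y
    simp [mul_assoc]

theorem rreg_apply (g : G) (φ : G → k) (y : G) : rreg k G g φ y = φ (y * g) := rfl

/-- The coinduced module of a linear character of `N`. -/
def coind (N : Subgroup G) (lam : N →* k) : Submodule k (G → k) where
  carrier := {φ | ∀ (n : N) (y : G), φ ((n : G) * y) = lam n * φ y}
  add_mem' := by
    intro a b ha hb n y
    simp only [Pi.add_apply, ha n y, hb n y, mul_add]
  zero_mem' := by
    intro n y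
    simp
  smul_mem' := by
    intro c a ha n y
    simp only [Pi.smul_apply, smul_eq_mul, ha n y]
    ring

theorem mem_coind {N : Subgroup G} {lam : N →* k} {φ : G → k} :
    φ ∈ coind N lam ↔ ∀ (n : N) (y : G), φ ((n : G) * y) = lam n * φ y := Iff.rfl

theorem rreg_mem_coind {N : Subgroup G} {lam : N →* k} (g : G) {φ : G → k}
    (hφ : φ ∈ coind N lam) : rreg k G g φ ∈ coind N lam := by
  intro n y
  rw [rreg_apply, rreg_apply, mul_assoc, hφ n]

theorem coind_semi {N : Subgroup G} {lam : N →* k} {φ : G → k} (hφ : φ ∈ coind N lam) (n : N) :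
    rreg k G (n : G) φ 1 = lam n * φ 1 := by
  rw [rreg_apply, one_mul]
  have := hφ n 1
  rwa [mul_one] at this

theorem lam_ne_zero {N : Subgroup G} (lam : N →* k) (n : N) : lam n ≠ 0 := by
  intro h
  have : lam n * lam n⁻¹ = 1 := by rw [← map_mul, mul_inv_cancel, map_one]
  rw [h, zero_mul] at this
  exact zero_ne_one this

section

variable [Finite G]

noncomputable local instance subFintype'' (H : Subgroup G) : Fintype H := Fintype.ofFinite _

theorem sum_N_sub {M : Type*} [AddCommMonoid M] {N H : Subgroup G} {x : G} {p : ℕ}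
    [hp : Fact p.Prime] [CharP k p] (hd : TIData G N H x p) (hcard : (Nat.card H : k) ≠ 0)
    (hx1 : x ≠ 1) (F : N → M) :
    ∑ n : N, F n = ∑ h : H, ∑ i ∈ Finset.range p,
      F ⟨x ^ i * (h : G), N.mul_mem (N.pow_mem hd.hxN _) (hd.hHN h.2)⟩ := by
  classical
  have h1 := sum_N_eq (k := k) hd hcard hx1 (fun g => if h : g ∈ N then F ⟨g, h⟩ else 0)
  have h2 : ∑ n : N, (fun g => if h : g ∈ N then F ⟨g, h⟩ else 0) (n : G) = ∑ n : N, F n :=
    Finset.sum_congr rfl fun n _ => by simp
  rw [← h2, h1]
  refine Finset.sum_congr rfl fun h _ => Finset.sum_congr rfl fun i _ => ?_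
  rw [dif_pos (N.mul_mem (N.pow_mem hd.hxN _) (hd.hHN h.2))]

theorem sum_N_sub' {M : Type*} [AddCommMonoid M] {N H : Subgroup G} {x : G} {p : ℕ}
    [hp : Fact p.Prime] [CharP k p] (hd : TIData G N H x p) (hcard : (Nat.card H : k) ≠ 0)
    (hx1 : x ≠ 1) (F : N → M) :
    ∑ n : N, F n = ∑ h : H, ∑ i ∈ Finset.range p,
      F ⟨(h : G) * x ^ i, N.mul_mem (hd.hHN h.2) (N.pow_mem hd.hxN _)⟩ := by
  classical
  have h1 := sum_N_eq' (k := k) hd hcard hx1 (fun g => if h : g ∈ N then F ⟨g, h⟩ else 0)
  have h2 : ∑ n : N, (fun g => if h : g ∈ N then F ⟨g, h⟩ else 0) (n : G) = ∑ n : N, F n :=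
    Finset.sum_congr rfl fun n _ => by simp
  rw [← h2, h1]
  refine Finset.sum_congr rfl fun h _ => Finset.sum_congr rfl fun i _ => ?_
  rw [dif_pos (N.mul_mem (hd.hHN h.2) (N.pow_mem hd.hxN _))]

end

end Cfsg.Agent.Helper5.GC
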