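import Mathlib
import Cfsg.Agent.Helper5.GCi

/-!
# Existence of a simple submodule of the coinduced module with a stably non-zero evaluation
-/

set_option autoImplicit false

namespace Cfsg.Agent.Helper5.GC

open Module

variable {k : Type*} [Field k] {G : Type*} [Group G] [Finite G]

noncomputable local instance subFintype3 (H : Subgroup G) : Fintype H := Fintype.ofFinite _

/-- `G`-stability of a subspace of the regular module. -/
def GStab (S : Submodule k (G → k)) : Prop := ∀ g : G, ∀ v ∈ S, rreg k G g v ∈ S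

theorem GStab.pplus {S : Submodule k (G → k)} (hS : GStab S) (x : G) (p : ℕ) :
    ∀ v ∈ S, pplus (rreg k G) x p v ∈ S := by
  intro v hv
  rw [pplus_apply]
  exact S.sum_mem fun i _ => hS _ v hv

theorem GStab.sup {S T : Submodule k (G → k)} (hS : GStab S) (hT : GStab T) : GStab (S ⊔ T) := by
  intro g v hv
  obtain ⟨s, hs, t, ht, rfl⟩ := Submodule.mem_sup.mp hv
  rw [map_add]
  exact Submodule.add_mem_sup (hS g s hs) (hT g t ht)

theorem exists_simple_top {N H : Subgroup G} {x : G} {p : ℕ} [hp : Fact p.Prime] [CharP k p]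
    (hd : TIData G N H x p) (hcard : (Nat.card H : k) ≠ 0) (hx1 : x ≠ 1) (lam : N →* k) :
    ∃ S : Submodule k (G → k), S ≤ coind N lam ∧ S ≠ ⊥ ∧ GStab S ∧
      (∀ S' ≤ S, GStab S' → S' = ⊥ ∨ S' = S) ∧
      ∃ s ∈ S, pplus (rreg k G) x p s = 0 ∧ s 1 ≠ 0 := by
  classical
  by_contra hcon
  push Not at hcon
  set R := rreg k G with hR
  set M := coind N lam with hM
  have hppos : 0 < p := hp.out.pos
  have hlamx : lam ⟨x, hd.hxN⟩ = 1 := char_x_eq_one lam (⟨x, hd.hxN⟩ : N) p hd.pow_eq_one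
  have hMstab : GStab M := fun g v hv => rreg_mem_coind g hv
  -- a maximal submodule on which the evaluation is stably zero
  obtain ⟨Sg, ⟨hSgM, hSgs, hSgQ⟩, hSgmax⟩ := wellFounded_gt.has_min
    {T : Submodule k (G → k) | T ≤ M ∧ GStab T ∧ ∀ s ∈ T, pplus R x p s = 0 → s 1 = 0}
    ⟨⊥, bot_le, fun g v hv => by
        rw [(Submodule.mem_bot k).mp hv, map_zero]; exact Submodule.zero_mem _,
      fun s hs _ => by rw [(Submodule.mem_bot k).mp hs]; rfl⟩
  -- Sg is essential in M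
  have hess : ∀ L : Submodule k (G → k), L ≤ M → L ≠ ⊥ → GStab L → L ⊓ Sg ≠ ⊥ := by
    intro L hLM hLne hLs hdisj
    obtain ⟨S, ⟨hSne, hSL, hSs⟩, hSmin⟩ := wellFounded_lt.has_min
      {S : Submodule k (G → k) | S ≠ ⊥ ∧ S ≤ L ∧ GStab S} ⟨L, hLne, le_refl _, hLs⟩
    have hSirr : ∀ S' ≤ S, GStab S' → S' = ⊥ ∨ S' = S := by
      intro S' hS'S hS's
      by_cases h0 : S' = ⊥
      · exact Or.inl h0
      · right
        by_contra hne
        exact hSmin S' ⟨h0, hS'S.trans hSL, hS's⟩ (lt_of_le_of_ne hS'S hne)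
    have hS0 := hcon S (hSL.trans hLM) hSne hSs hSirr
    have hSSg : S ⊓ Sg = ⊥ := by
      rw [eq_bot_iff, ← hdisj]
      exact inf_le_inf_right _ hSL
    have hQ' : ∀ t ∈ Sg ⊔ S, pplus R x p t = 0 → t 1 = 0 := by
      intro t ht hPt
      obtain ⟨σ, hσ, s, hs, rfl⟩ := Submodule.mem_sup.mp ht
      rw [map_add] at hPt
      have h1 : pplus R x p s ∈ S ⊓ Sg := by
        refine Submodule.mem_inf.mpr ⟨hSs.pplus x p s hs, ?_⟩
        have : pplus R x p s = - pplus R x p σ := eq_neg_of_add_eq_zero_right hPt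
        rw [this]
        exact Sg.neg_mem (hSgs.pplus x p σ hσ)
      rw [hSSg, Submodule.mem_bot] at h1
      rw [h1, add_zero] at hPt
      rw [Pi.add_apply, hSgQ σ hσ hPt, hS0 s hs h1, add_zero]
    have hlt : Sg < Sg ⊔ S := by
      refine lt_of_le_of_ne le_sup_left ?_
      intro h
      apply hSne
      rw [eq_bot_iff, ← hSSg]
      refine le_inf (le_refl _) ?_
      rw [h]
      exact le_sup_right
    exact hSgmax (Sg ⊔ S) ⟨sup_le hSgM (hSL.trans hLM), hSgs.sup hSs, hQ'⟩ hlt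
  -- the functional μ
  obtain ⟨μ, hμ⟩ := exists_factor (pplus R x p ∘ₗ Sg.subtype)
    (LinearMap.proj (1 : G) ∘ₗ Sg.subtype) (by
      intro s hs
      rw [LinearMap.mem_ker] at hs ⊢
      exact hSgQ s s.2 hs)
  have hμ' : ∀ s ∈ Sg, μ (pplus R x p s) = s 1 := fun s hs => hμ ⟨s, hs⟩
  set c : k := (Nat.card H : k)⁻¹ with hc
  -- the endomorphism θ
  set θ : (G → k) →ₗ[k] (G → k) :=
    LinearMap.pi fun y => ∑ n : N, ((lam n)⁻¹ * c) • (μ ∘ₗ R ((n : G) * y)) with hθ
  have hθapp : ∀ φ y, θ φ y = ∑ n : N, (lam n)⁻¹ * c * μ (R ((n : G) * y) φ) := by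
    intro φ y
    simp [hθ, LinearMap.sum_apply]
  have hθM : ∀ φ, θ φ ∈ M := by
    intro φ n₀ y
    rw [hθapp, hθapp, Finset.mul_sum]
    refine Fintype.sum_equiv (Equiv.mulRight n₀) _ _ ?_
    intro n
    simp only [Equiv.coe_mulRight, Subgroup.coe_mul, map_mul, mul_assoc]
    have := lam_ne_zero lam n₀
    field_simp
  have hθR : ∀ g φ, θ (R g φ) = R g (θ φ) := by
    intro g φ
    funext y
    rw [hθapp, rreg_apply, hθapp]
    refine Finset.sum_congr rfl fun n _ => ?_
    congr 2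
    rw [← mul_assoc]
    exact (rep_mul_apply R _ g φ).symm
  have hθP : ∀ φ, θ (pplus R x p φ) = pplus R x p (θ φ) := by
    intro φ
    rw [pplus_apply, pplus_apply, map_sum]
    exact Finset.sum_congr rfl fun i _ => hθR _ _
  have hHsum : (∑ _h : H, c) = 1 := by
    rw [Finset.sum_const, Finset.card_univ, ← Nat.card_eq_fintype_card, nsmul_eq_mul, hc,
      mul_inv_cancel₀ hcard]
  have hθid : ∀ s ∈ Sg, θ s = s := by
    intro s hs
    funext y
    rw [hθapp, sum_N_sub (k := k) hd hcard hx1]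
    have hin : ∀ h : H, ∑ i ∈ Finset.range p,
        (lam ⟨x ^ i * (h : G), N.mul_mem (N.pow_mem hd.hxN _) (hd.hHN h.2)⟩)⁻¹ * c *
          μ (R (x ^ i * (h : G) * y) s) = c * s y := by
      intro h
      have hl : ∀ i : ℕ, lam ⟨x ^ i * (h : G), N.mul_mem (N.pow_mem hd.hxN _) (hd.hHN h.2)⟩ =
          lam ⟨h, hd.hHN h.2⟩ := by
        intro i
        have : (⟨x ^ i * (h : G), N.mul_mem (N.pow_mem hd.hxN _) (hd.hHN h.2)⟩ : N) =
            (⟨x, hd.hxN⟩ : N) ^ i * ⟨h, hd.hHN h.2⟩ := by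
          apply Subtype.ext; simp
        rw [this, map_mul, map_pow, hlamx, one_pow, one_mul]
      simp only [hl]
      rw [← Finset.mul_sum, ← map_sum]
      have hmem : R (h : G) (R y s) ∈ Sg := hSgs _ _ (hSgs _ _ hs)
      have hsum : ∑ i ∈ Finset.range p, R (x ^ i * (h : G) * y) s =
          pplus R x p (R (h : G) (R y s)) := by
        rw [pplus_apply]
        refine Finset.sum_congr rfl fun i _ => ?_
        rw [map_mul, map_mul]
        rfl
      rw [hsum, hμ' _ hmem, coind_semi (hSgM (hSgs _ _ hs)) ⟨h, hd.hHN h.2⟩, rreg_apply, one_mul]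
      have := lam_ne_zero lam ⟨h, hd.hHN h.2⟩
      field_simp
    rw [Finset.sum_congr rfl fun h _ => hin h, ← Finset.sum_mul, hHsum, one_mul]
  have hθzero : ∀ ψ, pplus R x p ψ = 0 → θ ψ 1 = 0 := by
    intro ψ hψ
    rw [hθapp, sum_N_sub' (k := k) hd hcard hx1]
    refine Finset.sum_eq_zero fun h _ => ?_
    have hl : ∀ i : ℕ, lam ⟨(h : G) * x ^ i, N.mul_mem (hd.hHN h.2) (N.pow_mem hd.hxN _)⟩ =
        lam ⟨h, hd.hHN h.2⟩ := by
      intro i
      have : (⟨(h : G) * x ^ i, N.mul_mem (hd.hHN h.2) (N.pow_mem hd.hxN _)⟩ : N) =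
          ⟨h, hd.hHN h.2⟩ * (⟨x, hd.hxN⟩ : N) ^ i := by
        apply Subtype.ext; simp
      rw [this, map_mul, map_pow, hlamx, one_pow, mul_one]
    simp only [hl]
    rw [← Finset.mul_sum, ← map_sum]
    have hsum : ∑ i ∈ Finset.range p, R ((h : G) * x ^ i * 1) ψ =
        R (h : G) (pplus R x p ψ) := by
      rw [pplus_apply, map_sum]
      refine Finset.sum_congr rfl fun i _ => ?_
      rw [mul_one, map_mul]
      rfl
    rw [hsum, hψ, map_zero, map_zero, mul_zero]
  -- θ is injective on M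
  have hθinj : M ⊓ LinearMap.ker θ = ⊥ := by
    by_contra hne
    have hLs : GStab (M ⊓ LinearMap.ker θ) := by
      intro g v hv
      obtain ⟨hvM, hvk⟩ := Submodule.mem_inf.mp hv
      refine Submodule.mem_inf.mpr ⟨hMstab g v hvM, ?_⟩
      rw [LinearMap.mem_ker] at hvk ⊢
      rw [hθR, hvk, map_zero]
    have h1 := hess _ inf_le_left hne hLs
    apply h1
    rw [eq_bot_iff]
    intro t ht
    obtain ⟨htL, htS⟩ := Submodule.mem_inf.mp ht
    have h2 := LinearMap.mem_ker.mp (Submodule.mem_inf.mp htL).2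
    rw [hθid t htS] at h2
    rw [h2]
    exact Submodule.zero_mem _
  -- restrict θ to M
  set θM : M →ₗ[k] M := LinearMap.codRestrict M (θ ∘ₗ M.subtype) (fun v => hθM _) with hθMdef
  have hθMinj : Function.Injective θM := by
    rw [← LinearMap.ker_eq_bot, eq_bot_iff]
    intro v hv
    rw [LinearMap.mem_ker] at hv
    have h1 : θ (v : G → k) = 0 := by
      have := congrArg Subtype.val hv
      simpa [hθMdef] using this
    have h2 : (v : G → k) ∈ M ⊓ LinearMap.ker θ :=
      Submodule.mem_inf.mpr ⟨v.2, LinearMap.mem_ker.mpr h1⟩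
    rw [hθinj, Submodule.mem_bot] at h2
    rw [Submodule.mem_bot]
    exact Subtype.ext h2
  have hθMsurj : Function.Surjective θM := LinearMap.injective_iff_surjective.mp hθMinj
  -- the function φ₁
  set φ₁ : G → k := fun g => if h : g ∈ N then lam ⟨g, h⟩ else 0 with hφ₁
  have hφ₁M : φ₁ ∈ M := by
    intro n y
    simp only [hφ₁]
    by_cases hy : y ∈ N
    · rw [dif_pos hy, dif_pos (N.mul_mem n.2 hy), ← map_mul]
      rfl
    · have : (n : G) * y ∉ N := fun h => hy (by
        have := N.mul_mem (N.inv_mem n.2) h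
        simpa using this)
      rw [dif_neg hy, dif_neg this, mul_zero]
  have hφ₁x : ∀ i : ℕ, R (x ^ i) φ₁ = φ₁ := by
    intro i
    funext y
    rw [rreg_apply]
    simp only [hφ₁]
    by_cases hy : y ∈ N
    · rw [dif_pos hy, dif_pos (N.mul_mem hy (N.pow_mem hd.hxN i))]
      have : (⟨y * x ^ i, N.mul_mem hy (N.pow_mem hd.hxN i)⟩ : N) =
          ⟨y, hy⟩ * (⟨x, hd.hxN⟩ : N) ^ i := by
        apply Subtype.ext; simp
      rw [this, map_mul, map_pow, hlamx, one_pow, mul_one]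
    · have : y * x ^ i ∉ N := fun h => hy (by
        have := N.mul_mem h (N.inv_mem (N.pow_mem hd.hxN i))
        simpa using this)
      rw [dif_neg hy, dif_neg this]
  have hφ₁P : pplus R x p φ₁ = 0 := by
    rw [pplus_apply, Finset.sum_congr rfl fun i _ => hφ₁x i, Finset.sum_const, Finset.card_range,
      ← Nat.cast_smul_eq_nsmul k, CharP.cast_eq_zero k p, zero_smul]
  have hφ₁1 : φ₁ 1 = 1 := by
    simp only [hφ₁]
    rw [dif_pos N.one_mem]
    exact map_one lam
  obtain ⟨ψ, hψ⟩ := hθMsurj ⟨φ₁, hφ₁M⟩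
  have hψ' : θ (ψ : G → k) = φ₁ := by
    have := congrArg Subtype.val hψ
    simpa [hθMdef] using this
  have hPψ : pplus R x p (ψ : G → k) = 0 := by
    have h1 : pplus R x p (ψ : G → k) ∈ M ⊓ LinearMap.ker θ := by
      refine Submodule.mem_inf.mpr ⟨hMstab.pplus x p _ ψ.2, ?_⟩
      rw [LinearMap.mem_ker, hθP, hψ', hφ₁P]
    rw [hθinj, Submodule.mem_bot] at h1
    exact h1
  have := hθzero _ hPψ
  rw [hψ', hφ₁1] at this
  exact one_ne_zero this

end Cfsg.Agent.Helper5.GC
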