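import Mathlib
import Cfsg.Agent.Helper5.GCj
import Cfsg.Agent.Helper5.D1a

/-!
# Defect one, modular part (b): the coinduced module of a representation of `N` and the existence
of a simple submodule with prescribed stable top

Generalization of `GC.exists_simple_top` from characters `lam : N →* k` to representations
`σ : Representation k N S` on which `x` acts trivially.
-/

set_option autoImplicit false

namespace Cfsg.Agent.Helper5.D1

open Module Cfsg.Agent.Helper5.GC

variable {k : Type*} [Field k] {G : Type*} [Group G]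
variable {S : Type*} [AddCommGroup S] [Module k S]

/-- The right regular representation on `S`-valued functions. -/
def rregS (k : Type*) [Field k] (G : Type*) [Group G] (S : Type*) [AddCommGroup S] [Module k S] :
    Representation k G (G → S) where
  toFun g :=
    { toFun := fun φ y => φ (y * g)
      map_add' := fun _ _ => rfl
      map_smul' := fun _ _ => rfl }
  map_one' := by
    ext φ y
    simp
  map_mul' := by
    intro g g'
    ext φ y
    simp [mul_assoc]

theorem rregS_apply (g : G) (φ : G → S) (y : G) : rregS k G S g φ y = φ (y * g) := rfl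

/-- The coinduced module of a representation of `N`. -/
def coindS (N : Subgroup G) (σ : Representation k N S) : Submodule k (G → S) where
  carrier := {φ | ∀ (n : N) (y : G), φ ((n : G) * y) = σ n (φ y)}
  add_mem' := by
    intro a b ha hb n y
    simp only [Pi.add_apply, ha n y, hb n y, map_add]
  zero_mem' := by
    intro n y
    simp
  smul_mem' := by
    intro c a ha n y
    simp only [Pi.smul_apply, ha n y, map_smul]

theorem mem_coindS {N : Subgroup G} {σ : Representation k N S} {φ : G → S} :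
    φ ∈ coindS N σ ↔ ∀ (n : N) (y : G), φ ((n : G) * y) = σ n (φ y) := Iff.rfl

theorem rregS_mem_coindS {N : Subgroup G} {σ : Representation k N S} (g : G) {φ : G → S}
    (hφ : φ ∈ coindS N σ) : rregS k G S g φ ∈ coindS N σ := by
  intro n y
  rw [rregS_apply, rregS_apply, mul_assoc, hφ n]

/-- Stability of a submodule of `G → S` under right translations. -/
def GStabS (V : Submodule k (G → S)) : Prop := ∀ g : G, ∀ v ∈ V, rregS k G S g v ∈ V

theorem GStabS.pplus {V : Submodule k (G → S)} (hV : GStabS V) (x : G) (p : ℕ) :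
    ∀ v ∈ V, pplus (rregS k G S) x p v ∈ V := by
  intro v hv
  rw [pplus_apply]
  exact V.sum_mem fun i _ => hV _ v hv

theorem GStabS.sup {V T : Submodule k (G → S)} (hV : GStabS V) (hT : GStabS T) :
    GStabS (V ⊔ T) := by
  intro g v hv
  obtain ⟨s, hs, t, ht, rfl⟩ := Submodule.mem_sup.mp hv
  rw [map_add]
  exact Submodule.add_mem_sup (hV g s hs) (hT g t ht)

/-- Factoring a linear map through a linear map whose kernel it kills. -/
theorem exists_factor' {E F T : Type*} [AddCommGroup E] [Module k E] [AddCommGroup F] [Module k F]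
    [AddCommGroup T] [Module k T]
    (A : E →ₗ[k] F) (B : E →ₗ[k] T) (h : LinearMap.ker A ≤ LinearMap.ker B) :
    ∃ μ : F →ₗ[k] T, ∀ e, μ (A e) = B e := by
  let B' : (E ⧸ LinearMap.ker A) →ₗ[k] T := (LinearMap.ker A).liftQ B h
  let e := A.quotKerEquivRange
  let μ₀ : LinearMap.range A →ₗ[k] T := B' ∘ₗ e.symm.toLinearMap
  obtain ⟨μ, hμ⟩ := LinearMap.exists_extend μ₀
  refine ⟨μ, fun v => ?_⟩
  have h1 : μ (A v) = μ₀ ⟨A v, LinearMap.mem_range_self A v⟩ := by
    rw [← hμ]; rfl
  rw [h1]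
  show B' (e.symm ⟨A v, _⟩) = B v
  have h2 : e.symm ⟨A v, LinearMap.mem_range_self A v⟩ = Submodule.Quotient.mk v := by
    rw [LinearEquiv.symm_apply_eq]
    rfl
  rw [h2]
  rfl

section

variable [Finite G]

noncomputable local instance subFintypeD1 (H : Subgroup G) : Fintype H := Fintype.ofFinite _

omit [Finite G] in
theorem rep_inv_eq {N : Subgroup G} (σ : Representation k N S) (n : N) (s : S) :
    σ n⁻¹ (σ n s) = s := by
  rw [← Module.End.mul_apply, ← map_mul, inv_mul_cancel, map_one, Module.End.one_apply]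

theorem exists_simple_top' [FiniteDimensional k S] [Nontrivial S]
    {N H : Subgroup G} {x : G} {p : ℕ} [hp : Fact p.Prime] [CharP k p]
    (hd : TIData G N H x p) (hcard : (Nat.card H : k) ≠ 0) (hx1 : x ≠ 1)
    (σ : Representation k N S) (hσx : σ ⟨x, hd.hxN⟩ = 1) :
    ∃ V : Submodule k (G → S), V ≤ coindS N σ ∧ V ≠ ⊥ ∧ GStabS V ∧
      (∀ V' ≤ V, GStabS V' → V' = ⊥ ∨ V' = V) ∧
      ∃ s ∈ V, pplus (rregS k G S) x p s = 0 ∧ s 1 ≠ 0 := by
  classical
  have : Fintype G := Fintype.ofFinite G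
  by_contra hcon
  push Not at hcon
  set R := rregS k G S with hR
  set M := coindS N σ with hM
  have hppos : 0 < p := hp.out.pos
  have hσxi : ∀ i : ℕ, σ (⟨x, hd.hxN⟩ ^ i) = 1 := fun i => by rw [map_pow, hσx, one_pow]
  have hσxinv : ∀ i : ℕ, σ ((⟨x, hd.hxN⟩ ^ i : N)⁻¹) = 1 := by
    intro i
    have h1 : σ ((⟨x, hd.hxN⟩ ^ i : N)⁻¹) * σ (⟨x, hd.hxN⟩ ^ i) = 1 := by
      rw [← map_mul, inv_mul_cancel, map_one]
    rwa [hσxi, mul_one] at h1
  have hMstab : GStabS M := fun g v hv => rregS_mem_coindS g hv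
  -- a maximal submodule on which the evaluation is stably zero
  obtain ⟨Sg, ⟨hSgM, hSgs, hSgQ⟩, hSgmax⟩ := wellFounded_gt.has_min
    {T : Submodule k (G → S) | T ≤ M ∧ GStabS T ∧ ∀ s ∈ T, pplus R x p s = 0 → s 1 = 0}
    ⟨⊥, bot_le, fun g v hv => by
        rw [(Submodule.mem_bot k).mp hv, map_zero]; exact Submodule.zero_mem _,
      fun s hs _ => by rw [(Submodule.mem_bot k).mp hs]; rfl⟩
  -- Sg is essential in M
  have hess : ∀ L : Submodule k (G → S), L ≤ M → L ≠ ⊥ → GStabS L → L ⊓ Sg ≠ ⊥ := by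
    intro L hLM hLne hLs hdisj
    obtain ⟨V, ⟨hVne, hVL, hVs⟩, hVmin⟩ := wellFounded_lt.has_min
      {V : Submodule k (G → S) | V ≠ ⊥ ∧ V ≤ L ∧ GStabS V} ⟨L, hLne, le_refl _, hLs⟩
    have hVirr : ∀ V' ≤ V, GStabS V' → V' = ⊥ ∨ V' = V := by
      intro V' hV'V hV's
      by_cases h0 : V' = ⊥
      · exact Or.inl h0
      · right
        by_contra hne
        exact hVmin V' ⟨h0, hV'V.trans hVL, hV's⟩ (lt_of_le_of_ne hV'V hne)
    have hV0 := hcon V (hVL.trans hLM) hVne hVs hVirr
    have hVSg : V ⊓ Sg = ⊥ := by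
      rw [eq_bot_iff, ← hdisj]
      exact inf_le_inf_right _ hVL
    have hQ' : ∀ t ∈ Sg ⊔ V, pplus R x p t = 0 → t 1 = 0 := by
      intro t ht hPt
      obtain ⟨a, ha, s, hs, rfl⟩ := Submodule.mem_sup.mp ht
      rw [map_add] at hPt
      have h1 : pplus R x p s ∈ V ⊓ Sg := by
        refine Submodule.mem_inf.mpr ⟨hVs.pplus x p s hs, ?_⟩
        have : pplus R x p s = - pplus R x p a := eq_neg_of_add_eq_zero_right hPt
        rw [this]
        exact Sg.neg_mem (hSgs.pplus x p a ha)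
      rw [hVSg, Submodule.mem_bot] at h1
      rw [h1, add_zero] at hPt
      rw [Pi.add_apply, hSgQ a ha hPt, hV0 s hs h1, add_zero]
    have hlt : Sg < Sg ⊔ V := by
      refine lt_of_le_of_ne le_sup_left ?_
      intro h
      apply hVne
      rw [eq_bot_iff, ← hVSg]
      refine le_inf (le_refl _) ?_
      rw [h]
      exact le_sup_right
    exact hSgmax (Sg ⊔ V) ⟨sup_le hSgM (hVL.trans hLM), hSgs.sup hVs, hQ'⟩ hlt
  -- the map μ
  obtain ⟨μ, hμ⟩ := exists_factor' (pplus R x p ∘ₗ Sg.subtype)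
    ((LinearMap.proj (1 : G) : (G → S) →ₗ[k] S) ∘ₗ Sg.subtype) (by
      intro s hs
      rw [LinearMap.mem_ker] at hs ⊢
      exact hSgQ s s.2 hs)
  have hμ' : ∀ s ∈ Sg, μ (pplus R x p s) = s 1 := fun s hs => hμ ⟨s, hs⟩
  set c : k := (Nat.card H : k)⁻¹ with hc
  -- the endomorphism θ
  set θ : (G → S) →ₗ[k] (G → S) :=
    LinearMap.pi fun y => ∑ n : N, c • ((σ n⁻¹) ∘ₗ μ ∘ₗ R ((n : G) * y)) with hθ
  have hθapp : ∀ φ y, θ φ y = ∑ n : N, c • σ n⁻¹ (μ (R ((n : G) * y) φ)) := by
    intro φ y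
    simp [hθ, LinearMap.sum_apply]
  have hθM : ∀ φ, θ φ ∈ M := by
    intro φ n₀ y
    rw [hθapp, hθapp, map_sum]
    refine Fintype.sum_equiv (Equiv.mulRight n₀) _ _ ?_
    intro n
    simp only [Equiv.coe_mulRight, Subgroup.coe_mul, mul_assoc]
    rw [map_smul]
    congr 1
    rw [← Module.End.mul_apply, ← map_mul]
    congr 2
    group
  have hθR : ∀ g φ, θ (R g φ) = R g (θ φ) := by
    intro g φ
    funext y
    rw [hθapp, rregS_apply, hθapp]
    refine Finset.sum_congr rfl fun n _ => ?_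
    congr 3
    rw [← mul_assoc]
    exact (rep_mul_apply R _ g φ).symm
  have hθP : ∀ φ, θ (pplus R x p φ) = pplus R x p (θ φ) := by
    intro φ
    rw [pplus_apply, pplus_apply, map_sum]
    exact Finset.sum_congr rfl fun i _ => hθR _ _
  have hHsum : (∑ _h : H, c) = 1 := by
    rw [Finset.sum_const, Finset.card_univ, ← Nat.card_eq_fintype_card, nsmul_eq_mul, hc,
      mul_inv_cancel₀ hcard]
  have hθid : ∀ s ∈ Sg, θ s = s := by
    intro s hs
    funext y
    rw [hθapp, sum_N_sub (k := k) hd hcard hx1]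
    have hin : ∀ h : H, ∑ i ∈ Finset.range p,
        c • σ ((⟨x ^ i * (h : G), N.mul_mem (N.pow_mem hd.hxN _) (hd.hHN h.2)⟩ : N)⁻¹)
          (μ (R (x ^ i * (h : G) * y) s)) = c • s y := by
      intro h
      have hl : ∀ i : ℕ,
          σ ((⟨x ^ i * (h : G), N.mul_mem (N.pow_mem hd.hxN _) (hd.hHN h.2)⟩ : N)⁻¹) =
          σ ((⟨h, hd.hHN h.2⟩ : N)⁻¹) := by
        intro i
        have : (⟨x ^ i * (h : G), N.mul_mem (N.pow_mem hd.hxN _) (hd.hHN h.2)⟩ : N) =
            (⟨x, hd.hxN⟩ : N) ^ i * ⟨h, hd.hHN h.2⟩ := by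
          apply Subtype.ext; simp
        rw [this, mul_inv_rev, map_mul, hσxinv, mul_one]
      simp only [hl]
      rw [← Finset.smul_sum, ← map_sum, ← map_sum]
      have hmem : R (h : G) (R y s) ∈ Sg := hSgs _ _ (hSgs _ _ hs)
      have hsum : ∑ i ∈ Finset.range p, R (x ^ i * (h : G) * y) s =
          pplus R x p (R (h : G) (R y s)) := by
        rw [pplus_apply]
        refine Finset.sum_congr rfl fun i _ => ?_
        rw [map_mul, map_mul]
        rfl
      rw [hsum, hμ' _ hmem]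
      have h1 : R (h : G) (R y s) 1 = σ ⟨h, hd.hHN h.2⟩ (s y) := by
        rw [rregS_apply, rregS_apply, one_mul]
        exact (hSgM hs) ⟨h, hd.hHN h.2⟩ y
      rw [h1, rep_inv_eq]
    rw [Finset.sum_congr rfl fun h _ => hin h, ← Finset.sum_smul, hHsum, one_smul]
  have hθzero : ∀ ψ, pplus R x p ψ = 0 → θ ψ 1 = 0 := by
    intro ψ hψ
    rw [hθapp, sum_N_sub' (k := k) hd hcard hx1]
    refine Finset.sum_eq_zero fun h _ => ?_
    have hl : ∀ i : ℕ,
        σ ((⟨(h : G) * x ^ i, N.mul_mem (hd.hHN h.2) (N.pow_mem hd.hxN _)⟩ : N)⁻¹) =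
        σ ((⟨h, hd.hHN h.2⟩ : N)⁻¹) := by
      intro i
      have : (⟨(h : G) * x ^ i, N.mul_mem (hd.hHN h.2) (N.pow_mem hd.hxN _)⟩ : N) =
          ⟨h, hd.hHN h.2⟩ * (⟨x, hd.hxN⟩ : N) ^ i := by
        apply Subtype.ext; simp
      rw [this, mul_inv_rev, map_mul, hσxinv, one_mul]
    simp only [hl]
    rw [← Finset.smul_sum, ← map_sum, ← map_sum]
    have hsum : ∑ i ∈ Finset.range p, R ((h : G) * x ^ i * 1) ψ =
        R (h : G) (pplus R x p ψ) := by
      rw [pplus_apply, map_sum]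
      refine Finset.sum_congr rfl fun i _ => ?_
      rw [mul_one, map_mul]
      rfl
    rw [hsum, hψ, map_zero, map_zero, map_zero, smul_zero]
  -- θ is injective on M
  have hθinj : M ⊓ LinearMap.ker θ = ⊥ := by
    by_contra hne
    have hLs : GStabS (M ⊓ LinearMap.ker θ) := by
      intro g v hv
      obtain ⟨hvM, hvk⟩ := Submodule.mem_inf.mp hv
      refine Submodule.mem_inf.mpr ⟨hMstab g v hvM, ?_⟩
      rw [LinearMap.mem_ker] at hvk ⊢
      rw [hθR, hvk, map_zero]
    have h1 := hess _ inf_le_left hne hLs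
    apply h1
    rw [eq_bot_iff]
    intro t ht
    obtain ⟨htL, htS⟩ := Submodule.mem_inf.mp ht
    have h2 := LinearMap.mem_ker.mp (Submodule.mem_inf.mp htL).2
    rw [hθid t htS] at h2
    rw [h2]
    exact Submodule.zero_mem _
  -- restrict θ to M
  set θM : M →ₗ[k] M := LinearMap.codRestrict M (θ ∘ₗ M.subtype) (fun v => hθM _) with hθMdef
  have hθMinj : Function.Injective θM := by
    rw [← LinearMap.ker_eq_bot, eq_bot_iff]
    intro v hv
    rw [LinearMap.mem_ker] at hv
    have h1 : θ (v : G → S) = 0 := by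
      have := congrArg Subtype.val hv
      simpa [hθMdef] using this
    have h2 : (v : G → S) ∈ M ⊓ LinearMap.ker θ :=
      Submodule.mem_inf.mpr ⟨v.2, LinearMap.mem_ker.mpr h1⟩
    rw [hθinj, Submodule.mem_bot] at h2
    rw [Submodule.mem_bot]
    exact Subtype.ext h2
  have hθMsurj : Function.Surjective θM := LinearMap.injective_iff_surjective.mp hθMinj
  -- the function φ₁
  obtain ⟨s₀, hs₀⟩ := exists_ne (0 : S)
  set φ₁ : G → S := fun g => if h : g ∈ N then σ ⟨g, h⟩ s₀ else 0 with hφ₁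
  have hφ₁M : φ₁ ∈ M := by
    intro n y
    simp only [hφ₁]
    by_cases hy : y ∈ N
    · rw [dif_pos hy, dif_pos (N.mul_mem n.2 hy), ← Module.End.mul_apply, ← map_mul]
      rfl
    · have : (n : G) * y ∉ N := fun h => hy (by
        have := N.mul_mem (N.inv_mem n.2) h
        simpa using this)
      rw [dif_neg hy, dif_neg this, map_zero]
  have hφ₁x : ∀ i : ℕ, R (x ^ i) φ₁ = φ₁ := by
    intro i
    funext y
    rw [rregS_apply]
    simp only [hφ₁]
    by_cases hy : y ∈ N
    · rw [dif_pos hy, dif_pos (N.mul_mem hy (N.pow_mem hd.hxN i))]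
      have : (⟨y * x ^ i, N.mul_mem hy (N.pow_mem hd.hxN i)⟩ : N) =
          ⟨y, hy⟩ * (⟨x, hd.hxN⟩ : N) ^ i := by
        apply Subtype.ext; simp
      rw [this, map_mul, hσxi, mul_one]
    · have : y * x ^ i ∉ N := fun h => hy (by
        have := N.mul_mem h (N.inv_mem (N.pow_mem hd.hxN i))
        simpa using this)
      rw [dif_neg hy, dif_neg this]
  have hφ₁P : pplus R x p φ₁ = 0 := by
    rw [pplus_apply, Finset.sum_congr rfl fun i _ => hφ₁x i, Finset.sum_const, Finset.card_range,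
      ← Nat.cast_smul_eq_nsmul k, CharP.cast_eq_zero k p, zero_smul]
  have hφ₁1 : φ₁ 1 = s₀ := by
    simp only [hφ₁]
    rw [dif_pos N.one_mem]
    have : (⟨1, N.one_mem⟩ : N) = 1 := rfl
    rw [this, map_one, Module.End.one_apply]
  obtain ⟨ψ, hψ⟩ := hθMsurj ⟨φ₁, hφ₁M⟩
  have hψ' : θ (ψ : G → S) = φ₁ := by
    have := congrArg Subtype.val hψ
    simpa [hθMdef] using this
  have hPψ : pplus R x p (ψ : G → S) = 0 := by
    have h1 : pplus R x p (ψ : G → S) ∈ M ⊓ LinearMap.ker θ := by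
      refine Submodule.mem_inf.mpr ⟨hMstab.pplus x p _ ψ.2, ?_⟩
      rw [LinearMap.mem_ker, hθP, hψ', hφ₁P]
    rw [hθinj, Submodule.mem_bot] at h1
    exact h1
  have := hθzero _ hPψ
  rw [hψ', hφ₁1] at this
  exact hs₀ this

end

end Cfsg.Agent.Helper5.D1
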