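import Mathlib
import Cfsg.Agent.Helper5.GCg

/-!
# Linear independence of the trace functions of pairwise non-isomorphic irreducible representations
-/

set_option autoImplicit false

namespace Cfsg.Agent.Helper5.GC

open Module

section SR

variable {k : Type*} [Field k] {V : Type*} [AddCommGroup V] [Module k V] [FiniteDimensional k V]

/-- A two-sided ideal of `End V` with a non-zero element contains `1`. -/
theorem one_mem_of_ideal (J : Set (Module.End k V)) (h0 : (0 : Module.End k V) ∈ J)
    (hadd : ∀ a ∈ J, ∀ b ∈ J, a + b ∈ J)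
    (hl : ∀ a ∈ J, ∀ b : Module.End k V, b * a ∈ J)
    (hr : ∀ a ∈ J, ∀ b : Module.End k V, a * b ∈ J)
    (T : Module.End k V) (hT : T ∈ J) (hT0 : T ≠ 0) : (1 : Module.End k V) ∈ J := by
  classical
  obtain ⟨v, hv⟩ : ∃ v, T v ≠ 0 := by
    by_contra h
    push Not at h
    exact hT0 (LinearMap.ext fun v => by rw [h v]; rfl)
  obtain ⟨ℓ, hℓ⟩ := Module.Projective.exists_dual_eq_one k hv
  have hrank : ∀ (f : Module.Dual k V) (w : V), f.smulRight w ∈ J := by
    intro f w
    have : f.smulRight w = (ℓ.smulRight w) * T * (f.smulRight v) := by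
      ext u
      simp only [LinearMap.smulRight_apply, Module.End.mul_apply, map_smul, hℓ, one_smul]
    rw [this]
    exact hr _ (hl T hT _) _
  set b := Module.finBasis k V
  have h1 : (1 : Module.End k V) = ∑ i, (b.coord i).smulRight (b i) := by
    ext u
    simp only [Module.End.one_apply, LinearMap.sum_apply, LinearMap.smulRight_apply,
      Basis.coord_apply]
    exact (b.sum_repr u).symm
  rw [h1]
  exact Finset.sum_induction _ (· ∈ J) (fun a b ha hb => hadd a ha b hb) h0 (fun i _ => hrank _ _)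

end SR

section Sep

variable {k : Type*} [Field k] [IsAlgClosed k] {G : Type*} [Group G]

theorem asAlgebraHom_surjective {V : Type*} [AddCommGroup V] [Module k V] [FiniteDimensional k V]
    (ρ : Representation k G V) (hirr : IsIrr ρ) :
    Function.Surjective (Representation.asAlgebraHom ρ) := by
  intro T
  have h := HHT.span_range_eq_top ρ hirr
  have hT : T ∈ Submodule.span k (Set.range ρ) := by rw [h]; trivial
  have hle : Submodule.span k (Set.range ρ) ≤
      LinearMap.range (Representation.asAlgebraHom ρ).toLinearMap := by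
    rw [Submodule.span_le]
    rintro _ ⟨g, rfl⟩
    exact ⟨MonoidAlgebra.of k G g, Representation.asAlgebraHom_of ρ g⟩
  obtain ⟨a, ha⟩ := hle hT
  exact ⟨a, ha⟩

/-- Separation of two non-isomorphic irreducible representations by an element of the group
algebra. -/
theorem exists_sep {V W : Type*} [AddCommGroup V] [Module k V] [FiniteDimensional k V]
    [AddCommGroup W] [Module k W] [FiniteDimensional k W] [Nontrivial V] [Nontrivial W]
    (ρ : Representation k G V) (σ : Representation k G W) (hρ : IsIrr ρ) (hσ : IsIrr σ)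
    (hni : ∀ θ : W →ₗ[k] V, (∀ g w, θ (σ g w) = ρ g (θ w)) → θ = 0) :
    ∃ a : MonoidAlgebra k G, Representation.asAlgebraHom σ a = 0 ∧
      Representation.asAlgebraHom ρ a = 1 := by
  classical
  set Φ := Representation.asAlgebraHom ρ with hΦ
  set Ψ := Representation.asAlgebraHom σ with hΨ
  have hΦs := asAlgebraHom_surjective ρ hρ
  have hΨs := asAlgebraHom_surjective σ hσ
  by_contra hcon
  -- the ideal J
  have hJ : ∀ a, Ψ a = 0 → Φ a = 0 := by
    intro a₀ ha₀
    by_contra hne
    apply hcon
    have := one_mem_of_ideal {T : Module.End k V | ∃ a, Ψ a = 0 ∧ Φ a = T}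
      ⟨0, map_zero _, map_zero _⟩
      (by
        rintro _ ⟨a, ha, rfl⟩ _ ⟨b, hb, rfl⟩
        exact ⟨a + b, by rw [map_add, ha, hb, add_zero], map_add _ _ _⟩)
      (by
        rintro _ ⟨a, ha, rfl⟩ b
        obtain ⟨b', rfl⟩ := hΦs b
        exact ⟨b' * a, by rw [map_mul, ha, mul_zero], map_mul _ _ _⟩)
      (by
        rintro _ ⟨a, ha, rfl⟩ b
        obtain ⟨b', rfl⟩ := hΦs b
        exact ⟨a * b', by rw [map_mul, ha, zero_mul], map_mul _ _ _⟩)
      (Φ a₀) ⟨a₀, ha₀, rfl⟩ hne
    exact this
  have hK : ∀ a, Φ a = 0 → Ψ a = 0 := by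
    intro a₀ ha₀
    by_contra hne
    have := one_mem_of_ideal {T : Module.End k W | ∃ a, Φ a = 0 ∧ Ψ a = T}
      ⟨0, map_zero _, map_zero _⟩
      (by
        rintro _ ⟨a, ha, rfl⟩ _ ⟨b, hb, rfl⟩
        exact ⟨a + b, by rw [map_add, ha, hb, add_zero], map_add _ _ _⟩)
      (by
        rintro _ ⟨a, ha, rfl⟩ b
        obtain ⟨b', rfl⟩ := hΨs b
        exact ⟨b' * a, by rw [map_mul, ha, mul_zero], map_mul _ _ _⟩)
      (by
        rintro _ ⟨a, ha, rfl⟩ b
        obtain ⟨b', rfl⟩ := hΨs b
        exact ⟨a * b', by rw [map_mul, ha, zero_mul], map_mul _ _ _⟩)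
      (Ψ a₀) ⟨a₀, ha₀, rfl⟩ hne
    obtain ⟨a, ha, ha1⟩ := this
    have h1 : Ψ (a - 1) = 0 := by rw [map_sub, ha1, map_one, sub_self]
    have h2 := hJ _ h1
    rw [map_sub, ha, map_one, zero_sub, neg_eq_zero] at h2
    exact one_ne_zero h2
  -- build the equivariant map
  obtain ⟨w₀, hw₀⟩ := exists_ne (0 : W)
  obtain ⟨f₀, hf₀⟩ := Module.Projective.exists_dual_eq_one k hw₀
  obtain ⟨s, hs⟩ := LinearMap.exists_rightInverse_of_surjective Ψ.toLinearMap
    (LinearMap.range_eq_top.mpr hΨs)
  have hs' : ∀ T, Ψ (s T) = T := fun T => LinearMap.congr_fun hs T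
  set E := f₀.smulRight w₀ with hE
  have hE0 : Φ (s E) ≠ 0 := by
    intro h
    have h2 := hK _ h
    rw [hs'] at h2
    have : E w₀ = w₀ := by rw [hE, LinearMap.smulRight_apply, hf₀, one_smul]
    rw [h2] at this
    exact hw₀ this.symm
  obtain ⟨v₁, hv₁⟩ : ∃ v, Φ (s E) v ≠ 0 := by
    by_contra h
    push Not at h
    exact hE0 (LinearMap.ext fun v => by rw [h v]; rfl)
  have hsr_add : ∀ w w' : W, f₀.smulRight (w + w') = f₀.smulRight w + f₀.smulRight w' := by
    intro w w'
    ext u
    simp only [LinearMap.smulRight_apply, LinearMap.add_apply, smul_add]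
  have hsr_smul : ∀ (c : k) (w : W), f₀.smulRight (c • w) = c • f₀.smulRight w := by
    intro c w
    ext u
    rw [LinearMap.smulRight_apply, LinearMap.smul_apply, LinearMap.smulRight_apply, smul_comm]
  let θ : W →ₗ[k] V :=
    { toFun := fun w => Φ (s (f₀.smulRight w)) v₁
      map_add' := by
        intro w w'
        rw [hsr_add, map_add, map_add, LinearMap.add_apply]
      map_smul' := by
        intro c w
        rw [hsr_smul, map_smul, map_smul, LinearMap.smul_apply, RingHom.id_apply] }
  have hθ : ∀ g w, θ (σ g w) = ρ g (θ w) := by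
    intro g w
    show Φ (s (f₀.smulRight (σ g w))) v₁ = ρ g (Φ (s (f₀.smulRight w)) v₁)
    have h1 : f₀.smulRight (σ g w) = σ g * f₀.smulRight w := by
      ext u
      simp only [LinearMap.smulRight_apply, Module.End.mul_apply, map_smul]
    have h2 : Ψ (s (f₀.smulRight (σ g w)) - MonoidAlgebra.of k G g * s (f₀.smulRight w)) = 0 := by
      rw [map_sub, map_mul, hs', hs', hΨ, Representation.asAlgebraHom_of, h1, sub_self]
    have h3 := hJ _ h2
    rw [map_sub, map_mul, sub_eq_zero, hΦ, Representation.asAlgebraHom_of] at h3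
    rw [← hΦ] at h3
    rw [h3]
    rfl
  have := hni θ hθ
  apply hv₁
  have h4 : θ w₀ = Φ (s E) v₁ := rfl
  rw [← h4, this, LinearMap.zero_apply]

end Sep

section Indep

variable {k : Type*} [Field k] [IsAlgClosed k] {G : Type*} [Group G]

theorem trace_indep {ι : Type*} [Fintype ι] [DecidableEq ι] {V : ι → Type*}
    [∀ i, AddCommGroup (V i)] [∀ i, Module k (V i)] [∀ i, FiniteDimensional k (V i)]
    [∀ i, Nontrivial (V i)]
    (ρ : ∀ i, Representation k G (V i)) (hirr : ∀ i, IsIrr (ρ i))
    (hni : ∀ i j, i ≠ j → ∀ θ : V j →ₗ[k] V i, (∀ g w, θ (ρ j g w) = ρ i g (θ w)) → θ = 0)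
    (c : ι → k) (hc : ∀ g : G, ∑ i, c i * LinearMap.trace k (V i) (ρ i g) = 0) :
    ∀ i, c i = 0 := by
  classical
  -- extend to the group algebra
  have hext : ∀ a : MonoidAlgebra k G,
      ∑ i, c i * LinearMap.trace k (V i) (Representation.asAlgebraHom (ρ i) a) = 0 := by
    intro a
    induction a using MonoidAlgebra.induction_on with
    | of g =>
      simp only [Representation.asAlgebraHom_of]
      exact hc g
    | add a b ha hb =>
      simp only [map_add, mul_add, Finset.sum_add_distrib, ha, hb, add_zero]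
    | smul r a ha =>
      simp only [map_smul, smul_eq_mul]
      have : ∀ i, c i * (r * LinearMap.trace k (V i) (Representation.asAlgebraHom (ρ i) a)) =
          r * (c i * LinearMap.trace k (V i) (Representation.asAlgebraHom (ρ i) a)) := by
        intro i; ring
      simp only [this, ← Finset.mul_sum, ha, mul_zero]
  intro i
  -- an element acting as 1 on V i and as 0 on the others
  have hsep : ∀ T : Finset ι, i ∉ T → ∃ a : MonoidAlgebra k G,
      Representation.asAlgebraHom (ρ i) a = 1 ∧
        ∀ j ∈ T, Representation.asAlgebraHom (ρ j) a = 0 := by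
    intro T
    induction T using Finset.induction_on with
    | empty => intro _; exact ⟨1, map_one _, by simp⟩
    | insert j T hjT ih =>
      intro hi
      have hij : i ≠ j := fun h => hi (h ▸ Finset.mem_insert_self _ _)
      have hiT : i ∉ T := fun h => hi (Finset.mem_insert_of_mem h)
      obtain ⟨a, ha1, ha0⟩ := ih hiT
      obtain ⟨b, hb0, hb1⟩ := exists_sep (ρ i) (ρ j) (hirr i) (hirr j) (hni i j hij)
      refine ⟨a * b, by rw [map_mul, ha1, hb1, mul_one], ?_⟩
      intro l hl
      rcases Finset.mem_insert.mp hl with rfl | hl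
      · rw [map_mul, hb0, mul_zero]
      · rw [map_mul, ha0 l hl, zero_mul]
  obtain ⟨a, ha1, ha0⟩ := hsep (Finset.univ.erase i) (Finset.notMem_erase i _)
  obtain ⟨v₀, hv₀⟩ := exists_ne (0 : V i)
  obtain ⟨f₀, hf₀⟩ := Module.Projective.exists_dual_eq_one k hv₀
  obtain ⟨e, he⟩ := asAlgebraHom_surjective (ρ i) (hirr i) (f₀.smulRight v₀)
  have key := hext (a * e)
  rw [Finset.sum_eq_single i] at key
  · rw [map_mul, ha1, one_mul, he, LinearMap.trace_smulRight, hf₀, mul_one] at key
    exact key
  · intro j _ hji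
    rw [map_mul, ha0 j (Finset.mem_erase.mpr ⟨hji, Finset.mem_univ _⟩), zero_mul, map_zero,
      mul_zero]
  · intro h; exact absurd (Finset.mem_univ i) h

end Indep

end Cfsg.Agent.Helper5.GC
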