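import Mathlib
import Cfsg.Agent.Helper5.GCj
import Cfsg.Agent.Helper5.GCk
import Cfsg.Agent.Helper5.HHTe

/-!
# Simple submodules of coinduced modules: irreducibility, non-isomorphism, central character
-/

set_option autoImplicit false

namespace Cfsg.Agent.Helper5.GC

open Module

variable {k : Type*} [Field k] {G : Type*} [Group G]

theorem pow_generates {x : G} {p : ℕ} (hp : p.Prime) (hxp : x ^ p = 1) (i : ℕ) (hi0 : 0 < i)
    (hip : i < p) : ∃ a : ℕ, (x ^ i) ^ a = x := by
  have hcop : Nat.Coprime i p :=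
    ((Nat.Prime.coprime_iff_not_dvd hp).mpr (Nat.not_dvd_of_pos_of_lt hi0 hip)).symm
  obtain ⟨a, -, ha⟩ := Nat.exists_mul_mod_eq_one_of_coprime hcop hp.one_lt
  refine ⟨a, ?_⟩
  rw [← pow_mul]
  conv_lhs => rw [← Nat.div_add_mod (i * a) p, ha, pow_add, pow_mul, hxp, one_pow, one_mul, pow_one]

/-- In characteristic `p`-style orbit counting: the sum over the elements not commuting with `x`
vanishes as soon as every orbit sum under conjugation by `⟨x⟩` does. -/
theorem sum_not_comm_eq_zero [Fintype G] [DecidableEq G] {M : Type*} [AddCommMonoid M] (x : G)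
    (p : ℕ) (hp : p.Prime) (hxp : x ^ p = 1) (F : G → M)
    (hF : ∀ g, g * x ≠ x * g → ∑ i ∈ Finset.range p, F (x ^ i * g * (x ^ i)⁻¹) = 0) :
    ∑ g ∈ Finset.univ.filter (fun g => g * x ≠ x * g), F g = 0 := by
  have hαp : (ConjAct.toConjAct x) ^ p = 1 := by rw [← map_pow, hxp, map_one]
  have hsm : ∀ (i : ℕ) (g : G), (ConjAct.toConjAct x ^ i) • g = x ^ i * g * (x ^ i)⁻¹ := by
    intro i g; rw [← map_pow, ConjAct.toConjAct_smul]
  obtain ⟨R, hRT, hR⟩ := HHT.orbit_sum (Γ := ConjAct G) (X := G) (ConjAct.toConjAct x) p hp.pos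
    hαp F (Finset.univ.filter (fun g => g * x ≠ x * g)) (by
      intro g hg
      rw [Finset.mem_filter] at hg ⊢
      refine ⟨Finset.mem_univ _, ?_⟩
      rw [ConjAct.toConjAct_smul]
      intro h
      apply hg.2
      have h1 : x * g * x⁻¹ * x = x * (x * g * x⁻¹) := h
      have h2 : x * g = x * (x * g * x⁻¹) := by
        rw [← h1]; group
      have h3 := mul_left_cancel h2
      calc g * x = x * g * x⁻¹ * x := by rw [← h3]
        _ = x * g := by group) (by
      intro g hg i hi0 hip h
      rw [hsm] at h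
      apply (Finset.mem_filter.mp hg).2
      have hc : Commute g (x ^ i) := by
        show g * x ^ i = x ^ i * g
        calc g * x ^ i = x ^ i * g * (x ^ i)⁻¹ * x ^ i := by rw [h]
          _ = x ^ i * g := by group
      obtain ⟨a, ha⟩ := pow_generates hp hxp i hi0 hip
      have := (hc.pow_right a).eq
      rwa [ha] at this)
  rw [hR]
  apply Finset.sum_eq_zero
  intro r hr
  have := hF r (Finset.mem_filter.mp (hRT hr)).2
  simp only [hsm]
  exact this

/-- Sum over the group of a function invariant under conjugation by `x`, in characteristic `p`. -/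
theorem sum_eq_sum_comm [Fintype G] [DecidableEq G] (x : G) (p : ℕ) [hp : Fact p.Prime] [CharP k p]
    (hxp : x ^ p = 1) (F : G → k) (hF : ∀ g, F (x * g * x⁻¹) = F g) :
    ∑ g, F g = ∑ g ∈ Finset.univ.filter (fun g => g * x = x * g), F g := by
  rw [← Finset.sum_filter_add_sum_filter_not Finset.univ (fun g => g * x = x * g)]
  have hpow : ∀ (i : ℕ) g, F (x ^ i * g * (x ^ i)⁻¹) = F g := by
    intro i
    induction i with
    | zero => intro g; simp
    | succ i ih =>
      intro g
      have : x ^ (i + 1) * g * (x ^ (i + 1))⁻¹ = x * (x ^ i * g * (x ^ i)⁻¹) * x⁻¹ := by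
        rw [pow_succ']; group
      rw [this, hF, ih]
  have := sum_not_comm_eq_zero x p hp.out hxp F (by
    intro g _
    rw [Finset.sum_congr rfl fun i _ => hpow i g, Finset.sum_const, Finset.card_range,
      nsmul_eq_mul, CharP.cast_eq_zero, zero_mul])
  rw [this, add_zero]

/-- A simple submodule of a coinduced module, with stably non-zero evaluation at `1`. -/
structure SimpleTop (N : Subgroup G) (x : G) (p : ℕ) (lam : N →* k) (S : Submodule k (G → k)) :
    Prop where
  le : S ≤ coind N lam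
  ne : S ≠ ⊥
  stab : GStab S
  min : ∀ S' ≤ S, GStab S' → S' = ⊥ ∨ S' = S
  top : ∃ s ∈ S, pplus (rreg k G) x p s = 0 ∧ s 1 ≠ 0

/-- The representation on a stable subspace of the regular module. -/
noncomputable def srep (S : Submodule k (G → k)) (hS : GStab S) : Representation k G S :=
  subR (rreg k G) S hS

theorem srep_coe (S : Submodule k (G → k)) (hS : GStab S) (g : G) (v : S) :
    ((srep S hS g v : S) : G → k) = rreg k G g (v : G → k) := rfl

theorem pplus_srep (S : Submodule k (G → k)) (hS : GStab S) (x : G) (p : ℕ) (v : S) :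
    ((pplus (srep S hS) x p v : S) : G → k) = pplus (rreg k G) x p (v : G → k) := by
  rw [pplus_apply, pplus_apply, Submodule.coe_sum]
  rfl

theorem isIrr_srep {S : Submodule k (G → k)} (hS : GStab S)
    (hmin : ∀ S' ≤ S, GStab S' → S' = ⊥ ∨ S' = S) : IsIrr (srep S hS) := by
  intro U hU
  have hU' : GStab (U.map S.subtype) := by
    rintro g _ ⟨u, hu, rfl⟩
    exact ⟨srep S hS g u, hU g ⟨u, hu, rfl⟩, rfl⟩
  have hle : U.map S.subtype ≤ S := by
    rintro _ ⟨u, -, rfl⟩
    exact u.2
  rcases hmin _ hle hU' with h | h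
  · left
    rw [eq_bot_iff]
    intro u hu
    have : (u : G → k) ∈ U.map S.subtype := ⟨u, hu, rfl⟩
    rw [h, Submodule.mem_bot] at this
    rw [Submodule.mem_bot]
    exact Subtype.ext this
  · right
    rw [eq_top_iff]
    intro w _
    have : (w : G → k) ∈ U.map S.subtype := by rw [h]; exact w.2
    obtain ⟨u, hu, huw⟩ := this
    have : u = w := Subtype.ext huw
    rwa [← this]

section

variable [Finite G]

/-- Simple submodules with different stable tops admit no non-zero homomorphisms. -/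
theorem hom_eq_zero_of_ne [IsAlgClosed k] {N H : Subgroup G} {x : G} {p : ℕ} [Fact p.Prime]
    [CharP k p] (hd : TIData G N H x p) (hcard : (Nat.card H : k) ≠ 0)
    {lam lam' : N →* k} {S S' : Submodule k (G → k)} (hS : SimpleTop N x p lam S)
    (hS' : SimpleTop N x p lam' S') (hne : lam ≠ lam')
    (θ : S →ₗ[k] S') (hθ : ∀ g v, θ (srep S hS.stab g v) = srep S' hS'.stab g (θ v)) : θ = 0 := by
  by_contra hθ0
  apply hne
  have hirr := isIrr_srep hS.stab hS.min
  have hirr' := isIrr_srep hS'.stab hS'.min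
  haveI : Nontrivial S := Submodule.nontrivial_iff_ne_bot.mpr hS.ne
  -- θ is injective
  have hinj : LinearMap.ker θ = ⊥ := by
    rcases hirr (LinearMap.ker θ) (by
      rintro g _ ⟨v, hv, rfl⟩
      rw [SetLike.mem_coe, LinearMap.mem_ker] at hv
      rw [LinearMap.mem_ker, hθ, hv, map_zero]) with h | h
    · exact h
    · exfalso
      apply hθ0
      ext v
      have : v ∈ LinearMap.ker θ := by rw [h]; trivial
      rw [LinearMap.mem_ker.mp this]
      rfl
  have hsurj : LinearMap.range θ = ⊤ := by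
    rcases hirr' (LinearMap.range θ) (by
      rintro g _ ⟨_, ⟨v, rfl⟩, rfl⟩
      exact ⟨srep S hS.stab g v, hθ g v⟩) with h | h
    · exfalso
      apply hθ0
      ext v
      have : θ v ∈ LinearMap.range θ := ⟨v, rfl⟩
      rw [h, Submodule.mem_bot] at this
      rw [this]
      rfl
    · exact h
  obtain ⟨s, hsS, hsP, hs1⟩ := hS.top
  obtain ⟨s', hs'S, hs'P, hs'1⟩ := hS'.top
  obtain ⟨v, hv⟩ : ∃ v, θ v = ⟨s', hs'S⟩ := by
    have : (⟨s', hs'S⟩ : S') ∈ LinearMap.range θ := by rw [hsurj]; trivial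
    exact this
  let ev : (G → k) →ₗ[k] k := LinearMap.proj 1
  refine unique_top (srep S hS.stab) hirr hd hcard lam lam' (ev ∘ₗ S.subtype)
    (ev ∘ₗ S'.subtype ∘ₗ θ) ?_ ?_ ⟨⟨s, hsS⟩, ?_, hs1⟩ ⟨v, ?_, ?_⟩
  · intro n w
    exact coind_semi (hS.le w.2) n
  · intro n w
    show ((θ (srep S hS.stab (n : G) w) : S') : G → k) 1 = lam' n * ((θ w : S') : G → k) 1
    rw [hθ]
    exact coind_semi (hS'.le (θ w).2) n
  · apply Subtype.ext
    rw [pplus_srep]
    exact hsP
  · have h1 : θ (pplus (srep S hS.stab) x p v) = 0 := by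
      rw [pplus_apply, map_sum]
      simp only [hθ]
      rw [← pplus_apply, hv]
      apply Subtype.ext
      rw [pplus_srep]
      exact hs'P
    have : pplus (srep S hS.stab) x p v ∈ LinearMap.ker θ := h1
    rw [hinj, Submodule.mem_bot] at this
    exact this
  · show ((θ v : S') : G → k) 1 ≠ 0
    rw [hv]
    exact hs'1

/-- **The central character** of a simple submodule of a coinduced module whose character is
trivial on `C_G(x)`. -/
theorem central_char [Fintype G] [DecidableEq G] [IsAlgClosed k] {N H : Subgroup G} {x : G} {p : ℕ}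
    [hp : Fact p.Prime] [CharP k p] (hd : TIData G N H x p) {lam : N →* k}
    {S : Submodule k (G → k)} (hS : SimpleTop N x p lam S)
    (hlamC : ∀ n : N, (n : G) * x = x * (n : G) → lam n = 1)
    (z : G → k) (hz : ∀ g h : G, z (h * g * h⁻¹) = z g) (v : G → k) (hv : v ∈ S) :
    ∑ g, z g • rreg k G g v =
      (∑ g ∈ Finset.univ.filter (fun g => g * x = x * g), z g) • v := by
  have hirr := isIrr_srep hS.stab hS.min
  haveI : Nontrivial S := Submodule.nontrivial_iff_ne_bot.mpr hS.ne
  set ρ := srep S hS.stab with hρ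
  set T : Module.End k S := ∑ g, z g • ρ g with hT
  have hcomm : ∀ h, T * ρ h = ρ h * T := by
    intro h
    rw [hT, Finset.sum_mul, Finset.mul_sum]
    simp only [smul_mul_assoc, mul_smul_comm, ← map_mul]
    refine Fintype.sum_equiv (MulAut.conj h⁻¹).toEquiv _ _ ?_
    intro g
    simp only [MulEquiv.toEquiv_eq_coe, MulEquiv.coe_toEquiv, MulAut.conj_apply]
    rw [hz]
    congr 2
    group
  obtain ⟨c, hc⟩ := HHT.schur ρ hirr T hcomm
  obtain ⟨s, hsS, hsP, hs1⟩ := hS.top
  -- evaluate at s
  have hlamx : lam ⟨x, hd.hxN⟩ = 1 := char_x_eq_one lam (⟨x, hd.hxN⟩ : N) p hd.pow_eq_one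
  have hTs : ((T ⟨s, hsS⟩ : S) : G → k) 1 = ∑ g, z g * s g := by
    rw [hT, LinearMap.sum_apply, Submodule.coe_sum, Finset.sum_apply]
    refine Finset.sum_congr rfl fun g _ => ?_
    rw [LinearMap.smul_apply, Submodule.coe_smul, Pi.smul_apply, smul_eq_mul, hρ, srep_coe,
      rreg_apply, one_mul]
  have hTs' : ((T ⟨s, hsS⟩ : S) : G → k) 1 = c * s 1 := by
    rw [hc, LinearMap.smul_apply, Module.End.one_apply, Submodule.coe_smul, Pi.smul_apply,
      smul_eq_mul]
  have hsplit : ∑ g, z g * s g =
      (∑ g ∈ Finset.univ.filter (fun g => g * x = x * g), z g) * s 1 := by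
    rw [← Finset.sum_filter_add_sum_filter_not Finset.univ (fun g => g * x = x * g)]
    have h0 := sum_not_comm_eq_zero x p hp.out hd.hxp (fun g => z g * s g) (by
      intro g _
      have h1 : ∀ i ∈ Finset.range p, z (x ^ i * g * (x ^ i)⁻¹) * s (x ^ i * g * (x ^ i)⁻¹) =
          z g * rreg k G ((x ^ i)⁻¹) s g := by
        intro i _
        rw [hz, rreg_apply, mul_assoc]
        have := hS.le hsS ⟨x ^ i, N.pow_mem hd.hxN i⟩ (g * (x ^ i)⁻¹)
        rw [this]
        have hl : lam ⟨x ^ i, N.pow_mem hd.hxN i⟩ = 1 := by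
          have : (⟨x ^ i, N.pow_mem hd.hxN i⟩ : N) = (⟨x, hd.hxN⟩ : N) ^ i := rfl
          rw [this, map_pow, hlamx, one_pow]
        rw [hl, one_mul]
      rw [Finset.sum_congr rfl h1, ← Finset.mul_sum]
      have h2 := sum_range_pow_inv x p hp.out.pos hd.hxp (fun y => rreg k G y s g)
      rw [h2]
      have h3 : ∑ i ∈ Finset.range p, rreg k G (x ^ i) s g = pplus (rreg k G) x p s g := by
        rw [pplus_apply, Finset.sum_apply]
      rw [h3, hsP, Pi.zero_apply, mul_zero])
    rw [h0, add_zero, Finset.sum_mul]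
    refine Finset.sum_congr rfl fun g hg => ?_
    have hgx := (Finset.mem_filter.mp hg).2
    have hgN : g ∈ N := by
      by_contra hgN
      have := hd.ti g hgN 1 Nat.one_pos hp.out.one_lt
      apply this
      rw [pow_one, mul_assoc, ← hgx, inv_mul_cancel_left]
      exact hd.hxN
    have := hS.le hsS ⟨g, hgN⟩ 1
    rw [mul_one] at this
    rw [this, hlamC ⟨g, hgN⟩ hgx, one_mul]
  have hcval : c = ∑ g ∈ Finset.univ.filter (fun g => g * x = x * g), z g := by
    have := hTs.symm.trans hTs'
    rw [hsplit] at this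
    exact (mul_right_cancel₀ hs1 this).symm
  rw [← hcval]
  have hTv : ((T ⟨v, hv⟩ : S) : G → k) = ∑ g, z g • rreg k G g v := by
    rw [hT, LinearMap.sum_apply, Submodule.coe_sum]
    refine Finset.sum_congr rfl fun g _ => ?_
    rw [LinearMap.smul_apply, Submodule.coe_smul, hρ, srep_coe]
  rw [← hTv, hc, LinearMap.smul_apply, Module.End.one_apply, Submodule.coe_smul]

end

end Cfsg.Agent.Helper5.GC
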