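import Mathlib
import Cfsg.Agent.Helper5.GCl

/-!
# Class functions with values in `k`, trace functions of simple modules, the Brauer map at `C_G(x)`
-/

set_option autoImplicit false

namespace Cfsg.Agent.Helper5.GC

open Module

variable {k : Type*} [Field k] {G : Type*} [Group G]

/-- Convolution of `k`-valued functions. -/
def ck [Fintype G] (a b : G → k) : G → k := fun u => ∑ t, a t * b (t⁻¹ * u)

/-- Class functions. -/
def IsCF (z : G → k) : Prop := ∀ g h : G, z (h * g * h⁻¹) = z g

theorem ck_apply [Fintype G] (a b : G → k) (u : G) : ck a b u = ∑ t, a t * b (t⁻¹ * u) := rfl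

/-- The Brauer map at `C_G(x)` is multiplicative on class functions. -/
theorem brauer_mult [Fintype G] [DecidableEq G] (x : G) (p : ℕ) [hp : Fact p.Prime] [CharP k p]
    (hxp : x ^ p = 1) {a b : G → k} (ha : IsCF a) (hb : IsCF b) (u : G) (hu : u * x = x * u) :
    ck a b u = ∑ t ∈ Finset.univ.filter (fun t => t * x = x * t), a t * b (t⁻¹ * u) := by
  rw [ck_apply]
  refine sum_eq_sum_comm x p hxp (fun t => a t * b (t⁻¹ * u)) ?_
  intro t
  beta_reduce
  rw [ha]
  congr 1
  have : (x * t * x⁻¹)⁻¹ * u = x * (t⁻¹ * u) * x⁻¹ := by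
    have hu' : u * x⁻¹ = x⁻¹ * u := by
      calc u * x⁻¹ = x⁻¹ * (x * u) * x⁻¹ := by group
        _ = x⁻¹ * (u * x) * x⁻¹ := by rw [hu]
        _ = x⁻¹ * u := by group
    calc (x * t * x⁻¹)⁻¹ * u = x * t⁻¹ * (x⁻¹ * u) := by group
      _ = x * t⁻¹ * (u * x⁻¹) := by rw [hu']
      _ = x * (t⁻¹ * u) * x⁻¹ := by group
  rw [this, hb]

section Trf

variable [Finite G]

/-- The trace function `g ↦ tr ρ(g⁻¹)` of a stable subspace of the regular module. -/
noncomputable def trf (S : Submodule k (G → k)) (hS : GStab S) : G → k :=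
  fun g => LinearMap.trace k S (srep S hS g⁻¹)

theorem isCF_trf (S : Submodule k (G → k)) (hS : GStab S) : IsCF (trf S hS) := by
  intro g h
  unfold trf
  have : (h * g * h⁻¹)⁻¹ = h * g⁻¹ * h⁻¹ := by group
  have e : srep S hS (h * g⁻¹ * h⁻¹) = srep S hS h * (srep S hS g⁻¹ * srep S hS h⁻¹) := by
    rw [← map_mul, ← map_mul, mul_assoc]
  rw [this, e, LinearMap.trace_mul_comm, mul_assoc, ← map_mul, inv_mul_cancel, map_one, mul_one]

/-- Multiplying by a commuting `p`-element does not change the trace. -/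
theorem trf_unip (S : Submodule k (G → k)) (hS : GStab S) (p : ℕ) [Fact p.Prime] [CharP k p]
    (y c : G) (hy : y ^ p = 1) (hyc : y * c = c * y) : trf S hS (y * c) = trf S hS c := by
  unfold trf
  set ρ := srep S hS
  have hinv : (y * c)⁻¹ = c⁻¹ * y⁻¹ := by group
  have hy' : (y⁻¹) ^ p = 1 := by rw [inv_pow, hy, inv_one]
  have hnil : uop ρ y⁻¹ ^ p = 0 := uop_pow_p ρ y⁻¹ p hy'
  have hdec : ρ y⁻¹ = 1 + uop ρ y⁻¹ := by unfold uop; abel
  have hcomm : Commute (ρ c⁻¹) (uop ρ y⁻¹) := by
    have h0 : ρ c⁻¹ * ρ y⁻¹ = ρ y⁻¹ * ρ c⁻¹ := by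
      rw [← map_mul, ← map_mul]
      congr 1
      have : c⁻¹ * y⁻¹ = (y * c)⁻¹ := by group
      rw [this, hyc]
      group
    show ρ c⁻¹ * (ρ y⁻¹ - 1) = (ρ y⁻¹ - 1) * ρ c⁻¹
    apply LinearMap.ext
    intro v
    have h1 := LinearMap.congr_fun h0 v
    simp only [Module.End.mul_apply] at h1
    simp only [Module.End.mul_apply, LinearMap.sub_apply, Module.End.one_apply, map_sub, h1]
  rw [hinv, map_mul, hdec, mul_add, mul_one, map_add]
  have hn : IsNilpotent (ρ c⁻¹ * uop ρ y⁻¹) := hcomm.isNilpotent_mul_left ⟨p, hnil⟩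
  rw [(LinearMap.isNilpotent_trace_of_isNilpotent hn).eq_zero, add_zero]

end Trf

section CK

variable [Fintype G] [DecidableEq G]

/-- The block idempotent (any class function whose central sum is `ω`) acts on trace functions of
simple modules with trivial central character by the scalar `ω`. -/
theorem ck_trf [IsAlgClosed k] {N H : Subgroup G} {x : G} {p : ℕ}
    [hp : Fact p.Prime] [CharP k p] (hd : TIData G N H x p) {lam : N →* k}
    {S : Submodule k (G → k)} (hS : SimpleTop N x p lam S)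
    (hlamC : ∀ n : N, (n : G) * x = x * (n : G) → lam n = 1)
    (z : G → k) (hz : IsCF z) :
    ck z (trf S hS.stab) =
      (∑ g ∈ Finset.univ.filter (fun g => g * x = x * g), z g) • trf S hS.stab := by
  set ω := ∑ g ∈ Finset.univ.filter (fun g => g * x = x * g), z g with hω
  set ρ := srep S hS.stab with hρ
  have hend : ∑ g, z g • ρ g = ω • (1 : Module.End k S) := by
    ext v : 1
    apply Subtype.ext
    rw [LinearMap.sum_apply, Submodule.coe_sum, LinearMap.smul_apply, Module.End.one_apply,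
      Submodule.coe_smul]
    rw [← central_char hd hS hlamC z hz (v : G → k) v.2]
    refine Finset.sum_congr rfl fun g _ => ?_
    rw [LinearMap.smul_apply, Submodule.coe_smul]
    rfl
  funext u
  rw [ck_apply, Pi.smul_apply, smul_eq_mul]
  unfold trf
  have h1 : ∀ t : G, z t * LinearMap.trace k S (srep S hS.stab (t⁻¹ * u)⁻¹) =
      LinearMap.trace k S (ρ u⁻¹ * (z t • ρ t)) := by
    intro t
    rw [mul_smul_comm, map_smul, smul_eq_mul, ← map_mul]
    congr 3
    group
  rw [Finset.sum_congr rfl fun t _ => h1 t, ← map_sum, ← Finset.mul_sum, hend, mul_smul_comm,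
    mul_one, map_smul, smul_eq_mul]

/-- The indicator function of the conjugacy class of `y`. -/
noncomputable def kap (y : G) : G → k := fun g => by
  classical exact if IsConj y g then 1 else 0

theorem kap_apply (y g : G) [Decidable (IsConj y g)] :
    (kap y : G → k) g = if IsConj y g then 1 else 0 := by
  unfold kap
  congr

theorem isCF_kap (y : G) : IsCF (kap y : G → k) := by
  classical
  intro g h
  rw [kap_apply, kap_apply]
  have : IsConj y (h * g * h⁻¹) ↔ IsConj y g := by
    constructor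
    · intro hc
      exact hc.trans (isConj_iff.mpr ⟨h⁻¹, by group⟩)
    · intro hc
      exact hc.trans (isConj_iff.mpr ⟨h, rfl⟩)
  simp only [this]

/-- Evaluation of `ε * κ_y` at `x^j c₀`. -/
theorem ck_kap_eval (x : G) (p : ℕ) [hp : Fact p.Prime] [CharP k p] (hxp : x ^ p = 1)
    (hCP : ∀ g : G, g * x = x * g → g ^ p = 1 → ∃ i : ℕ, g = x ^ i)
    (ε : G → k) (hεcf : IsCF ε) (hεsing : ∀ g, p ∣ orderOf g → ε g = 0)
    (y : G) (hy : y ^ p = 1) (j : ℕ) (c₀ : G) (hc₀ : c₀ * x = x * c₀) (hreg : ¬ p ∣ orderOf c₀) :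
    ck ε (kap y) (x ^ j * c₀) = kap y (x ^ j) * ε c₀ := by
  classical
  have hcj : Commute c₀ (x ^ j) := (show Commute c₀ x from hc₀).pow_right j
  have hu : (x ^ j * c₀) * x = x * (x ^ j * c₀) := by
    rw [mul_assoc, hc₀, ← mul_assoc, ← mul_assoc, ← pow_succ, ← pow_succ']
  rw [brauer_mult x p hxp hεcf (isCF_kap y) _ hu]
  rw [Finset.sum_eq_single c₀]
  · have : c₀⁻¹ * (x ^ j * c₀) = x ^ j := by
      rw [← hcj.eq]; group
    rw [this, mul_comm]
  · intro t ht htc
    have htx := (Finset.mem_filter.mp ht).2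
    by_cases hconj : IsConj y (t⁻¹ * (x ^ j * c₀))
    · -- then t⁻¹ u is a power of x
      have hpow : (t⁻¹ * (x ^ j * c₀)) ^ p = 1 := by
        obtain ⟨g, hg⟩ := isConj_iff.mp hconj
        rw [← hg, conj_pow, hy, mul_one, mul_inv_cancel]
      have hcomm : (t⁻¹ * (x ^ j * c₀)) * x = x * (t⁻¹ * (x ^ j * c₀)) := by
        have htx' : t⁻¹ * x = x * t⁻¹ := by
          calc t⁻¹ * x = t⁻¹ * (x * t) * t⁻¹ := by group
            _ = t⁻¹ * (t * x) * t⁻¹ := by rw [htx]
            _ = x * t⁻¹ := by group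
        rw [mul_assoc, hu, ← mul_assoc, htx', mul_assoc]
      obtain ⟨l, hl⟩ := hCP _ hcomm hpow
      -- t = x^j c₀ x^{-l}
      have ht : t = (x ^ j * (x ^ l)⁻¹) * c₀ := by
        have h1 : x ^ j * c₀ = t * x ^ l := by rw [← hl]; group
        have hcl : Commute c₀ (x ^ l) := (show Commute c₀ x from hc₀).pow_right l
        calc t = t * x ^ l * (x ^ l)⁻¹ := by group
          _ = x ^ j * c₀ * (x ^ l)⁻¹ := by rw [h1]
          _ = x ^ j * (c₀ * (x ^ l)⁻¹) := by group
          _ = x ^ j * ((x ^ l)⁻¹ * c₀) := by rw [(hcl.inv_right).eq]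
          _ = (x ^ j * (x ^ l)⁻¹) * c₀ := by group
      set w := x ^ j * (x ^ l)⁻¹ with hw
      have hw1 : w ≠ 1 := by
        intro h
        apply htc
        rw [ht, h, one_mul]
      have hwp : w ^ p = 1 := by
        have hc : Commute (x ^ j) ((x ^ l)⁻¹) := ((Commute.refl x).pow_pow j l).inv_right
        rw [hw, hc.mul_pow, inv_pow, ← pow_mul, ← pow_mul, mul_comm j, mul_comm l, pow_mul,
          pow_mul, hxp, one_pow, one_pow, inv_one, mul_one]
      have hword : orderOf w = p := by
        have h1 := orderOf_dvd_of_pow_eq_one hwp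
        rcases (Nat.dvd_prime hp.out).mp h1 with h | h
        · exact absurd (orderOf_eq_one_iff.mp h) hw1
        · exact h
      have hwc : Commute w c₀ := by
        rw [hw]
        exact (hcj.symm).mul_left ((((show Commute c₀ x from hc₀).pow_right l).symm).inv_left)
      have hcop : Nat.Coprime (orderOf w) (orderOf c₀) := by
        rw [hword]
        exact (Nat.Prime.coprime_iff_not_dvd hp.out).mpr hreg
      have hord := hwc.orderOf_mul_eq_mul_orderOf_of_coprime hcop
      rw [hεsing t (by rw [ht, hord, hword]; exact dvd_mul_right _ _), zero_mul]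
    · rw [kap_apply, if_neg hconj, mul_zero]
  · intro h
    exfalso
    exact h (Finset.mem_filter.mpr ⟨Finset.mem_univ _, hc₀⟩)

end CK

end Cfsg.Agent.Helper5.GC
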