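import Mathlib
import Cfsg.Agent.Helper5.GCm
import Cfsg.Agent.Helper5.D1b

/-!
# Defect one, modular part (c): simple submodules of coinduced modules with stable tops:
non-isomorphism, central characters, trace functions
-/

set_option autoImplicit false

namespace Cfsg.Agent.Helper5.D1

open Module Cfsg.Agent.Helper5.GC

universe w

variable {k : Type*} [Field k] {G : Type*} [Group G]

/-- A simple submodule of a coinduced module, with stably non-zero evaluation at `1`. -/
structure SimpleTopS {S : Type*} [AddCommGroup S] [Module k S] (N : Subgroup G) (x : G) (p : ℕ)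
    (σ : Representation k N S) (V : Submodule k (G → S)) : Prop where
  le : V ≤ coindS N σ
  ne : V ≠ ⊥
  stab : GStabS V
  min : ∀ V' ≤ V, GStabS V' → V' = ⊥ ∨ V' = V
  top : ∃ s ∈ V, pplus (rregS k G S) x p s = 0 ∧ s 1 ≠ 0

section

variable {S : Type*} [AddCommGroup S] [Module k S]

/-- The representation on a stable subspace of the regular module. -/
noncomputable def srepS (V : Submodule k (G → S)) (hV : GStabS V) : Representation k G V :=
  subR (rregS k G S) V hV

theorem srepS_coe (V : Submodule k (G → S)) (hV : GStabS V) (g : G) (v : V) :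
    ((srepS V hV g v : V) : G → S) = rregS k G S g (v : G → S) := rfl

theorem pplus_srepS (V : Submodule k (G → S)) (hV : GStabS V) (x : G) (p : ℕ) (v : V) :
    ((pplus (srepS V hV) x p v : V) : G → S) = pplus (rregS k G S) x p (v : G → S) := by
  rw [pplus_apply, pplus_apply, Submodule.coe_sum]
  rfl

theorem isIrr_srepS {V : Submodule k (G → S)} (hV : GStabS V)
    (hmin : ∀ V' ≤ V, GStabS V' → V' = ⊥ ∨ V' = V) : IsIrr (srepS V hV) := by
  intro U hU
  have hU' : GStabS (U.map V.subtype) := by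
    rintro g _ ⟨u, hu, rfl⟩
    exact ⟨srepS V hV g u, hU g ⟨u, hu, rfl⟩, rfl⟩
  have hle : U.map V.subtype ≤ V := by
    rintro _ ⟨u, -, rfl⟩
    exact u.2
  rcases hmin _ hle hU' with h | h
  · left
    rw [eq_bot_iff]
    intro u hu
    have : (u : G → S) ∈ U.map V.subtype := ⟨u, hu, rfl⟩
    rw [h, Submodule.mem_bot] at this
    rw [Submodule.mem_bot]
    exact Subtype.ext this
  · right
    rw [eq_top_iff]
    intro w _
    have : (w : G → S) ∈ U.map V.subtype := by rw [h]; exact w.2
    obtain ⟨u, hu, huw⟩ := this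
    have : u = w := Subtype.ext huw
    rwa [← this]

theorem coindS_semi {N : Subgroup G} {σ : Representation k N S} {φ : G → S}
    (hφ : φ ∈ coindS N σ) (n : N) : rregS k G S (n : G) φ 1 = σ n (φ 1) := by
  rw [rregS_apply, one_mul]
  have := hφ n 1
  rwa [mul_one] at this

end

section

variable [Fintype G]

/-- Simple submodules with separated stable tops admit no non-zero homomorphisms. -/
theorem hom_eq_zero_of_sep [IsAlgClosed k] {N H : Subgroup G} [Fintype N] {x : G} {p : ℕ}
    [Fact p.Prime] [CharP k p] (hd : TIData G N H x p) (hcard : (Nat.card H : k) ≠ 0)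
    {S S' : Type w} [AddCommGroup S] [Module k S] [FiniteDimensional k S]
    [AddCommGroup S'] [Module k S'] [FiniteDimensional k S']
    {σ : Representation k N S} {σ' : Representation k N S'}
    (hσx : σ ⟨x, hd.hxN⟩ = 1) (hσ'x : σ' ⟨x, hd.hxN⟩ = 1)
    (A : N → k) (hA : ∀ s, ∑ γ, A γ • σ γ s = s) (hA' : ∀ s', ∑ γ, A γ • σ' γ s' = 0)
    {V : Submodule k (G → S)} {V' : Submodule k (G → S')} (hV : SimpleTopS N x p σ V)
    (hV' : SimpleTopS N x p σ' V')
    (θ : V →ₗ[k] V') (hθ : ∀ g v, θ (srepS V hV.stab g v) = srepS V' hV'.stab g (θ v)) :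
    θ = 0 := by
  by_contra hθ0
  have hirr := isIrr_srepS hV.stab hV.min
  have hirr' := isIrr_srepS hV'.stab hV'.min
  have : Nontrivial V := Submodule.nontrivial_iff_ne_bot.mpr hV.ne
  -- θ is injective
  have hinj : LinearMap.ker θ = ⊥ := by
    rcases hirr (LinearMap.ker θ) (by
      rintro g _ ⟨v, hv, rfl⟩
      rw [SetLike.mem_coe, LinearMap.mem_ker] at hv
      rw [LinearMap.mem_ker, hθ, hv, map_zero]) with h | h
    · exact h
    · exfalso
      apply hθ0
      ext v
      have : v ∈ LinearMap.ker θ := by rw [h]; trivial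
      rw [LinearMap.mem_ker.mp this]
      rfl
  have hsurj : LinearMap.range θ = ⊤ := by
    rcases hirr' (LinearMap.range θ) (by
      rintro g _ ⟨_, ⟨v, rfl⟩, rfl⟩
      exact ⟨srepS V hV.stab g v, hθ g v⟩) with h | h
    · exfalso
      apply hθ0
      ext v
      have : θ v ∈ LinearMap.range θ := ⟨v, rfl⟩
      rw [h, Submodule.mem_bot] at this
      rw [this]
      rfl
    · exact h
  obtain ⟨s, hsV, hsP, hs1⟩ := hV.top
  obtain ⟨s', hs'V, hs'P, hs'1⟩ := hV'.top
  obtain ⟨v, hv⟩ : ∃ v, θ v = ⟨s', hs'V⟩ := by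
    have : (⟨s', hs'V⟩ : V') ∈ LinearMap.range θ := by rw [hsurj]; trivial
    exact this
  let ev : (G → S) →ₗ[k] S := LinearMap.proj 1
  let ev' : (G → S') →ₗ[k] S' := LinearMap.proj 1
  refine unique_top' (srepS V hV.stab) hirr hd hcard σ σ' hσx hσ'x A hA hA' (ev ∘ₗ V.subtype)
    (ev' ∘ₗ V'.subtype ∘ₗ θ) ?_ ?_ ⟨⟨s, hsV⟩, ?_, hs1⟩ ⟨v, ?_, ?_⟩
  · intro n w
    exact coindS_semi (hV.le w.2) n
  · intro n w
    show ((θ (srepS V hV.stab (n : G) w) : V') : G → S') 1 = σ' n (((θ w : V') : G → S') 1)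
    rw [hθ]
    exact coindS_semi (hV'.le (θ w).2) n
  · apply Subtype.ext
    rw [pplus_srepS]
    exact hsP
  · have h1 : θ (pplus (srepS V hV.stab) x p v) = 0 := by
      rw [pplus_apply, map_sum]
      simp only [hθ]
      rw [← pplus_apply, hv]
      apply Subtype.ext
      rw [pplus_srepS]
      exact hs'P
    have : pplus (srepS V hV.stab) x p v ∈ LinearMap.ker θ := h1
    rw [hinj, Submodule.mem_bot] at this
    exact this
  · show ((θ v : V') : G → S') 1 ≠ 0
    rw [hv]
    exact hs'1

variable [DecidableEq G]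

/-- **The central character** of a simple submodule of a coinduced module: a class function `z`
acts on it by the scalar by which its restriction to `C_G(x)` acts on the top. -/
theorem central_charS [IsAlgClosed k] {N H : Subgroup G} [Fintype N] {x : G} {p : ℕ}
    [hp : Fact p.Prime] [CharP k p] (hd : TIData G N H x p)
    {S : Type*} [AddCommGroup S] [Module k S] [FiniteDimensional k S]
    {σ : Representation k N S} (hσx : σ ⟨x, hd.hxN⟩ = 1)
    {V : Submodule k (G → S)} (hV : SimpleTopS N x p σ V)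
    (z : G → k) (hz : ∀ g h : G, z (h * g * h⁻¹) = z g) (ω : k)
    (hω : ∀ s : S, ∑ n : N, (if (n : G) * x = x * (n : G) then z (n : G) else 0) • σ n s = ω • s)
    (v : G → S) (hv : v ∈ V) :
    ∑ g, z g • rregS k G S g v = ω • v := by
  classical
  have hirr := isIrr_srepS hV.stab hV.min
  have : Nontrivial V := Submodule.nontrivial_iff_ne_bot.mpr hV.ne
  set ρ := srepS V hV.stab with hρ
  set T : Module.End k V := ∑ g, z g • ρ g with hT
  have hcomm : ∀ h, T * ρ h = ρ h * T := by
    intro h
    rw [hT, Finset.sum_mul, Finset.mul_sum]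
    simp only [smul_mul_assoc, mul_smul_comm, ← map_mul]
    refine Fintype.sum_equiv (MulAut.conj h⁻¹).toEquiv _ _ ?_
    intro g
    simp only [MulEquiv.toEquiv_eq_coe, MulEquiv.coe_toEquiv, MulAut.conj_apply]
    rw [hz]
    congr 2
    group
  obtain ⟨c, hc⟩ := HHT.schur ρ hirr T hcomm
  obtain ⟨s, hsV, hsP, hs1⟩ := hV.top
  have hσxi : ∀ i : ℕ, σ (⟨x ^ i, N.pow_mem hd.hxN i⟩ : N) = 1 := by
    intro i
    have : (⟨x ^ i, N.pow_mem hd.hxN i⟩ : N) = (⟨x, hd.hxN⟩ : N) ^ i := rfl
    rw [this, map_pow, hσx, one_pow]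
  -- evaluate at s
  have hTs : ((T ⟨s, hsV⟩ : V) : G → S) 1 = ∑ g, z g • s g := by
    rw [hT, LinearMap.sum_apply, Submodule.coe_sum, Finset.sum_apply]
    refine Finset.sum_congr rfl fun g _ => ?_
    rw [LinearMap.smul_apply, Submodule.coe_smul, Pi.smul_apply, hρ, srepS_coe,
      rregS_apply, one_mul]
  have hTs' : ((T ⟨s, hsV⟩ : V) : G → S) 1 = c • s 1 := by
    rw [hc, LinearMap.smul_apply, Module.End.one_apply, Submodule.coe_smul, Pi.smul_apply]
  have hsplit : ∑ g, z g • s g = ω • s 1 := by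
    rw [← Finset.sum_filter_add_sum_filter_not Finset.univ (fun g => g * x = x * g)]
    have h0 := sum_not_comm_eq_zero x p hp.out hd.hxp (fun g => z g • s g) (by
      intro g _
      have h1 : ∀ i ∈ Finset.range p, z (x ^ i * g * (x ^ i)⁻¹) • s (x ^ i * g * (x ^ i)⁻¹) =
          z g • rregS k G S ((x ^ i)⁻¹) s g := by
        intro i _
        rw [hz, rregS_apply, mul_assoc]
        have := hV.le hsV ⟨x ^ i, N.pow_mem hd.hxN i⟩ (g * (x ^ i)⁻¹)
        rw [this, hσxi, Module.End.one_apply]
      rw [Finset.sum_congr rfl h1, ← Finset.smul_sum]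
      have h2 := sum_range_pow_inv x p hp.out.pos hd.hxp (fun y => rregS k G S y s g)
      rw [h2]
      have h3 : ∑ i ∈ Finset.range p, rregS k G S (x ^ i) s g = pplus (rregS k G S) x p s g := by
        rw [pplus_apply, Finset.sum_apply]
      rw [h3, hsP, Pi.zero_apply, smul_zero])
    rw [h0, add_zero, ← hω (s 1)]
    -- the commuting elements lie in N
    have hmemN : ∀ g : G, g * x = x * g → g ∈ N := by
      intro g hgx
      by_contra hgN
      have := hd.ti g⁻¹ (fun h => hgN (by simpa using N.inv_mem h)) 1 Nat.one_pos hp.out.one_lt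
      apply this
      rw [pow_one, inv_inv, hgx, mul_inv_cancel_right]
      exact hd.hxN
    -- rewrite the sum over N as a sum over G
    have h1 : ∑ n : N, (if (n : G) * x = x * (n : G) then z (n : G) else 0) • σ n (s 1) =
        ∑ n : N, (fun g : G => if g * x = x * g then z g • s g else 0) (n : G) := by
      refine Finset.sum_congr rfl fun n _ => ?_
      by_cases hn : (n : G) * x = x * (n : G)
      · simp only [if_pos hn]
        have := hV.le hsV n 1
        rw [mul_one] at this
        rw [this]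
      · simp only [if_neg hn, zero_smul]
    rw [h1]
    have h2 : ∑ n : N, (fun g : G => if g * x = x * g then z g • s g else 0) (n : G) =
        ∑ g ∈ Finset.univ.filter (fun g => g ∈ N),
          (fun g : G => if g * x = x * g then z g • s g else 0) g := by
      have h3 := Finset.sum_subtype (F := ‹Fintype N›) (Finset.univ.filter (fun g : G => g ∈ N))
        (p := fun g => g ∈ N) (fun g => by simp)
        (fun g : G => if g * x = x * g then z g • s g else 0)
      rw [h3]
    rw [h2, Finset.sum_filter, Finset.sum_filter]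
    refine Finset.sum_congr rfl fun g _ => ?_
    by_cases hg : g * x = x * g
    · rw [if_pos hg, if_pos (hmemN g hg)]
    · rw [if_neg hg]
      by_cases hgN : g ∈ N
      · rw [if_pos hgN]
      · rw [if_neg hgN]
  have hcval : c = ω := by
    have h1 := hTs.symm.trans hTs'
    rw [hsplit] at h1
    by_contra hne
    have h2 : (ω - c) • s 1 = 0 := by rw [sub_smul, h1, sub_self]
    rcases smul_eq_zero.mp h2 with h3 | h3
    · exact hne (sub_eq_zero.mp h3).symm
    · exact hs1 h3
  rw [← hcval]
  have hTv : ((T ⟨v, hv⟩ : V) : G → S) = ∑ g, z g • rregS k G S g v := by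
    rw [hT, LinearMap.sum_apply, Submodule.coe_sum]
    refine Finset.sum_congr rfl fun g _ => ?_
    rw [LinearMap.smul_apply, Submodule.coe_smul, hρ, srepS_coe]
  rw [← hTv, hc, LinearMap.smul_apply, Module.End.one_apply, Submodule.coe_smul]

end

/-! ### Trace functions of representations -/

section Trf

variable {W : Type*} [AddCommGroup W] [Module k W]

/-- The trace function `g ↦ tr ρ(g⁻¹)`. -/
noncomputable def trfR (ρ : Representation k G W) : G → k :=
  fun g => LinearMap.trace k W (ρ g⁻¹)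

theorem isCF_trfR (ρ : Representation k G W) : IsCF (trfR ρ) := by
  intro g h
  unfold trfR
  have : (h * g * h⁻¹)⁻¹ = h * g⁻¹ * h⁻¹ := by group
  have e : ρ (h * g⁻¹ * h⁻¹) = ρ h * (ρ g⁻¹ * ρ h⁻¹) := by
    rw [← map_mul, ← map_mul, mul_assoc]
  rw [this, e, LinearMap.trace_mul_comm, mul_assoc, ← map_mul, inv_mul_cancel, map_one, mul_one]

/-- Multiplying by a commuting `p`-element does not change the trace. -/
theorem trfR_unip (ρ : Representation k G W) (p : ℕ) [Fact p.Prime] [CharP k p]
    (y c : G) (n : ℕ) (hy : y ^ (p ^ n) = 1) (hyc : y * c = c * y) :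
    trfR ρ (y * c) = trfR ρ c := by
  unfold trfR
  have hinv : (y * c)⁻¹ = c⁻¹ * y⁻¹ := by group
  have hy' : (y⁻¹) ^ (p ^ n) = 1 := by rw [inv_pow, hy, inv_one]
  have hnil : uop ρ y⁻¹ ^ (p ^ n) = 0 := by
    have h1 : ρ y⁻¹ ^ (p ^ n) = 1 := by rw [← map_pow, hy', map_one]
    have h := HHT.sub_one_pow_char_pow (K := k) p (ρ y⁻¹) n
    unfold uop
    rw [h, h1, sub_self]
  have hdec : ρ y⁻¹ = 1 + uop ρ y⁻¹ := by unfold uop; abel
  have hcomm : Commute (ρ c⁻¹) (uop ρ y⁻¹) := by
    have h0 : ρ c⁻¹ * ρ y⁻¹ = ρ y⁻¹ * ρ c⁻¹ := by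
      rw [← map_mul, ← map_mul]
      congr 1
      have : c⁻¹ * y⁻¹ = (y * c)⁻¹ := by group
      rw [this, hyc]
      group
    show ρ c⁻¹ * (ρ y⁻¹ - 1) = (ρ y⁻¹ - 1) * ρ c⁻¹
    rw [mul_sub, sub_mul, h0, mul_one, one_mul]
  rw [hinv, map_mul, hdec, mul_add, mul_one, map_add]
  have hn : IsNilpotent (ρ c⁻¹ * uop ρ y⁻¹) := hcomm.isNilpotent_mul_left ⟨p ^ n, hnil⟩
  rw [(LinearMap.isNilpotent_trace_of_isNilpotent hn).eq_zero, add_zero]

/-- A class function acting as the scalar `ω` on a representation multiplies its trace function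
by `ω`. -/
theorem ck_trfR [Fintype G] (ρ : Representation k G W) (z : G → k) (ω : k)
    (hend : ∑ g, z g • ρ g = ω • (1 : Module.End k W)) :
    ck z (trfR ρ) = ω • trfR ρ := by
  funext u
  rw [ck_apply, Pi.smul_apply, smul_eq_mul]
  unfold trfR
  have h1 : ∀ t : G, z t * LinearMap.trace k W (ρ (t⁻¹ * u)⁻¹) =
      LinearMap.trace k W (ρ u⁻¹ * (z t • ρ t)) := by
    intro t
    rw [mul_smul_comm, map_smul, smul_eq_mul, ← map_mul]
    congr 3
    group
  rw [Finset.sum_congr rfl fun t _ => h1 t, ← map_sum, ← Finset.mul_sum, hend, mul_smul_comm,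
    mul_one, map_smul, smul_eq_mul]

end Trf

end Cfsg.Agent.Helper5.D1
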