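import Mathlib
import Cfsg.Agent.Helper5.GCm
import Cfsg.Agent.Helper5.Residue
import Cfsg.Agent.Helper5.Osima
import Cfsg.Agent.Helper5.MinMax
import Cfsg.Agent.Helper5.BlockBasic
import Cfsg.Agent.Helper5.BrauerMap2

/-!
# Step 1: a linearly independent family in `ε Z(kG)` has at most `|B|` members
-/

set_option autoImplicit false

namespace Cfsg.Agent.Helper5.GC

open Cfsg Cfsg.Agent.Helper24 Cfsg.Agent.Helper5 Cfsg.Agent.Helper5.Loc Cfsg.Agent.Helper5.Res
  Cfsg.Agent.Helper5.CC

variable {M : Ideal AlgInt}

/-- The local ring as a subring of `ℂ`. -/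
def lrSubring (hM : M.IsPrime) : Subring ℂ where
  carrier := {z | MemLocalRing M z}
  mul_mem' := fun ha hb => lr_mul hM ha hb
  one_mem' := memLocalRing_one hM
  add_mem' := fun ha hb => lr_add hM ha hb
  zero_mem' := memLocalRing_zero hM
  neg_mem' := fun ha => lr_neg ha

/-- The residue map as a ring homomorphism. -/
noncomputable def resHom [hMax : M.IsMaximal] : lrSubring (M := M) hMax.isPrime →+* AlgInt ⧸ M where
  toFun z := res M z.1
  map_one' := res_one
  map_mul' := fun z w => res_mul z.2 w.2
  map_zero' := res_zero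
  map_add' := fun z w => res_add z.2 w.2

theorem res_det [hMax : M.IsMaximal] {n : Type*} [Fintype n] [DecidableEq n] (P : Matrix n n ℂ)
    (h : ∀ i j, MemLocalRing M (P i j)) :
    res M P.det = (Matrix.of fun i j => res M (P i j)).det := by
  let P' : Matrix n n (lrSubring (M := M) hMax.isPrime) := fun i j => ⟨P i j, h i j⟩
  have h1 : P = (lrSubring (M := M) hMax.isPrime).subtype.mapMatrix P' := by
    ext i j; rfl
  have h2 : P.det = ((P'.det : lrSubring (M := M) hMax.isPrime) : ℂ) := by
    conv_lhs => rw [h1, ← RingHom.map_det]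
    rfl
  rw [h2]
  show resHom P'.det = _
  rw [RingHom.map_det]
  rfl

theorem exists_dual_family {k : Type*} [Field k] {G : Type*} [Fintype G] [DecidableEq G]
    {ι : Type*} [Fintype ι] [DecidableEq ι] (b : ι → G → k) (hli : LinearIndependent k b) :
    ∃ d : ι → G → k, ∀ i j, ∑ g, d i g * b j g = if i = j then 1 else 0 := by
  have hinj : Function.Injective (Fintype.linearCombination k b) :=
    linearIndependent_iff_injective_fintypeLinearCombination.mp hli
  obtain ⟨L, hL⟩ := LinearMap.exists_leftInverse_of_injective (Fintype.linearCombination k b)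
    (LinearMap.ker_eq_bot.mpr hinj)
  refine ⟨fun i g => L (Pi.single g 1) i, fun i j => ?_⟩
  have h1 : L (b j) i = if i = j then 1 else 0 := by
    have hb : b j = Fintype.linearCombination k b (Pi.single j 1) := by
      rw [Fintype.linearCombination_apply_single, one_smul]
    rw [hb]
    have := LinearMap.congr_fun hL (Pi.single j 1)
    simp only [LinearMap.comp_apply, LinearMap.id_apply] at this
    rw [this, Pi.single_apply]
  rw [← h1]
  have h2 : b j = ∑ g, b j g • (Pi.single g 1 : G → k) := by
    funext g'
    rw [Finset.sum_apply, Finset.sum_eq_single g']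
    · rw [Pi.smul_apply, Pi.single_eq_same, smul_eq_mul, mul_one]
    · intro g _ hne
      rw [Pi.smul_apply, Pi.single_eq_of_ne hne.symm, smul_zero]
    · intro h; exact absurd (Finset.mem_univ _) h
  conv_rhs => rw [h2]
  rw [map_sum, Finset.sum_apply]
  refine Finset.sum_congr rfl fun g _ => ?_
  rw [map_smul, Pi.smul_apply, smul_eq_mul, mul_comm]

/-- **Step 1.** -/
theorem step1 {G : Type*} [Group G] [Fintype G] [DecidableEq G] [hMax : M.IsMaximal]
    (B : Set (IrrCharacter G)) (hB : IsPBlock M B)
    {ι : Type*} [Fintype ι] (z : ι → G → AlgInt ⧸ M) (hz : ∀ j, IsCF (z j))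
    (hli : LinearIndependent (AlgInt ⧸ M)
      (fun j => ck (fun g => res M (blockCoeff B g)) (z j))) :
    Fintype.card ι ≤ Nat.card B := by
  classical
  have hMp : M.IsPrime := hMax.isPrime
  have : Fintype (IrrCharacter G) := Fintype.ofFinite _
  set lft : AlgInt ⧸ M → AlgInt := Function.surjInv Ideal.Quotient.mk_surjective with hlftdef
  have hlft : ∀ a, Ideal.Quotient.mk M (lft a) = a := Function.surjInv_eq _
  have hreslft : ∀ a : AlgInt ⧸ M, res M ((lft a : AlgInt) : ℂ) = a := fun a => by
    rw [res_algInt, hlft]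
  set zh : ι → G → ℂ := fun j g => ((lft (z j g) : AlgInt) : ℂ) with hzh
  have hzh_cf : ∀ j, IsClassFunction G (zh j) := by
    intro j g h
    show ((lft (z j (h * g * h⁻¹)) : AlgInt) : ℂ) = ((lft (z j g) : AlgInt) : ℂ)
    rw [hz j g h]
  set a : ι → G → ℂ := fun j => conv (blockCoeff B) (zh j) with ha
  have ha_cf : ∀ j, IsClassFunction G (a j) := fun j =>
    isClassFunction_conv (isClassFunction_blockCoeff B) (hzh_cf j)
  have ha_lr : ∀ j g, MemLocalRing M (a j g) := by
    intro j g
    exact lr_sum hMp _ _ fun t _ => lr_mul hMp (osima hMp B hB t) (memLocalRing_algInt hMp _)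
  have ha_res : ∀ j g, res M (a j g) = ck (fun g => res M (blockCoeff B g)) (z j) g := by
    intro j g
    show res M (∑ t, blockCoeff B t * zh j (t⁻¹ * g)) = ∑ t, res M (blockCoeff B t) * z j (t⁻¹ * g)
    rw [res_sum _ _ fun t _ => lr_mul hMp (osima hMp B hB t) (memLocalRing_algInt hMp _)]
    refine Finset.sum_congr rfl fun t _ => ?_
    rw [res_mul (osima hMp B hB t) (memLocalRing_algInt hMp _)]
    congr 1
    exact hreslft _
  have ha_act : ∀ j (χ : IrrCharacter G), χ ∉ B → act (a j) χ = 0 := by
    intro j χ hχ
    rw [act_conv (isClassFunction_blockCoeff B), act_blockCoeff, if_neg hχ, zero_mul]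
  obtain ⟨d, hd⟩ := exists_dual_family _ hli
  have hindep : ∀ c : ι → ℂ, ∑ j, c j • a j = 0 → c = 0 := by
    intro c hc
    set P : Matrix ι ι ℂ := Matrix.of fun i j => ∑ g, ((lft (d i g) : AlgInt) : ℂ) * a j g with hP
    have hPlr : ∀ i j, MemLocalRing M (P i j) := by
      intro i j
      exact lr_sum hMp _ _ fun g _ => lr_mul hMp (memLocalRing_algInt hMp _) (ha_lr j g)
    have hPres : (Matrix.of fun i j => res M (P i j)) = (1 : Matrix ι ι (AlgInt ⧸ M)) := by
      ext i j
      rw [Matrix.of_apply, Matrix.one_apply, ← hd i j]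
      show res M (∑ g, ((lft (d i g) : AlgInt) : ℂ) * a j g) = _
      rw [res_sum _ _ fun g _ => lr_mul hMp (memLocalRing_algInt hMp _) (ha_lr j g)]
      refine Finset.sum_congr rfl fun g _ => ?_
      rw [res_mul (memLocalRing_algInt hMp _) (ha_lr j g), hreslft, ha_res]
    have hdet : P.det ≠ 0 := by
      intro h0
      have := res_det P hPlr
      rw [h0, res_zero, hPres, Matrix.det_one] at this
      exact zero_ne_one this
    have hPc : P.mulVec c = 0 := by
      funext i
      show ∑ j, P i j * c j = 0
      have h1 : ∀ j, P i j * c j = ∑ g, ((lft (d i g) : AlgInt) : ℂ) * (c j * a j g) := by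
        intro j
        rw [hP, Matrix.of_apply, Finset.sum_mul]
        refine Finset.sum_congr rfl fun g _ => ?_
        ring
      rw [Finset.sum_congr rfl fun j _ => h1 j, Finset.sum_comm]
      apply Finset.sum_eq_zero
      intro g _
      rw [← Finset.mul_sum]
      have := congrFun hc g
      rw [Finset.sum_apply] at this
      simp only [Pi.smul_apply, smul_eq_mul, Pi.zero_apply] at this
      rw [this, mul_zero]
    exact Matrix.eq_zero_of_mulVec_eq_zero hdet hPc
  let Φ : (ι → ℂ) →ₗ[ℂ] (B → ℂ) :=
    { toFun := fun c χ => ∑ j, c j * act (a j) χ.1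
      map_add' := by
        intro c c'
        funext χ
        simp only [Pi.add_apply, add_mul, Finset.sum_add_distrib]
      map_smul' := by
        intro r c
        funext χ
        simp only [Pi.smul_apply, smul_eq_mul, RingHom.id_apply, Finset.mul_sum, mul_assoc] }
  have hΦinj : Function.Injective Φ := by
    rw [← LinearMap.ker_eq_bot, eq_bot_iff]
    intro c hc
    rw [LinearMap.mem_ker] at hc
    rw [Submodule.mem_bot]
    apply hindep
    have hcf : IsClassFunction G (∑ j, c j • a j) := by
      intro g h
      rw [Finset.sum_apply, Finset.sum_apply]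
      refine Finset.sum_congr rfl fun j _ => ?_
      rw [Pi.smul_apply, Pi.smul_apply, ha_cf j g h]
    have h0cf : IsClassFunction G (0 : G → ℂ) := fun g h => rfl
    apply eq_of_act_eq hcf h0cf
    intro χ
    have hact0 : act (0 : G → ℂ) χ = 0 := by
      unfold act
      simp
    rw [hact0, act_sum]
    simp only [act_smul]
    by_cases hχ : χ ∈ B
    · have := congrFun hc ⟨χ, hχ⟩
      exact this
    · apply Finset.sum_eq_zero
      intro j _
      rw [ha_act j χ hχ, mul_zero]
  have hle := LinearMap.finrank_le_finrank_of_injective hΦinj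
  rw [Module.finrank_fintype_fun_eq_card, Module.finrank_fintype_fun_eq_card] at hle
  rwa [Fintype.card_eq_nat_card (α := B)] at hle

end Cfsg.Agent.Helper5.GC
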