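import Mathlib
import Cfsg.Prelude.Def_BlockRank
import Cfsg.Agent.Helper5.GCo
import Cfsg.Agent.Helper5.RelDefectZero

/-!
# Defect one, modular part (d): a linearly independent family of unipotent-invariant class
functions fixed by the block idempotent has at most `blockRank p B` members
-/

set_option autoImplicit false

namespace Cfsg.Agent.Helper5.D1

open Cfsg Cfsg.Agent.Helper24 Cfsg.Agent.Helper5 Cfsg.Agent.Helper5.Loc Cfsg.Agent.Helper5.Res
  Cfsg.Agent.Helper5.CC Cfsg.Agent.Helper5.GC

variable {M : Ideal AlgInt}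

/-- Precomposition with inversion, as a linear equivalence. -/
noncomputable def invEquiv (G : Type*) [Group G] : (G → ℂ) ≃ₗ[ℂ] (G → ℂ) :=
  LinearEquiv.funCongrLeft ℂ ℂ (Equiv.inv G)

theorem invEquiv_apply {G : Type*} [Group G] (f : G → ℂ) (g : G) : invEquiv G f g = f g⁻¹ := rfl

theorem card_le_blockRank {G : Type*} [Group G] [Fintype G] [DecidableEq G] [hMax : M.IsMaximal]
    (p : ℕ) [hp : Fact p.Prime]
    (B : Set (IrrCharacter G)) (hB : IsPBlock M B)
    {ι : Type*} [Fintype ι] (z : ι → G → AlgInt ⧸ M) (hz : ∀ j, IsCF (z j))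
    (hfix : ∀ j, ck (fun g => res M (blockCoeff B g)) (z j) = z j)
    (hunip : ∀ j (u y : G) (n : ℕ), u ^ (p ^ n) = 1 → u * y = y * u → z j (u * y) = z j y)
    (hli : LinearIndependent (AlgInt ⧸ M) z) :
    Fintype.card ι ≤ blockRank p B := by
  classical
  have hMp : M.IsPrime := hMax.isPrime
  have : Fintype (IrrCharacter G) := Fintype.ofFinite _
  set lft : AlgInt ⧸ M → AlgInt := Function.surjInv Ideal.Quotient.mk_surjective with hlftdef
  have hlft : ∀ a, Ideal.Quotient.mk M (lft a) = a := Function.surjInv_eq _
  have hreslft : ∀ a : AlgInt ⧸ M, res M ((lft a : AlgInt) : ℂ) = a := fun a => by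
    rw [res_algInt, hlft]
  set zh : ι → G → ℂ := fun j g => ((lft (z j g) : AlgInt) : ℂ) with hzh
  have hzh_cf : ∀ j, IsClassFunction G (zh j) := by
    intro j g h
    show ((lft (z j (h * g * h⁻¹)) : AlgInt) : ℂ) = ((lft (z j g) : AlgInt) : ℂ)
    rw [hz j g h]
  set a : ι → G → ℂ := fun j => conv (blockCoeff B) (zh j) with ha
  have ha_cf : ∀ j, IsClassFunction G (a j) := fun j =>
    isClassFunction_conv (isClassFunction_blockCoeff B) (hzh_cf j)
  have ha_lr : ∀ j g, MemLocalRing M (a j g) := by
    intro j g
    exact lr_sum hMp _ _ fun t _ => lr_mul hMp (osima hMp B hB t) (memLocalRing_algInt hMp _)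
  have ha_res : ∀ j g, res M (a j g) = z j g := by
    intro j g
    rw [← hfix j]
    show res M (∑ t, blockCoeff B t * zh j (t⁻¹ * g)) = ∑ t, res M (blockCoeff B t) * z j (t⁻¹ * g)
    rw [res_sum _ _ fun t _ => lr_mul hMp (osima hMp B hB t) (memLocalRing_algInt hMp _)]
    refine Finset.sum_congr rfl fun t _ => ?_
    rw [res_mul (osima hMp B hB t) (memLocalRing_algInt hMp _)]
    congr 1
    exact hreslft _
  have ha_act : ∀ j (χ : IrrCharacter G), χ ∉ B → act (a j) χ = 0 := by
    intro j χ hχ
    rw [act_conv (isClassFunction_blockCoeff B), act_blockCoeff, if_neg hχ, zero_mul]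
  -- the restrictions to `p`-regular elements
  set r : ι → G → ℂ := fun j g => if IsPRegular p g then a j g else 0 with hr
  set zr : ι → G → AlgInt ⧸ M := fun j g => if IsPRegular p g then z j g else 0 with hzr
  have hr_lr : ∀ j g, MemLocalRing M (r j g) := by
    intro j g
    show MemLocalRing M (if IsPRegular p g then a j g else 0)
    split_ifs
    · exact ha_lr j g
    · exact memLocalRing_zero hMp
  have hr_res : ∀ j g, res M (r j g) = zr j g := by
    intro j g
    show res M (if IsPRegular p g then a j g else 0) = if IsPRegular p g then z j g else 0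
    split_ifs
    · exact ha_res j g
    · exact res_zero
  -- `zr` is linearly independent
  have hzr_li : LinearIndependent (AlgInt ⧸ M) zr := by
    rw [Fintype.linearIndependent_iff] at hli ⊢
    intro c hc
    apply hli c
    funext g
    obtain ⟨x, y, hxy, hcomm, ⟨n, hn⟩, hyreg⟩ := RDZ.exists_isPPart p g
    have hxn : x ^ (p ^ n) = 1 := by rw [← hn]; exact pow_orderOf_eq_one x
    have h1 := congrFun hc y
    rw [Finset.sum_apply] at h1 ⊢
    rw [Pi.zero_apply] at h1 ⊢
    rw [← h1]
    refine Finset.sum_congr rfl fun j _ => ?_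
    rw [Pi.smul_apply, Pi.smul_apply]
    congr 1
    show z j g = if IsPRegular p y then z j y else 0
    have hyreg' : IsPRegular p y := hyreg
    rw [if_pos hyreg', ← hxy]
    exact hunip j x y n hxn hcomm.eq
  obtain ⟨d, hd⟩ := exists_dual_family _ hzr_li
  have hindep : LinearIndependent ℂ r := by
    rw [Fintype.linearIndependent_iff]
    intro c hc
    set P : Matrix ι ι ℂ := Matrix.of fun i j => ∑ g, ((lft (d i g) : AlgInt) : ℂ) * r j g with hP
    have hPlr : ∀ i j, MemLocalRing M (P i j) := by
      intro i j
      exact lr_sum hMp _ _ fun g _ => lr_mul hMp (memLocalRing_algInt hMp _) (hr_lr j g)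
    have hPres : (Matrix.of fun i j => res M (P i j)) = (1 : Matrix ι ι (AlgInt ⧸ M)) := by
      ext i j
      rw [Matrix.of_apply, Matrix.one_apply, ← hd i j]
      show res M (∑ g, ((lft (d i g) : AlgInt) : ℂ) * r j g) = _
      rw [res_sum _ _ fun g _ => lr_mul hMp (memLocalRing_algInt hMp _) (hr_lr j g)]
      refine Finset.sum_congr rfl fun g _ => ?_
      rw [res_mul (memLocalRing_algInt hMp _) (hr_lr j g), hreslft, hr_res]
    have hdet : P.det ≠ 0 := by
      intro h0
      have := res_det P hPlr
      rw [h0, res_zero, hPres, Matrix.det_one] at this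
      exact zero_ne_one this
    have hPc : P.mulVec c = 0 := by
      funext i
      show ∑ j, P i j * c j = 0
      have h1 : ∀ j, P i j * c j = ∑ g, ((lft (d i g) : AlgInt) : ℂ) * (c j * r j g) := by
        intro j
        rw [hP, Matrix.of_apply, Finset.sum_mul]
        refine Finset.sum_congr rfl fun g _ => ?_
        ring
      rw [Finset.sum_congr rfl fun j _ => h1 j, Finset.sum_comm]
      apply Finset.sum_eq_zero
      intro g _
      rw [← Finset.mul_sum]
      have := congrFun hc g
      rw [Finset.sum_apply] at this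
      simp only [Pi.smul_apply, smul_eq_mul, Pi.zero_apply] at this
      rw [this, mul_zero]
    have h0 := Matrix.eq_zero_of_mulVec_eq_zero hdet hPc
    intro i
    exact congrFun h0 i
  -- membership in the image of the span under inversion
  set W : Submodule ℂ (G → ℂ) :=
    Submodule.span ℂ ((fun χ : IrrCharacter G => pRegularPart p (χ : G → ℂ)) '' B) with hW
  have hmem : ∀ j, r j ∈ W.map (invEquiv G).toLinearMap := by
    intro j
    have hrj : r j = ∑ χ : IrrCharacter G, ((Nat.card G : ℂ)⁻¹ * (act (a j) χ * (χ : G → ℂ) 1)) •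
        invEquiv G (pRegularPart p (χ : G → ℂ)) := by
      funext g
      rw [Finset.sum_apply]
      simp only [Pi.smul_apply, smul_eq_mul, invEquiv_apply]
      show (if IsPRegular p g then a j g else 0) = _
      have hreg : IsPRegular p g⁻¹ ↔ IsPRegular p g := by
        unfold IsPRegular
        rw [orderOf_inv]
      by_cases hg : IsPRegular p g
      · rw [if_pos hg, ← coeff_act (ha_cf j) g, Finset.mul_sum]
        refine Finset.sum_congr rfl fun χ _ => ?_
        have : pRegularPart p (χ : G → ℂ) g⁻¹ = (χ : G → ℂ) g⁻¹ := by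
          unfold pRegularPart
          rw [if_pos (hreg.mpr hg)]
        rw [this, irr_inv]
        ring
      · rw [if_neg hg]
        symm
        apply Finset.sum_eq_zero
        intro χ _
        have : pRegularPart p (χ : G → ℂ) g⁻¹ = 0 := by
          unfold pRegularPart
          rw [if_neg (fun h => hg (hreg.mp h))]
        rw [this, mul_zero]
    rw [hrj]
    apply Submodule.sum_mem
    intro χ _
    by_cases hχ : χ ∈ B
    · apply Submodule.smul_mem
      apply Submodule.mem_map_of_mem
      exact Submodule.subset_span ⟨χ, hχ, rfl⟩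
    · rw [ha_act j χ hχ, zero_mul, mul_zero, zero_smul]
      exact Submodule.zero_mem _
  have h1 : Fintype.card ι = Module.finrank ℂ (Submodule.span ℂ (Set.range r)) :=
    (finrank_span_eq_card hindep).symm
  have h2 : Submodule.span ℂ (Set.range r) ≤ W.map (invEquiv G).toLinearMap := by
    rw [Submodule.span_le]
    rintro _ ⟨j, rfl⟩
    exact hmem j
  have h3 : Module.finrank ℂ (W.map (invEquiv G).toLinearMap) = Module.finrank ℂ W :=
    LinearEquiv.finrank_map_eq (invEquiv G) W
  rw [h1]
  calc Module.finrank ℂ (Submodule.span ℂ (Set.range r))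
      ≤ Module.finrank ℂ (W.map (invEquiv G).toLinearMap) := Submodule.finrank_mono h2
    _ = Module.finrank ℂ W := h3
    _ = blockRank p B := rfl

end Cfsg.Agent.Helper5.D1
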