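import Mathlib
import Cfsg.Prelude.Def_Blocks
import Cfsg.Agent.Helper5.Residue

/-!
# The residue field of the algebraic integers at a maximal ideal is algebraically closed
-/

set_option autoImplicit false

namespace Cfsg.Agent.Helper5.GC

open Cfsg Polynomial

theorem isAlgClosed_algInt_quot (M : Ideal AlgInt) [hMax : M.IsMaximal] :
    IsAlgClosed (AlgInt ⧸ M) := by
  apply IsAlgClosed.of_exists_root
  intro f hfm hfirr
  have hlift : f ∈ Polynomial.lifts (Ideal.Quotient.mk M) := by
    rw [Polynomial.mem_lifts]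
    exact Polynomial.map_surjective _ Ideal.Quotient.mk_surjective f
  obtain ⟨F, hFmap, hFdeg, hFmonic⟩ := Polynomial.lifts_and_degree_eq_and_monic hlift hfm
  have hdeg : (F.map (algebraMap AlgInt ℂ)).degree ≠ 0 := by
    rw [Polynomial.degree_map_eq_of_injective (FaithfulSMul.algebraMap_injective AlgInt ℂ), hFdeg]
    exact Polynomial.degree_pos_of_irreducible hfirr |>.ne'
  obtain ⟨α, hα⟩ := IsAlgClosed.exists_root (F.map (algebraMap AlgInt ℂ)) hdeg
  have hint : IsIntegral AlgInt α := ⟨F, hFmonic, by rwa [Polynomial.eval₂_eq_eval_map]⟩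
  have hintZ : IsIntegral ℤ α := isIntegral_trans (A := AlgInt) α hint
  let a : AlgInt := ⟨α, hintZ⟩
  have hFa : F.eval a = 0 := by
    apply Subtype.ext
    have h1 : ((F.eval a : AlgInt) : ℂ) = (F.map (algebraMap AlgInt ℂ)).eval α := by
      rw [Polynomial.eval_map]
      exact (Polynomial.eval₂_at_apply (algebraMap AlgInt ℂ) a).symm
    rw [h1]
    exact hα
  refine ⟨Ideal.Quotient.mk M a, ?_⟩
  rw [← hFmap, Polynomial.eval_map, Polynomial.eval₂_at_apply, hFa, map_zero]

end Cfsg.Agent.Helper5.GC
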