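import Mathlib
import Cfsg.Agent.Helper5.GCo
import Cfsg.Agent.Helper5.ThirdMain
import Cfsg.Agent.Helper5.BlockSupport

/-!
# The residue of the principal block idempotent
-/

set_option autoImplicit false

namespace Cfsg.Agent.Helper5.GC

open Cfsg Cfsg.Agent.Helper24 Cfsg.Agent.Helper5 Cfsg.Agent.Helper5.Loc Cfsg.Agent.Helper5.Res
  Cfsg.Agent.Helper5.CC

variable {M : Ideal AlgInt}

theorem eps_isCF {G : Type*} [Group G] [hMax : M.IsMaximal] (B : Set (IrrCharacter G)) :
    IsCF (fun g => res M (blockCoeff B g)) := by
  classical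
  intro g h
  show res M (blockCoeff B (h * g * h⁻¹)) = res M (blockCoeff B g)
  have : Finite G ∨ ¬ Finite G := em _
  congr 1
  unfold blockCoeff
  congr 1
  refine finsum_congr fun χ => ?_
  refine finsum_congr fun _ => ?_
  rw [isClassFunction_irr χ g h]

theorem eps_sing {G : Type*} [Group G] [Fintype G] [hMax : M.IsMaximal] {p : ℕ} [Fact p.Prime]
    (hM : IsPModular p M) (g : G) (hg : p ∣ orderOf g) :
    res M (blockCoeff (principalBlock M G) g) = 0 := by
  classical
  have : Fintype (IrrCharacter G) := Fintype.ofFinite _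
  rw [blockCoeff_eq_zero_of_singular hM isPBlock_principalBlock g hg, res_zero]

theorem eps_sum {G : Type*} [Group G] [Fintype G] [hMax : M.IsMaximal] :
    ∑ g : G, res M (blockCoeff (principalBlock M G) g) = 1 := by
  classical
  have : Fintype (IrrCharacter G) := Fintype.ofFinite _
  have hMp : M.IsPrime := hMax.isPrime
  rw [← res_sum _ _ fun g _ => osima hMp _ isPBlock_principalBlock g]
  have h1 : act (blockCoeff (principalBlock M G)) (trivIrr G) =
      ∑ g : G, blockCoeff (principalBlock M G) g := by
    rw [act]
    simp only [trivIrr_apply, mul_one, div_one]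
  rw [← h1, act_blockCoeff, if_pos (trivIrr_mem_principalBlock hMp), res_one]

end Cfsg.Agent.Helper5.GC
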