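import Mathlib
import Cfsg.Agent.Helper5.GCm

/-!
# Step 2: `e + t` linearly independent elements in `ε Z(kG)`
-/

set_option autoImplicit false

namespace Cfsg.Agent.Helper5.GC

open Module

variable {k : Type*} [Field k] {G : Type*} [Group G] [Fintype G] [DecidableEq G]

/-- The class indicator functions of the non-trivial powers of `x`. -/
noncomputable def Kset (k : Type*) [Field k] {G : Type*} [Group G] [Fintype G] [DecidableEq G]
    (x : G) (p : ℕ) : Finset (G → k) :=
  @Finset.image _ _ (Classical.decEq _) (fun i => (kap (x ^ i) : G → k)) (Finset.Ico 1 p)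

theorem mem_Kset {x : G} {p : ℕ} {κ : G → k} :
    κ ∈ Kset k x p ↔ ∃ i, 1 ≤ i ∧ i < p ∧ kap (x ^ i) = κ := by
  unfold Kset
  rw [@Finset.mem_image _ _ (Classical.decEq _)]
  constructor
  · rintro ⟨i, hi, rfl⟩
    rw [Finset.mem_Ico] at hi
    exact ⟨i, hi.1, hi.2, rfl⟩
  · rintro ⟨i, h1, h2, rfl⟩
    exact ⟨i, Finset.mem_Ico.mpr ⟨h1, h2⟩, rfl⟩

theorem kap_eq_of_isConj {y y' : G} (h : IsConj y y') : (kap y : G → k) = kap y' := by
  classical
  funext g
  rw [kap_apply, kap_apply]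
  have : IsConj y g ↔ IsConj y' g := ⟨fun h' => h.symm.trans h', fun h' => h.trans h'⟩
  simp only [this]

theorem step2 [IsAlgClosed k] {N H : Subgroup G} {x : G} {p : ℕ} [hp : Fact p.Prime] [CharP k p]
    (hd : TIData G N H x p) (hcard : (Nat.card H : k) ≠ 0) (hx1 : x ≠ 1)
    (hCP : ∀ g : G, g * x = x * g → g ^ p = 1 → ∃ i : ℕ, g = x ^ i)
    (ε : G → k) (hεcf : IsCF ε) (hεsing : ∀ g, p ∣ orderOf g → ε g = 0) (hεsum : ∑ g, ε g = 1)
    (Λ : Finset (N →* k))
    (hΛ : ∀ lam ∈ Λ, ∀ n : N, (n : G) * x = x * (n : G) → lam n = 1) :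
    ∃ z : ({lam // lam ∈ Λ} ⊕ {κ // κ ∈ Kset k x p}) → G → k,
      (∀ j, IsCF (z j)) ∧ LinearIndependent k (fun j => ck ε (z j)) := by
  classical
  choose S hS using (fun lam : {lam // lam ∈ Λ} => exists_simple_top hd hcard hx1 lam.1)
  have hST : ∀ lam, SimpleTop N x p lam.1 (S lam) := fun lam =>
    ⟨(hS lam).1, (hS lam).2.1, (hS lam).2.2.1, (hS lam).2.2.2.1, (hS lam).2.2.2.2⟩
  have hω : ∑ g ∈ Finset.univ.filter (fun g => g * x = x * g), ε g = 1 := by
    rw [← sum_eq_sum_comm x p hd.hxp ε (fun g => hεcf g x)]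
    exact hεsum
  refine ⟨Sum.elim (fun lam => trf (S lam) (hST lam).stab) (fun κ => κ.1), ?_, ?_⟩
  · rintro (lam | κ)
    · exact isCF_trf _ _
    · obtain ⟨i, -, -, hi⟩ := mem_Kset.mp κ.2
      show IsCF κ.1
      rw [← hi]
      exact isCF_kap _
  rw [Fintype.linearIndependent_iff]
  intro c hc
  rw [Fintype.sum_sum_type] at hc
  simp only [Sum.elim_inl, Sum.elim_inr] at hc
  have hck : ∀ lam, ck ε (trf (S lam) (hST lam).stab) = trf (S lam) (hST lam).stab := by
    intro lam
    rw [ck_trf hd (hST lam) (hΛ lam.1 lam.2) ε hεcf, hω, one_smul]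
  simp only [hck] at hc
  -- a p-regular element of the centralizer where ε does not vanish
  obtain ⟨c₀, hc₀mem, hεc₀⟩ : ∃ c₀ ∈ Finset.univ.filter (fun g => g * x = x * g), ε c₀ ≠ 0 := by
    apply Finset.exists_ne_zero_of_sum_ne_zero
    rw [hω]
    exact one_ne_zero
  have hc₀ : c₀ * x = x * c₀ := (Finset.mem_filter.mp hc₀mem).2
  have hreg : ¬ p ∣ orderOf c₀ := fun h => hεc₀ (hεsing c₀ h)
  have hord : orderOf x = p := by
    have h1 := orderOf_dvd_of_pow_eq_one hd.hxp
    rcases (Nat.dvd_prime hp.out).mp h1 with h | h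
    · exact absurd (orderOf_eq_one_iff.mp h) hx1
    · exact h
  have hxi : ∀ i, 1 ≤ i → i < p → x ^ i ≠ 1 := by
    intro i h1 h2 h
    have := orderOf_dvd_of_pow_eq_one h
    rw [hord] at this
    exact absurd (Nat.le_of_dvd (by omega) this) (by omega)
  -- evaluation at x^j c₀
  have heval : ∀ j : ℕ, (∑ lam, c (Sum.inl lam) * trf (S lam) (hST lam).stab c₀) +
      (∑ κ : {κ // κ ∈ Kset k x p}, c (Sum.inr κ) * κ.1 (x ^ j)) * ε c₀ = 0 := by
    intro j
    have h := congrFun hc (x ^ j * c₀)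
    rw [Pi.add_apply, Finset.sum_apply, Finset.sum_apply, Pi.zero_apply] at h
    rw [← h]
    congr 1
    · refine Finset.sum_congr rfl fun lam _ => ?_
      rw [Pi.smul_apply, smul_eq_mul]
      congr 1
      refine (trf_unip (S lam) (hST lam).stab p (x ^ j) c₀ ?_ ?_).symm
      · rw [← pow_mul, mul_comm, pow_mul, hd.hxp, one_pow]
      · exact (((show Commute c₀ x from hc₀).pow_right j).symm).eq
    · rw [Finset.sum_mul]
      refine Finset.sum_congr rfl fun κ _ => ?_
      rw [Pi.smul_apply, smul_eq_mul, mul_assoc]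
      congr 1
      obtain ⟨i, -, -, hi⟩ := mem_Kset.mp κ.2
      rw [← hi]
      refine (ck_kap_eval x p hd.hxp hCP ε hεcf hεsing (x ^ i) ?_ j c₀ hc₀ hreg).symm
      rw [← pow_mul, mul_comm, pow_mul, hd.hxp, one_pow]
  have hA : (∑ lam, c (Sum.inl lam) * trf (S lam) (hST lam).stab c₀) = 0 := by
    have h := heval 0
    rw [pow_zero] at h
    have h0 : ∀ κ : {κ // κ ∈ Kset k x p}, c (Sum.inr κ) * κ.1 1 = 0 := by
      intro κ
      obtain ⟨i, h1, h2, hi⟩ := mem_Kset.mp κ.2
      rw [← hi, kap_apply, if_neg, mul_zero]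
      intro hcj
      exact hxi i h1 h2 (isConj_one_left.mp hcj)
    rw [Finset.sum_congr rfl fun κ _ => h0 κ, Finset.sum_const_zero, zero_mul, add_zero] at h
    exact h
  have hB : ∀ j : ℕ, (∑ κ : {κ // κ ∈ Kset k x p}, c (Sum.inr κ) * κ.1 (x ^ j)) = 0 := by
    intro j
    have h := heval j
    rw [hA, zero_add] at h
    rcases mul_eq_zero.mp h with h | h
    · exact h
    · exact absurd h hεc₀
  have hκ : ∀ κ₀ : {κ // κ ∈ Kset k x p}, c (Sum.inr κ₀) = 0 := by
    intro κ₀
    obtain ⟨i₀, h1, h2, hi₀⟩ := mem_Kset.mp κ₀.2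
    have h := hB i₀
    rw [Finset.sum_eq_single κ₀] at h
    · rw [← hi₀, kap_apply, if_pos (IsConj.refl _), mul_one] at h
      exact h
    · intro κ _ hne
      obtain ⟨i, -, -, hi⟩ := mem_Kset.mp κ.2
      rw [← hi, kap_apply]
      by_cases hcj : IsConj (x ^ i) (x ^ i₀)
      · exfalso
        apply hne
        apply Subtype.ext
        rw [← hi, ← hi₀]
        exact kap_eq_of_isConj hcj
      · rw [if_neg hcj, mul_zero]
    · intro h'; exact absurd (Finset.mem_univ _) h'
  -- now the trace functions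
  have hc' : ∑ lam, c (Sum.inl lam) • trf (S lam) (hST lam).stab = 0 := by
    have h0 : ∑ κ : {κ // κ ∈ Kset k x p}, c (Sum.inr κ) • ck ε κ.1 = 0 := by
      apply Finset.sum_eq_zero
      intro κ _
      rw [hκ κ, zero_smul]
    rw [h0, add_zero] at hc
    exact hc
  have : ∀ lam : {lam // lam ∈ Λ}, Nontrivial (S lam) := fun lam =>
    Submodule.nontrivial_iff_ne_bot.mpr (hST lam).ne
  have hind := trace_indep (k := k) (G := G) (V := fun lam : {lam // lam ∈ Λ} => S lam)
    (fun lam => srep (S lam) (hST lam).stab) (fun lam => isIrr_srep (hST lam).stab (hST lam).min)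
    (by
      intro i j hij θ hθ
      exact hom_eq_zero_of_ne hd hcard (hST j) (hST i)
        (fun h => hij (Subtype.ext h.symm)) θ hθ)
    (fun lam => c (Sum.inl lam)) (by
      intro g
      have h := congrFun hc' g⁻¹
      rw [Finset.sum_apply, Pi.zero_apply] at h
      rw [← h]
      refine Finset.sum_congr rfl fun lam _ => ?_
      rw [Pi.smul_apply, smul_eq_mul]
      unfold trf
      rw [inv_inv])
  rintro (lam | κ)
  · exact hind lam
  · exact hκ κ

end Cfsg.Agent.Helper5.GC
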