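import Mathlib
import Cfsg.Agent.Helper5.GCr
import Cfsg.Agent.Helper5.GCn

/-!
# The `e` characters of `N_G(P)/C_G(P)` with values in `k`, and the number of classes meeting `P`
-/

set_option autoImplicit false

namespace Cfsg.Agent.Helper5.GC

open Subgroup

variable {G : Type*} [Group G] [Finite G] {p : ℕ} [hp : Fact p.Prime] (P : Sylow p G)
variable (k : Type*) [Field k] [CharP k p]

/-- The action of the normalizer on `P`, as a character with values in `kˣ`. -/
noncomputable def alpha0 (hP : Nat.card P = p) :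
    normalizer ((P : Subgroup G) : Set G) →* kˣ :=
  haveI : IsCyclic (P : Subgroup G) := isCyclic_of_prime_card (p := p) hP
  haveI : CharP k (Nat.card (P : Subgroup G)) := by
    rw [show Nat.card (P : Subgroup G) = p from hP]; infer_instance
  (Units.map (ZMod.castHom (dvd_refl (Nat.card (P : Subgroup G))) k).toMonoidHom).comp
    ((IsCyclic.mulAutMulEquiv (P : Subgroup G)).toMonoidHom.comp
      (P : Subgroup G).normalizerMonoidHom)

theorem ker_alpha0 (hP : Nat.card P = p) :
    (alpha0 P k hP).ker =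
      (centralizer ((P : Subgroup G) : Set G)).subgroupOf (normalizer ((P : Subgroup G) : Set G)) := by
  haveI : IsCyclic (P : Subgroup G) := isCyclic_of_prime_card (p := p) hP
  haveI : CharP k (Nat.card (P : Subgroup G)) := by
    rw [show Nat.card (P : Subgroup G) = p from hP]; infer_instance
  rw [← Subgroup.normalizerMonoidHom_ker]
  ext n
  rw [MonoidHom.mem_ker, MonoidHom.mem_ker]
  unfold alpha0
  simp only [MonoidHom.comp_apply]
  constructor
  · intro h
    have h1 : Function.Injective
        (Units.map (ZMod.castHom (dvd_refl (Nat.card (P : Subgroup G))) k).toMonoidHom) :=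
      Units.map_injective (ZMod.castHom_injective k)
    rw [← map_one (Units.map (ZMod.castHom (dvd_refl (Nat.card (P : Subgroup G))) k).toMonoidHom)]
      at h
    have h2 := h1 h
    rw [← map_one (IsCyclic.mulAutMulEquiv (P : Subgroup G)).toMonoidHom] at h2
    exact (IsCyclic.mulAutMulEquiv (P : Subgroup G)).injective h2
  · intro h
    rw [h, map_one, map_one]

theorem card_range_alpha0 (hP : Nat.card P = p) :
    Nat.card (alpha0 P k hP).range =
      (centralizer ((P : Subgroup G) : Set G)).relIndex (normalizer ((P : Subgroup G) : Set G)) := by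
  rw [← Nat.card_congr (QuotientGroup.quotientKerEquivRange (alpha0 P k hP)).toEquiv, ker_alpha0]
  rfl

theorem alpha0_eq_one_of_commute (hP : Nat.card P = p) {x : G}
    (hPx : (P : Subgroup G) = zpowers x) (n : normalizer ((P : Subgroup G) : Set G))
    (hn : (n : G) * x = x * (n : G)) : alpha0 P k hP n = 1 := by
  have : n ∈ (alpha0 P k hP).ker := by
    rw [ker_alpha0, Subgroup.mem_subgroupOf, Subgroup.mem_centralizer_iff]
    intro y hy
    rw [SetLike.mem_coe, hPx] at hy
    obtain ⟨j, rfl⟩ := exists_pow_of_mem_zpowers hy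
    exact (((show Commute (n : G) x from hn).pow_right j).eq).symm
  exact this

theorem commute_of_alpha0_eq_one (hP : Nat.card P = p) {x : G}
    (hxP : x ∈ (P : Subgroup G)) (n : normalizer ((P : Subgroup G) : Set G))
    (hn : alpha0 P k hP n = 1) : (n : G) * x = x * (n : G) := by
  have : n ∈ (alpha0 P k hP).ker := hn
  rw [ker_alpha0, Subgroup.mem_subgroupOf, Subgroup.mem_centralizer_iff] at this
  exact (this x hxP).symm

/-- The `e` characters. -/
theorem exists_chars (hP : Nat.card P = p) {x : G} (hPx : (P : Subgroup G) = zpowers x) :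
    ∃ Λ : Finset (normalizer ((P : Subgroup G) : Set G) →* k),
      Λ.card = (centralizer ((P : Subgroup G) : Set G)).relIndex
        (normalizer ((P : Subgroup G) : Set G)) ∧
      ∀ lam ∈ Λ, ∀ n : normalizer ((P : Subgroup G) : Set G),
        (n : G) * x = x * (n : G) → lam n = 1 := by
  classical
  set e := (centralizer ((P : Subgroup G) : Set G)).relIndex
    (normalizer ((P : Subgroup G) : Set G)) with he
  set α₀ := alpha0 P k hP with hα₀
  have hcard : Nat.card α₀.range = e := card_range_alpha0 P k hP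
  haveI : Finite α₀.range := Finite.of_equiv _ (QuotientGroup.quotientKerEquivRange α₀).toEquiv
  obtain ⟨ζ, hζ⟩ := IsCyclic.exists_generator (α := α₀.range)
  have hordζ : orderOf ζ = e := by
    rw [← hcard]
    exact orderOf_eq_card_of_forall_mem_zpowers hζ
  obtain ⟨n₀, hn₀⟩ : ∃ n₀, α₀ n₀ = (ζ : kˣ) := ζ.2
  have hord' : orderOf (α₀ n₀) = e := by
    rw [hn₀, Subgroup.orderOf_coe, hordζ]
  let lamj : ℕ → (normalizer ((P : Subgroup G) : Set G) →* k) := fun j =>
    (powMonoidHom j).comp ((Units.coeHom k).comp α₀)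
  have hlamj : ∀ j n, lamj j n = ((α₀ n : kˣ) : k) ^ j := fun j n => rfl
  refine ⟨(Finset.range e).image lamj, ?_, ?_⟩
  · rw [Finset.card_image_of_injOn, Finset.card_range]
    intro j hj j' hj' hjj'
    rw [Finset.coe_range, Set.mem_Iio] at hj hj'
    have h1 := DFunLike.congr_fun hjj' n₀
    rw [hlamj, hlamj, ← Units.val_pow_eq_pow_val, ← Units.val_pow_eq_pow_val] at h1
    have h2 : (α₀ n₀) ^ j = (α₀ n₀) ^ j' := Units.ext h1
    exact pow_injOn_Iio_orderOf (by rw [hord']; exact hj) (by rw [hord']; exact hj') h2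
  · intro lam hlam n hn
    obtain ⟨j, -, rfl⟩ := Finset.mem_image.mp hlam
    rw [hlamj, alpha0_eq_one_of_commute P k hP hPx n hn, Units.val_one, one_pow]

/-- The number of classes meeting `P ∖ 1` is at least `(p - 1) / e`. -/
theorem card_Kset_ge [Fintype G] [DecidableEq G] (hP : Nat.card P = p) {x : G} (hx1 : x ≠ 1)
    (hxp : x ^ p = 1) (hPx : (P : Subgroup G) = zpowers x) :
    p - 1 ≤ (centralizer ((P : Subgroup G) : Set G)).relIndex
      (normalizer ((P : Subgroup G) : Set G)) * (Kset k x p).card := by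
  classical
  set N := normalizer ((P : Subgroup G) : Set G) with hN
  set α₀ := alpha0 P k hP with hα₀
  have hxP : x ∈ (P : Subgroup G) := by rw [hPx]; exact mem_zpowers x
  have hord : orderOf x = p := by
    have h1 := orderOf_dvd_of_pow_eq_one hxp
    rcases (Nat.dvd_prime hp.out).mp h1 with h | h
    · exact absurd (orderOf_eq_one_iff.mp h) hx1
    · exact h
  have hcardIco : (Finset.Ico 1 p).card = p - 1 := by simp
  rw [← hcardIco]
  unfold Kset
  refine @Finset.card_le_mul_card_image _ _ (Classical.decEq _) _ (Finset.Ico 1 p) _ ?_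
  intro a ha
  obtain ⟨i₀, hi₀, rfl⟩ := (@Finset.mem_image _ _ (Classical.decEq _) _ _ _).mp ha
  rw [Finset.mem_Ico] at hi₀
  haveI : Finite α₀.range := Finite.of_equiv _ (QuotientGroup.quotientKerEquivRange α₀).toEquiv
  haveI : Fintype α₀.range := Fintype.ofFinite _
  rw [← card_range_alpha0 P k hP, Nat.card_eq_fintype_card, ← Finset.card_univ]
  -- existence of a conjugating element of N
  have hex : ∀ i, (kap (x ^ i) : G → k) = kap (x ^ i₀) →
      ∃ n : N, (n : G) * x ^ i₀ * (n : G)⁻¹ = x ^ i := by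
    intro i hi
    have h1 := congrFun hi (x ^ i)
    rw [kap_apply, kap_apply, if_pos (IsConj.refl _)] at h1
    have hconj : IsConj (x ^ i₀) (x ^ i) := by
      by_contra hc
      rw [if_neg hc] at h1
      exact one_ne_zero h1
    obtain ⟨g, hg⟩ := isConj_iff.mp hconj
    have hgN : g ∈ N := by
      apply Subgroup.mem_normalizer_fintype
      intro y hy
      rw [SetLike.mem_coe, hPx] at hy
      obtain ⟨l, rfl⟩ := exists_pow_of_mem_zpowers hy
      have hcopi : Nat.Coprime i₀ p :=
        ((Nat.Prime.coprime_iff_not_dvd hp.out).mpr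
          (Nat.not_dvd_of_pos_of_lt (by omega) hi₀.2)).symm
      obtain ⟨b, -, hb⟩ := Nat.exists_mul_mod_eq_one_of_coprime hcopi hp.out.one_lt
      have hxb : (x ^ i₀) ^ b = x := by
        rw [← pow_mul, ← pow_mod_orderOf, hord, hb, pow_one]
      have : g * x ^ l * g⁻¹ = (x ^ i) ^ (b * l) := by
        rw [← hg, conj_pow, pow_mul, hxb]
      rw [this]
      exact (P : Subgroup G).pow_mem ((P : Subgroup G).pow_mem hxP _) _
    exact ⟨⟨g, hgN⟩, hg⟩
  let φ : ℕ → α₀.range := fun i =>
    if h : ∃ n : N, (n : G) * x ^ i₀ * (n : G)⁻¹ = x ^ i then ⟨α₀ h.choose, h.choose, rfl⟩ else 1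
  refine Finset.card_le_card_of_injOn φ (fun i _ => Finset.mem_univ _) ?_
  intro i hi j hj hij
  have hi2 := (@Finset.mem_filter _ (fun a => (kap (x ^ a) : G → k) = kap (x ^ i₀))
    (fun a => Classical.decEq (G → k) _ _) (Finset.Ico 1 p) i).mp (Finset.mem_coe.mp hi)
  have hj2 := (@Finset.mem_filter _ (fun a => (kap (x ^ a) : G → k) = kap (x ^ i₀))
    (fun a => Classical.decEq (G → k) _ _) (Finset.Ico 1 p) j).mp (Finset.mem_coe.mp hj)
  have hi' := hex i hi2.2
  have hj' := hex j hj2.2
  simp only [φ, dif_pos hi', dif_pos hj'] at hij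
  have h1 : α₀ hi'.choose = α₀ hj'.choose := congrArg Subtype.val hij
  have hni := hi'.choose_spec
  have hnj := hj'.choose_spec
  set ni := hi'.choose
  set nj := hj'.choose
  have h2 : α₀ (ni⁻¹ * nj) = 1 := by rw [map_mul, map_inv, h1, inv_mul_cancel]
  have h3 := commute_of_alpha0_eq_one P k hP hxP _ h2
  have h4 : Commute ((ni⁻¹ * nj : N) : G) (x ^ i₀) := (show Commute _ x from h3).pow_right i₀
  have h5 : x ^ j = x ^ i := by
    rw [← hnj, ← hni]
    have e1 : (nj : G) = (ni : G) * ((ni⁻¹ * nj : N) : G) := by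
      simp
    rw [e1]
    have e2 : (ni : G) * ((ni⁻¹ * nj : N) : G) * x ^ i₀ * ((ni : G) * ((ni⁻¹ * nj : N) : G))⁻¹ =
        (ni : G) * (((ni⁻¹ * nj : N) : G) * x ^ i₀ * ((ni⁻¹ * nj : N) : G)⁻¹) * (ni : G)⁻¹ := by
      group
    rw [e2, h4.eq]
    group
  have hip : i < orderOf x := by
    rw [hord]; exact (Finset.mem_Ico.mp hi2.1).2
  have hjp : j < orderOf x := by
    rw [hord]; exact (Finset.mem_Ico.mp hj2.1).2
  exact (pow_injOn_Iio_orderOf hjp hip h5).symm

end Cfsg.Agent.Helper5.GC
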