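import Mathlib
import Cfsg.Agent.Helper5.GCs
import Cfsg.Agent.Helper5.GCq
import Cfsg.Agent.Helper5.GCp
import Cfsg.Agent.Helper5.AlgIntMod

/-!
# The principal block of a group with Sylow `p`-subgroup of order `p` has at least
`e + (p - 1) / e` irreducible characters
-/

set_option autoImplicit false

namespace Cfsg.Agent.Helper5.GC

open Cfsg Cfsg.Agent.Helper24 Cfsg.Agent.Helper5 Cfsg.Agent.Helper5.Loc Cfsg.Agent.Helper5.Res
  Cfsg.Agent.Helper5.CC Subgroup

theorem card_principalBlock_ge {G : Type*} [Group G] [Finite G] (p : ℕ) [hp : Fact p.Prime]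
    (M : Ideal AlgInt) (hM : IsPModular p M) (P : Sylow p G) (hP : Nat.card P = p) :
    (centralizer ((P : Subgroup G) : Set G)).relIndex (normalizer ((P : Subgroup G) : Set G)) +
      (p - 1) / (centralizer ((P : Subgroup G) : Set G)).relIndex
        (normalizer ((P : Subgroup G) : Set G)) ≤ Nat.card (principalBlock M G) := by
  classical
  haveI : Fintype G := Fintype.ofFinite G
  haveI hMax : M.IsMaximal := hM.2.1
  haveI : CharP (AlgInt ⧸ M) p := algInt_quot_charP p M hM
  haveI : IsAlgClosed (AlgInt ⧸ M) := isAlgClosed_algInt_quot M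
  obtain ⟨x, hx1, hxp, hPx⟩ := exists_generator P hP
  obtain ⟨H, hd, hcard⟩ := exists_tiData P hP (AlgInt ⧸ M) hx1 hxp hPx
  obtain ⟨Λ, hΛcard, hΛ⟩ := exists_chars P (AlgInt ⧸ M) hP hPx
  have hCP := pow_of_commute P hPx
  obtain ⟨z, hzcf, hli⟩ := step2 hd hcard hx1 hCP
    (fun g => res M (blockCoeff (principalBlock M G) g)) (eps_isCF _) (eps_sing hM) eps_sum Λ hΛ
  have h1 := step1 (principalBlock M G) isPBlock_principalBlock z hzcf hli
  rw [Fintype.card_sum, Fintype.card_coe, Fintype.card_coe, hΛcard] at h1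
  have h2 := card_Kset_ge P (AlgInt ⧸ M) hP hx1 hxp hPx
  have h3 : (p - 1) / (centralizer ((P : Subgroup G) : Set G)).relIndex
      (normalizer ((P : Subgroup G) : Set G)) ≤ (Kset (AlgInt ⧸ M) x p).card :=
    Nat.div_le_of_le_mul h2
  omega

end Cfsg.Agent.Helper5.GC
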