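import Mathlib
import Cfsg.Agent.Helper5.D1c
import Cfsg.Agent.Helper5.D1d
import Cfsg.Agent.Helper5.ThirdMain
import Cfsg.Agent.Helper5.GCt
import Cfsg.Agent.Helper24.Clifford

/-!
# Defect one, modular part (e): assembly of `e ≤ blockRank p B`
-/

set_option autoImplicit false

namespace Cfsg.Agent.Helper5.D1

open Cfsg Cfsg.Agent.Helper24 Cfsg.Agent.Helper5 Cfsg.Agent.Helper5.Loc Cfsg.Agent.Helper5.Res
  Cfsg.Agent.Helper5.CC Cfsg.Agent.Helper5.GC

variable {M : Ideal AlgInt}

/-- The restricted block idempotent acts as `1` modulo `M` on the characters of an inducing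
block. -/
theorem res_act_blockCoeff {G : Type*} [Group G] [Fintype G] [hMax : M.IsMaximal]
    (H : Subgroup G) [Fintype H] {b : Set (IrrCharacter H)} {B : Set (IrrCharacter G)}
    (hind : IsInducedBlock M H b B) (ξ : IrrCharacter H) (hξ : ξ ∈ b) :
    MemLocalRing M (act (fun h : H => blockCoeff B (h : G)) ξ) ∧
      res M (act (fun h : H => blockCoeff B (h : G)) ξ) = 1 := by
  classical
  have hMp : M.IsPrime := hMax.isPrime
  have : Fintype (IrrCharacter G) := Fintype.ofFinite _
  have : Fintype (ConjClasses G) := Fintype.ofFinite _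
  have hB : IsPBlock M B := hind.2.1
  obtain ⟨χ, hχ⟩ := IsPBlock.nonempty hMp hB
  have h1 := act_restrict_sub_act hMp H hind (isClassFunction_blockCoeff B)
    (fun t => osima hMp B hB t) ξ hξ χ hχ
  rw [act_blockCoeff, if_pos hχ] at h1
  have h2 : MemLocalRing M (act (fun h : H => blockCoeff B (h : G)) ξ) := by
    have := lr_add hMp (li_lr h1) (memLocalRing_one hMp)
    rwa [sub_add_cancel] at this
  refine ⟨h2, ?_⟩
  rw [res_eq_of_li h2 (memLocalRing_one hMp) h1, res_one]

/-- **Core of the modular bound**: a family of pairwise separated stable subspaces of a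
representation of `N` with trivial `x`-action, on which the Brauer image of the block idempotent
acts as the identity, has at most `blockRank p B` members. -/
theorem card_le_blockRank_of_family {G : Type*} [Group G] [Fintype G] [DecidableEq G]
    [hMax : M.IsMaximal] [IsAlgClosed (AlgInt ⧸ M)] {p : ℕ} [hp : Fact p.Prime]
    [CharP (AlgInt ⧸ M) p]
    {N H : Subgroup G} [Fintype N] {x : G} (hd : TIData G N H x p)
    (hcard : (Nat.card H : AlgInt ⧸ M) ≠ 0) (hx1 : x ≠ 1)
    (B : Set (IrrCharacter G)) (hB : IsPBlock M B)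
    {X : Type*} [AddCommGroup X] [Module (AlgInt ⧸ M) X] [FiniteDimensional (AlgInt ⧸ M) X]
    (R : Representation (AlgInt ⧸ M) N X) (hRx : R ⟨x, hd.hxN⟩ = 1)
    {ι : Type*} [Fintype ι] [DecidableEq ι] (U : ι → Submodule (AlgInt ⧸ M) X)
    (hne : ∀ i, U i ≠ ⊥) (hstab : ∀ i (g : N), ∀ φ ∈ U i, R g φ ∈ U i)
    (a : ι → N → AlgInt ⧸ M)
    (hsep : ∀ i j, ∀ φ ∈ U j, ∑ g, a i g • R g φ = if i = j then φ else 0)
    (hω : ∀ i, ∀ φ ∈ U i, ∑ n : N, (if (n : G) * x = x * (n : G) then
      res M (blockCoeff B (n : G)) else 0) • R n φ = φ) :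
    Fintype.card ι ≤ blockRank p B := by
  classical
  -- the tops
  set σ : ∀ i, Representation (AlgInt ⧸ M) N (U i) := fun i => subR R (U i) (hstab i) with hσ
  have hσx : ∀ i, σ i ⟨x, hd.hxN⟩ = 1 := by
    intro i
    ext s
    show R ⟨x, hd.hxN⟩ (s : X) = (s : X)
    rw [hRx]
    rfl
  have : ∀ i, Nontrivial (U i) := fun i => Submodule.nontrivial_iff_ne_bot.mpr (hne i)
  have hex : ∀ i, ∃ V : Submodule (AlgInt ⧸ M) (G → U i), SimpleTopS N x p (σ i) V := by
    intro i
    obtain ⟨V, h1, h2, h3, h4, h5⟩ := exists_simple_top' hd hcard hx1 (σ i) (hσx i)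
    exact ⟨V, ⟨h1, h2, h3, h4, h5⟩⟩
  choose V hV using hex
  set ρ : ∀ i, Representation (AlgInt ⧸ M) G (V i) := fun i => srepS (V i) (hV i).stab with hρ
  have : ∀ i, Nontrivial (V i) := fun i => Submodule.nontrivial_iff_ne_bot.mpr (hV i).ne
  have hirr : ∀ i, IsIrr (ρ i) := fun i => isIrr_srepS (hV i).stab (hV i).min
  -- pairwise non-isomorphic
  have hni : ∀ i j, i ≠ j → ∀ θ : V j →ₗ[AlgInt ⧸ M] V i, (∀ g w, θ (ρ j g w) = ρ i g (θ w)) → θ = 0 := by
    intro i j hij θ hθ
    refine hom_eq_zero_of_sep hd hcard (hσx j) (hσx i) (a j) ?_ ?_ (hV j) (hV i) θ hθ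
    · intro s
      apply Subtype.ext
      have := hsep j j (s : X) s.2
      rw [if_pos rfl] at this
      rw [← this]
      simp only [Submodule.coe_sum, Submodule.coe_smul]
      exact Finset.sum_congr rfl fun g _ => rfl
    · intro s'
      apply Subtype.ext
      have := hsep j i (s' : X) s'.2
      rw [if_neg (Ne.symm hij)] at this
      rw [Submodule.coe_zero, ← this]
      simp only [Submodule.coe_sum, Submodule.coe_smul]
      exact Finset.sum_congr rfl fun g _ => rfl
  -- the class functions
  set z : ι → G → AlgInt ⧸ M := fun i => trfR (ρ i) with hz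
  have hzcf : ∀ i, IsCF (z i) := fun i => isCF_trfR (ρ i)
  have hunip : ∀ i (u y : G) (n : ℕ), u ^ (p ^ n) = 1 → u * y = y * u → z i (u * y) = z i y :=
    fun i u y n hu huy => trfR_unip (ρ i) p u y n hu huy
  have hfix : ∀ i, ck (fun g => res M (blockCoeff B g)) (z i) = z i := by
    intro i
    have hend : ∑ g, (fun g => res M (blockCoeff B g)) g • ρ i g =
        (1 : AlgInt ⧸ M) • (1 : Module.End (AlgInt ⧸ M) (V i)) := by
      refine LinearMap.ext fun v => ?_
      apply Subtype.ext
      rw [one_smul, Module.End.one_apply]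
      have h1 := central_charS hd (hσx i) (hV i) (fun g => res M (blockCoeff B g))
        (eps_isCF B) 1 ?_ (v : G → U i) v.2
      · rw [one_smul] at h1
        rw [← h1]
        simp only [LinearMap.sum_apply, LinearMap.smul_apply, Submodule.coe_sum,
          Submodule.coe_smul]
        rfl
      · intro s
        rw [one_smul]
        apply Subtype.ext
        have := hω i (s : X) s.2
        rw [← this]
        simp only [Submodule.coe_sum, Submodule.coe_smul]
        rfl
    have := ck_trfR (ρ i) (fun g => res M (blockCoeff B g)) 1 hend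
    rw [one_smul] at this
    exact this
  have hli : LinearIndependent (AlgInt ⧸ M) z := by
    rw [Fintype.linearIndependent_iff]
    intro c hc
    refine trace_indep ρ hirr hni c ?_
    intro g
    have := congrFun hc g⁻¹
    rw [Finset.sum_apply, Pi.zero_apply] at this
    rw [← this]
    refine Finset.sum_congr rfl fun i _ => ?_
    rw [Pi.smul_apply, smul_eq_mul]
    show _ = c i * LinearMap.trace (AlgInt ⧸ M) (V i) (ρ i g⁻¹⁻¹)
    rw [inv_inv]
  exact card_le_blockRank p B hB z hzcf hfix hunip hli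

end Cfsg.Agent.Helper5.D1
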