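import Mathlib
import Cfsg.Agent.Helper5.GCs

/-!
# Group-theoretic facts on a Sylow `p`-subgroup of order `p` needed to apply the
exceptional character theory
-/

set_option autoImplicit false

namespace Cfsg.Agent.Helper5.GC

open Subgroup

variable {G : Type*} [Group G] [Finite G] {p : ℕ} [hp : Fact p.Prime] (P : Sylow p G)

theorem relIndex_dvd_pred (hP : Nat.card P = p) :
    (centralizer ((P : Subgroup G) : Set G)).relIndex (normalizer ((P : Subgroup G) : Set G)) ∣
      p - 1 := by
  haveI : IsCyclic (P : Subgroup G) := isCyclic_of_prime_card (p := p) hP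
  have key := Subgroup.card_dvd_of_injective _
    (QuotientGroup.kerLift_injective (P : Subgroup G).normalizerMonoidHom)
  rw [Subgroup.normalizerMonoidHom_ker, ← Subgroup.index, ← Subgroup.relIndex] at key
  have h2 : Nat.card (MulAut (P : Subgroup G)) = p - 1 := by
    rw [IsCyclic.card_mulAut, show Nat.card (P : Subgroup G) = p from hP,
      Nat.totient_prime hp.out]
  rwa [h2] at key

theorem isMulCommutative_of_card (hP : Nat.card P = p) : IsMulCommutative P := by
  haveI : IsCyclic (P : Subgroup G) := isCyclic_of_prime_card (p := p) hP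
  exact ⟨⟨fun a b => (IsCyclic.commGroup (α := (P : Subgroup G))).mul_comm a b⟩⟩

theorem centralizer_singleton_inf (hP : Nat.card P = p) (y : G) (hy : y ∈ (P : Subgroup G))
    (hy1 : y ≠ 1) :
    centralizer ({y} : Set G) ⊓ normalizer ((P : Subgroup G) : Set G) =
      centralizer ((P : Subgroup G) : Set G) := by
  have htop : zpowers (⟨y, hy⟩ : (P : Subgroup G)) = ⊤ :=
    zpowers_eq_top_of_prime_card (p := p) hP (fun h => hy1 (congrArg Subtype.val h))
  apply le_antisymm
  · rintro g ⟨hg, -⟩
    have hg : g ∈ centralizer ({y} : Set G) := hg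
    rw [Subgroup.mem_centralizer_iff] at hg ⊢
    have hgy : y * g = g * y := hg y (Set.mem_singleton y)
    intro w hw
    have : (⟨w, hw⟩ : (P : Subgroup G)) ∈ zpowers (⟨y, hy⟩ : (P : Subgroup G)) := by
      rw [htop]; trivial
    obtain ⟨i, hi⟩ := mem_zpowers_iff.mp this
    have hwy : w = y ^ i := by
      have := congrArg Subtype.val hi
      simpa using this.symm
    rw [hwy]
    exact ((show Commute y g from hgy).zpow_left i).eq
  · intro g hg
    refine ⟨?_, Subgroup.centralizer_le_normalizer _ hg⟩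
    show g ∈ centralizer ({y} : Set G)
    rw [Subgroup.mem_centralizer_iff] at hg ⊢
    intro w hw
    rw [Set.mem_singleton_iff] at hw
    rw [hw]
    exact hg y hy

theorem exists_cyclic_generator (k : Type*) [Field k] [CharP k p] (hP : Nat.card P = p) :
    ∃ g : G, g ∈ normalizer ((P : Subgroup G) : Set G) ∧
      centralizer ((P : Subgroup G) : Set G) ⊔ zpowers g =
        normalizer ((P : Subgroup G) : Set G) := by
  set N := normalizer ((P : Subgroup G) : Set G) with hN
  set α₀ := alpha0 P k hP with hα₀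
  have : Finite α₀.range := Finite.of_equiv _ (QuotientGroup.quotientKerEquivRange α₀).toEquiv
  obtain ⟨ζ, hζ⟩ := IsCyclic.exists_generator (α := α₀.range)
  obtain ⟨n₀, hn₀⟩ : ∃ n₀, α₀ n₀ = (ζ : kˣ) := ζ.2
  refine ⟨(n₀ : G), n₀.2, ?_⟩
  apply le_antisymm
  · apply sup_le (Subgroup.centralizer_le_normalizer _)
    rw [zpowers_le]
    exact n₀.2
  · intro n hn
    have h1 : (⟨α₀ ⟨n, hn⟩, ⟨n, hn⟩, rfl⟩ : α₀.range) ∈ zpowers ζ := hζ _
    obtain ⟨j, hj⟩ := mem_zpowers_iff.mp h1
    have h2 : α₀ ⟨n, hn⟩ = α₀ n₀ ^ j := by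
      have := congrArg Subtype.val hj
      rw [hn₀]
      simpa using this.symm
    have h3 : (⟨n, hn⟩ : N) * (n₀ ^ j)⁻¹ ∈ α₀.ker := by
      rw [MonoidHom.mem_ker, map_mul, map_inv, map_zpow, h2, mul_inv_cancel]
    rw [ker_alpha0, Subgroup.mem_subgroupOf] at h3
    have h4 : n = ((⟨n, hn⟩ : N) * (n₀ ^ j)⁻¹ : N) * ((n₀ : G) ^ j) := by
      simp
    rw [h4]
    exact Subgroup.mul_mem_sup h3 (Subgroup.zpow_mem _ (mem_zpowers _) j)

end Cfsg.Agent.Helper5.GC
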