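import Mathlib
import Cfsg.Agent.Helper5.D1e
import Cfsg.Agent.Helper5.D1Defs
import Cfsg.Agent.Helper5.GCu
import Cfsg.Agent.Helper29.D1PF3
import Cfsg.Agent.Helper20.D1PY
import Cfsg.Agent.Helper23.D1PX

/-!
# Defect one, modular part: `e ≤ blockRank p B`
-/

set_option autoImplicit false


namespace Cfsg.Agent.Helper5.D1

open Cfsg Cfsg.Agent.Helper24 Cfsg.Agent.Helper5 Cfsg.Agent.Helper5.Loc Cfsg.Agent.Helper5.Res
  Cfsg.Agent.Helper5.CC Cfsg.Agent.Helper5.GC Subgroup

theorem relIndex_le_blockRank {G : Type*} [Group G] [Finite G] (p : ℕ) [hp : Fact p.Prime]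
    (M : Ideal AlgInt) (hM : IsPModular p M) (P : Sylow p G) (hP : Nat.card P = p)
    (B : Set (IrrCharacter G))
    (b : Set (IrrCharacter (Subgroup.centralizer ((P : Subgroup G) : Set G))))
    (hind : IsInducedBlock M (Subgroup.centralizer ((P : Subgroup G) : Set G)) b B)
    (θ : IrrCharacter (Subgroup.centralizer ((P : Subgroup G) : Set G))) (hθ : θ ∈ b)
    (hθP : ∀ x : Subgroup.centralizer ((P : Subgroup G) : Set G), (x : G) ∈ (P : Subgroup G) →
      (θ : Subgroup.centralizer ((P : Subgroup G) : Set G) → ℂ) x =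
        (θ : Subgroup.centralizer ((P : Subgroup G) : Set G) → ℂ) 1)
    (T : Subgroup G)
    (hT : ∀ g : G, g ∈ T ↔ (g ∈ Subgroup.normalizer ((P : Subgroup G) : Set G) ∧
      ∀ c c' : Subgroup.centralizer ((P : Subgroup G) : Set G), (c' : G) = g * c * g⁻¹ →
        (θ : Subgroup.centralizer ((P : Subgroup G) : Set G) → ℂ) c' =
          (θ : Subgroup.centralizer ((P : Subgroup G) : Set G) → ℂ) c)) :
    (Subgroup.centralizer ((P : Subgroup G) : Set G)).relIndex T ≤ blockRank p B := by
  classical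
  haveI : Fintype G := Fintype.ofFinite G
  haveI hMax : M.IsMaximal := hM.2.1
  haveI : CharP (AlgInt ⧸ M) p := algInt_quot_charP p M hM
  haveI : IsAlgClosed (AlgInt ⧸ M) := isAlgClosed_algInt_quot M
  have hMp : M.IsPrime := hMax.isPrime
  haveI : Fintype (IrrCharacter G) := Fintype.ofFinite _
  obtain ⟨x, hx1, hxp, hPx⟩ := exists_generator P hP
  obtain ⟨H, hd, hcard⟩ := exists_tiData P hP (AlgInt ⧸ M) hx1 hxp hPx
  have hB : IsPBlock M B := hind.2.1
  have hxP : x ∈ (P : Subgroup G) := by rw [hPx]; exact mem_zpowers x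
  have hPC : (P : Subgroup G) ≤ centralizer ((P : Subgroup G) : Set G) := by
    haveI := isMulCommutative_of_card P hP
    exact Subgroup.le_centralizer (P : Subgroup G)
  have hCN : centralizer ((P : Subgroup G) : Set G) ≤ normalizer ((P : Subgroup G) : Set G) :=
    fun g hg => Subgroup.centralizer_le_normalizer _ hg
  have hTN : T ≤ normalizer ((P : Subgroup G) : Set G) := fun g hg => ((hT g).mp hg).1
  -- the normal subgroups of `N`
  set Pn : Subgroup (normalizer ((P : Subgroup G) : Set G)) :=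
    (P : Subgroup G).subgroupOf (normalizer ((P : Subgroup G) : Set G)) with hPn
  haveI hPnN : Pn.Normal := Subgroup.normal_in_normalizer
  have hidx : ¬ p ∣ Pn.index := by
    intro hdvd
    have h1 : Pn.index ∣ (P : Subgroup G).index := by
      have := Subgroup.relIndex_mul_index (le_normalizer : (P : Subgroup G) ≤ _)
      exact Dvd.intro _ this
    exact P.not_dvd_index (hdvd.trans h1)
  have hxPn : (⟨x, hd.hxN⟩ : normalizer ((P : Subgroup G) : Set G)) ∈ Pn :=
    Subgroup.mem_subgroupOf.mpr hxP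
  set α₀ := alpha0 P (AlgInt ⧸ M) hP with hα₀
  have hker : α₀.ker = (centralizer ((P : Subgroup G) : Set G)).subgroupOf
      (normalizer ((P : Subgroup G) : Set G)) := ker_alpha0 P (AlgInt ⧸ M) hP
  have hcyc : IsCyclic (normalizer ((P : Subgroup G) : Set G) ⧸ α₀.ker) := by
    haveI : Finite α₀.range := inferInstance
    haveI : IsCyclic α₀.range := inferInstance
    exact isCyclic_of_surjective (QuotientGroup.quotientKerEquivRange α₀).symm.toMonoidHom
      (MulEquiv.surjective _)
  have hmemA : ∀ n : normalizer ((P : Subgroup G) : Set G),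
      n ∈ α₀.ker ↔ (n : G) ∈ centralizer ((P : Subgroup G) : Set G) := by
    intro n
    rw [hker]
    exact Subgroup.mem_subgroupOf
  -- `C = C_G(x)`
  have hmemC : ∀ g : G, g ∈ centralizer ((P : Subgroup G) : Set G) ↔ g * x = x * g := by
    intro g
    rw [Subgroup.mem_centralizer_iff]
    constructor
    · intro h
      exact (h x hxP).symm
    · intro h y hy
      rw [SetLike.mem_coe, hPx] at hy
      obtain ⟨i, rfl⟩ := exists_pow_of_mem_zpowers hy
      exact ((show Commute g x from h).pow_right i).eq.symm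
  -- the character `ϑ` of `A`
  let f : α₀.ker →* centralizer ((P : Subgroup G) : Set G) :=
    { toFun := fun a => ⟨((a : normalizer ((P : Subgroup G) : Set G)) : G), (hmemA a).mp a.2⟩
      map_one' := rfl
      map_mul' := fun _ _ => rfl }
  have hfs : Function.Surjective f := fun c => ⟨⟨⟨c, hCN c.2⟩, (hmemA _).mpr c.2⟩, rfl⟩
  have hfi : Function.Injective f := by
    intro a a' h
    apply Subtype.ext
    apply Subtype.ext
    exact congrArg (fun c : centralizer ((P : Subgroup G) : Set G) => (c : G)) h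
  let ϑ : IrrCharacter α₀.ker :=
    ⟨fun a => (θ : centralizer ((P : Subgroup G) : Set G) → ℂ) (f a),
      Helper8.isIrrCharacter_comp_surjective f hfs θ.2⟩
  have hϑ : ∀ a : α₀.ker, (ϑ : α₀.ker → ℂ) a =
      (θ : centralizer ((P : Subgroup G) : Set G) → ℂ) (f a) := fun a => rfl
  haveI hAN : α₀.ker.Normal := MonoidHom.normal_ker α₀
  set T' : Subgroup (normalizer ((P : Subgroup G) : Set G)) :=
    T.subgroupOf (normalizer ((P : Subgroup G) : Set G)) with hT'def
  have hT' : ∀ g : normalizer ((P : Subgroup G) : Set G), g ∈ T' ↔ ∀ a : α₀.ker,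
      (ϑ : α₀.ker → ℂ) ⟨g * a * g⁻¹, hAN.conj_mem (a : normalizer ((P : Subgroup G) : Set G)) a.2 g⟩ =
        (ϑ : α₀.ker → ℂ) a := by
    intro g
    rw [hT'def, Subgroup.mem_subgroupOf, hT]
    constructor
    · rintro ⟨-, h⟩ a
      rw [hϑ, hϑ]
      exact h (f a) (f ⟨g * a * g⁻¹, hAN.conj_mem _ a.2 g⟩) rfl
    · intro h
      refine ⟨g.2, fun c c' hcc' => ?_⟩
      have h1 := h ⟨⟨c, hCN c.2⟩, (hmemA _).mpr c.2⟩
      rw [hϑ] at h1
      rw [hϑ ⟨⟨c, hCN c.2⟩, (hmemA _).mpr c.2⟩] at h1
      have e1 : f ⟨⟨c, hCN c.2⟩, (hmemA _).mpr c.2⟩ = c := rfl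
      have e2 : f ⟨g * (⟨⟨c, hCN c.2⟩, (hmemA _).mpr c.2⟩ : α₀.ker) * g⁻¹,
          hAN.conj_mem _ (Subtype.property _) g⟩ = c' := by
        apply Subtype.ext
        exact hcc'.symm
      rw [e1, e2] at h1
      exact h1
  obtain ⟨Ξ, hΞcard, hΞ⟩ := Cfsg.Agent.Helper23.D1PX.exists_chars_over_of_cyclic α₀.ker hcyc ϑ T' hT'
  have hcardΞ : Ξ.card = (centralizer ((P : Subgroup G) : Set G)).relIndex T := by
    rw [hΞcard, hker]
    exact Subgroup.relIndex_subgroupOf hTN
  -- the family of characters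
  have hPnA : ∀ u : normalizer ((P : Subgroup G) : Set G), u ∈ Pn → u ∈ α₀.ker := by
    intro u hu
    rw [hmemA]
    exact hPC (Subgroup.mem_subgroupOf.mp hu)
  have hkerξ : ∀ i : Ξ, ∀ u ∈ Pn,
      ((i : IrrCharacter (normalizer ((P : Subgroup G) : Set G))) :
        normalizer ((P : Subgroup G) : Set G) → ℂ) u =
      ((i : IrrCharacter (normalizer ((P : Subgroup G) : Set G))) :
        normalizer ((P : Subgroup G) : Set G) → ℂ) 1 := by
    intro i u hu
    have h2 := (Cfsg.Agent.Helper20.D1PY.act_of_over α₀.ker ϑ i.1 (hΞ i.1 i.2)).2 ⟨u, hPnA u hu⟩ ?_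
    · exact h2
    · intro g
      rw [hϑ, hϑ 1]
      have h3 : f 1 = 1 := map_one f
      rw [h3]
      apply hθP
      have : g * u * g⁻¹ ∈ Pn := hPnN.conj_mem u hu g
      exact Subgroup.mem_subgroupOf.mp this
  obtain ⟨U, hne, hstab, ⟨a, hsep⟩, hcc⟩ := Cfsg.Agent.Helper29.D1PF3.exists_module_family hM Pn hidx
    (fun i : Ξ => (i : IrrCharacter (normalizer ((P : Subgroup G) : Set G))))
    Subtype.val_injective hkerξ
  -- the Brauer image of the block idempotent
  set zC : normalizer ((P : Subgroup G) : Set G) → ℂ := fun n =>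
    if (n : G) ∈ centralizer ((P : Subgroup G) : Set G) then blockCoeff B (n : G) else 0 with hzC
  have hzCcf : IsClassFunction (normalizer ((P : Subgroup G) : Set G)) zC := by
    intro g h
    have hiff : ((h * g * h⁻¹ : normalizer ((P : Subgroup G) : Set G)) : G) ∈
        centralizer ((P : Subgroup G) : Set G) ↔
        (g : G) ∈ centralizer ((P : Subgroup G) : Set G) := by
      rw [← hmemA, ← hmemA]
      constructor
      · intro h1
        have := hAN.conj_mem _ h1 h⁻¹
        have e : h⁻¹ * (h * g * h⁻¹) * h⁻¹⁻¹ = g := by group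
        rwa [e] at this
      · intro h1
        exact hAN.conj_mem _ h1 h
    show (if ((h * g * h⁻¹ : normalizer ((P : Subgroup G) : Set G)) : G) ∈
        centralizer ((P : Subgroup G) : Set G) then
        blockCoeff B ((h * g * h⁻¹ : normalizer ((P : Subgroup G) : Set G)) : G) else 0) =
      if (g : G) ∈ centralizer ((P : Subgroup G) : Set G) then blockCoeff B (g : G) else 0
    by_cases hg : (g : G) ∈ centralizer ((P : Subgroup G) : Set G)
    · rw [if_pos hg, if_pos (hiff.mpr hg)]
      simp only [Subgroup.coe_mul, Subgroup.coe_inv]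
      exact isClassFunction_blockCoeff B (g : G) (h : G)
    · rw [if_neg hg, if_neg (fun h' => hg (hiff.mp h'))]
  have hzClr : ∀ g, MemLocalRing M (zC g) := by
    intro g
    show MemLocalRing M (if (g : G) ∈ centralizer ((P : Subgroup G) : Set G) then
      blockCoeff B (g : G) else 0)
    split_ifs
    · exact osima hMp B hB _
    · exact memLocalRing_zero hMp
  have hzCoff : ∀ g, g ∉ α₀.ker → zC g = 0 := by
    intro g hg
    show (if (g : G) ∈ centralizer ((P : Subgroup G) : Set G) then
      blockCoeff B (g : G) else 0) = 0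
    rw [if_neg (fun h => hg ((hmemA g).mpr h))]
  have hact : ∀ i : Ξ, res M (act zC (i : IrrCharacter (normalizer ((P : Subgroup G) : Set G)))) =
      1 := by
    intro i
    rw [(Cfsg.Agent.Helper20.D1PY.act_of_over α₀.ker ϑ i.1 (hΞ i.1 i.2)).1 zC hzCcf hzCoff]
    have e : act (fun a : α₀.ker => zC a) ϑ =
        act (fun c : centralizer ((P : Subgroup G) : Set G) => blockCoeff B (c : G)) θ := by
      unfold act
      have h3 : f 1 = 1 := map_one f
      rw [hϑ 1, h3]
      congr 1
      rw [← Function.Bijective.sum_comp (⟨hfi, hfs⟩ : Function.Bijective f) (g := fun c : centralizer ((P : Subgroup G) : Set G) =>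
        blockCoeff B (c : G) * (θ : centralizer ((P : Subgroup G) : Set G) → ℂ) c) ]
      refine Finset.sum_congr rfl fun a _ => ?_
      rw [hϑ]
      congr 1
      show (if ((a : normalizer ((P : Subgroup G) : Set G)) : G) ∈
        centralizer ((P : Subgroup G) : Set G) then
        blockCoeff B ((a : normalizer ((P : Subgroup G) : Set G)) : G) else 0) = _
      rw [if_pos ((hmemA a).mp a.2)]
      rfl
    rw [e]
    exact (res_act_blockCoeff _ hind θ hθ).2
  have hω : ∀ i : Ξ, ∀ φ ∈ U i, ∑ n : normalizer ((P : Subgroup G) : Set G),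
      (if (n : G) * x = x * (n : G) then res M (blockCoeff B (n : G)) else 0) •
        rq (AlgInt ⧸ M) Pn n φ = φ := by
    intro i φ hφ
    have h1 := hcc i zC hzCcf hzClr φ hφ
    rw [hact i, one_smul] at h1
    refine Eq.trans ?_ h1
    refine Finset.sum_congr rfl fun n _ => ?_
    congr 1
    show _ = res M (if (n : G) ∈ centralizer ((P : Subgroup G) : Set G) then
      blockCoeff B (n : G) else 0)
    by_cases hn : (n : G) * x = x * (n : G)
    · rw [if_pos hn, if_pos ((hmemC _).mpr hn)]
    · rw [if_neg hn, if_neg (fun h => hn ((hmemC _).mp h)), res_zero]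
  have hfinal := card_le_blockRank_of_family hd hcard hx1 B hB (rq (AlgInt ⧸ M) Pn)
    (rq_of_mem Pn hxPn) U hne hstab a hsep hω
  rw [Fintype.card_coe, hcardΞ] at hfinal
  exact hfinal

end Cfsg.Agent.Helper5.D1
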