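import Cfsg.Agent.Helper5.PDDefs
import Cfsg.Agent.Helper5.D1Count
import Cfsg.Agent.Helper8.D1Main

set_option autoImplicit false

/-!
# S4466 piece D1APP: Brauer's defect-one theorem when the Sylow subgroup is self-centralizing
-/

namespace Cfsg.Agent.Helper5.PD

open Cfsg Cfsg.Agent.Helper24 Cfsg.Agent.Helper5 Cfsg.Agent.Helper5.Loc Cfsg.Agent.Helper5.CC Cfsg.Agent.Helper5.D1Q Cfsg.Agent.Helper8.D1

universe u

/-- an irreducible character which is constant is the trivial character -/
theorem irr_const_eq_one {C : Type u} [Group C] [Finite C] (θ : IrrCharacter C)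
    (h : ∀ x : C, (θ : C → ℂ) x = (θ : C → ℂ) 1) : ∀ x : C, (θ : C → ℂ) x = 1 := by
  classical
  have : Fintype C := Fintype.ofFinite C
  have h1 := classInner_of_isIrrCharacter θ.2 θ.2
  rw [if_pos rfl] at h1
  unfold classInner at h1
  have hd := irrDeg_spec θ
  have hsum : ∑ g : C, (θ : C → ℂ) g * (starRingEnd ℂ) ((θ : C → ℂ) g) =
      (Nat.card C : ℂ) * ((irrDeg θ : ℂ) * (irrDeg θ : ℂ)) := by
    rw [Finset.sum_congr rfl (fun g _ => by rw [h g, hd, Complex.conj_natCast])]
    rw [Finset.sum_const, Finset.card_univ, nsmul_eq_mul, Nat.card_eq_fintype_card]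
  rw [hsum, ← mul_assoc, inv_mul_cancel₀ card_ne_zero_complex, one_mul] at h1
  have h2 : irrDeg θ * irrDeg θ = 1 := by exact_mod_cast h1
  have h3 : irrDeg θ = 1 := Nat.eq_one_of_mul_eq_one_left h2
  intro x
  rw [h x, hd, h3]
  simp

theorem exists_pm_one_degrees {G : Type u} [Group G] [Finite G] (r : ℕ) [hr : Fact r.Prime]
    (_hodd : r ≠ 2) (R : Sylow r G) (hR : Nat.card R = r)
    (hC : Subgroup.centralizer ((R : Subgroup G) : Set G) = (R : Subgroup G)) :
    ∃ X : Set (IrrCharacter G),
      Nat.card X = (R : Subgroup G).relIndex (Subgroup.normalizer ((R : Subgroup G) : Set G)) ∧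
      ∀ χ ∈ X, ((charDegree (χ : G → ℂ) : ℤ) ≡ 1 [ZMOD r] ∨
        (charDegree (χ : G → ℂ) : ℤ) ≡ -1 [ZMOD r]) := by
  classical
  have : Fintype G := Fintype.ofFinite G
  have : Fintype (IrrCharacter G) := Fintype.ofFinite _
  obtain ⟨M, hM⟩ := Cfsg.Agent.Helper24.exists_isPModular r hr.out
  have hMp := isPrime_of_isPModular hM
  -- `r ∥ |G|`
  have hcardR : Nat.card R = r ^ (Nat.card G).factorization r := R.card_eq_multiplicity
  have hfac : (Nat.card G).factorization r = 1 := by
    rw [hR] at hcardR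
    have h1 : r ^ 1 = r ^ (Nat.card G).factorization r := by rw [pow_one]; exact hcardR
    exact (Nat.pow_right_injective hr.out.two_le h1).symm
  have h0 : Nat.card G ≠ 0 := Nat.card_pos.ne'
  have hdiv : r ∣ Nat.card G := (hr.out.dvd_iff_one_le_factorization h0).mpr (by omega)
  have hsq : ¬ r ^ 2 ∣ Nat.card G := fun h => by
    have := (hr.out.pow_dvd_iff_le_factorization h0).mp h
    omega
  -- the principal block
  set χ₀ : IrrCharacter G := trivIrr G with hχ₀
  set B : Set (IrrCharacter G) := blockOf M (χ₀ : G → ℂ) with hBdef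
  have hB : IsPBlock M B := isPBlock_blockOf χ₀
  have hχ₀deg : charDegree (χ₀ : G → ℂ) = 1 := by
    unfold charDegree
    show ⌊((1 : ℂ)).re⌋₊ = 1
    simp
  have hd : 0 < blockDefect r B := by
    unfold blockDefect
    have h1 : sInf ((fun ψ : IrrCharacter G => (charDegree (ψ : G → ℂ)).factorization r) '' B) = 0 := by
      apply Nat.eq_zero_of_le_zero
      apply Nat.sInf_le
      refine ⟨χ₀, mem_blockOf_self hMp χ₀, ?_⟩
      show (charDegree (χ₀ : G → ℂ)).factorization r = 0
      rw [hχ₀deg]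
      simp
    rw [h1, Nat.sub_zero, hfac]
    exact Nat.one_pos
  have hBP : IsDefectGroup r M B R := isDefectGroup_sylow_of_pos hM hdiv hsq R B hB hd
  obtain ⟨b, θ, hind, hθ, hθP⟩ := exists_root_of_defectGroup r M hM R hR B hB hBP
  -- `θ` is trivial
  have hθconst : ∀ x : Subgroup.centralizer ((R : Subgroup G) : Set G),
      (θ : Subgroup.centralizer ((R : Subgroup G) : Set G) → ℂ) x =
        (θ : Subgroup.centralizer ((R : Subgroup G) : Set G) → ℂ) 1 := by
    intro x
    apply hθP
    have h1 : (x : G) ∈ Subgroup.centralizer ((R : Subgroup G) : Set G) := x.2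
    have h2 : ∀ (A B : Subgroup G), A = B → ∀ y : G, y ∈ A → y ∈ B := by
      intro A B hAB y hy
      rw [← hAB]; exact hy
    exact h2 _ _ hC _ h1
  have hθ1 := irr_const_eq_one θ hθconst
  have hθdeg : charDegree (θ : Subgroup.centralizer ((R : Subgroup G) : Set G) → ℂ) = 1 := by
    unfold charDegree
    rw [hθ1 1]
    simp
  -- the stabilizer is the whole normalizer
  set T : Subgroup G := Subgroup.normalizer ((R : Subgroup G) : Set G) with hTdef
  have hT : ∀ g : G, g ∈ T ↔ (g ∈ Subgroup.normalizer ((R : Subgroup G) : Set G) ∧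
      ∀ c c' : Subgroup.centralizer ((R : Subgroup G) : Set G), (c' : G) = g * c * g⁻¹ →
        (θ : Subgroup.centralizer ((R : Subgroup G) : Set G) → ℂ) c' =
          (θ : Subgroup.centralizer ((R : Subgroup G) : Set G) → ℂ) c) := by
    intro g
    constructor
    · intro hg
      exact ⟨hg, fun c c' _ => by rw [hθ1 c, hθ1 c']⟩
    · intro hg
      exact hg.1
  set f := (Subgroup.centralizer ((R : Subgroup G) : Set G)).relIndex
    (Subgroup.normalizer ((R : Subgroup G) : Set G)) with hf
  obtain ⟨hediv, -, X, Y, -, -, hXcard, -, hX, -, -⟩ :=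
    block_main r M hM R hR B hB hBP b hind θ hθ hθP T hT f f rfl rfl
  have hfpos : 0 < f := by
    have : f ≠ 0 := by
      intro h0
      rw [h0] at hediv
      have h1 : r - 1 = 0 := Nat.eq_zero_of_zero_dvd hediv
      have := hr.out.two_le
      omega
    omega
  refine ⟨X, ?_, ?_⟩
  · rw [hXcard, hf, hC]
  · intro χ hχ
    have := hX χ hχ
    rw [hθdeg, Nat.div_self hfpos, Nat.mul_one] at this
    simpa using this

end Cfsg.Agent.Helper5.PD
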