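import Mathlib
import Cfsg.Agent.Helper1.S4503Defs
import Cfsg.Agent.Helper23.S4503LIN
import Cfsg.Agent.Helper11.D1QL
import Cfsg.Agent.Helper11.D1QCc
import Cfsg.Agent.Helper18.D1QO
import Cfsg.Agent.Helper8.CharComp

/-!
# S4503, piece PREG: the sum of the multiplicities of the `p`-linear characters only sees the
`p`-regular elements
-/

set_option autoImplicit false

namespace Cfsg.Agent.Helper5.S4503PREG

open Cfsg Cfsg.Agent.Helper24 Cfsg.Agent.Helper8.D1 Cfsg.Agent.S4705P Cfsg.Agent.S4503P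
  Cfsg.Agent.Helper11.D1QC Cfsg.Agent.Helper11.D1QL Cfsg.Agent.Helper18.D1QO
open scoped ComplexConjugate

universe u

variable {G : Type u} [Group G] [Finite G]

/-- a `p`-linear function is an irreducible character -/
theorem isIrr_of_isPLin {X : Type*} [Group X] [Finite X] {p : ℕ} {μ : X → ℂ} (h : IsPLin p μ) :
    IsIrrCharacter X μ := by
  have h1 := h.isIrr_mul (θ := fun _ => (1 : ℂ)) isIrrCharacter_const_one
  have h2 : (fun x => μ x * (1 : ℂ)) = μ := by
    funext x
    rw [mul_one]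
  rwa [h2] at h1

/-- the sum of the values of the `p`-linear functions at a `p`-singular element vanishes -/
theorem sum_pLin_singular (p : ℕ) [Fact p.Prime] (P : Sylow p G) (hP : Nat.card P = p)
    [Fintype (Lty p (P : Subgroup G))]
    (c : Subgroup.centralizer ((P : Subgroup G) : Set G)) (hc : p ∣ orderOf (c : G)) :
    ∑ ν : Lty p (P : Subgroup G), ν.1 c = 0 := by
  classical
  have hp : p.Prime := Fact.out
  obtain ⟨hZ, hZc, hZi⟩ := subgroupOf_facts P hP
  have hcardL0 : Nat.card (Lty p (P : Subgroup G)) = p := card_pLin _ hZ hZc hZi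
  -- a nontrivial member
  have hex : ∃ ν₀ : Lty p (P : Subgroup G), ∃ x, ν₀.1 x ≠ 1 := by
    by_contra hne
    push Not at hne
    have hsub : Subsingleton (Lty p (P : Subgroup G)) := by
      constructor
      intro a b
      apply Subtype.ext
      funext x
      rw [hne a x, hne b x]
    have : Nat.card (Lty p (P : Subgroup G)) ≤ 1 := Finite.card_le_one_iff_subsingleton.mpr hsub
    rw [hcardL0] at this
    have := hp.two_le
    omega
  obtain ⟨ν₀, hν₀⟩ := hex
  -- the element `u = c ^ index` of `Z`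
  set Z := (P : Subgroup G).subgroupOf (Subgroup.centralizer ((P : Subgroup G) : Set G)) with hZdef
  have hu : c ^ Z.index ∈ Z := pow_index_mem Z hZc c
  have hu1 : c ^ Z.index ≠ 1 := by
    intro h1
    have h2 : orderOf c ∣ Z.index := orderOf_dvd_of_pow_eq_one h1
    have h3 : orderOf (c : G) = orderOf c := Subgroup.orderOf_coe c
    rw [h3] at hc
    exact hZi (dvd_trans hc h2)
  have hne : ν₀.1 (c ^ Z.index) ≠ 1 := pLin_apply_ne_one Z hZ hZc hZi ν₀.2 hν₀ hu hu1
  have hne' : ν₀.1 c ≠ 1 := by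
    intro h1
    apply hne
    rw [ν₀.2.pow, h1, one_pow]
  -- multiplication by `ν₀` permutes the `p`-linear functions
  let e : Lty p (P : Subgroup G) ≃ Lty p (P : Subgroup G) :=
    { toFun := fun ν => ⟨fun x => ν₀.1 x * ν.1 x, ν₀.2.mul' ν.2⟩
      invFun := fun ν => ⟨fun x => (ν₀.1 x)⁻¹ * ν.1 x, ν₀.2.inv'.mul' ν.2⟩
      left_inv := by
        intro ν
        apply Subtype.ext
        funext x
        show (ν₀.1 x)⁻¹ * (ν₀.1 x * ν.1 x) = ν.1 x
        rw [← mul_assoc, inv_mul_cancel₀ (ν₀.2.ne_zero x), one_mul]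
      right_inv := by
        intro ν
        apply Subtype.ext
        funext x
        show ν₀.1 x * ((ν₀.1 x)⁻¹ * ν.1 x) = ν.1 x
        rw [← mul_assoc, mul_inv_cancel₀ (ν₀.2.ne_zero x), one_mul] }
  have hperm : ∑ ν : Lty p (P : Subgroup G), ν.1 c =
      ν₀.1 c * ∑ ν : Lty p (P : Subgroup G), ν.1 c := by
    rw [Finset.mul_sum]
    exact (Equiv.sum_comp e (fun ν => ν.1 c)).symm
  have h0 : (1 - ν₀.1 c) * ∑ ν : Lty p (P : Subgroup G), ν.1 c = 0 := by
    rw [sub_mul, one_mul, ← hperm, sub_self]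
  rcases mul_eq_zero.mp h0 with h | h
  · exfalso
    apply hne'
    have := sub_eq_zero.mp h
    exact this.symm
  · exact h

/-- the sum of the multiplicities of the `p`-linear functions, as a sum over `p`-regular elements -/
theorem sum_mult_eq (p : ℕ) [Fact p.Prime] (P : Sylow p G) (hP : Nat.card P = p)
    [Fintype (Lty p (P : Subgroup G))]
    [Fintype (Subgroup.centralizer ((P : Subgroup G) : Set G))] (Ξ : G → ℂ) :
    ∑ ν : Lty p (P : Subgroup G), mult (Subgroup.centralizer ((P : Subgroup G) : Set G)) ν.1 Ξ =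
      (Nat.card (Subgroup.centralizer ((P : Subgroup G) : Set G)) : ℂ)⁻¹ *
        ∑ c : Subgroup.centralizer ((P : Subgroup G) : Set G),
          if p ∣ orderOf (c : G) then 0 else (p : ℂ) * Ξ c := by
  classical
  obtain ⟨hZ, hZc, hZi⟩ := subgroupOf_facts P hP
  have hcardL0 : Nat.card (Lty p (P : Subgroup G)) = p := card_pLin _ hZ hZc hZi
  have hcardL : Fintype.card (Lty p (P : Subgroup G)) = p := by
    rw [← Nat.card_eq_fintype_card]; exact hcardL0
  simp_rw [mult_eq]
  unfold classInner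
  rw [← Finset.mul_sum, Finset.sum_comm]
  congr 1
  refine Finset.sum_congr rfl fun c _ => ?_
  rw [← Finset.mul_sum]
  by_cases hc : p ∣ orderOf (c : G)
  · rw [if_pos hc]
    have h1 := sum_pLin_singular p P hP c hc
    have h2 : ∑ ν : Lty p (P : Subgroup G), conj (ν.1 c) = 0 := by
      rw [← map_sum, h1, map_zero]
    rw [h2, mul_zero]
  · rw [if_neg hc]
    have h3 : orderOf (c : G) = orderOf c := Subgroup.orderOf_coe c
    have h2 : ∑ ν : Lty p (P : Subgroup G), conj (ν.1 c) = (p : ℂ) := by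
      have : ∀ ν : Lty p (P : Subgroup G), conj (ν.1 c) = 1 := by
        intro ν
        rw [ν.2.reg c (by rwa [← h3]), map_one]
      simp_rw [this]
      rw [Finset.sum_const, Finset.card_univ, hcardL, nsmul_eq_mul, mul_one]
    rw [h2, mul_comm]

end Cfsg.Agent.Helper5.S4503PREG

namespace Cfsg.Agent.S4503P

open Cfsg Cfsg.Agent.Helper24 Cfsg.Agent.Helper8.D1 Cfsg.Agent.S4705P
  Cfsg.Agent.Helper11.D1QC Cfsg.Agent.Helper11.D1QL Cfsg.Agent.Helper18.D1QO
  Cfsg.Agent.Helper5.S4503PREG
open scoped ComplexConjugate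

universe u

variable {G : Type u} [Group G] [Finite G]

/-! ### PREG: the sum of the multiplicities of the `p`-linear characters only sees the
`p`-regular elements -/
theorem sum_multN_congr (p : ℕ) [Fact p.Prime] (P : Sylow p G) (hP : Nat.card P = p)
    (Ξ Ξ' : G → ℂ) (hΞ : IsCharacter G Ξ) (hΞ' : IsCharacter G Ξ')
    (h : ∀ g : G, ¬ p ∣ orderOf g → Ξ g = Ξ' g) :
    ∑ᶠ ν ∈ {ν : Subgroup.centralizer ((P : Subgroup G) : Set G) → ℂ | IsPLin p ν},
      multN (Subgroup.centralizer ((P : Subgroup G) : Set G)) ν Ξ =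
    ∑ᶠ ν ∈ {ν : Subgroup.centralizer ((P : Subgroup G) : Set G) → ℂ | IsPLin p ν},
      multN (Subgroup.centralizer ((P : Subgroup G) : Set G)) ν Ξ' := by
  classical
  have hp : p.Prime := Fact.out
  obtain ⟨hZ, hZc, hZi⟩ := subgroupOf_facts P hP
  have hcardL0 : Nat.card (Lty p (P : Subgroup G)) = p := card_pLin _ hZ hZc hZi
  have : Finite (Lty p (P : Subgroup G)) :=
    Nat.finite_of_card_ne_zero (by rw [hcardL0]; exact hp.ne_zero)
  let _ : Fintype (Subgroup.centralizer ((P : Subgroup G) : Set G)) := Fintype.ofFinite _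
  have : Fintype (Lty p (P : Subgroup G)) := Fintype.ofFinite _
  -- rewrite the finsums as finite sums over the subtype
  have key : ∀ Θ : G → ℂ,
      ∑ᶠ ν ∈ {ν : Subgroup.centralizer ((P : Subgroup G) : Set G) → ℂ | IsPLin p ν},
        multN (Subgroup.centralizer ((P : Subgroup G) : Set G)) ν Θ =
      ∑ ν : Lty p (P : Subgroup G),
        multN (Subgroup.centralizer ((P : Subgroup G) : Set G)) ν.1 Θ := by
    intro Θ
    rw [← finsum_eq_sum_of_fintype]
    exact (finsum_subtype_eq_finsum_cond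
      (f := fun ν => multN (Subgroup.centralizer ((P : Subgroup G) : Set G)) ν Θ)
      (fun ν : Subgroup.centralizer ((P : Subgroup G) : Set G) → ℂ => IsPLin p ν)).symm
  rw [key Ξ, key Ξ']
  have hcast : ((∑ ν : Lty p (P : Subgroup G),
      multN (Subgroup.centralizer ((P : Subgroup G) : Set G)) ν.1 Ξ : ℕ) : ℂ) =
      ((∑ ν : Lty p (P : Subgroup G),
        multN (Subgroup.centralizer ((P : Subgroup G) : Set G)) ν.1 Ξ' : ℕ) : ℂ) := by
    push_cast
    have e1 : ∀ ν : Lty p (P : Subgroup G),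
        ((multN (Subgroup.centralizer ((P : Subgroup G) : Set G)) ν.1 Ξ : ℕ) : ℂ) =
          mult (Subgroup.centralizer ((P : Subgroup G) : Set G)) ν.1 Ξ :=
      fun ν => multN_cast _ ν.1 (isIrr_of_isPLin ν.2) Ξ hΞ
    have e2 : ∀ ν : Lty p (P : Subgroup G),
        ((multN (Subgroup.centralizer ((P : Subgroup G) : Set G)) ν.1 Ξ' : ℕ) : ℂ) =
          mult (Subgroup.centralizer ((P : Subgroup G) : Set G)) ν.1 Ξ' :=
      fun ν => multN_cast _ ν.1 (isIrr_of_isPLin ν.2) Ξ' hΞ'
    simp_rw [e1, e2]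
    rw [sum_mult_eq p P hP Ξ, sum_mult_eq p P hP Ξ']
    congr 1
    refine Finset.sum_congr rfl fun c _ => ?_
    by_cases hc : p ∣ orderOf (c : G)
    · rw [if_pos hc, if_pos hc]
    · rw [if_neg hc, if_neg hc, h c hc]
  exact_mod_cast hcast

end Cfsg.Agent.S4503P
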