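import Mathlib
import Cfsg.Agent.Helper1.S4503Defs
import Cfsg.Agent.Helper24.Expansion
import Cfsg.Agent.Helper24.Codegree
import Cfsg.Agent.Helper8.CharComp

/-!
# S4503, piece EXACTD: a character whose degree is exhausted by some constituents
-/

set_option autoImplicit false

namespace Cfsg.Agent.S4503P

open Cfsg Cfsg.Agent.Helper24 Cfsg.Agent.Helper8.D1 Cfsg.Agent.S4705P
open scoped ComplexConjugate

universe u

variable {G : Type u} [Group G] [Finite G]

/-! ### EXACTD: a character whose degree is exhausted by some constituents -/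
theorem restrict_eq_sum_of_degree (H : Subgroup G) (χ : G → ℂ) (hχ : IsCharacter G χ)
    (S : Finset (IrrCharacter H)) (h1 : ∀ ξ ∈ S, mult H (ξ : H → ℂ) χ ≠ 0)
    (hdeg : ∑ ξ ∈ S, irrDeg ξ = charDegree χ) :
    ∀ c : H, χ c = ∑ ξ ∈ S, (ξ : H → ℂ) c := by
  classical
  let _ : Fintype H := Fintype.ofFinite _
  have : Fintype (IrrCharacter H) := Fintype.ofFinite _
  have hres : IsCharacter H (fun c : H => χ c) :=
    Cfsg.Agent.Helper8.isCharacter_restrict _ hχ
  obtain ⟨n, hn⟩ := IsCharacter.exists_nat_coeff hres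
  have hnval : ∀ ξ : IrrCharacter H,
      classInner (fun c : H => χ c) (ξ : H → ℂ) = (n ξ : ℂ) := by
    intro ξ
    rw [hn]
    exact classInner_sum_irr _ ξ
  -- constituents in `S` have positive multiplicity
  have hpos : ∀ ξ ∈ S, 1 ≤ n ξ := by
    intro ξ hξ
    have h := h1 ξ hξ
    rw [mult_eq, hnval ξ] at h
    have : n ξ ≠ 0 := by
      intro h0
      apply h
      rw [h0, Nat.cast_zero]
    omega
  -- evaluate at a point
  have hpt : ∀ c : H, χ c = ∑ ξ : IrrCharacter H, (n ξ : ℂ) * (ξ : H → ℂ) c := by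
    intro c
    have h := congrFun hn c
    simp only [Finset.sum_apply, Pi.smul_apply, smul_eq_mul] at h
    exact h
  -- the degree
  have hd : charDegree χ = ∑ ξ : IrrCharacter H, n ξ * irrDeg ξ := by
    have h := hpt 1
    have h2 : χ 1 = ((∑ ξ : IrrCharacter H, n ξ * irrDeg ξ : ℕ) : ℂ) := by
      rw [← Subgroup.coe_one H, h]
      push_cast
      refine Finset.sum_congr rfl fun ξ _ => ?_
      rw [irrDeg_spec]
    unfold charDegree
    rw [h2, Complex.natCast_re, Nat.floor_natCast]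
  -- compare
  have hsplit : ∑ ξ : IrrCharacter H, n ξ * irrDeg ξ =
      ∑ ξ ∈ S, n ξ * irrDeg ξ + ∑ ξ ∈ Finset.univ \ S, n ξ * irrDeg ξ := by
    rw [← Finset.sum_union (Finset.disjoint_sdiff)]
    congr 1
    ext ξ
    simp
  have hge : ∑ ξ ∈ S, irrDeg ξ ≤ ∑ ξ ∈ S, n ξ * irrDeg ξ := by
    apply Finset.sum_le_sum
    intro ξ hξ
    have := hpos ξ hξ
    nlinarith [irrDeg_pos ξ]
  have hrest : ∑ ξ ∈ Finset.univ \ S, n ξ * irrDeg ξ = 0 := by omega
  have hSeq : ∑ ξ ∈ S, n ξ * irrDeg ξ = ∑ ξ ∈ S, irrDeg ξ := by omega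
  have hzero : ∀ ξ : IrrCharacter H, ξ ∉ S → n ξ = 0 := by
    intro ξ hξ
    have h := (Finset.sum_eq_zero_iff.mp hrest) ξ (by simp [hξ])
    rcases Nat.mul_eq_zero.mp h with h | h
    · exact h
    · exact absurd h (irrDeg_pos ξ).ne'
  have hone : ∀ ξ ∈ S, n ξ = 1 := by
    intro ξ hξ
    by_contra hne
    have h2 : 2 ≤ n ξ := by have := hpos ξ hξ; omega
    have hlt : ∑ ξ ∈ S, irrDeg ξ < ∑ ξ ∈ S, n ξ * irrDeg ξ := by
      apply Finset.sum_lt_sum
      · intro ζ hζ
        have := hpos ζ hζ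
        nlinarith [irrDeg_pos ζ]
      · exact ⟨ξ, hξ, by nlinarith [irrDeg_pos ξ]⟩
    omega
  intro c
  rw [hpt c]
  have : ∑ ξ : IrrCharacter H, (n ξ : ℂ) * (ξ : H → ℂ) c =
      ∑ ξ ∈ S, (n ξ : ℂ) * (ξ : H → ℂ) c := by
    symm
    apply Finset.sum_subset (Finset.subset_univ S)
    intro ξ _ hξ
    rw [hzero ξ hξ, Nat.cast_zero, zero_mul]
  rw [this]
  refine Finset.sum_congr rfl fun ξ hξ => ?_
  rw [hone ξ hξ, Nat.cast_one, one_mul]

end Cfsg.Agent.S4503P
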