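import Mathlib
import Cfsg.Agent.Helper1.S4503Defs
import Cfsg.Agent.Helper1.D1PA
import Cfsg.Agent.Helper11.D1QL
import Cfsg.Agent.Helper11.D1QCc
import Cfsg.Agent.Helper18.D1QO
import Cfsg.Agent.Helper8.CharComp
import Cfsg.Agent.Helper24.Expansion

/-!
# S4503, piece KER: a character of the principal block whose restriction to `P` has no trivial
constituent has all `p`-regular elements of `C_G(P)` in its kernel
-/

set_option autoImplicit false

namespace Cfsg.Agent.Helper5.S4503KER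

open Cfsg Cfsg.Agent.Helper24 Cfsg.Agent.Helper8.D1 Cfsg.Agent.S4705P Cfsg.Agent.S4503P
  Cfsg.Agent.Helper11.D1QC Cfsg.Agent.Helper11.D1QL Cfsg.Agent.Helper18.D1QO
open scoped ComplexConjugate

universe u

variable {G : Type u} [Group G] [Finite G]

/-- the sum over `P` of a nontrivial `p`-linear function vanishes -/
theorem sum_P_pLin (p : ℕ) [Fact p.Prime] (P : Sylow p G) (hP : Nat.card P = p)
    [Fintype (P : Subgroup G)]
    (μ : Subgroup.centralizer ((P : Subgroup G) : Set G) → ℂ) (hμ : IsPLin p μ)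
    (hμ1 : ∃ x, μ x ≠ 1) :
    ∑ x : (P : Subgroup G), μ ⟨(x : G), Cfsg.Agent.Helper1.D1PA.le_centralizer P hP x.2⟩ = 0 := by
  classical
  have hp : p.Prime := Fact.out
  obtain ⟨hZ, hZc, hZi⟩ := subgroupOf_facts P hP
  -- a nontrivial element of `P`
  have hnt : ∃ u : (P : Subgroup G), u ≠ 1 := by
    by_contra hne
    push Not at hne
    have hsub : Subsingleton (P : Subgroup G) := ⟨fun a b => by rw [hne a, hne b]⟩
    have : Nat.card (P : Subgroup G) ≤ 1 := Finite.card_le_one_iff_subsingleton.mpr hsub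
    have h2 := hp.two_le
    have : Nat.card (P : Subgroup G) = p := hP
    omega
  obtain ⟨u, hu⟩ := hnt
  set ι : ↥(P : Subgroup G) → Subgroup.centralizer ((P : Subgroup G) : Set G) :=
    fun x => ⟨(x : G), Cfsg.Agent.Helper1.D1PA.le_centralizer P hP x.2⟩ with hι
  have hιmul : ∀ a b : (P : Subgroup G), ι (a * b) = ι a * ι b := fun a b => rfl
  have huZ : ι u ∈ (P : Subgroup G).subgroupOf (Subgroup.centralizer ((P : Subgroup G) : Set G)) :=
    Subgroup.mem_subgroupOf.mpr u.2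
  have hu1 : ι u ≠ 1 := by
    intro h
    apply hu
    apply Subtype.ext
    have := congrArg Subtype.val h
    exact this
  have hne : μ (ι u) ≠ 1 := pLin_apply_ne_one _ hZ hZc hZi hμ hμ1 huZ hu1
  have hperm : ∑ x : (P : Subgroup G), μ (ι x) = μ (ι u) * ∑ x : (P : Subgroup G), μ (ι x) := by
    rw [Finset.mul_sum]
    have := (Equiv.sum_comp (Equiv.mulLeft u) (fun x : (P : Subgroup G) => μ (ι x)))
    rw [← this]
    refine Finset.sum_congr rfl fun x _ => ?_
    show μ (ι (u * x)) = μ (ι u) * μ (ι x)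
    rw [hιmul, hμ.mul]
  have h0 : (1 - μ (ι u)) * ∑ x : (P : Subgroup G), μ (ι x) = 0 := by
    rw [sub_mul, one_mul, ← hperm, sub_self]
  rcases mul_eq_zero.mp h0 with h | h
  · exfalso
    apply hne
    exact (sub_eq_zero.mp h).symm
  · exact h

end Cfsg.Agent.Helper5.S4503KER

namespace Cfsg.Agent.S4503P

open Cfsg Cfsg.Agent.Helper24 Cfsg.Agent.Helper8.D1 Cfsg.Agent.S4705P
  Cfsg.Agent.Helper11.D1QC Cfsg.Agent.Helper11.D1QL Cfsg.Agent.Helper18.D1QO
  Cfsg.Agent.Helper5.S4503KER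
open scoped ComplexConjugate

universe u

variable {G : Type u} [Group G] [Finite G]

/-! ### KER -/
theorem ker_of_dnum_zero (p : ℕ) [Fact p.Prime] (P : Sylow p G) (hP : Nat.card P = p)
    (χ : IrrCharacter G)
    (hZ : ∀ φ : IrrCharacter (Subgroup.centralizer ((P : Subgroup G) : Set G)),
      (∀ x : Subgroup.centralizer ((P : Subgroup G) : Set G), (x : G) ∈ (P : Subgroup G) →
        (φ : Subgroup.centralizer ((P : Subgroup G) : Set G) → ℂ) x =
          (φ : Subgroup.centralizer ((P : Subgroup G) : Set G) → ℂ) 1) →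
      (∃ c, (φ : Subgroup.centralizer ((P : Subgroup G) : Set G) → ℂ) c ≠ 1) →
      ∀ μ, IsPLin p μ → Dnum (Subgroup.centralizer ((P : Subgroup G) : Set G)) μ
        (φ : Subgroup.centralizer ((P : Subgroup G) : Set G) → ℂ) (χ : G → ℂ) = 0)
    (h0 : ∑ᶠ x : (P : Subgroup G), (χ : G → ℂ) (x : G) = 0) :
    ∀ c ∈ Subgroup.centralizer ((P : Subgroup G) : Set G), ¬ p ∣ orderOf c →
      (χ : G → ℂ) c = (χ : G → ℂ) 1 := by
  classical
  have hp : p.Prime := Fact.out
  obtain ⟨hZ1, hZc, hZi⟩ := subgroupOf_facts P hP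
  have hcardL0 : Nat.card (Lty p (P : Subgroup G)) = p := card_pLin _ hZ1 hZc hZi
  have : Finite (Lty p (P : Subgroup G)) :=
    Nat.finite_of_card_ne_zero (by rw [hcardL0]; exact hp.ne_zero)
  let _ : Fintype (Subgroup.centralizer ((P : Subgroup G) : Set G)) := Fintype.ofFinite _
  have : Fintype (IrrCharacter (Subgroup.centralizer ((P : Subgroup G) : Set G))) :=
    Fintype.ofFinite _
  have : Fintype (Lty p (P : Subgroup G)) := Fintype.ofFinite _
  have : Fintype (Tty (P : Subgroup G)) := Fintype.ofFinite _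
  let _ : Fintype (P : Subgroup G) := Fintype.ofFinite _
  -- the expansion of `χ|_C`
  have hres : IsCharacter (Subgroup.centralizer ((P : Subgroup G) : Set G))
      (fun c : Subgroup.centralizer ((P : Subgroup G) : Set G) => (χ : G → ℂ) c) :=
    Cfsg.Agent.Helper8.isCharacter_restrict _ (IsIrrCharacter.isCharacter χ.2)
  obtain ⟨n, hn⟩ := IsCharacter.exists_nat_coeff hres
  have hnval : ∀ ξ : IrrCharacter (Subgroup.centralizer ((P : Subgroup G) : Set G)),
      classInner (fun c : Subgroup.centralizer ((P : Subgroup G) : Set G) => (χ : G → ℂ) c)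
        (ξ : Subgroup.centralizer ((P : Subgroup G) : Set G) → ℂ) = (n ξ : ℂ) := by
    intro ξ
    rw [hn]
    exact classInner_sum_irr _ ξ
  have hpt : ∀ c : Subgroup.centralizer ((P : Subgroup G) : Set G), (χ : G → ℂ) c =
      ∑ θ' : Tty (P : Subgroup G), ∑ μ : Lty p (P : Subgroup G), (n (mulIrr μ θ'.1) : ℂ) *
        (μ.1 c * (θ'.1 : Subgroup.centralizer ((P : Subgroup G) : Set G) → ℂ) c) := by
    intro c
    have h1 := congrFun hn c
    simp only [Finset.sum_apply, Pi.smul_apply, smul_eq_mul] at h1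
    rw [h1, sum_irr_eq_sum_prod P hP]
    rfl
  -- the trivial `p`-linear function
  let μ₁ : Lty p (P : Subgroup G) := ⟨fun _ => 1, isPLin_one p⟩
  have hμ₁ : ∀ θ : IrrCharacter (Subgroup.centralizer ((P : Subgroup G) : Set G)),
      mulIrr μ₁ θ = θ := by
    intro θ
    apply Subtype.ext
    funext c
    show (1 : ℂ) * _ = _
    rw [one_mul]
  have hμne : ∀ μ : Lty p (P : Subgroup G), μ ≠ μ₁ → ∃ x, μ.1 x ≠ 1 := by
    intro μ hne
    by_contra h
    push Not at h
    apply hne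
    apply Subtype.ext
    funext x
    exact h x
  -- the sum over `P`
  set ι : ↥(P : Subgroup G) → Subgroup.centralizer ((P : Subgroup G) : Set G) :=
    fun x => ⟨(x : G), Cfsg.Agent.Helper1.D1PA.le_centralizer P hP x.2⟩ with hι
  have hsumP : ∑ x : (P : Subgroup G), (χ : G → ℂ) (x : G) =
      ((p * ∑ θ' : Tty (P : Subgroup G), n θ'.1 * irrDeg θ'.1 : ℕ) : ℂ) := by
    have h1 : ∀ x : (P : Subgroup G), (χ : G → ℂ) (x : G) =
        ∑ θ' : Tty (P : Subgroup G), ∑ μ : Lty p (P : Subgroup G), (n (mulIrr μ θ'.1) : ℂ) *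
          (μ.1 (ι x) * (irrDeg θ'.1 : ℂ)) := by
      intro x
      have := hpt (ι x)
      rw [show ((ι x : Subgroup.centralizer ((P : Subgroup G) : Set G)) : G) = (x : G) from rfl]
        at this
      rw [this]
      refine Finset.sum_congr rfl fun θ' _ => Finset.sum_congr rfl fun μ _ => ?_
      rw [θ'.2 (ι x) (Subgroup.mem_subgroupOf.mpr x.2), irrDeg_spec]
    simp_rw [h1]
    rw [Finset.sum_comm]
    push_cast
    rw [Finset.mul_sum]
    refine Finset.sum_congr rfl fun θ' _ => ?_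
    rw [Finset.sum_comm]
    rw [Finset.sum_eq_single μ₁]
    · rw [hμ₁]
      have : ∀ x : (P : Subgroup G), (n θ'.1 : ℂ) * (μ₁.1 (ι x) * (irrDeg θ'.1 : ℂ)) =
          (n θ'.1 : ℂ) * (irrDeg θ'.1 : ℂ) := by
        intro x
        show (n θ'.1 : ℂ) * ((1 : ℂ) * _) = _
        rw [one_mul]
      simp_rw [this]
      rw [Finset.sum_const, Finset.card_univ, ← Nat.card_eq_fintype_card, hP, nsmul_eq_mul]
    · intro μ _ hne
      have h2 := sum_P_pLin p P hP μ.1 μ.2 (hμne μ hne)
      have : ∀ x : (P : Subgroup G), (n (mulIrr μ θ'.1) : ℂ) * (μ.1 (ι x) * (irrDeg θ'.1 : ℂ)) =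
          ((n (mulIrr μ θ'.1) : ℂ) * (irrDeg θ'.1 : ℂ)) * μ.1 (ι x) := by
        intro x; ring
      simp_rw [this]
      rw [← Finset.mul_sum, h2, mul_zero]
    · intro h
      exact absurd (Finset.mem_univ _) h
  have hzero1 : ∀ θ' : Tty (P : Subgroup G), n θ'.1 = 0 := by
    rw [finsum_eq_sum_of_fintype, hsumP] at h0
    have h1 : p * ∑ θ' : Tty (P : Subgroup G), n θ'.1 * irrDeg θ'.1 = 0 := by exact_mod_cast h0
    have h2 : ∑ θ' : Tty (P : Subgroup G), n θ'.1 * irrDeg θ'.1 = 0 := by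
      rcases Nat.mul_eq_zero.mp h1 with h | h
      · exact absurd h hp.ne_zero
      · exact h
    intro θ'
    have h3 := (Finset.sum_eq_zero_iff.mp h2) θ' (Finset.mem_univ _)
    rcases Nat.mul_eq_zero.mp h3 with h | h
    · exact h
    · exact absurd h (irrDeg_pos θ'.1).ne'
  -- nontrivial `θ'` do not occur at all
  have hzero2 : ∀ θ' : Tty (P : Subgroup G),
      (∃ c, (θ'.1 : Subgroup.centralizer ((P : Subgroup G) : Set G) → ℂ) c ≠ 1) →
      ∀ μ : Lty p (P : Subgroup G), n (mulIrr μ θ'.1) = 0 := by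
    intro θ' hne μ
    have h1 := hZ θ'.1 (fun x hx => θ'.2 x (Subgroup.mem_subgroupOf.mpr hx)) hne μ.1 μ.2
    rw [Dnum_eq_mult, mult_eq, mult_eq] at h1
    have h2 := hnval (mulIrr μ θ'.1)
    have h3 := hnval θ'.1
    have h4 : ((n (mulIrr μ θ'.1) : ℕ) : ℂ) = (n θ'.1 : ℂ) := by
      rw [← h2, ← h3]
      exact sub_eq_zero.mp h1
    have h5 : n (mulIrr μ θ'.1) = n θ'.1 := by exact_mod_cast h4
    rw [h5, hzero1]
  -- conclusion
  intro c hc hreg
  have hcreg : ¬ p ∣ orderOf (⟨c, hc⟩ : Subgroup.centralizer ((P : Subgroup G) : Set G)) := by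
    have h3 : orderOf ((⟨c, hc⟩ : Subgroup.centralizer ((P : Subgroup G) : Set G)) : G) =
        orderOf (⟨c, hc⟩ : Subgroup.centralizer ((P : Subgroup G) : Set G)) :=
      Subgroup.orderOf_coe _
    rw [← h3]
    exact hreg
  have e1 := hpt ⟨c, hc⟩
  have e2 := hpt 1
  rw [Subgroup.coe_one] at e2
  show (χ : G → ℂ) ((⟨c, hc⟩ : Subgroup.centralizer ((P : Subgroup G) : Set G)) : G) = _
  rw [e1, e2]
  refine Finset.sum_congr rfl fun θ' _ => Finset.sum_congr rfl fun μ _ => ?_
  by_cases hθ : ∃ c, (θ'.1 : Subgroup.centralizer ((P : Subgroup G) : Set G) → ℂ) c ≠ 1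
  · rw [hzero2 θ' hθ μ, Nat.cast_zero, zero_mul, zero_mul]
  · push Not at hθ
    rw [hθ, hθ, μ.2.reg _ hcreg, μ.2.one]

end Cfsg.Agent.S4503P
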