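import Mathlib
import Cfsg.Prelude.Def_Blocks
import Cfsg.Prelude.Def_BlockRank
import Cfsg.Agent.Helper5.Residue
import Cfsg.Agent.Helper5.CentralChar

/-!
# S4607 (Brandt: `k(B) = 2 ↔ |D| = 2`): shared definitions for the piece project (helper5)

Ring theory: symmetrizing forms, the commutator subspace, Peirce corners, unit systems (weak matrix
units).  Group algebra: the reduction `red M a` of a local-integer valued function on `G` to the
group algebra over the residue field `AlgInt ⧸ M`, the block idempotent `eps M B`, the class matrix.
-/

set_option autoImplicit false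

namespace Cfsg.Agent.S4607P

open Cfsg

section Ring

variable {k B : Type*} [Field k] [Ring B] [Algebra k B]

/-- a symmetrizing form on the `k`-algebra `B` -/
structure IsSymForm (lam : B →ₗ[k] k) : Prop where
  comm : ∀ a b : B, lam (a * b) = lam (b * a)
  nondeg : ∀ a : B, (∀ b : B, lam (a * b) = 0) → a = 0

variable (k B) in
/-- the commutator subspace `[B, B]` -/
def commSpace : Submodule k B := Submodule.span k {x | ∃ a b : B, x = a * b - b * a}

variable (k) in
/-- the Peirce corner `e B e` as a subspace -/
def corner (e : B) : Submodule k B where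
  carrier := {a | e * a * e = a}
  add_mem' := by
    intro a b ha hb
    change e * a * e = a at ha; change e * b * e = b at hb; change e * (a + b) * e = a + b
    rw [mul_add, add_mul, ha, hb]
  zero_mem' := by simp
  smul_mem' := by
    intro c a ha
    change e * a * e = a at ha; change e * (c • a) * e = c • a
    rw [mul_smul_comm, smul_mul_assoc, ha]

theorem mem_corner {e a : B} : a ∈ corner k e ↔ e * a * e = a := Iff.rfl

variable (k) in
/-- the commutator subspace `[e B e, e B e]` of the corner -/
def cornerComm (e : B) : Submodule k B :=
  Submodule.span k {x | ∃ a b : B, e * a * e = a ∧ e * b * e = b ∧ x = a * b - b * a}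

/-- a unit system: complete orthogonal idempotents `e i`, all "isomorphic" to `e 0` through
`u i ∈ e i B e 0`, `v i ∈ e 0 B e i` with `u i v i = e i`, `v i u i = e 0`. -/
structure IsUnitSystem {n : ℕ} (e u v : Fin (n + 1) → B) : Prop where
  orth : ∀ i j, e i * e j = if i = j then e i else 0
  complete : ∑ i, e i = 1
  uv : ∀ i, u i * v i = e i
  vu : ∀ i, v i * u i = e 0
  u_mem : ∀ i, e i * u i * e 0 = u i
  v_mem : ∀ i, e 0 * v i * e i = v i

end Ring

section GroupAlgebra

open Cfsg.Agent.Helper5.Res

variable (M : Ideal AlgInt) [hMax : M.IsMaximal] {G : Type*} [Group G] [Fintype G]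

/-- reduction modulo `M` of a (local-integer valued) function on `G` to the group algebra over the
residue field -/
noncomputable def red (a : G → ℂ) : MonoidAlgebra (AlgInt ⧸ M) G :=
  ∑ g : G, MonoidAlgebra.single g (res M (a g))

/-- the block idempotent in the group algebra over the residue field -/
noncomputable def eps (B : Set (IrrCharacter G)) : MonoidAlgebra (AlgInt ⧸ M) G :=
  red M (blockCoeff B)

end GroupAlgebra

/-- the coefficient-at-one form on a group algebra -/
noncomputable def lamG (k : Type*) [Field k] (G : Type*) [Group G] : MonoidAlgebra k G →ₗ[k] k :=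
  (Finsupp.lapply 1) ∘ₗ (MonoidAlgebra.coeffLinearEquiv k).toLinearMap

theorem lamG_apply (k : Type*) [Field k] (G : Type*) [Group G] (x : MonoidAlgebra k G) :
    lamG k G x = x.coeff 1 := rfl

open Classical in
/-- the matrix of `a * ·` on class functions in the basis of class sums: entry `(K, L)` is
`∑_{h ∈ L} a (rep K * h⁻¹)` -/
noncomputable def cmat {R : Type*} [Semiring R] {G : Type*} [Group G] [Fintype G]
    (a : G → R) : Matrix (ConjClasses G) (ConjClasses G) R :=
  fun K L => ∑ h : G, if ConjClasses.mk h = L then a (Cfsg.Agent.Helper5.CC.rep K * h⁻¹) else 0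

end Cfsg.Agent.S4607P
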