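import Mathlib
import Cfsg.Prelude.Def_Blocks
import Cfsg.Agent.Helper5.Osima
import Cfsg.Agent.Helper5.BlockBasic
import Cfsg.Agent.Helper8.GaloisChar
import Cfsg.Agent.S0909

set_option autoImplicit false
set_option linter.unusedSectionVars false
set_option linter.unusedVariables false

/-!
# Blocks and Galois conjugation

The partition of `Irr(G)` into blocks relative to `M` is stable under `χ ↦ χ ∘ (· ^ k)` for `k`
coprime to `|G|`; consequently the blocks do not depend on the choice of `M`.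
-/

namespace Cfsg.Agent.Helper5.BG

open Cfsg Cfsg.Agent.Helper24 Cfsg.Agent.Helper5 Cfsg.Agent.Helper5.Loc Cfsg.Agent.Helper5.CC
open Cfsg.Agent.Helper23

variable {G : Type*} [Group G] [Finite G] {M : Ideal AlgInt}

/-- The Galois conjugate `g ↦ χ (g ^ k)` of an irreducible character. -/
noncomputable def powIrr (k : ℕ) (hk : k.Coprime (Nat.card G)) (χ : IrrCharacter G) :
    IrrCharacter G :=
  ⟨fun g => (χ : G → ℂ) (g ^ k), Cfsg.Agent.Helper8.isIrrCharacter_pow_of_coprime k hk χ.2⟩

theorem powIrr_apply (k : ℕ) (hk : k.Coprime (Nat.card G)) (χ : IrrCharacter G) (g : G) :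
    (powIrr k hk χ : G → ℂ) g = (χ : G → ℂ) (g ^ k) := rfl

theorem powIrr_injective (k : ℕ) (hk : k.Coprime (Nat.card G)) :
    Function.Injective (powIrr (G := G) k hk) := by
  intro χ ψ h
  apply Subtype.ext
  funext g
  obtain ⟨g', rfl⟩ := (powCoprime hk.symm).surjective g
  have := congrFun (congrArg Subtype.val h) g'
  exact this

/-- An inverse exponent modulo the group order. -/
theorem exists_inv_exponent (k : ℕ) (hk : k.Coprime (Nat.card G)) :
    ∃ k' : ℕ, k'.Coprime (Nat.card G) ∧ ∀ g : G, (g ^ k) ^ k' = g := by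
  have hpos : 0 < Nat.card G := Nat.card_pos
  by_cases h1 : Nat.card G = 1
  · refine ⟨1, by simp, ?_⟩
    intro g
    have : Subsingleton G := (Nat.card_eq_one_iff_unique.mp h1).1
    exact Subsingleton.elim _ _
  · have hlt : 1 < Nat.card G := by omega
    obtain ⟨k', -, hk'⟩ := Nat.exists_mul_mod_eq_one_of_coprime hk hlt
    refine ⟨k', ?_, ?_⟩
    · have : (k * k') % Nat.card G = 1 := hk'
      apply Nat.Coprime.symm
      rw [Nat.coprime_iff_gcd_eq_one] 
      have h2 : Nat.gcd (Nat.card G) k' ∣ 1 := by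
        have a1 : Nat.gcd (Nat.card G) k' ∣ Nat.card G := Nat.gcd_dvd_left _ _
        have a2 : Nat.gcd (Nat.card G) k' ∣ k * k' := (Nat.gcd_dvd_right _ _).mul_left k
        have a3 : Nat.gcd (Nat.card G) k' ∣ (k * k') % Nat.card G :=
          (Nat.dvd_mod_iff a1).mpr a2
        rwa [this] at a3
      exact Nat.dvd_one.mp h2
    · intro g
      rw [← pow_mul, ← pow_mod_natCard, hk', pow_one]

theorem blockCoeff_image_powIrr (k : ℕ) (hk : k.Coprime (Nat.card G))
    (B : Set (IrrCharacter G)) (g : G) :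
    blockCoeff (powIrr k hk '' B) g = blockCoeff B (g ^ k) := by
  unfold blockCoeff
  congr 1
  rw [finsum_mem_image ((powIrr_injective k hk).injOn)]
  refine finsum_congr fun χ => ?_
  refine finsum_congr fun _ => ?_
  rw [powIrr_apply, powIrr_apply, one_pow]

/-- The image of a block under a Galois conjugation is contained in... rather: the block of a
Galois conjugate is contained in the Galois conjugate of the block. -/
theorem blockOf_powIrr_subset {p : ℕ} [Fact p.Prime] (hM : IsPModular p M) (k : ℕ)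
    (hk : k.Coprime (Nat.card G)) (χ : IrrCharacter G) :
    blockOf M (powIrr k hk χ : G → ℂ) ⊆ powIrr k hk '' blockOf M (χ : G → ℂ) := by
  classical
  have hMp := isPrime_of_isPModular hM
  have : Fintype G := Fintype.ofFinite G
  have : Fintype (IrrCharacter G) := Fintype.ofFinite _
  apply Cfsg.Agent.S0909.result p M hM
  · intro g
    rw [blockCoeff_image_powIrr]
    exact osima hMp _ (isPBlock_blockOf χ) _
  · exact ⟨χ, mem_blockOf_self hMp χ, rfl⟩

/-- **The block partition is Galois stable.** -/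
theorem sameBlock_powIrr {p : ℕ} [Fact p.Prime] (hM : IsPModular p M) (k : ℕ)
    (hk : k.Coprime (Nat.card G)) (χ ψ : IrrCharacter G)
    (h : SameBlock M (χ : G → ℂ) (ψ : G → ℂ)) :
    SameBlock M (powIrr k hk χ : G → ℂ) (powIrr k hk ψ : G → ℂ) := by
  classical
  have hMp := isPrime_of_isPModular hM
  obtain ⟨k', hk', hkk'⟩ := exists_inv_exponent (G := G) k hk
  have hinv : ∀ θ : IrrCharacter G, powIrr k' hk' (powIrr k hk θ) = θ := by
    intro θ
    apply Subtype.ext
    funext g
    rw [powIrr_apply, powIrr_apply, ← pow_mul, mul_comm, pow_mul, hkk']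
  have h1 := blockOf_powIrr_subset hM k' hk' (powIrr k hk χ)
  rw [hinv] at h1
  have hψ : ψ ∈ blockOf M (χ : G → ℂ) := h
  obtain ⟨θ, hθ, hθψ⟩ := h1 hψ
  have : powIrr k hk ψ = θ := by
    rw [← hθψ]
    apply Subtype.ext
    funext g
    rw [powIrr_apply, powIrr_apply, ← pow_mul, mul_comm, pow_mul]
    have := hkk' g
    rw [← pow_mul, mul_comm, pow_mul] at this
    rw [this]
  rw [this]
  exact hθ

omit [Finite G] in
theorem li_multiset_sum (hMp : M.IsPrime) (s : Multiset ℂ) (h : ∀ z ∈ s, MemLocalIdeal M z) :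
    MemLocalIdeal M s.sum := by
  induction s using Multiset.induction_on with
  | empty => simpa using memLocalIdeal_zero hMp
  | cons a s ih =>
    rw [Multiset.sum_cons]
    exact li_add hMp (h a (Multiset.mem_cons_self a s))
      (ih fun z hz => h z (Multiset.mem_cons_of_mem hz))

theorem lr_multiset_prod (hMp : M.IsPrime) (s : Multiset ℂ) (h : ∀ z ∈ s, MemLocalRing M z) :
    MemLocalRing M s.prod := by
  induction s using Multiset.induction_on with
  | empty => simpa using memLocalRing_one hMp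
  | cons a s ih =>
    rw [Multiset.prod_cons]
    exact lr_mul hMp (h a (Multiset.mem_cons_self a s))
      (ih fun z hz => h z (Multiset.mem_cons_of_mem hz))

theorem li_esymm (hMp : M.IsPrime) (s : Multiset ℂ) (h : ∀ z ∈ s, MemLocalIdeal M z) (j : ℕ)
    (hj : 0 < j) : MemLocalIdeal M (s.esymm j) := by
  unfold Multiset.esymm
  apply li_multiset_sum hMp
  intro z hz
  obtain ⟨t, ht, rfl⟩ := Multiset.mem_map.mp hz
  rw [Multiset.mem_powersetCard] at ht
  obtain ⟨hts, htc⟩ := ht
  have hne : t ≠ 0 := by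
    intro h0
    rw [h0, Multiset.card_zero] at htc
    omega
  obtain ⟨a, ha⟩ := Multiset.exists_mem_of_ne_zero hne
  obtain ⟨t', rfl⟩ := Multiset.exists_cons_of_mem ha
  rw [Multiset.prod_cons]
  apply li_mul_right hMp (h a (Multiset.mem_of_le hts ha))
  apply lr_multiset_prod hMp
  intro z hz
  exact li_lr (h z (Multiset.mem_of_le hts (Multiset.mem_cons_of_mem hz)))

theorem memLocalIdeal_intCast_iff {p : ℕ} (hM : IsPModular p M) (c : ℤ) :
    MemLocalIdeal M (c : ℂ) ↔ (p : ℤ) ∣ c := by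
  have h1 := memLocalIdeal_natCast_iff hM c.natAbs
  rw [Int.natCast_dvd]
  rw [← h1]
  rcases Int.natAbs_eq c with h | h
  · conv_lhs => rw [h]
    simp
  · conv_lhs => rw [h]
    constructor
    · intro hh
      have := li_neg hh
      simpa using this
    · intro hh
      have := li_neg hh
      simpa using this

/-- **Norm argument.** An algebraic integer all of whose conjugates lie in the local ideal at `M`
lies in every maximal ideal containing `p`. -/
theorem mem_of_roots_li {p : ℕ} (hM : IsPModular p M) {M' : Ideal AlgInt}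
    (hM' : IsPModular p M') (α : ℂ) (hα : IsIntegral ℤ α)
    (h : ∀ β ∈ ((minpoly ℤ α).map (algebraMap ℤ ℂ)).roots, MemLocalIdeal M β) :
    (⟨α, hα⟩ : AlgInt) ∈ M' := by
  classical
  have hMp := isPrime_of_isPModular hM
  have hMp' := isPrime_of_isPModular hM'
  set f := minpoly ℤ α with hf
  have hmonic : f.Monic := minpoly.monic hα
  set fC := f.map (algebraMap ℤ ℂ) with hfC
  have hCmonic : fC.Monic := hmonic.map _
  have hdeg : fC.natDegree = f.natDegree := hmonic.natDegree_map _
  have hcard : fC.roots.card = fC.natDegree :=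
    (Polynomial.splits_iff_card_roots.mp (IsAlgClosed.splits fC))
  have hdvd : ∀ i < f.natDegree, (p : ℤ) ∣ f.coeff i := by
    intro i hi
    rw [← memLocalIdeal_intCast_iff hM]
    have h1 := Polynomial.coeff_eq_esymm_roots_of_card hcard (k := i) (by omega)
    rw [hCmonic.leadingCoeff, one_mul] at h1
    have h2 : fC.coeff i = ((f.coeff i : ℤ) : ℂ) := by
      rw [hfC, Polynomial.coeff_map]
      simp
    rw [← h2, h1]
    apply li_mul_left hMp
    · have : MemLocalRing M (((-1 : ℤ) ^ (fC.natDegree - i) : ℤ) : ℂ) := memLocalRing_intCast hMp _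
      simpa using this
    · exact li_esymm hMp _ h _ (by omega)
  set a : AlgInt := ⟨α, hα⟩ with ha
  have haeval : Polynomial.aeval a f = 0 := by
    apply Subtype.ext
    have : ((Polynomial.aeval a f : AlgInt) : ℂ) = Polynomial.aeval α f := by
      have := Polynomial.aeval_algHom_apply (AlgInt.val) a f
      exact this.symm
    rw [this]
    exact minpoly.aeval ℤ α
  have hNpos : 0 < f.natDegree := minpoly.natDegree_pos hα
  have hsum : a ^ f.natDegree = - ∑ i ∈ Finset.range f.natDegree, (f.coeff i : AlgInt) * a ^ i := by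
    have h1 := hmonic.as_sum
    have h2 : Polynomial.aeval a f = a ^ f.natDegree +
        ∑ i ∈ Finset.range f.natDegree, (f.coeff i : AlgInt) * a ^ i := by
      conv_lhs => rw [h1]
      simp [map_add, map_sum, map_mul, map_pow]
    rw [haeval] at h2
    exact eq_neg_of_add_eq_zero_left h2.symm
  have hpow : a ^ f.natDegree ∈ M' := by
    rw [hsum]
    apply M'.neg_mem
    apply M'.sum_mem
    intro i hi
    obtain ⟨c, hc⟩ := hdvd i (Finset.mem_range.mp hi)
    rw [hc]
    push_cast
    rw [mul_assoc]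
    exact M'.mul_mem_right _ hM'.2.2
  exact hMp'.mem_of_pow_mem _ hpow

/-- Every conjugate of an element of the `n`-th cyclotomic field is its image under an
automorphism of `ℂ` acting on the `n`-th roots of unity as a power map. -/
theorem exists_aut_of_root (n : ℕ) (hn : 0 < n) (α : ℂ) (hα : α ∈ cyclo n)
    (hαi : IsIntegral ℤ α) (β : ℂ)
    (hβ : β ∈ ((minpoly ℤ α).map (algebraMap ℤ ℂ)).roots) :
    ∃ (τ : ℂ ≃+* ℂ) (k : ℕ), k.Coprime n ∧ (∀ μ : ℂ, μ ^ n = 1 → τ μ = μ ^ k) ∧ τ α = β := by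
  classical
  have hfd : FiniteDimensional ℚ (cyclo n) := finiteDimensional_cyclo n hn
  have halg : Algebra.IsAlgebraic ℚ (cyclo n) := Algebra.IsAlgebraic.of_finite ℚ (cyclo n)
  have hnorm : Normal ℚ (cyclo n) := Cfsg.Agent.Helper8.normal_cyclo n hn
  set a : cyclo n := ⟨α, hα⟩ with ha
  have e1 : minpoly ℚ a = minpoly ℚ α :=
    (minpoly.algebraMap_eq (algebraMap (cyclo n) ℂ).injective a).symm
  have e2 : minpoly ℚ α = (minpoly ℤ α).map (algebraMap ℤ ℚ) :=
    minpoly.isIntegrallyClosed_eq_field_fractions' ℚ hαi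
  have hroot : β ∈ (minpoly ℚ a).rootSet ℂ := by
    rw [Polynomial.mem_rootSet]
    refine ⟨minpoly.ne_zero (Algebra.IsIntegral.isIntegral a), ?_⟩
    rw [e1, e2, Polynomial.aeval_def, Polynomial.eval₂_eq_eval_map, Polynomial.map_map,
      ← IsScalarTower.algebraMap_eq]
    exact (Polynomial.mem_roots'.mp hβ).2
  rw [← Algebra.IsAlgebraic.range_eval_eq_rootSet_minpoly ℂ a] at hroot
  obtain ⟨σ, hσ⟩ := hroot
  obtain ⟨k, hk, hkμ⟩ := exists_pow_of_embedding n hn σ
  obtain ⟨τ, hτ⟩ := Cfsg.Agent.Helper8.exists_ringEquiv_extending (cyclo n)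
    (σ.restrictNormal' (cyclo n)).toRingEquiv
  have hτ' : ∀ x : cyclo n, τ (x : ℂ) = σ x := by
    intro x
    rw [hτ x]
    exact σ.restrictNormal_commutes (cyclo n) x
  refine ⟨τ, k, hk, ?_, ?_⟩
  · intro μ hμ
    rw [← hkμ μ hμ]
    exact hτ' ⟨μ, mem_cyclo hμ⟩
  · rw [← hσ]
    exact hτ' a

theorem irr_mem_cyclo (χ : IrrCharacter G) (g : G) :
    (χ : G → ℂ) g ∈ cyclo (Nat.card G) := by
  obtain ⟨n, ρ, hρ⟩ := Cfsg.Agent.Helper24.IsIrrCharacter.isCharacter χ.2
  rw [← hρ]
  exact char_mem_cyclo ρ g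

theorem aut_irr_apply (τ : ℂ ≃+* ℂ) (k : ℕ)
    (hτ : ∀ μ : ℂ, μ ^ Nat.card G = 1 → τ μ = μ ^ k) (χ : IrrCharacter G) (g : G) :
    τ ((χ : G → ℂ) g) = (χ : G → ℂ) (g ^ k) := by
  obtain ⟨n, ρ, hρ⟩ := Cfsg.Agent.Helper24.IsIrrCharacter.isCharacter χ.2
  rw [← hρ]
  let σ' : cyclo (Nat.card G) →ₐ[ℚ] ℂ :=
    ((τ : ℂ →+* ℂ).comp (algebraMap (cyclo (Nat.card G)) ℂ)).toRatAlgHom
  exact embedding_char ρ σ' k (fun μ hμ => hτ μ hμ) g

/-- **Blocks do not depend on the maximal ideal** (= S0902). -/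
theorem centralChar_sub_mem {p : ℕ} [Fact p.Prime] (hM : IsPModular p M) {M' : Ideal AlgInt}
    (hM' : IsPModular p M') (χ ψ : IrrCharacter G)
    (h : SameBlock M (χ : G → ℂ) (ψ : G → ℂ)) (g : G) :
    ∃ r : AlgInt, r ∈ M' ∧
      (r : ℂ) = centralChar (χ : G → ℂ) g - centralChar (ψ : G → ℂ) g := by
  classical
  have hn : 0 < Nat.card G := Nat.card_pos
  set α : ℂ := centralChar (χ : G → ℂ) g - centralChar (ψ : G → ℂ) g with hαdef
  have hαi : IsIntegral ℤ α := (isIntegral_centralChar χ g).sub (isIntegral_centralChar ψ g)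
  have hα : α ∈ cyclo (Nat.card G) := by
    rw [hαdef]
    unfold centralChar
    exact sub_mem (div_mem (mul_mem (natCast_mem _ _) (irr_mem_cyclo χ g)) (irr_mem_cyclo χ 1))
      (div_mem (mul_mem (natCast_mem _ _) (irr_mem_cyclo ψ g)) (irr_mem_cyclo ψ 1))
  refine ⟨⟨α, hαi⟩, ?_, rfl⟩
  apply mem_of_roots_li hM hM' α hαi
  intro β hβ
  obtain ⟨τ, k, hk, hτμ, hτα⟩ := exists_aut_of_root (Nat.card G) hn α hα hαi β hβ
  rw [← hτα]
  have h1 := sameBlock_powIrr hM k hk χ ψ h g
  have e : τ α = centralChar (powIrr k hk χ : G → ℂ) g - centralChar (powIrr k hk ψ : G → ℂ) g := by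
    rw [hαdef]
    unfold centralChar
    rw [map_sub, map_div₀, map_div₀, map_mul, map_mul, map_natCast,
      aut_irr_apply τ k hτμ χ g, aut_irr_apply τ k hτμ χ 1, aut_irr_apply τ k hτμ ψ g,
      aut_irr_apply τ k hτμ ψ 1]
    rfl
  rw [e]
  exact h1

end Cfsg.Agent.Helper5.BG
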