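import Mathlib
import Cfsg.Prelude.Def_Blocks
import Cfsg.Prelude.Def_BlockRank
import Cfsg.Agent.Helper5.BlockDegSq
import Cfsg.Agent.Helper8.PRegularDiv
import Cfsg.Agent.S0961

set_option autoImplicit false
set_option linter.unusedSectionVars false
set_option linter.unusedVariables false

/-!
# The lattice of a block on the `p`-regular elements

For `χ₁` in a block `B` of defect `d`, the function `p ^ d * 1_reg * χ₁` is an integer combination
of the members of `B`.
-/

namespace Cfsg.Agent.Helper5.BLat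

open Cfsg Cfsg.Agent.Helper24 Cfsg.Agent.Helper5 Cfsg.Agent.Helper5.Loc Cfsg.Agent.Helper5.CC
open Cfsg.Agent.Helper5.BDS

variable {G : Type*} [Group G] [Fintype G] {M : Ideal AlgInt}

/-- The inner product of `1_reg * χ₁` with a character outside the block of `χ₁` vanishes. -/
theorem classInner_regInd_mul_eq_zero [Fintype (IrrCharacter G)] {p : ℕ} [hp : Fact p.Prime]
    (hM : IsPModular p M) {B : Set (IrrCharacter G)} (hB : IsPBlock M B)
    (χ₁ : IrrCharacter G) (hχ₁ : χ₁ ∈ B) (ψ : IrrCharacter G) (hψ : ψ ∉ B) :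
    classInner (fun x => regInd p x * (χ₁ : G → ℂ) x) (ψ : G → ℂ) = 0 := by
  have h1 := sum_regInd_mul_conj_eq_zero hM hB ψ hψ χ₁ hχ₁
  have h2 := congrArg (starRingEnd ℂ) h1
  simp only [map_sum, map_mul, map_zero, Complex.conj_conj] at h2
  rw [classInner]
  have h3 : ∑ g : G, regInd p g * (χ₁ : G → ℂ) g * (starRingEnd ℂ) ((ψ : G → ℂ) g) = 0 := by
    refine Eq.trans ?_ h2
    refine Finset.sum_congr rfl fun g _ => ?_
    have : (starRingEnd ℂ) (regInd p g) = regInd p g := by
      unfold regInd; split_ifs <;> simp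
    rw [this]; ring
  rw [h3, mul_zero]

/-- **Integrality**: `p ^ d * ⟨1_reg χ₁, ψ⟩` is an integer for `χ₁` in a block of defect `d`. -/
theorem exists_int_pow_defect_mul_classInner [Fintype (IrrCharacter G)] {p : ℕ}
    [hp : Fact p.Prime]
    (hM : IsPModular p M) {B : Set (IrrCharacter G)} (hB : IsPBlock M B)
    (χ₁ : IrrCharacter G) (hχ₁ : χ₁ ∈ B) (ψ : IrrCharacter G) :
    ∃ k : ℤ, ((p ^ blockDefect p B : ℕ) : ℂ) *
      classInner (fun x => regInd p x * (χ₁ : G → ℂ) x) (ψ : G → ℂ) = k := by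
  classical
  have : Finite G := Finite.of_fintype G
  set a := (Nat.card G).factorization p with ha
  set d := blockDefect p B with hd
  set X := classInner (fun x => regInd p x * (χ₁ : G → ℂ) x) (ψ : G → ℂ) with hX
  have h961 := Cfsg.Agent.S0961.result p χ₁
  obtain ⟨n, hn⟩ := IsGeneralizedCharacter.classInner_irr_int h961 ψ
  have hdiv := Cfsg.Agent.Helper8.PRegularDiv.pow_dvd_classInner_pRegular p χ₁ ψ n hn
  -- `a - d ≤ ν(χ₁(1))`
  have hinf : sInf ((fun χ : IrrCharacter G => (charDegree (χ : G → ℂ)).factorization p) '' B) ≤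
      (charDegree (χ₁ : G → ℂ)).factorization p := Nat.sInf_le ⟨χ₁, hχ₁, rfl⟩
  have hdef : d = a - sInf ((fun χ : IrrCharacter G =>
      (charDegree (χ : G → ℂ)).factorization p) '' B) := rfl
  rw [charDegree_eq_irrDeg] at hinf
  have hle : a - d ≤ (irrDeg χ₁).factorization p := by omega
  have hda : d ≤ a := by omega
  obtain ⟨k, hk⟩ : (p : ℤ) ^ (a - d) ∣ n := (pow_dvd_pow (p : ℤ) hle).trans hdiv
  refine ⟨k, ?_⟩
  -- `p ^ a * X = n`
  have h1 : ((p ^ a : ℕ) : ℂ) * X = n := by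
    rw [← hn, hX, classInner, classInner, ← mul_assoc, mul_comm ((p ^ a : ℕ) : ℂ), mul_assoc,
      Finset.mul_sum]
    congr 1
    refine Finset.sum_congr rfl fun g _ => ?_
    by_cases hg : p ∣ orderOf g
    · rw [if_pos hg, regInd_of_dvd hg]; ring
    · rw [if_neg hg, regInd_of_not_dvd hg]; ring
  have hp0 : ((p : ℂ) ^ (a - d)) ≠ 0 := pow_ne_zero _ (by exact_mod_cast hp.out.ne_zero)
  apply mul_left_cancel₀ hp0
  have h2 : ((p ^ a : ℕ) : ℂ) = (p : ℂ) ^ (a - d) * ((p ^ d : ℕ) : ℂ) := by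
    push_cast
    rw [← pow_add]; congr 1; omega
  rw [← mul_assoc, ← h2, h1, hk]
  push_cast
  ring

open Classical in
/-- **`p ^ d * 1_reg * χ₁` is an integer combination of the members of the block.** -/
theorem exists_int_coeff_pow_defect_mul_regular [Fintype (IrrCharacter G)] {p : ℕ}
    [hp : Fact p.Prime]
    (hM : IsPModular p M) {B : Set (IrrCharacter G)} (hB : IsPBlock M B)
    (χ₁ : IrrCharacter G) (hχ₁ : χ₁ ∈ B) :
    ∃ k : IrrCharacter G → ℤ, ∀ g : G, ((p ^ blockDefect p B : ℕ) : ℂ) *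
      (regInd p g * (χ₁ : G → ℂ) g) =
      ∑ ψ : IrrCharacter G, if ψ ∈ B then (k ψ : ℂ) * (ψ : G → ℂ) g else 0 := by
  have hk := fun ψ => exists_int_pow_defect_mul_classInner hM hB χ₁ hχ₁ ψ
  choose k hk using hk
  refine ⟨k, fun g => ?_⟩
  have hcf : IsClassFunction G (fun x => regInd p x * (χ₁ : G → ℂ) x) :=
    isClassFunction_mul (isClassFunction_regInd p) (isClassFunction_irr χ₁)
  have hexp := congrFun (IsClassFunction.eq_sum_classInner hcf) g
  rw [Finset.sum_apply] at hexp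
  simp only [Pi.smul_apply, smul_eq_mul] at hexp
  rw [hexp, Finset.mul_sum]
  refine Finset.sum_congr rfl fun ψ _ => ?_
  by_cases hψ : ψ ∈ B
  · rw [if_pos hψ, ← hk ψ]; ring
  · rw [if_neg hψ, classInner_regInd_mul_eq_zero hM hB χ₁ hχ₁ ψ hψ]; ring

end Cfsg.Agent.Helper5.BLat
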