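import Mathlib
import Cfsg.Prelude.Def_Blocks
import Cfsg.Prelude.Def_BlockRank
import Cfsg.Agent.Helper5.BlockLattice

set_option autoImplicit false
set_option linter.unusedSectionVars false
set_option linter.unusedVariables false

/-!
# Blocks of `p`-regular rank one
-/

namespace Cfsg.Agent.Helper5.BR1

open Cfsg Cfsg.Agent.Helper24 Cfsg.Agent.Helper5 Cfsg.Agent.Helper5.Loc Cfsg.Agent.Helper5.CC
open Cfsg.Agent.Helper5.BDS Cfsg.Agent.Helper5.BLat

variable {G : Type*} [Group G] [Fintype G] {M : Ideal AlgInt}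

omit [Fintype G] in
theorem pRegularPart_eq (p : ℕ) (χ : G → ℂ) (g : G) :
    pRegularPart p χ g = regInd p g * χ g := by
  classical
  unfold pRegularPart IsPRegular
  by_cases hg : p ∣ orderOf g
  · rw [if_neg (not_not.mpr hg), regInd_of_dvd hg, zero_mul]
  · rw [if_pos hg, regInd_of_not_dvd hg, one_mul]

/-- **Proportionality.** In a set of irreducible characters of `p`-regular rank one, all members are
proportional on the `p`-regular elements. -/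
theorem regular_proportional [Finite G] {p : ℕ} [hp : Fact p.Prime] {B : Set (IrrCharacter G)}
    (hl : blockRank p B = 1) (χ₀ χ : IrrCharacter G) (hχ₀ : χ₀ ∈ B) (hχ : χ ∈ B) (x : G)
    (hx : ¬ p ∣ orderOf x) :
    (χ : G → ℂ) x = (χ : G → ℂ) 1 / (χ₀ : G → ℂ) 1 * (χ₀ : G → ℂ) x := by
  classical
  unfold blockRank at hl
  set f : IrrCharacter G → G → ℂ := fun χ => pRegularPart p (χ : G → ℂ) with hf
  obtain ⟨v, hv0, hv⟩ := finrank_eq_one_iff'.mp hl
  have hmem : ∀ ψ ∈ B, f ψ ∈ Submodule.span ℂ (f '' B) :=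
    fun ψ hψ => Submodule.subset_span ⟨ψ, hψ, rfl⟩
  obtain ⟨c₀, hc₀⟩ := hv ⟨f χ₀, hmem χ₀ hχ₀⟩
  obtain ⟨c, hc⟩ := hv ⟨f χ, hmem χ hχ⟩
  have hc₀' : c₀ • (v : G → ℂ) = f χ₀ := congrArg Subtype.val hc₀
  have hc' : c • (v : G → ℂ) = f χ := congrArg Subtype.val hc
  have h1reg : ¬ p ∣ orderOf (1 : G) := by rw [orderOf_one]; exact hp.out.not_dvd_one
  have hf1 : ∀ ψ : IrrCharacter G, f ψ 1 = (ψ : G → ℂ) 1 := by
    intro ψ
    show pRegularPart p (ψ : G → ℂ) 1 = _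
    rw [pRegularPart_eq, regInd_of_not_dvd h1reg, one_mul]
  have hfx : ∀ ψ : IrrCharacter G, f ψ x = (ψ : G → ℂ) x := by
    intro ψ
    show pRegularPart p (ψ : G → ℂ) x = _
    rw [pRegularPart_eq, regInd_of_not_dvd hx, one_mul]
  have h01 : (χ₀ : G → ℂ) 1 ≠ 0 := irr_one_ne_zero χ₀
  have e1 : c₀ * (v : G → ℂ) 1 = (χ₀ : G → ℂ) 1 := by
    rw [← hf1, ← hc₀']; rfl
  have e2 : c * (v : G → ℂ) 1 = (χ : G → ℂ) 1 := by
    rw [← hf1, ← hc']; rfl
  have e3 : c₀ * (v : G → ℂ) x = (χ₀ : G → ℂ) x := by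
    rw [← hfx, ← hc₀']; rfl
  have e4 : c * (v : G → ℂ) x = (χ : G → ℂ) x := by
    rw [← hfx, ← hc']; rfl
  have hc₀0 : c₀ ≠ 0 := by
    intro h
    rw [h, zero_mul] at e1
    exact h01 e1.symm
  have hv1 : (v : G → ℂ) 1 ≠ 0 := by
    intro h
    rw [h, mul_zero] at e1
    exact h01 e1.symm
  rw [← e4, ← e2, ← e1, ← e3]
  field_simp

open Classical in
/-- **The Cartan invariant of a block of rank one** is the order of a defect group. -/
theorem cartan_rank_one [Fintype (IrrCharacter G)] {p : ℕ} [hp : Fact p.Prime]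
    (hM : IsPModular p M) {B : Set (IrrCharacter G)} (hB : IsPBlock M B)
    (hl : blockRank p B = 1) :
    ∃ φ : G → ℂ, ∃ d : IrrCharacter G → ℕ,
      (∃ n : IrrCharacter G → ℤ, ∀ x : G, ¬ p ∣ orderOf x →
        φ x = ∑ ψ : IrrCharacter G, if ψ ∈ B then (n ψ : ℂ) * (ψ : G → ℂ) x else 0) ∧
      (∀ χ ∈ B, ∀ x : G, ¬ p ∣ orderOf x → (χ : G → ℂ) x = (d χ : ℂ) * φ x) ∧
      (∑ χ : IrrCharacter G, if χ ∈ B then d χ ^ 2 else 0) = p ^ blockDefect p B := by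
  have hMp := isPrime_of_isPModular hM
  have : Finite G := Finite.of_fintype G
  obtain ⟨χ₀, hχ₀⟩ := IsPBlock.nonempty hMp hB
  have hGne : (Nat.card G : ℂ) ≠ 0 := by
    have : 0 < Nat.card G := Nat.card_pos
    exact_mod_cast this.ne'
  -- the gcd of the degrees
  set s : Finset (IrrCharacter G) := Finset.univ.filter (· ∈ B) with hs
  set f : IrrCharacter G → ℤ := fun χ => (irrDeg χ : ℤ) with hf
  set gz : ℤ := s.gcd f with hgz
  obtain ⟨b, hb⟩ := Finset.gcd_eq_sum_mul s f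
  have hmems : ∀ χ, χ ∈ s ↔ χ ∈ B := fun χ => by simp [hs]
  have hgz_dvd : ∀ χ ∈ B, gz ∣ (irrDeg χ : ℤ) := fun χ hχ => Finset.gcd_dvd ((hmems χ).mpr hχ)
  have hgz0 : gz ≠ 0 := by
    intro h
    have := hgz_dvd χ₀ hχ₀
    rw [h, zero_dvd_iff] at this
    exact (irrDeg_pos χ₀).ne' (by exact_mod_cast this)
  set g : ℕ := gz.natAbs with hg
  have hg0 : g ≠ 0 := Int.natAbs_ne_zero.mpr hgz0
  have hg_dvd : ∀ χ ∈ B, g ∣ irrDeg χ := by
    intro χ hχ
    have := Int.natAbs_dvd_natAbs.mpr (hgz_dvd χ hχ)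
    rwa [Int.natAbs_natCast] at this
  obtain ⟨ε, hε⟩ : ∃ ε : ℤ, (g : ℤ) = ε * gz := by
    rcases Int.natAbs_eq gz with h | h
    · exact ⟨1, by rw [one_mul]; exact h.symm⟩
    · exact ⟨-1, by rw [hg]; linarith⟩
  set n : IrrCharacter G → ℤ := fun ψ => ε * b ψ with hn
  set d : IrrCharacter G → ℕ := fun χ => irrDeg χ / g with hd
  have hdeg : ∀ χ ∈ B, irrDeg χ = g * d χ := fun χ hχ =>
    (Nat.mul_div_cancel' (hg_dvd χ hχ)).symm
  have hbez : (g : ℤ) = ∑ ψ : IrrCharacter G, if ψ ∈ B then n ψ * (irrDeg ψ : ℤ) else 0 := by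
    rw [hε, hgz, hb, Finset.mul_sum, hs, Finset.sum_filter]
    refine Finset.sum_congr rfl fun ψ _ => ?_
    by_cases hψ : ψ ∈ B
    · rw [if_pos hψ, if_pos hψ]; ring
    · rw [if_neg hψ, if_neg hψ]
  have hbez1 : ∑ ψ : IrrCharacter G, (if ψ ∈ B then n ψ * (d ψ : ℤ) else 0) = 1 := by
    have hgz' : (g : ℤ) ≠ 0 := by exact_mod_cast hg0
    apply mul_left_cancel₀ hgz'
    rw [mul_one, Finset.mul_sum]
    nth_rewrite 2 [hbez]
    refine Finset.sum_congr rfl fun ψ _ => ?_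
    by_cases hψ : ψ ∈ B
    · rw [if_pos hψ, if_pos hψ, hdeg ψ hψ]; push_cast; ring
    · rw [if_neg hψ, if_neg hψ, mul_zero]
  have hbez1C : ∑ ψ : IrrCharacter G, (if ψ ∈ B then (n ψ : ℂ) * (d ψ : ℂ) else 0) = 1 := by
    have := congrArg (fun z : ℤ => (z : ℂ)) hbez1
    simp only [Int.cast_sum, Int.cast_one] at this
    rw [← this]
    refine Finset.sum_congr rfl fun ψ _ => ?_
    split_ifs <;> simp
  have h01 : (χ₀ : G → ℂ) 1 ≠ 0 := irr_one_ne_zero χ₀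
  have hgC : (g : ℂ) ≠ 0 := by exact_mod_cast hg0
  set φ : G → ℂ := fun x => (g : ℂ) / (χ₀ : G → ℂ) 1 * (χ₀ : G → ℂ) x with hφ
  have hchi1 : ∀ χ ∈ B, (χ : G → ℂ) 1 = (g : ℂ) * (d χ : ℂ) := by
    intro χ hχ
    rw [irrDeg_spec, hdeg χ hχ]; push_cast; ring
  have hval : ∀ χ ∈ B, ∀ x : G, ¬ p ∣ orderOf x → (χ : G → ℂ) x = (d χ : ℂ) * φ x := by
    intro χ hχ x hx
    rw [regular_proportional hl χ₀ χ hχ₀ hχ x hx, hchi1 χ hχ, hφ]
    field_simp
  have hφint : ∀ x : G, ¬ p ∣ orderOf x →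
      φ x = ∑ ψ : IrrCharacter G, if ψ ∈ B then (n ψ : ℂ) * (ψ : G → ℂ) x else 0 := by
    intro x hx
    have e1 : ∑ ψ : IrrCharacter G, (if ψ ∈ B then (n ψ : ℂ) * (ψ : G → ℂ) x else 0) =
        (∑ ψ : IrrCharacter G, (if ψ ∈ B then (n ψ : ℂ) * (d ψ : ℂ) else 0)) * φ x := by
      rw [Finset.sum_mul]
      refine Finset.sum_congr rfl fun ψ _ => ?_
      by_cases hψ : ψ ∈ B
      · rw [if_pos hψ, if_pos hψ, hval ψ hψ x hx]; ring
      · rw [if_neg hψ, if_neg hψ, zero_mul]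
    rw [e1, hbez1C, one_mul]
  refine ⟨φ, d, ⟨n, hφint⟩, hval, ?_⟩
  -- the Cartan invariant
  set c : ℕ := ∑ χ : IrrCharacter G, if χ ∈ B then d χ ^ 2 else 0 with hc
  set N : ℂ := (Nat.card G : ℂ)⁻¹ * ∑ x : G, regInd p x * (φ x * (starRingEnd ℂ) (φ x)) with hN
  have hinner : ∀ χ₁ ∈ B, ∀ χ ∈ B,
      classInner (fun x => regInd p x * (χ₁ : G → ℂ) x) (χ : G → ℂ) =
        (d χ₁ : ℂ) * (d χ : ℂ) * N := by
    intro χ₁ hχ₁ χ hχ
    have e : ∑ x : G, regInd p x * (χ₁ : G → ℂ) x * (starRingEnd ℂ) ((χ : G → ℂ) x) =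
        (d χ₁ : ℂ) * (d χ : ℂ) * ∑ x : G, regInd p x * (φ x * (starRingEnd ℂ) (φ x)) := by
      rw [Finset.mul_sum]
      refine Finset.sum_congr rfl fun x _ => ?_
      by_cases hx : p ∣ orderOf x
      · rw [regInd_of_dvd hx]; ring
      · rw [hval χ₁ hχ₁ x hx, hval χ hχ x hx, map_mul, Complex.conj_natCast]; ring
    rw [classInner, hN, e]
    ring
  have hcpos : 0 < c := by
    have h1 : d χ₀ ^ 2 ≤ c := by
      rw [hc]
      have := Finset.single_le_sum (s := (Finset.univ : Finset (IrrCharacter G)))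
        (f := fun χ : IrrCharacter G => (if χ ∈ B then d χ ^ 2 else 0 : ℕ))
        (fun i _ => Nat.zero_le _) (Finset.mem_univ χ₀)
      simpa [if_pos hχ₀] using this
    have h2 : 0 < d χ₀ := by
      rcases Nat.eq_zero_or_pos (d χ₀) with h | h
      · have := hdeg χ₀ hχ₀
        rw [h, mul_zero] at this
        exact absurd this (irrDeg_pos χ₀).ne'
      · exact h
    exact lt_of_lt_of_le (pow_pos h2 2) h1
  have hcC : (c : ℂ) = ∑ χ : IrrCharacter G, if χ ∈ B then (d χ : ℂ) ^ 2 else 0 := by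
    rw [hc]
    push_cast
    refine Finset.sum_congr rfl fun χ _ => ?_
    split_ifs <;> simp
  have hNc : N * (c : ℂ) = 1 := by
    have hcf : IsClassFunction G (fun x => regInd p x * (χ₀ : G → ℂ) x) :=
      isClassFunction_mul (isClassFunction_regInd p) (isClassFunction_irr χ₀)
    have hexp := congrFun (IsClassFunction.eq_sum_classInner hcf) 1
    rw [Finset.sum_apply] at hexp
    simp only [Pi.smul_apply, smul_eq_mul] at hexp
    have h1reg : ¬ p ∣ orderOf (1 : G) := by rw [orderOf_one]; exact hp.out.not_dvd_one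
    rw [regInd_of_not_dvd h1reg, one_mul] at hexp
    have e1 : ∑ ψ : IrrCharacter G, classInner (fun x => regInd p x * (χ₀ : G → ℂ) x)
        (ψ : G → ℂ) * (ψ : G → ℂ) 1 = (χ₀ : G → ℂ) 1 * (N * (c : ℂ)) := by
      rw [hcC, Finset.mul_sum, Finset.mul_sum]
      refine Finset.sum_congr rfl fun ψ _ => ?_
      by_cases hψ : ψ ∈ B
      · rw [if_pos hψ, hinner χ₀ hχ₀ ψ hψ, hchi1 ψ hψ, hchi1 χ₀ hχ₀]; ring
      · rw [if_neg hψ, classInner_regInd_mul_eq_zero hM hB χ₀ hχ₀ ψ hψ]; ring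
    rw [e1] at hexp
    have h2 : (χ₀ : G → ℂ) 1 * (N * (c : ℂ)) = (χ₀ : G → ℂ) 1 * 1 := by
      rw [mul_one]; exact hexp.symm
    exact mul_left_cancel₀ h01 h2
  set dB := blockDefect p B with hdB
  -- `c ∣ p ^ dB * d χ₁ * d χ`
  have hdiv0 : ∀ χ₁ ∈ B, ∀ χ ∈ B, (c : ℤ) ∣ ((p ^ dB : ℕ) : ℤ) * (d χ₁ : ℤ) * (d χ : ℤ) := by
    intro χ₁ hχ₁ χ hχ
    obtain ⟨k, hk⟩ := exists_int_pow_defect_mul_classInner hM hB χ₁ hχ₁ χ
    rw [hinner χ₁ hχ₁ χ hχ] at hk
    refine ⟨k, ?_⟩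
    have : (((p ^ dB : ℕ) : ℤ) * (d χ₁ : ℤ) * (d χ : ℤ) : ℂ) = ((c : ℤ) * k : ℂ) := by
      rw [← hk]
      push_cast
      linear_combination (-(p : ℂ) ^ dB * (d χ₁ : ℂ) * (d χ : ℂ)) * hNc
    exact_mod_cast this
  have hdiv1 : ∀ χ₁ ∈ B, (c : ℤ) ∣ ((p ^ dB : ℕ) : ℤ) * (d χ₁ : ℤ) := by
    intro χ₁ hχ₁
    have e1 : ((p ^ dB : ℕ) : ℤ) * (d χ₁ : ℤ) = ∑ ψ : IrrCharacter G,
        (if ψ ∈ B then n ψ * (((p ^ dB : ℕ) : ℤ) * (d χ₁ : ℤ) * (d ψ : ℤ)) else 0) := by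
      calc ((p ^ dB : ℕ) : ℤ) * (d χ₁ : ℤ) = ((p ^ dB : ℕ) : ℤ) * (d χ₁ : ℤ) *
            ∑ ψ : IrrCharacter G, (if ψ ∈ B then n ψ * (d ψ : ℤ) else 0) := by
            rw [hbez1, mul_one]
        _ = _ := by
            rw [Finset.mul_sum]
            refine Finset.sum_congr rfl fun ψ _ => ?_
            by_cases hψ : ψ ∈ B
            · rw [if_pos hψ, if_pos hψ]; ring
            · rw [if_neg hψ, if_neg hψ, mul_zero]
    rw [e1]
    apply Finset.dvd_sum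
    intro ψ _
    by_cases hψ : ψ ∈ B
    · rw [if_pos hψ]; exact Dvd.dvd.mul_left (hdiv0 χ₁ hχ₁ ψ hψ) _
    · rw [if_neg hψ]; exact dvd_zero _
  have hdiv2 : (c : ℤ) ∣ ((p ^ dB : ℕ) : ℤ) := by
    have e1 : ((p ^ dB : ℕ) : ℤ) = ∑ ψ : IrrCharacter G,
        (if ψ ∈ B then n ψ * (((p ^ dB : ℕ) : ℤ) * (d ψ : ℤ)) else 0) := by
      calc ((p ^ dB : ℕ) : ℤ) = ((p ^ dB : ℕ) : ℤ) *
            ∑ ψ : IrrCharacter G, (if ψ ∈ B then n ψ * (d ψ : ℤ) else 0) := by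
            rw [hbez1, mul_one]
        _ = _ := by
            rw [Finset.mul_sum]
            refine Finset.sum_congr rfl fun ψ _ => ?_
            by_cases hψ : ψ ∈ B
            · rw [if_pos hψ, if_pos hψ]; ring
            · rw [if_neg hψ, if_neg hψ, mul_zero]
    rw [e1]
    apply Finset.dvd_sum
    intro ψ _
    by_cases hψ : ψ ∈ B
    · rw [if_pos hψ]; exact Dvd.dvd.mul_left (hdiv1 ψ hψ) _
    · rw [if_neg hψ]; exact dvd_zero _
  have hcdvd : c ∣ p ^ dB := by exact_mod_cast hdiv2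
  obtain ⟨j, hj, hcj⟩ := (Nat.dvd_prime_pow hp.out).mp hcdvd
  -- the valuation of `c`
  set a := (Nat.card G).factorization p with ha
  have hne : ((fun χ : IrrCharacter G => (charDegree (χ : G → ℂ)).factorization p) '' B).Nonempty :=
    ⟨_, χ₀, hχ₀, rfl⟩
  obtain ⟨χh, hχh, hE⟩ := Nat.sInf_mem hne
  beta_reduce at hE
  rw [charDegree_eq_irrDeg] at hE
  have hdef : dB = a - sInf ((fun χ : IrrCharacter G =>
      (charDegree (χ : G → ℂ)).factorization p) '' B) := rfl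
  have hνle : ∀ χ : IrrCharacter G, (irrDeg χ).factorization p ≤ a :=
    fun χ => (Nat.factorization_le_iff_dvd (irrDeg_pos χ).ne' Nat.card_pos.ne').mpr
      (irrDeg_dvd_card χ) p
  have hlow : ∀ χ ∈ B, a - dB ≤ (irrDeg χ).factorization p := by
    intro χ hχ
    have hinf : sInf ((fun χ : IrrCharacter G => (charDegree (χ : G → ℂ)).factorization p) '' B) ≤
        (charDegree (χ : G → ℂ)).factorization p := Nat.sInf_le ⟨χ, hχ, rfl⟩
    rw [charDegree_eq_irrDeg] at hinf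
    omega
  have hhz : (irrDeg χh).factorization p = a - dB := by
    have := hνle χh
    omega
  have hdBa : dB ≤ a := by omega
  have hνg : g.factorization p = a - dB := by
    apply le_antisymm
    · rw [← hhz]
      exact (Nat.factorization_le_iff_dvd hg0 (irrDeg_pos χh).ne').mpr (hg_dvd χh hχh) p
    · have h1 : ((p ^ (a - dB) : ℕ) : ℤ) ∣ gz := by
        apply Finset.dvd_gcd
        intro χ hχ
        have hχB := (hmems χ).mp hχ
        have : p ^ (a - dB) ∣ irrDeg χ :=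
          (pow_dvd_pow p (hlow χ hχB)).trans (Nat.ordProj_dvd _ _)
        show ((p ^ (a - dB) : ℕ) : ℤ) ∣ (irrDeg χ : ℤ)
        exact_mod_cast this
      have h2 : p ^ (a - dB) ∣ g := by
        have := Int.natAbs_dvd_natAbs.mpr h1
        rwa [Int.natAbs_natCast] at this
      exact (Nat.Prime.pow_dvd_iff_le_factorization hp.out hg0).mp h2
  have hS : (∑ᶠ χ ∈ B, charDegree (χ : G → ℂ) ^ 2) = g ^ 2 * c := by
    rw [finsum_mem_eq_sum_ite', hc, Finset.mul_sum]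
    refine Finset.sum_congr rfl fun χ _ => ?_
    by_cases hχ : χ ∈ B
    · rw [if_pos hχ, if_pos hχ, charDegree_eq_irrDeg, hdeg χ hχ]; ring
    · rw [if_neg hχ, if_neg hχ, mul_zero]
  have hνS := factorization_sum_degree_sq hM hB
  rw [hS, Nat.factorization_mul (pow_pos (Nat.pos_of_ne_zero hg0) 2).ne' hcpos.ne',
    Finsupp.add_apply, Nat.factorization_pow, Finsupp.smul_apply, hνg, hcj,
    Nat.Prime.factorization_pow hp.out] at hνS
  simp only [Finsupp.single_eq_same, smul_eq_mul] at hνS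
  have hjd : j = dB := by omega
  rw [hcj, hjd]

end Cfsg.Agent.Helper5.BR1
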