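import Cfsg.Agent.Helper5.S5700EXHYP5
import Cfsg.Agent.Helper5.S5700EXHYP6

set_option autoImplicit false
set_option linter.unusedSectionVars false
set_option linter.unusedVariables false

/-! # S5700, piece EXK -/

namespace Cfsg.Agent.S5700P

open Matrix Module Cfsg.Agent.Helper28.Sg Cfsg.Agent.Helper28.Spin Cfsg.Agent.Helper12.OrthGen

variable {F : Type*} [Field F] [Fintype F] {ι : Type} [Fintype ι] [DecidableEq ι]
  {Q : QuadraticForm F (ι → F)} {J : Matrix ι ι F} {t p : F}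

theorem EXK.K1 (hQ : (QuadraticMap.polarBilin Q).Nondegenerate) (hn : 14 ≤ Fintype.card ι)
    (J : Matrix ι ι F) (b : ι → F) :
    ∃ w₁ w₂ : ι → F, Q w₁ = 0 ∧ Q w₂ = 0 ∧ B Q w₁ w₂ = 1 ∧ hperp Q J b w₁ ∧ hperp Q J b w₂ := by
  classical
  set s : Finset (ι → F) := {b, J *ᵥ b} with hs
  have hcard : finrank F ↥(Submodule.span F (s : Set (ι → F))) ≤ 5 :=
    le_trans (finrank_span_finset_le_card s) (le_trans Finset.card_le_two (by norm_num))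
  obtain ⟨w₁, w₂, h1, h2, h12, hU1, hU2⟩ := EXHYP5.of_le5 hQ hn _ hcard
  have hb : b ∈ Submodule.span F (s : Set (ι → F)) := Submodule.subset_span (by simp [hs])
  have hJb : J *ᵥ b ∈ Submodule.span F (s : Set (ι → F)) := Submodule.subset_span (by simp [hs])
  exact ⟨w₁, w₂, h1, h2, h12, ⟨hU1 _ hb, hU1 _ hJb⟩, ⟨hU2 _ hb, hU2 _ hJb⟩⟩

theorem EXK.K2 (hQ : (QuadraticMap.polarBilin Q).Nondegenerate) (hn : 14 ≤ Fintype.card ι)
    (J : Matrix ι ι F) (b b' : ι → F) :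
    ∃ w₁ w₂ : ι → F, Q w₁ = 0 ∧ Q w₂ = 0 ∧ B Q w₁ w₂ = 1 ∧ hperp Q J b w₁ ∧ hperp Q J b w₂ ∧
      hperp Q J b' w₁ ∧ hperp Q J b' w₂ := by
  classical
  set s : Finset (ι → F) := {b, J *ᵥ b, b', J *ᵥ b'} with hs
  have hcard : finrank F ↥(Submodule.span F (s : Set (ι → F))) ≤ 5 :=
    le_trans (finrank_span_finset_le_card s) (le_trans Finset.card_le_four (by norm_num))
  obtain ⟨w₁, w₂, h1, h2, h12, hU1, hU2⟩ := EXHYP5.of_le5 hQ hn _ hcard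
  have hb : b ∈ Submodule.span F (s : Set (ι → F)) := Submodule.subset_span (by simp [hs])
  have hJb : J *ᵥ b ∈ Submodule.span F (s : Set (ι → F)) := Submodule.subset_span (by simp [hs])
  have hb' : b' ∈ Submodule.span F (s : Set (ι → F)) := Submodule.subset_span (by simp [hs])
  have hJb' : J *ᵥ b' ∈ Submodule.span F (s : Set (ι → F)) :=
    Submodule.subset_span (by simp [hs])
  exact ⟨w₁, w₂, h1, h2, h12, ⟨hU1 _ hb, hU1 _ hJb⟩, ⟨hU2 _ hb, hU2 _ hJb⟩,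
    ⟨hU1 _ hb', hU1 _ hJb'⟩, ⟨hU2 _ hb', hU2 _ hJb'⟩⟩

theorem EXK.K3 (hQ : (QuadraticMap.polarBilin Q).Nondegenerate) (hn : 14 ≤ Fintype.card ι)
    (J : Matrix ι ι F) (b v u : ι → F) (hne : ¬ hperp Q J v u) :
    ∃ w₁ w₂ : ι → F, Q w₁ = 0 ∧ Q w₂ = 0 ∧ B Q w₁ w₂ = 1 ∧ hperp Q J b w₁ ∧ hperp Q J b w₂ ∧
      hperp Q J v w₁ ∧ hperp Q J v w₂ ∧ hperp Q J u w₁ ∧ hperp Q J u w₂ := by
  classical
  set s : Finset (ι → F) := {b, J *ᵥ b, v, J *ᵥ v, u, J *ᵥ u} with hs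
  have hcard : finrank F ↥(Submodule.span F (s : Set (ι → F))) ≤ 6 :=
    le_trans (finrank_span_finset_le_card s) Finset.card_le_six
  have hb : b ∈ Submodule.span F (s : Set (ι → F)) := Submodule.subset_span (by simp [hs])
  have hJb : J *ᵥ b ∈ Submodule.span F (s : Set (ι → F)) := Submodule.subset_span (by simp [hs])
  have hv : v ∈ Submodule.span F (s : Set (ι → F)) := Submodule.subset_span (by simp [hs])
  have hJv : J *ᵥ v ∈ Submodule.span F (s : Set (ι → F)) := Submodule.subset_span (by simp [hs])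
  have hu : u ∈ Submodule.span F (s : Set (ι → F)) := Submodule.subset_span (by simp [hs])
  have hJu : J *ᵥ u ∈ Submodule.span F (s : Set (ι → F)) := Submodule.subset_span (by simp [hs])
  have hne' : ∃ x ∈ Submodule.span F (s : Set (ι → F)),
      ∃ y ∈ Submodule.span F (s : Set (ι → F)), B Q x y ≠ 0 := by
    by_cases h1 : B Q v u = 0
    · refine ⟨J *ᵥ v, hJv, u, hu, ?_⟩
      intro h2
      exact hne ⟨h1, h2⟩
    · exact ⟨v, hv, u, hu, h1⟩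
  obtain ⟨w₁, w₂, h1, h2, h12, hU1, hU2⟩ := EXHYP6.of_le6 hQ hn _ hcard hne'
  exact ⟨w₁, w₂, h1, h2, h12, ⟨hU1 _ hb, hU1 _ hJb⟩, ⟨hU2 _ hb, hU2 _ hJb⟩,
    ⟨hU1 _ hv, hU1 _ hJv⟩, ⟨hU2 _ hv, hU2 _ hJv⟩, ⟨hU1 _ hu, hU1 _ hJu⟩, ⟨hU2 _ hu, hU2 _ hJu⟩⟩

end Cfsg.Agent.S5700P
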