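import Cfsg.Agent.Helper1.S5665.Lib
import Cfsg.Agent.Helper5.S5700EXK
import Cfsg.Agent.Helper25.S5700DUAL
import Cfsg.Agent.Helper2.FieldBasics

set_option autoImplicit false
set_option linter.unusedSectionVars false
set_option linter.unusedVariables false

/-! # S5665: piece RHO (the `K`-reflection in a non-isotropic vector) -/

namespace Cfsg.Agent.S5665P

open Matrix Module Cfsg.Agent.Helper2.Sp Cfsg.Agent.Helper28.Sg Cfsg.Agent.S5700P

variable {F : Type*} [Field F] [Fintype F] {m : ℕ}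
  {δ : Matrix (Fin m ⊕ Fin m) (Fin m ⊕ Fin m) F} {d : F}

local notation "V" => (Fin m ⊕ Fin m → F)
local notation "Mat" => Matrix (Fin m ⊕ Fin m) (Fin m ⊕ Fin m) F
local notation "Sp" => Matrix.symplecticGroup (Fin m) F

namespace RHO

/-- the rank one matrix `v ↦ om b v • a` -/
theorem vmv_mulVec (a b v : V) : vecMulVec a (b ᵥ* J (Fin m) F) *ᵥ v = om b v • a := by
  unfold om
  rw [vecMulVec_mulVec, ← dotProduct_mulVec]
  ext i
  simp [mul_comm]

/-- the matrix of `v ↦ v - 2 om(v, y) z + 2 om(v, z) y` -/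
def Rm (z y : V) : Mat :=
  1 + (2 : F) • vecMulVec z (y ᵥ* J (Fin m) F) - (2 : F) • vecMulVec y (z ᵥ* J (Fin m) F)

theorem Rm_mulVec (z y v : V) : Rm z y *ᵥ v = v - (2 * om v y) • z + (2 * om v z) • y := by
  unfold Rm
  rw [sub_mulVec, add_mulVec, one_mulVec, smul_mulVec, smul_mulVec, vmv_mulVec, vmv_mulVec,
    om_swap v y, om_swap v z]
  module

theorem Rm_mem {z y : V} (h : om z y = 1) : Rm z y ∈ symplecticGroup (Fin m) F := by
  rw [mem_symplectic_iff_om]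
  intro a b
  rw [Rm_mulVec, Rm_mulVec]
  simp only [om_add_left, om_add_right, om_sub_left, om_sub_right, om_smul_left, om_smul_right,
    om_self]
  rw [om_swap b z, om_swap b y, om_swap z y, h]
  ring

end RHO

theorem RHO.exists_rho (U : SData δ d) {x : V} (hx : Qs δ x ≠ 0) :
    ∃ r : Sp, InH δ r ∧ IsIota r x (-(Qs δ x)⁻¹ • δ *ᵥ x) := by
  have hxy : om x (-(Qs δ x)⁻¹ • δ *ᵥ x) = 1 := by
    rw [om_smul_right, U.om_self_delta]
    field_simp
  have hiota : IsIota (⟨RHO.Rm x (-(Qs δ x)⁻¹ • δ *ᵥ x), RHO.Rm_mem hxy⟩ : Sp) x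
      (-(Qs δ x)⁻¹ • δ *ᵥ x) := by
    intro v
    exact RHO.Rm_mulVec _ _ v
  refine ⟨⟨RHO.Rm x (-(Qs δ x)⁻¹ • δ *ᵥ x), RHO.Rm_mem hxy⟩, ?_, hiota⟩
  apply inH_of_comm
  intro v
  rw [hiota, hiota, Matrix.mulVec_add, Matrix.mulVec_sub, Matrix.mulVec_smul, Matrix.mulVec_smul,
    Matrix.mulVec_smul, U.dd, om_smul_right, om_smul_right, U.om_dd, U.adj' v x]
  module

end Cfsg.Agent.S5665P
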