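import Mathlib
import Cfsg.Prelude.Def_Classical
import Cfsg.Prelude.Def_GeometricClasses
import Cfsg.Agent.Helper16.S5955Defs

/-!
# S5973 + S5987 (PΩ⁺ / PΩ⁻ on totally singular `m`-spaces; driver helper5): shared definitions

Abstract quadratic spaces `(V, Q)` over a field, in every characteristic:

* `IsTS Q W` : `Q` vanishes on the subspace `W` (totally singular);
* `IsHyp Q` : some totally singular subspace has half the dimension (plus type / hyperbolic);
* `resQ Q W` : the restriction of `Q` to a subspace;
* `ND Q` : the polar form is nondegenerate;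
* `POrth Q A B` : `A` and `B` are orthogonal for the polar form;
* `IsYO Q y r` : `Q` nondegenerate, `y` an isometry with `y ^ r = 1`;
* `nsing hyp q e` : the number of nonzero singular vectors of a nondegenerate space of dimension `2 e` of plus
  (`hyp = true`) or minus type over the field with `q` elements;
* `augQ F r` : the quadratic form `∑ a, u a * u (a + 1)` on the augmentation space `Aug F r` of `ZMod r → F`
  (invariant under the shift `augS F r`).
-/

set_option autoImplicit false

namespace Cfsg.Agent.S5973P

open Cfsg.Agent.S5955P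

section Abstract

variable {F V : Type*} [Field F] [AddCommGroup V] [Module F V]

/-- `Q` vanishes on `W` -/
def IsTS (Q : QuadraticForm F V) (W : Submodule F V) : Prop := ∀ w ∈ W, Q w = 0

/-- plus type: a totally singular subspace of half the dimension -/
def IsHyp (Q : QuadraticForm F V) : Prop :=
  ∃ W : Submodule F V, IsTS Q W ∧ 2 * Module.finrank F W = Module.finrank F V

/-- the restriction of `Q` to a subspace -/
def resQ (Q : QuadraticForm F V) (W : Submodule F V) : QuadraticForm F W := Q.comp W.subtype

theorem resQ_apply (Q : QuadraticForm F V) (W : Submodule F V) (w : W) : resQ Q W w = Q (w : V) := rfl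

/-- the polar form is nondegenerate -/
def ND (Q : QuadraticForm F V) : Prop := (QuadraticMap.polarBilin Q).Nondegenerate

/-- orthogonality for the polar form -/
def POrth (Q : QuadraticForm F V) (A B : Submodule F V) : Prop :=
  ∀ a ∈ A, ∀ b ∈ B, QuadraticMap.polar Q a b = 0

/-- a nondegenerate quadratic space with an isometry `y`, `y ^ r = 1` -/
structure IsYO (Q : QuadraticForm F V) (y : Module.End F V) (r : ℕ) : Prop where
  nondeg : ND Q
  isom : ∀ v, Q (y v) = Q v
  pow : y ^ r = 1

end Abstract

/-- the number of nonzero singular vectors of a nondegenerate quadratic space of dimension `2 e` -/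
def nsing (hyp : Bool) (q e : ℕ) : ℕ :=
  if hyp then (q ^ e - 1) * (q ^ (e - 1) + 1) else (q ^ e + 1) * (q ^ (e - 1) - 1)

section AugQ

variable (F : Type*) [Field F] (r : ℕ) [NeZero r]

/-- the quadratic form `∑ a, u a * u (a + 1)` on `ZMod r → F` -/
def shiftQ : QuadraticForm F (ZMod r → F) :=
  QuadraticMap.ofPolar (fun u => ∑ a : ZMod r, u a * u (a + 1))
    (fun c u => by
      simp only [Pi.smul_apply, smul_eq_mul]
      rw [Finset.mul_sum]
      exact Finset.sum_congr rfl fun a _ => by ring)
    (fun u u' v => by
      simp only [QuadraticMap.polar, Pi.add_apply]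
      simp only [← Finset.sum_add_distrib, ← Finset.sum_sub_distrib]
      exact Finset.sum_congr rfl fun a _ => by ring)
    (fun c u v => by
      simp only [QuadraticMap.polar, Pi.add_apply, Pi.smul_apply, smul_eq_mul]
      simp only [← Finset.sum_sub_distrib, Finset.mul_sum]
      exact Finset.sum_congr rfl fun a _ => by ring)

theorem shiftQ_apply (u : ZMod r → F) : shiftQ F r u = ∑ a : ZMod r, u a * u (a + 1) := rfl

/-- the quadratic form on the augmentation space -/
def augQ : QuadraticForm F (Aug F r) := (shiftQ F r).comp (Aug F r).subtype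

theorem augQ_apply (u : Aug F r) :
    augQ F r u = ∑ a : ZMod r, (u : ZMod r → F) a * (u : ZMod r → F) (a + 1) := rfl

end AugQ

section Tw

variable {F V : Type*} [Field F] [AddCommGroup V] [Module F V]

/-- the quadratic form `v ↦ B (y v) v`; for `B` alternating and `y` an isometry of `B` its polar form is
`(u, v) ↦ B (y u) v - B u (y v)` and it is `y`-invariant -/
def twQ (B : LinearMap.BilinForm F V) (y : Module.End F V) : QuadraticForm F V :=
  LinearMap.BilinMap.toQuadraticMap (B ∘ₗ y : LinearMap.BilinForm F V)

theorem twQ_apply (B : LinearMap.BilinForm F V) (y : Module.End F V) (v : V) :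
    twQ B y v = B (y v) v := rfl

end Tw

/-- the Witt type of the fixed space of an element of odd prime order `r` of `O^±_{2d}(q)` with `b` blocks
(`hyp` : the type of the whole space; `i` the order of `q` modulo `r`) -/
def typeC (hyp : Bool) (i b : ℕ) : Prop := if Even i then (hyp = true ↔ Even b) else hyp = true

/-- the combinatorial criterion: for every admissible shape `(b, κ)` (`b` blocks of dimension `c = i` or `2 i`,
fixed space of dimension `κ` and type `typeC hyp i b`) there are `a' ≤ Witt index of the fixed space` and an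
admissible `s` with `a' + i s = m` -/
def Crit (hyp : Bool) (i t d m : ℕ) : Prop :=
  ∀ b κ : ℕ, κ + (if Even i then i else 2 * i) * b = 2 * d → (κ = 0 → typeC hyp i b) →
    ∃ a' s : ℕ, a' + i * s = m ∧ (2 * a' + 2 ≤ κ ∨ (typeC hyp i b ∧ 2 * a' ≤ κ)) ∧
      (Odd i → s ≤ b) ∧ (Even i → s = 0 ∨ t + 2 * s ≤ b + 1)

/-- the frozen arithmetic condition of S5973 (`hyp = true`) and S5987 (`hyp = false`) for odd `r ≠ p` -/
def Frz (hyp : Bool) (i c t d m : ℕ) : Prop :=
  (Odd i ∧ i ≤ m ∧
    (if hyp = true then 2 * (m % i) ≤ (2 * d) % c else ((2 * d) % c = 0 ∨ 2 * (m % i) < (2 * d) % c))) ∨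
  (Even i ∧ i ≤ m ∧ t + 2 * (m / i) ≤ (2 * d) / i ∧
    ((2 * (m % i) ≤ i ∧ (2 * d) % c = 0 ∧ ¬ (hyp = true ↔ Even ((2 * d) / i)) ∧ t + 2 * (m / i) < (2 * d) / i) ∨
     (2 * (m % i) ≤ (2 * d) % c ∧ (hyp = true ↔ Even ((2 * d) / i))) ∨
     (2 * (m % i) < (2 * d) % c ∧ ¬ (hyp = true ↔ Even ((2 * d) / i)))))

/-- the number-theoretic information `r ∣ nsing hyp q e` in terms of `i`, the order of `q` modulo `r` -/
def NTc (hyp : Bool) (i e : ℕ) : Prop :=
  if hyp = true then (i ∣ e ∨ (i ∣ 2 * (e - 1) ∧ ¬ i ∣ (e - 1))) else ((i ∣ 2 * e ∧ ¬ i ∣ e) ∨ i ∣ (e - 1))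

end Cfsg.Agent.S5973P
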