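import Mathlib
import Cfsg.Prelude.Def_KGroupFacts
import Cfsg.Agent.Helper2.PSLM.Defs

/-!
# S2086 piece CUBES: in a finite field with `q ≠ 4` every element is a sum of cubes of units.
-/

set_option autoImplicit false

namespace Cfsg.Agent.S2086P

open scoped commutatorElement

variable {K : Type*} [Field K]

namespace CUBES

/-- the multiplicative monoid of cubes of units -/
def cubeMonoid (K : Type*) [Field K] : Submonoid K :=
  MonoidHom.mrange ((Units.coeHom K).comp (powMonoidHom 3 : Kˣ →* Kˣ))

theorem mem_cubeMonoid {x : K} : x ∈ cubeMonoid K ↔ ∃ z : Kˣ, ((z : K)) ^ 3 = x := by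
  unfold cubeMonoid
  rw [MonoidHom.mem_mrange]
  constructor
  · rintro ⟨z, rfl⟩
    exact ⟨z, by simp⟩
  · rintro ⟨z, rfl⟩
    exact ⟨z, by simp⟩

/-- the semiring of sums of cubes of units -/
def cubeRing (K : Type*) [Field K] : Subsemiring K := (cubeMonoid K).subsemiringClosure

theorem prop_of_mem_closure (P : K → Prop) (h0 : P 0)
    (hadd : ∀ x y, P x → P y → P (x + y)) (hcube : ∀ z : Kˣ, P ((z : K) ^ 3)) :
    ∀ x : K, x ∈ AddSubmonoid.closure ((cubeMonoid K : Submonoid K) : Set K) → P x := by
  intro x hx'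
  induction hx' using AddSubmonoid.closure_induction with
  | mem y hy =>
    obtain ⟨z, rfl⟩ := mem_cubeMonoid.mp hy
    exact hcube z
  | zero => exact h0
  | add y y' _ _ hy hy' => exact hadd y y' hy hy'

theorem prop_of_mem_cubeRing (P : K → Prop) (h0 : P 0)
    (hadd : ∀ x y, P x → P y → P (x + y)) (hcube : ∀ z : Kˣ, P ((z : K) ^ 3)) {x : K}
    (hx : x ∈ cubeRing K) : P x := by
  apply prop_of_mem_closure P h0 hadd hcube
  rw [← Submonoid.subsemiringClosure_toAddSubmonoid]
  exact hx

theorem cube_mem_cubeRing (z : Kˣ) : ((z : K)) ^ 3 ∈ cubeRing K := by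
  have h : ((z : K)) ^ 3 ∈ AddSubmonoid.closure ((cubeMonoid K : Submonoid K) : Set K) :=
    AddSubmonoid.subset_closure (mem_cubeMonoid.mpr ⟨z, rfl⟩)
  rw [← Submonoid.subsemiringClosure_toAddSubmonoid] at h
  exact h

theorem neg_mem_cubeRing {x : K} (hx : x ∈ cubeRing K) : -x ∈ cubeRing K := by
  have h1 : (-1 : K) ∈ cubeRing K := by
    have h := cube_mem_cubeRing (K := K) (-1)
    rw [Units.val_neg, Units.val_one, show ((-1 : K)) ^ 3 = -1 from by norm_num] at h
    exact h
  have := (cubeRing K).mul_mem h1 hx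
  simpa using this

theorem sub_mem_cubeRing {x y : K} (hx : x ∈ cubeRing K) (hy : y ∈ cubeRing K) :
    x - y ∈ cubeRing K := by
  rw [sub_eq_add_neg]
  exact (cubeRing K).add_mem hx (neg_mem_cubeRing hy)

theorem inv_mem_cubeRing [Fintype K] {x : K} (hx : x ∈ cubeRing K) : x⁻¹ ∈ cubeRing K := by
  rcases eq_or_ne x 0 with rfl | h0
  · simp
  have hq : 2 ≤ Fintype.card K := Fintype.one_lt_card
  have h1 : x ^ (Fintype.card K - 1) = 1 := FiniteField.pow_card_sub_one_eq_one x h0
  have h2 : x * x ^ (Fintype.card K - 2) = 1 := by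
    rw [← pow_succ', show Fintype.card K - 2 + 1 = Fintype.card K - 1 from by omega]
    exact h1
  have h3 : x⁻¹ = x ^ (Fintype.card K - 2) := inv_eq_of_mul_eq_one_right h2
  rw [h3]
  exact (cubeRing K).pow_mem hx _

end CUBES

open CUBES in
theorem cube_induction [Fintype K] (h4 : Fintype.card K ≠ 4) (P : K → Prop) (h0 : P 0)
    (hadd : ∀ x y, P x → P y → P (x + y)) (hcube : ∀ z : Kˣ, P ((z : K) ^ 3)) :
    ∀ x, P x := by
  classical
  suffices hall : ∀ x : K, x ∈ cubeRing K from
    fun x => prop_of_mem_cubeRing P h0 hadd hcube (hall x)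
  by_contra hne
  push Not at hne
  obtain ⟨x, hx⟩ := hne
  set As : Finset K := Finset.univ.filter (fun y => y ∈ cubeRing K) with hAs
  have hmemAs : ∀ y, y ∈ As ↔ y ∈ cubeRing K := fun y => by simp [hAs]
  -- (1) |A|^2 ≤ q
  have hsq : As.card * As.card ≤ Fintype.card K := by
    rw [← Finset.card_product, ← Finset.card_univ]
    apply Finset.card_le_card_of_injOn (fun p : K × K => p.1 + x * p.2)
    · intro p _; exact Finset.mem_univ _
    · intro p hp p' hp' hpp
      have hp1 := (hmemAs _).mp (Finset.mem_product.mp hp).1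
      have hp2 := (hmemAs _).mp (Finset.mem_product.mp hp).2
      have hp1' := (hmemAs _).mp (Finset.mem_product.mp hp').1
      have hp2' := (hmemAs _).mp (Finset.mem_product.mp hp').2
      simp only at hpp
      by_cases hb : p.2 = p'.2
      · have : p.1 = p'.1 := by rw [hb] at hpp; exact add_right_cancel hpp
        exact Prod.ext this hb
      · exfalso
        apply hx
        have hne : p'.2 - p.2 ≠ 0 := sub_ne_zero.mpr (Ne.symm hb)
        have hxe : x = (p.1 - p'.1) * (p'.2 - p.2)⁻¹ := by
          rw [eq_mul_inv_iff_mul_eq₀ hne]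
          linear_combination -hpp
        rw [hxe]
        exact (cubeRing K).mul_mem (sub_mem_cubeRing hp1 hp1')
          (inv_mem_cubeRing (sub_mem_cubeRing hp2' hp2))
  -- (2) q - 1 ≤ 3 (|A| - 1)
  have h0A : (0 : K) ∈ As := (hmemAs 0).mpr (cubeRing K).zero_mem
  have h1A : (1 : K) ∈ As := (hmemAs 1).mpr (cubeRing K).one_mem
  have hcubes : Fintype.card K - 1 ≤ 3 * (As.card - 1) := by
    have hfib : (Finset.univ : Finset Kˣ).card ≤
        3 * ((Finset.univ : Finset Kˣ).image (fun z : Kˣ => z ^ 3)).card := by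
      apply Finset.card_le_mul_card_image
      intro c hc
      obtain ⟨z₀, -, rfl⟩ := Finset.mem_image.mp hc
      have hle : ((Finset.univ : Finset Kˣ).filter (fun z : Kˣ => z ^ 3 = z₀ ^ 3)).card ≤
          ((Finset.univ : Finset Kˣ).filter (fun z : Kˣ => z ^ 3 = 1)).card := by
        apply Finset.card_le_card_of_injOn (fun z => z * z₀⁻¹)
        · intro z hz
          have hz' := (Finset.mem_filter.mp hz).2
          refine Finset.mem_filter.mpr ⟨Finset.mem_univ _, ?_⟩
          rw [mul_pow, hz', inv_pow, mul_inv_cancel]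
        · intro z _ z' _ hzz
          exact mul_right_cancel hzz
      exact hle.trans (IsCyclic.card_pow_eq_one_le (by norm_num))
    have himg : ((Finset.univ : Finset Kˣ).image (fun z : Kˣ => z ^ 3)).card ≤ (As.erase 0).card := by
      apply Finset.card_le_card_of_injOn (fun y : Kˣ => (y : K))
      · intro y hy
        obtain ⟨z, -, rfl⟩ := Finset.mem_image.mp hy
        refine Finset.mem_erase.mpr ⟨Units.ne_zero _, (hmemAs _).mpr ?_⟩
        have := cube_mem_cubeRing z
        simpa using this
      · intro y _ y' _ hyy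
        exact Units.ext hyy
    rw [Finset.card_erase_of_mem h0A] at himg
    rw [Finset.card_univ, Fintype.card_units] at hfib
    calc Fintype.card K - 1 ≤ 3 * _ := hfib
      _ ≤ 3 * (As.card - 1) := Nat.mul_le_mul_left 3 himg
  -- (3) |A| ≥ 2
  have h2A : 2 ≤ As.card := by
    have : ({0, 1} : Finset K) ⊆ As := by
      intro y hy
      rcases Finset.mem_insert.mp hy with rfl | hy
      · exact h0A
      · rw [Finset.mem_singleton.mp hy]; exact h1A
    calc 2 = ({0, 1} : Finset K).card := (Finset.card_pair zero_ne_one).symm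
      _ ≤ As.card := Finset.card_le_card this
  -- arithmetic
  have hq : 2 ≤ Fintype.card K := Fintype.one_lt_card
  set r := As.card with hr
  set q := Fintype.card K with hqdef
  have hr2 : r = 2 := by
    by_contra hne2
    have h3 : 3 ≤ r := by omega
    have : 3 * r ≤ r * r := Nat.mul_le_mul_right r h3
    omega
  rw [hr2] at hsq hcubes
  omega

end Cfsg.Agent.S2086P
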