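import Mathlib
import Cfsg.Prelude.Def_KGroupFacts
import Cfsg.Agent.Helper2.PSLM.Defs

/-!
# S2086 piece NUMB: existence of units with nontrivial powers in finite fields.
-/

set_option autoImplicit false

namespace Cfsg.Agent.S2086P

variable {K : Type*} [Field K]

theorem exists_unit_ne_one [Fintype K] (h2 : Fintype.card K ≠ 2) : ∃ c : Kˣ, c ≠ 1 := by
  classical
  have hq : 2 ≤ Fintype.card K := Fintype.one_lt_card
  have h1 : 1 < Fintype.card Kˣ := by
    rw [Fintype.card_units]; omega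
  exact Fintype.exists_ne_of_one_lt_card h1 1

theorem exists_cube_ne_one [Fintype K] (h2 : Fintype.card K ≠ 2) (h4 : Fintype.card K ≠ 4) :
    ∃ b : Kˣ, b ^ 3 ≠ 1 := by
  classical
  by_contra hne
  push Not at hne
  have hq : 2 ≤ Fintype.card K := Fintype.one_lt_card
  have h1 : Monoid.exponent Kˣ ∣ 3 := Monoid.exponent_dvd_of_forall_pow_eq_one hne
  rw [IsCyclic.exponent_eq_card, Nat.card_eq_fintype_card, Fintype.card_units] at h1
  have h3 : Fintype.card K - 1 ≤ 3 := Nat.le_of_dvd (by norm_num) h1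
  have : Fintype.card K - 1 = 1 ∨ Fintype.card K - 1 = 3 := by
    have := (Nat.dvd_prime Nat.prime_three).mp h1
    exact this
  omega

theorem exists_sq_ne_one_of_two_eq_zero [Fintype K] (h : (2 : K) = 0)
    (h2 : Fintype.card K ≠ 2) : ∃ a : Kˣ, a ^ 2 ≠ 1 := by
  obtain ⟨c, hc⟩ := exists_unit_ne_one h2
  refine ⟨c, fun hc2 => hc ?_⟩
  have h1 : ((c : K)) ^ 2 = 1 := by
    have := congrArg (fun u : Kˣ => (u : K)) hc2
    simpa using this
  have h3 : ((c : K) - 1) ^ 2 = 0 := by
    have : ((c : K) - 1) ^ 2 = (c : K) ^ 2 - 2 * (c : K) + 1 := by ring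
    rw [this, h1, h, zero_mul, sub_zero]
    have : (1 : K) + 1 = 2 := by norm_num
    rw [this, h]
  have h4 : (c : K) - 1 = 0 := by
    exact pow_eq_zero_iff (two_ne_zero) |>.mp h3
  apply Units.ext
  rw [Units.val_one]
  exact sub_eq_zero.mp h4

end Cfsg.Agent.S2086P
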