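import Mathlib
import Cfsg.Agent.Helper2.S2096.Defs
import Cfsg.Agent.Helper2.StnD
import Cfsg.Agent.Helper6.S3352HALFHOM

set_option autoImplicit false
set_option linter.unusedSectionVars false
set_option linter.unusedVariables false

/-! S2096/S2097 part B, piece TXID (helper5; driver helper2): rank one identities of the torus and
Weyl elements, transferred from the Steinberg group of type `A_{n-1}` through a half. -/

namespace Cfsg.Agent.S2096P

open Matrix Cfsg.Agent.S3352P Cfsg.Agent.S3351P Cfsg.Agent.S2086P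

variable {n : ℕ} {F : Type*} [Field F] [Fintype F] {M : Type*} [Group M] {X : J n → J n → F → M}

namespace TXID

open Cfsg.Agent.Helper2

/-- the half cut out by a predicate on the signed indices contains the indices satisfying it -/
theorem half_filter (P : J n → Prop) [DecidablePred P] {a : J n} (ha : P a) (hna : ¬ P (ng a)) :
    half (Finset.univ.filter (fun k : Fin n => P (Sum.inr k))) (ab a) = a := by
  unfold half
  cases a with
  | inl i =>
    rw [if_neg]
    · rfl
    · simp only [Finset.mem_filter, Finset.mem_univ, true_and]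
      exact hna
  | inr i =>
    rw [if_pos]
    · rfl
    · simp only [Finset.mem_filter, Finset.mem_univ, true_and]
      exact ha

/-- the homomorphism from the Steinberg group of type `A` adapted to a root -/
theorem exists_hom_pair (hX : DRel X) {a b : J n} (hab : IsRoot a b) :
    ∃ Θ : Stn.G F n →* M, (∀ t : F, Θ (Stn.xg (ab a) (ab b) t) = X a b t) ∧
      (∀ t : F, Θ (Stn.xg (ab b) (ab a) t) = X b a t) := by
  classical
  obtain ⟨Θ, hΘ⟩ := exists_half_hom hX
    (Finset.univ.filter (fun k : Fin n => (fun c : J n => c = a ∨ c = b) (Sum.inr k)))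
  have hij : ab a ≠ ab b := isRoot_iff_ab.1 hab
  have h1 : half (Finset.univ.filter (fun k : Fin n => (fun c : J n => c = a ∨ c = b) (Sum.inr k)))
      (ab a) = a := by
    apply half_filter (fun c : J n => c = a ∨ c = b) (Or.inl rfl)
    rintro (h | h)
    · exact ng_ne a h
    · exact hab.2 (by rw [← h, ng_ng])
  have h2 : half (Finset.univ.filter (fun k : Fin n => (fun c : J n => c = a ∨ c = b) (Sum.inr k)))
      (ab b) = b := by
    apply half_filter (fun c : J n => c = a ∨ c = b) (Or.inr rfl)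
    rintro (h | h)
    · exact hab.2 h.symm
    · exact ng_ne b h
  refine ⟨Θ, fun t => ?_, fun t => ?_⟩
  · rw [hΘ _ _ t hij, h1, h2]
  · rw [hΘ _ _ t hij.symm, h1, h2]

theorem map_wg {Θ : Stn.G F n →* M} {a b : J n} {i j : Fin n}
    (h1 : ∀ t : F, Θ (Stn.xg i j t) = X a b t) (h2 : ∀ t : F, Θ (Stn.xg j i t) = X b a t) (t : F) :
    Θ (Stn.wg i j t) = wX X a b t := by
  rw [Stn.wg_def, map_mul, map_mul, h1, h2]
  rfl

theorem map_hg {Θ : Stn.G F n →* M} {a b : J n} {i j : Fin n}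
    (h1 : ∀ t : F, Θ (Stn.xg i j t) = X a b t) (h2 : ∀ t : F, Θ (Stn.xg j i t) = X b a t) (t : F) :
    Θ (Stn.hg i j t) = tX X a b t := by
  rw [Stn.hg_def, map_mul, map_wg h1 h2, map_wg h1 h2]
  rfl

/-- the Weyl element of the opposite root, in the Steinberg group of type `A` -/
theorem wg_swap (h3 : 3 ≤ n) {i j : Fin n} (hij : i ≠ j) {t : F} (ht : t ≠ 0) :
    Stn.wg j i t = Stn.wg i j (-t⁻¹) := by
  have hx : ∀ u : F, Stn.psi h3 hij (St2.X true u) = Stn.xg i j u := fun u => Stn.psi_xx h3 hij u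
  have hy : ∀ u : F, Stn.psi h3 hij (St2.X false u) = Stn.xg j i u := fun u => Stn.psi_yy h3 hij u
  have h := congrArg (Stn.psi h3 hij) (St2.W_swap false ht)
  rw [St2.W_def, St2.W_def] at h
  simp only [Bool.not_false, Bool.not_true, map_mul, hx, hy] at h
  rw [Stn.wg_def, Stn.wg_def]
  exact h

/-- the key rank one identity -/
theorem wg_neg_mul_wg_one (h3 : 3 ≤ n) {i j : Fin n} (hij : i ≠ j) {s : F} (hs : s ≠ 0) :
    Stn.wg i j (-s) * Stn.wg i j 1 = Stn.hg i j s := by
  have h2 : St2.ww (-s) * St2.ww (1 : F) = St2.hh s := by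
    rw [St2.ww_eq (-s), mul_assoc, St2.ww_one_sq,
      St2.hh_mul (neg_ne_zero.mpr hs) (neg_ne_zero.mpr one_ne_zero)]
    congr 1
    ring
  have h := congrArg (Stn.psi h3 hij) h2
  simpa only [map_mul, Stn.psi_ww, Stn.psi_hh] using h

/-- WXID's `wX_flip` (private copy) -/
theorem wX_flip' (hX : DRel X) {a b : J n} (hab : IsRoot a b) (t : F) :
    wX X (ng b) (ng a) t = wX X a b (-t) := by
  unfold wX
  have h1 := hX.flip a b hab t
  have h2 := hX.flip b a hab.symm (-t⁻¹)
  rw [h1, h2]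
  congr 3
  rw [inv_neg]

end TXID

open TXID Cfsg.Agent.Helper2 in
/-- TXID -/
theorem tX_mul (hn : 3 ≤ n) (hX : DRel X) {a b : J n} (hab : IsRoot a b) {s t : F} (hs : s ≠ 0)
    (ht : t ≠ 0) : tX X a b (s * t) = tX X a b s * tX X a b t := by
  obtain ⟨Θ, h1, h2⟩ := exists_hom_pair hX hab
  have hij : ab a ≠ ab b := isRoot_iff_ab.1 hab
  rw [← map_hg h1 h2, ← map_hg h1 h2, ← map_hg h1 h2, ← map_mul, Stn.hg_mul hn hij hs ht]

open TXID Cfsg.Agent.Helper2 in
theorem wX_swap (hn : 3 ≤ n) (hX : DRel X) {a b : J n} (hab : IsRoot a b) {t : F} (ht : t ≠ 0) :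
    wX X b a t = wX X a b (-t⁻¹) := by
  obtain ⟨Θ, h1, h2⟩ := exists_hom_pair hX hab
  have hij : ab a ≠ ab b := isRoot_iff_ab.1 hab
  rw [← map_wg h1 h2, ← map_wg h2 h1, wg_swap hn hij ht]

open TXID Cfsg.Agent.Helper2 in
theorem tX_swap (hn : 3 ≤ n) (hX : DRel X) {a b : J n} (hab : IsRoot a b) {t : F} (ht : t ≠ 0) :
    tX X b a t = tX X a b t⁻¹ := by
  obtain ⟨Θ, h1, h2⟩ := exists_hom_pair hX hab
  have hij : ab a ≠ ab b := isRoot_iff_ab.1 hab
  have e1 : wX X b a t = wX X a b (-t⁻¹) := wX_swap hn hX hab ht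
  have e2 : wX X b a (-1) = wX X a b 1 := by
    rw [wX_swap hn hX hab (neg_ne_zero.mpr one_ne_zero)]
    congr 1
    rw [inv_neg, inv_one, neg_neg]
  have e3 : tX X b a t = wX X b a t * wX X b a (-1) := rfl
  rw [e3, e1, e2, ← map_wg h1 h2, ← map_wg h1 h2, ← map_mul,
    wg_neg_mul_wg_one hn hij (inv_ne_zero ht), map_hg h1 h2]

open TXID Cfsg.Agent.Helper2 in
theorem tX_flip (hn : 3 ≤ n) (hX : DRel X) {a b : J n} (hab : IsRoot a b) {t : F} (ht : t ≠ 0) :
    tX X (ng b) (ng a) t = tX X a b t := by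
  obtain ⟨Θ, h1, h2⟩ := exists_hom_pair hX hab
  have hij : ab a ≠ ab b := isRoot_iff_ab.1 hab
  have e3 : tX X (ng b) (ng a) t = wX X (ng b) (ng a) t * wX X (ng b) (ng a) (-1) := rfl
  rw [e3, wX_flip' hX hab, wX_flip' hX hab, neg_neg, ← map_wg h1 h2, ← map_wg h1 h2, ← map_mul,
    wg_neg_mul_wg_one hn hij ht, map_hg h1 h2]

end Cfsg.Agent.S2096P
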