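import Mathlib
import Cfsg.Agent.Helper13.S2276Defs

set_option autoImplicit false
set_option linter.unusedSectionVars false
set_option linter.unusedVariables false

/-! # S2276 piece PRIM: `c = finRotate r` and a 3-cycle `t` with `t x = c ^ d x`, `gcd(d, r) = 1`, generate
(at least) the alternating group -/

namespace Cfsg.Agent.S2276P

open Equiv Equiv.Perm

namespace PRIM

open MulAction
open scoped Pointwise

theorem pow_smul_eq {α : Type*} {G : Type*} [Group G] [MulAction G α] (γ : G) (B : Set α)
    (h : γ • B = B) (i : ℕ) : (γ ^ i) • B = B := by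
  induction i with
  | zero => simp
  | succ k ih => rw [pow_succ, mul_smul, h, ih]

/-- the powers of the rotation are transitive -/
theorem exists_pow {r : ℕ} (h2 : 2 ≤ r) (a b : Fin r) : ∃ i : ℕ, (finRotate r ^ i) a = b := by
  have hc : (finRotate r).IsCycle := isCycle_finRotate_of_le h2
  have hs : (finRotate r).support = Finset.univ := support_finRotate_of_le h2
  have ha : (finRotate r) a ≠ a := mem_support.mp (by rw [hs]; exact Finset.mem_univ a)
  have hb : (finRotate r) b ≠ b := mem_support.mp (by rw [hs]; exact Finset.mem_univ b)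
  exact (hc.sameCycle ha hb).exists_nat_pow_eq

theorem orderOf_rot {r : ℕ} (h2 : 2 ≤ r) : orderOf (finRotate r) = r := by
  rw [(isCycle_finRotate_of_le h2).orderOf, support_finRotate_of_le h2, Finset.card_univ,
    Fintype.card_fin]

end PRIM

open MulAction in
open scoped Pointwise in
theorem PRIM.main {r : ℕ} (hr : Odd r) (K : Subgroup (Perm (Fin r))) (hc : finRotate r ∈ K)
    {t : Perm (Fin r)} (ht : t ∈ K) (h3 : t.IsThreeCycle) {x : Fin r} {d : ℕ}
    (hd : Nat.Coprime d r) (htx : t x = (finRotate r ^ d) x) : alternatingGroup (Fin r) ≤ K := by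
  classical
  -- `r ≥ 3`
  have hr3 : 3 ≤ r := by
    have h1 := h3.card_support
    have h2 : t.support.card ≤ Fintype.card (Fin r) := Finset.card_le_univ _
    rw [Fintype.card_fin] at h2
    omega
  have h2 : 2 ≤ r := by omega
  have hord : orderOf (finRotate r) = r := PRIM.orderOf_rot h2
  -- the two elements of `K`
  obtain ⟨γ, hγ⟩ : ∃ γ : K, γ = ⟨finRotate r, hc⟩ := ⟨_, rfl⟩
  obtain ⟨τ, hτ⟩ : ∃ τ : K, τ = ⟨t, ht⟩ := ⟨_, rfl⟩
  have hγa : ∀ (i : ℕ) (y : Fin r), (γ ^ i) • y = (finRotate r ^ i) y := by
    intro i y; rw [hγ]; rfl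
  have hτa : ∀ y : Fin r, τ • y = t y := by
    intro y; rw [hτ]; rfl
  have htrans : IsPretransitive K (Fin r) := by
    refine ⟨fun a b => ?_⟩
    obtain ⟨i, hi⟩ := PRIM.exists_pow h2 a b
    exact ⟨γ ^ i, by rw [hγa, hi]⟩
  -- blocks containing `x`
  have key : ∀ B : Set (Fin r), IsBlock K B → x ∈ B → IsTrivialBlock B := by
    intro B hB hxB
    by_cases htxB : t x ∈ B
    · -- `B` is everything
      right
      have h1 : (γ ^ d) • B = B := by
        apply hB.smul_eq_of_mem hxB
        rw [hγa, ← htx]; exact htxB
      have h2' : γ • B = B := by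
        rcases Nat.lt_or_ge 1 r with h1r | h1r
        · obtain ⟨m, -, hm⟩ := Nat.exists_mul_mod_eq_one_of_coprime hd h1r
          have hγord : orderOf γ = r := by
            rw [hγ]; exact (Subgroup.orderOf_mk _ hc).trans hord
          have h3' : (γ ^ d) ^ m = γ := by
            rw [← pow_mul, ← pow_mod_orderOf, hγord, hm, pow_one]
          rw [← h3']
          exact PRIM.pow_smul_eq (γ ^ d) B h1 m
        · omega
      apply Set.eq_univ_of_forall
      intro y
      obtain ⟨i, hi⟩ := PRIM.exists_pow h2 x y
      rw [← hi, ← hγa, ← PRIM.pow_smul_eq γ B h2' i]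
      exact Set.smul_mem_smul_set hxB
    · -- `B` is a point
      left
      have hne : τ • B ≠ B := by
        intro h
        apply htxB
        rw [← h, ← hτa]
        exact Set.smul_mem_smul_set hxB
      have hdisj : Disjoint (τ • B) B := hB.disjoint_smul_of_ne hne
      have hsub1 : B ⊆ (t.support : Set (Fin r)) := by
        intro b hb
        rw [Finset.mem_coe, mem_support]
        intro hfix
        have : b ∈ τ • B := by
          rw [← hfix, ← hτa]; exact Set.smul_mem_smul_set hb
        exact (Set.disjoint_left.mp hdisj) this hb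
      have hsub2 : τ • B ⊆ (t.support : Set (Fin r)) := by
        rintro _ ⟨b, hb, rfl⟩
        have := hsub1 hb
        rw [Finset.mem_coe] at this ⊢
        show τ • b ∈ t.support
        rw [hτa]
        exact apply_mem_support.mpr this
      have hunion : B ∪ τ • B ⊆ (t.support : Set (Fin r)) := Set.union_subset hsub1 hsub2
      have hcard : (B ∪ τ • B).ncard ≤ 3 := by
        have := Set.ncard_le_ncard hunion (Set.toFinite _)
        rwa [Set.ncard_coe_finset, h3.card_support] at this
      have hcard2 : (B ∪ τ • B).ncard = B.ncard + (τ • B).ncard :=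
        Set.ncard_union_eq hdisj.symm (Set.toFinite _) (Set.toFinite _)
      have hcard3 : (τ • B).ncard = B.ncard := Set.ncard_smul_set τ B
      have hle : B.ncard ≤ 1 := by omega
      exact Set.ncard_le_one_iff_subsingleton.mp hle
  have hprim : IsPreprimitive K (Fin r) := by
    refine { toIsPretransitive := htrans, isTrivialBlock_of_isBlock := fun {B} hB => ?_ }
    rcases Set.eq_empty_or_nonempty B with rfl | ⟨b, hb⟩
    · left; exact Set.subsingleton_empty
    obtain ⟨g, hg⟩ := exists_smul_eq K b x
    have hB' : IsBlock K (g • B) := hB.translate g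
    have := key (g • B) hB' (by rw [← hg]; exact Set.smul_mem_smul_set hb)
    exact (IsTrivialBlock.smul_iff g).mp this
  exact alternatingGroup_le_of_isPreprimitive_of_isThreeCycle_mem hprim h3 ht

end Cfsg.Agent.S2276P
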