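import Mathlib
import Cfsg.Prelude.Def_JComponents
import Cfsg.Agent.Helper15.JComp17

/-! # S2951 – S2954 (Kurzweil–Stellmacher 12.3.6 – 12.3.9): shared definitions

Blueprint: `departures/helper5_KS12_blueprint.md`.  Everything lives in the ambient finite group `G`.
`StraddleCtx M T` is helper15's context (`Cfsg.Agent.Helper15.JComp.straddleCtx_mk`). -/

set_option autoImplicit false

universe u

namespace Cfsg.Agent.S2951P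

open Cfsg Subgroup Cfsg.Agent.Helper15.JComp

variable {G : Type u} [Group G]

/-- `J(T)` (elementary abelian version, prime 2). -/
abbrev J (T : Subgroup G) : Subgroup G := thompsonSubgroupOf 2 T

/-- `Z₀ = Ω₁ Z(J(T))`. -/
abbrev Z0 (T : Subgroup G) : Subgroup G := omegaCenterOf (thompsonSubgroupOf 2 T)

/-- `Z₁(K) = C_{Z₀}(K)`. -/
def Z1 (T K : Subgroup G) : Subgroup G := Z0 T ⊓ centralizer (K : Set G)

/-- `g H g⁻¹`. -/
abbrev cj (g : G) (H : Subgroup G) : Subgroup G := H.map (MulAut.conj g).toMonoidHom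

/-- the global hypotheses of S2947 – S2954 -/
structure Glob (G : Type u) [Group G] : Prop where
  hL : IsCharacteristicTwoType G
  hN : ∀ N : Subgroup G, IsTwoLocal N → Group.IsSolvable ↥N
  hZ : ∀ S : Sylow 2 G, centralizer (omegaCenterOf (S : Subgroup G) : Set G) ≤
    normalizer ((S : Subgroup G) : Set G)
  hO : pCore 2 G = ⊥

/-- `L` is a maximal 2-local subgroup containing `K J(T)` (by `UNIQ_eq` there is only one when `K ≰ M`). -/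
def IsLK (T K L : Subgroup G) : Prop :=
  IsMaximalTwoLocal L ∧ K ⊔ thompsonSubgroupOf 2 T ≤ L

/-- the data of Lemma D: two `J(T)`-components outside `M`, normalized by `T`, with different maximal 2-local
overgroups `L₁ ≠ L₂`, both containing `T`. -/
structure PairData (M T K₁ K₂ L₁ L₂ : Subgroup G) : Prop where
  c : StraddleCtx M T
  sylow : ∃ S : Sylow 2 G, T ≤ (S : Subgroup G) ∧
    normalizer ((thompsonSubgroupOf 2 (S : Subgroup G) : Subgroup G) : Set G) ≤ M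
  comp₁ : IsJComponent T K₁
  out₁ : ¬ K₁ ≤ M
  lk₁ : IsLK T K₁ L₁
  le₁ : T ≤ L₁
  norm₁ : T ≤ normalizer (K₁ : Set G)
  comp₂ : IsJComponent T K₂
  out₂ : ¬ K₂ ≤ M
  lk₂ : IsLK T K₂ L₂
  le₂ : T ≤ L₂
  norm₂ : T ≤ normalizer (K₂ : Set G)
  ne : L₁ ≠ L₂

theorem PairData.symm {M T K₁ K₂ L₁ L₂ : Subgroup G} (d : PairData M T K₁ K₂ L₁ L₂) :
    PairData M T K₂ K₁ L₂ L₁ :=
  ⟨d.c, d.sylow, d.comp₂, d.out₂, d.lk₂, d.le₂, d.norm₂, d.comp₁, d.out₁, d.lk₁, d.le₁, d.norm₁, d.ne.symm⟩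

/-- the body of the conclusion of S2953 for a given pair -/
def Concl53 (T K₁ K₂ : Subgroup G) : Prop :=
  K₁ ≠ K₂ ∧ IsJComponent T K₁ ∧ IsJComponent T K₂ ∧
    pCoreOf 2 ((K₁ ⊔ T) ⊔ (K₂ ⊔ T)) = ⊥ ∧
    ∀ P ∈ [K₁ ⊔ T, K₂ ⊔ T],
      centralizer (pCoreOf 2 P : Set G) ≤ pCoreOf 2 P ∧ IsSylowTwoIn T P ∧
      (pCoreOf 2 P).relIndex P = 6 ∧ ¬ ⁅P, P⁆ ≤ pCoreOf 2 P ∧ ⁅omegaCenterOf T, P⁆ ≠ ⊥ ∧
      ∃ L : Subgroup G, IsMaximalTwoLocal L ∧ P ≤ L ∧ IsSylowTwoIn T L ∧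
        ∀ L' : Subgroup G, IsMaximalTwoLocal L' → P ≤ L' → L' = L

/-- the conclusion of S2954 -/
def Concl54 (T : Subgroup G) : Prop :=
  ∃ P₁ P₂ : Subgroup G, P₁ ≠ P₂ ∧ IsMaximalTwoLocal P₁ ∧ IsMaximalTwoLocal P₂ ∧
    IsSylowTwoIn T P₁ ∧ IsSylowTwoIn T P₂ ∧
    ((Nonempty (↥P₁ ≃* Equiv.Perm (Fin 4)) ∧ Nonempty (↥P₂ ≃* Equiv.Perm (Fin 4))) ∨
      (Nonempty (↥P₁ ≃* Equiv.Perm (Fin 4) × Multiplicative (ZMod 2)) ∧
        Nonempty (↥P₂ ≃* Equiv.Perm (Fin 4) × Multiplicative (ZMod 2))))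

/-- `X ≅ S₄` or `X ≅ S₄ × C₂` -/
def IsS4Type (X : Type*) [Group X] : Prop :=
  Nonempty (X ≃* Equiv.Perm (Fin 4)) ∨ Nonempty (X ≃* Equiv.Perm (Fin 4) × Multiplicative (ZMod 2))

/-- concrete facts about `X ≅ S₄` or `S₄ × C₂`, a Sylow 2-subgroup `T` of `X` and `U = O₂(X)`
(`24 = |S₄|`, `48 = |S₄ × C₂|`) -/
structure S4Facts (X : Type*) [Group X] (T : Subgroup X) : Prop where
  card : Nat.card X = 24 ∨ Nat.card X = 48
  card_T : Nat.card ↥T * 3 = Nat.card X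
  card_U : Nat.card ↥(pCore 2 X) * 6 = Nat.card X
  card_center : Nat.card ↥(T ⊓ centralizer (T : Set X)) * 12 = Nat.card X
  U_le : pCore 2 X ≤ T
  U_comm : ∀ a ∈ pCore 2 X, ∀ b ∈ pCore 2 X, a * b = b * a
  U_sq : ∀ a ∈ pCore 2 X, a * a = 1
  cent_U : centralizer ((pCore 2 X : Subgroup X) : Set X) ≤ pCore 2 X
  /-- `Z(T) ≤ U` -/
  center_le : ∀ z ∈ T, (∀ x ∈ T, x * z = z * x) → z ∈ pCore 2 X
  /-- (F2) `C_T(f) ≤ U` for `f ∈ U \ Z(T)` -/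
  F2 : ∀ f ∈ pCore 2 X, (∃ x ∈ T, x * f ≠ f * x) → ∀ y ∈ T, y * f = f * y → y ∈ pCore 2 X
  /-- (F3) two involutions of `T` outside `U` differ by an element of `Z(T)` -/
  F3 : ∀ x ∈ T, ∀ y ∈ T, x ∉ pCore 2 X → y ∉ pCore 2 X → x * x = 1 → y * y = 1 →
    ∀ t ∈ T, t * (x⁻¹ * y) = (x⁻¹ * y) * t
  /-- `Z(S₄ × C₂) ≠ 1` -/
  center_X : Nat.card X = 48 → ∃ c ∈ Subgroup.center X, c ≠ 1 ∧ c ∈ pCore 2 X
  /-- the subgroup generated by the elements of odd order is `≅ A₄` -/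
  card_odd : Nat.card ↥(closure {x : X | Odd (orderOf x)}) = 12
  card_W : Nat.card ↥(closure {x : X | Odd (orderOf x)} ⊓ pCore 2 X : Subgroup X) = 4
  cent_W : centralizer ((closure {x : X | Odd (orderOf x)} ⊓ pCore 2 X : Subgroup X) : Set X) = pCore 2 X

/-- The statement of S2858 (KS 10.3.11) for all groups in the universe `u`. -/
def Amalgam : Prop :=
  ∀ {H : Type u} [Group H] (P₁ P₂ : Subgroup H) [Finite ↥P₁] [Finite ↥P₂] (_hgen : P₁ ⊔ P₂ = ⊤)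
    (T : Subgroup H) (_hT : T = P₁ ⊓ P₂)
    (_h₁ : ∀ P ∈ ({P₁, P₂} : Set (Subgroup H)),
      P ⊓ Subgroup.centralizer (Cfsg.pCoreOf 2 P : Set H) ≤ Cfsg.pCoreOf 2 P)
    (_h₂ : ∀ P ∈ ({P₁, P₂} : Set (Subgroup H)), ∃ S : Sylow 2 ↥P, (S : Subgroup ↥P) = T.subgroupOf P)
    (_h₃ : ∀ N : Subgroup H, N.Normal → N ≤ T → N = ⊥)
    (_h₄ : ∀ P ∈ ({P₁, P₂} : Set (Subgroup H)), Nonempty (↥P ⧸ Cfsg.pCore 2 ↥P ≃* Equiv.Perm (Fin 3)))
    (_h₅ : ∀ P ∈ ({P₁, P₂} : Set (Subgroup H)),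
      ¬ P ≤ Subgroup.centralizer (Cfsg.omegaOne 2 (T ⊓ Subgroup.centralizer (T : Set H)) : Set H)),
    (Nonempty (↥P₁ ≃* Equiv.Perm (Fin 4)) ∧ Nonempty (↥P₂ ≃* Equiv.Perm (Fin 4))) ∨
      (Nonempty (↥P₁ ≃* Multiplicative (ZMod 2) × Equiv.Perm (Fin 4)) ∧
        Nonempty (↥P₂ ≃* Multiplicative (ZMod 2) × Equiv.Perm (Fin 4)))

end Cfsg.Agent.S2951P
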