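import Mathlib
import Cfsg.Agent.Helper27.S3001QDefs
import Cfsg.Agent.Helper27.S3001G1
import Cfsg.Agent.Helper3.S3001S1

/-! Board `s3001qpieces`, row S3b (helper5): `QVNE`, the image of `V` in `N_G(V₀)/V₀` is not trivial. -/

set_option autoImplicit false

namespace Cfsg.Agent.S3001P

open Cfsg.Agent.S2789P Cfsg.Agent.S2999P Cfsg.Agent.S3000P Cfsg.Agent.S3001P

universe u

variable {G : Type u} [Group G]

variable {p : ℕ} {V P : Subgroup G}

/-- if every `p'`-element of a finite group is trivial, the group is a `p`-group -/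
private theorem S3b_aux_isPGroup {H : Type*} [Group H] [Finite H] {p : ℕ} [hp : Fact p.Prime]
    (h : ∀ x : H, (orderOf x).Coprime p → x = 1) : IsPGroup p H := by
  intro x
  obtain ⟨a, m, hm, hxm⟩ := Nat.exists_eq_pow_mul_and_not_dvd (orderOf_pos x).ne' p hp.out.one_lt.ne'
  refine ⟨a, ?_⟩
  apply h
  have hdvd : p ^ a ∣ orderOf x := ⟨m, hxm⟩
  have hpa : p ^ a ≠ 0 := pow_ne_zero _ hp.out.pos.ne'
  rw [orderOf_pow_of_dvd hpa hdvd, hxm, Nat.mul_div_cancel_left m (Nat.pos_of_ne_zero hpa)]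
  exact ((Nat.Prime.coprime_iff_not_dvd hp.out).mpr hm).symm

theorem QVNE [Finite G] [Fact p.Prime] (H : Hyp1 p V P) : hat (V0 p V P) V ≠ ⊥ := by
  intro h
  have hVN : V ≤ NR (V0 p V P) := V_le_NR H.hV
  have hVle : V ≤ V0 p V P := by
    intro v hv
    have h1 : qpi (V0 p V P) ⟨v, hVN hv⟩ ∈ hat (V0 p V P) V := qpi_mem_hat ⟨v, hVN hv⟩ hv
    rw [h] at h1
    exact (qpi_eq_one_iff ⟨v, hVN hv⟩).mp (Subgroup.mem_bot.mp h1)
  have hVc : V ≤ Subgroup.centralizer ((OpP p P : Subgroup G) : Set G) := by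
    intro v hv
    have := hVle hv
    unfold V0 fixV at this
    exact (Subgroup.mem_inf.mp this).2
  have hOc : OpP p P ≤ Subgroup.centralizer (V : Set G) := by
    rw [Subgroup.le_centralizer_iff]; exact hVc
  have hObot : OpP p P = ⊥ := by
    rw [eq_bot_iff, ← H.hf]; exact le_inf (OpP_le p P) hOc
  have hpp : ∀ x : ↥P, (orderOf x).Coprime p → x = 1 := by
    intro x hc
    have hc' : (orderOf (x : G)).Coprime p := by rwa [Subgroup.orderOf_coe]
    have := mem_OpP_of_coprime x.2 hc'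
    rw [hObot] at this
    exact Subtype.ext (Subgroup.mem_bot.mp this)
  have hPp : IsPGroup p ↥P := S3b_aux_isPGroup hpp
  let S : Sylow p ↥P := default
  have hS : (⊤ : Subgroup ↥P) = (S : Subgroup ↥P) := S.is_maximal' (hPp.to_subgroup ⊤) le_top
  apply (H.hmin S).1
  rw [← hS]
  infer_instance

end Cfsg.Agent.S3001P
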