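import Mathlib
import Cfsg.Agent.Helper11.S3557CODE

set_option autoImplicit false

namespace Cfsg.Agent.S3557P

open MulAction

/-- ALPHA: case (α): all point stabilizers lie in `M`. -/
theorem ALPHA {P Ω : Type*} [Group P] [Finite P] [MulAction P Ω] (p : ℕ) [Fact p.Prime]
    (hP : IsPGroup p P) (horb : ∀ x : Ω, Nat.card (orbit P x) = p ^ 2)
    (M : Subgroup P) (hMi : M.index = p) (hstab : ∀ x : Ω, stabilizer P x ≤ M) :
    ∃ σ : Equiv.Perm Ω, (∀ a b : Ω, ∃ g : P, σ a = g • a ∧ σ b = g • b) ∧ (∀ x, σ x ≠ x) ∧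
      ∀ x, (σ ^ p) x = x := by
  have hp : p.Prime := Fact.out
  have hE : IsPGroup p M := hP.to_subgroup M
  have hidx : ∀ x : Ω, (stabilizer M x).index = p := by
    intro x
    have h1 : stabilizer M x = (stabilizer P x).subgroupOf M := by
      ext g
      simp only [mem_stabilizer_iff, Subgroup.mem_subgroupOf]
      rfl
    rw [h1]
    have h2 : (stabilizer P x).relIndex M * M.index = (stabilizer P x).index :=
      Subgroup.relIndex_mul_index (hstab x)
    have h3 : (stabilizer P x).index = p ^ 2 := by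
      rw [index_stabilizer, ← Nat.card_coe_set_eq, horb x]
    rw [h3, hMi] at h2
    have h4 : (stabilizer P x).relIndex M * p = p * p := by rw [h2, sq]
    exact Nat.eq_of_mul_eq_mul_right hp.pos h4
  obtain ⟨σ, hloc, hfpf, hσp⟩ := CODE (E := M) (Ω := Ω) p hE hidx
  refine ⟨σ, fun a b => ?_, hfpf, hσp⟩
  obtain ⟨g, hga, hgb⟩ := hloc a b
  exact ⟨(g : P), hga, hgb⟩

end Cfsg.Agent.S3557P
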