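import Mathlib
import Cfsg.Agent.Helper10.S4017Defs
import Cfsg.Agent.Helper13.S4017MINV

/-!
# S4017, piece DICH (driver helper10)

If `Q` does not centralize `U p t` for some `t ∈ Q - 1`, then `C_G(Q)` contains no nontrivial
`p`-element.
-/

set_option autoImplicit false

namespace Cfsg.Agent.S4017P

theorem DICH_aux_orderOf_conj {G : Type*} [Group G] (g x : G) :
    orderOf (g * x * g⁻¹) = orderOf x := by
  have := (MulAut.conj g).orderOf_eq x
  rwa [MulAut.conj_apply] at this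

/-- conjugation by an element commuting with `t` preserves `U p t` -/
theorem DICH_aux_uconj {G : Type*} [Group G] (p : ℕ) (g t x : G) (hgt : g * t = t * g)
    (hx : x ∈ U p t) : g * x * g⁻¹ ∈ U p t := by
  unfold U at hx ⊢
  induction hx using Subgroup.closure_induction with
  | mem x hx =>
    apply Subgroup.subset_closure
    refine ⟨?_, ?_⟩
    · have h1 : g⁻¹ * t = t * g⁻¹ := by
        calc g⁻¹ * t = g⁻¹ * (t * g) * g⁻¹ := by group
          _ = g⁻¹ * (g * t) * g⁻¹ := by rw [hgt]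
          _ = t * g⁻¹ := by group
      calc g * x * g⁻¹ * t = g * x * (g⁻¹ * t) := by group
        _ = g * x * (t * g⁻¹) := by rw [h1]
        _ = g * (x * t) * g⁻¹ := by group
        _ = g * (t * x) * g⁻¹ := by rw [hx.1]
        _ = (g * t) * x * g⁻¹ := by group
        _ = (t * g) * x * g⁻¹ := by rw [hgt]
        _ = t * (g * x * g⁻¹) := by group
    · obtain ⟨k, hk⟩ := hx.2
      exact ⟨k, by rw [DICH_aux_orderOf_conj, hk]⟩
  | one => simp
  | mul x y _ _ hx hy =>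
    have : g * (x * y) * g⁻¹ = (g * x * g⁻¹) * (g * y * g⁻¹) := by group
    rw [this]; exact mul_mem hx hy
  | inv x _ hx =>
    have : g * x⁻¹ * g⁻¹ = (g * x * g⁻¹)⁻¹ := by group
    rw [this]; exact inv_mem hx

/-- elements of a `p`-subgroup are `p`-elements -/
theorem DICH_aux_isPEl {G : Type*} [Group G] {p : ℕ} [Fact p.Prime] {P : Subgroup G}
    (hP : IsPGroup p P) {x : G} (hx : x ∈ P) : IsPEl p x := by
  obtain ⟨k, hk⟩ := (IsPGroup.iff_orderOf.mp hP) ⟨x, hx⟩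
  exact ⟨k, by rw [← hk, Subgroup.orderOf_mk]⟩

theorem DICH {G : Type*} [Group G] [Finite G] {p a : ℕ} {Q : Subgroup G} {z : G}
    (h : Cfg G p a Q z) (f : Facts G p a Q z) (hny : ∀ y : G, NYh p Q y → NYc p Q y) :
    ∀ t ∈ Q, t ≠ 1 → (∃ x ∈ U p t, ∃ v ∈ Q, x * v ≠ v * x) →
      (∃ c : G, c ≠ 1 ∧ IsPEl p c ∧ ∀ v ∈ Q, c * v = v * c) → False := by
  intro t htQ ht1 ⟨x, hxU, s, hsQ, hxs⟩ ⟨c, hc1, hcp, hcQ⟩
  have : Fact p.Prime := ⟨h.hp⟩
  have hpodd : Odd p := h.hp.odd_of_ne_two h.hp2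
  -- basic facts on Q
  have hQab : ∀ v ∈ Q, ∀ w ∈ Q, v * w = w * v := by
    intro v hv w hw
    have h1 := f.elem v hv
    have h2 := f.elem w hw
    have h3 := f.elem (v * w) (mul_mem hv hw)
    have hvi : v⁻¹ = v := inv_eq_of_mul_eq_one_left h1
    have hwi : w⁻¹ = w := inv_eq_of_mul_eq_one_left h2
    have : (v * w)⁻¹ = v * w := inv_eq_of_mul_eq_one_left h3
    rw [mul_inv_rev, hvi, hwi] at this
    exact this.symm
  have htt : t * t = 1 := f.elem t htQ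
  have ht2 : orderOf t = 2 := orderOf_eq_prime (by rw [pow_two]; exact htt) ht1
  have hUp : IsPGroup p (U p t) := f.utp t ht2
  have hUab : ∀ x ∈ U p t, ∀ y ∈ U p t, x * y = y * x := h.hab (U p t) hUp
  have hss : s * s = 1 := f.elem s hsQ
  have hsi : s⁻¹ = s := inv_eq_of_mul_eq_one_left hss
  have hUQ : ∀ v ∈ Q, ∀ w ∈ U p t, v * w * v⁻¹ ∈ U p t := fun v hv w hw =>
    DICH_aux_uconj p v t w (hQab v hv t htQ) hw
  -- the subgroup W of elements of U p t inverted by s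
  let W : Subgroup G :=
    { carrier := {w | w ∈ U p t ∧ s * w * s⁻¹ = w⁻¹}
      one_mem' := ⟨one_mem _, by simp⟩
      mul_mem' := by
        rintro w1 w2 ⟨h1, h1'⟩ ⟨h2, h2'⟩
        refine ⟨mul_mem h1 h2, ?_⟩
        have : s * (w1 * w2) * s⁻¹ = (s * w1 * s⁻¹) * (s * w2 * s⁻¹) := by group
        rw [this, h1', h2', mul_inv_rev]
        exact hUab _ (inv_mem h1) _ (inv_mem h2)
      inv_mem' := by
        rintro w ⟨h1, h1'⟩
        refine ⟨inv_mem h1, ?_⟩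
        have : s * w⁻¹ * s⁻¹ = (s * w * s⁻¹)⁻¹ := by group
        rw [this, h1'] }
  have hWmem : ∀ w, w ∈ W ↔ w ∈ U p t ∧ s * w * s⁻¹ = w⁻¹ := fun w => Iff.rfl
  have hWU : ∀ w ∈ W, w ∈ U p t := fun w hw => ((hWmem w).mp hw).1
  -- W ≠ ⊥
  have hWne : W ≠ ⊥ := by
    intro hbot
    have hw : x⁻¹ * (s * x * s⁻¹) ∈ W := by
      rw [hWmem]
      refine ⟨mul_mem (inv_mem hxU) (hUQ s hsQ x hxU), ?_⟩
      rw [hsi]
      calc s * (x⁻¹ * (s * x * s)) * s = s * x⁻¹ * s * x * (s * s) := by group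
        _ = s * x⁻¹ * s * x := by rw [hss, mul_one]
        _ = s⁻¹ * x⁻¹ * s⁻¹ * x := by rw [hsi]
        _ = (x⁻¹ * (s * x * s))⁻¹ := by group
    rw [hbot, Subgroup.mem_bot] at hw
    apply hxs
    have h1 : s * x * s⁻¹ = x := by
      have := congrArg (fun u => x * u) hw
      simpa [mul_assoc] using this
    calc x * s = (s * x * s⁻¹) * s := by rw [h1]
      _ = s * x := by group
  -- apply MINV
  have hWab : ∀ x ∈ W, ∀ y ∈ W, x * y = y * x := fun x hx y hy => hUab x (hWU x hx) y (hWU y hy)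
  have hWodd : ∀ x ∈ W, Odd (orderOf x) := by
    intro x hx
    obtain ⟨k, hk⟩ := DICH_aux_isPEl hUp (hWU x hx)
    rw [hk]; exact hpodd.pow
  have hWN : ∀ v ∈ Q, ∀ w ∈ W, v * w * v⁻¹ ∈ W := by
    intro v hv w hw
    obtain ⟨hw1, hw2⟩ := (hWmem w).mp hw
    rw [hWmem]
    refine ⟨hUQ v hv w hw1, ?_⟩
    have hcomm : s * v = v * s := hQab s hsQ v hv
    calc s * (v * w * v⁻¹) * s⁻¹ = (s * v) * w * (s * v)⁻¹ := by group
      _ = (v * s) * w * (v * s)⁻¹ := by rw [hcomm]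
      _ = v * (s * w * s⁻¹) * v⁻¹ := by group
      _ = v * w⁻¹ * v⁻¹ := by rw [hw2]
      _ = (v * w * v⁻¹)⁻¹ := by group
  obtain ⟨y, hyW, hy1, hyQ⟩ := MINV W Q hWne hWab hWodd f.elem hQab hWN
  obtain ⟨hyU, hys⟩ := (hWmem y).mp hyW
  have hNYh : NYh p Q y := ⟨hy1, DICH_aux_isPEl hUp hyU, hyQ, s, hsQ, hys⟩
  obtain ⟨Pst, hPp, hPcard, hPQ, hPy⟩ := hny y hNYh
  -- U p t ≤ Pst
  have hUP : ∀ u ∈ U p t, u ∈ Pst := fun u hu =>
    hPy u (hUab u hu y hyU) (DICH_aux_isPEl hUp hu)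
  -- c ∈ U p t
  have hcU : c ∈ U p t := Subgroup.subset_closure ⟨hcQ t htQ, hcp⟩
  have hcP : c ∈ Pst := hUP c hcU
  have hPab : ∀ x ∈ Pst, ∀ y ∈ Pst, x * y = y * x := h.hab Pst hPp
  -- L = C_G(c)
  set L : Subgroup G := Subgroup.centralizer ({c} : Set G) with hL
  have hmemL : ∀ g : G, g ∈ L ↔ c * g = g * c := by
    intro g
    rw [hL, Subgroup.mem_centralizer_iff]
    constructor
    · intro hg; exact hg c rfl
    · intro hg k hk; rw [Set.mem_singleton_iff.mp hk]; exact hg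
  have hPL : Pst ≤ L := fun g hg => (hmemL g).mpr (hPab c hcP g hg)
  have hQL : Q ≤ L := fun g hg => (hmemL g).mpr (hcQ g hg)
  have hzL : z ∈ L := (hmemL z).mpr (f.zc z c h.hzN h.hzp hcp hcQ).symm
  -- L ≠ ⊤
  have hLtop : L ≠ ⊤ := by
    intro htop
    have hccen : c ∈ Subgroup.center G := by
      rw [Subgroup.mem_center_iff]
      intro g
      have : g ∈ L := by rw [htop]; trivial
      exact ((hmemL g).mp this).symm
    obtain ⟨k, hk⟩ := hcp
    have hk0 : k ≠ 0 := by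
      intro h0
      rw [h0, pow_zero, orderOf_eq_one_iff] at hk
      exact hc1 hk
    obtain ⟨j, rfl⟩ := Nat.exists_eq_succ_of_ne_zero hk0
    have hord : orderOf (c ^ p ^ j) = p := by
      rw [orderOf_pow' c (pow_ne_zero j h.hp.ne_zero), hk, Nat.gcd_eq_right (pow_dvd_pow p (Nat.le_succ j)),
        pow_succ, Nat.mul_div_cancel_left _ (pow_pos h.hp.pos j)]
    exact h.hcen (c ^ p ^ j) (Subgroup.pow_mem _ hccen _) hord
  -- a ≥ 1
  have ha1 : a ≠ 0 := by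
    intro h0
    have := h.ha
    rw [h0, pow_zero] at this
    have := h.hp.pos
    omega
  have h2L : 2 ∣ Nat.card L := by
    have h1 : Nat.card Q ∣ Nat.card L := Subgroup.card_dvd_of_le hQL
    rw [h.hQ] at h1
    exact (dvd_pow_self 2 ha1).trans h1
  have hLdvd := f.maxord L hLtop h2L
  -- |Pst ⊔ Q|
  have hPQL : Pst ⊔ Q ≤ L := sup_le hPL hQL
  have hd1 : p ^ (Nat.card G).factorization p ∣ Nat.card (Pst ⊔ Q : Subgroup G) := by
    rw [← hPcard]; exact Subgroup.card_dvd_of_le le_sup_left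
  have hd2 : 2 ^ a ∣ Nat.card (Pst ⊔ Q : Subgroup G) := by
    rw [← h.hQ]; exact Subgroup.card_dvd_of_le le_sup_right
  have hcop : Nat.Coprime (2 ^ a) (p ^ (Nat.card G).factorization p) := by
    apply Nat.Coprime.pow
    exact (Nat.coprime_primes Nat.prime_two h.hp).mpr (Ne.symm h.hp2)
  have hd3 : 2 ^ a * p ^ (Nat.card G).factorization p ∣ Nat.card (Pst ⊔ Q : Subgroup G) :=
    hcop.mul_dvd_of_dvd_of_dvd hd2 hd1
  have hle : Nat.card L ≤ Nat.card (Pst ⊔ Q : Subgroup G) :=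
    Nat.le_of_dvd Nat.card_pos (hLdvd.trans hd3)
  have hEq : Pst ⊔ Q = L := Subgroup.eq_of_le_of_card_ge hPQL hle
  have hzPQ : z ∈ Pst ⊔ Q := by rw [hEq]; exact hzL
  obtain ⟨v, hvQ, hv⟩ := f.znc
  exact hv (f.zout Pst hPp hPQ z h.hzN h.hzp hzPQ v hvQ)

end Cfsg.Agent.S4017P
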