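import Mathlib
import Cfsg.Agent.Helper10.S4017Defs

/-!
# S4017, piece OQ: `O_q(G) = 1` (driver helper10)
-/

set_option autoImplicit false

namespace Cfsg.Agent.S4017P

/-- `|N ⊔ K|` divides `|N| * |K|` for `N` normal -/
theorem OQ_aux_card_sup_dvd {G : Type*} [Group G] [Finite G] (N K : Subgroup G) [N.Normal] :
    Nat.card (N ⊔ K : Subgroup G) ∣ Nat.card N * Nat.card K := by
  have h1 : N.relIndex (N ⊔ K) = N.relIndex K := Subgroup.relIndex_sup_left K N
  have h2 : N.relIndex K ∣ Nat.card K := Subgroup.relIndex_dvd_card N K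
  have hle : N ≤ N ⊔ K := le_sup_left
  have h3 : N.relIndex (N ⊔ K) * (N ⊔ K).index = N.index := Subgroup.relIndex_mul_index hle
  have h4 : Nat.card N * N.index = Nat.card G := N.card_mul_index
  have h5 : Nat.card (N ⊔ K : Subgroup G) * (N ⊔ K).index = Nat.card G := (N ⊔ K).card_mul_index
  have hidx : (N ⊔ K).index ≠ 0 := Subgroup.index_ne_zero_of_finite
  have h6 : Nat.card (N ⊔ K : Subgroup G) = Nat.card N * N.relIndex (N ⊔ K) := by
    apply Nat.eq_of_mul_eq_mul_right (Nat.pos_of_ne_zero hidx)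
    rw [h5, mul_assoc, h3, h4]
  rw [h6, h1]
  exact Nat.mul_dvd_mul_left _ h2

theorem OQ {G : Type*} [Group G] [Finite G] {p q : ℕ} (h : Hyp G p q)
    (hI : ∀ H : Subgroup G, H ≠ ⊤ → q ∣ Nat.card H → PQ p q (Nat.card H))
    (r : ℕ) (hr : r.Prime) (hrG : r ∣ Nat.card G) (hrp : r ≠ p) (hrq : r ≠ q) :
    ∀ N : Subgroup G, N.Normal → IsPGroup q N → N = ⊥ := by
  intro N hN hNq
  by_contra hne
  have := hN
  have : Fact q.Prime := ⟨h.hq⟩
  have : Fact r.Prime := ⟨hr⟩
  -- an element of order r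
  obtain ⟨w, hw⟩ := exists_prime_orderOf_dvd_card' (G := G) r hrG
  -- |N| = q^k, k ≥ 1
  obtain ⟨k, hk⟩ := IsPGroup.iff_card.mp hNq
  have hk0 : k ≠ 0 := by
    intro h0
    rw [h0, pow_zero] at hk
    exact hne ((Subgroup.card_eq_one).mp hk)
  set H : Subgroup G := N ⊔ Subgroup.zpowers w with hH
  have hcardZ : Nat.card (Subgroup.zpowers w) = r := by rw [Nat.card_zpowers, hw]
  have hdvd : Nat.card H ∣ q ^ k * r := by
    have := OQ_aux_card_sup_dvd N (Subgroup.zpowers w)
    rw [hk, hcardZ] at this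
    exact this
  have hqH : q ∣ Nat.card H := by
    have h1 : Nat.card N ∣ Nat.card H := Subgroup.card_dvd_of_le le_sup_left
    rw [hk] at h1
    exact (dvd_pow_self q hk0).trans h1
  have hrH : r ∣ Nat.card H := by
    have h1 : Nat.card (Subgroup.zpowers w) ∣ Nat.card H := Subgroup.card_dvd_of_le le_sup_right
    rw [hcardZ] at h1
    exact h1
  have hpH : ¬ p ∣ Nat.card H := by
    intro hp
    have h1 : p ∣ q ^ k * r := hp.trans hdvd
    rcases (Nat.Prime.dvd_mul h.hp).mp h1 with h2 | h2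
    · have := (Nat.prime_dvd_prime_iff_eq h.hp h.hq).mp (h.hp.dvd_of_dvd_pow h2)
      exact h.hpq this
    · have := (Nat.prime_dvd_prime_iff_eq h.hp hr).mp h2
      exact hrp this.symm
  have hHtop : H ≠ ⊤ := by
    intro htop
    apply hpH
    rw [htop, Subgroup.card_top]
    exact h.hpG
  rcases hI H hHtop hqH r hr hrH with h1 | h1
  · exact hrp h1
  · exact hrq h1

end Cfsg.Agent.S4017P
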