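import Mathlib

/-!
# Definitions for the S4330 board (module lemma (*) and its pieces)

`V` is a (finite) abelian group written multiplicatively, automorphisms are elements of `MulAut V`,
linear groups are subgroups of `MulAut V`.
-/

set_option autoImplicit false

namespace Cfsg.Agent.Helper5.S4330

universe u

variable {V : Type*} [CommGroup V]

/-- common fixed points in `V` of a set of automorphisms -/
def Fix (S : Set (MulAut V)) : Subgroup V where
  carrier := {v | ∀ s ∈ S, s v = v}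
  one_mem' := fun s _ => map_one s
  mul_mem' := fun {a b} ha hb s hs => by rw [map_mul, ha s hs, hb s hs]
  inv_mem' := fun {a} ha s hs => by rw [map_inv, ha s hs]

theorem mem_Fix {S : Set (MulAut V)} {v : V} : v ∈ Fix S ↔ ∀ s ∈ S, s v = v := Iff.rfl

theorem Fix_anti {S T : Set (MulAut V)} (h : S ⊆ T) : Fix T ≤ Fix S :=
  fun _ hv s hs => hv s (h hs)

/-- `W` is invariant under `𝓛` -/
def Inv (𝓛 : Subgroup (MulAut V)) (W : Subgroup V) : Prop := ∀ l ∈ 𝓛, ∀ w ∈ W, l w ∈ W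

/-- `𝓛` acts irreducibly on `V ≠ 1` -/
def Irr (𝓛 : Subgroup (MulAut V)) : Prop :=
  Nontrivial V ∧ ∀ W : Subgroup V, Inv 𝓛 W → W = ⊥ ∨ W = ⊤

/-- `E` is normalized by `𝓛` -/
def NormBy (𝓛 E : Subgroup (MulAut V)) : Prop := ∀ l ∈ 𝓛, ∀ e ∈ E, l * e * l⁻¹ ∈ E

/-- `E` is abelian -/
def Comm (E : Subgroup (MulAut V)) : Prop := ∀ a ∈ E, ∀ b ∈ E, a * b = b * a

/-- every non-identity element of `E` fixes only `1` -/
def SemiReg (E : Subgroup (MulAut V)) : Prop := ∀ e ∈ E, e ≠ 1 → ∀ v : V, e v = v → v = 1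

/-- some vector is moved by every `𝓛`-conjugate of `x` -/
def Good (𝓛 : Subgroup (MulAut V)) (x : MulAut V) : Prop :=
  ∃ v : V, ∀ l ∈ 𝓛, (l * x * l⁻¹) v ≠ v

/-- the module lemma (*) for `V`, faithful form -/
def Star (p : ℕ) (V : Type u) [CommGroup V] : Prop :=
  ∀ 𝓛 D : Subgroup (MulAut V), Irr 𝓛 → D ≤ 𝓛 → NormBy 𝓛 D → IsPGroup p D →
    ∀ x ∈ D, x ≠ 1 → Good 𝓛 x

/-- the module lemma (*) for `V`, homomorphism form -/
def StarHom (p : ℕ) (V : Type u) [CommGroup V] : Prop :=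
  ∀ (L : Type u) [Group L] (φ : L →* MulAut V) (D : Subgroup L), Irr φ.range → D.Normal →
    IsPGroup p (D.map φ) → ∀ x ∈ D, φ x ≠ 1 → ∃ v : V, ∀ l : L, φ (l * x * l⁻¹) v ≠ v

/-- the conjugate `a K a⁻¹` -/
def cj (a : MulAut V) (K : Subgroup (MulAut V)) : Subgroup (MulAut V) :=
  K.map (MulAut.conj a).toMonoidHom

theorem mem_cj {a y : MulAut V} {K : Subgroup (MulAut V)} : y ∈ cj a K ↔ a⁻¹ * y * a ∈ K := by
  unfold cj
  constructor
  · rintro ⟨k, hk, rfl⟩
    have : a⁻¹ * ((MulAut.conj a).toMonoidHom k) * a = k := by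
      simp [MulAut.conj_apply, mul_assoc]
    rw [this]; exact hk
  · intro h
    refine ⟨a⁻¹ * y * a, h, ?_⟩
    simp [MulAut.conj_apply, mul_assoc]

theorem conj_mem_cj {a k : MulAut V} {K : Subgroup (MulAut V)} (hk : k ∈ K) :
    a * k * a⁻¹ ∈ cj a K := by
  rw [mem_cj]; simpa [mul_assoc] using hk

theorem cj_one (K : Subgroup (MulAut V)) : cj 1 K = K := by
  ext y; simp [mem_cj]

theorem cj_mul (a b : MulAut V) (K : Subgroup (MulAut V)) : cj (a * b) K = cj a (cj b K) := by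
  ext y; simp [mem_cj, mul_assoc]

theorem cj_inv_cj (a : MulAut V) (K : Subgroup (MulAut V)) : cj a⁻¹ (cj a K) = K := by
  rw [← cj_mul, inv_mul_cancel, cj_one]

theorem cj_cj_inv (a : MulAut V) (K : Subgroup (MulAut V)) : cj a (cj a⁻¹ K) = K := by
  rw [← cj_mul, mul_inv_cancel, cj_one]

theorem cj_le_cj {a : MulAut V} {K K' : Subgroup (MulAut V)} (h : K ≤ K') : cj a K ≤ cj a K' :=
  Subgroup.map_mono h

theorem cj_injective (a : MulAut V) : Function.Injective (cj (V := V) a) := by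
  intro K K' h
  rw [← cj_inv_cj a K, h, cj_inv_cj]

theorem cj_lt_cj {a : MulAut V} {K K' : Subgroup (MulAut V)} (h : K < K') : cj a K < cj a K' :=
  lt_of_le_of_ne (cj_le_cj h.le) (fun e => h.ne (cj_injective a e))

theorem cj_eq_self_of_mem {a : MulAut V} {K : Subgroup (MulAut V)} (ha : a ∈ K) : cj a K = K := by
  ext y
  rw [mem_cj]
  constructor
  · intro h
    have : y = a * (a⁻¹ * y * a) * a⁻¹ := by group
    rw [this]; exact K.mul_mem (K.mul_mem ha h) (K.inv_mem ha)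
  · intro h; exact K.mul_mem (K.mul_mem (K.inv_mem ha) h) ha

theorem card_cj (a : MulAut V) (K : Subgroup (MulAut V)) : Nat.card (cj a K) = Nat.card K := by
  unfold cj
  exact Nat.card_congr (K.equivMapOfInjective _ (MulAut.conj a).injective).symm.toEquiv

/-- `Fix (a K a⁻¹) = a (Fix K)` -/
theorem mem_Fix_cj {a : MulAut V} {K : Subgroup (MulAut V)} {v : V} :
    v ∈ Fix (cj a K : Set (MulAut V)) ↔ a⁻¹ v ∈ Fix (K : Set (MulAut V)) := by
  constructor
  · intro h k hk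
    have h1 := h (a * k * a⁻¹) (conj_mem_cj hk)
    have : k (a⁻¹ v) = a⁻¹ ((a * k * a⁻¹) v) := by simp [MulAut.mul_apply]
    rw [this, h1]
  · intro h y hy
    have h1 := h (a⁻¹ * y * a) (mem_cj.mp hy)
    have : y v = a ((a⁻¹ * y * a) (a⁻¹ v)) := by simp [MulAut.mul_apply]
    rw [this, h1]; simp

theorem apply_mem_Fix_cj {a : MulAut V} {K : Subgroup (MulAut V)} {v : V}
    (hv : v ∈ Fix (K : Set (MulAut V))) : a v ∈ Fix (cj a K : Set (MulAut V)) := by
  rw [mem_Fix_cj]; simpa using hv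

theorem NormBy.cj_le {𝓛 E : Subgroup (MulAut V)} (h : NormBy 𝓛 E) {l : MulAut V} (hl : l ∈ 𝓛)
    {K : Subgroup (MulAut V)} (hK : K ≤ E) : cj l K ≤ E := by
  intro y hy
  have h1 := h l hl _ (hK (mem_cj.mp hy))
  have : l * (l⁻¹ * y * l) * l⁻¹ = y := by group
  rwa [this] at h1

/-- subgroups of `E` maximal subject to having a nontrivial fixed point -/
def MaxFix (E : Subgroup (MulAut V)) : Set (Subgroup (MulAut V)) :=
  {K | K ≤ E ∧ Fix (K : Set (MulAut V)) ≠ ⊥ ∧
    ∀ K' : Subgroup (MulAut V), K' ≤ E → K < K' → Fix (K' : Set (MulAut V)) = ⊥}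

/-- the normalizer of `K` in `𝓛` -/
def NL (𝓛 K : Subgroup (MulAut V)) : Subgroup (MulAut V) where
  carrier := {l | l ∈ 𝓛 ∧ cj l K = K}
  one_mem' := ⟨𝓛.one_mem, cj_one K⟩
  mul_mem' := fun {a b} ha hb => ⟨𝓛.mul_mem ha.1 hb.1, by rw [cj_mul, hb.2, ha.2]⟩
  inv_mem' := fun {a} ha => ⟨𝓛.inv_mem ha.1, by
    have := cj_inv_cj a K
    rw [ha.2] at this; exact this⟩

theorem mem_NL {𝓛 K : Subgroup (MulAut V)} {l : MulAut V} : l ∈ NL 𝓛 K ↔ l ∈ 𝓛 ∧ cj l K = K :=
  Iff.rfl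

/-- restriction of an automorphism normalizing `K` to `Fix K` -/
def resFix (𝓛 K : Subgroup (MulAut V)) : NL 𝓛 K →* MulAut (Fix (K : Set (MulAut V))) where
  toFun l :=
    { toFun := fun w => ⟨l.1 w.1, by
        have := apply_mem_Fix_cj (a := l.1) w.2
        rwa [l.2.2] at this⟩
      invFun := fun w => ⟨l.1⁻¹ w.1, by
        have := apply_mem_Fix_cj (a := l.1⁻¹) w.2
        rwa [((NL 𝓛 K).inv_mem l.2).2] at this⟩
      left_inv := fun w => by ext; simp
      right_inv := fun w => by ext; simp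
      map_mul' := fun w w' => by ext; simp }
  map_one' := by ext; simp
  map_mul' := fun a b => by ext; simp [MulAut.mul_apply]

@[simp] theorem resFix_apply (𝓛 K : Subgroup (MulAut V)) (l : NL 𝓛 K)
    (w : Fix (K : Set (MulAut V))) : ((resFix 𝓛 K l w : Fix (K : Set (MulAut V))) : V) = l.1 w.1 :=
  rfl

open Classical in
/-- the averaging projection onto `Fix K` (for `|K|` prime to `|V|`) -/
noncomputable def proj [Finite V] (K : Subgroup (MulAut V)) : V →* V :=
  haveI : Fintype K := Fintype.ofFinite K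
  (powMonoidHom ((Nat.card K : ZMod (Nat.card V))⁻¹).val).comp
    (∏ k : K, (k.1 : MulAut V).toMonoidHom)

end Cfsg.Agent.Helper5.S4330
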