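import Mathlib
import Cfsg.Agent.Helper2.S3086Defs
import Cfsg.Agent.Helper2.S3086Basic
import Cfsg.Agent.Helper2.S3086Defs2

/-! Board `s3086pieces`, row RES1 (helper5): `RES_fix`, `RES_bot`, `RES_comm`, `RES_elab`
(restriction to an invariant subspace). -/

set_option autoImplicit false

namespace Cfsg.Agent.S3086P

universe u

variable {p : ℕ} [Fact p.Prime] {V : Type u} [AddCommGroup V] [Module (ZMod p) V] [Finite V]

section RES
variable {W : Submodule (ZMod p) V} {S : Subgroup (GLV p V)}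

/-- membership in the fixed space of the image -/
theorem RES1_aux_mem_fix (hS : S ≤ stabS W) (w : ↥W) :
    w ∈ fixS (imgS W S) ↔ ∀ g ∈ S, g (w : V) = (w : V) := by
  rw [mem_fixS]
  constructor
  · intro h g hg
    have h1 : res W ⟨g, hS hg⟩ ∈ imgS W S := mem_imgS.mpr ⟨⟨g, hS hg⟩, hg, rfl⟩
    have h2 := h _ h1
    have h3 := congrArg (fun x : ↥W => (x : V)) h2
    simpa using h3
  · intro h b hb
    obtain ⟨g, hg, rfl⟩ := mem_imgS.mp hb
    apply Subtype.ext
    rw [res_apply]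
    exact h _ hg

/-- RESa (M) -/
theorem RES_fix (hS : S ≤ stabS W) : Nat.card ↥(fixS (imgS W S)) = Nat.card ↥(fixS S ⊓ W) := by
  apply Nat.card_congr
  refine
    { toFun := fun w => ⟨((w : ↥W) : V), ?_⟩
      invFun := fun v => ⟨⟨(v : V), (Submodule.mem_inf.mp v.2).2⟩, ?_⟩
      left_inv := ?_
      right_inv := ?_ }
  · rw [Submodule.mem_inf]
    refine ⟨?_, (w : ↥W).2⟩
    rw [mem_fixS]
    exact (RES1_aux_mem_fix hS (w : ↥W)).mp w.2
  · rw [RES1_aux_mem_fix hS]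
    intro g hg
    exact (Submodule.mem_inf.mp v.2).1 g hg
  · intro w
    rfl
  · intro v
    rfl

/-- RESh (S) -/
theorem RES_bot (hS : S ≤ stabS W) : imgS W S = ⊥ ↔ S ≤ centS W := by
  constructor
  · intro h g hg w hw
    have h1 : res W ⟨g, hS hg⟩ ∈ imgS W S := mem_imgS.mpr ⟨⟨g, hS hg⟩, hg, rfl⟩
    rw [h, Subgroup.mem_bot] at h1
    have h2 := congrArg (fun f : GLV p ↥W => ((f ⟨w, hw⟩ : ↥W) : V)) h1
    simpa using h2
  · intro h
    rw [eq_bot_iff]
    intro b hb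
    obtain ⟨g, hg, rfl⟩ := mem_imgS.mp hb
    rw [Subgroup.mem_bot]
    apply LinearEquiv.ext
    intro w
    apply Subtype.ext
    rw [res_apply]
    exact h hg (w : V) w.2

/-- RESe (S) -/
theorem RES_comm {S' : Subgroup (GLV p V)} (h : CommS S S') : CommS (imgS W S) (imgS W S') := by
  intro x hx y hy
  obtain ⟨g, hg, rfl⟩ := mem_imgS.mp hx
  obtain ⟨g', hg', rfl⟩ := mem_imgS.mp hy
  rw [← map_mul, ← map_mul]
  congr 1
  apply Subtype.ext
  exact h _ hg _ hg'

/-- RESg (S/M) -/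
theorem RES_elab (hA : Cfsg.IsElementaryAbelian p S) : Cfsg.IsElementaryAbelian p (imgS W S) := by
  obtain ⟨hc, hp⟩ := hA
  refine ⟨⟨⟨?_⟩⟩, ?_⟩
  · rintro ⟨x, hx⟩ ⟨y, hy⟩
    apply Subtype.ext
    obtain ⟨g, hg, rfl⟩ := mem_imgS.mp hx
    obtain ⟨g', hg', rfl⟩ := mem_imgS.mp hy
    show res W g * res W g' = res W g' * res W g
    rw [← map_mul, ← map_mul]
    congr 1
    apply Subtype.ext
    have := hc.is_comm.comm (⟨(g : GLV p V), hg⟩ : ↥S) ⟨(g' : GLV p V), hg'⟩
    have h2 : (g : GLV p V) * (g' : GLV p V) = (g' : GLV p V) * (g : GLV p V) := congrArg Subtype.val this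
    exact h2
  · intro x hx
    obtain ⟨g, hg, rfl⟩ := mem_imgS.mp hx
    rw [← map_pow]
    have h1 : g ^ p = 1 := by
      apply Subtype.ext
      rw [Subgroup.coe_pow]
      exact hp _ hg
    rw [h1, map_one]

end RES

end Cfsg.Agent.S3086P
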