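import Mathlib
import Cfsg.Agent.Helper2.S3086Defs
import Cfsg.Agent.Helper2.S3086Basic
import Cfsg.Agent.Helper2.S3086Defs2

/-! Board `s3086pieces`, row RES2 (helper5): `RES_card`, `RES_sub`
(restriction to an invariant subspace: orders, subgroups of the image). -/

set_option autoImplicit false

namespace Cfsg.Agent.S3086P

universe u

variable {p : ℕ} [Fact p.Prime] {V : Type u} [AddCommGroup V] [Module (ZMod p) V] [Finite V]

section RES
variable {W : Submodule (ZMod p) V} {S : Subgroup (GLV p V)}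

/-- the restriction homomorphism on a subgroup of `N(W)` -/
def RES2_aux_phi (hS : S ≤ stabS W) : ↥S →* GLV p ↥W := (res W).comp (Subgroup.inclusion hS)

theorem RES2_aux_phi_apply (hS : S ≤ stabS W) (s : ↥S) :
    RES2_aux_phi hS s = res W ⟨(s : GLV p V), hS s.2⟩ := rfl

theorem RES2_aux_range (hS : S ≤ stabS W) : (RES2_aux_phi hS).range = imgS W S := by
  ext h
  rw [MonoidHom.mem_range, mem_imgS]
  constructor
  · rintro ⟨s, rfl⟩
    exact ⟨⟨(s : GLV p V), hS s.2⟩, s.2, rfl⟩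
  · rintro ⟨g, hg, rfl⟩
    exact ⟨⟨(g : GLV p V), hg⟩, rfl⟩

theorem RES2_aux_mem_ker (hS : S ≤ stabS W) (s : ↥S) :
    s ∈ (RES2_aux_phi hS).ker ↔ (s : GLV p V) ∈ S ⊓ centS W := by
  rw [MonoidHom.mem_ker, RES2_aux_phi_apply, Subgroup.mem_inf, mem_centS]
  constructor
  · intro h
    refine ⟨s.2, ?_⟩
    intro w hw
    have h2 := congrArg (fun f : GLV p ↥W => ((f ⟨w, hw⟩ : ↥W) : V)) h
    simpa using h2
  · rintro ⟨_, h⟩
    apply LinearEquiv.ext
    intro w
    apply Subtype.ext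
    rw [res_apply]
    exact h (w : V) w.2

theorem RES2_aux_ker (hS : S ≤ stabS W) : (RES2_aux_phi hS).ker = (S ⊓ centS W).subgroupOf S := by
  ext s
  rw [RES2_aux_mem_ker, Subgroup.mem_subgroupOf]

/-- RESb (M) -/
theorem RES_card (hS : S ≤ stabS W) : Nat.card ↥(imgS W S) * Nat.card ↥(S ⊓ centS W) = Nat.card ↥S := by
  have h1 : (RES2_aux_phi hS).ker.index = Nat.card ↥(RES2_aux_phi hS).range := Subgroup.index_ker _
  have h2 := Subgroup.index_mul_card (RES2_aux_phi hS).ker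
  rw [h1, RES2_aux_range hS, RES2_aux_ker hS] at h2
  have h3 : Nat.card ↥((S ⊓ centS W).subgroupOf S) = Nat.card ↥(S ⊓ centS W) :=
    Nat.card_congr (Subgroup.subgroupOfEquivOfLe (inf_le_left : S ⊓ centS W ≤ S)).toEquiv
  rw [h3] at h2
  exact h2

/-- RESc (M): subgroups of the image are images of subgroups containing the kernel. -/
theorem RES_sub (hS : S ≤ stabS W) (Y : Subgroup (GLV p ↥W)) (hY : Y ≤ imgS W S) :
    ∃ X : Subgroup (GLV p V), X ≤ S ∧ S ⊓ centS W ≤ X ∧ imgS W X = Y := by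
  refine ⟨(Y.comap (RES2_aux_phi hS)).map S.subtype, ?_, ?_, ?_⟩
  · rintro x ⟨s, _, rfl⟩
    exact s.2
  · intro x hx
    refine ⟨⟨x, (Subgroup.mem_inf.mp hx).1⟩, ?_, rfl⟩
    rw [SetLike.mem_coe, Subgroup.mem_comap]
    have : (⟨x, (Subgroup.mem_inf.mp hx).1⟩ : ↥S) ∈ (RES2_aux_phi hS).ker :=
      (RES2_aux_mem_ker hS _).mpr hx
    rw [MonoidHom.mem_ker] at this
    rw [this]
    exact Y.one_mem
  · ext h
    rw [mem_imgS]
    constructor
    · rintro ⟨g, ⟨s, hs, hsg⟩, rfl⟩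
      rw [SetLike.mem_coe, Subgroup.mem_comap, RES2_aux_phi_apply] at hs
      have : (⟨(s : GLV p V), hS s.2⟩ : ↥(stabS W)) = g := Subtype.ext hsg
      rw [← this]
      exact hs
    · intro hh
      obtain ⟨g, hg, rfl⟩ := mem_imgS.mp (hY hh)
      refine ⟨g, ⟨⟨(g : GLV p V), hg⟩, ?_, rfl⟩, rfl⟩
      rw [SetLike.mem_coe, Subgroup.mem_comap, RES2_aux_phi_apply]
      exact hh

end RES

end Cfsg.Agent.S3086P
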