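import Mathlib
import Cfsg.Agent.Helper7.S5655.Defs
import Cfsg.Agent.Helper7.S5655.MonoLib
import Cfsg.Agent.Helper7.S5655.Defs2
import Cfsg.Agent.Helper28.S5655QR
import Cfsg.Agent.Helper15.S5655BDefs

/-! # S5655 `k = 1`, chapter (B), piece POW -/

set_option autoImplicit false

namespace Cfsg.Agent.S5655K1

open Matrix
open Cfsg.Agent.S2644 Cfsg.Agent.Helper2.SUGen Cfsg.Agent.Helper28.SimMax Cfsg.Agent.MonoP

variable {K : Type*} [Field K] {q n : ℕ}

local notation "h" => Cfsg.hermForm n K q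
local notation "T" => Cfsg.unitaryTransvection n q

/-- POW (S): powers of a matrix on a vector satisfying a quadratic relation with a double root. -/
theorem POW.main (g : Matrix (Fin n) (Fin n) K) (z : Fin n → K) (x : K)
    (hrel : g *ᵥ (g *ᵥ z) = (2 * x) • (g *ᵥ z) - (x ^ 2) • z) (k : ℕ) :
    (g ^ (k + 1)) *ᵥ z = (((k : K) + 1) * x ^ k) • (g *ᵥ z) - ((k : K) * x ^ (k + 1)) • z := by
  induction k with
  | zero => simp
  | succ k ih =>
    rw [pow_succ' g (k + 1), ← Matrix.mulVec_mulVec, ih, Matrix.mulVec_sub, Matrix.mulVec_smul,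
      Matrix.mulVec_smul, hrel]
    push_cast
    module

end Cfsg.Agent.S5655K1
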