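import Mathlib
import Cfsg.Agent.Helper7.S5655.Defs
import Cfsg.Agent.Helper7.S5655.MonoLib
import Cfsg.Agent.Helper7.S5655.Defs2

/-! # S5655 `k = 1`, piece MU: `|μ_{q+1}| = q + 1` -/

set_option autoImplicit false

namespace Cfsg.Agent.S5655K1

open Matrix
open Cfsg.Agent.S2644 Cfsg.Agent.Helper2.SUGen Cfsg.Agent.Helper28.SimMax Cfsg.Agent.MonoP

variable {K : Type*} [Field K] {q n : ℕ}

local notation "h" => Cfsg.hermForm n K q
local notation "T" => Cfsg.unitaryTransvection n q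

namespace MU

theorem card_two_le_q [Fintype K] (hK : Fintype.card K = q ^ 2) : 2 ≤ q := by
  have h1 : 1 < Fintype.card K := Fintype.one_lt_card
  rw [hK] at h1
  by_contra hq
  have hq' : q ≤ 1 := by omega
  have : q ^ 2 ≤ 1 ^ 2 := Nat.pow_le_pow_left hq' 2
  omega

theorem card_sq_sub_one (hq : 1 ≤ q) : q ^ 2 - 1 = (q - 1) * (q + 1) := by
  obtain ⟨k, rfl⟩ : ∃ k, q = k + 1 := ⟨q - 1, by omega⟩
  apply Nat.sub_eq_of_eq_add
  rw [Nat.add_sub_cancel]
  ring

/-- a primitive `(q+1)`-th root of unity in `K` -/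
theorem card_exists_primitive [Fintype K] (hK : Fintype.card K = q ^ 2) :
    ∃ ζ : K, IsPrimitiveRoot ζ (q + 1) := by
  have hq := card_two_le_q hK
  obtain ⟨g, hg⟩ := IsCyclic.exists_generator (α := Kˣ)
  have ho : orderOf g = (q - 1) * (q + 1) := by
    rw [orderOf_eq_card_of_forall_mem_zpowers hg, Nat.card_units, Nat.card_eq_fintype_card, hK,
      card_sq_sub_one (by omega)]
  have ho2 : orderOf (g ^ (q - 1)) = q + 1 := by
    rw [orderOf_pow_of_dvd (by omega) (by rw [ho]; exact dvd_mul_right _ _), ho,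
      Nat.mul_div_cancel_left _ (by omega)]
  refine ⟨((g ^ (q - 1) : Kˣ) : K), ?_⟩
  rw [IsPrimitiveRoot.coe_units_iff, ← ho2]
  exact IsPrimitiveRoot.orderOf _

theorem card_isU_iff (D : Frob K q) (t : K) : IsU D t ↔ t ^ (q + 1) = 1 := by
  unfold IsU
  rw [D.pow, pow_succ']

end MU

open scoped Classical in
theorem MU.card (D : Frob K q) [Fintype K] (hK : Fintype.card K = q ^ 2) :
    (Finset.univ.filter (fun t : K => IsU D t)).card = q + 1 := by
  obtain ⟨ζ, hζ⟩ := MU.card_exists_primitive hK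
  rw [← hζ.card_nthRootsFinset]
  congr 1
  ext t
  rw [Finset.mem_filter, Polynomial.mem_nthRootsFinset (by omega), MU.card_isU_iff]
  simp

end Cfsg.Agent.S5655K1
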