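import Mathlib
import Cfsg.Prelude.Def_Characters
import Cfsg.Agent.Helper24.GallagherDet
import Cfsg.Agent.Helper24.GlaubCyc

/-!
# S2347 piece WCOP: the coprime extension theorem for an intermediate subgroup.
-/

set_option autoImplicit false

namespace Cfsg.Agent.Helper12.LSp

open Cfsg

theorem exists_ext_of_coprime {G : Type*} [Group G] [Finite G] (N : Subgroup G) [hN : N.Normal]
    (ϑ : N → ℂ) (hϑ : IsIrrCharacter N ϑ)
    (hinv : ∀ (g : G) (x : N), ϑ ⟨g * x * g⁻¹, hN.conj_mem (x : G) x.2 g⟩ = ϑ x)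
    (d : ℕ) (hd : ϑ 1 = d) (P : Subgroup G) (hNP : N ≤ P)
    (hcop : Nat.Coprime (N.relIndex P) (Nat.card N * d)) :
    ∃ η : P → ℂ, IsIrrCharacter P η ∧ ∀ x : N, η ⟨(x : G), hNP x.2⟩ = ϑ x := by
  have hirr' := Cfsg.Agent.Helper24.irr_subgroupOf N hϑ hNP
  have hd' : (fun x => ϑ (Subgroup.subgroupOfEquivOfLe hNP x)) 1 = d := by
    show ϑ (Subgroup.subgroupOfEquivOfLe hNP 1) = d
    rw [map_one]; exact hd
  have hdet : Cfsg.detOrder (fun x => ϑ (Subgroup.subgroupOfEquivOfLe hNP x)) ∣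
      Nat.card N := by
    have h1 := Cfsg.Agent.Helper24.detOrder_dvd_card hirr'
    rwa [Nat.card_congr (Subgroup.subgroupOfEquivOfLe hNP).toEquiv] at h1
  have hcop' : Nat.Coprime (N.subgroupOf P).index
      (Cfsg.detOrder (fun x => ϑ (Subgroup.subgroupOfEquivOfLe hNP x)) * d) := by
    have h1 : (N.subgroupOf P).index = N.relIndex P := rfl
    rw [h1]
    exact Nat.Coprime.coprime_dvd_right (Nat.mul_dvd_mul_right hdet d) hcop
  obtain ⟨χ, ⟨hχ, hχN, -⟩, -⟩ := Cfsg.Agent.Helper24.coprime_unique_extension (N.subgroupOf P)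
    (fun x => ϑ (Subgroup.subgroupOfEquivOfLe hNP x)) hirr'
    (Cfsg.Agent.Helper24.inv_subgroupOf N hinv hNP) d hd' hcop'
  refine ⟨χ, hχ, fun x => ?_⟩
  have h2 := hχN ⟨⟨(x : G), hNP x.2⟩, Subgroup.mem_subgroupOf.mpr x.2⟩
  rw [show (⟨(x : G), hNP x.2⟩ : P) = ((⟨⟨(x : G), hNP x.2⟩, Subgroup.mem_subgroupOf.mpr x.2⟩ :
    N.subgroupOf P) : P) from rfl, h2]
  show ϑ _ = ϑ x
  congr 1

end Cfsg.Agent.Helper12.LSp
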