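import Mathlib
import Cfsg.Prelude.Def_Characters
import Cfsg.Agent.Helper12.LSUDefs
import Cfsg.Agent.Helper12.LSpWDefs
import Cfsg.Agent.Helper12.LSpWPDefs
import Cfsg.Agent.Helper18.LSpWCONJ
import Cfsg.Agent.Helper13.LSpWRANK
import Cfsg.Agent.Helper24.Rep
import Cfsg.Agent.Helper8.LSpWCOSET
import Cfsg.Agent.Helper8.LSpWCENT

/-! S2347 piece WBOUND: `|ω(g)|² ≤ |Fix g|`, with equality `1` when `1 - g` is onto. -/

set_option autoImplicit false
namespace Cfsg.Agent.Helper12.LSp
open Matrix Cfsg Cfsg.Agent.Helper2.Sp Cfsg.Agent.Helper12.LSU Cfsg.Agent.Helper25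
variable {n : ℕ} {F : Type*} [Field F]


/-- the term of the coset sum at an element of the range of `1 - g` -/
theorem wbound_term [Fintype F] (χ : Gam n F → ℂ) (hχ : IsIrrCharacter (Gam n F) χ)
    (ψ : AddChar F ℂ) (hres : ∀ a : Heis n F, χ (SemidirectProduct.inl a) = theta ψ a)
    (g : symplecticGroup (Fin n) F) (a : Heis n F) (x : Fin n ⊕ Fin n → F)
    (hx : x - (g : Matrix (Fin n ⊕ Fin n) (Fin n ⊕ Fin n) F) *ᵥ x = a.v) :
    Complex.normSq (χ (SemidirectProduct.inl a * SemidirectProduct.inr g)) =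
      Complex.normSq (χ (SemidirectProduct.inr g)) := by
  set gx := (g : Matrix (Fin n ⊕ Fin n) (Fin n ⊕ Fin n) F) *ᵥ x with hgx
  have ha : a = zel n (a.s + om x gx) * (⟨x - gx, - om x gx⟩ : Heis n F) := by
    apply Heis.ext
    · rw [Heis.mul_v]
      show a.v = (0 : Fin n ⊕ Fin n → F) + (x - gx)
      rw [zero_add, hx]
    · rw [Heis.mul_s]
      show a.s = a.s + om x gx + (- om x gx) + om (0 : Fin n ⊕ Fin n → F) (x - gx)
      rw [om_zero_left']
      ring
  have hcf := Cfsg.Agent.Helper24.IsCharacter.isClassFunction (Cfsg.Agent.Helper24.IsIrrCharacter.isCharacter hχ)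
  have h1 : (SemidirectProduct.inl a : Gam n F) * SemidirectProduct.inr g =
      SemidirectProduct.inl (zel n (a.s + om x gx)) *
        ((SemidirectProduct.inl (⟨x, 0⟩ : Heis n F) : Gam n F) * SemidirectProduct.inr g *
          (SemidirectProduct.inl (⟨x, 0⟩ : Heis n F))⁻¹) := by
    rw [conj_inr, ← mul_assoc, ← map_mul, ← hgx, ← ha]
  rw [h1, chi_zel_mul χ hχ ψ hres, hcf, Complex.normSq_mul]
  have h2 : Complex.normSq (ψ (a.s + om x gx)) = 1 := by
    rw [Complex.normSq_eq_norm_sq, AddChar.norm_apply, one_pow]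
  rw [h2, one_mul]


/-- the common counting core -/
theorem wbound_core [Fintype F] (χ : Gam n F → ℂ) (hχ : IsIrrCharacter (Gam n F) χ)
    (ψ : AddChar F ℂ) (hirr : IsIrrCharacter (Heis n F) (theta (n := n) ψ))
    (hres : ∀ a : Heis n F, χ (SemidirectProduct.inl a) = theta ψ a)
    (g : symplecticGroup (Fin n) F) :
    Complex.normSq (χ (SemidirectProduct.inr g)) *
      ((Nat.card (Set.range fun v : Fin n ⊕ Fin n → F =>
        v - (g : Matrix (Fin n ⊕ Fin n) (Fin n ⊕ Fin n) F) *ᵥ v) : ℝ) * (Fintype.card F : ℝ)) ≤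
      (Fintype.card F : ℝ) ^ (2 * n + 1) ∧
    ((∀ v : Fin n ⊕ Fin n → F, ∃ x,
      x - (g : Matrix (Fin n ⊕ Fin n) (Fin n ⊕ Fin n) F) *ᵥ x = v) →
      Complex.normSq (χ (SemidirectProduct.inr g)) * (Fintype.card F : ℝ) ^ (2 * n + 1) =
        (Fintype.card F : ℝ) ^ (2 * n + 1)) := by
  classical
  have hsum := sum_coset_normSq χ hχ ψ hirr hres (SemidirectProduct.inr g)
  constructor
  · let R : Finset (Fin n ⊕ Fin n → F) := Finset.univ.image
      (fun v => v - (g : Matrix (Fin n ⊕ Fin n) (Fin n ⊕ Fin n) F) *ᵥ v)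
    have hRcard : Nat.card (Set.range fun v : Fin n ⊕ Fin n → F =>
        v - (g : Matrix (Fin n ⊕ Fin n) (Fin n ⊕ Fin n) F) *ᵥ v) = R.card := by
      rw [Nat.card_eq_fintype_card, ← Set.toFinset_card, Set.toFinset_range]
    let S : Finset (Heis n F) := Finset.univ.filter (fun a => a.v ∈ R)
    have hScard : R.card * Fintype.card F ≤ S.card := by
      have h1 : (R ×ˢ (Finset.univ : Finset F)).card = R.card * Fintype.card F := by
        rw [Finset.card_product, Finset.card_univ]
      rw [← h1]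
      apply Finset.card_le_card_of_injOn (fun p : (Fin n ⊕ Fin n → F) × F => (⟨p.1, p.2⟩ : Heis n F))
      · intro p hp
        have hp' := (Finset.mem_product.mp hp).1
        exact Finset.mem_filter.mpr ⟨Finset.mem_univ _, hp'⟩
      · intro p _ p' _ hpp
        have h2 := congrArg Heis.v hpp
        have h3 := congrArg Heis.s hpp
        exact Prod.ext h2 h3
    have hterm : ∀ a ∈ S, Complex.normSq (χ (SemidirectProduct.inl a * SemidirectProduct.inr g)) =
        Complex.normSq (χ (SemidirectProduct.inr g)) := by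
      intro a ha
      obtain ⟨x, -, hx⟩ := Finset.mem_image.mp (Finset.mem_filter.mp ha).2
      exact wbound_term χ hχ ψ hres g a x hx
    have h1 : ∑ a ∈ S, Complex.normSq (χ (SemidirectProduct.inl a * SemidirectProduct.inr g)) =
        (S.card : ℝ) * Complex.normSq (χ (SemidirectProduct.inr g)) := by
      rw [Finset.sum_congr rfl hterm, Finset.sum_const, nsmul_eq_mul]
    have h2 : ∑ a ∈ S, Complex.normSq (χ (SemidirectProduct.inl a * SemidirectProduct.inr g)) ≤
        ∑ a : Heis n F, Complex.normSq (χ (SemidirectProduct.inl a * SemidirectProduct.inr g)) :=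
      Finset.sum_le_sum_of_subset_of_nonneg (Finset.subset_univ _)
        (fun _ _ _ => Complex.normSq_nonneg _)
    rw [h1, hsum] at h2
    rw [hRcard]
    have h3 : ((R.card : ℝ) * (Fintype.card F : ℝ)) ≤ (S.card : ℝ) := by exact_mod_cast hScard
    calc Complex.normSq (χ (SemidirectProduct.inr g)) * ((R.card : ℝ) * (Fintype.card F : ℝ))
        ≤ Complex.normSq (χ (SemidirectProduct.inr g)) * (S.card : ℝ) :=
          mul_le_mul_of_nonneg_left h3 (Complex.normSq_nonneg _)
      _ = (S.card : ℝ) * Complex.normSq (χ (SemidirectProduct.inr g)) := mul_comm _ _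
      _ ≤ _ := h2
  · intro hsurj
    have hterm : ∀ a ∈ (Finset.univ : Finset (Heis n F)),
        Complex.normSq (χ (SemidirectProduct.inl a * SemidirectProduct.inr g)) =
        Complex.normSq (χ (SemidirectProduct.inr g)) := by
      intro a _
      obtain ⟨x, hx⟩ := hsurj a.v
      exact wbound_term χ hχ ψ hres g a x hx
    rw [Finset.sum_congr rfl hterm, Finset.sum_const, nsmul_eq_mul, Finset.card_univ,
      ← Nat.card_eq_fintype_card, card_heis] at hsum
    rw [mul_comm]
    exact_mod_cast hsum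

theorem normSq_chi_inr_le [Fintype F] (χ : Gam n F → ℂ) (hχ : IsIrrCharacter (Gam n F) χ)
    (ψ : AddChar F ℂ) (hirr : IsIrrCharacter (Heis n F) (theta (n := n) ψ))
    (hres : ∀ a : Heis n F, χ (SemidirectProduct.inl a) = theta ψ a)
    (g : symplecticGroup (Fin n) F) :
    Complex.normSq (χ (SemidirectProduct.inr g)) ≤
      (Nat.card {v : Fin n ⊕ Fin n → F //
        (g : Matrix (Fin n ⊕ Fin n) (Fin n ⊕ Fin n) F) *ᵥ v = v} : ℝ) := by
  classical
  have h1 := (wbound_core χ hχ ψ hirr hres g).1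
  have h2 := card_fix_mul_card_range (F := F) (g : Matrix (Fin n ⊕ Fin n) (Fin n ⊕ Fin n) F)
  rw [Fintype.card_sum, Fintype.card_fin, ← two_mul] at h2
  set f := Nat.card {v : Fin n ⊕ Fin n → F //
        (g : Matrix (Fin n ⊕ Fin n) (Fin n ⊕ Fin n) F) *ᵥ v = v} with hf
  set ρ := Nat.card (Set.range fun v : Fin n ⊕ Fin n → F =>
        v - (g : Matrix (Fin n ⊕ Fin n) (Fin n ⊕ Fin n) F) *ᵥ v) with hρ
  have hqpos : 0 < Fintype.card F := Fintype.card_pos
  have hρpos : 0 < ρ := by
    rcases Nat.eq_zero_or_pos ρ with h0 | h0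
    · rw [h0, mul_zero] at h2
      exact absurd h2.symm (pow_ne_zero _ hqpos.ne')
    · exact h0
  have h3 : ((Fintype.card F : ℝ)) ^ (2 * n + 1) = (f : ℝ) * ((ρ : ℝ) * (Fintype.card F : ℝ)) := by
    rw [pow_succ, ← mul_assoc]
    congr 1
    exact_mod_cast h2.symm
  rw [h3] at h1
  have hpos : (0 : ℝ) < (ρ : ℝ) * (Fintype.card F : ℝ) := by positivity
  exact le_of_mul_le_mul_right h1 hpos

theorem normSq_chi_inr_eq_one [Fintype F] (χ : Gam n F → ℂ) (hχ : IsIrrCharacter (Gam n F) χ)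
    (ψ : AddChar F ℂ) (hirr : IsIrrCharacter (Heis n F) (theta (n := n) ψ))
    (hres : ∀ a : Heis n F, χ (SemidirectProduct.inl a) = theta ψ a)
    (g : symplecticGroup (Fin n) F)
    (hsurj : ∀ v : Fin n ⊕ Fin n → F, ∃ x,
      x - (g : Matrix (Fin n ⊕ Fin n) (Fin n ⊕ Fin n) F) *ᵥ x = v) :
    Complex.normSq (χ (SemidirectProduct.inr g)) = 1 := by
  have h1 := (wbound_core χ hχ ψ hirr hres g).2 hsurj
  have hqpos : (0 : ℝ) < (Fintype.card F : ℝ) := by exact_mod_cast Fintype.card_pos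
  have hne : (Fintype.card F : ℝ) ^ (2 * n + 1) ≠ 0 := pow_ne_zero _ hqpos.ne'
  exact mul_right_cancel₀ hne (h1.trans (one_mul _).symm)

end Cfsg.Agent.Helper12.LSp
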