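import Mathlib
import Cfsg.Prelude.Def_LieExceptional

set_option autoImplicit false

/-!
# Basic facts about Zassenhaus groups (`Cfsg.IsZassenhausGroup`)
-/

namespace Cfsg.Agent.Helper5.Zassenhaus

open Cfsg MulAction

variable {G Ω : Type*} [Group G] [MulAction G Ω]

theorem two_trans (hZ : IsZassenhausGroup G Ω) {a b c d : Ω} (h : a ≠ b) (h' : c ≠ d) :
    ∃ g : G, g • a = c ∧ g • b = d :=
  MulAction.is_two_pretransitive_iff.mp hZ.2.1 h h'

theorem eq_one_of_fix3 (hZ : IsZassenhausGroup G Ω) {g : G} {a b c : Ω} (hab : a ≠ b)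
    (hbc : b ≠ c) (hac : a ≠ c) (ha : g • a = a) (hb : g • b = b) (hc : g • c = c) : g = 1 :=
  hZ.2.2.1 g a b c hab hbc hac ha hb hc

theorem exists_ne_one_fix2 (hZ : IsZassenhausGroup G Ω) {a b : Ω} (hab : a ≠ b) :
    ∃ x : G, x ≠ 1 ∧ x • a = a ∧ x • b = b := by
  obtain ⟨g, hg, a', b', hab', ha', hb'⟩ := hZ.2.2.2.1
  obtain ⟨t, hta, htb⟩ := two_trans hZ hab' hab
  refine ⟨t * g * t⁻¹, ?_, ?_, ?_⟩
  · intro h
    apply hg
    have h2 : t * g = t := by
      have := congrArg (fun x => x * t) h
      simpa [mul_assoc] using this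
    exact mul_left_cancel (a := t) (by rw [h2, mul_one])
  · rw [mul_smul, mul_smul, ← hta, inv_smul_smul, ha']
  · rw [mul_smul, mul_smul, ← htb, inv_smul_smul, hb']

theorem exists_third (hZ : IsZassenhausGroup G Ω) {a b : Ω} (hab : a ≠ b) :
    ∃ c : Ω, c ≠ a ∧ c ≠ b := by
  obtain ⟨x, hx1, hxa, hxb⟩ := exists_ne_one_fix2 hZ hab
  by_contra hcon
  push Not at hcon
  apply hx1
  have : FaithfulSMul G Ω := hZ.1
  apply FaithfulSMul.eq_of_smul_eq_smul (α := Ω)
  intro c
  rw [one_smul]
  by_cases hc : c = a
  · rw [hc, hxa]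
  · rw [hcon c hc, hxb]

/-- A non-identity element fixing two distinct points fixes nothing else. -/
theorem fixed_of_fix2 (hZ : IsZassenhausGroup G Ω) {a b : Ω} (hab : a ≠ b) {x : G} (hx : x ≠ 1)
    (ha : x • a = a) (hb : x • b = b) {c : Ω} (hc : x • c = c) : c = a ∨ c = b := by
  by_contra hcon
  push Not at hcon
  exact hx (eq_one_of_fix3 hZ hab hcon.2.symm hcon.1.symm ha hb hc)

/-- The "Frobenius kernel" of a point stabilizer has `|Ω| - 1` elements. -/
theorem card_kernel_set [Finite G] [Fintype Ω] (hZ : IsZassenhausGroup G Ω) (a : Ω) :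
    Nat.card {g : stabilizer G a // g = 1 ∨ ∀ c : Ω, (g : G) • c = c → c = a} + 1 =
      Fintype.card Ω := by
  classical
  have : Fintype (stabilizer G a) := Fintype.ofFinite _
  let T : Finset Ω := Finset.univ.erase a
  have hT : T.card + 1 = Fintype.card Ω := by
    have := Finset.card_erase_add_one (Finset.mem_univ a)
    simpa [T] using this
  have hTmem : ∀ b, b ∈ T ↔ b ≠ a := by
    intro b; simp [T]
  let r : stabilizer G a → Ω → Prop := fun g b => (g : G) • b = b
  have dc := Finset.sum_card_bipartiteAbove_eq_sum_card_bipartiteBelow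
    (s := (Finset.univ : Finset (stabilizer G a))) (t := T) r
  -- the right-hand side
  have hR : ∀ b ∈ T, ((Finset.univ : Finset (stabilizer G a)).bipartiteBelow r b).card * T.card =
      Fintype.card (stabilizer G a) := by
    intro b hb
    have hba : b ≠ a := (hTmem b).mp hb
    have h1 : ((Finset.univ : Finset (stabilizer G a)).bipartiteBelow r b).card =
        Nat.card (stabilizer (stabilizer G a) b) := by
      rw [Nat.card_eq_fintype_card, Finset.bipartiteBelow]
      rw [← Fintype.card_subtype]
      apply Fintype.card_congr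
      exact Equiv.subtypeEquivRight (fun g => by simp [r, mem_stabilizer_iff, Subgroup.smul_def])
    have h2 : (stabilizer (stabilizer G a) b).index = T.card := by
      rw [index_stabilizer]
      have : orbit (stabilizer G a) b = (T : Set Ω) := by
        ext c
        simp only [Finset.mem_coe, hTmem]
        constructor
        · rintro ⟨g, rfl⟩ hc
          apply hba
          have hg := g.2
          rw [mem_stabilizer_iff] at hg
          have : (g : G) • b = (g : G) • a := by
            rw [hg]; exact hc
          exact smul_left_cancel _ this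
        · intro hc
          obtain ⟨g, hga, hgb⟩ := two_trans hZ hba.symm (Ne.symm hc)
          exact ⟨⟨g, hga⟩, hgb⟩
      rw [this, Set.ncard_coe_finset]
    rw [h1, ← h2, Subgroup.card_mul_index, Nat.card_eq_fintype_card]
  -- the left-hand side
  let K : Finset (stabilizer G a) :=
    Finset.univ.filter (fun g => g = 1 ∨ ∀ c : Ω, (g : G) • c = c → c = a)
  have hL : ∀ g : stabilizer G a, (T.bipartiteAbove r g).card =
      if g ∈ K then (if g = 1 then T.card else 0) else 1 := by
    intro g
    by_cases hgK : g ∈ K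
    · rw [if_pos hgK]
      by_cases hg1 : g = 1
      · rw [if_pos hg1, hg1, Finset.bipartiteAbove]
        congr 1
        apply Finset.filter_true_of_mem
        intro b _
        simp [r]
      · rw [if_neg hg1, Finset.card_eq_zero, Finset.bipartiteAbove, Finset.filter_eq_empty_iff]
        intro b hb hrb
        have hK := (Finset.mem_filter.mp hgK).2
        rcases hK with h | h
        · exact hg1 h
        · exact (hTmem b).mp hb (h b hrb)
    · rw [if_neg hgK]
      have hK : ¬ (g = 1 ∨ ∀ c : Ω, (g : G) • c = c → c = a) := by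
        intro h; exact hgK (Finset.mem_filter.mpr ⟨Finset.mem_univ _, h⟩)
      push Not at hK
      obtain ⟨hg1, b, hgb, hba⟩ := hK
      have hg1' : (g : G) ≠ 1 := fun h => hg1 (Subtype.ext h)
      have hga : (g : G) • a = a := g.2
      rw [Finset.card_eq_one]
      refine ⟨b, ?_⟩
      ext c
      simp only [Finset.bipartiteAbove, Finset.mem_filter, Finset.mem_singleton, hTmem, r]
      constructor
      · rintro ⟨hca, hgc⟩
        rcases fixed_of_fix2 hZ (Ne.symm hba) hg1' hga hgb hgc with h | h
        · exact absurd h hca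
        · exact h
      · rintro rfl
        exact ⟨hba, hgb⟩
  have hLsum : ∑ g : stabilizer G a, (T.bipartiteAbove r g).card =
      T.card + (Fintype.card (stabilizer G a) - K.card) := by
    simp_rw [hL]
    rw [Finset.sum_ite, Finset.filter_mem_eq_inter, Finset.univ_inter]
    rw [Finset.sum_ite_eq' K 1 (fun _ => T.card)]
    have h1K : (1 : stabilizer G a) ∈ K := Finset.mem_filter.mpr ⟨Finset.mem_univ _, Or.inl rfl⟩
    rw [if_pos h1K, Finset.sum_const, smul_eq_mul, mul_one]
    congr 1
    rw [← Finset.card_compl]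
    congr 1
    ext g
    simp
  have hRsum : (∑ b ∈ T, ((Finset.univ : Finset (stabilizer G a)).bipartiteBelow r b).card) *
      T.card = T.card * Fintype.card (stabilizer G a) := by
    rw [Finset.sum_mul, Finset.sum_congr rfl hR, Finset.sum_const, smul_eq_mul]
  have hTpos : 0 < T.card := by
    have : Nontrivial Ω := by
      obtain ⟨g, hg, a', b', hab', -⟩ := hZ.2.2.2.1
      exact ⟨⟨a', b', hab'⟩⟩
    obtain ⟨b, hb⟩ := exists_ne a
    exact Finset.card_pos.mpr ⟨b, (hTmem b).mpr hb⟩
  have hKle : K.card ≤ Fintype.card (stabilizer G a) := Finset.card_le_univ K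
  have hmain : T.card + (Fintype.card (stabilizer G a) - K.card) =
      Fintype.card (stabilizer G a) := by
    rw [← hLsum, dc]
    have := hRsum
    rw [mul_comm] at this
    exact Nat.eq_of_mul_eq_mul_left hTpos this
  have hKT : K.card = T.card := by omega
  rw [← hT, ← hKT, Nat.card_eq_fintype_card, Fintype.card_subtype]

end Cfsg.Agent.Helper5.Zassenhaus
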