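import Mathlib
import Cfsg.Prelude.Def_LieExceptional
import Cfsg.Agent.Helper5.Zassenhaus

set_option autoImplicit false

/-!
# Counting in Zassenhaus groups: group order and fixed-point-free elements
-/

namespace Cfsg.Agent.Helper5.Zassenhaus

open Cfsg MulAction

section Burnside

variable {G X : Type*} [Group G] [MulAction G X]

/-- Burnside's lemma for a transitive action. -/
theorem sum_card_fixedBy_of_pretransitive [Fintype G] [Fintype X] [Nonempty X]
    [IsPretransitive G X] [∀ g : G, Fintype (fixedBy X g)] :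
    ∑ g : G, Fintype.card (fixedBy X g) = Fintype.card G := by
  classical
  have : Fintype (Quotient (orbitRel G X)) := Fintype.ofFinite _
  have h := sum_card_fixedBy_eq_card_orbits_mul_card_group G X
  rw [h]
  have : Fintype.card (Quotient (orbitRel G X)) = 1 := by
    rw [Fintype.card_eq_one_iff]
    obtain ⟨x⟩ := ‹Nonempty X›
    refine ⟨Quotient.mk'' x, ?_⟩
    intro y
    induction y using Quotient.inductionOn' with
    | h y =>
      apply Quotient.sound'
      rw [orbitRel_apply]
      obtain ⟨g, hg⟩ := exists_smul_eq G x y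
      exact ⟨g, hg⟩
  rw [this, one_mul]

/-- Fixed points on injective pairs. -/
theorem card_fixedBy_embedding [Fintype X] [DecidableEq X] (g : G)
    [Fintype (fixedBy X g)] [Fintype (fixedBy (Fin 2 ↪ X) g)] :
    Fintype.card (fixedBy (Fin 2 ↪ X) g) =
      Fintype.card (fixedBy X g) * (Fintype.card (fixedBy X g) - 1) := by
  have e : fixedBy (Fin 2 ↪ X) g ≃ (Fin 2 ↪ fixedBy X g) :=
    { toFun := fun f => ⟨fun i => ⟨f.1 i, by
          have := f.2
          rw [mem_fixedBy] at this ⊢
          exact congrArg (fun (e : Fin 2 ↪ X) => e i) this⟩, by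
        intro i j hij
        exact f.1.injective (congrArg Subtype.val hij)⟩
      invFun := fun f => ⟨f.trans (Function.Embedding.subtype _), by
        rw [mem_fixedBy]
        ext i
        exact (f i).2⟩
      left_inv := fun f => by
        apply Subtype.ext
        ext i
        rfl
      right_inv := fun f => by
        ext i
        rfl }
  rw [Fintype.card_congr e, Fintype.card_embedding_eq, Fintype.card_fin]
  rw [Nat.descFactorial_succ, Nat.descFactorial_one]
  rw [mul_comm]

end Burnside

variable {G Ω : Type*} [Group G] [MulAction G Ω]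

theorem isPretransitive_embedding (hZ : IsZassenhausGroup G Ω) :
    IsPretransitive G (Fin 2 ↪ Ω) := hZ.2.1

theorem isPretransitive_of_zassenhaus (hZ : IsZassenhausGroup G Ω) :
    IsPretransitive G Ω := by
  have := hZ.2.1
  exact MulAction.isPretransitive_of_is_two_pretransitive

/-- The embedding `Fin 2 ↪ Ω` given by two distinct points. -/
def pairEmb {a b : Ω} (hab : a ≠ b) : Fin 2 ↪ Ω :=
  ⟨![a, b], by
    intro i j hij
    fin_cases i <;> fin_cases j <;> simp_all⟩

theorem stabilizer_pairEmb {a b : Ω} (hab : a ≠ b) :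
    stabilizer G (pairEmb hab) = stabilizer G a ⊓ stabilizer G b := by
  ext g
  rw [mem_stabilizer_iff, Subgroup.mem_inf, mem_stabilizer_iff, mem_stabilizer_iff]
  constructor
  · intro h
    constructor
    · exact congrArg (fun (e : Fin 2 ↪ Ω) => e 0) h
    · exact congrArg (fun (e : Fin 2 ↪ Ω) => e 1) h
  · rintro ⟨h1, h2⟩
    ext i
    fin_cases i
    · exact h1
    · exact h2

/-- The order of a Zassenhaus group: `|G| = n (n - 1) e`. -/
theorem card_group [Finite G] [Fintype Ω] (hZ : IsZassenhausGroup G Ω) {a b : Ω} (hab : a ≠ b) :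
    Nat.card G = Fintype.card Ω * (Fintype.card Ω - 1) *
      Nat.card (stabilizer G a ⊓ stabilizer G b : Subgroup G) := by
  classical
  have := isPretransitive_embedding hZ
  have h := index_stabilizer_of_transitive G (pairEmb hab)
  rw [stabilizer_pairEmb] at h
  have h3 : Nat.card (Fin 2 ↪ Ω) = Fintype.card Ω * (Fintype.card Ω - 1) := by
    rw [Nat.card_eq_fintype_card, Fintype.card_embedding_eq, Fintype.card_fin,
      Nat.descFactorial_succ, Nat.descFactorial_one]
    rw [mul_comm]
  rw [← Subgroup.card_mul_index (stabilizer G a ⊓ stabilizer G b : Subgroup G), h, h3]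
  ring

theorem three_le_card [Fintype Ω] (hZ : IsZassenhausGroup G Ω) : 3 ≤ Fintype.card Ω := by
  obtain ⟨g0, hg0, a', b', hab', -⟩ := hZ.2.2.2.1
  obtain ⟨c, hca, hcb⟩ := exists_third hZ hab'
  have : 2 < Fintype.card Ω := by
    rw [Fintype.two_lt_card_iff]
    exact ⟨a', b', c, hab', hca.symm, hcb.symm⟩
  omega

/-- A non-identity element has at most two fixed points. -/
theorem card_fixedBy_le_two [Fintype Ω] [DecidableEq Ω] (hZ : IsZassenhausGroup G Ω) {g : G}
    (hg : g ≠ 1) : Fintype.card (fixedBy Ω g) ≤ 2 := by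
  by_contra hcon
  push Not at hcon
  rw [Fintype.two_lt_card_iff] at hcon
  obtain ⟨x, y, z, hxy, hxz, hyz⟩ := hcon
  apply hg
  exact eq_one_of_fix3 hZ (fun h => hxy (Subtype.ext h)) (fun h => hyz (Subtype.ext h))
    (fun h => hxz (Subtype.ext h)) x.2 y.2 z.2

/-- Twice the number of fixed-point-free elements plus `(n-1)(n-2)` is `|G|`. -/
theorem card_fpf [Fintype G] [Fintype Ω] [DecidableEq Ω] [DecidableEq G]
    (hZ : IsZassenhausGroup G Ω) :
    2 * (Finset.univ.filter (fun g : G => ∀ c : Ω, g • c ≠ c)).card +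
      (Fintype.card Ω - 1) * (Fintype.card Ω - 2) = Fintype.card G := by
  have hn := three_le_card hZ
  have htr := isPretransitive_of_zassenhaus hZ
  have htr2 := isPretransitive_embedding hZ
  have : Nonempty Ω := by
    rw [← Fintype.card_pos_iff]; omega
  have hne2 : Nonempty (Fin 2 ↪ Ω) := by
    obtain ⟨g0, hg0, a', b', hab', -⟩ := hZ.2.2.2.1
    exact ⟨pairEmb hab'⟩
  have hA := sum_card_fixedBy_of_pretransitive (G := G) (X := Ω)
  have hB := sum_card_fixedBy_of_pretransitive (G := G) (X := (Fin 2 ↪ Ω))
  simp_rw [card_fixedBy_embedding] at hB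
  -- integer identity
  have key : ∀ g : G, ((Fintype.card (fixedBy Ω g) * (Fintype.card (fixedBy Ω g) - 1) : ℕ) : ℤ)
      - 2 * (Fintype.card (fixedBy Ω g) : ℤ) + 2 =
      if g = 1 then ((Fintype.card Ω : ℤ) - 1) * ((Fintype.card Ω : ℤ) - 2) else
        (if (∀ c : Ω, g • c ≠ c) then 2 else 0) := by
    intro g
    by_cases hg : g = 1
    · rw [if_pos hg]
      have : Fintype.card (fixedBy Ω g) = Fintype.card Ω := by
        apply Fintype.card_of_subtype (Finset.univ)
        intro x
        simp [hg]
      rw [this]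
      have h1 : 1 ≤ Fintype.card Ω := by omega
      push_cast [Nat.cast_sub h1]
      ring
    · rw [if_neg hg]
      have hle := card_fixedBy_le_two hZ hg
      by_cases hf : ∀ c : Ω, g • c ≠ c
      · rw [if_pos hf]
        have : Fintype.card (fixedBy Ω g) = 0 := by
          rw [Fintype.card_eq_zero_iff]
          exact ⟨fun x => hf x.1 x.2⟩
        rw [this]
        simp
      · rw [if_neg hf]
        push Not at hf
        obtain ⟨c, hc⟩ := hf
        have hpos : 0 < Fintype.card (fixedBy Ω g) := Fintype.card_pos_iff.mpr ⟨⟨c, hc⟩⟩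
        have : Fintype.card (fixedBy Ω g) = 1 ∨ Fintype.card (fixedBy Ω g) = 2 := by omega
        rcases this with h | h <;> rw [h] <;> norm_num
  have hsum := Finset.sum_congr (s₁ := (Finset.univ : Finset G)) rfl (fun g _ => key g)
  rw [Finset.sum_add_distrib, Finset.sum_sub_distrib, ← Nat.cast_sum, hB, ← Finset.mul_sum,
    ← Nat.cast_sum, hA] at hsum
  rw [Finset.sum_ite, Finset.sum_const, Finset.sum_ite, Finset.sum_const, Finset.sum_const_zero]
    at hsum
  have h1 : (Finset.univ.filter (fun g : G => g = 1)).card = 1 := by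
    rw [Finset.filter_eq' , if_pos (Finset.mem_univ _), Finset.card_singleton]
  rw [h1] at hsum
  have h2 : (Finset.filter (fun g : G => ∀ c : Ω, g • c ≠ c)
      (Finset.filter (fun g : G => ¬ g = 1) Finset.univ)) =
      Finset.univ.filter (fun g : G => ∀ c : Ω, g • c ≠ c) := by
    ext g
    simp only [Finset.mem_filter, Finset.mem_univ, true_and, and_iff_right_iff_imp]
    intro hg h1
    obtain ⟨c⟩ := ‹Nonempty Ω›
    exact hg c (by rw [h1, one_smul])
  rw [h2] at hsum
  simp only [Finset.sum_const, nsmul_eq_mul, Nat.cast_one, one_mul,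
    add_zero, Finset.card_univ] at hsum
  have h1' : 1 ≤ Fintype.card Ω := by omega
  have h2' : 2 ≤ Fintype.card Ω := by omega
  zify [h1', h2']
  linarith

end Cfsg.Agent.Helper5.Zassenhaus
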