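import Mathlib
import Cfsg.Agent.Helper1.RankOneQ

/-!
The partition theorem (Peterfalvi 7.11), part G: in a Frobenius group the index of the kernel
divides the order of the kernel minus one; the kernel is nilpotent (Thompson).
-/

set_option autoImplicit false
set_option linter.unusedSectionVars false

namespace Cfsg.Agent.Helper5.Part

/-- If `k` divides the index of every stabilizer of an action of a group on a finite type, then
`k` divides the cardinality of the type. -/
theorem dvd_card_of_forall_dvd_index_stabilizer {N X : Type*} [Group N] [MulAction N X] [Finite X]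
    (k : ℕ) (h : ∀ x : X, k ∣ (MulAction.stabilizer N x).index) : k ∣ Nat.card X := by
  classical
  have e := MulAction.selfEquivSigmaOrbitsQuotientStabilizer N X
  haveI : Fintype (Quotient (MulAction.orbitRel N X)) := Fintype.ofFinite _
  haveI : ∀ ω : Quotient (MulAction.orbitRel N X), Finite (N ⧸ MulAction.stabilizer N ω.out) := by
    intro ω
    apply Nat.finite_of_card_ne_zero
    rw [← Subgroup.index_eq_card]
    intro h0
    have : Finite (MulAction.orbit N ω.out) := inferInstance
    have h1 := MulAction.index_stabilizer N ω.out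
    rw [h0] at h1
    have : (MulAction.orbit N ω.out).ncard ≠ 0 :=
      Set.ncard_ne_zero_of_mem (MulAction.mem_orbit_self _)
    exact this h1.symm
  rw [Nat.card_congr e, Nat.card_sigma]
  apply Finset.dvd_sum
  intro ω _
  rw [← Subgroup.index_eq_card]
  exact h _

/-- in a Frobenius group the index of the kernel divides the order of the kernel minus one -/
theorem frob_index_dvd {G : Type*} [Group G] [Finite G] (H L : Subgroup G)
    (hHn : ∀ x ∈ L, ∀ h ∈ H, x * h * x⁻¹ ∈ H)
    (hF : ∀ x ∈ L, x ∉ H → ∀ h ∈ H, x * h = h * x → h = 1) :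
    (H.subgroupOf L).index ∣ Nat.card H - 1 := by
  classical
  let X := {x : G // x ∈ H ∧ x ≠ 1}
  let act : MulAction L X :=
    { smul := fun n x => ⟨(n : G) * x.1 * (n : G)⁻¹, hHn n n.2 x.1 x.2.1, by
          intro h
          apply x.2.2
          have := congrArg (fun z => (n : G)⁻¹ * z * (n : G)) h
          simpa [mul_assoc] using this⟩
      one_smul := by
        intro x
        apply Subtype.ext
        show ((1 : L) : G) * x.1 * ((1 : L) : G)⁻¹ = x.1
        simp
      mul_smul := by
        intro a b x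
        apply Subtype.ext
        show ((a * b : L) : G) * x.1 * ((a * b : L) : G)⁻¹
          = (a : G) * ((b : G) * x.1 * (b : G)⁻¹) * (a : G)⁻¹
        simp [mul_assoc] }
  have hstab : ∀ x : X, MulAction.stabilizer L x ≤ H.subgroupOf L := by
    intro x n hn
    rw [MulAction.mem_stabilizer_iff] at hn
    rw [Subgroup.mem_subgroupOf]
    by_contra hnH
    have h1 : (n : G) * x.1 * (n : G)⁻¹ = x.1 := congrArg Subtype.val hn
    have h2 : (n : G) * x.1 = x.1 * n := by
      calc (n : G) * x.1 = (n : G) * x.1 * (n : G)⁻¹ * n := by group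
        _ = x.1 * n := by rw [h1]
    exact x.2.2 (hF n n.2 hnH x.1 x.2.1 h2)
  have hdvd := dvd_card_of_forall_dvd_index_stabilizer (N := L) (X := X)
    (H.subgroupOf L).index (fun x => Subgroup.index_dvd_of_le (hstab x))
  have hcard : Nat.card X = Nat.card H - 1 := by
    have e : X ≃ {a : H // a ≠ 1} :=
      { toFun := fun x => ⟨⟨x.1, x.2.1⟩, fun h => x.2.2 (congrArg Subtype.val h)⟩
        invFun := fun a => ⟨a.1.1, a.1.2, fun h => a.2 (Subtype.ext h)⟩
        left_inv := fun x => rfl
        right_inv := fun a => rfl }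
    rw [Nat.card_congr e]
    haveI : Fintype H := Fintype.ofFinite _
    rw [Nat.card_eq_fintype_card, Nat.card_eq_fintype_card, Fintype.card_subtype_compl,
      Fintype.card_subtype_eq]
  rw [← hcard]
  exact hdvd

/-- the kernel of a Frobenius group is nilpotent (Thompson) -/
theorem frob_kernel_nilpotent {G : Type*} [Group G] [Finite G] (H L : Subgroup G) (hlt : H < L)
    (hHn : ∀ x ∈ L, ∀ h ∈ H, x * h * x⁻¹ ∈ H)
    (hF : ∀ x ∈ L, x ∉ H → ∀ h ∈ H, x * h = h * x → h = 1) : Group.IsNilpotent H := by
  classical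
  obtain ⟨x, hxL, hxH⟩ := SetLike.exists_of_lt hlt
  have hex : ∃ n : ℕ, 0 < n ∧ x ^ n ∈ H :=
    ⟨orderOf x, orderOf_pos x, by rw [pow_orderOf_eq_one]; exact H.one_mem⟩
  set n₀ := Nat.find hex with hn₀
  have hspec : 0 < n₀ ∧ x ^ n₀ ∈ H := Nat.find_spec hex
  obtain ⟨hn₀pos, hn₀mem⟩ := hspec
  have hn₀1 : n₀ ≠ 1 := by
    intro h
    rw [h, pow_one] at hn₀mem
    exact hxH hn₀mem
  set r := Nat.minFac n₀ with hr
  have hrp : r.Prime := Nat.minFac_prime hn₀1
  obtain ⟨m, hm⟩ := Nat.minFac_dvd n₀
  have hmpos : 0 < m := by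
    rcases Nat.eq_zero_or_pos m with h | h
    · rw [h, mul_zero] at hm
      omega
    · exact h
  have hmlt : m < n₀ := by
    rw [hm]
    have := hrp.two_le
    nlinarith
  set y := x ^ m with hy
  have hyL : y ∈ L := L.pow_mem hxL m
  have hyH : y ∉ H := by
    intro h
    exact Nat.find_min hex hmlt ⟨hmpos, h⟩
  have hyr : y ^ r ∈ H := by
    rw [hy, ← pow_mul, mul_comm, ← hm]
    exact hn₀mem
  have hyr1 : y ^ r = 1 := by
    apply hF y hyL hyH (y ^ r) hyr
    rw [← pow_succ', ← pow_succ]
  have hyN : y ∈ Subgroup.normalizer (H : Set G) := by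
    rw [Subgroup.mem_normalizer_iff]
    intro k
    constructor
    · intro hk
      exact hHn y hyL k hk
    · intro hk
      have := hHn y⁻¹ (L.inv_mem hyL) _ hk
      have e : y⁻¹ * (y * k * y⁻¹) * y⁻¹⁻¹ = k := by group
      rwa [e] at this
  have hfpf : H ⊓ Subgroup.centralizer {y} = ⊥ := by
    rw [Subgroup.eq_bot_iff_forall]
    intro h hh
    obtain ⟨hhH, hhC⟩ := Subgroup.mem_inf.mp hh
    rw [Subgroup.mem_centralizer_singleton_iff] at hhC
    exact hF y hyL hyH h hhH hhC.symm
  exact Cfsg.Agent.Helper1.RankOneQ.nilpotent_of_fpf_conj H hrp hyN hyr1 hfpf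

end Cfsg.Agent.Helper5.Part
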