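import Mathlib
import Cfsg.Agent.Helper8.FrobQuot

/-!
Sibley's coherence theorem (Peterfalvi 6.8), part E: group-theoretic facts about Frobenius kernels:
fixed-point-freeness passes to quotients, and orbit counting on a central section.
-/

set_option autoImplicit false
set_option linter.unusedSectionVars false
set_option linter.style.haveILetI false

namespace Cfsg.Agent.Helper5.Sib

section Fpf

variable {L : Type*} [Group L] [Finite L]

/-- If the elements outside `K` centralise no non-identity element of `K`, then they also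
centralise no non-identity element of `K / N` for a normal subgroup `N ≤ K` of `L`. -/
theorem fpf_quot (K N : Subgroup L) [hK : K.Normal] [hN : N.Normal] (hNK : N ≤ K)
    (hF : ∀ x : L, x ∉ K → ∀ k ∈ K, x * k = k * x → k = 1) :
    ∀ k ∈ K, k ∉ N → ∀ x : L, x * k * x⁻¹ * k⁻¹ ∈ N → x ∈ K := by
  classical
  intro k hk hkN x hx
  by_contra hxK
  apply hkN
  -- the map `n ↦ (k n)⁻¹ x (k n) x⁻¹` from `N` to `N`
  have hmem : ∀ n : N, (k * (n : L))⁻¹ * x * (k * n) * x⁻¹ ∈ N := by
    intro n
    have e : (k * (n : L))⁻¹ * x * (k * n) * x⁻¹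
        = (n : L)⁻¹ * (k⁻¹ * (x * k * x⁻¹ * k⁻¹) * k⁻¹⁻¹) * (x * n * x⁻¹) := by group
    rw [e]
    exact N.mul_mem (N.mul_mem (N.inv_mem n.2) (hN.conj_mem _ hx k⁻¹)) (hN.conj_mem _ n.2 x)
  let f : N → N := fun n => ⟨(k * (n : L))⁻¹ * x * (k * n) * x⁻¹, hmem n⟩
  have hinj : Function.Injective f := by
    intro n₁ n₂ h12
    have h1 : (k * (n₁ : L))⁻¹ * x * (k * n₁) * x⁻¹ = (k * (n₂ : L))⁻¹ * x * (k * n₂) * x⁻¹ :=
      congrArg Subtype.val h12
    set y₁ : L := k * n₁ with hy₁
    set y₂ : L := k * n₂ with hy₂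
    have h3 : y₁⁻¹ * x * y₁ = y₂⁻¹ * x * y₂ := by
      have := congrArg (· * x) h1
      simpa [mul_assoc] using this
    have h2 : x * (y₂ * y₁⁻¹) = (y₂ * y₁⁻¹) * x := by
      calc x * (y₂ * y₁⁻¹) = y₂ * (y₂⁻¹ * x * y₂) * y₁⁻¹ := by group
        _ = y₂ * (y₁⁻¹ * x * y₁) * y₁⁻¹ := by rw [h3]
        _ = (y₂ * y₁⁻¹) * x := by group
    have hy₁K : y₁ ∈ K := K.mul_mem hk (hNK n₁.2)
    have hy₂K : y₂ ∈ K := K.mul_mem hk (hNK n₂.2)
    have h4 := hF x hxK _ (K.mul_mem hy₂K (K.inv_mem hy₁K)) h2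
    have h5 : y₂ = y₁ := mul_inv_eq_one.mp h4
    apply Subtype.ext
    have h6 : k * (n₂ : L) = k * (n₁ : L) := h5
    exact (mul_left_cancel h6).symm
  have hsurj : Function.Surjective f := Finite.surjective_of_injective hinj
  obtain ⟨n, hn⟩ := hsurj 1
  have hn' : (k * (n : L))⁻¹ * x * (k * n) * x⁻¹ = 1 := congrArg Subtype.val hn
  have h7 : x * (k * (n : L)) = (k * (n : L)) * x := by
    have : (k * (n : L))⁻¹ * x * (k * n) = x := by
      have := congrArg (· * x) hn'
      simpa [mul_assoc] using this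
    calc x * (k * (n : L)) = (k * (n : L)) * ((k * (n : L))⁻¹ * x * (k * n)) := by group
      _ = (k * (n : L)) * x := by rw [this]
  have h8 := hF x hxK _ (K.mul_mem hk (hNK n.2)) h7
  have h9 : k = (n : L)⁻¹ := eq_inv_of_mul_eq_one_left h8
  rw [h9]
  exact N.inv_mem n.2

end Fpf

section Count

open Cfsg.Agent.Helper8

variable {L : Type*} [Group L] [Finite L]

/-- **Counting in a Frobenius section on which the kernel acts trivially.** -/
theorem index_dvd_relIndex_sub_one_of_central (K N H₁ : Subgroup L) [hK : K.Normal] [hN : N.Normal]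
    [hH : H₁.Normal] (hNK : N ≤ K) (hcomm : ∀ x ∈ K, ∀ k ∈ N, x * k * x⁻¹ * k⁻¹ ∈ H₁)
    (hfrob : ∀ k ∈ K, k ∉ H₁ → ∀ x : L, x * k * x⁻¹ * k⁻¹ ∈ H₁ → x ∈ K) :
    K.index ∣ H₁.relIndex N - 1 := by
  classical
  haveI : Fintype L := Fintype.ofFinite L
  letI := conjQuotAction N H₁
  haveI : Fintype (↥N ⧸ H₁.subgroupOf N) := Fintype.ofFinite _
  haveI : ∀ x : L, Fintype (MulAction.fixedBy (↥N ⧸ H₁.subgroupOf N) x) :=
    fun x => Fintype.ofFinite _
  haveI : Fintype (Quotient (MulAction.orbitRel L (↥N ⧸ H₁.subgroupOf N))) := Fintype.ofFinite _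
  have hB := MulAction.sum_card_fixedBy_eq_card_orbits_mul_card_group L (↥N ⧸ H₁.subgroupOf N)
  have hsmul : ∀ (x : L) (k : N), x • (QuotientGroup.mk k : ↥N ⧸ H₁.subgroupOf N)
      = QuotientGroup.mk (MulAut.conjNormal x k) := fun x k => rfl
  have hfix_iff : ∀ (x : L) (k : N), x • (QuotientGroup.mk k : ↥N ⧸ H₁.subgroupOf N)
      = QuotientGroup.mk k ↔ x * k * x⁻¹ * (k : L)⁻¹ ∈ H₁ := by
    intro x k
    rw [hsmul, QuotientGroup.eq, Subgroup.mem_subgroupOf]
    have e1 : (((MulAut.conjNormal x k)⁻¹ * k : N) : L) = (x * k * x⁻¹)⁻¹ * k := by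
      rw [Subgroup.coe_mul, Subgroup.coe_inv, MulAut.conjNormal_apply]
    rw [e1]
    constructor
    · intro h
      have h2 := hH.conj_mem _ (H₁.inv_mem h) (k : L)
      have e2 : (k : L) * ((x * k * x⁻¹)⁻¹ * k)⁻¹ * (k : L)⁻¹ = x * k * x⁻¹ * (k : L)⁻¹ := by group
      rwa [e2] at h2
    · intro h
      have h2 := hH.conj_mem _ (H₁.inv_mem h) (k : L)⁻¹
      have e2 : (k : L)⁻¹ * (x * k * x⁻¹ * (k : L)⁻¹)⁻¹ * (k : L)⁻¹⁻¹ = (x * k * x⁻¹)⁻¹ * k := by
        group
      rwa [e2] at h2
  have hfixK : ∀ x ∈ K, Fintype.card (MulAction.fixedBy (↥N ⧸ H₁.subgroupOf N) x)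
      = H₁.relIndex N := by
    intro x hx
    have huniv : MulAction.fixedBy (↥N ⧸ H₁.subgroupOf N) x = Set.univ := by
      ext v
      simp only [Set.mem_univ, iff_true, MulAction.mem_fixedBy]
      induction v using QuotientGroup.induction_on with
      | H k =>
        rw [hfix_iff]
        exact hcomm x hx k k.2
    rw [← Nat.card_eq_fintype_card, huniv, Nat.card_coe_set_eq, Set.ncard_univ]
    rfl
  have hfixNK : ∀ x ∉ K, Fintype.card (MulAction.fixedBy (↥N ⧸ H₁.subgroupOf N) x) = 1 := by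
    intro x hx
    have hone : MulAction.fixedBy (↥N ⧸ H₁.subgroupOf N) x = {1} := by
      ext v
      simp only [Set.mem_singleton_iff, MulAction.mem_fixedBy]
      induction v using QuotientGroup.induction_on with
      | H k =>
        rw [hfix_iff]
        constructor
        · intro h
          by_contra hne
          have hk : (k : L) ∉ H₁ := by
            intro hk
            apply hne
            exact (QuotientGroup.eq_one_iff k).mpr (Subgroup.mem_subgroupOf.mpr hk)
          exact hx (hfrob k (hNK k.2) hk x h)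
        · intro h
          have hk : (k : L) ∈ H₁ :=
            Subgroup.mem_subgroupOf.mp ((QuotientGroup.eq_one_iff k).mp h)
          exact H₁.mul_mem (hH.conj_mem _ hk x) (H₁.inv_mem hk)
    rw [← Nat.card_eq_fintype_card, hone, Nat.card_coe_set_eq, Set.ncard_singleton]
  have hsum : ∑ x : L, Fintype.card (MulAction.fixedBy (↥N ⧸ H₁.subgroupOf N) x)
      = Nat.card K * H₁.relIndex N + (Nat.card L - Nat.card K) := by
    have h1 : ∀ x : L, Fintype.card (MulAction.fixedBy (↥N ⧸ H₁.subgroupOf N) x)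
        = if x ∈ K then H₁.relIndex N else 1 := by
      intro x
      by_cases hx : x ∈ K
      · rw [if_pos hx, hfixK x hx]
      · rw [if_neg hx, hfixNK x hx]
    rw [Finset.sum_congr rfl (fun x _ => h1 x), Finset.sum_ite, Finset.sum_const, Finset.sum_const,
      smul_eq_mul, smul_eq_mul, mul_one]
    have hcK : (Finset.univ.filter (fun x : L => x ∈ K)).card = Nat.card K := by
      rw [Nat.card_eq_fintype_card, Fintype.card_subtype]
    have hcNK : (Finset.univ.filter (fun x : L => ¬ x ∈ K)).card = Nat.card L - Nat.card K := by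
      rw [← hcK, Finset.filter_not, Finset.card_sdiff_of_subset (Finset.filter_subset _ _),
        Finset.card_univ, Nat.card_eq_fintype_card]
    rw [hcK, hcNK]
  rw [hsum, ← Nat.card_eq_fintype_card (α := L)] at hB
  have hL : Nat.card L = K.index * Nat.card K := (Subgroup.index_mul_card K).symm
  have hκ : 0 < Nat.card K := Nat.card_pos
  have he : 0 < K.index := Nat.pos_of_ne_zero Subgroup.index_ne_zero_of_finite
  have hr : 1 ≤ H₁.relIndex N :=
    Nat.one_le_iff_ne_zero.mpr (Subgroup.index_ne_zero_of_finite (H := H₁.subgroupOf N))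
  set c := Fintype.card (Quotient (MulAction.orbitRel L (↥N ⧸ H₁.subgroupOf N))) with hc
  set r := H₁.relIndex N with hrdef
  set e := K.index with hedef
  set κ := Nat.card K with hκdef
  rw [hL] at hB
  have h2 : e * κ - κ = (e - 1) * κ := by
    rw [Nat.sub_mul, one_mul]
  rw [h2] at hB
  have h3 : κ * (r + (e - 1)) = κ * (c * e) := by
    calc κ * (r + (e - 1)) = κ * r + (e - 1) * κ := by ring
      _ = c * (e * κ) := hB
      _ = κ * (c * e) := by ring
  have h4 : r + (e - 1) = c * e := Nat.eq_of_mul_eq_mul_left hκ h3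
  have h5 : (r - 1) + e = c * e := by omega
  have h6 : e ∣ (r - 1) + e := ⟨c, by rw [h5, mul_comm]⟩
  exact (Nat.dvd_add_left (dvd_refl e)).mp h6

/-- the index of a Frobenius kernel divides `|Z| - 1` for every normal subgroup `Z` of `L` central
in the kernel -/
theorem index_dvd_card_sub_one (K Z : Subgroup L) [hK : K.Normal] [hZ : Z.Normal] (hZK : Z ≤ K)
    (hZc : ∀ z ∈ Z, ∀ k ∈ K, z * k = k * z)
    (hF : ∀ x : L, x ∉ K → ∀ k ∈ K, x * k = k * x → k = 1) :
    K.index ∣ Nat.card Z - 1 := by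
  have h := index_dvd_relIndex_sub_one_of_central K Z ⊥ hZK
    (fun x hx k hk => by
      rw [Subgroup.mem_bot, ← hZc k hk x hx]
      group)
    (fun k hk hk1 x hx => by
      by_contra hxK
      apply hk1
      rw [Subgroup.mem_bot] at hx ⊢
      apply hF x hxK k hk
      have : x * k * x⁻¹ = k := by
        have := congrArg (· * k) hx
        simpa [mul_assoc] using this
      calc x * k = (x * k * x⁻¹) * x := by group
        _ = k * x := by rw [this])
  rwa [Subgroup.relIndex_bot_left] at h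

end Count

end Cfsg.Agent.Helper5.Sib
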