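import Mathlib
import Cfsg.Prelude.Def_Characters
import Cfsg.Prelude.Def_OddOrderChar
import Cfsg.Prelude.Def_OddOrderLocal
import Cfsg.Agent.S1514
import Cfsg.Agent.Helper8.FrobKernel2
import Cfsg.Agent.Helper8.InducedSet
import Cfsg.Agent.Helper24.TIInduction
import Cfsg.Agent.Helper24.Generalized
import Cfsg.Agent.Helper24.RealChar
import Cfsg.Agent.Helper5.IndFun
import Cfsg.Agent.Helper8.CoherenceStep

/-!
Sibley's coherence theorem (Peterfalvi 6.8), part A: Frobenius basics and the coherence system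
attached to a Frobenius group with trivial-intersection kernel.
-/

set_option autoImplicit false
set_option linter.unusedSectionVars false

namespace Cfsg.Agent.Helper5.Sib

open Cfsg

section Frob

variable {G : Type*} [Group G] [Finite G]

/-- In `H ⋊ W` with `W` acting without fixed points, every element outside `H` is `H`-conjugate
to an element of `W`, hence centralises no non-identity element of `H`. -/
theorem frob_of_compl (H L W : Subgroup G) (hHL : H ≤ L) (hWL : W ≤ L)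
    (hHn : ∀ x ∈ L, ∀ h ∈ H, x * h * x⁻¹ ∈ H) (hsup : H ⊔ W = L)
    (hfpf : ∀ w ∈ W, w ≠ 1 → ∀ h ∈ H, w * h = h * w → h = 1) :
    ∀ x ∈ L, x ∉ H → ∀ h ∈ H, x * h = h * x → h = 1 := by
  classical
  intro x hxL hxH h hh hcomm
  -- write `x = h₀ * w`
  have hxsup : x ∈ H ⊔ W := by rw [hsup]; exact hxL
  have hnorm : W ≤ Subgroup.normalizer (H : Set G) := by
    intro w hw
    rw [Subgroup.mem_normalizer_iff]
    intro k
    constructor
    · intro hk
      exact hHn w (hWL hw) k hk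
    · intro hk
      have := hHn w⁻¹ (L.inv_mem (hWL hw)) _ hk
      have e : w⁻¹ * (w * k * w⁻¹) * w⁻¹⁻¹ = k := by group
      rwa [e] at this
  obtain ⟨h₀, hh₀, w, hw, rfl⟩ : ∃ h₀ ∈ H, ∃ w ∈ W, h₀ * w = x := by
    have h1 : x ∈ ((H ⊔ W : Subgroup G) : Set G) := hxsup
    rw [Subgroup.coe_mul_of_right_le_normalizer_left H W hnorm] at h1
    obtain ⟨a, ha, b, hb, hab⟩ := h1
    exact ⟨a, ha, b, hb, hab⟩
  have hw1 : w ≠ 1 := by
    rintro rfl
    apply hxH
    simpa using hh₀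
  -- the map `g ↦ g⁻¹ * w * g * w⁻¹` is injective on `H`
  have hmem : ∀ g : H, (g : G)⁻¹ * w * g * w⁻¹ ∈ H := by
    intro g
    have h1 : w * (g : G) * w⁻¹ ∈ H := hHn w (hWL hw) g g.2
    have e : (g : G)⁻¹ * w * g * w⁻¹ = (g : G)⁻¹ * (w * g * w⁻¹) := by group
    rw [e]
    exact H.mul_mem (H.inv_mem g.2) h1
  let f : H → H := fun g => ⟨(g : G)⁻¹ * w * g * w⁻¹, hmem g⟩
  have hinj : Function.Injective f := by
    intro g₁ g₂ h12
    have h1 : (g₁ : G)⁻¹ * w * g₁ * w⁻¹ = (g₂ : G)⁻¹ * w * g₂ * w⁻¹ := congrArg Subtype.val h12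
    have h2 : w * ((g₂ : G) * (g₁ : G)⁻¹) = ((g₂ : G) * (g₁ : G)⁻¹) * w := by
      have h3 : (g₁ : G)⁻¹ * w * g₁ = (g₂ : G)⁻¹ * w * g₂ := by
        have := congrArg (· * w) h1
        simpa [mul_assoc] using this
      calc w * ((g₂ : G) * (g₁ : G)⁻¹)
          = (g₂ : G) * ((g₂ : G)⁻¹ * w * g₂) * (g₁ : G)⁻¹ := by group
        _ = (g₂ : G) * ((g₁ : G)⁻¹ * w * g₁) * (g₁ : G)⁻¹ := by rw [h3]
        _ = ((g₂ : G) * (g₁ : G)⁻¹) * w := by group
    have h4 := hfpf w hw hw1 _ (H.mul_mem g₂.2 (H.inv_mem g₁.2)) h2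
    apply Subtype.ext
    have : (g₂ : G) = g₁ := by
      have := mul_inv_eq_one.mp h4
      exact this
    exact this.symm
  have hsurj : Function.Surjective f := Finite.surjective_of_injective hinj
  obtain ⟨g, hg⟩ := hsurj ⟨h₀, hh₀⟩
  have hg' : (g : G)⁻¹ * w * g * w⁻¹ = h₀ := congrArg Subtype.val hg
  have hx : h₀ * w = (g : G)⁻¹ * w * g := by
    rw [← hg']
    group
  -- transport the commutation
  rw [hx] at hcomm
  have h5 : w * ((g : G) * h * (g : G)⁻¹) = ((g : G) * h * (g : G)⁻¹) * w := by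
    calc w * ((g : G) * h * (g : G)⁻¹)
        = (g : G) * (((g : G)⁻¹ * w * g) * h) * (g : G)⁻¹ := by group
      _ = (g : G) * (h * ((g : G)⁻¹ * w * g)) * (g : G)⁻¹ := by rw [hcomm]
      _ = ((g : G) * h * (g : G)⁻¹) * w := by group
  have h6 := hfpf w hw hw1 _ (H.mul_mem (H.mul_mem g.2 hh) (H.inv_mem g.2)) h5
  have : h = (g : G)⁻¹ * ((g : G) * h * (g : G)⁻¹) * g := by group
  rw [this, h6]
  group

end Frob

section System

variable {G : Type*} [Group G] [Fintype G]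

/-- induction from the normaliser of a TI subgroup is an isometry on class functions supported on
the subgroup -/
theorem ti_isometry (H L : Subgroup G) [Fintype L] (hTI : Cfsg.IsTISubset (H : Set G))
    (hN : Subgroup.normalizer (H : Set G) = L) (ψ θ : L → ℂ) (hθ : Cfsg.IsClassFunction L θ)
    (hψH : ∀ x : L, (x : G) ∉ H → ψ x = 0) (hθH : ∀ x : L, (x : G) ∉ H → θ x = 0)
    (hψ1 : ψ 1 = 0) :
    Cfsg.classInner (Cfsg.indFun L ψ) (Cfsg.indFun L θ) = Cfsg.classInner ψ θ := by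
  subst hN
  exact Cfsg.Agent.Helper24.classInner_indFun_of_ti (H : Set G) hTI ψ θ hθ hψH hθH hψ1

/-- the value of an induced class function on the TI subgroup -/
theorem ti_apply (H L : Subgroup G) [Fintype L] (hTI : Cfsg.IsTISubset (H : Set G))
    (hN : Subgroup.normalizer (H : Set G) = L) (ψ : L → ℂ) (hψ : Cfsg.IsClassFunction L ψ)
    (hψH : ∀ x : L, (x : G) ∉ H → ψ x = 0) (t : L) (ht : (t : G) ∈ H) (ht1 : t ≠ 1) :
    Cfsg.indFun L ψ t = ψ t := by
  subst hN
  exact Cfsg.Agent.Helper24.indFun_apply_of_ti (H : Set G) hTI ψ hψ hψH t ht ht1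

variable (H L : Subgroup G) [Fintype L] [hK : (H.subgroupOf L).Normal]

/-- members of the integer span of the induced characters vanish off the kernel -/
theorem zspan_vanish {f : L → ℂ} (hf : f ∈ Cfsg.zspan (Cfsg.inducedIrrAbove (H.subgroupOf L) ⊥))
    (x : L) (hx : (x : G) ∉ H) : f x = 0 := by
  have hx' : x ∉ H.subgroupOf L := fun h => hx (Subgroup.mem_subgroupOf.mp h)
  induction hf using Submodule.span_induction with
  | mem φ hφ =>
    obtain ⟨θ, -, -, -, rfl⟩ := hφ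
    exact Cfsg.Agent.Helper8.indFun_eq_zero_of_not_mem _ θ hx'
  | zero => rfl
  | add a b _ _ ha hb => rw [Pi.add_apply, ha, hb, add_zero]
  | smul n a _ ha => rw [Pi.smul_apply, ha, smul_zero]

/-- members of the set of induced characters are irreducible (Frobenius kernel) -/
theorem irr_of_mem (hF : ∀ x ∈ L, x ∉ H → ∀ h ∈ H, x * h = h * x → h = 1)
    {φ : L → ℂ} (hφ : φ ∈ Cfsg.inducedIrrAbove (H.subgroupOf L) ⊥) :
    Cfsg.IsIrrCharacter L φ := by
  obtain ⟨θ, hθ, hne, -, rfl⟩ := hφ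
  apply Cfsg.Agent.Helper8.FrobKer.isIrr_ind (H.subgroupOf L) _ θ hθ hne
  intro n hn k hk hkn
  have hn' : (n : G) ∉ H := fun h => hn (Subgroup.mem_subgroupOf.mpr h)
  have hk' : (k : G) ∈ H := Subgroup.mem_subgroupOf.mp hk
  have h1 : (n : G) * (k : G) = (k : G) * (n : G) := by
    have := congrArg Subtype.val hkn
    simpa using this.symm
  have := hF n n.2 hn' k hk' h1
  exact Subtype.ext this

/-- the coherence system of a Frobenius group with TI kernel -/
theorem exists_cohSystem (hodd : Odd (Nat.card L)) (hlt : H < L) (hH1 : H ≠ ⊥)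
    (hsolv : Group.IsSolvable (H.subgroupOf L))
    (hF : ∀ x ∈ L, x ∉ H → ∀ h ∈ H, x * h = h * x → h = 1)
    (hTI : Cfsg.IsTISubset (H : Set G)) (hN : Subgroup.normalizer (H : Set G) = L) :
    ∃ R : (L → ℂ) → Finset (G → ℂ),
      Cfsg.IsCoherenceSystem (Cfsg.inducedIrrAbove (H.subgroupOf L) ⊥)
        (fun α : L → ℂ => Cfsg.indFun L α) R := by
  classical
  set K := H.subgroupOf L with hKdef
  set S := Cfsg.inducedIrrAbove K ⊥ with hSdef
  have hirr : ∀ χ ∈ S, Cfsg.IsIrrCharacter L χ := fun χ hχ => irr_of_mem H L hF hχ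
  have hKbot : (⊥ : Subgroup L) < K := by
    rw [bot_lt_iff_ne_bot]
    intro h
    apply hH1
    rw [hKdef, Subgroup.subgroupOf_eq_bot] at h
    rw [← disjoint_self]
    exact h.mono_right hlt.le
  have hKtop : ∃ x : L, x ∉ K := by
    obtain ⟨x, hxL, hxH⟩ := SetLike.exists_of_lt hlt
    exact ⟨⟨x, hxL⟩, fun h => hxH (Subgroup.mem_subgroupOf.mp h)⟩
  have hSne : S.Nonempty := by
    haveI : Fintype K := Fintype.ofFinite K
    haveI : Fintype (Cfsg.IrrCharacter K) :=
      @Fintype.ofFinite _ (Cfsg.Agent.Helper23.finite_irrCharacter K)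
    obtain ⟨θ, hθ, _⟩ := Cfsg.Agent.Helper8.exists_linear_irrAbove K hsolv hKbot
    exact ⟨_, (Cfsg.Agent.Helper8.mem_inducedIrrAbove_iff K).mpr ⟨θ, hθ, rfl⟩⟩
  have hconj : ∀ χ ∈ S, Cfsg.conjFun χ ∈ S ∧ Cfsg.conjFun χ ≠ χ := by
    intro χ hχ
    refine ⟨Cfsg.Agent.Helper8.inducedIrrAbove_conj_mem K ⊥ hχ, ?_⟩
    intro hc
    have hreal : ∀ g : L, (χ g).im = 0 := by
      intro g
      have h1 : (starRingEnd ℂ) (χ g) = χ g := congrFun hc g
      exact Complex.conj_eq_iff_im.mp h1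
    have h1 : χ = fun _ => 1 :=
      Cfsg.Agent.Helper24.irr_eq_one_of_real_of_odd hodd ⟨χ, hirr χ hχ⟩ hreal
    obtain ⟨x, hx⟩ := hKtop
    obtain ⟨θ, -, -, -, rfl⟩ := hχ
    have h2 := Cfsg.Agent.Helper8.indFun_eq_zero_of_not_mem K θ hx
    have h3 := congrFun h1 x
    rw [h2] at h3
    exact zero_ne_one h3
  have hgenS : ∀ ξ ∈ S, Cfsg.IsGeneralizedCharacter L ξ := fun ξ hξ =>
    Cfsg.Agent.Helper24.IsIrrCharacter.isGeneralizedCharacter (hirr ξ hξ)
  have hτ : Cfsg.IsLinearIsometryOn (Cfsg.zspanOn S {1}ᶜ) (fun α : L → ℂ => Cfsg.indFun L α) := by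
    refine ⟨fun α _ β _ => Cfsg.Agent.Helper8.indFun_add L α β, ?_, ?_, ?_⟩
    · intro α _ n
      show Cfsg.indFun L (n • α) = n • Cfsg.indFun L α
      rw [← Int.cast_smul_eq_zsmul ℂ n α, Cfsg.Agent.Helper8.indFun_smul, Int.cast_smul_eq_zsmul]
    · intro α hα β hβ
      have hα' := Cfsg.Agent.Helper8.mem_zspanOn_compl_one.mp hα
      have hβ' := Cfsg.Agent.Helper8.mem_zspanOn_compl_one.mp hβ
      apply ti_isometry H L hTI hN α β
      · exact Cfsg.Agent.Helper24.IsGeneralizedCharacter.isClassFunction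
          (Cfsg.Agent.Helper8.isGeneralizedCharacter_of_mem_zspan hgenS hβ'.1)
      · exact fun x hx => zspan_vanish H L hα'.1 x hx
      · exact fun x hx => zspan_vanish H L hβ'.1 x hx
      · exact hα'.2
    · intro α hα
      have hα' := Cfsg.Agent.Helper8.mem_zspanOn_compl_one.mp hα
      exact Cfsg.Agent.Helper24.IsGeneralizedCharacter.indFun L
        (Cfsg.Agent.Helper8.isGeneralizedCharacter_of_mem_zspan hgenS hα'.1)
  have hτ1 : ∀ α ∈ Cfsg.zspanOn S {1}ᶜ, (fun α : L → ℂ => Cfsg.indFun L α) α 1 = 0 := by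
    intro α hα
    have hα' := Cfsg.Agent.Helper8.mem_zspanOn_compl_one.mp hα
    show Cfsg.indFun L α 1 = 0
    rw [Cfsg.Agent.Helper5.indFun_apply_one, hα'.2, mul_zero]
  exact Cfsg.Agent.S1514.result S hSne hirr hconj _ hτ hτ1

end System

end Cfsg.Agent.Helper5.Sib
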