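import Mathlib
import Cfsg.Prelude.Def_Characters
import Cfsg.Prelude.Def_OddOrderChar
import Cfsg.Prelude.Def_OddOrderLocal
import Cfsg.Agent.Helper5.SibA
import Cfsg.Agent.Helper8.TISylowMod
import Cfsg.Agent.Helper24.Regular
import Cfsg.Agent.Helper24.Span

/-!
Sibley's coherence theorem (Peterfalvi 6.8), part B: restriction of characters and the congruence
step.
-/

set_option autoImplicit false
set_option linter.unusedSectionVars false

namespace Cfsg.Agent.Helper5.Sib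

open Cfsg

section Restrict

variable {N : Type*} [Group N] [Fintype N] [Fintype (Cfsg.IrrCharacter N)]

/-- If the multiplicities in a class function `f` of the members of a set `Y` of irreducible
characters are proportional to the degrees, and the irreducible characters outside `Y` agree at
`x` and `x'`, then `f x - f x'` is computed from the regular character. -/
theorem restrict_diff (Y : Set (N → ℂ)) (f : N → ℂ) (hf : Cfsg.IsClassFunction N f) (η : N → ℂ)
    (hprop : ∀ ψ : Cfsg.IrrCharacter N, (ψ : N → ℂ) ∈ Y →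
      Cfsg.classInner f (ψ : N → ℂ) * η 1 = Cfsg.classInner f η * (ψ : N → ℂ) 1)
    (x x' : N)
    (hout : ∀ ψ : Cfsg.IrrCharacter N, (ψ : N → ℂ) ∉ Y → (ψ : N → ℂ) x = (ψ : N → ℂ) x') :
    (f x - f x') * η 1 = Cfsg.classInner f η *
      ∑ ψ : Cfsg.IrrCharacter N, (ψ : N → ℂ) 1 * ((ψ : N → ℂ) x - (ψ : N → ℂ) x') := by
  have h := Cfsg.Agent.Helper24.IsClassFunction.eq_sum_classInner hf
  have hx : ∀ y : N, f y = ∑ ψ : Cfsg.IrrCharacter N,
      Cfsg.classInner f (ψ : N → ℂ) * (ψ : N → ℂ) y := by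
    intro y
    conv_lhs => rw [h]
    rw [Finset.sum_apply]
    apply Finset.sum_congr rfl
    intro ψ _
    rfl
  rw [hx x, hx x', ← Finset.sum_sub_distrib, Finset.sum_mul, Finset.mul_sum]
  apply Finset.sum_congr rfl
  intro ψ _
  by_cases hψ : (ψ : N → ℂ) ∈ Y
  · have := hprop ψ hψ
    calc (Cfsg.classInner f (ψ : N → ℂ) * (ψ : N → ℂ) x
          - Cfsg.classInner f (ψ : N → ℂ) * (ψ : N → ℂ) x') * η 1
        = (Cfsg.classInner f (ψ : N → ℂ) * η 1) * ((ψ : N → ℂ) x - (ψ : N → ℂ) x') := by ring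
      _ = _ := by rw [this]; ring
  · rw [hout ψ hψ]
    ring

end Restrict

section Sylow

variable {G : Type*} [Group G] [Finite G]

/-- a TI `p`-subgroup whose index in its normaliser is prime to `p` is a Sylow subgroup -/
theorem sylow_of_ti (H L : Subgroup G) (p : ℕ) [Fact p.Prime] (hH : IsPGroup p H)
    (hN : Subgroup.normalizer (H : Set G) = L) (hcop : ¬ p ∣ H.relIndex L) :
    ∃ P : Sylow p G, (P : Subgroup G) = H := by
  classical
  obtain ⟨P, hHP⟩ := hH.exists_le_sylow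
  refine ⟨P, ?_⟩
  by_contra hne
  have hlt : H < (P : Subgroup G) := lt_of_le_of_ne hHP (Ne.symm hne)
  -- the normaliser condition in the `p`-group `P`
  haveI : Group.IsNilpotent (P : Subgroup G) := P.isPGroup'.isNilpotent
  have hlt' : H.subgroupOf (P : Subgroup G) < ⊤ := by
    rw [lt_top_iff_ne_top]
    intro h
    rw [Subgroup.subgroupOf_eq_top] at h
    exact hlt.not_ge h
  have hnc := Group.normalizerCondition_of_isNilpotent (G := (P : Subgroup G)) _ hlt'
  obtain ⟨y, hyN, hyH⟩ := SetLike.exists_of_lt hnc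
  have hyH' : (y : G) ∉ H := fun h => hyH (Subgroup.mem_subgroupOf.mpr h)
  have hyL : (y : G) ∈ L := by
    rw [← hN, Subgroup.mem_normalizer_iff]
    intro g
    rw [Subgroup.mem_normalizer_iff] at hyN
    constructor
    · intro hg
      have := (hyN ⟨g, hHP hg⟩).mp (Subgroup.mem_subgroupOf.mpr hg)
      exact Subgroup.mem_subgroupOf.mp this
    · intro hg
      have hgP : g ∈ (P : Subgroup G) := by
        have h1 : (y : G)⁻¹ * ((y : G) * g * (y : G)⁻¹) * (y : G) ∈ (P : Subgroup G) :=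
          (P : Subgroup G).mul_mem ((P : Subgroup G).mul_mem ((P : Subgroup G).inv_mem y.2)
            (hHP hg)) y.2
        have e : (y : G)⁻¹ * ((y : G) * g * (y : G)⁻¹) * (y : G) = g := by group
        rwa [e] at h1
      have := (hyN ⟨g, hgP⟩).mpr (Subgroup.mem_subgroupOf.mpr hg)
      exact Subgroup.mem_subgroupOf.mp this
  set M := L ⊓ (P : Subgroup G) with hM
  have hHL : H ≤ L := by
    rw [← hN]
    exact Subgroup.le_normalizer
  have hHM : H ≤ M := le_inf hHL hHP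
  have hML : M ≤ L := inf_le_left
  have hyM : (y : G) ∈ M := ⟨hyL, y.2⟩
  have hmul := Subgroup.relIndex_mul_relIndex H M L hHM hML
  have hMp : IsPGroup p M := P.isPGroup'.to_le inf_le_right
  have h1 : H.relIndex M ≠ 1 := by
    intro h
    exact hyH' (Subgroup.relIndex_eq_one.mp h hyM)
  have h2 : H.relIndex M ∣ Nat.card M := (H.subgroupOf M).index_dvd_card
  obtain ⟨n, hn⟩ := hMp.exists_card_eq
  rw [hn] at h2
  obtain ⟨j, -, hj⟩ := (Nat.dvd_prime_pow (Fact.out : p.Prime)).mp h2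
  have hj0 : j ≠ 0 := by
    rintro rfl
    exact h1 (by simpa using hj)
  apply hcop
  rw [← hmul, hj]
  exact Dvd.dvd.mul_right (dvd_pow_self p hj0) _

end Sylow

section Cong

variable {G : Type*} [Group G] [Fintype G]

/-- **The congruence step** (from Peterfalvi 6.7): if the multiplicities in `χ|_L` of the
irreducible characters of `L` nontrivial on the central subgroup `Z` are proportional to their
degrees, then the multiplicity of such a character `η` satisfies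
`m_η * |L| = k * |H| * η(1)` for an integer `k`. -/
theorem cong_step (H L : Subgroup G) [Fintype L]
    (hodd : Odd (Nat.card L)) (hTI : Cfsg.IsTISubset (H : Set G))
    (hN : Subgroup.normalizer (H : Set G) = L)
    (p : ℕ) [Fact p.Prime] (P : Sylow p G) (hPH : (P : Subgroup G) = H)
    (Z : Subgroup L) [hZ : Z.Normal] (hZ1 : Z ≠ ⊥) (hZK : Z ≤ H.subgroupOf L)
    (hZc : ∀ z ∈ Z, ∀ k ∈ H.subgroupOf L, z * k = k * z)
    (χ : G → ℂ) (hχ : Cfsg.IsIrrCharacter G χ) (η : L → ℂ) (hη : Cfsg.IsIrrCharacter L η)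
    (hprop : ∀ ψ : Cfsg.IrrCharacter L, (∃ z ∈ Z, (ψ : L → ℂ) z ≠ (ψ : L → ℂ) 1) →
      Cfsg.classInner (fun l : L => χ l) (ψ : L → ℂ) * η 1
        = Cfsg.classInner (fun l : L => χ l) η * (ψ : L → ℂ) 1) :
    ∃ k : ℤ, Cfsg.classInner (fun l : L => χ l) η * (Nat.card L : ℂ)
      = (k : ℂ) * (Nat.card H : ℂ) * η 1 := by
  classical
  haveI : Fintype (Cfsg.IrrCharacter L) :=
    @Fintype.ofFinite _ (Cfsg.Agent.Helper23.finite_irrCharacter L)
  set f : L → ℂ := fun l : L => χ l with hf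
  have hχcf : Cfsg.IsClassFunction G χ :=
    Cfsg.Agent.Helper24.IsCharacter.isClassFunction (Cfsg.Agent.Helper24.IsIrrCharacter.isCharacter hχ)
  have hfcf : Cfsg.IsClassFunction L f := by
    intro g h
    show χ ((h * g * h⁻¹ : L) : G) = χ (g : G)
    push_cast
    exact hχcf _ _
  obtain ⟨dη, hdηpos, hdη⟩ := Cfsg.Agent.Helper24.isIrrCharacter_one hη
  have hη1 : η 1 ≠ 0 := by
    rw [hdη]
    exact_mod_cast hdηpos.ne'
  -- the key identity
  have key : ∀ z ∈ Z, z ≠ 1 → (f 1 - f z) * η 1 = Cfsg.classInner f η * (Nat.card L : ℂ) := by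
    intro z hz hz1
    have h1 := restrict_diff {ψ : L → ℂ | ∃ z ∈ Z, ψ z ≠ ψ 1} f hfcf η
      (fun ψ hψ => hprop ψ hψ) 1 z (by
        intro ψ hψ
        by_contra hne
        exact hψ ⟨z, hz, fun h => hne h.symm⟩)
    rw [h1]
    congr 1
    have h2 : ∑ ψ : Cfsg.IrrCharacter L, (ψ : L → ℂ) 1 * ((ψ : L → ℂ) 1 - (ψ : L → ℂ) z)
        = ∑ ψ : Cfsg.IrrCharacter L, (ψ : L → ℂ) 1 ^ 2
          - ∑ ψ : Cfsg.IrrCharacter L, (ψ : L → ℂ) 1 * (ψ : L → ℂ) z := by
      rw [← Finset.sum_sub_distrib]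
      apply Finset.sum_congr rfl
      intro ψ _
      ring
    rw [h2, Cfsg.Agent.Helper24.sum_sq_irr_one, Cfsg.Agent.Helper24.sum_irr_one_mul_eq_zero hz1,
      sub_zero]
  -- the subgroup `Z` inside `G`
  set ZG : Subgroup G := Z.map L.subtype with hZG
  have hmemZG : ∀ g : G, g ∈ ZG ↔ ∃ hg : g ∈ L, (⟨g, hg⟩ : L) ∈ Z := by
    intro g
    rw [hZG, Subgroup.mem_map]
    constructor
    · rintro ⟨z, hz, rfl⟩
      exact ⟨z.2, hz⟩
    · rintro ⟨hg, hz⟩
      exact ⟨⟨g, hg⟩, hz, rfl⟩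
  obtain ⟨z₀, hz₀, hz₀1⟩ : ∃ z ∈ Z, z ≠ 1 := by
    by_contra hcon
    push Not at hcon
    apply hZ1
    rw [Subgroup.eq_bot_iff_forall]
    exact hcon
  have hconst : ∀ z ∈ ZG, ∀ z' ∈ ZG, z ≠ 1 → z' ≠ 1 → χ z = χ z' := by
    intro z hz z' hz' hz1 hz'1
    obtain ⟨hzL, hzZ⟩ := (hmemZG z).mp hz
    obtain ⟨hz'L, hz'Z⟩ := (hmemZG z').mp hz'
    have h1 := key ⟨z, hzL⟩ hzZ (fun h => hz1 (congrArg Subtype.val h))
    have h2 := key ⟨z', hz'L⟩ hz'Z (fun h => hz'1 (congrArg Subtype.val h))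
    have h3 : (f 1 - f ⟨z, hzL⟩) * η 1 = (f 1 - f ⟨z', hz'L⟩) * η 1 := by rw [h1, h2]
    have h4 := mul_right_cancel₀ hη1 h3
    have h5 : f ⟨z, hzL⟩ = f ⟨z', hz'L⟩ := by
      have := sub_right_injective h4
      exact this
    exact h5
  have hTI' : Cfsg.IsTISubset ((P : Subgroup G) : Set G) := by rw [hPH]; exact hTI
  have hNP : Subgroup.normalizer ((P : Subgroup G) : Set G) = L := by rw [hPH]; exact hN
  have hodd' : Odd (Nat.card (Subgroup.normalizer ((P : Subgroup G) : Set G))) := by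
    rw [hNP]; exact hodd
  have hZP : ZG ≤ P := by
    intro g hg
    obtain ⟨hgL, hgZ⟩ := (hmemZG g).mp hg
    rw [hPH]
    exact Subgroup.mem_subgroupOf.mp (hZK hgZ)
  have hZn : ∀ x ∈ Subgroup.normalizer ((P : Subgroup G) : Set G), ∀ z ∈ ZG, x * z * x⁻¹ ∈ ZG := by
    intro x hx z hz
    rw [hNP] at hx
    obtain ⟨hzL, hzZ⟩ := (hmemZG z).mp hz
    rw [hmemZG]
    refine ⟨L.mul_mem (L.mul_mem hx hzL) (L.inv_mem hx), ?_⟩
    have := hZ.conj_mem ⟨z, hzL⟩ hzZ ⟨x, hx⟩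
    exact this
  have hZc' : ∀ z ∈ ZG, ∀ y ∈ (P : Subgroup G), z * y = y * z := by
    intro z hz y hy
    obtain ⟨hzL, hzZ⟩ := (hmemZG z).mp hz
    rw [hPH] at hy
    have hHL : H ≤ L := by rw [← hN]; exact Subgroup.le_normalizer
    have := hZc ⟨z, hzL⟩ hzZ ⟨y, hHL hy⟩ (Subgroup.mem_subgroupOf.mpr hy)
    exact congrArg Subtype.val this
  have hz₀G : (z₀ : G) ∈ ZG := (hmemZG _).mpr ⟨z₀.2, hz₀⟩
  have hz₀G1 : (z₀ : G) ≠ 1 := fun h => hz₀1 (Subtype.ext h)
  obtain ⟨n, d, hn, hd, k, hk⟩ := Cfsg.Agent.Helper8.ti_sylow_congruence p P hTI' hodd' ZG hZP hZn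
    hZc' χ hχ hconst z₀ hz₀G hz₀G1
  refine ⟨k, ?_⟩
  rw [← key z₀ hz₀ hz₀1]
  have e1 : f 1 = (d : ℂ) := by
    show χ ((1 : L) : G) = d
    rw [← hd]
    rfl
  have e2 : f z₀ = (n : ℂ) := hn
  rw [e1, e2, ← hPH]
  have e3 : ((d : ℂ) - (n : ℂ)) = (Nat.card (P : Subgroup G) : ℂ) * (k : ℂ) := by
    have : ((d - n : ℤ) : ℂ) = (((Nat.card (P : Subgroup G) : ℤ) * k : ℤ) : ℂ) := by rw [hk]
    push_cast at this
    exact this
  rw [e3]
  ring

end Cong

end Cfsg.Agent.Helper5.Sib
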