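import Mathlib
import Cfsg.Prelude.Def_Characters
import Cfsg.Prelude.Def_OddOrderChar
import Cfsg.Agent.Helper8.ZSpan2
import Cfsg.Agent.Helper8.OrthExt
import Cfsg.Agent.S1529
import Cfsg.Agent.S1531

/-!
Sibley's coherence theorem (Peterfalvi 6.8), part C: arithmetic lemmas and the swap of a
two-element coherent set.
-/

set_option autoImplicit false
set_option linter.unusedSectionVars false

namespace Cfsg.Agent.Helper5.Sib

open Cfsg

section Arith

variable {ι : Type*} [DecidableEq ι]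

theorem sum_erase_sq (s : Finset ι) (a : ι) (ha : a ∈ s) (u : ι → ℤ) :
    ∑ i ∈ s, (u i) ^ 2 = (u a) ^ 2 + ∑ i ∈ s.erase a, (u i) ^ 2 := by
  rw [← Finset.add_sum_erase s _ ha]

/-- the arithmetic on the side of the characters of minimal degree -/
theorem arithX (s : Finset ι) (a : ι) (ha : a ∈ s) (u : ι → ℤ) (q : ℤ) (hq : 0 < q)
    (hrel : ∀ i ∈ s, i ≠ a → u i = u a - q) (hdvd : q ∣ u a) (hcard : 2 ≤ s.card) :
    q ^ 2 ≤ ∑ i ∈ s, (u i) ^ 2 ∧
      (∑ i ∈ s, (u i) ^ 2 = q ^ 2 →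
        (u a = q ∧ ∀ i ∈ s, i ≠ a → u i = 0) ∨ (u a = 0 ∧ s.card = 2)) := by
  obtain ⟨w, hw⟩ := hdvd
  have h1 : ∑ i ∈ s.erase a, (u i) ^ 2 = ((s.erase a).card : ℤ) * (u a - q) ^ 2 := by
    rw [Finset.sum_congr rfl (g := fun _ => (u a - q) ^ 2)]
    · rw [Finset.sum_const, nsmul_eq_mul]
    · intro i hi
      rw [Finset.mem_erase] at hi
      rw [hrel i hi.2 hi.1]
  have hc : (s.erase a).card = s.card - 1 := Finset.card_erase_of_mem ha
  have hc1 : 1 ≤ (s.erase a).card := by omega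
  set c : ℤ := ((s.erase a).card : ℤ) with hcdef
  have hc1' : 1 ≤ c := by rw [hcdef]; exact_mod_cast hc1
  rw [sum_erase_sq s a ha u, h1, hw]
  have e : (q * w) ^ 2 + c * (q * w - q) ^ 2 = q ^ 2 * (w ^ 2 + c * (w - 1) ^ 2) := by ring
  rw [e]
  have hq2 : 0 < q ^ 2 := by positivity
  have key : 1 ≤ w ^ 2 + c * (w - 1) ^ 2 ∧
      (w ^ 2 + c * (w - 1) ^ 2 = 1 → w = 1 ∨ (w = 0 ∧ c = 1)) := by
    rcases lt_trichotomy w 0 with h | h | h
    · have h2 : 1 ≤ w ^ 2 := by nlinarith
      have h3 : 4 ≤ (w - 1) ^ 2 := by nlinarith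
      have h4 : 4 ≤ c * (w - 1) ^ 2 := by nlinarith
      constructor
      · nlinarith
      · intro h5
        exfalso
        nlinarith
    · subst h
      constructor
      · nlinarith
      · intro h5
        right
        refine ⟨rfl, ?_⟩
        nlinarith
    · rcases eq_or_lt_of_le (show 1 ≤ w by omega) with h1 | h1
      · rw [← h1]
        constructor
        · nlinarith
        · intro _
          left
          rfl
      · have h2 : 4 ≤ w ^ 2 := by nlinarith
        have h3 : 0 ≤ c * (w - 1) ^ 2 := by positivity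
        constructor
        · nlinarith
        · intro h5
          exfalso
          nlinarith
  constructor
  · nlinarith [key.1]
  · intro h5
    have h6 : w ^ 2 + c * (w - 1) ^ 2 = 1 := by
      have : q ^ 2 * (w ^ 2 + c * (w - 1) ^ 2) = q ^ 2 * 1 := by rw [h5, mul_one]
      exact mul_left_cancel₀ hq2.ne' this
    rcases key.2 h6 with h7 | ⟨h7, h8⟩
    · left
      subst h7
      refine ⟨by ring, ?_⟩
      intro i hi hia
      rw [hrel i hi hia, hw]
      ring
    · right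
      subst h7
      refine ⟨by ring, ?_⟩
      have : (s.erase a).card = 1 := by rw [hcdef] at h8; exact_mod_cast h8
      omega

/-- the arithmetic on the side of the characters nontrivial on `Z` -/
theorem arithY (s : Finset ι) (a : ι) (ha : a ∈ s) (v t : ι → ℤ) (ht : ∀ i ∈ s, 1 ≤ t i)
    (hrel : ∀ i ∈ s, i ≠ a → v i = t i * (v a + 1)) (hcard : 2 ≤ s.card) :
    1 ≤ ∑ i ∈ s, (v i) ^ 2 ∧
      (∑ i ∈ s, (v i) ^ 2 = 1 →
        (v a = -1 ∧ ∀ i ∈ s, i ≠ a → v i = 0) ∨
        (v a = 0 ∧ s.card = 2 ∧ ∀ i ∈ s, i ≠ a → v i = 1)) := by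
  have hc : (s.erase a).card = s.card - 1 := Finset.card_erase_of_mem ha
  have hc1 : 1 ≤ (s.erase a).card := by omega
  rw [sum_erase_sq s a ha v]
  by_cases hzero : v a + 1 = 0
  · have h0 : ∀ i ∈ s, i ≠ a → v i = 0 := by
      intro i hi hia
      rw [hrel i hi hia, hzero, mul_zero]
    have h1 : ∑ i ∈ s.erase a, (v i) ^ 2 = 0 := by
      apply Finset.sum_eq_zero
      intro i hi
      rw [Finset.mem_erase] at hi
      rw [h0 i hi.2 hi.1]
      ring
    have hva : v a = -1 := by omega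
    rw [h1, hva]
    refine ⟨by norm_num, fun _ => Or.inl ⟨rfl, h0⟩⟩
  · set c := v a + 1 with hcdef
    have hc2 : 1 ≤ c ^ 2 := by
      have : c ≠ 0 := hzero
      have h1 : 0 < c ^ 2 := by positivity
      omega
    have hterm : ∀ i ∈ s.erase a, c ^ 2 ≤ (v i) ^ 2 := by
      intro i hi
      rw [Finset.mem_erase] at hi
      rw [hrel i hi.2 hi.1, mul_pow]
      have h1 := ht i hi.2
      have h2 : 1 ≤ (t i) ^ 2 := by nlinarith
      nlinarith
    have hsum : ((s.erase a).card : ℤ) * c ^ 2 ≤ ∑ i ∈ s.erase a, (v i) ^ 2 := by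
      rw [← nsmul_eq_mul, ← Finset.sum_const]
      exact Finset.sum_le_sum hterm
    have hc1' : (1 : ℤ) ≤ ((s.erase a).card : ℤ) := by exact_mod_cast hc1
    have hva : v a = c - 1 := by rw [hcdef]; ring
    constructor
    · nlinarith [sq_nonneg (v a)]
    · intro h5
      right
      -- `c = 1`
      have hcle : c ^ 2 ≤ 1 := by nlinarith [sq_nonneg (v a)]
      have hc1or : c = 1 ∨ c = -1 := by
        have h1 : c ^ 2 = 1 := le_antisymm hcle hc2
        have h2 : (c - 1) * (c + 1) = 0 := by nlinarith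
        rcases mul_eq_zero.mp h2 with h | h
        · left; omega
        · right; omega
      rcases hc1or with hc' | hc'
      · have hva0 : v a = 0 := by rw [hva, hc']; ring
        rw [hva0] at h5
        have h6 : ∑ i ∈ s.erase a, (v i) ^ 2 = 1 := by
          have : (0 : ℤ) ^ 2 = 0 := by norm_num
          rw [this, zero_add] at h5
          exact h5
        have h7 : ((s.erase a).card : ℤ) ≤ 1 := by
          rw [hc', one_pow, mul_one] at hsum
          rw [h6] at hsum
          exact hsum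
        have h8 : (s.erase a).card = 1 := by
          have : (s.erase a).card ≤ 1 := by exact_mod_cast h7
          omega
        refine ⟨hva0, by omega, ?_⟩
        intro i hi hia
        obtain ⟨b, hb⟩ := Finset.card_eq_one.mp h8
        have hib : i ∈ s.erase a := Finset.mem_erase.mpr ⟨hia, hi⟩
        rw [hb, Finset.mem_singleton] at hib
        rw [hb, Finset.sum_singleton] at h6
        subst hib
        have h9 : v i = t i := by
          rw [hrel i hi hia, hc', mul_one]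
        have h10 := ht i hi
        rw [h9] at h6 ⊢
        nlinarith
      · exfalso
        rw [hva, hc'] at h5
        have : (0 : ℤ) ≤ ∑ i ∈ s.erase a, (v i) ^ 2 := Finset.sum_nonneg (fun i _ => sq_nonneg _)
        norm_num at h5
        omega

end Arith

section Swap

variable {G : Type*} [Group G] [Fintype G] {N : Type*} [Group N] [Fintype N]

open Cfsg.Agent.Helper8

/-- a linear isometry on the integer span of a pair of irreducible characters of the same degree
can be replaced by the swapped and negated one -/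
theorem swap_ext (X : Set (N → ℂ)) (hirrX : ∀ ξ ∈ X, Cfsg.IsIrrCharacter N ξ) (ζ ζ' : N → ℂ)
    (hX : X = {ζ, ζ'}) (hne : ζ ≠ ζ') (hdeg : ζ 1 = ζ' 1)
    (σ : (N → ℂ) → (G → ℂ)) (hσ : Cfsg.IsLinearIsometryOn (Cfsg.zspan X) σ) :
    ∃ σ' : (N → ℂ) → (G → ℂ), Cfsg.IsLinearIsometryOn (Cfsg.zspan X) σ' ∧ σ' ζ = - σ ζ' ∧
      σ' ζ' = - σ ζ ∧ ∀ θ ∈ Cfsg.zspanOn X {1}ᶜ, σ' θ = σ θ := by
  classical
  haveI : Fintype (Cfsg.IrrCharacter N) :=
    @Fintype.ofFinite _ (Cfsg.Agent.Helper23.finite_irrCharacter N)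
  have hζX : ζ ∈ X := by rw [hX]; exact Set.mem_insert _ _
  have hζ'X : ζ' ∈ X := by rw [hX]; exact Set.mem_insert_of_mem _ rfl
  have hmem : ∀ ξ ∈ X, ξ = ζ ∨ ξ = ζ' := by
    intro ξ hξ
    rw [hX] at hξ
    exact hξ
  set e : (N → ℂ) → (G → ℂ) := fun f => if f = ζ then - σ ζ' else - σ ζ with he
  have heζ : e ζ = - σ ζ' := by rw [he]; simp
  have heζ' : e ζ' = - σ ζ := by
    rw [he]
    simp only
    rw [if_neg (Ne.symm hne)]
  have hon := orthonormal_of_isLinearIsometryOn hirrX hσ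
  have hnn : ∀ a b : G → ℂ, Cfsg.classInner (-a) (-b) = Cfsg.classInner a b := by
    intro a b
    rw [classInner_neg_left, classInner_neg_right, neg_neg]
  have horth : ∀ ξ ∈ X, ∀ η ∈ X, Cfsg.classInner (e ξ) (e η) = if ξ = η then 1 else 0 := by
    intro ξ hξ η hη
    rcases hmem ξ hξ with rfl | rfl <;> rcases hmem η hη with rfl | rfl
    · rw [heζ, hnn, hon _ hζ'X _ hζ'X, if_pos rfl, if_pos rfl]
    · rw [heζ, heζ', hnn, hon _ hζ'X _ hζX, if_neg (Ne.symm hne), if_neg hne]
    · rw [heζ, heζ', hnn, hon _ hζX _ hζ'X, if_neg hne, if_neg (Ne.symm hne)]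
    · rw [heζ', hnn, hon _ hζX _ hζX, if_pos rfl, if_pos rfl]
  have hgen : ∀ ξ ∈ X, Cfsg.IsGeneralizedCharacter G (e ξ) := by
    intro ξ hξ
    rcases hmem ξ hξ with rfl | rfl
    · rw [heζ]
      exact Cfsg.Agent.Helper24.IsGeneralizedCharacter.neg
        (hσ.2.2.2 _ (mem_zspan_of_mem hζ'X))
    · rw [heζ']
      exact Cfsg.Agent.Helper24.IsGeneralizedCharacter.neg
        (hσ.2.2.2 _ (mem_zspan_of_mem hζX))
  have hσ' := isLinearIsometryOn_coordExt hirrX e horth hgen
  have h1 : coordExt X e ζ = - σ ζ' := by rw [coordExt_of_mem hirrX e hζX, heζ]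
  have h2 : coordExt X e ζ' = - σ ζ := by rw [coordExt_of_mem hirrX e hζ'X, heζ']
  refine ⟨coordExt X e, hσ', h1, h2, ?_⟩
  intro θ hθ
  obtain ⟨hθz, hθ1⟩ := mem_zspanOn_compl_one.mp hθ
  have hθz' : θ ∈ Submodule.span ℤ ({ζ, ζ'} : Set (N → ℂ)) := by
    have : θ ∈ Cfsg.zspan X := hθz
    rw [hX] at this
    exact this
  obtain ⟨a, b, hab⟩ := Submodule.mem_span_pair.mp hθz'
  obtain ⟨d, hdpos, hd⟩ := irr_degree_pos (hirrX ζ hζX)
  have hsum : a + b = 0 := by
    have h3 : θ 1 = 0 := hθ1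
    rw [← hab] at h3
    rw [Pi.add_apply, Pi.smul_apply, Pi.smul_apply, zsmul_eq_mul, zsmul_eq_mul] at h3
    rw [← hdeg, hd] at h3
    have h4 : ((a + b : ℤ) : ℂ) * (d : ℂ) = 0 := by
      push_cast
      linear_combination h3
    rcases mul_eq_zero.mp h4 with h5 | h5
    · exact_mod_cast h5
    · exfalso
      have : (d : ℂ) ≠ 0 := by exact_mod_cast hdpos.ne'
      exact this h5
  have hb : b = -a := by omega
  have hζz := mem_zspan_of_mem hζX
  have hζ'z := mem_zspan_of_mem hζ'X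
  rw [← hab, hb]
  rw [hσ'.1 _ (zspan_zsmul_mem a hζz) _ (zspan_zsmul_mem (-a) hζ'z), hσ'.2.1 _ hζz a,
    hσ'.2.1 _ hζ'z (-a), hσ.1 _ (zspan_zsmul_mem a hζz) _ (zspan_zsmul_mem (-a) hζ'z),
    hσ.2.1 _ hζz a, hσ.2.1 _ hζ'z (-a), h1, h2]
  simp only [neg_smul, smul_neg, neg_neg]
  abel

end Swap

end Cfsg.Agent.Helper5.Sib
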