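import Mathlib
import Cfsg.Prelude.Def_Characters
import Cfsg.Prelude.Def_OddOrderChar
import Cfsg.Agent.Helper5.SibC
import Cfsg.Agent.Helper8.ExtendCoherent

/-!
Sibley's coherence theorem (Peterfalvi 6.8), part D: linking two coherent sets with the help of a
divisibility property.
-/

set_option autoImplicit false
set_option linter.unusedSectionVars false
set_option maxHeartbeats 1600000

namespace Cfsg.Agent.Helper5.Sib

open Cfsg Cfsg.Agent.Helper8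

section Link

variable {G : Type*} [Group G] [Fintype G] (N : Subgroup G) [Fintype N]

/-- members of the integer span of `Y` are mapped by `ρ` to functions orthogonal to `σ ψ` -/
theorem perp_span (X Y : Set (N → ℂ)) (σ ρ : (N → ℂ) → (G → ℂ))
    (hρ : Cfsg.IsLinearIsometryOn (Cfsg.zspan Y) ρ)
    (hperp : ∀ χ ∈ X, ∀ η ∈ Y, Cfsg.classInner (σ χ) (ρ η) = 0) {ψ : N → ℂ} (hψ : ψ ∈ X)
    {γ : N → ℂ} (hγ : γ ∈ Cfsg.zspan Y) : Cfsg.classInner (ρ γ) (σ ψ) = 0 := by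
  induction hγ using Submodule.span_induction with
  | mem x hx =>
    rw [classInner_conj_symm, hperp ψ hψ x hx, map_zero]
  | zero =>
    rw [map_zero_of_isLinearIsometryOn hρ, Cfsg.Agent.Helper23.classInner_zero_left]
  | add x y hx hy ihx ihy =>
    rw [hρ.1 x hx y hy, Cfsg.Agent.Helper23.classInner_add_left, ihx, ihy, add_zero]
  | smul a x hx ih =>
    rw [hρ.2.1 x hx a, classInner_zsmul_left, ih, mul_zero]

/-- the analysis of the image of `q ζ - η` -/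
theorem link_analysis (S X Y : Set (N → ℂ)) (hirr : ∀ ξ ∈ S, Cfsg.IsIrrCharacter N ξ) (hXS : X ⊆ S)
    (hYS : Y ⊆ S) (hXY : Disjoint X Y)
    (hXc : ∀ ξ ∈ X, Cfsg.conjFun ξ ∈ X ∧ Cfsg.conjFun ξ ≠ ξ)
    (hYc : ∀ ξ ∈ Y, Cfsg.conjFun ξ ∈ Y ∧ Cfsg.conjFun ξ ≠ ξ)
    (α : (N → ℂ) → (G → ℂ)) (hα : Cfsg.IsLinearIsometryOn (Cfsg.zspanOn S {1}ᶜ) α)
    (hα1 : ∀ θ ∈ Cfsg.zspanOn S {1}ᶜ, α θ 1 = 0)
    (σ ρ : (N → ℂ) → (G → ℂ)) (hσ : Cfsg.IsLinearIsometryOn (Cfsg.zspan X) σ)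
    (hσα : ∀ θ ∈ Cfsg.zspanOn X {1}ᶜ, σ θ = α θ)
    (hρ : Cfsg.IsLinearIsometryOn (Cfsg.zspan Y) ρ)
    (hρα : ∀ θ ∈ Cfsg.zspanOn Y {1}ᶜ, ρ θ = α θ)
    (e q : ℕ) (he : 0 < e) (hq : 0 < q) (hdegX : ∀ ξ ∈ X, ξ 1 = (e : ℂ))
    (ζ η : N → ℂ) (hζ : ζ ∈ X) (hη : η ∈ Y) (hdegη : η 1 = ((e * q : ℕ) : ℂ))
    (hmin : ∀ η' ∈ Y, ∃ t : ℕ, 0 < t ∧ η' 1 = ((e * q * t : ℕ) : ℂ))
    (hdiv : ∀ χ : G → ℂ, Cfsg.IsIrrCharacter G χ →
      (∀ γ ∈ Cfsg.zspanOn Y {1}ᶜ, Cfsg.classInner (α γ) χ = 0) →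
      ∃ k : ℤ, Cfsg.classInner (α ((q : ℤ) • ζ - η)) χ = (k : ℂ) * q) :
    ∃ x y : G → ℂ, α ((q : ℤ) • ζ - η) = (q : ℤ) • x - y ∧
      (x = σ ζ ∨ (X = {ζ, Cfsg.conjFun ζ} ∧ x = - σ (Cfsg.conjFun ζ))) ∧
      (y = ρ η ∨ (Y = {η, Cfsg.conjFun η} ∧ y = - ρ (Cfsg.conjFun η))) := by
  classical
  haveI : Fintype (Cfsg.IrrCharacter N) :=
    @Fintype.ofFinite _ (Cfsg.Agent.Helper23.finite_irrCharacter N)
  haveI : Fintype (Cfsg.IrrCharacter G) :=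
    @Fintype.ofFinite _ (Cfsg.Agent.Helper23.finite_irrCharacter G)
  have hirrX : ∀ ξ ∈ X, Cfsg.IsIrrCharacter N ξ := fun ξ h => hirr ξ (hXS h)
  have hirrY : ∀ ξ ∈ Y, Cfsg.IsIrrCharacter N ξ := fun ξ h => hirr ξ (hYS h)
  have hX2 : ∃ a ∈ X, ∃ b ∈ X, a ≠ b :=
    ⟨ζ, hζ, Cfsg.conjFun ζ, (hXc ζ hζ).1, fun h => (hXc ζ hζ).2 h.symm⟩
  have hY2 : ∃ a ∈ Y, ∃ b ∈ Y, a ≠ b :=
    ⟨η, hη, Cfsg.conjFun η, (hYc η hη).1, fun h => (hYc η hη).2 h.symm⟩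
  have hperp := Cfsg.Agent.S1531.part1 N S X Y hirr hXS hYS hXY hX2 hY2 α hα hα1 σ ρ hσ hσα hρ hρα
  have honX := orthonormal_of_isLinearIsometryOn hirrX hσ
  have honY := orthonormal_of_isLinearIsometryOn hirrY hρ
  have hXYne : ∀ a ∈ X, ∀ b ∈ Y, a ≠ b := by
    intro a ha b hb hab
    rw [hab] at ha
    exact (Set.disjoint_left.mp hXY ha) hb
  -- the sign on the `X` side
  have h0X : ∀ a ∈ Cfsg.zspan X, a 1 = 0 → σ a 1 = 0 := by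
    intro a ha ha1
    rw [hσα a (mem_zspanOn_compl_one.mpr ⟨ha, ha1⟩)]
    exact hα1 a (mem_zspanOn_compl_one.mpr ⟨zspan_mono hXS ha, ha1⟩)
  obtain ⟨εX, hεX, hXirr, -⟩ := Cfsg.Agent.S1529.result N X hirrX hX2 σ hσ h0X
  -- the basic element
  set b0 : N → ℂ := (q : ℤ) • ζ - η with hb0def
  have hζS := mem_zspan_of_mem (hXS hζ)
  have hηS := mem_zspan_of_mem (hYS hη)
  have hb0 : b0 ∈ Cfsg.zspanOn S {1}ᶜ := by
    rw [mem_zspanOn_compl_one]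
    refine ⟨zspan_sub_mem (zspan_zsmul_mem _ hζS) hηS, ?_⟩
    rw [hb0def, Pi.sub_apply, Pi.smul_apply, zsmul_eq_mul, hdegX ζ hζ, hdegη]
    push_cast
    ring
  set β := α b0 with hβdef
  have hβgen : Cfsg.IsGeneralizedCharacter G β := hα.2.2.2 b0 hb0
  have hb0eq : b0 = ((q : ℤ) : ℂ) • ζ + (-1 : ℂ) • η := by
    rw [hb0def, Int.cast_smul_eq_zsmul, neg_one_smul, sub_eq_add_neg]
  have ci := fun a b (ha : Cfsg.IsIrrCharacter N a) (hb : Cfsg.IsIrrCharacter N b) =>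
    Cfsg.Agent.Helper23.classInner_irrCharacter a b ha hb
  have hζη : ζ ≠ η := hXYne ζ hζ η hη
  have hββ : Cfsg.classInner β β = (((q : ℤ) ^ 2 + 1 : ℤ) : ℂ) := by
    rw [hβdef, hα.2.2.1 b0 hb0 b0 hb0, hb0eq, classInner_comb,
      ci ζ ζ (hirrX ζ hζ) (hirrX ζ hζ), ci ζ η (hirrX ζ hζ) (hirrY η hη),
      ci η ζ (hirrY η hη) (hirrX ζ hζ), ci η η (hirrY η hη) (hirrY η hη), if_pos rfl, if_pos rfl,
      if_neg hζη, if_neg (Ne.symm hζη)]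
    simp only [map_intCast, map_neg, map_one]
    push_cast
    ring
  -- integrality of the inner products
  have huex : ∀ ψ : N → ℂ, ∃ n : ℤ, ψ ∈ X → Cfsg.classInner β (σ ψ) = (n : ℂ) := by
    intro ψ
    by_cases hψ : ψ ∈ X
    · obtain ⟨n, hn⟩ := Cfsg.Agent.Helper24.IsGeneralizedCharacter.classInner_int hβgen
        (hσ.2.2.2 ψ (mem_zspan_of_mem hψ))
      exact ⟨n, fun _ => hn⟩
    · exact ⟨0, fun h => absurd h hψ⟩
  choose u hu using huex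
  have hvex : ∀ ψ : N → ℂ, ∃ n : ℤ, ψ ∈ Y → Cfsg.classInner β (ρ ψ) = (n : ℂ) := by
    intro ψ
    by_cases hψ : ψ ∈ Y
    · obtain ⟨n, hn⟩ := Cfsg.Agent.Helper24.IsGeneralizedCharacter.classInner_int hβgen
        (hρ.2.2.2 ψ (mem_zspan_of_mem hψ))
      exact ⟨n, fun _ => hn⟩
    · exact ⟨0, fun h => absurd h hψ⟩
  choose v hv using hvex
  -- the relations on the `X` side
  have hrelX : ∀ ψ ∈ X, ψ ≠ ζ → u ψ = u ζ - q := by
    intro ψ hψ hne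
    have hψz := mem_zspan_of_mem hψ
    have hζz := mem_zspan_of_mem hζ
    have hd : ζ - ψ ∈ Cfsg.zspanOn X {1}ᶜ := by
      rw [mem_zspanOn_compl_one]
      refine ⟨zspan_sub_mem hζz hψz, ?_⟩
      rw [Pi.sub_apply, hdegX ζ hζ, hdegX ψ hψ, sub_self]
    have hdS : ζ - ψ ∈ Cfsg.zspanOn S {1}ᶜ := ⟨zspan_mono hXS hd.1, hd.2⟩
    have h1 : σ (ζ - ψ) = σ ζ - σ ψ := by
      have := map_zsmul_sub_zsmul hσ hζz hψz 1 1
      simpa using this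
    have h2 : Cfsg.classInner β (σ ζ - σ ψ) = (q : ℂ) := by
      rw [← h1, hσα _ hd, hβdef, hα.2.2.1 b0 hb0 _ hdS, hb0eq]
      have e1 : ζ - ψ = (1 : ℂ) • ζ + (-1 : ℂ) • ψ := by
        rw [one_smul, neg_one_smul, sub_eq_add_neg]
      rw [e1, classInner_comb, ci ζ ζ (hirrX ζ hζ) (hirrX ζ hζ), ci ζ ψ (hirrX ζ hζ) (hirrX ψ hψ),
        ci η ζ (hirrY η hη) (hirrX ζ hζ), ci η ψ (hirrY η hη) (hirrX ψ hψ), if_pos rfl,
        if_neg (Ne.symm hne), if_neg (Ne.symm hζη), if_neg (Ne.symm (hXYne ψ hψ η hη))]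
      simp only [map_neg, map_one]
      push_cast
      ring
    rw [classInner_sub_right, hu ζ hζ, hu ψ hψ] at h2
    have h3 : ((u ζ - u ψ : ℤ) : ℂ) = ((q : ℤ) : ℂ) := by
      push_cast
      exact h2
    have h4 : u ζ - u ψ = (q : ℤ) := by exact_mod_cast h3
    omega
  -- the degrees on the `Y` side
  have htex : ∀ ψ : N → ℂ, ∃ t : ℕ, ψ ∈ Y → 0 < t ∧ ψ 1 = ((e * q * t : ℕ) : ℂ) := by
    intro ψ
    by_cases hψ : ψ ∈ Y
    · obtain ⟨t, ht, hd⟩ := hmin ψ hψ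
      exact ⟨t, fun _ => ⟨ht, hd⟩⟩
    · exact ⟨0, fun h => absurd h hψ⟩
  choose t ht using htex
  have hrelY : ∀ ψ ∈ Y, ψ ≠ η → v ψ = (t ψ : ℤ) * (v η + 1) := by
    intro ψ hψ hne
    have hψz := mem_zspan_of_mem hψ
    have hηz := mem_zspan_of_mem hη
    have hd : ((t ψ : ℕ) : ℤ) • η - ψ ∈ Cfsg.zspanOn Y {1}ᶜ := by
      rw [mem_zspanOn_compl_one]
      refine ⟨zspan_sub_mem (zspan_zsmul_mem _ hηz) hψz, ?_⟩
      rw [Pi.sub_apply, Pi.smul_apply, zsmul_eq_mul, hdegη, (ht ψ hψ).2]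
      push_cast
      ring
    have hdS : ((t ψ : ℕ) : ℤ) • η - ψ ∈ Cfsg.zspanOn S {1}ᶜ := ⟨zspan_mono hYS hd.1, hd.2⟩
    have h1 : ρ (((t ψ : ℕ) : ℤ) • η - ψ) = ((t ψ : ℕ) : ℤ) • ρ η - ρ ψ := by
      have := map_zsmul_sub_zsmul hρ hηz hψz ((t ψ : ℕ) : ℤ) 1
      simpa using this
    have h2 : Cfsg.classInner β (((t ψ : ℕ) : ℤ) • ρ η - ρ ψ) = - ((t ψ : ℕ) : ℂ) := by
      rw [← h1, hρα _ hd, hβdef, hα.2.2.1 b0 hb0 _ hdS, hb0eq]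
      have e1 : ((t ψ : ℕ) : ℤ) • η - ψ = (((t ψ : ℕ) : ℤ) : ℂ) • η + (-1 : ℂ) • ψ := by
        rw [Int.cast_smul_eq_zsmul, neg_one_smul, sub_eq_add_neg]
      rw [e1, classInner_comb, ci ζ η (hirrX ζ hζ) (hirrY η hη), ci ζ ψ (hirrX ζ hζ) (hirrY ψ hψ),
        ci η η (hirrY η hη) (hirrY η hη), ci η ψ (hirrY η hη) (hirrY ψ hψ), if_pos rfl,
        if_neg hζη, if_neg (hXYne ζ hζ ψ hψ), if_neg (Ne.symm hne)]
      simp only [map_neg, map_one, map_intCast]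
      push_cast
      ring
    rw [classInner_sub_right, classInner_zsmul_right, hv η hη, hv ψ hψ] at h2
    have h3 : (((t ψ : ℤ) * v η - v ψ : ℤ) : ℂ) = ((-(t ψ : ℤ) : ℤ) : ℂ) := by
      push_cast
      push_cast at h2
      exact h2
    have h4 : (t ψ : ℤ) * v η - v ψ = -(t ψ : ℤ) := by exact_mod_cast h3
    linarith
  -- divisibility on the `X` side
  have hdvdX : ∀ ψ ∈ X, (q : ℤ) ∣ u ψ := by
    intro ψ hψ
    have hχ := hXirr ψ hψ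
    have hcond : ∀ γ ∈ Cfsg.zspanOn Y {1}ᶜ, Cfsg.classInner (α γ) (εX • σ ψ) = 0 := by
      intro γ hγ
      rw [← hρα γ hγ, classInner_smul_right, perp_span N X Y σ ρ hρ hperp hψ hγ.1, mul_zero]
    obtain ⟨k, hk⟩ := hdiv _ hχ hcond
    rw [classInner_smul_right, hu ψ hψ] at hk
    rcases hεX with h | h
    · rw [h, map_one, one_mul] at hk
      refine ⟨k, ?_⟩
      have : ((u ψ : ℤ) : ℂ) = (((q : ℤ) * k : ℤ) : ℂ) := by
        push_cast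
        rw [hk]
        ring
      exact_mod_cast this
    · rw [h, map_neg, map_one, neg_one_mul] at hk
      refine ⟨-k, ?_⟩
      have : ((u ψ : ℤ) : ℂ) = (((q : ℤ) * (-k) : ℤ) : ℂ) := by
        push_cast
        linear_combination (-1 : ℂ) * hk
      exact_mod_cast this
  -- finiteness
  have hfin : {χ : N → ℂ | Cfsg.IsIrrCharacter N χ}.Finite :=
    @Set.toFinite _ _ (Cfsg.Agent.Helper23.finite_irrCharacter N)
  set Xf : Finset (N → ℂ) := (hfin.subset (fun ξ hξ => hirrX ξ hξ)).toFinset with hXfdef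
  set Yf : Finset (N → ℂ) := (hfin.subset (fun ξ hξ => hirrY ξ hξ)).toFinset with hYfdef
  have hmemXf : ∀ φ, φ ∈ Xf ↔ φ ∈ X := fun φ => Set.Finite.mem_toFinset _
  have hmemYf : ∀ φ, φ ∈ Yf ↔ φ ∈ Y := fun φ => Set.Finite.mem_toFinset _
  have hζXf : ζ ∈ Xf := (hmemXf ζ).mpr hζ
  have hηYf : η ∈ Yf := (hmemYf η).mpr hη
  have hcardX : 2 ≤ Xf.card := by
    have h1 : ({ζ, Cfsg.conjFun ζ} : Finset (N → ℂ)) ⊆ Xf := by
      intro a ha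
      rw [Finset.mem_insert, Finset.mem_singleton] at ha
      rcases ha with rfl | rfl
      · exact hζXf
      · exact (hmemXf _).mpr (hXc _ hζ).1
    have h2 := Finset.card_le_card h1
    rw [Finset.card_pair (fun h => (hXc ζ hζ).2 h.symm)] at h2
    exact h2
  have hcardY : 2 ≤ Yf.card := by
    have h1 : ({η, Cfsg.conjFun η} : Finset (N → ℂ)) ⊆ Yf := by
      intro a ha
      rw [Finset.mem_insert, Finset.mem_singleton] at ha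
      rcases ha with rfl | rfl
      · exact hηYf
      · exact (hmemYf _).mpr (hYc _ hη).1
    have h2 := Finset.card_le_card h1
    rw [Finset.card_pair (fun h => (hYc η hη).2 h.symm)] at h2
    exact h2
  -- the Bessel identity
  set B : Finset (G → ℂ) := Xf.image σ ∪ Yf.image ρ with hBdef
  have hσinj : ∀ a ∈ X, ∀ b ∈ X, σ a = σ b → a = b := by
    intro a ha b hb hab
    by_contra hne
    have h1 := honX a ha b hb
    rw [if_neg hne, hab, honX b hb b hb, if_pos rfl] at h1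
    exact one_ne_zero h1
  have hρinj : ∀ a ∈ Y, ∀ b ∈ Y, ρ a = ρ b → a = b := by
    intro a ha b hb hab
    by_contra hne
    have h1 := honY a ha b hb
    rw [if_neg hne, hab, honY b hb b hb, if_pos rfl] at h1
    exact one_ne_zero h1
  have hσρne : ∀ a ∈ X, ∀ b ∈ Y, σ a ≠ ρ b := by
    intro a ha b hb hab
    have h1 := hperp a ha b hb
    rw [← hab, honX a ha a ha, if_pos rfl] at h1
    exact one_ne_zero h1
  have horthB : ∀ a ∈ B, ∀ b ∈ B, Cfsg.classInner a b = if a = b then 1 else 0 := by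
    intro a ha b hb
    rw [hBdef, Finset.mem_union, Finset.mem_image, Finset.mem_image] at ha hb
    rcases ha with ⟨a', ha', rfl⟩ | ⟨a', ha', rfl⟩ <;> rcases hb with ⟨b', hb', rfl⟩ | ⟨b', hb', rfl⟩
    · rw [hmemXf] at ha' hb'
      rw [honX a' ha' b' hb']
      by_cases h : a' = b'
      · rw [if_pos h, if_pos (by rw [h])]
      · rw [if_neg h, if_neg (fun h' => h (hσinj a' ha' b' hb' h'))]
    · rw [hmemXf] at ha'
      rw [hmemYf] at hb'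
      rw [hperp a' ha' b' hb', if_neg (hσρne a' ha' b' hb')]
    · rw [hmemYf] at ha'
      rw [hmemXf] at hb'
      rw [classInner_conj_symm, hperp b' hb' a' ha', map_zero,
        if_neg (fun h => hσρne b' hb' a' ha' h.symm)]
    · rw [hmemYf] at ha' hb'
      rw [honY a' ha' b' hb']
      by_cases h : a' = b'
      · rw [if_pos h, if_pos (by rw [h])]
      · rw [if_neg h, if_neg (fun h' => h (hρinj a' ha' b' hb' h'))]
  have hsumB : ∀ F : (G → ℂ) → (G → ℂ), ∑ a ∈ B, F a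
      = ∑ ψ ∈ Xf, F (σ ψ) + ∑ ψ ∈ Yf, F (ρ ψ) := by
    intro F
    rw [hBdef, Finset.sum_union, Finset.sum_image, Finset.sum_image]
    · intro a ha b hb hab
      exact hρinj a ((hmemYf a).mp ha) b ((hmemYf b).mp hb) hab
    · intro a ha b hb hab
      exact hσinj a ((hmemXf a).mp ha) b ((hmemXf b).mp hb) hab
    · rw [Finset.disjoint_left]
      intro a ha hb
      rw [Finset.mem_image] at ha hb
      obtain ⟨a', ha', rfl⟩ := ha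
      obtain ⟨b', hb', hab⟩ := hb
      exact hσρne a' ((hmemXf a').mp ha') b' ((hmemYf b').mp hb') hab.symm
  have hsumB' : ∀ F : (G → ℂ) → ℂ, ∑ a ∈ B, F a
      = ∑ ψ ∈ Xf, F (σ ψ) + ∑ ψ ∈ Yf, F (ρ ψ) := by
    intro F
    rw [hBdef, Finset.sum_union, Finset.sum_image, Finset.sum_image]
    · intro a ha b hb hab
      exact hρinj a ((hmemYf a).mp ha) b ((hmemYf b).mp hb) hab
    · intro a ha b hb hab
      exact hσinj a ((hmemXf a).mp ha) b ((hmemXf b).mp hb) hab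
    · rw [Finset.disjoint_left]
      intro a ha hb
      rw [Finset.mem_image] at ha hb
      obtain ⟨a', ha', rfl⟩ := ha
      obtain ⟨b', hb', hab⟩ := hb
      exact hσρne a' ((hmemXf a').mp ha') b' ((hmemYf b').mp hb') hab.symm
  obtain ⟨-, hbes⟩ := bessel_sub B horthB β
  have hPX : ∑ ψ ∈ Xf, Cfsg.classInner β (σ ψ) • σ ψ = ∑ ψ ∈ Xf, ((u ψ : ℤ) : ℂ) • σ ψ := by
    apply Finset.sum_congr rfl
    intro ψ hψ
    rw [hu ψ ((hmemXf ψ).mp hψ)]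
  have hPY : ∑ ψ ∈ Yf, Cfsg.classInner β (ρ ψ) • ρ ψ = ∑ ψ ∈ Yf, ((v ψ : ℤ) : ℂ) • ρ ψ := by
    apply Finset.sum_congr rfl
    intro ψ hψ
    rw [hv ψ ((hmemYf ψ).mp hψ)]
  set Δ := β - ∑ a ∈ B, Cfsg.classInner β a • a with hΔdef
  have hΔnorm : Cfsg.classInner Δ Δ
      = (((q : ℤ) ^ 2 + 1 - ∑ ψ ∈ Xf, (u ψ) ^ 2 - ∑ ψ ∈ Yf, (v ψ) ^ 2 : ℤ) : ℂ) := by
    rw [hbes, hββ, hsumB' (fun a => Cfsg.classInner β a * (starRingEnd ℂ) (Cfsg.classInner β a))]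
    have h1 : ∑ ψ ∈ Xf, Cfsg.classInner β (σ ψ) * (starRingEnd ℂ) (Cfsg.classInner β (σ ψ))
        = ((∑ ψ ∈ Xf, (u ψ) ^ 2 : ℤ) : ℂ) := by
      push_cast
      apply Finset.sum_congr rfl
      intro ψ hψ
      rw [hu ψ ((hmemXf ψ).mp hψ), map_intCast]
      ring
    have h2 : ∑ ψ ∈ Yf, Cfsg.classInner β (ρ ψ) * (starRingEnd ℂ) (Cfsg.classInner β (ρ ψ))
        = ((∑ ψ ∈ Yf, (v ψ) ^ 2 : ℤ) : ℂ) := by
      push_cast
      apply Finset.sum_congr rfl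
      intro ψ hψ
      rw [hv ψ ((hmemYf ψ).mp hψ), map_intCast]
      ring
    rw [h1, h2]
    push_cast
    ring
  have hnonneg := int_nonneg_of_classInner_self hΔnorm
  -- the arithmetic
  have hq' : (0 : ℤ) < (q : ℤ) := by exact_mod_cast hq
  obtain ⟨hUge, hUeq⟩ := arithX Xf ζ hζXf u (q : ℤ) hq'
    (fun ψ hψ hne => hrelX ψ ((hmemXf ψ).mp hψ) hne) (hdvdX ζ hζ) hcardX
  obtain ⟨hVge, hVeq⟩ := arithY Yf η hηYf v (fun ψ => (t ψ : ℤ))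
    (fun ψ hψ => by
      have := (ht ψ ((hmemYf ψ).mp hψ)).1
      exact_mod_cast this)
    (fun ψ hψ hne => hrelY ψ ((hmemYf ψ).mp hψ) hne) hcardY
  have hU : ∑ ψ ∈ Xf, (u ψ) ^ 2 = (q : ℤ) ^ 2 := by linarith
  have hV : ∑ ψ ∈ Yf, (v ψ) ^ 2 = 1 := by linarith
  have hΔ0 : Δ = 0 := by
    apply eq_zero_of_classInner_self_eq_zero
    rw [hΔnorm, hU, hV]
    push_cast
    ring
  have hβeq : β = ∑ ψ ∈ Xf, ((u ψ : ℤ) : ℂ) • σ ψ + ∑ ψ ∈ Yf, ((v ψ : ℤ) : ℂ) • ρ ψ := by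
    have h1 : β = ∑ a ∈ B, Cfsg.classInner β a • a := by
      have := hΔ0
      rw [hΔdef] at this
      exact sub_eq_zero.mp this
    rw [hsumB (fun a => Cfsg.classInner β a • a), hPX, hPY] at h1
    exact h1
  -- the `X` part
  have hXpart : ∃ x : G → ℂ, ∑ ψ ∈ Xf, ((u ψ : ℤ) : ℂ) • σ ψ = (q : ℤ) • x ∧
      (x = σ ζ ∨ (X = {ζ, Cfsg.conjFun ζ} ∧ x = - σ (Cfsg.conjFun ζ))) := by
    rcases hUeq hU with ⟨h1, h2⟩ | ⟨h1, h2⟩
    · refine ⟨σ ζ, ?_, Or.inl rfl⟩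
      rw [Finset.sum_eq_single ζ]
      · rw [h1, Int.cast_smul_eq_zsmul]
      · intro ψ hψ hne
        rw [h2 ψ hψ hne, Int.cast_zero, zero_smul]
      · intro h
        exact absurd hζXf h
    · have hcζ : Cfsg.conjFun ζ ∈ Xf := (hmemXf _).mpr (hXc ζ hζ).1
      have hne : ζ ≠ Cfsg.conjFun ζ := fun h => (hXc ζ hζ).2 h.symm
      have hXfeq : Xf = {ζ, Cfsg.conjFun ζ} := by
        symm
        apply Finset.eq_of_subset_of_card_le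
        · intro a ha
          rw [Finset.mem_insert, Finset.mem_singleton] at ha
          rcases ha with rfl | rfl
          · exact hζXf
          · exact hcζ
        · rw [h2, Finset.card_pair hne]
      have hXeq : X = {ζ, Cfsg.conjFun ζ} := by
        ext a
        rw [← hmemXf a, hXfeq]
        simp
      refine ⟨- σ (Cfsg.conjFun ζ), ?_, Or.inr ⟨hXeq, rfl⟩⟩
      rw [hXfeq, Finset.sum_pair hne, h1, hrelX _ (hXc ζ hζ).1 (hXc ζ hζ).2, h1]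
      rw [Int.cast_zero, zero_smul, zero_add, zero_sub, Int.cast_smul_eq_zsmul]
      rw [neg_smul, smul_neg]
  -- the `Y` part
  have hYpart : ∃ y : G → ℂ, ∑ ψ ∈ Yf, ((v ψ : ℤ) : ℂ) • ρ ψ = - y ∧
      (y = ρ η ∨ (Y = {η, Cfsg.conjFun η} ∧ y = - ρ (Cfsg.conjFun η))) := by
    rcases hVeq hV with ⟨h1, h2⟩ | ⟨h1, h2, h3⟩
    · refine ⟨ρ η, ?_, Or.inl rfl⟩
      rw [Finset.sum_eq_single η]
      · rw [h1]
        push_cast
        rw [neg_one_smul]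
      · intro ψ hψ hne
        rw [h2 ψ hψ hne, Int.cast_zero, zero_smul]
      · intro h
        exact absurd hηYf h
    · have hcη : Cfsg.conjFun η ∈ Yf := (hmemYf _).mpr (hYc η hη).1
      have hne : η ≠ Cfsg.conjFun η := fun h => (hYc η hη).2 h.symm
      have hYfeq : Yf = {η, Cfsg.conjFun η} := by
        symm
        apply Finset.eq_of_subset_of_card_le
        · intro a ha
          rw [Finset.mem_insert, Finset.mem_singleton] at ha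
          rcases ha with rfl | rfl
          · exact hηYf
          · exact hcη
        · rw [h2, Finset.card_pair hne]
      have hYeq : Y = {η, Cfsg.conjFun η} := by
        ext a
        rw [← hmemYf a, hYfeq]
        simp
      refine ⟨- ρ (Cfsg.conjFun η), ?_, Or.inr ⟨hYeq, rfl⟩⟩
      rw [hYfeq, Finset.sum_pair hne, h1, h3 _ hcη (Ne.symm hne)]
      rw [Int.cast_zero, zero_smul, zero_add, Int.cast_one, one_smul, neg_neg]
  obtain ⟨x, hx, hxcase⟩ := hXpart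
  obtain ⟨y, hy, hycase⟩ := hYpart
  refine ⟨x, y, ?_, hxcase, hycase⟩
  rw [hβeq, hx, hy, sub_eq_add_neg]

/-- choice of the extension on one side -/
theorem exists_ext_with_value (S X : Set (N → ℂ)) (hirr : ∀ ξ ∈ S, Cfsg.IsIrrCharacter N ξ)
    (hXS : X ⊆ S) (hXc : ∀ ξ ∈ X, Cfsg.conjFun ξ ∈ X ∧ Cfsg.conjFun ξ ≠ ξ)
    (α σ : (N → ℂ) → (G → ℂ)) (hσ : Cfsg.IsLinearIsometryOn (Cfsg.zspan X) σ)
    (hσα : ∀ θ ∈ Cfsg.zspanOn X {1}ᶜ, σ θ = α θ) (ζ : N → ℂ) (hζ : ζ ∈ X) (x : G → ℂ)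
    (hx : x = σ ζ ∨ (X = {ζ, Cfsg.conjFun ζ} ∧ x = - σ (Cfsg.conjFun ζ))) :
    ∃ σ' : (N → ℂ) → (G → ℂ), Cfsg.IsLinearIsometryOn (Cfsg.zspan X) σ' ∧
      (∀ θ ∈ Cfsg.zspanOn X {1}ᶜ, σ' θ = α θ) ∧ σ' ζ = x := by
  rcases hx with rfl | ⟨hX, rfl⟩
  · exact ⟨σ, hσ, hσα, rfl⟩
  · have hirrX : ∀ ξ ∈ X, Cfsg.IsIrrCharacter N ξ := fun ξ h => hirr ξ (hXS h)
    have hne : ζ ≠ Cfsg.conjFun ζ := fun h => (hXc ζ hζ).2 h.symm
    have hdeg : ζ 1 = Cfsg.conjFun ζ 1 := by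
      obtain ⟨d, -, hd⟩ := irr_degree_pos (hirrX ζ hζ)
      show ζ 1 = (starRingEnd ℂ) (ζ 1)
      rw [hd, Complex.conj_natCast]
    obtain ⟨σ', hσ', h1, -, h3⟩ := swap_ext X hirrX ζ (Cfsg.conjFun ζ) hX hne hdeg σ hσ
    exact ⟨σ', hσ', fun θ hθ => (h3 θ hθ).trans (hσα θ hθ), h1⟩

/-- **Linking two coherent sets**: `X` of constant degree `e`, `Y` with all degrees multiples of
`e q`, the degree of `η ∈ Y`, under the divisibility property `hdiv`. -/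
theorem link (S X Y : Set (N → ℂ)) (hirr : ∀ ξ ∈ S, Cfsg.IsIrrCharacter N ξ) (hXS : X ⊆ S)
    (hYS : Y ⊆ S) (hXY : Disjoint X Y)
    (hXc : ∀ ξ ∈ X, Cfsg.conjFun ξ ∈ X ∧ Cfsg.conjFun ξ ≠ ξ)
    (hYc : ∀ ξ ∈ Y, Cfsg.conjFun ξ ∈ Y ∧ Cfsg.conjFun ξ ≠ ξ)
    (α : (N → ℂ) → (G → ℂ)) (hα : Cfsg.IsLinearIsometryOn (Cfsg.zspanOn S {1}ᶜ) α)
    (hα1 : ∀ θ ∈ Cfsg.zspanOn S {1}ᶜ, α θ 1 = 0)
    (hcohX : Cfsg.IsCoherent X {1}ᶜ α) (hcohY : Cfsg.IsCoherent Y {1}ᶜ α)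
    (e q : ℕ) (he : 0 < e) (hq : 0 < q) (hdegX : ∀ ξ ∈ X, ξ 1 = (e : ℂ))
    (ζ η : N → ℂ) (hζ : ζ ∈ X) (hη : η ∈ Y) (hdegη : η 1 = ((e * q : ℕ) : ℂ))
    (hmin : ∀ η' ∈ Y, ∃ t : ℕ, 0 < t ∧ η' 1 = ((e * q * t : ℕ) : ℂ))
    (hdiv : ∀ χ : G → ℂ, Cfsg.IsIrrCharacter G χ →
      (∀ γ ∈ Cfsg.zspanOn Y {1}ᶜ, Cfsg.classInner (α γ) χ = 0) →
      ∃ k : ℤ, Cfsg.classInner (α ((q : ℤ) • ζ - η)) χ = (k : ℂ) * q) :
    Cfsg.IsCoherent (X ∪ Y) {1}ᶜ α := by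
  obtain ⟨-, σ, hσ, hσα⟩ := hcohX
  obtain ⟨-, ρ, hρ, hρα⟩ := hcohY
  obtain ⟨x, y, hβ, hx, hy⟩ := link_analysis N S X Y hirr hXS hYS hXY hXc hYc α hα hα1 σ ρ hσ hσα
    hρ hρα e q he hq hdegX ζ η hζ hη hdegη hmin hdiv
  obtain ⟨σ', hσ', hσ'α, hσ'ζ⟩ := exists_ext_with_value N S X hirr hXS hXc α σ hσ hσα ζ hζ x hx
  obtain ⟨ρ', hρ', hρ'α, hρ'η⟩ := exists_ext_with_value N S Y hirr hYS hYc α ρ hρ hρα η hη y hy
  have hX2 : ∃ a ∈ X, ∃ b ∈ X, a ≠ b :=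
    ⟨ζ, hζ, Cfsg.conjFun ζ, (hXc ζ hζ).1, fun h => (hXc ζ hζ).2 h.symm⟩
  have hY2 : ∃ a ∈ Y, ∃ b ∈ Y, a ≠ b :=
    ⟨η, hη, Cfsg.conjFun η, (hYc η hη).1, fun h => (hYc η hη).2 h.symm⟩
  apply (Cfsg.Agent.S1531.result N S X Y hirr hXS hYS hXY hX2 hY2 α hα hα1 σ' ρ' hσ' hσ'α
    hρ' hρ'α).2
  refine ⟨ζ, hζ, η, hη, ?_⟩
  rw [hσ'ζ, hρ'η, hdegX ζ hζ, hdegη]
  have hζS := mem_zspan_of_mem (hXS hζ)
  have hηS := mem_zspan_of_mem (hYS hη)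
  have hb0 : (q : ℤ) • ζ - η ∈ Cfsg.zspanOn S {1}ᶜ := by
    rw [mem_zspanOn_compl_one]
    refine ⟨zspan_sub_mem (zspan_zsmul_mem _ hζS) hηS, ?_⟩
    rw [Pi.sub_apply, Pi.smul_apply, zsmul_eq_mul, hdegX ζ hζ, hdegη]
    push_cast
    ring
  have e1 : (e : ℂ) • η - ((e * q : ℕ) : ℂ) • ζ = (-(e : ℤ)) • ((q : ℤ) • ζ - η) := by
    funext g
    simp only [Pi.sub_apply, Pi.smul_apply]
    simp only [smul_eq_mul, zsmul_eq_mul]
    push_cast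
    ring
  rw [e1, hα.2.1 _ hb0, hβ]
  funext g
  simp only [Pi.sub_apply, Pi.smul_apply]
  simp only [smul_eq_mul, zsmul_eq_mul]
  push_cast
  ring

end Link

end Cfsg.Agent.Helper5.Sib
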