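import Mathlib
import Cfsg.Prelude.Def_Characters
import Cfsg.Prelude.Def_OddOrderChar
import Cfsg.Prelude.Def_OddOrderLocal
import Cfsg.Agent.Helper5.SibB
import Cfsg.Agent.Helper8.IrrCoherence
import Cfsg.Agent.Helper8.ExtendCoherent

/-!
Sibley's coherence theorem (Peterfalvi 6.8), part F: the divisibility property needed to link the
characters of degree `e` to the characters nontrivial on the central subgroup `Z`.
-/

set_option autoImplicit false
set_option linter.unusedSectionVars false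
set_option linter.style.haveILetI false

namespace Cfsg.Agent.Helper5.Sib

open Cfsg Cfsg.Agent.Helper8

section Div

variable {G : Type*} [Group G] [Fintype G]

/-- the divisibility property of the link lemma, from the congruence step -/
theorem div_step (H L : Subgroup G) [Fintype L] [hK : (H.subgroupOf L).Normal]
    (hodd : Odd (Nat.card L)) (hHL : H ≤ L) (hTI : Cfsg.IsTISubset (H : Set G))
    (hN : Subgroup.normalizer (H : Set G) = L)
    (hirr : ∀ φ ∈ Cfsg.inducedIrrAbove (H.subgroupOf L) ⊥, Cfsg.IsIrrCharacter L φ)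
    (p : ℕ) [Fact p.Prime] (P : Sylow p G) (hPH : (P : Subgroup G) = H)
    (Z : Subgroup L) [hZ : Z.Normal] (hZ1 : Z ≠ ⊥) (hZK : Z ≤ H.subgroupOf L)
    (hZc : ∀ z ∈ Z, ∀ k ∈ H.subgroupOf L, z * k = k * z)
    (ζ η : L → ℂ) (hζ : Cfsg.IsIrrCharacter L ζ)
    (hη : η ∈ Cfsg.inducedIrrAbove (H.subgroupOf L) ⊥ \ Cfsg.inducedIrrAbove (H.subgroupOf L) Z)
    (q : ℕ) (hdegη : η 1 = (((H.subgroupOf L).index * q : ℕ) : ℂ))
    (χ : G → ℂ) (hχ : Cfsg.IsIrrCharacter G χ)
    (horth : ∀ γ ∈ Cfsg.zspanOn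
      (Cfsg.inducedIrrAbove (H.subgroupOf L) ⊥ \ Cfsg.inducedIrrAbove (H.subgroupOf L) Z) {1}ᶜ,
      Cfsg.classInner (Cfsg.indFun L γ) χ = 0) :
    ∃ k : ℤ, Cfsg.classInner (Cfsg.indFun L ((q : ℤ) • ζ - η)) χ = (k : ℂ) * q := by
  classical
  haveI : Fintype (Cfsg.IrrCharacter L) :=
    @Fintype.ofFinite _ (Cfsg.Agent.Helper23.finite_irrCharacter L)
  set K := H.subgroupOf L with hKdef
  have hirrY0 : ∀ φ ∈ Cfsg.inducedIrrAbove K ⊥ \ Cfsg.inducedIrrAbove K Z,
      Cfsg.IsIrrCharacter L φ := fun φ hφ => hirr φ hφ.1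
  have hYeq0 := diff_eq_irr K Z hZK hirrY0
  set Y := Cfsg.inducedIrrAbove K ⊥ \ Cfsg.inducedIrrAbove K Z with hYdef
  have hirrY : ∀ φ ∈ Y, Cfsg.IsIrrCharacter L φ := hirrY0
  have hYeq : Y = {χ | Cfsg.IsIrrCharacter L χ ∧ ∃ z ∈ Z, χ z ≠ χ 1} := hYeq0
  have hχc := Cfsg.Agent.Helper24.IsIrrCharacter.isCharacter hχ
  have hχcf : Cfsg.IsClassFunction G χ := Cfsg.Agent.Helper24.IsCharacter.isClassFunction hχc
  set f : L → ℂ := fun l : L => χ l with hf
  have hfc : Cfsg.IsCharacter L f := isCharacter_restrict L hχc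
  have hrec : ∀ γ : L → ℂ, Cfsg.classInner (Cfsg.indFun L γ) χ = Cfsg.classInner γ f :=
    fun γ => frobenius_reciprocity L γ χ hχcf
  have hηirr := hirrY η hη
  have hηc := Cfsg.Agent.Helper24.IsIrrCharacter.isCharacter hηirr
  -- the proportionality
  have hprop : ∀ ψ : Cfsg.IrrCharacter L, (∃ z ∈ Z, (ψ : L → ℂ) z ≠ (ψ : L → ℂ) 1) →
      Cfsg.classInner f (ψ : L → ℂ) * η 1 = Cfsg.classInner f η * (ψ : L → ℂ) 1 := by
    intro ψ hψ
    have hψY : (ψ : L → ℂ) ∈ Y := by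
      rw [hYeq]
      exact ⟨ψ.2, hψ⟩
    obtain ⟨dψ, -, hdψ⟩ := Cfsg.Agent.Helper24.isIrrCharacter_one ψ.2
    obtain ⟨dη, -, hdη⟩ := Cfsg.Agent.Helper24.isIrrCharacter_one hηirr
    have hγ : (dψ : ℤ) • η - (dη : ℤ) • (ψ : L → ℂ) ∈ Cfsg.zspanOn Y {1}ᶜ := by
      rw [mem_zspanOn_compl_one]
      refine ⟨zspan_sub_mem (zspan_zsmul_mem _ (mem_zspan_of_mem hη))
        (zspan_zsmul_mem _ (mem_zspan_of_mem hψY)), ?_⟩
      simp only [Pi.sub_apply, Pi.smul_apply]
      simp only [zsmul_eq_mul]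
      rw [hdψ, hdη]
      push_cast
      ring
    have h0 := horth _ hγ
    rw [hrec, classInner_sub_left, classInner_zsmul_left, classInner_zsmul_left] at h0
    obtain ⟨n₁, hn₁⟩ := Cfsg.Agent.Helper24.IsCharacter.classInner_nat hfc
      (Cfsg.Agent.Helper24.IsIrrCharacter.isCharacter ψ.2)
    obtain ⟨n₂, hn₂⟩ := Cfsg.Agent.Helper24.IsCharacter.classInner_nat hfc hηc
    have e1 : Cfsg.classInner (ψ : L → ℂ) f = n₁ := by
      rw [classInner_conj_symm, hn₁, Complex.conj_natCast]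
    have e2 : Cfsg.classInner η f = n₂ := by
      rw [classInner_conj_symm, hn₂, Complex.conj_natCast]
    rw [e1, e2] at h0
    rw [hn₁, hn₂, hdψ, hdη]
    push_cast at h0
    linear_combination -h0
  obtain ⟨k, hk⟩ := cong_step H L hodd hTI hN p P hPH Z hZ1 hZK hZc χ hχ η hηirr hprop
  -- cancel
  have hcardL : (Nat.card L : ℂ) = (K.index : ℂ) * (Nat.card H : ℂ) := by
    have h1 : K.index * Nat.card K = Nat.card L := Subgroup.index_mul_card K
    have h2 : Nat.card K = Nat.card H := Nat.card_congr (Subgroup.subgroupOfEquivOfLe hHL).toEquiv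
    rw [← h1, h2]
    push_cast
    ring
  have hne : (K.index : ℂ) * (Nat.card H : ℂ) ≠ 0 := by
    rw [← hcardL]
    exact_mod_cast (Nat.card_pos (α := L)).ne'
  have hfη : Cfsg.classInner f η = (k : ℂ) * q := by
    rw [hcardL, hdegη] at hk
    push_cast at hk
    have : Cfsg.classInner f η * ((K.index : ℂ) * (Nat.card H : ℂ))
        = ((k : ℂ) * q) * ((K.index : ℂ) * (Nat.card H : ℂ)) := by
      rw [hk]
      ring
    exact mul_right_cancel₀ hne this
  obtain ⟨m, hm⟩ := Cfsg.Agent.Helper24.IsCharacter.classInner_nat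
    (Cfsg.Agent.Helper24.IsIrrCharacter.isCharacter hζ) hfc
  refine ⟨(m : ℤ) - k, ?_⟩
  rw [hrec, classInner_sub_left, classInner_zsmul_left, hm]
  have e3 : Cfsg.classInner η f = (k : ℂ) * q := by
    rw [classInner_conj_symm, hfη]
    simp
  rw [e3]
  push_cast
  ring

end Div

end Cfsg.Agent.Helper5.Sib
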