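import Mathlib
import Cfsg.Prelude.Def_Characters
import Cfsg.Prelude.Def_OddOrderChar
import Cfsg.Prelude.Def_OddOrderLocal
import Cfsg.Agent.Helper5.SibA
import Cfsg.Agent.Helper5.SibB
import Cfsg.Agent.Helper5.SibD
import Cfsg.Agent.Helper5.SibE
import Cfsg.Agent.Helper5.SibF
import Cfsg.Agent.Helper8.IrrCoherence
import Cfsg.Agent.Helper8.CoherenceKernel
import Cfsg.Agent.Helper23.PGroup
import Cfsg.Agent.S1516

/-!
Sibley's coherence theorem (Peterfalvi 6.8), part G: the final assembly.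
-/

set_option autoImplicit false
set_option linter.unusedSectionVars false
set_option linter.style.haveILetI false
set_option maxHeartbeats 1600000

namespace Cfsg.Agent.Helper5.Sib

open Cfsg Cfsg.Agent.Helper8

section Main

variable {G : Type*} [Group G] [Fintype G]

/-- the case of a non-abelian `p`-group kernel -/
theorem sibley_pgroup (H L : Subgroup G) [Fintype L] [hKn : (H.subgroupOf L).Normal]
    (hodd : Odd (Nat.card L)) (hlt : H < L)
    (hF : ∀ x ∈ L, x ∉ H → ∀ h ∈ H, x * h = h * x → h = 1)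
    (hTI : Cfsg.IsTISubset (H : Set G)) (hN : Subgroup.normalizer (H : Set G) = L)
    (R : (L → ℂ) → Finset (G → ℂ))
    (hS : Cfsg.IsCoherenceSystem (Cfsg.inducedIrrAbove (H.subgroupOf L) ⊥)
      (fun α : L → ℂ => Cfsg.indFun L α) R)
    (hnilK : Group.IsNilpotent (H.subgroupOf L))
    (hH₁K : ⁅H.subgroupOf L, H.subgroupOf L⁆ < H.subgroupOf L)
    (hab : ¬ ⁅H.subgroupOf L, H.subgroupOf L⁆ ≤ ⊥)
    (p m : ℕ) (hp : p.Prime) (hcard : Nat.card (H.subgroupOf L) = p ^ m) :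
    Cfsg.IsCoherent (Cfsg.inducedIrrAbove (H.subgroupOf L) ⊥) {1}ᶜ
      (fun α : L → ℂ => Cfsg.indFun L α) := by
  classical
  haveI := Fact.mk hp
  set K := H.subgroupOf L with hKdef
  haveI : Fintype K := Fintype.ofFinite K
  haveI : Fintype (Cfsg.IrrCharacter K) :=
    @Fintype.ofFinite _ (Cfsg.Agent.Helper23.finite_irrCharacter K)
  haveI : Fintype (Cfsg.IrrCharacter L) :=
    @Fintype.ofFinite _ (Cfsg.Agent.Helper23.finite_irrCharacter L)
  have hsolv : Group.IsSolvable K := inferInstance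
  set τ : (L → ℂ) → (G → ℂ) := fun α : L → ℂ => Cfsg.indFun L α with hτ
  set S := Cfsg.inducedIrrAbove K ⊥ with hSdef
  have hF' : ∀ n : L, n ∉ K → ∀ k ∈ K, n * k = k * n → k = 1 := by
    intro n hn k hk hkn
    have hn' : (n : G) ∉ H := fun h => hn (Subgroup.mem_subgroupOf.mpr h)
    have hk' : (k : G) ∈ H := Subgroup.mem_subgroupOf.mp hk
    have h1 : (n : G) * (k : G) = (k : G) * (n : G) := by
      have := congrArg Subtype.val hkn
      simpa using this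
    exact Subtype.ext (hF n n.2 hn' k hk' h1)
  haveI hcn : (⁅K, K⁆ : Subgroup L).Normal := Subgroup.commutator_normal K K
  have hcommle : ⁅K, K⁆ ≤ K := hH₁K.le
  have hfrob := fpf_quot K ⁅K, K⁆ hcommle hF'
  have hirrS : ∀ φ ∈ S, Cfsg.IsIrrCharacter L φ := fun φ hφ => irr_of_mem H L hF hφ
  -- arithmetic of `p` and `e`
  set e := K.index with he
  have hepos : 0 < e := Nat.pos_of_ne_zero Subgroup.index_ne_zero_of_finite
  have hoddK : Odd e := hodd.of_dvd_nat K.index_dvd_card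
  have hr1 : 1 < (⁅K, K⁆ : Subgroup L).relIndex K := one_lt_relIndex_of_lt hH₁K
  have hrdvd : (⁅K, K⁆ : Subgroup L).relIndex K ∣ p ^ m := by
    rw [← hcard]
    exact ((⁅K, K⁆ : Subgroup L).subgroupOf K).index_dvd_card
  obtain ⟨j, -, hj⟩ := (Nat.dvd_prime_pow hp).mp hrdvd
  have hj1 : j ≠ 0 := by
    rintro rfl
    rw [pow_zero] at hj
    omega
  have hpr : p ∣ (⁅K, K⁆ : Subgroup L).relIndex K := by
    rw [hj]
    exact dvd_pow_self p hj1
  have hpodd : Odd p := (odd_relIndex hodd _ _).of_dvd_nat hpr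
  have d2 := index_dvd_relIndex_sub_one K K ⁅K, K⁆ le_rfl le_rfl hfrob
  have hcop : Nat.Coprime e p := by
    apply Nat.Coprime.symm
    rw [Nat.Prime.coprime_iff_not_dvd hp]
    intro hpe
    have h1 : p ∣ (⁅K, K⁆ : Subgroup L).relIndex K - 1 := hpe.trans d2
    have h2 : p ∣ 1 := by
      have h3 : (⁅K, K⁆ : Subgroup L).relIndex K
          = ((⁅K, K⁆ : Subgroup L).relIndex K - 1) + 1 := by omega
      rw [h3] at hpr
      exact (Nat.dvd_add_right h1).mp hpr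
    exact hp.one_lt.ne' (Nat.dvd_one.mp h2)
  -- the central subgroup `Z`
  set Z : Subgroup L := ⁅K, K⁆ ⊓ Subgroup.centralizer (K : Set L) with hZdef
  haveI hZn : Z.Normal := Subgroup.normal_inf_normal _ _
  have hZK' : Z ≤ ⁅K, K⁆ := inf_le_left
  have hZK : Z ≤ K := hZK'.trans hcommle
  have hZc : ∀ z ∈ Z, ∀ k ∈ K, z * k = k * z := by
    intro z hz k hk
    exact (Subgroup.mem_centralizer_iff.mp hz.2 k hk).symm
  have hpK : IsPGroup p K := IsPGroup.of_card hcard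
  have hZ1 : Z ≠ ⊥ := by
    haveI hNn : ((⁅K, K⁆ : Subgroup L).subgroupOf K).Normal := hcn.subgroupOf K
    have hNne : (⁅K, K⁆ : Subgroup L).subgroupOf K ≠ ⊥ := by
      intro h
      apply hab
      rw [Subgroup.subgroupOf_eq_bot] at h
      rw [le_bot_iff, ← disjoint_self]
      exact h.mono_right hcommle
    obtain ⟨b, hbN, hbc, hb1⟩ := Cfsg.Agent.Helper23.exists_mem_inf_center_ne_one hpK
      ((⁅K, K⁆ : Subgroup L).subgroupOf K) hNne
    intro hZ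
    apply hb1
    have hbZ : (b : L) ∈ Z := by
      refine ⟨Subgroup.mem_subgroupOf.mp hbN, ?_⟩
      show (b : L) ∈ Subgroup.centralizer (K : Set L)
      rw [Subgroup.mem_centralizer_iff]
      intro k hk
      have := Subgroup.mem_center_iff.mp hbc ⟨k, hk⟩
      exact congrArg Subtype.val this
    rw [hZ, Subgroup.mem_bot] at hbZ
    exact Subtype.ext hbZ
  -- the two coherent pieces
  set Y := S \ Cfsg.inducedIrrAbove K Z with hYdef
  set X₀ := Cfsg.inducedIrrAbove K ⁅K, K⁆ with hX₀def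
  have hcohY : Cfsg.IsCoherent Y {1}ᶜ τ :=
    irr_coherence K hsolv τ R hS hodd hnilK hH₁K hfrob Z hZ1 hZK hZc (fun χ hχ => hirrS χ hχ.1)
  have hcohX : Cfsg.IsCoherent X₀ {1}ᶜ τ :=
    coherent_above_commutator K hsolv τ R hS ⁅K, K⁆ le_rfl hH₁K
  have hXS : X₀ ⊆ S := inducedIrrAbove_subset_bot K _
  have hYS : Y ⊆ S := Set.sdiff_subset
  have hXZ : X₀ ⊆ Cfsg.inducedIrrAbove K Z := by
    rintro φ ⟨θ, hθ, hne, hker, rfl⟩
    exact ⟨θ, hθ, hne, fun a ha => hker a (hZK' ha), rfl⟩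
  have hXY : Disjoint X₀ Y := Set.disjoint_left.mpr (fun φ hφX hφY => hφY.2 (hXZ hφX))
  have hXc : ∀ ξ ∈ X₀, Cfsg.conjFun ξ ∈ X₀ ∧ Cfsg.conjFun ξ ≠ ξ := fun ξ hξ =>
    ⟨inducedIrrAbove_conj_mem K _ hξ, hS.conj_ne ξ (hXS hξ)⟩
  have hYc : ∀ ξ ∈ Y, Cfsg.conjFun ξ ∈ Y ∧ Cfsg.conjFun ξ ≠ ξ := by
    intro ξ hξ
    refine ⟨⟨inducedIrrAbove_conj_mem K ⊥ hξ.1, fun h => hξ.2 ?_⟩, hS.conj_ne ξ hξ.1⟩
    have h1 := inducedIrrAbove_conj_mem K Z h
    rwa [conjFun_conjFun] at h1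
  have hdegX : ∀ ξ ∈ X₀, ξ 1 = (e : ℂ) := by
    rintro φ ⟨θ, hθ, hne, hker, rfl⟩
    rw [Cfsg.Agent.Helper5.indFun_apply_one]
    have h1 : (θ : K → ℂ) 1 = 1 := by
      apply irr_degree_one_of_commutator_le_ker (⟨θ, hθ⟩ : Cfsg.IrrCharacter K)
      intro a ha
      apply hker a
      rw [← Subgroup.map_subtype_commutator K]
      exact ⟨a, ha, rfl⟩
    rw [h1, mul_one]
  obtain ⟨θζ, hθζ, -⟩ := exists_linear_irrAbove K hsolv hH₁K
  set ζ : L → ℂ := Cfsg.indFun K (θζ : K → ℂ) with hζdef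
  have hζ : ζ ∈ X₀ := (mem_inducedIrrAbove_iff K).mpr ⟨θζ, hθζ, rfl⟩
  -- prime power degrees
  have hbex : ∀ θ : Cfsg.IrrCharacter K, ∃ b, Cfsg.Agent.Helper24.irrDeg θ = p ^ b := by
    intro θ
    have h1 := Cfsg.Agent.Helper24.irrDeg_dvd_card θ
    rw [hcard] at h1
    obtain ⟨b, -, hb⟩ := (Nat.dvd_prime_pow hp).mp h1
    exact ⟨b, hb⟩
  choose bexp hbexp using hbex
  obtain ⟨θ₁, hθ₁, hθ₁min⟩ := Finset.exists_min_image (nonConst K Z) Cfsg.Agent.Helper24.irrDeg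
    (nonConst_nonempty K Z hZK hZ1)
  set η : L → ℂ := Cfsg.indFun K (θ₁ : K → ℂ) with hηdef
  have hη : η ∈ Y := (mem_diff_iff K Z).mpr ⟨θ₁, θ₁.2, (mem_nonConst K Z).mp hθ₁, rfl⟩
  set q := p ^ bexp θ₁ with hqdef
  have hqpos : 0 < q := pow_pos hp.pos _
  have hdegη : η 1 = ((e * q : ℕ) : ℂ) := by
    rw [hηdef, Cfsg.Agent.Helper5.indFun_apply_one, Cfsg.Agent.Helper24.irrDeg_spec, hbexp θ₁]
    rw [he, hqdef]
    push_cast
    ring
  have hmin : ∀ η' ∈ Y, ∃ t : ℕ, 0 < t ∧ η' 1 = ((e * q * t : ℕ) : ℂ) := by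
    intro η' hη'
    obtain ⟨θ', hθ', hnc, rfl⟩ := (mem_diff_iff K Z).mp hη'
    have hmem : (⟨θ', hθ'⟩ : Cfsg.IrrCharacter K) ∈ nonConst K Z := (mem_nonConst K Z).mpr hnc
    have hle := hθ₁min _ hmem
    rw [hbexp θ₁, hbexp ⟨θ', hθ'⟩] at hle
    have hble : bexp θ₁ ≤ bexp ⟨θ', hθ'⟩ := (Nat.pow_le_pow_iff_right hp.one_lt).mp hle
    refine ⟨p ^ (bexp ⟨θ', hθ'⟩ - bexp θ₁), pow_pos hp.pos _, ?_⟩
    rw [Cfsg.Agent.Helper5.indFun_apply_one]
    have h2 := Cfsg.Agent.Helper24.irrDeg_spec (⟨θ', hθ'⟩ : Cfsg.IrrCharacter K)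
    have h3 : θ' 1 = ((p ^ bexp ⟨θ', hθ'⟩ : ℕ) : ℂ) := by
      rw [← hbexp ⟨θ', hθ'⟩]
      exact h2
    rw [h3, hqdef, mul_assoc, ← pow_add, Nat.add_sub_cancel' hble, he]
    push_cast
    ring
  -- the Sylow subgroup
  have hcardKH : Nat.card K = Nat.card H :=
    Nat.card_congr (Subgroup.subgroupOfEquivOfLe hlt.le).toEquiv
  have hpH : IsPGroup p H := IsPGroup.of_card (hcardKH ▸ hcard)
  have hnotdvd : ¬ p ∣ H.relIndex L := by
    intro h
    have h1 : p ∣ e := h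
    have h2 := Nat.Coprime.eq_one_of_dvd hcop.symm h1
    exact hp.one_lt.ne' h2
  obtain ⟨P, hPH⟩ := sylow_of_ti H L p hpH hN hnotdvd
  have hdiv : ∀ χ : G → ℂ, Cfsg.IsIrrCharacter G χ →
      (∀ γ ∈ Cfsg.zspanOn Y {1}ᶜ, Cfsg.classInner (τ γ) χ = 0) →
      ∃ k : ℤ, Cfsg.classInner (τ ((q : ℤ) • ζ - η)) χ = (k : ℂ) * q := by
    intro χ hχ horth
    exact div_step H L hodd hlt.le hTI hN hirrS p P hPH Z hZ1 hZK hZc ζ η (hirrS ζ (hXS hζ)) hη q
      hdegη χ hχ horth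
  have hcoh₀ : Cfsg.IsCoherent (X₀ ∪ Y) {1}ᶜ τ :=
    link L S X₀ Y hirrS hXS hYS hXY hXc hYc τ hS.isometry hS.map_one hcohX hcohY e q hepos hqpos
      hdegX ζ η hζ hη hdegη hmin hdiv
  -- the final iteration
  have hfinS : S.Finite :=
    finite_of_orthogonal hS.orthogonal (fun χ hχ => cs_norm_ne_zero hS hχ)
  set Sf : Finset (L → ℂ) := hfinS.toFinset with hSfdef
  have hmemSf : ∀ φ, φ ∈ Sf ↔ φ ∈ S := fun φ => Set.Finite.mem_toFinset _
  have hdex : ∀ φ : L → ℂ, ∃ k : ℕ, φ ∈ S → φ 1 = (k : ℂ) := by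
    intro φ
    by_cases hφ : φ ∈ S
    · obtain ⟨k, hk⟩ := char_degree_nat (hS.isCharacter φ hφ)
      exact ⟨k, fun _ => hk⟩
    · exact ⟨0, fun h => absurd h hφ⟩
  choose d hd using hdex
  set n : (L → ℂ) → ℕ := fun _ => 1 with hndef
  have hn : ∀ φ ∈ S, Cfsg.classInner φ φ = (n φ : ℂ) := by
    intro φ hφ
    rw [Cfsg.Agent.Helper24.classInner_of_isIrrCharacter (hirrS φ hφ) (hirrS φ hφ), if_pos rfl]
    simp [hndef]
  have hdeg : ∀ θ : Cfsg.IrrCharacter K, Cfsg.indFun K (θ : K → ℂ) ∈ S →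
      d (Cfsg.indFun K (θ : K → ℂ)) = e * Cfsg.Agent.Helper24.irrDeg θ := by
    intro θ hθ
    have h1 := hd _ hθ
    rw [Cfsg.Agent.Helper5.indFun_apply_one, Cfsg.Agent.Helper24.irrDeg_spec] at h1
    exact_mod_cast h1.symm
  have hdζ : d ζ = e := by
    have h1 := hd ζ (hXS hζ)
    rw [hdegX ζ hζ] at h1
    exact_mod_cast h1.symm
  set T₀ : Finset (L → ℂ) := Sf.filter (fun φ => φ ∈ X₀ ∨ φ ∈ Y) with hT₀def
  have hmemT₀ : ∀ φ, φ ∈ T₀ ↔ φ ∈ X₀ ∨ φ ∈ Y := by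
    intro φ
    rw [hT₀def, Finset.mem_filter, hmemSf]
    constructor
    · exact fun h => h.2
    · intro h
      refine ⟨?_, h⟩
      rcases h with h | h
      · exact hXS h
      · exact hYS h
  have hT₀coe : (↑T₀ : Set (L → ℂ)) = X₀ ∪ Y := by
    ext φ
    rw [Finset.mem_coe, hmemT₀, Set.mem_union]
  have hT₀c : ∀ φ ∈ T₀, Cfsg.conjFun φ ∈ T₀ := by
    intro φ hφ
    rw [hmemT₀] at hφ ⊢
    rcases hφ with h | h
    · exact Or.inl (hXc φ h).1
    · exact Or.inr (hYc φ h).1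
  set Yf : Finset (L → ℂ) := Sf.filter (fun φ => φ ∈ Y) with hYfdef
  have hmemYf : ∀ φ, φ ∈ Yf ↔ φ ∈ Y := by
    intro φ
    rw [hYfdef, Finset.mem_filter, hmemSf]
    exact ⟨fun h => h.2, fun h => ⟨hYS h, h⟩⟩
  have hYfiff : ∀ φ, φ ∈ Yf ↔ ∃ θ ∈ nonConst K Z, φ = Cfsg.indFun K (θ : K → ℂ) := by
    intro φ
    rw [hmemYf, hYdef, hSdef, mem_diff_iff K Z]
    constructor
    · rintro ⟨θ, hθ, hnc, rfl⟩
      exact ⟨⟨θ, hθ⟩, (mem_nonConst K Z).mpr hnc, rfl⟩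
    · rintro ⟨θ, hθ, rfl⟩
      exact ⟨θ, θ.2, (mem_nonConst K Z).mp hθ, rfl⟩
  have hsumC : ∑ φ ∈ Yf, (φ 1) ^ 2 / Cfsg.classInner φ φ
      = (K.index : ℂ) * ∑ θ ∈ nonConst K Z, ((θ : K → ℂ) 1) ^ 2 :=
    sum_degree_sq_div_norm_stable K (nonConst K Z)
      (fun θ hθ x => conjIrrK_mem_nonConst K Z hθ x) Yf hYfiff
      (fun φ hφ ψ hψ hne =>
        hS.orthogonal φ (hYS ((hmemYf φ).mp hφ)) ψ (hYS ((hmemYf ψ).mp hψ)) hne)
      (fun φ hφ => cs_norm_ne_zero hS (hYS ((hmemYf φ).mp hφ)))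
  set r := Z.relIndex K with hrdef
  set cZ := Nat.card Z with hcZdef
  have hsumN : ∑ θ ∈ nonConst K Z, Cfsg.Agent.Helper24.irrDeg θ ^ 2 + r = Nat.card K :=
    sum_nonConst_add K Z
  have hcardK : Nat.card K = cZ * r := by
    have h2 : Nat.card (Z.subgroupOf K) * Z.relIndex K = Nat.card K :=
      Subgroup.card_mul_index (Z.subgroupOf K)
    rw [card_subgroupOf_of_le hZK] at h2
    exact h2.symm
  have hYsum : ∑ φ ∈ Yf, ((d φ : ℝ) ^ 2 / (n φ : ℝ)) = ((e * (cZ * r - r) : ℕ) : ℝ) := by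
    have h1 : ((∑ φ ∈ Yf, (d φ) ^ 2 : ℕ) : ℂ) = ((e * (cZ * r - r) : ℕ) : ℂ) := by
      have h2 : ∑ θ ∈ nonConst K Z, Cfsg.Agent.Helper24.irrDeg θ ^ 2 = cZ * r - r := by omega
      rw [← h2]
      push_cast
      have h3 : ∑ θ ∈ nonConst K Z, ((θ : K → ℂ) 1) ^ 2
          = ∑ θ ∈ nonConst K Z, ((Cfsg.Agent.Helper24.irrDeg θ : ℂ)) ^ 2 := by
        apply Finset.sum_congr rfl
        intro θ _
        rw [Cfsg.Agent.Helper24.irrDeg_spec]
      rw [← h3, he, ← hsumC]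
      apply Finset.sum_congr rfl
      intro φ hφ
      have hφS := hYS ((hmemYf φ).mp hφ)
      rw [hd φ hφS, hn φ hφS]
      simp [hndef]
    have h4 : (∑ φ ∈ Yf, (d φ) ^ 2 : ℕ) = e * (cZ * r - r) := by exact_mod_cast h1
    rw [← h4]
    push_cast
    apply Finset.sum_congr rfl
    intro φ _
    simp [hndef]
  have hZltK : Z < K := lt_of_le_of_lt hZK' hH₁K
  have hr1' : 1 < r := one_lt_relIndex_of_lt hZltK
  have hcZodd : Odd cZ := hodd.of_dvd_nat (Subgroup.card_subgroup_dvd_card Z)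
  have hcZ1 : 1 < cZ := Z.one_lt_card_iff_ne_bot.mpr hZ1
  have hedvd : e ∣ cZ - 1 := index_dvd_card_sub_one K Z hZK hZc hF'
  have hcZge : 2 * e + 1 ≤ cZ := two_mul_add_one_le_of_dvd hoddK hcZodd hcZ1 hedvd
  have hζT₀ : ζ ∈ T₀ := (hmemT₀ ζ).mpr (Or.inl hζ)
  have key : ∀ m : ℕ, ∀ T : Finset (L → ℂ), T.card = m → T₀ ⊆ T → T ⊆ Sf →
      (∀ φ ∈ T, Cfsg.conjFun φ ∈ T) → Cfsg.IsCoherent (↑T : Set (L → ℂ)) {1}ᶜ τ := by
    intro m
    induction m using Nat.strong_induction_on with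
    | _ m ih =>
    intro T hcardT hT₀T hTS hTc
    by_cases hTT₀ : T = T₀
    · rw [hTT₀, hT₀coe]
      exact hcoh₀
    obtain ⟨χ, hχT, hχT₀⟩ : ∃ χ ∈ T, χ ∉ T₀ := by
      by_contra hcon
      push Not at hcon
      exact hTT₀ (Finset.Subset.antisymm hcon hT₀T)
    have hχS : χ ∈ S := (hmemSf χ).mp (hTS hχT)
    have hcT : Cfsg.conjFun χ ∈ T := hTc χ hχT
    have hcT₀ : Cfsg.conjFun χ ∉ T₀ := by
      intro h
      apply hχT₀
      have := hT₀c _ h
      rwa [conjFun_conjFun] at this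
    set T' := (T.erase χ).erase (Cfsg.conjFun χ) with hT'
    have hT'sub : T' ⊆ T := (Finset.erase_subset _ _).trans (Finset.erase_subset _ _)
    have hmemT' : ∀ φ, φ ∈ T' ↔ φ ∈ T ∧ φ ≠ χ ∧ φ ≠ Cfsg.conjFun χ := by
      intro φ
      rw [hT', Finset.mem_erase, Finset.mem_erase]
      tauto
    have hcard' : T'.card < m := by
      rw [← hcardT]
      apply Finset.card_lt_card
      refine ⟨hT'sub, fun h => ?_⟩
      have h1 := h hχT
      rw [hmemT'] at h1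
      exact h1.2.1 rfl
    have hT₀T' : T₀ ⊆ T' := by
      intro φ hφ
      rw [hmemT']
      refine ⟨hT₀T hφ, ?_, ?_⟩
      · rintro rfl
        exact hχT₀ hφ
      · rintro rfl
        exact hcT₀ hφ
    have hT'S : T' ⊆ Sf := hT'sub.trans hTS
    have hT'c : ∀ φ ∈ T', Cfsg.conjFun φ ∈ T' := by
      intro φ hφ
      rw [hmemT'] at hφ ⊢
      refine ⟨hTc φ hφ.1, ?_, ?_⟩
      · intro h
        apply hφ.2.2
        rw [← h, conjFun_conjFun]
      · intro h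
        apply hφ.2.1
        have h1 := congrArg Cfsg.conjFun h
        rwa [conjFun_conjFun, conjFun_conjFun] at h1
    have hcoh' := ih T'.card hcard' T' rfl hT₀T' hT'S hT'c
    have hT'S' : (↑T' : Set (L → ℂ)) ⊆ S := by
      intro φ hφ
      exact (hmemSf φ).mp (hT'S (Finset.mem_coe.mp hφ))
    have hχT' : χ ∉ T' := fun h => ((hmemT' χ).mp h).2.1 rfl
    have hcT' : Cfsg.conjFun χ ∉ T' := fun h => ((hmemT' _).mp h).2.2 rfl
    have hχZ : χ ∈ Cfsg.inducedIrrAbove K Z := by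
      by_contra h
      exact hχT₀ ((hmemT₀ χ).mpr (Or.inr ⟨hχS, h⟩))
    obtain ⟨θ, hθ, hχeq⟩ := (mem_inducedIrrAbove_iff K).mp hχZ
    have hdχ : d χ = e * Cfsg.Agent.Helper24.irrDeg θ := by
      rw [hχeq]
      apply hdeg θ
      rw [← hχeq]
      exact hχS
    have hbound := degree_bound_irrAbove K (B := Z) (C := K) (D := Z) le_rfl hZK le_rfl
      (fun x hx y hy => by
        have h1 := hZn.conj_mem _ (Z.inv_mem hx) y
        have e1 : x * y * x⁻¹ * y⁻¹ = x * (y * x⁻¹ * y⁻¹) := by group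
        rw [e1]
        exact Z.mul_mem hx h1) hθ
    have ht2 : Cfsg.Agent.Helper24.irrDeg θ ^ 2 ≤ r := by
      have hpos : 0 < K.index ^ 2 :=
        pow_pos (Nat.pos_of_ne_zero Subgroup.index_ne_zero_of_finite) 2
      rw [mul_pow] at hbound
      exact Nat.le_of_mul_le_mul_left hbound hpos
    have htr : Cfsg.Agent.Helper24.irrDeg θ < r := by
      by_contra hge
      push Not at hge
      have h1 : r * r ≤ Cfsg.Agent.Helper24.irrDeg θ ^ 2 := by
        rw [pow_two]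
        exact Nat.mul_le_mul hge hge
      have h2 : r * 2 ≤ r * r := Nat.mul_le_mul_left r hr1'
      omega
    have hdvd : d ζ ∣ d χ := by
      rw [hdζ, hdχ]
      exact dvd_mul_right _ _
    have hineq : (2 * d χ * d ζ : ℝ) < ∑ φ ∈ T', ((d φ : ℝ) ^ 2 / (n φ : ℝ)) := by
      have h2 : ∑ φ ∈ Yf, ((d φ : ℝ) ^ 2 / (n φ : ℝ))
          ≤ ∑ φ ∈ T', ((d φ : ℝ) ^ 2 / (n φ : ℝ)) := by
        apply Finset.sum_le_sum_of_subset_of_nonneg
        · intro ψ hψ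
          exact hT₀T' ((hmemT₀ ψ).mpr (Or.inr ((hmemYf ψ).mp hψ)))
        · intro φ _ _
          positivity
      have h3 : 2 * d χ * d ζ < e * (cZ * r - r) := by
        rw [hdχ, hdζ]
        have h4 : 2 * e * r ≤ cZ * r - r := by
          have h5 : (2 * e + 1) * r ≤ cZ * r := Nat.mul_le_mul_right r hcZge
          have h6 : (2 * e + 1) * r = 2 * e * r + r := by ring
          omega
        calc 2 * (e * Cfsg.Agent.Helper24.irrDeg θ) * e
            = e * (2 * e * Cfsg.Agent.Helper24.irrDeg θ) := by ring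
          _ < e * (2 * e * r) := by
              apply Nat.mul_lt_mul_of_pos_left _ hepos
              apply Nat.mul_lt_mul_of_pos_left htr
              omega
          _ ≤ e * (cZ * r - r) := Nat.mul_le_mul_left _ h4
      have h9 : ((2 * d χ * d ζ : ℕ) : ℝ) < ((e * (cZ * r - r) : ℕ) : ℝ) := by
        exact_mod_cast h3
      calc (2 * d χ * d ζ : ℝ) = ((2 * d χ * d ζ : ℕ) : ℝ) := by push_cast; ring
        _ < ((e * (cZ * r - r) : ℕ) : ℝ) := h9
        _ = _ := hYsum.symm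
        _ ≤ _ := h2
    have hres := Cfsg.Agent.S1516.result S τ R hS d n (fun φ hφ => hd φ hφ)
      (fun φ hφ => hn φ hφ) T' hT'S' hT'c hcoh' χ hχS hχT' hcT' ζ (hT₀T' hζT₀) hdvd hineq
    have hEq : (↑T' ∪ {χ, Cfsg.conjFun χ} : Set (L → ℂ)) = ↑T := by
      ext φ
      simp only [Set.mem_union, Finset.mem_coe, Set.mem_insert_iff, Set.mem_singleton_iff, hmemT']
      constructor
      · rintro (h | h | h)
        · exact h.1
        · rw [h]; exact hχT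
        · rw [h]; exact hcT
      · intro h
        by_cases h1 : φ = χ
        · exact Or.inr (Or.inl h1)
        by_cases h2 : φ = Cfsg.conjFun χ
        · exact Or.inr (Or.inr h2)
        exact Or.inl ⟨h, h1, h2⟩
    rw [← hEq]
    exact hres
  have hfinal := key Sf.card Sf rfl (Finset.filter_subset _ _) (Finset.Subset.refl _)
    (fun φ hφ => (hmemSf _).mpr (hS.conj_mem φ ((hmemSf φ).mp hφ)))
  have hSfcoe : (↑Sf : Set (L → ℂ)) = S := Set.Finite.coe_toFinset _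
  rw [hSfcoe] at hfinal
  exact hfinal

end Main

end Cfsg.Agent.Helper5.Sib
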