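import Mathlib
import Cfsg.Prelude.Def_Characters
import Cfsg.Prelude.Def_OddOrderChar
import Cfsg.Prelude.Def_OddOrderLocal
import Cfsg.Agent.Helper5.SibG

/-!
Sibley's coherence theorem (Peterfalvi 6.8): a Frobenius group `L` of odd order whose (nilpotent)
kernel `H` is a trivial-intersection subgroup of `G` with normaliser `L`.
-/

set_option autoImplicit false
set_option linter.unusedSectionVars false
set_option linter.style.haveILetI false

namespace Cfsg.Agent.Helper5.Sib

open Cfsg Cfsg.Agent.Helper8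

section Main

variable {G : Type*} [Group G] [Fintype G]

/-- **Sibley's theorem** (Peterfalvi 6.8). -/
theorem sibley (H L : Subgroup G) [Fintype L] (hodd : Odd (Nat.card L)) (hlt : H < L)
    (hH1 : H ≠ ⊥) (hnil : Group.IsNilpotent H) (hHn : ∀ x ∈ L, ∀ h ∈ H, x * h * x⁻¹ ∈ H)
    (hF : ∀ x ∈ L, x ∉ H → ∀ h ∈ H, x * h = h * x → h = 1)
    (hTI : Cfsg.IsTISubset (H : Set G)) (hN : Subgroup.normalizer (H : Set G) = L) :
    Cfsg.IsCoherent (Cfsg.inducedIrrAbove (H.subgroupOf L) ⊥) {1}ᶜ
      (fun α : L → ℂ => Cfsg.indFun L α) := by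
  classical
  haveI hKn : (H.subgroupOf L).Normal := by
    constructor
    intro n hn g
    rw [Subgroup.mem_subgroupOf] at hn ⊢
    have := hHn g g.2 n hn
    simpa using this
  have eKH : H.subgroupOf L ≃* H := Subgroup.subgroupOfEquivOfLe hlt.le
  haveI hnilK : Group.IsNilpotent (H.subgroupOf L) := by
    haveI := hnil
    exact Group.nilpotent_of_mulEquiv eKH.symm
  have hsolv : Group.IsSolvable (H.subgroupOf L) := inferInstance
  obtain ⟨R, hS⟩ := exists_cohSystem H L hodd hlt hH1 hsolv hF hTI hN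
  set K := H.subgroupOf L with hKdef
  haveI : Fintype K := Fintype.ofFinite K
  have hF' : ∀ n : L, n ∉ K → ∀ k ∈ K, n * k = k * n → k = 1 := by
    intro n hn k hk hkn
    have hn' : (n : G) ∉ H := fun h => hn (Subgroup.mem_subgroupOf.mpr h)
    have hk' : (k : G) ∈ H := Subgroup.mem_subgroupOf.mp hk
    have h1 : (n : G) * (k : G) = (k : G) * (n : G) := by
      have := congrArg Subtype.val hkn
      simpa using this
    exact Subtype.ext (hF n n.2 hn' k hk' h1)
  haveI hcn : (⁅K, K⁆ : Subgroup L).Normal := Subgroup.commutator_normal K K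
  have hKne : K ≠ ⊥ := by
    intro h
    apply hH1
    rw [hKdef, Subgroup.subgroupOf_eq_bot] at h
    rw [← disjoint_self]
    exact h.mono_right hlt.le
  haveI hKnt : Nontrivial K := (Subgroup.nontrivial_iff_ne_bot K).mpr hKne
  have hH₁K : ⁅K, K⁆ < K := by
    have h1 := IsSolvable.commutator_lt_top_of_nontrivial K
    have h2 : (commutator K).map K.subtype < (⊤ : Subgroup K).map K.subtype :=
      (Subgroup.map_lt_map_iff_of_injective K.subtype_injective).mpr h1
    have h3 : (commutator K).map K.subtype = ⁅K, K⁆ := Subgroup.map_subtype_commutator K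
    rw [h3, ← MonoidHom.range_eq_map, Subgroup.range_subtype] at h2
    exact h2
  have hfrob := fpf_quot K ⁅K, K⁆ hH₁K.le hF'
  haveI hbn : ((⊥ : Subgroup L).subgroupOf K).Normal :=
    (inferInstance : (⊥ : Subgroup L).Normal).subgroupOf K
  have hnil' : Group.IsNilpotent (↥K ⧸ (⊥ : Subgroup L).subgroupOf K) := inferInstance
  have hkernel := coherence_kernel K hsolv (fun α : L → ℂ => Cfsg.indFun L α) R hS hodd ⊥ bot_le
    hnil' ⁅K, K⁆ (sup_bot_eq _).symm hH₁K hfrob
  by_cases hpp : ∃ p m : ℕ, p.Prime ∧ Nat.card K = p ^ m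
  swap
  · apply hkernel
    right; right; left
    rintro ⟨p, m, hp, hpm⟩
    apply hpp
    refine ⟨p, m, hp, ?_⟩
    rw [← hpm, Subgroup.relIndex_bot_left]
  by_cases hab : ⁅K, K⁆ ≤ ⊥
  · apply hkernel
    right; right; right; left
    exact hab
  obtain ⟨p, m, hp, hcard⟩ := hpp
  exact sibley_pgroup H L hodd hlt hF hTI hN R hS hnilK hH₁K hab p m hp hcard

end Main

end Cfsg.Agent.Helper5.Sib
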