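import Mathlib
import Cfsg.Agent.Helper5.S2536Basic

set_option autoImplicit false

/-! S2536 project, piece DIGIT: Kummer's theorem in the "no carry" form. -/

namespace Cfsg.Agent.S2536P

open Nat

/-- DIGIT (Kummer, no-carry form). -/
theorem not_dvd_choose_iff {s m j : ℕ} (hs : s.Prime) :
    ¬ s ∣ (m + j).choose j ↔ ∀ e : ℕ, 1 ≤ e → m % s ^ e + j % s ^ e < s ^ e := by
  have : Fact s.Prime := ⟨hs⟩
  have hne : (m + j).choose j ≠ 0 := Nat.choose_ne_zero (Nat.le_add_left j m)
  have hval := padicValNat_choose' (p := s) (n := m) (k := j) (b := Nat.log s (m + j) + 1)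
    (Nat.lt_succ_self _)
  rw [dvd_iff_padicValNat_ne_zero hne, not_not, hval, Finset.card_eq_zero,
    Finset.filter_eq_empty_iff]
  constructor
  · intro h e he
    by_cases heb : e < Nat.log s (m + j) + 1
    · have := h (Finset.mem_Ico.mpr ⟨he, heb⟩)
      omega
    · have hlt : m + j < s ^ e := Nat.lt_pow_of_log_lt hs.one_lt (by omega)
      have h1 : m % s ^ e ≤ m := Nat.mod_le _ _
      have h2 : j % s ^ e ≤ j := Nat.mod_le _ _
      omega
  · intro h e he
    have := h e (Finset.mem_Ico.mp he).1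
    omega

/-- if `s ^ e ∣ m + i` with `1 ≤ i ≤ s ^ e` and `s ∤ C(m+j, j)` then `j % s ^ e < i` -/
theorem mod_lt_of_not_dvd_choose {s m j e i : ℕ} (hs : s.Prime) (h : ¬ s ∣ (m + j).choose j)
    (hd : s ^ e ∣ m + i) (hi1 : 1 ≤ i) (hi2 : i ≤ s ^ e) : j % s ^ e < i := by
  rcases Nat.eq_zero_or_pos e with rfl | he
  · simp only [pow_zero, Nat.mod_one]
    omega
  have hc := (not_dvd_choose_iff hs).mp h e he
  have hq : 0 < s ^ e := pos_of_ne_zero (pow_ne_zero _ hs.ne_zero)
  rcases Nat.lt_or_ge i (s ^ e) with hlt | hge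
  · -- m % q = q - i
    have hm : m % s ^ e = s ^ e - i := by
      obtain ⟨c, hc'⟩ := hd
      have hcpos : 0 < c := by
        rcases Nat.eq_zero_or_pos c with rfl | h0
        · simp at hc'
          omega
        · exact h0
      have : m = s ^ e * (c - 1) + (s ^ e - i) := by
        have : s ^ e * c = s ^ e * (c - 1) + s ^ e := by
          conv_lhs => rw [show c = (c - 1) + 1 by omega]
          ring
        omega
      rw [this, Nat.mul_add_mod]
      exact Nat.mod_eq_of_lt (by omega)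
    omega
  · have : j % s ^ e < s ^ e := Nat.mod_lt _ hq
    omega

/-- symmetric version: if `s ^ e ∣ j + i` with `1 ≤ i ≤ s ^ e` and `s ∤ C(m+j, j)` then
`m % s ^ e < i` -/
theorem mod_lt_of_not_dvd_choose' {s m j e i : ℕ} (hs : s.Prime) (h : ¬ s ∣ (m + j).choose j)
    (hd : s ^ e ∣ j + i) (hi1 : 1 ≤ i) (hi2 : i ≤ s ^ e) : m % s ^ e < i := by
  have h' : ¬ s ∣ (j + m).choose m := by
    rw [add_comm j m, Nat.choose_symm_add]
    exact h
  exact mod_lt_of_not_dvd_choose hs h' hd hi1 hi2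

/-- existence of a carry gives divisibility -/
theorem dvd_choose_of_carry {s m j e : ℕ} (hs : s.Prime) (he : 1 ≤ e)
    (h : s ^ e ≤ m % s ^ e + j % s ^ e) : s ∣ (m + j).choose j := by
  by_contra hn
  have := (not_dvd_choose_iff hs).mp hn e he
  omega

end Cfsg.Agent.S2536P
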