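import Mathlib
import Cfsg.Agent.Helper5.S2536DIGIT

set_option autoImplicit false

/-! S2536 project, piece NT1: if `2 ≤ j ≤ m - 1` and no prime `≤ m` divides `C(m+j, j)` then
`(m, j) = (4, 3)`. -/

namespace Cfsg.Agent.S2536P

open Nat

namespace NT1

/-- a prime divisor of a composite number `N ≥ 2`... here: a prime `p ∣ N`, `p ≠ N` has `2 * p ≤ N` -/
theorem two_mul_le_of_dvd_ne {p N : ℕ} (_hp : p.Prime) (hN : 0 < N) (hd : p ∣ N) (hne : p ≠ N) :
    2 * p ≤ N := by
  obtain ⟨c, rfl⟩ := hd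
  have hc : c ≠ 1 := by
    rintro rfl
    simp at hne
  have hc0 : c ≠ 0 := by
    rintro rfl
    simp at hN
  have : 2 ≤ c := by omega
  nlinarith [_hp.pos]

theorem dvd_of_mod_lt_one {q x : ℕ} (h : x % q < 1) : q ∣ x :=
  Nat.dvd_of_mod_eq_zero (Nat.lt_one_iff.mp h)

theorem dvd_mul_pred_of_mod_lt_two {q x : ℕ} (hq : 2 ≤ q) (h : x % q < 2) : q ∣ x * (x - 1) := by
  have hcases : x % q = 0 ∨ x % q = 1 := by
    generalize x % q = r at h
    omega
  rcases hcases with h0 | h1
  · exact (Nat.dvd_of_mod_eq_zero h0).mul_right _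
  · have hx : 1 ≤ x := by
      rcases Nat.eq_zero_or_pos x with rfl | hx
      · simp at h1
      · exact hx
    have hmod : 1 ≡ x [MOD q] := by
      unfold Nat.ModEq
      rw [h1]
      exact Nat.mod_eq_of_lt (by omega)
    exact ((Nat.modEq_iff_dvd' hx).mp hmod).mul_left _

variable {m j : ℕ}

/-- `m + 1` is prime -/
theorem prime_succ (hj : 2 ≤ j) (hjm : j + 1 ≤ m)
    (h : ∀ s : ℕ, s.Prime → s ≤ m → ¬ s ∣ (m + j).choose j) : (m + 1).Prime := by
  by_contra hnp
  have hdvd : m + 1 ∣ j := by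
    rw [Nat.dvd_iff_prime_pow_dvd_dvd]
    intro p k hp hpk
    rcases Nat.eq_zero_or_pos k with rfl | hk
    · simp
    have hpd : p ∣ m + 1 := (dvd_pow_self p hk.ne').trans hpk
    have hne : p ≠ m + 1 := fun e => hnp (e ▸ hp)
    have h2 := two_mul_le_of_dvd_ne hp (by omega) hpd hne
    have hpm : p ≤ m := by omega
    have hq : 1 ≤ p ^ k := Nat.one_le_pow _ _ hp.pos
    exact dvd_of_mod_lt_one (mod_lt_of_not_dvd_choose hp (h p hp hpm) hpk le_rfl hq)
  have := Nat.le_of_dvd (by omega) hdvd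
  omega

/-- `m + 2 ∣ j * (j - 1)` -/
theorem succ_succ_dvd (hj : 2 ≤ j) (hjm : j + 1 ≤ m)
    (h : ∀ s : ℕ, s.Prime → s ≤ m → ¬ s ∣ (m + j).choose j) : m + 2 ∣ j * (j - 1) := by
  have hpr := prime_succ hj hjm h
  have hodd : (m + 1) % 2 = 1 := by
    rcases hpr.eq_two_or_odd with h2 | h2
    · omega
    · exact h2
  rw [Nat.dvd_iff_prime_pow_dvd_dvd]
  intro p k hp hpk
  rcases Nat.eq_zero_or_pos k with rfl | hk
  · simp
  have hpd : p ∣ m + 2 := (dvd_pow_self p hk.ne').trans hpk
  have hne : p ≠ m + 2 := by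
    rintro rfl
    rcases hp.eq_two_or_odd with h2 | h2 <;> omega
  have h2 := two_mul_le_of_dvd_ne hp (by omega) hpd hne
  have hpm : p ≤ m := by omega
  have hq : 2 ≤ p ^ k := by
    calc 2 ≤ p := hp.two_le
      _ = p ^ 1 := (pow_one p).symm
      _ ≤ p ^ k := Nat.pow_le_pow_right hp.pos hk
  exact dvd_mul_pred_of_mod_lt_two hq
    (mod_lt_of_not_dvd_choose hp (h p hp hpm) hpk (by norm_num) hq)

/-- `j + 1 ∣ m` -/
theorem succ_dvd (hjm : j + 1 ≤ m)
    (h : ∀ s : ℕ, s.Prime → s ≤ m → ¬ s ∣ (m + j).choose j) : j + 1 ∣ m := by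
  rw [Nat.dvd_iff_prime_pow_dvd_dvd]
  intro p k hp hpk
  rcases Nat.eq_zero_or_pos k with rfl | hk
  · simp
  have hpd : p ∣ j + 1 := (dvd_pow_self p hk.ne').trans hpk
  have hpm : p ≤ m := (Nat.le_of_dvd (by omega) hpd).trans hjm
  have hq : 1 ≤ p ^ k := Nat.one_le_pow _ _ hp.pos
  exact dvd_of_mod_lt_one (mod_lt_of_not_dvd_choose' hp (h p hp hpm) hpk le_rfl hq)

/-- `j + 2 ∣ m * (m - 1)` if `j + 2 ≤ m` -/
theorem succ_succ_dvd' (hjm : j + 2 ≤ m)
    (h : ∀ s : ℕ, s.Prime → s ≤ m → ¬ s ∣ (m + j).choose j) : j + 2 ∣ m * (m - 1) := by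
  rw [Nat.dvd_iff_prime_pow_dvd_dvd]
  intro p k hp hpk
  rcases Nat.eq_zero_or_pos k with rfl | hk
  · simp
  have hpd : p ∣ j + 2 := (dvd_pow_self p hk.ne').trans hpk
  have hpm : p ≤ m := (Nat.le_of_dvd (by omega) hpd).trans hjm
  have hq : 2 ≤ p ^ k := by
    calc 2 ≤ p := hp.two_le
      _ = p ^ 1 := (pow_one p).symm
      _ ≤ p ^ k := Nat.pow_le_pow_right hp.pos hk
  exact dvd_mul_pred_of_mod_lt_two hq
    (mod_lt_of_not_dvd_choose' hp (h p hp hpm) hpk (by norm_num) hq)

end NT1

open NT1 in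
/-- NT1 -/
theorem nt1 {m j : ℕ} (hj : 2 ≤ j) (hjm : j + 1 ≤ m)
    (h : ∀ s : ℕ, s.Prime → s ≤ m → ¬ s ∣ (m + j).choose j) : m = 4 ∧ j = 3 := by
  have hpr := prime_succ hj hjm h
  have h1 := succ_succ_dvd hj hjm h
  have h2 := succ_dvd hjm h
  rcases Nat.lt_or_ge m (j + 2) with hlt | hge
  · -- j = m - 1
    have hjeq : j = m - 1 := by omega
    subst hjeq
    rcases Nat.lt_or_ge m 5 with hm5 | hm5
    · interval_cases m
      · omega
      · omega
      · omega
      · exact absurd hpr (by norm_num)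
      · exact ⟨rfl, rfl⟩
    · -- (m+2) ∣ 12
      have h12 : m + 2 ∣ 12 := by
        have e : (m - 1) * (m - 1 - 1) = (m + 2) * (m - 5) + 12 := by
          obtain ⟨t, rfl⟩ : ∃ t, m = t + 5 := ⟨m - 5, by omega⟩
          simp only [Nat.add_sub_cancel]
          have : t + 5 - 1 = t + 4 := by omega
          rw [this]
          have : t + 4 - 1 = t + 3 := by omega
          rw [this]
          ring
        rw [e] at h1
        exact (Nat.dvd_add_right (Dvd.intro _ rfl)).mp h1
      have hle : m + 2 ≤ 12 := Nat.le_of_dvd (by norm_num) h12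
      have hm : m = 10 := by
        have hmem : m + 2 ∈ Nat.divisors 12 := Nat.mem_divisors.mpr ⟨h12, by norm_num⟩
        have hd : Nat.divisors 12 = {1, 2, 3, 4, 6, 12} := by decide
        rw [hd] at hmem
        simp only [Finset.mem_insert, Finset.mem_singleton] at hmem
        omega
      subst hm
      exfalso
      exact h 2 Nat.prime_two (by norm_num)
        (dvd_choose_of_carry (e := 4) Nat.prime_two (by norm_num) (by norm_num))
  · -- j + 2 ≤ m
    have h3 := succ_succ_dvd' hge h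
    obtain ⟨c, hc⟩ := h2
    have hc2 : 2 ≤ c := by
      rcases Nat.lt_or_ge c 2 with hc' | hc'
      · interval_cases c <;> omega
      · exact hc'
    -- D ≤ j (j - 1)
    have hjj : 0 < j * (j - 1) := Nat.mul_pos (by omega) (by omega)
    have hDle : m + 2 ≤ j * (j - 1) := Nat.le_of_dvd hjj h1
    obtain ⟨i, rfl⟩ : ∃ i, j = i + 2 := ⟨j - 2, by omega⟩
    have hci : c ≤ i := by
      have e : (i + 2) * (i + 2 - 1) = (i + 2 + 1) * i + 2 := by
        have : i + 2 - 1 = i + 1 := by omega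
        rw [this]
        ring
      rw [e, hc] at hDle
      have : (i + 2 + 1) * c ≤ (i + 2 + 1) * i := by omega
      exact Nat.le_of_mul_le_mul_left this (by omega)
    -- D ∣ 2 (c+1) (c+2)
    have hD2 : m + 2 ∣ 2 * (c + 1) * (c + 2) := by
      have hz : ((m + 2 : ℕ) : ℤ) ∣ ((2 * (c + 1) * (c + 2) : ℕ) : ℤ) := by
        have hz1 : ((m + 2 : ℕ) : ℤ) ∣ ((c : ℤ) ^ 2) * (((i + 2) * (i + 2 - 1) : ℕ) : ℤ) :=
          Dvd.dvd.mul_left (Int.natCast_dvd_natCast.mpr h1) _
        have e1 : (((i + 2) * (i + 2 - 1) : ℕ) : ℤ) = ((i : ℤ) + 2) * ((i : ℤ) + 1) := by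
          have : i + 2 - 1 = i + 1 := by omega
          rw [this]
          push_cast
          ring
        have e2 : ((m + 2 : ℕ) : ℤ) = (c : ℤ) * ((i : ℤ) + 3) + 2 := by
          rw [hc]
          push_cast
          ring
        rw [e1] at hz1
        have key : ((2 * (c + 1) * (c + 2) : ℕ) : ℤ) =
            (c : ℤ) ^ 2 * (((i : ℤ) + 2) * ((i : ℤ) + 1)) -
              ((m + 2 : ℕ) : ℤ) * ((c : ℤ) * ((i : ℤ) + 2) - 2 * c - 2) := by
          rw [e2]
          push_cast
          ring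
        rw [key]
        exact dvd_sub hz1 (Dvd.intro _ rfl)
      exact Int.natCast_dvd_natCast.mp hz
    obtain ⟨k, hk⟩ := hD2
    have hDge : (c + 1) * (c + 2) ≤ m + 2 := by
      rw [hc]
      nlinarith
    have hk1 : 1 ≤ k := by
      rcases Nat.eq_zero_or_pos k with rfl | hk0
      · simp at hk
      · exact hk0
    have hk2 : k ≤ 2 := by
      by_contra hk3
      have hk3 : 3 ≤ k := by omega
      have : (m + 2) * 3 ≤ (m + 2) * k := Nat.mul_le_mul_left _ hk3
      nlinarith
    interval_cases k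
    · -- D = 2 (c+1)(c+2): c ∣ 2
      exfalso
      have e : (i + 2 + 1) * c = (2 * c + 6) * c + 2 := by
        have e0 : (i + 2 + 1) * c + 2 = 2 * (c + 1) * (c + 2) := by
          rw [hk, hc]
          ring
        have e1 : 2 * (c + 1) * (c + 2) = (2 * c + 6) * c + 4 := by ring
        omega
      have hcd : c ∣ 2 := by
        have h5 : c ∣ (2 * c + 6) * c + 2 := e ▸ Dvd.intro_left _ rfl
        exact (Nat.dvd_add_right (Dvd.intro_left _ rfl)).mp h5
      have hcle : c ≤ 2 := Nat.le_of_dvd (by norm_num) hcd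
      have hc2' : c = 2 := by omega
      subst hc2'
      have hi : i = 8 := by omega
      subst hi
      subst hc
      revert h1
      norm_num
    · -- D = (c+1)(c+2): i = c
      have e : (i + 2 + 1) * c = (c + 3) * c := by
        have e0 : ((i + 2 + 1) * c + 2) * 2 = 2 * (c + 1) * (c + 2) := by
          rw [hk, hc]
        have e1 : 2 * (c + 1) * (c + 2) = ((c + 3) * c + 2) * 2 := by ring
        omega
      have hic : i = c := by
        have := Nat.eq_of_mul_eq_mul_right (by omega : 0 < c) e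
        omega
      subst hic
      obtain ⟨t, rfl⟩ : ∃ t, i = t + 2 := ⟨i - 2, by omega⟩
      have h12 : t + 2 + 4 ∣ 12 := by
        have hm1 : m - 1 = t ^ 2 + 7 * t + 9 := by
          have : m = t ^ 2 + 7 * t + 10 := by
            rw [hc]
            ring
          omega
        have e2 : m * (m - 1) = (t + 2 + 4) * ((t + 1) * (m + 3)) + 12 := by
          rw [hm1, hc]
          ring
        have h3' : t + 2 + 4 ∣ m * (m - 1) := by
          have : t + 2 + 2 + 2 = t + 2 + 4 := by ring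
          rw [← this]
          exact h3
        rw [e2] at h3'
        exact (Nat.dvd_add_right (Dvd.intro _ rfl)).mp h3'
      have hle : t + 2 + 4 ≤ 12 := Nat.le_of_dvd (by norm_num) h12
      have ht : t = 0 ∨ t = 6 := by
        have hmem : t + 2 + 4 ∈ Nat.divisors 12 := Nat.mem_divisors.mpr ⟨h12, by norm_num⟩
        have hd : Nat.divisors 12 = {1, 2, 3, 4, 6, 12} := by decide
        rw [hd] at hmem
        simp only [Finset.mem_insert, Finset.mem_singleton] at hmem
        omega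
      exfalso
      rcases ht with rfl | rfl
      · subst hc
        exact h 7 (by norm_num) (by norm_num)
          (dvd_choose_of_carry (e := 1) (by norm_num) le_rfl (by norm_num))
      · subst hc
        exact h 7 (by norm_num) (by norm_num)
          (dvd_choose_of_carry (e := 1) (by norm_num) le_rfl (by norm_num))

end Cfsg.Agent.S2536P
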