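import Mathlib
import Cfsg.Agent.Helper5.S2536NT1
import Cfsg.Agent.Helper20.S2536MULTI

set_option autoImplicit false

/-! S2536 project, piece ARCOMB: the arithmetic of the orbit sizes of a Hall subgroup. -/

namespace Cfsg.Agent.S2536P

open Nat

namespace ARCOMB

variable {π : Set ℕ}

/-- `3 ∣ C(8 + y, y)` unless `9 ∣ y` -/
theorem three_dvd_choose_eight {y : ℕ} (hy : y % 9 ≠ 0) : 3 ∣ (8 + y).choose y := by
  refine dvd_choose_of_carry (e := 2) Nat.prime_three (by norm_num) ?_
  have : y % 3 ^ 2 = y % 9 := by norm_num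
  rw [this]
  have : 8 % 3 ^ 2 = 8 := by norm_num
  rw [this]
  have : 3 ^ 2 = 9 := by norm_num
  omega

/-- a number `≥ 2` none of whose prime factors is `≤ m` ... : `m + 1` is prime if no prime `≤ m`
divides it -/
theorem prime_succ_of_forall {m : ℕ} (hm : 1 ≤ m) (h : ∀ p : ℕ, p.Prime → p ≤ m → ¬ p ∣ m + 1) :
    (m + 1).Prime := by
  have h1 : m + 1 ≠ 1 := by omega
  have hp := Nat.minFac_prime h1
  have hd := Nat.minFac_dvd (m + 1)
  have hle : (m + 1).minFac ≤ m + 1 := Nat.minFac_le (by omega)
  by_cases hlt : (m + 1).minFac ≤ m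
  · exact absurd hd (h _ hp hlt)
  · have : (m + 1).minFac = m + 1 := by omega
    rw [← this]
    exact hp

/-- the analysis of a second part `y` next to a "full" part `m ≥ 3` -/
theorem second_part {m y : ℕ} (hm : 3 ≤ m) (hall : AllLE π m) (hy : 1 ≤ y) (hT : TType π y)
    (hC : PiPrime π ((m + y).choose y)) :
    (y = 1 ∧ (m + 1).Prime) ∨ (2 ≤ y ∧ AllLE π y ∧ ((m = 4 ∧ y = 3) ∨ (m = 3 ∧ y = 4))) := by
  have h2π : 2 ∈ π := hall 2 Nat.prime_two (by omega)
  have h3π : 3 ∈ π := hall 3 Nat.prime_three hm
  have hprimes : ∀ p : ℕ, p.Prime → p ≤ m → ¬ p ∣ (m + y).choose y :=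
    fun p hp hpm => hC p hp (hall p hp hpm)
  have hone : y = 1 → (y = 1 ∧ (m + 1).Prime) := by
    rintro rfl
    refine ⟨rfl, prime_succ_of_forall (by omega) ?_⟩
    intro p hp hpm
    have := hprimes p hp hpm
    simpa using this
  rcases hT with h1 | ⟨s, k, hs, hsπ, hyk, honly⟩ | ⟨hy2, hally⟩ | ⟨hy8, h23⟩
  · exact Or.inl (hone (by omega))
  · rcases Nat.lt_or_ge y 3 with hy3 | hy3
    · rcases Nat.lt_or_ge y 2 with hy2 | hy2
      · exact Or.inl (hone (by omega))
      · have hy2' : y = 2 := by omega
        subst hy2'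
        exact absurd (nt1 le_rfl (by omega) hprimes).2 (by norm_num)
    · exfalso
      have e1 := honly 2 Nat.prime_two (by omega) h2π
      have e2 := honly 3 Nat.prime_three hy3 h3π
      omega
  · right
    refine ⟨hy2, hally, ?_⟩
    rcases Nat.lt_trichotomy y m with hlt | heq | hgt
    · exact Or.inl (nt1 hy2 (by omega) hprimes)
    · exfalso
      subst heq
      have h2 : 2 ∣ (y + y).choose y := by
        have := Nat.two_dvd_centralBinom_of_one_le hy
        rw [Nat.centralBinom_eq_two_mul_choose] at this
        rwa [two_mul] at this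
      exact hprimes 2 Nat.prime_two (by omega) h2
    · right
      have hprimes' : ∀ p : ℕ, p.Prime → p ≤ y → ¬ p ∣ (y + m).choose m := by
        intro p hp hpy
        have := hC p hp (hally p hp hpy)
        rwa [add_comm, Nat.choose_symm_add] at this
      have := nt1 (by omega : 2 ≤ m) (by omega) hprimes'
      exact ⟨this.2, this.1⟩
  · exfalso
    subst hy8
    have h5 : (5 : ℕ) ∉ π := fun h => by
      have := (h23 5 (by norm_num) (by norm_num)).mp h
      omega
    have hm5 : m < 5 := by
      by_contra hge
      exact h5 (hall 5 (by norm_num) (by omega))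
    have h3 : 3 ∣ (m + 8).choose 8 := by
      refine dvd_choose_of_carry (e := 2) Nat.prime_three (by norm_num) ?_
      have hm' : m = 3 ∨ m = 4 := by omega
      rcases hm' with rfl | rfl <;> norm_num
    exact hC 3 Nat.prime_three h3π h3

end ARCOMB

open ARCOMB in
/-- ARCOMB -/
theorem arcomb {π : Set ℕ} {n : ℕ} {sizes : Multiset ℕ} (h : OrbitData π n sizes) (h2 : Two π n)
    (hn : NotAll π n) : ConclS π n sizes := by
  obtain ⟨hsum, hparts, -⟩ := id h
  -- two primes r < s
  obtain ⟨r, s, hr, hs, hrs, hrπ, hsπ, hrn, hsn, hlt⟩ :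
      ∃ r s : ℕ, r.Prime ∧ s.Prime ∧ r ≠ s ∧ r ∈ π ∧ s ∈ π ∧ r ≤ n ∧ s ≤ n ∧ r < s := by
    obtain ⟨r, s, hr, hs, hrs, hrπ, hsπ, hrn, hsn⟩ := h2
    rcases Nat.lt_or_ge r s with hlt | hge
    · exact ⟨r, s, hr, hs, hrs, hrπ, hsπ, hrn, hsn, hlt⟩
    · exact ⟨s, r, hs, hr, hrs.symm, hsπ, hrπ, hsn, hrn, by omega⟩
  obtain ⟨t, ht, htn, htπ⟩ := hn
  obtain ⟨m, hm, hsm⟩ := orbitData_exists_ge h hs hsπ hsn
  obtain ⟨rest, hrest⟩ := Multiset.exists_cons_of_mem hm
  have hs3 : 3 ≤ s := by
    have := hr.two_le
    omega
  -- pairs with `m`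
  have hpair : ∀ y ∈ rest, PiPrime π ((m + y).choose y) := by
    intro y hy
    obtain ⟨rest', hrest'⟩ := Multiset.exists_cons_of_mem hy
    have := orbitData_pair h (x := m) (y := y) (rest := rest') (by rw [hrest, hrest'])
    rwa [Nat.choose_symm_add] at this
  have hrestparts : ∀ y ∈ rest, 1 ≤ y ∧ TType π y := fun y hy =>
    hparts y (hrest ▸ Multiset.mem_cons_of_mem hy)
  rcases (hparts m hm).2 with h1 | ⟨s', k, hs', hs'π, hmk, honly⟩ | ⟨hm2, hall⟩ | ⟨hm8, h23⟩
  · omega
  · exfalso
    have e1 := honly r hr (by omega) hrπ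
    have e2 := honly s hs hsm hsπ
    omega
  · -- the main case: `m` is full
    have hm3 : 3 ≤ m := by omega
    have hnm : m < n := by
      by_contra hge
      exact htπ (hall t ht (by omega))
    have hrestsum : rest.sum = n - m := by
      have : (m ::ₘ rest).sum = n := hrest ▸ hsum
      rw [Multiset.sum_cons] at this
      omega
    have hrestne : rest ≠ 0 := by
      rintro rfl
      simp at hrestsum
      omega
    by_cases hbig : ∃ y ∈ rest, 2 ≤ y
    · -- sizes = {4, 3}
      obtain ⟨y, hy, hy2⟩ := hbig
      obtain ⟨rest', hrest'⟩ := Multiset.exists_cons_of_mem hy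
      have hsec := second_part hm3 hall (hrestparts y hy).1 (hrestparts y hy).2 (hpair y hy)
      rcases hsec with ⟨hy1, -⟩ | ⟨-, hally, hmy⟩
      · omega
      have hy3 : 3 ≤ y := by omega
      -- no third part
      have hrest'0 : rest' = 0 := by
        apply Multiset.eq_zero_of_forall_notMem
        intro z hz
        have hzrest : z ∈ rest := hrest' ▸ Multiset.mem_cons_of_mem hz
        have hz1 := second_part hm3 hall (hrestparts z hzrest).1 (hrestparts z hzrest).2
          (hpair z hzrest)
        obtain ⟨rest'', hrest''⟩ := Multiset.exists_cons_of_mem hz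
        have hpyz : PiPrime π ((y + z).choose z) := by
          have := orbitData_pair h (x := y) (y := z) (rest := m ::ₘ rest'') (by
            rw [hrest, hrest', hrest'']
            rw [Multiset.cons_swap m y, Multiset.cons_swap m z])
          rwa [Nat.choose_symm_add] at this
        have hz2 := second_part hy3 hally (hrestparts z hzrest).1 (hrestparts z hzrest).2 hpyz
        rcases hmy with ⟨rfl, rfl⟩ | ⟨rfl, rfl⟩
        · rcases hz2 with ⟨-, hp4⟩ | ⟨-, -, h' | h'⟩
          · exact absurd hp4 (by norm_num)
          · omega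
          · rcases hz1 with ⟨hz1', -⟩ | ⟨-, -, h'' | h''⟩ <;> omega
        · rcases hz1 with ⟨-, hp4⟩ | ⟨-, -, h' | h'⟩
          · exact absurd hp4 (by norm_num)
          · omega
          · rcases hz2 with ⟨hz2', -⟩ | ⟨-, -, h'' | h''⟩ <;> omega
      subst hrest'0
      have hsz : sizes = {4, 3} := by
        rw [hrest, hrest']
        rcases hmy with ⟨rfl, rfl⟩ | ⟨rfl, rfl⟩
        · rfl
        · exact Multiset.cons_swap 3 4 0
      have hn7 : n = 7 := by
        rw [← hsum, hsz]
        rfl
      have hC35 : PiPrime π 35 := by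
        have := hpair y hy
        rcases hmy with ⟨rfl, rfl⟩ | ⟨rfl, rfl⟩
        · have e : (4 + 3).choose 3 = 35 := by decide
          rwa [e] at this
        · have e : (3 + 4).choose 4 = 35 := by decide
          rwa [e] at this
      refine Or.inr (Or.inl ⟨hn7, ?_, hsz⟩)
      intro q hq hq7
      have hq' : q = 2 ∨ q = 3 ∨ q = 5 ∨ q = 7 := by
        interval_cases q <;> first | omega | (exfalso; revert hq; norm_num)
      rcases hq' with rfl | rfl | rfl | rfl
      · exact ⟨fun _ => Or.inl rfl, fun _ => hall 2 hq (by omega)⟩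
      · exact ⟨fun _ => Or.inr rfl, fun _ => hall 3 hq (by omega)⟩
      · constructor
        · intro h5
          exact absurd (by norm_num : 5 ∣ 35) (hC35 5 hq h5)
        · intro h'
          omega
      · constructor
        · intro h7
          exact absurd (by norm_num : 7 ∣ 35) (hC35 7 hq h7)
        · intro h'
          omega
    · -- all other parts are 1
      push Not at hbig
      have hone : ∀ y ∈ rest, y = 1 := fun y hy => by
        have := hbig y hy
        have := (hrestparts y hy).1
        omega
      obtain ⟨y, hy⟩ := Multiset.exists_mem_of_ne_zero hrestne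
      obtain ⟨rest', hrest'⟩ := Multiset.exists_cons_of_mem hy
      have hy1 := hone y hy
      subst hy1
      have hrest'0 : rest' = 0 := by
        apply Multiset.eq_zero_of_forall_notMem
        intro z hz
        have hzrest : z ∈ rest := hrest' ▸ Multiset.mem_cons_of_mem hz
        have hz1 := hone z hzrest
        subst hz1
        obtain ⟨rest'', hrest''⟩ := Multiset.exists_cons_of_mem hz
        have := orbitData_pair h (x := 1) (y := 1) (rest := m ::ₘ rest'') (by
          rw [hrest, hrest', hrest'']
          rw [Multiset.cons_swap m 1, Multiset.cons_swap m 1])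
        have e : (1 + 1).choose 1 = 2 := by decide
        rw [e] at this
        exact this 2 Nat.prime_two (hall 2 Nat.prime_two (by omega)) dvd_rfl
      subst hrest'0
      have hsec := second_part hm3 hall le_rfl (hrestparts 1 hy).2 (hpair 1 hy)
      have hpm : (m + 1).Prime := by
        rcases hsec with ⟨-, hp⟩ | ⟨h', -⟩
        · exact hp
        · omega
      have hnm1 : n = m + 1 := by
        rw [← hsum, hrest, hrest']
        simp
      refine Or.inl ⟨hnm1 ▸ hpm, ?_, ?_⟩
      · intro q hq hqn
        constructor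
        · intro hqπ
          rcases Nat.lt_or_ge q n with h' | h'
          · exact h'
          · exfalso
            have hqn' : q = n := by omega
            have htn' : t = n := by
              by_contra hne
              exact htπ (hall t ht (by omega))
            exact htπ (htn' ▸ hqn' ▸ hqπ)
        · intro hqlt
          exact hall q hq (by omega)
      · rw [hrest, hrest', hnm1]
        simp

  · -- `m = 8`, `π_8 = {2, 3}`
    subst hm8
    have h2π : 2 ∈ π := (h23 2 Nat.prime_two (by norm_num)).mpr (Or.inl rfl)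
    have h3π : 3 ∈ π := (h23 3 Nat.prime_three (by norm_num)).mpr (Or.inr rfl)
    have h5π : (5 : ℕ) ∉ π := fun h => by
      have := (h23 5 (by norm_num) (by norm_num)).mp h
      omega
    have hrest0 : rest = 0 := by
      apply Multiset.eq_zero_of_forall_notMem
      intro y hy
      obtain ⟨hy1, hyT⟩ := hrestparts y hy
      have hC := hpair y hy
      have hy9 : 9 ≤ y := by
        by_contra hlt
        have : y % 9 ≠ 0 := by omega
        exact hC 3 Nat.prime_three h3π (three_dvd_choose_eight this)
      rcases hyT with h1 | ⟨s', k, hs', hs'π, hmk, honly⟩ | ⟨hm2, hall⟩ | ⟨hm8, -⟩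
      · omega
      · have e1 := honly 2 Nat.prime_two (by omega) h2π
        have e2 := honly 3 Nat.prime_three (by omega) h3π
        omega
      · exact h5π (hall 5 (by norm_num) (by omega))
      · omega
    subst hrest0
    have hn8 : n = 8 := by
      rw [← hsum, hrest]
      simp
    exact Or.inr (Or.inr ⟨hn8, h23, hrest⟩)

end Cfsg.Agent.S2536P
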