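import Mathlib
import Cfsg.Agent.Helper5.S2536DIGIT

set_option autoImplicit false

/-! S2536 project, piece NT2: for `a = 2 ^ k ≥ 8` some odd prime `t ≤ a` divides `C(2a, a)`. -/

namespace Cfsg.Agent.S2536P

open Nat

namespace NT2

/-- if `q = t ^ e ∣ a + 2`, `q ≥ 4`, then `t ∣ C(a + a, a)` -/
theorem dvd_central {t e a : ℕ} (ht : t.Prime) (_he : 1 ≤ e) (hq : 4 ≤ t ^ e) (hd : t ^ e ∣ a + 2) :
    t ∣ (a + a).choose a := by
  by_contra hn
  have hlt := mod_lt_of_not_dvd_choose ht hn hd (by norm_num) (by omega)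
  have h0 : (a + 2) % t ^ e = 0 := Nat.mod_eq_zero_of_dvd hd
  rw [Nat.add_mod] at h0
  have h2 : 2 % t ^ e = 2 := Nat.mod_eq_of_lt (by omega)
  rw [h2] at h0
  generalize a % t ^ e = r at hlt h0
  have hr : r = 0 ∨ r = 1 := by omega
  rcases hr with rfl | rfl
  · rw [Nat.mod_eq_of_lt (by omega)] at h0
    omega
  · rw [Nat.mod_eq_of_lt (by omega)] at h0
    omega

end NT2

open NT2 in
/-- NT2 -/
theorem nt2 {k : ℕ} (hk : 3 ≤ k) :
    ∃ t : ℕ, t.Prime ∧ t ≠ 2 ∧ t ≤ 2 ^ k ∧ t ∣ (2 ^ k + 2 ^ k).choose (2 ^ k) := by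
  obtain ⟨l, rfl⟩ : ∃ l, k = l + 1 := ⟨k - 1, by omega⟩
  set b := 2 ^ l with hb
  have hb4 : 4 ≤ b := by
    calc 4 = 2 ^ 2 := by norm_num
      _ ≤ 2 ^ l := Nat.pow_le_pow_right (by norm_num) (by omega)
  have ha : 2 ^ (l + 1) = 2 * b := by rw [pow_succ, mul_comm]
  have hbeven : 2 ∣ b := by
    rw [hb]
    exact dvd_pow_self 2 (by omega)
  rw [ha]
  by_cases h9 : 9 ∣ 2 * b + 2
  · refine ⟨3, Nat.prime_three, by norm_num, by omega, ?_⟩
    exact dvd_central (e := 2) Nat.prime_three (by norm_num) (by norm_num) (by simpa using h9)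
  · -- a prime factor `t ≥ 5` of `b + 1`
    have hex : ∃ t : ℕ, t.Prime ∧ t ∣ b + 1 ∧ 5 ≤ t := by
      by_contra hcon
      push Not at hcon
      have hall : ∀ {d : ℕ}, d.Prime → d ∣ b + 1 → d = 3 := by
        intro d hd hdb
        have hlt := hcon d hd hdb
        have hd2 : d ≠ 2 := by
          rintro rfl
          have : 2 ∣ 1 := (Nat.dvd_add_right hbeven).mp hdb
          omega
        have := hd.two_le
        interval_cases d
        · omega
        · rfl
        · exact absurd hd (by norm_num)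
      have hpow := Nat.eq_prime_pow_of_unique_prime_dvd (n := b + 1) (p := 3) (by omega) hall
      set L := (b + 1).primeFactorsList.length
      have hL : 2 ≤ L := by
        by_contra hlt
        have : L = 0 ∨ L = 1 := by omega
        rcases this with h0 | h1
        · rw [h0] at hpow
          omega
        · rw [h1] at hpow
          omega
      have : 9 ∣ b + 1 := by
        rw [hpow]
        calc 9 = 3 ^ 2 := by norm_num
          _ ∣ 3 ^ L := pow_dvd_pow 3 hL
      apply h9
      have e : 2 * b + 2 = 2 * (b + 1) := by ring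
      rw [e]
      exact this.mul_left 2
    obtain ⟨t, ht, htd, ht5⟩ := hex
    have htle : t ≤ b + 1 := Nat.le_of_dvd (by omega) htd
    refine ⟨t, ht, by omega, by omega, ?_⟩
    have e : 2 * b + 2 = 2 * (b + 1) := by ring
    exact dvd_central (e := 1) ht le_rfl (by rw [pow_one]; omega)
      (by rw [pow_one, e]; exact htd.mul_left 2)

end Cfsg.Agent.S2536P
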