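import Mathlib
import Cfsg.Agent.Helper5.S2536Basic

set_option autoImplicit false

/-! S2536 project, piece FIBER123: fibres of an equivariant map onto a transitive action. -/

namespace Cfsg.Agent.S2536P

open Equiv

universe u

/-- FIBER1: all fibres of an equivariant map to a transitive action have the same size -/
theorem card_fiber_eq {α β : Type u} [Finite α] [Finite β] {H : Subgroup (Perm α)} (f : α → β)
    (ρ : H →* Perm β) (hf : ∀ (h : H) (x : α), f ((h : Perm α) x) = ρ h (f x))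
    (htr : MulAction.IsPretransitive ρ.range β) (c c₀ : β) :
    Nat.card {x // f x = c} = Nat.card {x // f x = c₀} := by
  obtain ⟨⟨g, h, rfl⟩, hg⟩ := htr.exists_smul_eq c₀ c
  have hg' : ρ h c₀ = c := hg
  symm
  refine Nat.card_congr ⟨fun x => ⟨(h : Perm α) x.1, ?_⟩, fun x => ⟨(h : Perm α)⁻¹ x.1, ?_⟩, ?_, ?_⟩
  · rw [hf, x.2, hg']
  · have h1 := hf h ((h : Perm α)⁻¹ x.1)
    rw [show (h : Perm α) ((h : Perm α)⁻¹ x.1) = x.1 by simp, x.2] at h1
    apply (ρ h).injective
    rw [← h1, hg']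
  · intro x
    simp
  · intro x
    simp

/-- FIBER2 -/
theorem card_eq_fiber_mul {α β : Type u} [Finite α] [Finite β] {H : Subgroup (Perm α)} (f : α → β)
    (ρ : H →* Perm β) (hf : ∀ (h : H) (x : α), f ((h : Perm α) x) = ρ h (f x))
    (htr : MulAction.IsPretransitive ρ.range β) (c₀ : β) :
    Nat.card α = Nat.card {x // f x = c₀} * Nat.card β := by
  classical
  have := Fintype.ofFinite β
  rw [← Nat.card_congr (Equiv.sigmaFiberEquiv f), Nat.card_sigma]
  rw [Finset.sum_congr rfl (fun c _ => card_fiber_eq f ρ hf htr c c₀)]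
  rw [Finset.sum_const, smul_eq_mul, Finset.card_univ, Nat.card_eq_fintype_card (α := β), mul_comm]

/-- FIBER3: the block stabilizer is transitive on the block -/
theorem fiber_pretransitive {α β : Type u} {H : Subgroup (Perm α)} (f : α → β)
    (ρ : H →* Perm β) (hf : ∀ (h : H) (x : α), f ((h : Perm α) x) = ρ h (f x))
    (htr : MulAction.IsPretransitive H α) (c₀ : β) :
    MulAction.IsPretransitive (resGroup (fun x => f x = c₀) (fiberStab ρ c₀) (inv_fiberStab f ρ hf c₀))
      {x // f x = c₀} := by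
  constructor
  intro x y
  obtain ⟨h, hh⟩ := htr.exists_smul_eq x.1 y.1
  have hh' : (h : Perm α) x.1 = y.1 := hh
  have hmem : (h : Perm α) ∈ fiberStab ρ c₀ := by
    rw [mem_fiberStab]
    refine ⟨h.2, ?_⟩
    have h1 := hf h x.1
    rw [hh', x.2, y.2] at h1
    exact h1.symm
  refine ⟨⟨resHom _ _ (inv_fiberStab f ρ hf c₀) ⟨(h : Perm α), hmem⟩, ⟨_, rfl⟩⟩, ?_⟩
  apply Subtype.ext
  exact hh'

end Cfsg.Agent.S2536P
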