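import Mathlib
import Cfsg.Agent.Helper5.S2536FIBER123

set_option autoImplicit false

/-! S2536 project, piece FIBER4: the counting lemma for an imprimitive action. -/

namespace Cfsg.Agent.S2536P

open Equiv

universe u

namespace FIBER4

variable {α β : Type u} {H : Subgroup (Perm α)}

/-- the kernel of the quotient action, as a subgroup of `Perm α` -/
def kerSub (ρ : H →* Perm β) : Subgroup (Perm α) := ρ.ker.map H.subtype

theorem mem_kerSub (ρ : H →* Perm β) (g : Perm α) :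
    g ∈ kerSub ρ ↔ ∃ hg : g ∈ H, ρ ⟨g, hg⟩ = 1 := by
  unfold kerSub
  constructor
  · rintro ⟨h, hh, rfl⟩
    exact ⟨h.2, hh⟩
  · rintro ⟨hg, h⟩
    exact ⟨⟨g, hg⟩, h, rfl⟩

theorem card_kerSub [Finite α] (ρ : H →* Perm β) : Nat.card (kerSub ρ) = Nat.card ρ.ker := by
  unfold kerSub
  exact Nat.card_congr (ρ.ker.equivMapOfInjective H.subtype H.subtype_injective).symm.toEquiv

theorem inv_kerSub (f : α → β) (ρ : H →* Perm β)
    (hf : ∀ (h : H) (x : α), f ((h : Perm α) x) = ρ h (f x)) (c : β) :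
    Inv (fun x => f x = c) (kerSub ρ) := by
  intro g hg x
  obtain ⟨hgH, hg1⟩ := (mem_kerSub ρ g).mp hg
  have h1 := hf ⟨g, hgH⟩ x
  rw [hg1] at h1
  show f (g x) = c ↔ f x = c
  simp only at h1
  rw [h1]
  rfl

theorem kerSub_le_fiberStab (ρ : H →* Perm β) (c₀ : β) : kerSub ρ ≤ fiberStab ρ c₀ := by
  intro g hg
  obtain ⟨hgH, hg1⟩ := (mem_kerSub ρ g).mp hg
  rw [mem_fiberStab]
  exact ⟨hgH, by rw [hg1]; rfl⟩

/-- the restriction of the kernel to the fibre of `c` -/
def R (f : α → β) (ρ : H →* Perm β)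
    (hf : ∀ (h : H) (x : α), f ((h : Perm α) x) = ρ h (f x)) (c : β) :
    Subgroup (Perm {x // f x = c}) :=
  resGroup (fun x => f x = c) (kerSub ρ) (inv_kerSub f ρ hf c)

/-- the kernel embeds in the product of its restrictions to the fibres -/
theorem card_kerSub_dvd [Finite α] [Finite β] (f : α → β) (ρ : H →* Perm β)
    (hf : ∀ (h : H) (x : α), f ((h : Perm α) x) = ρ h (f x)) :
    Nat.card (kerSub ρ) ∣ Nat.card (∀ c, R f ρ hf c) := by
  let Φ : kerSub ρ →* ∀ c, R f ρ hf c :=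
    MonoidHom.pi fun c => (resHom (fun x => f x = c) (kerSub ρ) (inv_kerSub f ρ hf c)).rangeRestrict
  apply Subgroup.card_dvd_of_injective Φ
  rw [injective_iff_map_eq_one]
  intro g hg
  apply Subtype.ext
  ext x
  have h1 := congrFun hg (f x)
  have h2 : resHom (fun y => f y = f x) (kerSub ρ) (inv_kerSub f ρ hf (f x)) g = 1 := by
    have := congrArg Subtype.val h1
    exact this
  have h3 := congrArg (fun σ : Perm {y // f y = f x} => (σ ⟨x, rfl⟩ : α)) h2
  exact h3

/-- each restriction has order dividing the order of `K₁` -/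
theorem card_R_dvd [Finite α] [Finite β] (f : α → β) (ρ : H →* Perm β)
    (hf : ∀ (h : H) (x : α), f ((h : Perm α) x) = ρ h (f x))
    (htr : MulAction.IsPretransitive ρ.range β) (c₀ c : β) :
    Nat.card (R f ρ hf c) ∣
      Nat.card (resGroup (fun x => f x = c₀) (fiberStab ρ c₀) (inv_fiberStab f ρ hf c₀)) := by
  obtain ⟨⟨g, h, rfl⟩, hg⟩ := htr.exists_smul_eq c₀ c
  have hg' : ρ h c₀ = c := hg
  -- the bijection between the fibres
  let e : {x // f x = c₀} ≃ {x // f x = c} :=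
    ⟨fun x => ⟨(h : Perm α) x.1, by rw [hf, x.2, hg']⟩,
     fun x => ⟨(h : Perm α)⁻¹ x.1, by
        have h1 := hf h ((h : Perm α)⁻¹ x.1)
        rw [show (h : Perm α) ((h : Perm α)⁻¹ x.1) = x.1 by simp, x.2] at h1
        apply (ρ h).injective
        rw [← h1, hg']⟩,
     fun x => by simp, fun x => by simp⟩
  have hle : (R f ρ hf c).map (e.symm.permCongrHom : Perm {x // f x = c} →* Perm {x // f x = c₀}) ≤
      resGroup (fun x => f x = c₀) (fiberStab ρ c₀) (inv_fiberStab f ρ hf c₀) := by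
    rintro σ ⟨τ, ⟨⟨n, hn⟩, rfl⟩, rfl⟩
    obtain ⟨hnH, hn1⟩ := (mem_kerSub ρ n).mp hn
    have hmem : (h : Perm α)⁻¹ * n * (h : Perm α) ∈ fiberStab ρ c₀ := by
      rw [mem_fiberStab]
      refine ⟨H.mul_mem (H.mul_mem (H.inv_mem h.2) hnH) h.2, ?_⟩
      have : (⟨(h : Perm α)⁻¹ * n * (h : Perm α), H.mul_mem (H.mul_mem (H.inv_mem h.2) hnH) h.2⟩ : H)
          = h⁻¹ * ⟨n, hnH⟩ * h := rfl
      rw [this, map_mul, map_mul, hn1, mul_one, ← map_mul, inv_mul_cancel, map_one]
      rfl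
    refine ⟨⟨(h : Perm α)⁻¹ * n * (h : Perm α), hmem⟩, ?_⟩
    ext x
    rfl
  have hcard : Nat.card ((R f ρ hf c).map
      (e.symm.permCongrHom : Perm {x // f x = c} →* Perm {x // f x = c₀})) = Nat.card (R f ρ hf c) :=
    Nat.card_congr ((R f ρ hf c).equivMapOfInjective _ e.symm.permCongrHom.injective).symm.toEquiv
  rw [← hcard]
  exact Subgroup.card_dvd_of_le hle

end FIBER4

open FIBER4 in
/-- FIBER4: the counting lemma -/
theorem card_dvd_fiber {α β : Type u} [Finite α] [Finite β] {H : Subgroup (Perm α)} (f : α → β)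
    (ρ : H →* Perm β) (hf : ∀ (h : H) (x : α), f ((h : Perm α) x) = ρ h (f x))
    (htr : MulAction.IsPretransitive ρ.range β) (c₀ : β) :
    Nat.card H ∣
      Nat.card (resGroup (fun x => f x = c₀) (fiberStab ρ c₀) (inv_fiberStab f ρ hf c₀)) ^ Nat.card β *
        Nat.card ρ.range := by
  classical
  have := Fintype.ofFinite β
  have h1 : Nat.card H = Nat.card ρ.ker * Nat.card ρ.range := by
    rw [← Subgroup.index_ker, Subgroup.card_mul_index]
  rw [h1]
  apply Nat.mul_dvd_mul_right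
  rw [← card_kerSub]
  refine (card_kerSub_dvd f ρ hf).trans ?_
  rw [Nat.card_pi]
  calc ∏ c, Nat.card (R f ρ hf c)
      ∣ ∏ _c : β, Nat.card (resGroup (fun x => f x = c₀) (fiberStab ρ c₀)
          (inv_fiberStab f ρ hf c₀)) :=
        Finset.prod_dvd_prod_of_dvd _ _ fun c _ => card_R_dvd f ρ hf htr c₀ c
    _ = _ := by
        rw [Finset.prod_const, Finset.card_univ, Nat.card_eq_fintype_card (α := β)]

end Cfsg.Agent.S2536P
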