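import Mathlib
import Cfsg.Agent.Helper5.S2536FIBER4
import Cfsg.Agent.Helper21.S2536WNUM
import Cfsg.Agent.Helper21.S2536BLOCKSYS

set_option autoImplicit false

/-! S2536 project, piece GTW: a transitive imprimitive Hall subgroup of `Perm α`. -/

namespace Cfsg.Agent.S2536P

open Equiv Nat

universe u

namespace GTW

/-- the arithmetic core of the order counting -/
theorem counting {π : Set ℕ} {a b h i κ i₁ η i₂ W₀ : ℕ} (hb : 1 ≤ b) (hh : 0 < h)
    (hhi : h * i = (a * b)!) (hi : PiPrime π i) (hκ : κ * i₁ = a !) (hη : η * i₂ = b !)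
    (hdvd : h ∣ κ ^ b * η) (hW : (a * b)! = W₀ * (a ! ^ b * b !)) :
    PiPrime π i₁ ∧ PiPrime π i₂ ∧ PiPrime π W₀ := by
  obtain ⟨k, hk⟩ := hdvd
  have e : h * i = h * (k * W₀ * i₁ ^ b * i₂) := by
    rw [hhi, hW, ← hκ, ← hη, mul_pow]
    calc W₀ * (κ ^ b * i₁ ^ b * (η * i₂)) = (κ ^ b * η) * (W₀ * i₁ ^ b * i₂) := by ring
      _ = h * k * (W₀ * i₁ ^ b * i₂) := by rw [hk]
      _ = h * (k * W₀ * i₁ ^ b * i₂) := by ring
  have e' : i = k * W₀ * i₁ ^ b * i₂ := Nat.eq_of_mul_eq_mul_left hh e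
  refine ⟨piPrime_of_dvd hi ?_, piPrime_of_dvd hi ?_, piPrime_of_dvd hi ?_⟩
  · rw [e']
    exact Dvd.dvd.mul_right (Dvd.dvd.mul_left (dvd_pow_self i₁ (by omega)) _) _
  · rw [e']
    exact Dvd.intro_left _ rfl
  · rw [e']
    exact Dvd.dvd.mul_right (Dvd.dvd.mul_right (Dvd.intro_left _ rfl) _) _

end GTW

open GTW in
/-- GTW -/
theorem gtw {α : Type u} [Finite α] {π : Set ℕ} {H : Subgroup (Perm α)} (hH : Cfsg.IsPiHall π H)
    (htr : MulAction.IsPretransitive H α) (hnp : ¬ MulAction.IsPreprimitive H α) :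
    ∃ (p : α → Prop) (β : Type u) (_ : Finite β) (K₁ : Subgroup (Perm {x // p x}))
      (K₂ : Subgroup (Perm β)),
      2 ≤ Nat.card {x // p x} ∧ 2 ≤ Nat.card β ∧
      Nat.card α = Nat.card {x // p x} * Nat.card β ∧
      Cfsg.IsPiHall π K₁ ∧ MulAction.IsPretransitive K₁ {x // p x} ∧
      Cfsg.IsPiHall π K₂ ∧ MulAction.IsPreprimitive K₂ β ∧
      (∃ W : ℕ, (Nat.card α)! = W * ((Nat.card {x // p x})! ^ Nat.card β * (Nat.card β)!) ∧
        PiPrime π W) ∧
      (∀ g ∈ H, (∀ x, p (g x) ↔ p x) ∨ (∀ x, p (g x) → ¬ p x)) := by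
  obtain ⟨β, hβ, f, ρ, hsurj, hf, hprim, hb2, hblt⟩ := blocksys htr hnp
  have hβne : Nonempty β := by
    have : 0 < Nat.card β := by omega
    exact (Nat.card_pos_iff.mp this).1
  obtain ⟨c₀⟩ := hβne
  have htrβ : MulAction.IsPretransitive ρ.range β := hprim.toIsPretransitive
  set p : α → Prop := fun x => f x = c₀ with hp
  set K := fiberStab ρ c₀ with hK
  set K₁ := resGroup p K (inv_fiberStab f ρ hf c₀) with hK₁
  have hab : Nat.card α = Nat.card {x // p x} * Nat.card β := card_eq_fiber_mul f ρ hf htrβ c₀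
  have ha2 : 2 ≤ Nat.card {x // p x} := by
    by_contra hlt
    have : Nat.card {x // p x} ≤ 1 := by omega
    have : Nat.card {x // p x} * Nat.card β ≤ 1 * Nat.card β := Nat.mul_le_mul_right _ this
    omega
  -- orders
  have hκdvd : Nat.card K₁ ∣ (Nat.card {x // p x})! := by
    rw [← card_perm_nat]
    exact Subgroup.card_subgroup_dvd_card K₁
  have hηdvd : Nat.card ρ.range ∣ (Nat.card β)! := by
    rw [← card_perm_nat]
    exact Subgroup.card_subgroup_dvd_card ρ.range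
  have hκπ : PiNum π (Nat.card K₁) := by
    have h1 : Nat.card K₁ ∣ Nat.card K := Subgroup.card_range_dvd _
    have h2 : Nat.card K ∣ Nat.card H := Subgroup.card_dvd_of_le (fiberStab_le ρ c₀)
    exact piNum_of_dvd hH.1 (h1.trans h2)
  have hηπ : PiNum π (Nat.card ρ.range) := piNum_of_dvd hH.1 (Subgroup.card_range_dvd ρ)
  obtain ⟨i₁, hi₁⟩ := hκdvd
  obtain ⟨i₂, hi₂⟩ := hηdvd
  have hdvd := card_dvd_fiber f ρ hf htrβ c₀
  have hW := factorial_mul_eq_wnum (a := Nat.card {x // p x}) (by omega) (Nat.card β)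
  have hhi : Nat.card H * H.index = (Nat.card {x // p x} * Nat.card β)! := by
    rw [Subgroup.card_mul_index, card_perm_nat, hab]
  obtain ⟨hπ₁, hπ₂, hπW⟩ := counting (by omega) Nat.card_pos hhi hH.2 hi₁.symm hi₂.symm hdvd hW
  refine ⟨p, β, hβ, K₁, ρ.range, ha2, hb2, hab, ?_, ?_, ?_, hprim, ⟨_, hab ▸ hW, hπW⟩, ?_⟩
  · exact isPiHall_of_card (by rw [card_perm_nat, hi₁]) hκπ hπ₁ rfl
  · exact fiber_pretransitive f ρ hf htr c₀
  · exact isPiHall_of_card (by rw [card_perm_nat, hi₂]) hηπ hπ₂ rfl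
  · intro g hg
    by_cases hgc : ρ ⟨g, hg⟩ c₀ = c₀
    · left
      have hmem : g ∈ K := (mem_fiberStab ρ c₀ g).mpr ⟨hg, hgc⟩
      exact inv_fiberStab f ρ hf c₀ g hmem
    · right
      intro x hx1 hx2
      apply hgc
      have h1 := hf ⟨g, hg⟩ x
      simp only at h1
      rw [hx2] at h1
      rw [← h1]
      exact hx1

end Cfsg.Agent.S2536P
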