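import Mathlib
import Cfsg.Agent.Helper5.S2536GTW
import Cfsg.Agent.Helper20.S2536SYLTRANS
import Cfsg.Agent.Helper21.S2536ARW
import Cfsg.Agent.Helper20.S2536PRIM

set_option autoImplicit false

/-! S2536 project, assembly TRANS: the degree of a transitive Hall subgroup of `Perm α`. -/

namespace Cfsg.Agent.S2536P

open Equiv Nat

universe u

/-- ALLTRANS (trivial) : when all primes `≤ n` are in `π` -/
theorem ttype_of_allLE {π : Set ℕ} {n : ℕ} (h : AllLE π n) : TType π n := by
  rcases Nat.lt_or_ge n 2 with h1 | h1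
  · exact Or.inl (by omega)
  · exact Or.inr (Or.inr (Or.inl ⟨h1, h⟩))

theorem not_two_or_notAll_of_ptype {π : Set ℕ} {n : ℕ} (h : PType π n) (h2 : Two π n)
    (hn : NotAll π n) : False := by
  obtain ⟨r, s, hr, hs, hrs, hrπ, hsπ, hrn, hsn⟩ := h2
  obtain ⟨t, ht, htn, htπ⟩ := hn
  rcases h with h | ⟨-, -, h⟩ | h
  · have := hr.two_le
    omega
  · exact hrs ((h r hr hrn hrπ).trans (h s hs hsn hsπ).symm)
  · exact htπ (h t ht htn)

theorem notAll_of_not_allLE {π : Set ℕ} {n : ℕ} (h : ¬ AllLE π n) : NotAll π n := by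
  unfold AllLE at h
  push Not at h
  obtain ⟨r, hr, hrn, hrπ⟩ := h
  exact ⟨r, hr, hrn, hrπ⟩

theorem trans_ttype_aux (π : Set ℕ) (n : ℕ) :
    ∀ (α : Type u) [Finite α] (H : Subgroup (Perm α)), Nat.card α = n → Cfsg.IsPiHall π H →
      MulAction.IsPretransitive H α → TType π (Nat.card α) := by
  induction n using Nat.strong_induction_on with
  | _ n ih =>
    intro α _ H hcard hH htr
    by_cases hall : AllLE π (Nat.card α)
    · exact ttype_of_allLE hall
    by_cases h2 : Two π (Nat.card α)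
    swap
    · exact ttype_of_not_two hH htr h2
    have hn : NotAll π (Nat.card α) := notAll_of_not_allLE hall
    by_cases hprim : MulAction.IsPreprimitive H α
    · exact (not_two_or_notAll_of_ptype (prim_ptype hH hprim) h2 hn).elim
    obtain ⟨p, β, hβ, K₁, K₂, ha, hb, hab, hK₁, hK₁tr, hK₂, hK₂prim, ⟨W, hW, hWπ⟩, -⟩ :=
      gtw hH htr hprim
    have hlt : Nat.card {x // p x} < n := by
      rw [← hcard, hab]
      have : 0 < Nat.card {x // p x} := by omega
      nlinarith
    have hTa : TType π (Nat.card {x // p x}) :=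
      ih _ hlt {x // p x} K₁ rfl hK₁ hK₁tr
    have hPb : PType π (Nat.card β) := prim_ptype hK₂ hK₂prim
    rw [hab] at hW h2 hn
    obtain ⟨h4, hb2, h23⟩ := arw ha hb hTa hPb hW hWπ h2 hn
    refine Or.inr (Or.inr (Or.inr ⟨?_, h23⟩))
    rw [hab, h4, hb2]

/-- TRANS -/
theorem trans_ttype {α : Type u} [Finite α] {π : Set ℕ} {H : Subgroup (Perm α)}
    (hH : Cfsg.IsPiHall π H) (htr : MulAction.IsPretransitive H α) : TType π (Nat.card α) :=
  trans_ttype_aux π _ α H rfl hH htr

end Cfsg.Agent.S2536P
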