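import Mathlib
import Cfsg.Agent.Helper5.S2536TRANS
import Cfsg.Agent.Helper21.S2536SPLIT
import Cfsg.Agent.Helper20.S2536ORBRES

set_option autoImplicit false

/-! S2536 project, assembly ORB: the orbit sizes of a Hall subgroup of `Perm α`. -/

namespace Cfsg.Agent.S2536P

open Equiv Nat

universe u

theorem card_subtype_add_card_not {α : Type u} [Finite α] (p : α → Prop) :
    Nat.card {x // p x} + Nat.card {x // ¬ p x} = Nat.card α := by
  classical
  rw [← Nat.card_sum]
  exact Nat.card_congr (Equiv.sumCompl p)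

theorem orb_aux (π : Set ℕ) (n : ℕ) :
    ∀ (α : Type u) [Finite α] (H : Subgroup (Perm α)), Nat.card α = n → Cfsg.IsPiHall π H →
      ∃ sizes : Multiset ℕ, OrbitData π (Nat.card α) sizes ∧
        ∀ m ∈ sizes, ∃ x : α, Nat.card (MulAction.orbit H x) = m := by
  induction n using Nat.strong_induction_on with
  | _ n ih =>
    intro α _ H hcard hH
    rcases isEmpty_or_nonempty α with hα | ⟨⟨x⟩⟩
    · refine ⟨0, ⟨?_, ?_, 1, ?_, piPrime_one π⟩, ?_⟩
      · simp
      · simp
      · simp
      · simp
    · obtain ⟨hH₁, hH₂, hch, -⟩ := split_hall hH _ (inv_orbit H x)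
      have htr := res_orbit_pretransitive H x
      have hT := trans_ttype hH₁ htr
      have hsum := card_subtype_add_card_not (fun y => y ∈ MulAction.orbit H x)
      have hpos : 1 ≤ Nat.card {y // y ∈ MulAction.orbit H x} := by
        have : Nonempty {y // y ∈ MulAction.orbit H x} := ⟨⟨x, MulAction.mem_orbit_self x⟩⟩
        exact Nat.card_pos
      have hlt : Nat.card {y // ¬ y ∈ MulAction.orbit H x} < n := by omega
      obtain ⟨sizes₂, ⟨hs1, hs2, c₂, hc₂, hc₂π⟩, hs3⟩ := ih _ hlt _ _ rfl hH₂
      refine ⟨Nat.card {y // y ∈ MulAction.orbit H x} ::ₘ sizes₂, ⟨?_, ?_, ?_⟩, ?_⟩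
      · rw [Multiset.sum_cons, hs1, hsum]
      · intro m hm
        rcases Multiset.mem_cons.mp hm with rfl | hm
        · exact ⟨hpos, hT⟩
        · exact hs2 m hm
      · refine ⟨(Nat.card α).choose (Nat.card {y // y ∈ MulAction.orbit H x}) * c₂, ?_,
          piPrime_mul hch hc₂π⟩
        have hle : Nat.card {y // y ∈ MulAction.orbit H x} ≤ Nat.card α := by omega
        have h1 := Nat.choose_mul_factorial_mul_factorial hle
        have h2 : Nat.card α - Nat.card {y // y ∈ MulAction.orbit H x} =
            Nat.card {y // ¬ y ∈ MulAction.orbit H x} := by omega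
        rw [h2, hc₂] at h1
        rw [Multiset.map_cons, Multiset.prod_cons, ← h1]
        ring
      · intro m hm
        rcases Multiset.mem_cons.mp hm with rfl | hm
        · exact ⟨x, rfl⟩
        · obtain ⟨y, hy⟩ := hs3 m hm
          exact ⟨y, by rw [← hy, card_orbit_res]⟩

/-- ORB -/
theorem orb {α : Type u} [Finite α] {π : Set ℕ} {H : Subgroup (Perm α)} (hH : Cfsg.IsPiHall π H) :
    ∃ sizes : Multiset ℕ, OrbitData π (Nat.card α) sizes ∧
      ∀ m ∈ sizes, ∃ x : α, Nat.card (MulAction.orbit H x) = m :=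
  orb_aux π _ α H rfl hH

end Cfsg.Agent.S2536P
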