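import Mathlib
import Cfsg.Agent.Helper5.S2536ORB
import Cfsg.Agent.Helper5.S2536ARCOMB
import Cfsg.Agent.Helper1.S2536STRUCT1
import Cfsg.Agent.Helper1.S2536STRUCT2
import Cfsg.Agent.Helper19.S2536STRUCT3

set_option autoImplicit false

/-! S2536 project, Stage 2, assembly HALLSTRUCT: the structure of the Hall subgroups of `Perm α`. -/

namespace Cfsg.Agent.S2536P

open Equiv Nat

universe u

/-- HALLSTRUCT -/
theorem hall_struct {α : Type u} [Finite α] {π : Set ℕ} {H : Subgroup (Perm α)}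
    (hH : Cfsg.IsPiHall π H)
    (h2 : Two π (Nat.card α)) (hn : NotAll π (Nat.card α)) :
    ((Nat.card α).Prime ∧ (∀ r : ℕ, r.Prime → r ≤ Nat.card α → (r ∈ π ↔ r < Nat.card α)) ∧
        ∃ x : α, H = MulAction.stabilizer (Perm α) x) ∨
      (Nat.card α = 7 ∧ Is23 π 7 ∧ ∃ p : α → Prop, Nat.card {x // p x} = 4 ∧ H = setStab p) ∨
      (Nat.card α = 8 ∧ Is23 π 8 ∧ ∃ p : α → Prop, Nat.card {x // p x} = 4 ∧ H = biStab p) := by
  obtain ⟨sizes, hs, hreal⟩ := orb hH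
  rcases arcomb hs h2 hn with ⟨hp, hπ, hsz⟩ | ⟨h7, h23, hsz⟩ | ⟨h8, h23, hsz⟩
  · obtain ⟨x, hx⟩ := hreal 1 (by rw [hsz]; simp)
    exact Or.inl ⟨hp, hπ, x, eq_stabilizer_of_fixed hH hp hπ x hx⟩
  · obtain ⟨x, hx⟩ := hreal 4 (by rw [hsz]; simp)
    exact Or.inr (Or.inl ⟨h7, h23, _, hx, eq_setStab_of_orbit hH h7 h23 x hx⟩)
  · obtain ⟨x, hx⟩ := hreal 8 (by rw [hsz]; simp)
    have huniv : MulAction.orbit H x = Set.univ := by
      rw [Set.eq_univ_iff_ncard, ← Nat.card_coe_set_eq, hx, h8]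
    have htr : MulAction.IsPretransitive H α := by
      rw [MulAction.isPretransitive_iff_base x]
      intro y
      have : y ∈ MulAction.orbit H x := huniv ▸ Set.mem_univ y
      exact this
    exact Or.inr (Or.inr ⟨h8, h23, eq_biStab_of_trans hH h8 h23 htr⟩)

end Cfsg.Agent.S2536P
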