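import Mathlib
import Cfsg.Agent.Helper2.S3086Defs
import Cfsg.Agent.Helper2.S3086Basic
import Cfsg.Agent.Helper2.S3086Defs2
import Cfsg.Agent.Helper5.S3086RES1
import Cfsg.Agent.Helper5.S3086RES2
import Cfsg.Agent.Helper7.PComponent3

/-! Board `s3086pieces`, row RES3 (helper5): `RES_cjg`, `RES_qs`
(restriction to an invariant subspace: conjugates, quasisimple images). -/

set_option autoImplicit false

namespace Cfsg.Agent.S3086P

universe u

variable {p : ℕ} [Fact p.Prime] {V : Type u} [AddCommGroup V] [Module (ZMod p) V] [Finite V]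

section RES
variable {W : Submodule (ZMod p) V} {S : Subgroup (GLV p V)}

/-- RESd (M) -/
theorem RES_cjg (hS : S ≤ stabS W) {a : GLV p V} (ha : a ∈ stabS W) :
    imgS W (cjg a S) = cjg (res W ⟨a, ha⟩) (imgS W S) := by
  ext h
  rw [mem_cjg, mem_imgS, mem_imgS]
  constructor
  · rintro ⟨g, hg, rfl⟩
    rw [mem_cjg] at hg
    refine ⟨(⟨a, ha⟩ : ↥(stabS W))⁻¹ * g * ⟨a, ha⟩, hg, ?_⟩
    rw [map_mul, map_mul, map_inv]
  · rintro ⟨g, hg, hgh⟩
    refine ⟨(⟨a, ha⟩ : ↥(stabS W)) * g * (⟨a, ha⟩ : ↥(stabS W))⁻¹, conj_mem_cjg hg, ?_⟩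
    rw [map_mul, map_mul, map_inv, hgh]
    group

/-- RESf (M) -/
theorem RES_qs (hS : S ≤ stabS W) (hK : Cfsg.IsQuasisimple ↥S) (hnt : ¬ S ≤ centS W) : Cfsg.IsQuasisimple ↥(imgS W S) := by
  have hne : imgS W S ≠ ⊥ := fun h => hnt ((RES_bot hS).mp h)
  rw [← RES2_aux_range hS] at hne ⊢
  have : Nontrivial ↥(RES2_aux_phi hS).range := (Subgroup.nontrivial_iff_ne_bot _).mpr hne
  exact Cfsg.Agent.Helper7.isQuasisimple_of_surjective' hK (RES2_aux_phi hS).rangeRestrict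
    (RES2_aux_phi hS).rangeRestrict_surjective

end RES

end Cfsg.Agent.S3086P
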