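import Mathlib
import Cfsg.Agent.Helper11.S4409Defs
import Cfsg.Agent.Helper21.S44093SUB
import Cfsg.Agent.Helper9.S4409F
import Cfsg.Agent.Helper7.S4409E1N

/-! Board `s4409pieces`, row TA (helper5), core: `tcore_a_core` = `tcore_a` with the rows CA4, ABLACK, E3 as (instantiated) hypotheses. -/

set_option autoImplicit false
set_option linter.unusedVariables false

namespace Cfsg.Agent.S4409P

open Subgroup
open scoped commutatorElement

variable {S : Type*} [Group S] [Finite S]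

omit [Finite S] in
/-- conjugation by an element normalising `X` preserves `Z(X)`. -/
private theorem TA_aux_conj_mem_Zc (X : Subgroup S) (k z : S) (hk : k ∈ normalizer (X : Set S))
    (hz : z ∈ Zc X) : k * z * k⁻¹ ∈ Zc X := by
  rw [mem_Zc] at hz ⊢
  have hkX := Subgroup.mem_normalizer_iff.mp hk
  refine ⟨(hkX z).mp hz.1, ?_⟩
  intro y hy
  have hy' : k⁻¹ * y * k ∈ X := by
    rw [hkX (k⁻¹ * y * k)]
    have : k * (k⁻¹ * y * k) * k⁻¹ = y := by group
    rw [this]; exact hy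
  have h1 := hz.2 _ hy'
  calc y * (k * z * k⁻¹) = k * ((k⁻¹ * y * k) * z) * k⁻¹ := by group
    _ = k * (z * (k⁻¹ * y * k)) * k⁻¹ := by rw [h1]
    _ = k * z * k⁻¹ * y := by group

omit [Finite S] in
/-- `K ≤ N(X)` implies `K ≤ N(Z(X))`. -/
private theorem TA_aux_Zc_inv (X K : Subgroup S) (hKX : K ≤ normalizer (X : Set S)) :
    K ≤ normalizer ((Zc X : Subgroup S) : Set S) := by
  intro k hk
  rw [Subgroup.mem_normalizer_iff]
  intro z
  constructor
  · intro hz
    exact TA_aux_conj_mem_Zc X k z (hKX hk) hz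
  · intro hz
    have := TA_aux_conj_mem_Zc X k⁻¹ (k * z * k⁻¹) (hKX (K.inv_mem hk)) hz
    have h2 : k⁻¹ * (k * z * k⁻¹) * k⁻¹⁻¹ = z := by group
    rwa [h2] at this

/-- the elements of `Z(X)` of order at most `2`. -/
private def TA_aux_Omega (X : Subgroup S) : Subgroup S where
  carrier := {z | z ∈ Zc X ∧ z * z = 1}
  one_mem' := ⟨(Zc X).one_mem, by simp⟩
  mul_mem' := by
    rintro a b ⟨ha, ha2⟩ ⟨hb, hb2⟩
    refine ⟨(Zc X).mul_mem ha hb, ?_⟩
    have hcomm : b * a = a * b := (mem_Zc.mp ha).2 b (Zc_le X hb)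
    calc a * b * (a * b) = a * (b * a) * b := by group
      _ = a * (a * b) * b := by rw [hcomm]
      _ = (a * a) * (b * b) := by group
      _ = 1 := by rw [ha2, hb2, one_mul]
  inv_mem' := by
    rintro a ⟨ha, ha2⟩
    refine ⟨(Zc X).inv_mem ha, ?_⟩
    calc a⁻¹ * a⁻¹ = (a * a)⁻¹ := by group
      _ = 1 := by rw [ha2, inv_one]

/-- TA, core : case `[Y,K] = 1`, with the instances of CA4, ABLACK and E3 as hypotheses. -/
theorem tcore_a_core (X K Y : Subgroup S) (hX : IsPGroup 2 ↥X) (hK : Odd (Nat.card ↥K)) (hKX : K ≤ normalizer (X : Set S))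
    (hXK : ⁅X, K⁆ = X) (hna : ¬ IsAb X) (hM : MinA X K)
    (hY1 : Fr X ≤ Y) (hY2 : Y ≤ X) (hY3 : Y ≠ X) (hY4 : K ≤ normalizer (Y : Set S))
    (hY5 : ∀ H : Subgroup S, Y ≤ H → H ≤ X → K ≤ normalizer (H : Set S) → H = Y ∨ H = X)
    (hYK : ⁅Y, K⁆ = ⊥)
    (hCA4 : X ⊓ centralizer (K : Set S) ≤ Der X)
    (hABL : IsPGroup 2 ↥(Zc X) → IsAb (Zc X) → ¬ HasA (Zc X) → IsCyclic ↥(Zc X) ∨ IsV4 (Zc X))
    (hE3 : SpecialInt X → Nat.card ↥(Zc X) = 2 → Nat.card ↥X = 8 → IsQ8 X) :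
    SpecialInt X ∧ (Nat.card ↥(Zc X) = 4 ∨ (Nat.card ↥(Zc X) = 2 ∧ (IsQ8 X ∨ 32 ≤ Nat.card ↥X))) := by
  -- `Y ⊴ X`
  have hXY : X ≤ normalizer (Y : Set S) := normal_of_fr_le X Y hX hY1 hY2
  -- `Y ≤ Z(X)`
  have hYc : Y ≤ centralizer (X : Set S) := le_centralizer_of_comm_eq_bot X K Y hXK hY2 hXY hYK
  have hYZ : Y ≤ Zc X := le_inf hY2 hYc
  -- `Z(X) ≠ X`
  have hZne : Zc X ≠ X := by
    intro h
    apply hna
    intro x hx y hy
    have hy' : y ∈ Zc X := by rw [h]; exact hy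
    exact (mem_Zc.mp hy').2 x hx
  have hZinv : K ≤ normalizer ((Zc X : Subgroup S) : Set S) := TA_aux_Zc_inv X K hKX
  -- `Z(X) = Y`
  have hZY : Zc X = Y := by
    rcases hY5 (Zc X) hYZ (Zc_le X) hZinv with h | h
    · exact h
    · exact absurd h hZne
  -- `Z(X) ≤ C_X(K) ≤ X' ≤ Φ(X) ≤ Y = Z(X)`
  have hYcK : Y ≤ centralizer (K : Set S) := Subgroup.commutator_eq_bot_iff_le_centralizer.mp hYK
  have h1 : Zc X ≤ X ⊓ centralizer (K : Set S) := by
    rw [hZY]; exact le_inf hY2 hYcK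
  have h2 : X ⊓ centralizer (K : Set S) ≤ Der X := hCA4
  have h3 : Der X ≤ Fr X := F7_aux_der_le_fr X hX
  have h4 : Fr X ≤ Zc X := by rw [hZY]; exact hY1
  have hDer : Der X = Zc X := le_antisymm (h3.trans h4) (h1.trans h2)
  have hFr : Fr X = Zc X := le_antisymm h4 ((h1.trans h2).trans h3)
  have hs : SpecialInt X := ⟨hFr, hDer⟩
  refine ⟨hs, ?_⟩
  -- `Z(X)` has no `HasA`
  have hZA : ¬ HasA (Zc X) := hM (Zc X) (Zc_le X) hZne hZinv
  have hZp : IsPGroup 2 ↥(Zc X) := hX.to_le (Zc_le X)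
  have hZab : IsAb (Zc X) := by
    intro x hx y hy
    exact ((mem_Zc.mp hy).2 x (Zc_le X hx))
  rcases hABL hZp hZab hZA with hcyc | hV4
  swap
  · left; exact hV4.1
  right
  -- every commutator has order at most `2`
  have hDerOm : Der X ≤ TA_aux_Omega X := by
    unfold Der
    rw [Subgroup.commutator_le]
    intro x hx y hy
    have hc : ⁅x, y⁆ ∈ Zc X := by
      rw [← hDer]; exact Subgroup.commutator_mem_commutator hx hy
    refine ⟨hc, ?_⟩
    have hxx : x * x ∈ Zc X := by rw [← hFr]; exact sq_mem_fr X hX hx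
    have hcx : x * ⁅x, y⁆ = ⁅x, y⁆ * x := (mem_Zc.mp hc).2 x hx
    have hxxy : y * (x * x) = (x * x) * y := (mem_Zc.mp hxx).2 y hy
    have e1 : ⁅x * x, y⁆ = 1 := by
      rw [commutatorElement_def, ← hxxy]; group
    have e2 : ⁅x * x, y⁆ = x * ⁅x, y⁆ * x⁻¹ * ⁅x, y⁆ := by
      simp only [commutatorElement_def]; group
    rw [hcx] at e2
    rw [e1] at e2
    rw [e2]; group
  have hexp : ∀ z ∈ Zc X, z * z = 1 := by
    intro z hz
    have : z ∈ TA_aux_Omega X := hDerOm (by rw [hDer]; exact hz)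
    exact this.2
  -- `Z(X) ≠ ⊥`
  have hZbot : Zc X ≠ ⊥ := by
    intro h
    apply hna
    have h5 : ⁅X, X⁆ = ⊥ := by
      have : Der X = ⊥ := by rw [hDer, h]
      exact this
    have h6 : X ≤ centralizer (X : Set S) := Subgroup.commutator_eq_bot_iff_le_centralizer.mp h5
    intro x hx y hy
    exact (Subgroup.mem_centralizer_iff.mp (h6 hy) x hx)
  -- `|Z(X)| = 2`
  have hcard2 : Nat.card ↥(Zc X) = 2 := by
    obtain ⟨g, hg⟩ := hcyc.exists_generator
    have hord : orderOf g = Nat.card ↥(Zc X) := orderOf_eq_card_of_forall_mem_zpowers hg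
    have hg2 : g ^ 2 = 1 := by
      have := hexp g.1 g.2
      rw [pow_two]
      exact Subtype.ext this
    have hdvd : orderOf g ∣ 2 := orderOf_dvd_of_pow_eq_one hg2
    rw [hord] at hdvd
    have hne1 : Nat.card ↥(Zc X) ≠ 1 := by
      intro h
      apply hZbot
      exact (Subgroup.card_eq_one).mp h
    have hle : Nat.card ↥(Zc X) ≤ 2 := Nat.le_of_dvd (by norm_num) hdvd
    have hpos : 0 < Nat.card ↥(Zc X) := Nat.card_pos
    omega
  refine ⟨hcard2, ?_⟩
  -- the order of `X`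
  obtain ⟨n, hn⟩ := (IsPGroup.iff_card).mp hX
  have hnab : ¬ (∀ a b : ↥X, a * b = b * a) := by
    intro h
    apply hna
    intro x hx y hy
    exact congrArg Subtype.val (h ⟨x, hx⟩ ⟨y, hy⟩)
  have hn3 : 3 ≤ n := by
    by_contra hlt
    rw [not_le] at hlt
    apply hnab
    interval_cases n
    · -- card 1
      have : Subsingleton ↥X := (Nat.card_eq_one_iff_unique.mp (by simpa using hn)).1
      intro a b
      rw [Subsingleton.elim a b]
    · -- card 2
      have hprime : Nat.card ↥X = 2 := by simpa using hn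
      have : Fact (Nat.Prime 2) := ⟨Nat.prime_two⟩
      have hcyc2 : IsCyclic ↥X := isCyclic_of_prime_card hprime
      intro a b
      obtain ⟨g, hg⟩ := hcyc2.exists_generator
      obtain ⟨i, rfl⟩ := Subgroup.mem_zpowers_iff.mp (hg a)
      obtain ⟨j, rfl⟩ := Subgroup.mem_zpowers_iff.mp (hg b)
      rw [← zpow_add, ← zpow_add, add_comm]
    · -- card 4
      have : Fact (Nat.Prime 2) := ⟨Nat.prime_two⟩
      have hmc : IsMulCommutative ↥X := IsPGroup.isMulCommutative_of_card_eq_prime_sq hn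
      intro a b
      exact hmc.is_comm.comm a b
  by_cases h8 : n = 3
  · left
    have : Nat.card ↥X = 8 := by rw [hn, h8]; norm_num
    exact hE3 hs hcard2 this
  by_cases h16 : n = 4
  · exfalso
    have : Nat.card ↥X = 16 := by rw [hn, h16]; norm_num
    exact es_ne16 X hX hs hcard2 this
  right
  have h5 : 5 ≤ n := by omega
  rw [hn]
  calc 32 = 2 ^ 5 := by norm_num
    _ ≤ 2 ^ n := Nat.pow_le_pow_right (by norm_num) h5

end Cfsg.Agent.S4409P
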