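import Mathlib
import Cfsg.Agent.Helper11.S4409Defs
import Cfsg.Agent.Helper5.S4409TAcore
import Cfsg.Agent.Helper19.S4409ABLACK
import Cfsg.Agent.Helper7.S4409E3
import Cfsg.Agent.Helper20.S4409CA4

/-! Board `s4409pieces`, row TA (helper5): `tcore_a`, the case `[Y,K] = 1` of the structure theorem
(wrapper of `tcore_a_core` in `Cfsg.Agent.Helper5.S4409TAcore`). -/

set_option autoImplicit false
set_option linter.unusedVariables false

namespace Cfsg.Agent.S4409P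

open Subgroup
open scoped commutatorElement

variable {S : Type*} [Group S] [Finite S]

/-- TA : case `[Y,K] = 1`. -/
theorem tcore_a (X K Y : Subgroup S) (hX : IsPGroup 2 ↥X) (hK : Odd (Nat.card ↥K)) (hKX : K ≤ normalizer (X : Set S))
    (hXK : ⁅X, K⁆ = X) (hna : ¬ IsAb X) (hM : MinA X K)
    (hY1 : Fr X ≤ Y) (hY2 : Y ≤ X) (hY3 : Y ≠ X) (hY4 : K ≤ normalizer (Y : Set S))
    (hY5 : ∀ H : Subgroup S, Y ≤ H → H ≤ X → K ≤ normalizer (H : Set S) → H = Y ∨ H = X)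
    (hYK : ⁅Y, K⁆ = ⊥) :
    SpecialInt X ∧ (Nat.card ↥(Zc X) = 4 ∨ (Nat.card ↥(Zc X) = 2 ∧ (IsQ8 X ∨ 32 ≤ Nat.card ↥X))) :=
  tcore_a_core X K Y hX hK hKX hXK hna hM hY1 hY2 hY3 hY4 hY5 hYK
    (cent_le_der X K hX hK hKX hXK)
    (cyclic_or_v4_of_abelian (Zc X))
    (fun hs hz h8 => q8_of_es8 X K hX hs hz h8 hK hKX hXK)

end Cfsg.Agent.S4409P
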