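import Mathlib
import Cfsg.Prelude.Def_GeometricClasses
import Cfsg.Agent.Helper2.S5886.Defs
import Cfsg.Agent.Helper2.S5664.Defs
import Cfsg.Agent.Helper23.S5664KSPTV

/-! # S5664 (driver helper2), piece YKTV (helper5): the `K`-transvections lie in `yset`. -/

set_option autoImplicit false

namespace Cfsg.Agent.S5664P

open Cfsg.Agent.S5886P

variable {F K V : Type*} [Field F] [Field K] [Algebra F K]
  [AddCommGroup V] [Module F V] [Module K V] [IsScalarTower F K V]

/-- YKTV (S): KSPTV with `u = v` gives `g ∈ SpK ≤ M`, `g x = x + (c * B x v) • v`; `smap B v 1 c ∈ ulie (K v)` (`B (k v) v = 0`). -/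
theorem YKTV (B : V →ₗ[K] V →ₗ[K] K) (hB : IsAltND B) (M : Subgroup (V ≃ₗ[F] V))
    (hK : SpK F B ≤ M) (v : V) (c : K) :
    smap B v (1 : K ≃ₐ[F] K) c ∈ yset M (Kline (F := F) (K := K) v) := by
  refine ⟨⟨fun x => ?_, fun x hx => ?_⟩, ?_⟩
  · rw [smap_apply]
    show _ ∈ (Submodule.span K {v}).restrictScalars F
    rw [Submodule.restrictScalars_mem]
    exact Submodule.smul_mem _ _ (Submodule.subset_span rfl)
  · have hx' : x ∈ Submodule.span K {v} := hx
    obtain ⟨k, rfl⟩ := Submodule.mem_span_singleton.mp hx'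
    rw [smap_apply, map_smul, LinearMap.smul_apply, hB.alt, smul_zero, map_zero, mul_zero,
      zero_smul]
  · obtain ⟨g, hg, hgx⟩ := KSPTV (F := F) B hB v c
    refine ⟨g, hK hg, fun x => ?_⟩
    rw [hgx, smap_apply]
    rfl

end Cfsg.Agent.S5664P
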