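import Mathlib
import Cfsg.Agent.Helper5.VL.Defs
import Cfsg.Agent.Helper9.VL.ZINDEP
import Cfsg.Agent.Helper10.VLTWO
import Cfsg.Agent.Helper11.VLAFFLE

set_option autoImplicit false
set_option linter.style.haveILetI false
set_option linter.unusedSectionVars false

namespace Cfsg.Agent.Helper5.VL

open Subgroup
open scoped commutatorElement

universe u
variable {p : ℕ} [Fact p.Prime] {G : Type u} [Group G] [Finite G]

/-- CLPTUP -/
theorem clpt_upper (hG : IsPGroup p G) (φ0 : Fn p G) {φ : Fn p G} (hφ : φ ≠ 1)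
    (hne : ⁅φ.ker, φ.ker⁆ ≠ commutator G) :
    Nat.card {y : G // φ0 y ≠ 1 ∧ y ∈ Zs φ ⊔ Phi p G} * p ^ 3 ≤ Nat.card G * (p - 1) := by
  obtain ⟨ψ, hZψ, hnle⟩ := exists_indep_of_ne hG hφ hne
  set W : Subgroup G := φ.ker ⊓ ψ.ker with hW
  have hle : Zs φ ⊔ Phi p G ≤ W :=
    sup_le (le_inf (Zs_le_ker φ) hZψ) (le_inf (Phi_le_ker φ) (Phi_le_ker ψ))
  have hidx : W.index = p ^ 2 := index_ker_inf_ker hφ hnle
  have hcard : Nat.card W * p ^ 2 = Nat.card G := by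
    rw [← hidx]; exact W.card_mul_index
  have h1 : Nat.card {y : G // φ0 y ≠ 1 ∧ y ∈ Zs φ ⊔ Phi p G}
      ≤ Nat.card {w : G // w ∈ W ∧ φ0 w ≠ 1} := by
    apply Nat.card_le_card_of_injective
      (fun y => (⟨y.1, hle y.2.2, y.2.1⟩ : {w : G // w ∈ W ∧ φ0 w ≠ 1}))
    intro a b hab
    exact Subtype.ext (congrArg (fun z : {w : G // w ∈ W ∧ φ0 w ≠ 1} => z.1) hab)
  have h2 := card_affine_le φ0 W
  calc Nat.card {y : G // φ0 y ≠ 1 ∧ y ∈ Zs φ ⊔ Phi p G} * p ^ 3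
      ≤ Nat.card {w : G // w ∈ W ∧ φ0 w ≠ 1} * p ^ 3 := Nat.mul_le_mul_right _ h1
    _ = (Nat.card {w : G // w ∈ W ∧ φ0 w ≠ 1} * p) * p ^ 2 := by ring
    _ ≤ (Nat.card W * (p - 1)) * p ^ 2 := Nat.mul_le_mul_right _ h2
    _ = (Nat.card W * p ^ 2) * (p - 1) := by ring
    _ = Nat.card G * (p - 1) := by rw [hcard]

end Cfsg.Agent.Helper5.VL
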