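import Mathlib
import Cfsg.Prelude.Def_Blocks
import Cfsg.Agent.Helper5.ClaimN
import Cfsg.Agent.Helper5.ConvAlg
import Cfsg.Agent.Helper5.Kolchin
import Cfsg.Agent.Helper5.NilClassSum

/-!
# Idempotents of the local group ring are not killed by the sum of a `p`-subgroup

If `a` is a central idempotent (modulo the local ideal) of the local group ring and `P` is a
`p`-subgroup with `P̂ * a ≡ 0`, then `a ≡ 0`.  (The group algebra is free over `F P`, and the
augmentation ideal of `F P` is nilpotent.)
-/

set_option autoImplicit false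

namespace Cfsg.Agent.Helper5.CC

open Cfsg Cfsg.Agent.Helper24 Cfsg.Agent.Helper5 Cfsg.Agent.Helper5.Loc
open Cfsg.Agent.Helper5.NilClass

variable {G : Type*} [Group G]

/-- The ordered product of the elements `q - 1` of the group ring over a tuple of elements of
`P`. -/
noncomputable def augProd (R : Type*) [Ring R] (P : Subgroup G) {k : ℕ} (v : Fin k → P) :
    MonoidAlgebra R G :=
  ((List.ofFn v).map (fun q : P => MonoidAlgebra.single (q : G) (1 : R) - 1)).prod

theorem augProd_cons (R : Type*) [Ring R] (P : Subgroup G) {k : ℕ} (u : P) (v : Fin k → P) :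
    augProd R P (Fin.cons u v : Fin (k + 1) → P) =
      (MonoidAlgebra.single (u : G) (1 : R) - 1) * augProd R P v := by
  simp [augProd, List.ofFn_succ]

theorem augProd_zero (R : Type*) [Ring R] (P : Subgroup G) (v : Fin 0 → P) :
    augProd R P v = 1 := by
  simp [augProd]

theorem map_augProd {p : ℕ} (P : Subgroup G) {k : ℕ} (v : Fin k → P) :
    MonoidAlgebra.mapRingHom G (Int.castRingHom (ZMod p)) (augProd ℤ P v) =
      augProd (ZMod p) P v := by
  simp only [augProd, map_list_prod, List.map_map]
  congr 1
  apply List.map_congr_left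
  intro q _
  simp [MonoidAlgebra.mapRingHom_single]

variable [Fintype G]

/-- Long products of elements `q - 1`, `q` in a `p`-subgroup, vanish modulo `p`. -/
theorem augProd_modp_eq_zero {p : ℕ} [Fact p.Prime] (P : Subgroup G) (hP : IsPGroup p P) {k : ℕ}
    (hk : Module.finrank (ZMod p) (MonoidAlgebra (ZMod p) G) ≤ k) (v : Fin k → P) :
    augProd (ZMod p) P v = 0 := by
  have hfin : Finite (MonoidAlgebra (ZMod p) G) := Module.finite_of_finite (ZMod p)
  have h := Kolchin.prod_sub_one_eq_zero hP _ (leftRep p P) le_rfl (List.ofFn v)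
    (by simpa using hk)
  rw [leftRep_prod] at h
  have h1 := LinearMap.congr_fun h 1
  simpa [augProd] using h1

variable {M : Ideal AlgInt}

theorem li_toFun_augProd {p : ℕ} [Fact p.Prime] (hM : IsPModular p M) (P : Subgroup G)
    (hP : IsPGroup p P) {k : ℕ}
    (hk : Module.finrank (ZMod p) (MonoidAlgebra (ZMod p) G) ≤ k) (v : Fin k → P) (t : G) :
    MemLocalIdeal M (toFun (augProd ℤ P v) t) := by
  have hMp := isPrime_of_isPModular hM
  have h1 : MonoidAlgebra.mapRingHom G (Int.castRingHom (ZMod p)) (augProd ℤ P v) = 0 := by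
    rw [map_augProd]
    exact augProd_modp_eq_zero P hP hk v
  have h2 := congrArg (fun x => x.coeff t) h1
  simp only [MonoidAlgebra.coeff_mapRingHom] at h2
  have h3 : (((augProd ℤ P v).coeff t : ℤ) : ZMod p) = 0 := by simpa using h2
  obtain ⟨c, hc⟩ := (ZMod.intCast_zmod_eq_zero_iff_dvd _ p).mp h3
  simp only [toFun]
  rw [hc]
  push_cast
  exact li_mul_right hMp ((memLocalIdeal_natCast_iff hM p).mpr dvd_rfl) (memLocalRing_intCast hMp c)

omit [Fintype G] in
theorem lr_toFun (hM : M.IsPrime) (x : MonoidAlgebra ℤ G) (t : G) : MemLocalRing M (toFun x t) :=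
  memLocalRing_intCast hM _

/-- Convolution with `u - 1` on the left. -/
theorem conv_toFun_single_sub_one (u : G) (d : G → ℂ) (t : G) :
    conv (toFun (MonoidAlgebra.single u (1 : ℤ) - 1)) d t = d (u⁻¹ * t) - d t := by
  classical
  have h1 : toFun (MonoidAlgebra.single u (1 : ℤ) - 1) =
      (fun s => (if s = u then (1 : ℂ) else 0)) - deltaOne := by
    funext s
    rw [Pi.sub_apply, ← toFun_one]
    simp only [toFun, MonoidAlgebra.coeff_sub, Finsupp.coe_sub, Pi.sub_apply,
      MonoidAlgebra.coeff_single, Finsupp.single_apply]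
    push_cast
    congr 1
    by_cases h : u = s
    · rw [if_pos h, if_pos h.symm]
    · rw [if_neg h, if_neg (fun h' => h h'.symm)]
  rw [h1, conv_sub_left, Pi.sub_apply, conv_deltaOne_left]
  congr 1
  simp only [conv]
  rw [Finset.sum_eq_single u]
  · rw [if_pos rfl, one_mul]
  · intro s _ hs
    rw [if_neg hs, zero_mul]
  · intro h; exact absurd (Finset.mem_univ _) h

theorem conv_sum_left {ι : Type*} (s : Finset ι) (f : ι → G → ℂ) (d : G → ℂ) :
    conv (∑ i ∈ s, f i) d = ∑ i ∈ s, conv (f i) d := by
  classical
  induction s using Finset.induction_on with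
  | empty => simp [conv_zero_left]
  | insert i s hi ih => rw [Finset.sum_insert hi, Finset.sum_insert hi, conv_add_left, ih]

theorem conv_sum_right {ι : Type*} (s : Finset ι) (c : G → ℂ) (f : ι → G → ℂ) :
    conv c (∑ i ∈ s, f i) = ∑ i ∈ s, conv c (f i) := by
  classical
  induction s using Finset.induction_on with
  | empty => simp [conv_zero_right]
  | insert i s hi ih => rw [Finset.sum_insert hi, Finset.sum_insert hi, conv_add_right, ih]

end Cfsg.Agent.Helper5.CC
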