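import Mathlib
import Cfsg.Prelude.Def_Blocks
import Cfsg.Agent.Helper5.AugIdeal

/-!
# Idempotents of the local group ring are not killed by the sum of a `p`-subgroup (main theorem)
-/

set_option autoImplicit false

namespace Cfsg.Agent.Helper5.CC

open Cfsg Cfsg.Agent.Helper24 Cfsg.Agent.Helper5 Cfsg.Agent.Helper5.Loc
open Cfsg.Agent.Helper5.NilClass

variable {G : Type*} [Group G] [Fintype G] {M : Ideal AlgInt}

/-- Level one: if `P̂ * a ≡ 0` then `a ∈ J * RG + li`. -/
theorem exists_level_one (hM : M.IsPrime) (P : Subgroup G) [Fintype P] {a : G → ℂ}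
    (h0 : ∀ g, MemLocalIdeal M (∑ u : P, a ((u : G) * g)))
    (haM : ∀ t, MemLocalRing M (a t)) :
    ∃ z : P → (G → ℂ), (∀ u t, MemLocalRing M (z u t)) ∧
      ∀ t, MemLocalIdeal M (a t -
        ∑ u : P, conv (toFun (MonoidAlgebra.single (u : G) (1 : ℤ) - 1)) (z u) t) := by
  classical
  set rep : G → G := fun t => ((QuotientGroup.mk t⁻¹ : G ⧸ P).out)⁻¹ with hrep
  have hrep1 : ∀ t, ∃ h : P, rep t = (h : G) * t := by
    intro t
    obtain ⟨h, hh⟩ := QuotientGroup.mk_out_eq_mul P t⁻¹
    refine ⟨h⁻¹, ?_⟩
    simp only [hrep]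
    rw [hh]
    simp
  have hrep2 : ∀ (u : P) (t : G), rep ((u : G) * t) = rep t := by
    intro u t
    simp only [hrep]
    congr 2
    rw [QuotientGroup.eq]
    have : ((u : G) * t)⁻¹⁻¹ * t⁻¹ = (u : G) := by group
    rw [this]
    exact u.2
  refine ⟨fun u s => if rep s = s then a ((u : G) * s) else 0, ?_, ?_⟩
  · intro u t
    by_cases h : rep t = t
    · simp only [if_pos h]; exact haM _
    · simp only [if_neg h]; exact memLocalRing_zero hM
  · intro t
    simp only [conv_toFun_single_sub_one]
    rw [Finset.sum_sub_distrib]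
    obtain ⟨h, hh⟩ := hrep1 t
    have e1 : ∑ u : P, (if rep ((u : G)⁻¹ * t) = (u : G)⁻¹ * t then a ((u : G) * ((u : G)⁻¹ * t))
        else 0) = a t := by
      rw [Finset.sum_eq_single h⁻¹]
      · have h1 : rep (((h⁻¹ : P) : G)⁻¹ * t) = ((h⁻¹ : P) : G)⁻¹ * t := by
          have := hrep2 h t
          simp only [Subgroup.coe_inv, inv_inv]
          rw [this, hh]
        rw [if_pos h1]
        congr 1
        group
      · intro u _ hu
        rw [if_neg]
        intro hcon
        apply hu
        have h2 : rep ((u : G)⁻¹ * t) = rep t := by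
          have := hrep2 u⁻¹ t
          simpa using this
        rw [h2, hh] at hcon
        have h3 : (h : G) = (u : G)⁻¹ := mul_right_cancel hcon
        apply Subtype.ext
        rw [Subgroup.coe_inv, h3, inv_inv]
      · intro hn; exact absurd (Finset.mem_univ _) hn
    rw [e1]
    by_cases ht : rep t = t
    · simp only [if_pos ht]
      have : a t - (a t - ∑ u : P, a ((u : G) * t)) = ∑ u : P, a ((u : G) * t) := by ring
      rw [this]
      exact h0 t
    · simp only [if_neg ht, Finset.sum_const_zero, sub_zero, sub_self]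
      exact memLocalIdeal_zero hM

/-- **Main theorem.** If `a` is a class function with local-integer values, idempotent modulo the
local ideal, and `P̂ * a ≡ 0` for a `p`-subgroup `P`, then `a ≡ 0`. -/
theorem li_of_sum_subgroup_li {p : ℕ} [Fact p.Prime] (hM : IsPModular p M) (P : Subgroup G)
    [Fintype P] (hP : IsPGroup p P) {a : G → ℂ} (ha : IsClassFunction G a)
    (haM : ∀ t, MemLocalRing M (a t))
    (hidem : ∀ t, MemLocalIdeal M (conv a a t - a t))
    (h0 : ∀ g, MemLocalIdeal M (∑ u : P, a ((u : G) * g))) : ∀ t, MemLocalIdeal M (a t) := by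
  classical
  have hMp := isPrime_of_isPModular hM
  obtain ⟨z, hzM, hz⟩ := exists_level_one hMp P h0 haM
  -- level `k`
  have key : ∀ k : ℕ, ∃ y : (Fin k → P) → (G → ℂ), (∀ v t, MemLocalRing M (y v t)) ∧
      ∀ t, MemLocalIdeal M (a t - ∑ v : Fin k → P, conv (toFun (augProd ℤ P v)) (y v) t) := by
    intro k
    induction k with
    | zero =>
      refine ⟨fun _ => a, fun _ t => haM t, fun t => ?_⟩
      rw [Fintype.sum_eq_single (fun i : Fin 0 => i.elim0)]
      · rw [augProd_zero, toFun_one, conv_deltaOne_left, sub_self]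
        exact memLocalIdeal_zero hMp
      · intro v hv
        exact absurd (Subsingleton.elim _ _) hv
    | succ k ih =>
      obtain ⟨y, hyM, hy⟩ := ih
      refine ⟨fun w => conv (y (Fin.tail w)) (z (w 0)),
        fun w t => lr_conv hMp (hyM _) (hzM _) t, ?_⟩
      -- function-level bookkeeping
      set S₁ : G → ℂ := ∑ u : P, conv (toFun (MonoidAlgebra.single (u : G) (1 : ℤ) - 1)) (z u)
        with hS₁
      set Sk : G → ℂ := ∑ v : Fin k → P, conv (toFun (augProd ℤ P v)) (y v) with hSk
      set ε₁ : G → ℂ := a - S₁ with hε₁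
      set εk : G → ℂ := a - Sk with hεk
      set ε₀ : G → ℂ := a - conv a a with hε₀
      have hε₁M : ∀ t, MemLocalIdeal M (ε₁ t) := by
        intro t
        have := hz t
        simp only [hε₁, hS₁, Pi.sub_apply, Finset.sum_apply]
        exact this
      have hεkM : ∀ t, MemLocalIdeal M (εk t) := by
        intro t
        have := hy t
        simp only [hεk, hSk, Pi.sub_apply, Finset.sum_apply]
        exact this
      have hε₀M : ∀ t, MemLocalIdeal M (ε₀ t) := by
        intro t
        have := li_neg (hidem t)
        simp only [hε₀, Pi.sub_apply]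
        rwa [neg_sub] at this
      have e1 : conv a a = conv S₁ a + conv ε₁ a := by
        rw [← conv_add_left]
        congr 1
        simp [hε₁]
      have e3 : ∀ u : P, conv a (z u) =
          (∑ v : Fin k → P, conv (toFun (augProd ℤ P v)) (conv (y v) (z u))) + conv εk (z u) := by
        intro u
        have h1 : a = Sk + εk := by simp [hεk]
        conv_lhs => rw [h1]
        rw [conv_add_left, hSk, conv_sum_left]
        congr 1
        exact Finset.sum_congr rfl fun v _ => conv_assoc _ _ _
      have e4 : ∀ u : P, conv (toFun (MonoidAlgebra.single (u : G) (1 : ℤ) - 1)) (conv a (z u)) =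
          (∑ v : Fin k → P, conv (toFun (augProd ℤ P (Fin.cons u v : Fin (k + 1) → P)))
            (conv (y v) (z u))) +
          conv (toFun (MonoidAlgebra.single (u : G) (1 : ℤ) - 1)) (conv εk (z u)) := by
        intro u
        rw [e3 u, conv_add_right, conv_sum_right]
        congr 1
        refine Finset.sum_congr rfl fun v _ => ?_
        rw [← conv_assoc, augProd_cons, toFun_mul]
      have e2 : conv S₁ a = ∑ u : P, conv (toFun (MonoidAlgebra.single (u : G) (1 : ℤ) - 1))
          (conv a (z u)) := by
        rw [hS₁, conv_sum_left]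
        refine Finset.sum_congr rfl fun u _ => ?_
        rw [conv_assoc, conv_comm_of_isClassFunction (z u) ha]
      have e5 : (∑ w : Fin (k + 1) → P, conv (toFun (augProd ℤ P w))
          (conv (y (Fin.tail w)) (z (w 0)))) =
          ∑ u : P, ∑ v : Fin k → P, conv (toFun (augProd ℤ P (Fin.cons u v : Fin (k + 1) → P)))
            (conv (y v) (z u)) := by
        rw [← Fintype.sum_prod_type']
        refine Fintype.sum_equiv (Fin.consEquiv (fun _ : Fin (k + 1) => P)).symm _ _ fun w => ?_
        simp only [Fin.consEquiv_symm_apply]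
        have : (Fin.cons (w 0) (Fin.tail w) : Fin (k + 1) → P) = w := Fin.cons_self_tail w
        rw [this]
      have emain : a = (∑ w : Fin (k + 1) → P, conv (toFun (augProd ℤ P w))
          (conv (y (Fin.tail w)) (z (w 0)))) +
          ((∑ u : P, conv (toFun (MonoidAlgebra.single (u : G) (1 : ℤ) - 1)) (conv εk (z u))) +
            conv ε₁ a + ε₀) := by
        have h1 : a = conv a a + ε₀ := by simp [hε₀]
        conv_lhs => rw [h1, e1, e2]
        rw [e5]
        simp_rw [e4]
        rw [Finset.sum_add_distrib]
        abel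
      intro t
      have hrest : MemLocalIdeal M (((∑ u : P, conv (toFun (MonoidAlgebra.single (u : G) (1 : ℤ) - 1))
          (conv εk (z u))) + conv ε₁ a + ε₀) t) := by
        rw [Pi.add_apply, Pi.add_apply, Finset.sum_apply]
        refine li_add hMp (li_add hMp (li_sum hMp _ _ fun u _ => ?_) ?_) (hε₀M t)
        · exact li_conv_right hMp (lr_toFun hMp _) (li_conv_left hMp hεkM (hzM u)) t
        · exact li_conv_left hMp hε₁M haM t
      have e6 : a t - ∑ w : Fin (k + 1) → P, conv (toFun (augProd ℤ P w))
          (conv (y (Fin.tail w)) (z (w 0))) t =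
          ((∑ u : P, conv (toFun (MonoidAlgebra.single (u : G) (1 : ℤ) - 1))
          (conv εk (z u))) + conv ε₁ a + ε₀) t := by
        have := congrFun emain t
        rw [Pi.add_apply, Finset.sum_apply] at this
        rw [← Finset.sum_apply] at this ⊢
        linear_combination this
      rw [e6]
      exact hrest
  obtain ⟨y, hyM, hy⟩ := key (Module.finrank (ZMod p) (MonoidAlgebra (ZMod p) G))
  intro t
  have h1 : MemLocalIdeal M (∑ v : Fin (Module.finrank (ZMod p) (MonoidAlgebra (ZMod p) G)) → P,
      conv (toFun (augProd ℤ P v)) (y v) t) := by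
    apply li_sum hMp
    intro v _
    exact li_conv_left hMp (li_toFun_augProd hM P hP le_rfl v) (hyM v) t
  have := li_add hMp (hy t) h1
  rwa [sub_add_cancel] at this

end Cfsg.Agent.Helper5.CC
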