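import Mathlib
import Cfsg.Prelude.Def_Blocks
import Cfsg.Agent.Helper5.AugIdeal2
import Cfsg.Agent.Helper5.FixedSum

/-!
# Sylow intersections from idempotents (the engine of Green's theorem)
-/

set_option autoImplicit false

namespace Cfsg.Agent.Helper5.CC

open Cfsg Cfsg.Agent.Helper24 Cfsg.Agent.Helper5 Cfsg.Agent.Helper5.Loc MulAction

variable {G : Type*} [Group G] [Fintype G] {M : Ideal AlgInt}

/-- The action of `P ∩ g P g⁻¹` on `P` transporting conjugation on the coset `g P`. -/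
@[instance_reducible]
def cosetConjAction (P : Subgroup G) (g : G) :
    MulAction ↥(P ⊓ P.map (MulAut.conj g).toMonoidHom) P where
  smul q u := ⟨g⁻¹ * (q : G) * g * (u : G) * (q : G)⁻¹, by
    have hq1 : (q : G) ∈ P := q.2.1
    obtain ⟨r, hr, hrq⟩ := q.2.2
    have hrq' : g * r * g⁻¹ = (q : G) := hrq
    have h1 : g⁻¹ * (q : G) * g = r := by rw [← hrq']; group
    rw [h1]
    exact P.mul_mem (P.mul_mem hr u.2) (P.inv_mem hq1)⟩
  one_smul u := by
    apply Subtype.ext
    show g⁻¹ * ((1 : ↥(P ⊓ P.map (MulAut.conj g).toMonoidHom)) : G) * g * (u : G) *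
      ((1 : ↥(P ⊓ P.map (MulAut.conj g).toMonoidHom)) : G)⁻¹ = (u : G)
    simp
  mul_smul q₁ q₂ u := by
    apply Subtype.ext
    show g⁻¹ * ((q₁ * q₂ : ↥(P ⊓ P.map (MulAut.conj g).toMonoidHom)) : G) * g * (u : G) *
        ((q₁ * q₂ : ↥(P ⊓ P.map (MulAut.conj g).toMonoidHom)) : G)⁻¹ =
      g⁻¹ * (q₁ : G) * g * (g⁻¹ * (q₂ : G) * g * (u : G) * (q₂ : G)⁻¹) * (q₁ : G)⁻¹
    simp only [Subgroup.coe_mul]
    group

/-- **Sylow intersection engine.** Let `a` be a class function with local-integer values that is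
idempotent modulo the local ideal and not identically in the local ideal, and `P` a `p`-subgroup.
Then there is `s` with `a s` a unit such that `P ∩ s P s⁻¹` centralizes `s`. -/
theorem exists_unit_centralized {p : ℕ} [Fact p.Prime] (hM : IsPModular p M) (P : Subgroup G)
    (hP : IsPGroup p P) {a : G → ℂ} (ha : IsClassFunction G a)
    (haM : ∀ t, MemLocalRing M (a t))
    (hidem : ∀ t, MemLocalIdeal M (conv a a t - a t))
    (hne : ∃ t, ¬ MemLocalIdeal M (a t)) :
    ∃ s : G, ¬ MemLocalIdeal M (a s) ∧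
      ∀ q ∈ P, q ∈ P.map (MulAut.conj s).toMonoidHom → q * s = s * q := by
  classical
  have hMp := isPrime_of_isPModular hM
  have : Fintype P := Fintype.ofFinite _
  -- some coset sum is a unit
  have h1 : ∃ g : G, ¬ MemLocalIdeal M (∑ u : P, a ((u : G) * g)) := by
    by_contra hcon
    push Not at hcon
    obtain ⟨t, ht⟩ := hne
    exact ht (li_of_sum_subgroup_li hM P hP ha haM hidem hcon t)
  obtain ⟨g, hg⟩ := h1
  have h2 : ∑ u : P, a ((u : G) * g) = ∑ u : P, a (g * (u : G)) := by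
    refine Finset.sum_congr rfl fun u _ => ?_
    have := ha (g * (u : G)) (u : G)
    rw [← this]
    congr 1
    group
  rw [h2] at hg
  let _ := cosetConjAction P g
  have hsmul : ∀ (q : ↥(P ⊓ P.map (MulAut.conj g).toMonoidHom)) (u : P),
      ((q • u : P) : G) = g⁻¹ * (q : G) * g * (u : G) * (q : G)⁻¹ := fun _ _ => rfl
  have hQ : IsPGroup p ↥(P ⊓ P.map (MulAut.conj g).toMonoidHom) := hP.to_le inf_le_left
  have hf : ∀ (q : ↥(P ⊓ P.map (MulAut.conj g).toMonoidHom)) (u : P),
      a (g * ((q • u : P) : G)) = a (g * (u : G)) := by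
    intro q u
    rw [hsmul]
    have := ha (g * (u : G)) (q : G)
    rw [← this]
    congr 1
    group
  have h3 := sum_sub_sum_fixedPoints_memLocalIdeal hM hQ (fun u : P => a (g * (u : G))) hf
    (fun u => haM _)
  have h4 : ∃ u : P, u ∈ fixedPoints ↥(P ⊓ P.map (MulAut.conj g).toMonoidHom) P ∧
      ¬ MemLocalIdeal M (a (g * (u : G))) := by
    by_contra hcon
    push Not at hcon
    apply hg
    have h5 : MemLocalIdeal M (∑ u ∈ Finset.univ.filter (fun u : P =>
        u ∈ fixedPoints ↥(P ⊓ P.map (MulAut.conj g).toMonoidHom) P), a (g * (u : G))) := by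
      apply li_sum hMp
      intro u hu
      rw [Finset.mem_filter] at hu
      exact hcon u hu.2
    have := li_add hMp h3 h5
    rwa [sub_add_cancel] at this
  obtain ⟨u, hufix, hua⟩ := h4
  refine ⟨g * (u : G), hua, ?_⟩
  intro q hqP hqmap
  -- `q ∈ P ∩ g P g⁻¹`
  have hqmap' : q ∈ P.map (MulAut.conj g).toMonoidHom := by
    obtain ⟨r, hr, hrq⟩ := hqmap
    have hrq' : g * (u : G) * r * (g * (u : G))⁻¹ = q := hrq
    refine ⟨(u : G) * r * (u : G)⁻¹, P.mul_mem (P.mul_mem u.2 hr) (P.inv_mem u.2), ?_⟩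
    show g * ((u : G) * r * (u : G)⁻¹) * g⁻¹ = q
    rw [← hrq']
    group
  have hfix := hufix ⟨q, hqP, hqmap'⟩
  have h6 := congrArg Subtype.val hfix
  rw [hsmul] at h6
  simp only at h6
  -- `g⁻¹ q g u q⁻¹ = u`
  calc q * (g * (u : G)) = g * (g⁻¹ * q * g * (u : G) * q⁻¹) * q := by group
    _ = g * (u : G) * q := by rw [h6]

end Cfsg.Agent.Helper5.CC
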