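import Mathlib
import Cfsg.Prelude.Def_Blocks
import Cfsg.Agent.Helper5.SylowIntersection
import Cfsg.Agent.Helper5.DefectGroups2
import Cfsg.Agent.Helper5.BlockSupport

/-!
# Green's theorem: defect groups are Sylow intersections
-/

set_option autoImplicit false

namespace Cfsg.Agent.Helper5.CC

open Cfsg Cfsg.Agent.Helper24 Cfsg.Agent.Helper5 Cfsg.Agent.Helper5.Loc Cfsg.Agent.Helper14

/-- Normalizers grow in finite `p`-groups (ambient form). -/
theorem exists_mem_normalizer_not_mem {G : Type*} [Group G] {p : ℕ} [Fact p.Prime]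
    {Q D : Subgroup G} [Finite Q] (hQ : IsPGroup p Q) (hDQ : D ≤ Q) (hne : D ≠ Q) :
    ∃ r ∈ Q, r ∈ Subgroup.normalizer (D : Set G) ∧ r ∉ D := by
  have hnil : Group.IsNilpotent Q := hQ.isNilpotent
  have hNC : NormalizerCondition Q := Group.normalizerCondition_of_isNilpotent
  have hlt : D.subgroupOf Q < ⊤ := by
    rw [lt_top_iff_ne_top]
    intro h
    apply hne
    apply le_antisymm hDQ
    intro q hq
    have : (⟨q, hq⟩ : Q) ∈ D.subgroupOf Q := by rw [h]; exact Subgroup.mem_top _
    exact Subgroup.mem_subgroupOf.mp this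
  have h1 := hNC _ hlt
  obtain ⟨r', hr'N, hr'D⟩ := SetLike.exists_of_lt h1
  refine ⟨(r' : G), r'.2, ?_, fun h => hr'D (Subgroup.mem_subgroupOf.mpr h)⟩
  rw [Subgroup.mem_set_normalizer_iff]
  intro d
  have hr := Subgroup.mem_set_normalizer_iff.mp hr'N
  constructor
  · intro hd
    have := (hr ⟨d, hDQ hd⟩).mp (Subgroup.mem_subgroupOf.mpr hd)
    exact Subgroup.mem_subgroupOf.mp this
  · intro hd
    have hdQ : d ∈ Q := by
      have h2 : (r' : G) * d * (r' : G)⁻¹ ∈ Q := hDQ hd
      have h3 := Q.mul_mem (Q.mul_mem (Q.inv_mem r'.2) h2) r'.2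
      convert h3 using 1
      group
    have := (hr ⟨d, hdQ⟩).mpr (Subgroup.mem_subgroupOf.mpr hd)
    exact Subgroup.mem_subgroupOf.mp this

variable {G : Type*} [Group G] [Fintype G] {M : Ideal AlgInt}

/-- **Green's theorem (strong form).** Let `D` be a defect group of the block `B` and `P` any
`p`-subgroup containing `D`. Then there is a `p`-regular `s` such that `D` is a Sylow
`p`-subgroup of `C_G(s)` and `P ∩ s P s⁻¹ = D`. -/
theorem exists_regular_sylow_intersection [Fintype (IrrCharacter G)] {p : ℕ} [Fact p.Prime]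
    (hM : IsPModular p M) {B : Set (IrrCharacter G)} (hB : IsPBlock M B) {D : Subgroup G}
    (hD : IsDefectGroup p M B D) (P : Subgroup G) (hPp : IsPGroup p P) (hDP : D ≤ P) :
    ∃ s : G, ¬ p ∣ orderOf s ∧ IsSylowIn p D (Subgroup.centralizer ({s} : Set G)) ∧
      P ⊓ P.map (MulAut.conj s).toMonoidHom = D := by
  classical
  have hMp := isPrime_of_isPModular hM
  obtain ⟨y, hy, hDS⟩ := isDefectGroup_iff.mp hD
  have hDp : IsPGroup p D := hDS.2.1
  have hCN : Subgroup.centralizer (D : Set G) ≤ Subgroup.normalizer (D : Set G) :=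
    Subgroup.centralizer_le_normalizer _
  have : Fintype (Subgroup.normalizer (D : Set G)) := Fintype.ofFinite _
  have hac : IsClassFunction G (blockCoeff B) := isClassFunction_blockCoeff B
  have haM : ∀ t, MemLocalRing M (blockCoeff B t) := osima hMp B hB
  -- conjugation by the normalizer preserves the centralizer
  have hnorm : ∀ t : G, t ∈ Subgroup.normalizer (D : Set G) → ∀ x : G,
      x ∈ Subgroup.centralizer (D : Set G) → t * x * t⁻¹ ∈ Subgroup.centralizer (D : Set G) := by
    intro t ht x hx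
    rw [Subgroup.mem_centralizer_iff] at hx ⊢
    intro d hd
    have ht' : t⁻¹ * d * t ∈ (D : Set G) := (Subgroup.mem_set_normalizer_iff''.mp ht d).mp hd
    have := hx _ ht'
    calc d * (t * x * t⁻¹) = t * ((t⁻¹ * d * t) * x) * t⁻¹ := by group
      _ = t * (x * (t⁻¹ * d * t)) * t⁻¹ := by rw [this]
      _ = t * x * t⁻¹ * d := by group
  -- the truncated idempotent on the normalizer
  set ab : Subgroup.normalizer (D : Set G) → ℂ := fun n => trC D (blockCoeff B) (n : G) with hab
  have habc : IsClassFunction (Subgroup.normalizer (D : Set G)) ab := by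
    intro n t
    show trC D (blockCoeff B) ((t * n * t⁻¹ : Subgroup.normalizer (D : Set G)) : G) =
      trC D (blockCoeff B) (n : G)
    have hcoe : ((t * n * t⁻¹ : Subgroup.normalizer (D : Set G)) : G) =
        (t : G) * (n : G) * (t : G)⁻¹ := by simp
    rw [hcoe]
    by_cases hn : (n : G) ∈ Subgroup.centralizer (D : Set G)
    · rw [trC_of_mem _ hn, trC_of_mem _ (hnorm t t.2 n hn)]
      exact hac n t
    · have hn' : (t : G) * n * (t : G)⁻¹ ∉ Subgroup.centralizer (D : Set G) := by
        intro h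
        apply hn
        have := hnorm (t : G)⁻¹ ((Subgroup.normalizer (D : Set G)).inv_mem t.2) _ h
        convert this using 1
        group
      rw [trC_of_not_mem _ hn, trC_of_not_mem _ hn']
  have habM : ∀ n, MemLocalRing M (ab n) := fun n => lr_trC hMp D haM _
  have hidem : ∀ n : Subgroup.normalizer (D : Set G), MemLocalIdeal M (conv ab ab n - ab n) := by
    intro n
    have h1 := trC_conv hM D hDp (a := blockCoeff B) (a' := blockCoeff B)
      (fun x _ t => hac t x) (fun x _ t => hac t x) haM haM (n : G)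
    rw [conv_blockCoeff_self B] at h1
    have h2 : conv ab ab n = conv (trC D (blockCoeff B)) (trC D (blockCoeff B)) (n : G) := by
      simp only [conv]
      have := sum_subgroup_eq_sum (Subgroup.normalizer (D : Set G))
        (fun t : G => trC D (blockCoeff B) t * trC D (blockCoeff B) (t⁻¹ * (n : G))) (by
          intro t ht
          have : t ∉ Subgroup.centralizer (D : Set G) := fun h => ht (hCN h)
          show trC D (blockCoeff B) t * _ = 0
          rw [trC_of_not_mem _ this, zero_mul])
      rw [← this]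
      refine Finset.sum_congr rfl fun t _ => ?_
      simp [hab]
    rw [h2]
    have := li_neg h1
    rwa [neg_sub] at this
  have hyC : y ∈ Subgroup.centralizer (D : Set G) := by
    rw [Subgroup.mem_centralizer_iff]
    intro d hd
    have := hDS.1 hd
    rw [Subgroup.mem_centralizer_singleton_iff] at this
    exact this
  have hne : ∃ n : Subgroup.normalizer (D : Set G), ¬ MemLocalIdeal M (ab n) := by
    refine ⟨⟨y, hCN hyC⟩, ?_⟩
    simp only [hab]
    rw [trC_of_mem _ hyC]
    exact hy.2.1
  -- a Sylow subgroup of the normalizer containing `P ∩ N`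
  have hQ₀ : IsPGroup p ((P ⊓ Subgroup.normalizer (D : Set G)).subgroupOf
      (Subgroup.normalizer (D : Set G))) := (hPp.to_le inf_le_left).comap_subtype
  obtain ⟨P₁, hP₁⟩ := hQ₀.exists_le_sylow
  obtain ⟨s, hs, hcent⟩ := exists_unit_centralized hM (P₁ : Subgroup (Subgroup.normalizer (D : Set G)))
    P₁.2 habc habM hidem hne
  have hsC : (s : G) ∈ Subgroup.centralizer (D : Set G) := by
    by_contra h
    apply hs
    simp only [hab]
    rw [trC_of_not_mem _ h]
    exact memLocalIdeal_zero hMp
  have hsa : ¬ MemLocalIdeal M (blockCoeff B (s : G)) := by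
    intro h
    apply hs
    simp only [hab]
    rw [trC_of_mem _ hsC]
    exact h
  have hsreg : ¬ p ∣ orderOf (s : G) := by
    intro h
    apply hsa
    rw [blockCoeff_eq_zero_of_singular hM hB (s : G) h]
    exact memLocalIdeal_zero hMp
  -- `D` is Sylow in `C(s)`
  have hDle : D ≤ Subgroup.centralizer ({(s : G)} : Set G) := by
    intro d hd
    rw [Subgroup.mem_centralizer_singleton_iff]
    exact (Subgroup.mem_centralizer_iff.mp hsC) d hd
  obtain ⟨W, hW, hDW⟩ := exists_isSylowIn_ge hDle hDp
  obtain ⟨x, hx⟩ := minmax_sylow hM B hB y (s : G) hy.2.2 hsa D W hDS hW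
  have hWD : D = W := by
    apply Subgroup.eq_of_le_of_card_ge hDW
    have h1 := Subgroup.card_le_of_le hx
    rwa [Subgroup.card_map_of_injective (cj_injective x)] at h1
  have hDsyl : IsSylowIn p D (Subgroup.centralizer ({(s : G)} : Set G)) := by
    refine ⟨hDle, hDp, fun Q hQ hQp hDQ' => ?_⟩
    have hWQ : W ≤ Q := fun w hw => hDQ' (by rw [hWD]; exact hw)
    have h1 := hW.2.2 Q hQ hQp hWQ
    rw [h1]
    exact hWD.symm
  refine ⟨(s : G), hsreg, hDsyl, ?_⟩
  -- the intersection
  apply le_antisymm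
  · -- `P ∩ sPs⁻¹ ≤ D`
    by_contra hcon
    have hQp : IsPGroup p ↥(P ⊓ P.map (MulAut.conj (s : G)).toMonoidHom) := hPp.to_le inf_le_left
    have hDQ : D ≤ P ⊓ P.map (MulAut.conj (s : G)).toMonoidHom := by
      refine le_inf hDP ?_
      intro d hd
      refine ⟨d, hDP hd, ?_⟩
      show (s : G) * d * (s : G)⁻¹ = d
      have := (Subgroup.mem_centralizer_iff.mp hsC) d hd
      rw [← this]; group
    have hneq : D ≠ P ⊓ P.map (MulAut.conj (s : G)).toMonoidHom := by
      intro h
      apply hcon
      rw [← h]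
    obtain ⟨r, hrQ, hrN, hrD⟩ := exists_mem_normalizer_not_mem hQp hDQ hneq
    -- `r` as an element of the normalizer lies in `P₁ ∩ s P₁ s⁻¹`
    have hr1 : (⟨r, hrN⟩ : Subgroup.normalizer (D : Set G)) ∈
        (P₁ : Subgroup (Subgroup.normalizer (D : Set G))) := by
      apply hP₁
      rw [Subgroup.mem_subgroupOf]
      exact ⟨hrQ.1, hrN⟩
    have hr2 : (⟨r, hrN⟩ : Subgroup.normalizer (D : Set G)) ∈
        (P₁ : Subgroup (Subgroup.normalizer (D : Set G))).map (MulAut.conj s).toMonoidHom := by
      obtain ⟨r₀, hr₀, hr₀r⟩ := hrQ.2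
      have hr₀r' : (s : G) * r₀ * (s : G)⁻¹ = r := hr₀r
      have hr₀N : r₀ ∈ Subgroup.normalizer (D : Set G) := by
        have h1 : r₀ = (s : G)⁻¹ * r * (s : G) := by rw [← hr₀r']; group
        rw [h1]
        exact (Subgroup.normalizer (D : Set G)).mul_mem
          ((Subgroup.normalizer (D : Set G)).mul_mem
            ((Subgroup.normalizer (D : Set G)).inv_mem s.2) hrN) s.2
      refine ⟨⟨r₀, hr₀N⟩, ?_, ?_⟩
      · apply hP₁
        rw [Subgroup.mem_subgroupOf]
        exact ⟨hr₀, hr₀N⟩
      · apply Subtype.ext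
        show (s : G) * r₀ * (s : G)⁻¹ = r
        exact hr₀r'
    have hcomm := hcent _ hr1 hr2
    have hcomm' : r * (s : G) = (s : G) * r := congrArg Subtype.val hcomm
    -- the subgroup generated
    have hRle : (P ⊓ P.map (MulAut.conj (s : G)).toMonoidHom) ⊓
        Subgroup.centralizer ({(s : G)} : Set G) ≤ Subgroup.centralizer ({(s : G)} : Set G) :=
      inf_le_right
    have hRp : IsPGroup p ↥((P ⊓ P.map (MulAut.conj (s : G)).toMonoidHom) ⊓
        Subgroup.centralizer ({(s : G)} : Set G)) := hQp.to_le inf_le_left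
    have hDR : D ≤ (P ⊓ P.map (MulAut.conj (s : G)).toMonoidHom) ⊓
        Subgroup.centralizer ({(s : G)} : Set G) := le_inf hDQ hDle
    have hReq := hDsyl.2.2 _ hRle hRp hDR
    apply hrD
    rw [← hReq]
    exact ⟨hrQ, Subgroup.mem_centralizer_singleton_iff.mpr hcomm'⟩
  · refine le_inf hDP ?_
    intro d hd
    refine ⟨d, hDP hd, ?_⟩
    show (s : G) * d * (s : G)⁻¹ = d
    have := (Subgroup.mem_centralizer_iff.mp hsC) d hd
    rw [← this]; group

end Cfsg.Agent.Helper5.CC
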