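import Mathlib

set_option autoImplicit false

namespace Cfsg.Agent.Helper5.RankExt

open Matrix

theorem rank_normal_form (R : Type*) [Field R] (r s : ℕ) :
    (fromBlocks (1 : Matrix (Fin r) (Fin r) R) 0 0 (0 : Matrix (Fin s) (Fin s) R)).rank = r := by
  classical
  have h : fromBlocks (1 : Matrix (Fin r) (Fin r) R) 0 0 (0 : Matrix (Fin s) (Fin s) R) =
      diagonal (Sum.elim (fun _ => (1 : R)) (fun _ => (0 : R))) := by
    rw [← fromBlocks_diagonal, diagonal_one, diagonal_zero]
  rw [h, rank_diagonal, Fintype.card_subtype, Finset.card_filter, Fintype.sum_sum_type]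
  simp

/-- The rank of a square matrix is unchanged by a field extension. -/
theorem rank_map_field {K F : Type*} [Field K] [Field F] (φ : K →+* F) {m : Type*} [Fintype m]
    [DecidableEq m] (A : Matrix m m K) : (A.map φ).rank = A.rank := by
  obtain ⟨V, U, e, hV, hU, h⟩ := exists_rank_normal_form A
  have hV' : IsUnit (V.map φ).det := by
    have := (isUnit_iff_isUnit_det _).1 hV
    rw [← RingHom.mapMatrix_apply, ← RingHom.map_det]
    exact this.map φ
  have hU' : IsUnit (U.map φ).det := by
    have := (isUnit_iff_isUnit_det _).1 hU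
    rw [← RingHom.mapMatrix_apply, ← RingHom.map_det]
    exact this.map φ
  have h' : (V.map φ) * (A.map φ) * (U.map φ) =
      ((fromBlocks (1 : Matrix (Fin A.rank) (Fin A.rank) F) 0 0
        (0 : Matrix (Fin (Fintype.card m - A.rank)) (Fin (Fintype.card m - A.rank)) F))).submatrix
        e e := by
    rw [← Matrix.map_mul, ← Matrix.map_mul, h]
    ext i j
    rcases hi : e i with a | a <;> rcases hj : e j with b | b <;>
      simp [hi, hj, Matrix.one_apply, apply_ite φ]
  have h1 : ((V.map φ) * (A.map φ) * (U.map φ)).rank = (A.map φ).rank := by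
    rw [rank_mul_eq_left_of_isUnit_det _ _ hU', rank_mul_eq_right_of_isUnit_det _ _ hV']
  rw [← h1, h', rank_submatrix, rank_normal_form]

/-- A matrix factoring through a nondegenerate diagonal with one-sided invertible outer
factors has rank the size of the diagonal. -/
theorem rank_eq_card_of_factor {F : Type*} [Field F] {ι β : Type*} [Fintype ι] [Fintype β]
    [DecidableEq ι] [DecidableEq β] (N : Matrix ι ι F) (Y : Matrix ι β F) (E : β → F)
    (X : Matrix β ι F) (L : Matrix β ι F) (R : Matrix ι β F)
    (hN : N = Y * diagonal E * X) (hL : L * Y = 1) (hR : X * R = 1) (hE : ∀ b, E b ≠ 0) :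
    N.rank = Fintype.card β := by
  classical
  apply le_antisymm
  · rw [hN]
    exact (rank_mul_le_right _ _).trans (rank_le_card_height X)
  · have h1 : L * N * R = diagonal E := by
      rw [hN]
      calc L * (Y * diagonal E * X) * R = (L * Y) * diagonal E * (X * R) := by
            simp only [Matrix.mul_assoc]
        _ = diagonal E := by rw [hL, hR, Matrix.one_mul, Matrix.mul_one]
    have h2 : (diagonal E).rank = Fintype.card β := by
      rw [rank_diagonal]
      apply Fintype.card_congr
      exact Equiv.subtypeUnivEquiv hE
    rw [← h2, ← h1]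
    exact (rank_mul_le_left _ _).trans (rank_mul_le_right _ _)

end Cfsg.Agent.Helper5.RankExt
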