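import Mathlib
import Cfsg.Prelude.Def_Blocks
import Cfsg.Agent.Helper5.Robinson2
import Cfsg.Agent.Helper5.RankExt

set_option autoImplicit false
set_option linter.unusedSectionVars false
set_option linter.unusedVariables false

/-!
# Robinson's theorem: the number of blocks with a given normal defect group is a matrix rank
-/

namespace Cfsg.Agent.Helper5.Rob

open Cfsg Cfsg.Agent.Helper24 Cfsg.Agent.Helper5 Cfsg.Agent.Helper5.Loc Cfsg.Agent.Helper5.CC
open Cfsg.Agent.Helper5.ClassMul Cfsg.Agent.Helper5.CD Cfsg.Agent.Helper5.DZC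
open Cfsg.Agent.Helper5.BCnt Cfsg.Agent.Helper14 Cfsg.Agent.Helper5.BFC

variable {G : Type*} [Group G] [Fintype G] [Fintype (IrrCharacter G)] {M : Ideal AlgInt}

/-- **The entries of Robinson's matrix**: divisibility and the congruence with the block sum. -/
theorem entry_congr {p : ℕ} [hp : Fact p.Prime] (hM : IsPModular p M) (S : Subgroup G)
    [DecidablePred fun u : G => u ∈ S] (g h : G) (d : ℕ)
    (hg : (Nat.card (Subgroup.centralizer ({g} : Set G))).factorization p = d)
    (hh : (Nat.card (Subgroup.centralizer ({h} : Set G))).factorization p = d)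
    (m : IrrCharacter G → ℤ)
    (hm : ∀ χ : IrrCharacter G, ∑ u ∈ Finset.univ.filter (fun u : G => u ∈ S),
      (starRingEnd ℂ) ((χ : G → ℂ) u) = ((p ^ (Nat.card G).factorization p : ℕ) : ℂ) * m χ)
    [Fintype {B : Set (IrrCharacter G) // IsPBlock M B ∧ blockDefect p B = d}]
    [∀ B : Set (IrrCharacter G), DecidablePred (· ∈ B)]
    (ch : {B : Set (IrrCharacter G) // IsPBlock M B ∧ blockDefect p B = d} → IrrCharacter G)
    (hch : ∀ b, ch b ∈ b.1) :
    MemLocalIdeal M
      (∑ b : {B : Set (IrrCharacter G) // IsPBlock M B ∧ blockDefect p B = d},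
        centralChar (ch b : G → ℂ) g * (centralChar (ch b : G → ℂ) h⁻¹ *
          ∑ χ ∈ Finset.univ.filter (fun χ : IrrCharacter G => χ ∈ b.1 ∧
              (irrDeg χ).factorization p = (Nat.card G).factorization p - d),
            ((irrDeg χ / p ^ ((Nat.card G).factorization p - d) : ℕ) : ℂ) * (m χ : ℂ)) -
        ((Nat.card {yz : G × G // IsConj h yz.1 ∧ IsConj g yz.2 ∧ yz.2 * yz.1⁻¹ ∈ S} /
          p ^ ((Nat.card G).factorization p - d) : ℕ) : ℂ) *
          ((Nat.card G / p ^ (Nat.card G).factorization p : ℕ) : ℂ)) := by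
  classical
  have hMp := isPrime_of_isPModular hM
  have : Finite G := Finite.of_fintype G
  set A := (Nat.card G).factorization p with hA
  set W := Nat.card {yz : G × G // IsConj h yz.1 ∧ IsConj g yz.2 ∧ yz.2 * yz.1⁻¹ ∈ S} with hW
  have hp0 : (p : ℂ) ≠ 0 := by
    have := hp.out.pos.ne'
    exact_mod_cast this
  have hpow0 : ((p : ℂ) ^ (A - d)) ≠ 0 := pow_ne_zero _ hp0
  have hpA0 : ((p : ℂ) ^ A) ≠ 0 := pow_ne_zero _ hp0
  have hG0 : (Nat.card G : ℂ) ≠ 0 := by
    have := Nat.card_pos (α := G)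
    exact_mod_cast this.ne'
  have hGA : (Nat.card G : ℂ) = (p : ℂ) ^ A * ((Nat.card G / p ^ A : ℕ) : ℂ) := by
    have : p ^ A * (Nat.card G / p ^ A) = Nat.card G :=
      Nat.ordProj_mul_ordCompl_eq_self _ p
    exact_mod_cast this.symm
  have hn0 : ((Nat.card G / p ^ A : ℕ) : ℂ) ≠ 0 := by
    intro h0
    rw [h0, mul_zero] at hGA
    exact hG0 hGA
  have hnp : ¬ p ∣ Nat.card G / p ^ A := Nat.not_dvd_ordCompl hp.out (Nat.card_pos (α := G)).ne'
  have hh' : (Nat.card (Subgroup.centralizer ({h⁻¹} : Set G))).factorization p = d := by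
    rw [centralizer_singleton_inv]
    exact hh
  have h1 := card_pairs_eq S h g
  have h2 := sum_conv_eq g h⁻¹ (Finset.univ.filter (fun u : G => u ∈ S)) (p ^ A) m hm
  have h3 := congr_blocks hM g h⁻¹ d hg hh' m ch hch
  rw [← hA] at h3
  rw [← hW] at h1
  -- the exact value
  have h4 : ∑ χ : IrrCharacter G, centralChar (χ : G → ℂ) g * centralChar (χ : G → ℂ) h⁻¹ *
        ((χ : G → ℂ) 1 * (m χ : ℂ)) / ((p : ℂ) ^ (A - d)) =
      (W : ℂ) / (p : ℂ) ^ (A - d) * ((Nat.card G / p ^ A : ℕ) : ℂ) := by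
    rw [← Finset.sum_div, h1, h2, hGA]
    have e : ∑ χ : IrrCharacter G, centralChar (χ : G → ℂ) g * centralChar (χ : G → ℂ) h⁻¹ *
        ((χ : G → ℂ) 1 * (((p ^ A : ℕ) : ℂ) * (m χ : ℂ))) =
        (p : ℂ) ^ A * ∑ χ : IrrCharacter G, centralChar (χ : G → ℂ) g *
          centralChar (χ : G → ℂ) h⁻¹ * ((χ : G → ℂ) 1 * (m χ : ℂ)) := by
      rw [Finset.mul_sum]
      refine Finset.sum_congr rfl fun χ _ => ?_
      push_cast
      ring
    rw [e]
    field_simp
  rw [h4] at h3
  -- the block sum is a local integer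
  have hlr : MemLocalRing M
      (∑ b : {B : Set (IrrCharacter G) // IsPBlock M B ∧ blockDefect p B = d},
        centralChar (ch b : G → ℂ) g * (centralChar (ch b : G → ℂ) h⁻¹ *
          ∑ χ ∈ Finset.univ.filter (fun χ : IrrCharacter G => χ ∈ b.1 ∧
              (irrDeg χ).factorization p = A - d),
            ((irrDeg χ / p ^ (A - d) : ℕ) : ℂ) * (m χ : ℂ))) := by
    apply lr_sum hMp
    intro b _
    apply lr_mul hMp (memLocalRing_centralChar hMp _ _)
    apply lr_mul hMp (memLocalRing_centralChar hMp _ _)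
    apply lr_sum hMp
    intro χ _
    exact lr_mul hMp (memLocalRing_natCast hMp _) (memLocalRing_intCast hMp _)
  have hlr2 : MemLocalRing M ((W : ℂ) / (p : ℂ) ^ (A - d)) := by
    have h5 := lr_sub hMp hlr (li_lr h3)
    rw [sub_sub_cancel] at h5
    have h6 := lr_mul hMp h5 (memLocalRing_inv_natCast hM hnp)
    rwa [mul_assoc, mul_inv_cancel₀ hn0, mul_one] at h6
  have hdvd : p ^ (A - d) ∣ W := pow_dvd_of_lr_div hM (A - d) W hlr2
  have hcast : ((W / p ^ (A - d) : ℕ) : ℂ) = (W : ℂ) / (p : ℂ) ^ (A - d) := by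
    rw [Nat.cast_div hdvd (by exact_mod_cast hpow0)]
    push_cast
    rfl
  rw [hcast]
  exact h3


open Cfsg.Agent.Helper5.Res Cfsg.Agent.Helper5.RankExt in
/-- **Robinson's theorem.** -/
theorem main {p : ℕ} [hp : Fact p.Prime] (hM : IsPModular p M) (D : Subgroup G) [D.Normal]
    (hD : IsPGroup p D) (S : Sylow p G) {ι : Type*} [Fintype ι] [DecidableEq ι] (x : ι → G)
    (hxinj : Function.Injective fun i => ConjClasses.mk (x i))
    (hx : ∀ C : ConjClasses G, (∃ i, ConjClasses.mk (x i) = C) ↔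
      ∃ g : G, ConjClasses.mk g = C ∧ ¬ p ∣ orderOf g ∧
        IsSylowIn p D (Subgroup.centralizer ({g} : Set G))) :
    Nat.card {B : Set (IrrCharacter G) // IsPBlock M B ∧ IsDefectGroup p M B D} =
      (Matrix.of fun i j : ι => ((Nat.card {yz : G × G // IsConj (x i) yz.1 ∧
        IsConj (x j) yz.2 ∧ yz.2 * yz.1⁻¹ ∈ (S : Subgroup G)} /
        p ^ ((Nat.card G).factorization p - (Nat.card D).factorization p) : ℕ) : ZMod p)).rank := by
  classical
  have hMp := isPrime_of_isPModular hM
  have hMax : M.IsMaximal := hM.2.1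
  have : Finite G := Finite.of_fintype G
  set A := (Nat.card G).factorization p with hA
  set d := (Nat.card D).factorization p with hd_def
  -- the representatives
  have hgood : ∀ i, ¬ p ∣ orderOf (x i) ∧
      IsSylowIn p D (Subgroup.centralizer ({x i} : Set G)) := by
    intro i
    obtain ⟨g, hg, hgd⟩ := (hx _).mp ⟨i, rfl⟩
    obtain ⟨c, hc⟩ := isConj_iff.mp (ConjClasses.mk_eq_mk_iff_isConj.mp hg)
    have := good_conj D hgd c
    rwa [hc] at this
  have hd : ∀ i, (Nat.card (Subgroup.centralizer ({x i} : Set G))).factorization p = d :=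
    fun i => factorization_card_centralizer_of_isSylowIn (hgood i).2
  obtain ⟨hxinj', hx'⟩ := reps_inv D x hxinj hx
  -- the blocks
  have : Fintype {B : Set (IrrCharacter G) // IsPBlock M B ∧ blockDefect p B = d} :=
    Fintype.ofFinite _
  have hcount : Nat.card {B : Set (IrrCharacter G) // IsPBlock M B ∧ IsDefectGroup p M B D} =
      Fintype.card {B : Set (IrrCharacter G) // IsPBlock M B ∧ blockDefect p B = d} := by
    rw [← Nat.card_eq_fintype_card]
    apply Nat.card_congr
    exact Equiv.subtypeEquivRight (fun B => and_congr_right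
      (fun hB => isDefectGroup_iff_defect hM D hD hB))
  have hBD : ∀ b : {B : Set (IrrCharacter G) // IsPBlock M B ∧ blockDefect p B = d},
      IsDefectGroup p M b.1 D := fun b => (isDefectGroup_iff_defect hM D hD b.2.1).mpr b.2.2
  have hch : ∀ b : {B : Set (IrrCharacter G) // IsPBlock M B ∧ blockDefect p B = d},
      ∃ χ : IrrCharacter G, χ ∈ b.1 := fun b => IsPBlock.nonempty hMp b.2.1
  choose ch hch using hch
  have hbeq : ∀ b' b : {B : Set (IrrCharacter G) // IsPBlock M B ∧ blockDefect p B = d},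
      ch b ∈ b'.1 ↔ b' = b := by
    intro b' b
    constructor
    · intro hmem
      apply Subtype.ext
      rw [IsPBlock_eq_blockOf hMp b'.2.1 hmem, IsPBlock_eq_blockOf hMp b.2.1 (hch b)]
    · rintro rfl
      exact hch b'
  -- the multiplicities of the trivial character of `S`
  have hScard : Nat.card (S : Subgroup G) = p ^ A := S.card_eq_multiplicity
  have hsum : ∀ χ : IrrCharacter G, ∃ n : ℕ,
      ∑ u ∈ Finset.univ.filter (fun u : G => u ∈ (S : Subgroup G)),
        (starRingEnd ℂ) ((χ : G → ℂ) u) = ((p ^ A : ℕ) : ℂ) * ((n : ℤ) : ℂ) := by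
    intro χ
    obtain ⟨n, hn⟩ := sum_subgroup_irr (S : Subgroup G) χ
    exact ⟨n, by rw [hn, hScard]⟩
  choose m0 hm0 using hsum
  have hEc : ∀ b : {B : Set (IrrCharacter G) // IsPBlock M B ∧ blockDefect p B = d},
      ¬ MemLocalIdeal M (∑ χ ∈ Finset.univ.filter (fun χ : IrrCharacter G => χ ∈ b.1 ∧
        (irrDeg χ).factorization p = A - d),
        ((irrDeg χ / p ^ (A - d) : ℕ) : ℂ) * (((m0 χ : ℕ) : ℤ) : ℂ)) := by
    intro b
    have := E_not_li hM (S : Subgroup G) S.isPGroup' b.2.1 (fun χ => ((m0 χ : ℕ) : ℤ)) hm0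
    rw [b.2.2] at this
    exact this
  have hEc_lr : ∀ b : {B : Set (IrrCharacter G) // IsPBlock M B ∧ blockDefect p B = d},
      MemLocalRing M (∑ χ ∈ Finset.univ.filter (fun χ : IrrCharacter G => χ ∈ b.1 ∧
        (irrDeg χ).factorization p = A - d),
        ((irrDeg χ / p ^ (A - d) : ℕ) : ℂ) * (((m0 χ : ℕ) : ℤ) : ℂ)) := by
    intro b
    apply lr_sum hMp
    intro χ _
    exact lr_mul hMp (memLocalRing_natCast hMp _) (memLocalRing_intCast hMp _)
  have hcong := fun i j : ι => entry_congr hM (S : Subgroup G) (x j) (x i) d (hd j) (hd i)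
    (fun χ => ((m0 χ : ℕ) : ℤ)) hm0 ch hch
  -- the residue field
  have : CharP (AlgInt ⧸ M) p := algInt_quot_charP p M hM
  have hnp : ¬ p ∣ Nat.card G / p ^ A := Nat.not_dvd_ordCompl hp.out (Nat.card_pos (α := G)).ne'
  have hnF : ((Nat.card G / p ^ A : ℕ) : AlgInt ⧸ M) ≠ 0 := by
    rw [← res_natCast (M := M), Ne, res_eq_zero_iff (memLocalRing_natCast hMp _),
      memLocalIdeal_natCast_iff hM]
    exact hnp
  -- orthogonality over the residue field
  have horth : ∀ (y : ι → G) (hyinj : Function.Injective fun i => ConjClasses.mk (y i))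
      (hy : ∀ C : ConjClasses G, (∃ i, ConjClasses.mk (y i) = C) ↔
        ∃ g : G, ConjClasses.mk g = C ∧ ¬ p ∣ orderOf g ∧
          IsSylowIn p D (Subgroup.centralizer ({g} : Set G)))
      (b' b : {B : Set (IrrCharacter G) // IsPBlock M B ∧ blockDefect p B = d}),
      ∑ i, res M (blockCoeff b'.1 (y i)) * res M (centralChar (ch b : G → ℂ) (y i)) =
        if b' = b then 1 else 0 := by
    intro y hyinj hy b' b
    have h1 := sum_blockCoeff_centralChar hM D hD y hyinj hy b'.2.1 b.2.1 (hBD b') (hBD b)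
      (ch b) (hch b)
    have hlr : MemLocalRing M (∑ i, blockCoeff b'.1 (y i) * centralChar (ch b : G → ℂ) (y i)) := by
      apply lr_sum hMp
      intro i _
      exact lr_mul hMp (osima hMp _ b'.2.1 _) (memLocalRing_centralChar hMp _ _)
    have hlr2 : MemLocalRing M (if ch b ∈ b'.1 then (1 : ℂ) else 0) := by
      split_ifs
      · exact memLocalRing_one hMp
      · exact memLocalRing_zero hMp
    have h2 := res_eq_of_li hlr hlr2 h1
    rw [res_sum _ _ (fun i _ => lr_mul hMp (osima hMp _ b'.2.1 _)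
      (memLocalRing_centralChar hMp _ _))] at h2
    have h3 : ∀ i, res M (blockCoeff b'.1 (y i) * centralChar (ch b : G → ℂ) (y i)) =
        res M (blockCoeff b'.1 (y i)) * res M (centralChar (ch b : G → ℂ) (y i)) := fun i =>
      res_mul (osima hMp _ b'.2.1 _) (memLocalRing_centralChar hMp _ _)
    simp_rw [h3] at h2
    rw [h2]
    by_cases hbb : b' = b
    · rw [if_pos hbb, if_pos ((hbeq b' b).mpr hbb), res_one]
    · rw [if_neg hbb, if_neg (fun h => hbb ((hbeq b' b).mp h)), res_zero]
  -- the factorization of the matrix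
  rw [hcount, ← rank_map_field (ZMod.castHom (dvd_refl p) (AlgInt ⧸ M))]
  symm
  apply rank_eq_card_of_factor _
    (Matrix.of fun i b => res M (centralChar (ch b : G → ℂ) (x i)⁻¹))
    (fun b => res M (∑ χ ∈ Finset.univ.filter (fun χ : IrrCharacter G => χ ∈ b.1 ∧
        (irrDeg χ).factorization p = A - d),
        ((irrDeg χ / p ^ (A - d) : ℕ) : ℂ) * (((m0 χ : ℕ) : ℤ) : ℂ)) *
      ((Nat.card G / p ^ A : ℕ) : AlgInt ⧸ M)⁻¹)
    (Matrix.of fun b j => res M (centralChar (ch b : G → ℂ) (x j)))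
    (Matrix.of fun b i => res M (blockCoeff b.1 (x i)⁻¹))
    (Matrix.of fun j b => res M (blockCoeff b.1 (x j)))
  · -- the matrix identity
    ext i j
    rw [Matrix.map_apply, Matrix.of_apply, map_natCast, Matrix.mul_apply]
    simp_rw [Matrix.mul_diagonal, Matrix.of_apply]
    have h1 := hcong i j
    have hlr1 : MemLocalRing M
        (∑ b : {B : Set (IrrCharacter G) // IsPBlock M B ∧ blockDefect p B = d},
        centralChar (ch b : G → ℂ) (x j) * (centralChar (ch b : G → ℂ) (x i)⁻¹ *
          ∑ χ ∈ Finset.univ.filter (fun χ : IrrCharacter G => χ ∈ b.1 ∧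
              (irrDeg χ).factorization p = A - d),
            ((irrDeg χ / p ^ (A - d) : ℕ) : ℂ) * (((m0 χ : ℕ) : ℤ) : ℂ))) := by
      apply lr_sum hMp
      intro b _
      exact lr_mul hMp (memLocalRing_centralChar hMp _ _)
        (lr_mul hMp (memLocalRing_centralChar hMp _ _) (hEc_lr b))
    have h2 := res_eq_of_li hlr1 (lr_mul hMp (memLocalRing_natCast hMp _)
      (memLocalRing_natCast hMp _)) h1
    rw [res_mul (memLocalRing_natCast hMp _) (memLocalRing_natCast hMp _), res_natCast,
      res_natCast, res_sum _ _ (fun b _ => lr_mul hMp (memLocalRing_centralChar hMp _ _)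
        (lr_mul hMp (memLocalRing_centralChar hMp _ _) (hEc_lr b)))] at h2
    rw [← mul_inv_eq_iff_eq_mul₀ hnF] at h2
    rw [← h2, Finset.sum_mul]
    refine Finset.sum_congr rfl fun b _ => ?_
    rw [res_mul (memLocalRing_centralChar hMp _ _)
      (lr_mul hMp (memLocalRing_centralChar hMp _ _) (hEc_lr b)),
      res_mul (memLocalRing_centralChar hMp _ _) (hEc_lr b)]
    ring
  · -- left inverse
    ext b' b
    rw [Matrix.mul_apply, Matrix.one_apply]
    simp_rw [Matrix.of_apply]
    exact horth (fun i => (x i)⁻¹) hxinj' hx' b' b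
  · -- right inverse
    ext b b'
    rw [Matrix.mul_apply, Matrix.one_apply]
    simp_rw [Matrix.of_apply]
    have := horth x hxinj hx b' b
    simp_rw [mul_comm (res M (blockCoeff b'.1 _))] at this
    rw [this]
    by_cases hbb : b = b'
    · rw [if_pos hbb, if_pos hbb.symm]
    · rw [if_neg hbb, if_neg (fun h => hbb h.symm)]
  · -- the diagonal is nondegenerate
    intro b
    apply mul_ne_zero
    · rw [Ne, res_eq_zero_iff (hEc_lr b)]
      exact hEc b
    · exact inv_ne_zero hnF

end Cfsg.Agent.Helper5.Rob
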