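import Mathlib
import Cfsg.Prelude.Def_Blocks
import Cfsg.Agent.Helper5.Robinson3

set_option autoImplicit false
set_option linter.unusedSectionVars false
set_option linter.unusedVariables false

/-!
# Blocks with a normal Sylow defect group

For a group with a normal Sylow `p`-subgroup `S`, the number of blocks with defect group `S` is
the number of `p`-regular classes contained in the centralizer of `S` (a special case of
Robinson's theorem: the matrix is diagonal with unit entries).
-/

namespace Cfsg.Agent.Helper5.Rob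

open Cfsg Cfsg.Agent.Helper24 Cfsg.Agent.Helper5 Cfsg.Agent.Helper5.Loc Cfsg.Agent.Helper5.CC
open Cfsg.Agent.Helper14

variable {G : Type*} [Group G] [Fintype G] [Fintype (IrrCharacter G)] {M : Ideal AlgInt}

/-- With `S` a Sylow subgroup, `S` is Sylow in `C(g)` iff `g` centralizes `S`. -/
theorem isSylowIn_centralizer_iff {p : ℕ} [hp : Fact p.Prime] (S : Sylow p G) (g : G) :
    IsSylowIn p (S : Subgroup G) (Subgroup.centralizer ({g} : Set G)) ↔
      g ∈ Subgroup.centralizer ((S : Subgroup G) : Set G) := by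
  constructor
  · intro h
    rw [Subgroup.mem_centralizer_iff]
    intro u hu
    have := h.1 hu
    rw [Subgroup.mem_centralizer_singleton_iff] at this
    exact this
  · intro h
    refine ⟨?_, S.isPGroup', ?_⟩
    · intro u hu
      rw [Subgroup.mem_centralizer_singleton_iff]
      rw [Subgroup.mem_centralizer_iff] at h
      exact h u hu
    · intro Q _ hQ hSQ
      exact S.is_maximal' hQ hSQ

theorem eq_of_regular_of_mul_mem {p : ℕ} [hp : Fact p.Prime] (S : Sylow p G) {y z : G}
    (hy : ¬ p ∣ orderOf y) (hz : ¬ p ∣ orderOf z)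
    (hyS : y ∈ Subgroup.centralizer ((S : Subgroup G) : Set G))
    (h : z * y⁻¹ ∈ (S : Subgroup G)) : z = y := by
  have : Finite G := Finite.of_fintype G
  by_contra hne
  set u := z * y⁻¹ with hu
  have hu1 : u ≠ 1 := by
    intro h1
    apply hne
    rw [hu, mul_inv_eq_one] at h1
    exact h1
  have hcomm : Commute y u := by
    rw [Subgroup.mem_centralizer_iff] at hyS
    exact (hyS u h).symm
  have hupow : ∃ k : ℕ, orderOf u = p ^ k := by
    obtain ⟨k, hk⟩ := S.isPGroup' ⟨u, h⟩
    have hk' : u ^ (p ^ k) = 1 := by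
      have := congrArg Subtype.val hk
      simpa using this
    obtain ⟨j, -, hj'⟩ := (Nat.dvd_prime_pow hp.out).mp (orderOf_dvd_of_pow_eq_one hk')
    exact ⟨j, hj'⟩
  have hsing := singular_mul_of_commute hcomm hy hupow hu1
  have hyu : y * u = z := by
    rw [hcomm.eq, hu]
    group
  rw [hyu] at hsing
  exact hz hsing

/-- **Blocks with a normal Sylow defect group are counted by the `p`-regular classes of its
centralizer.** -/
theorem card_blocks_normal_sylow {p : ℕ} [hp : Fact p.Prime] (hM : IsPModular p M)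
    (S : Sylow p G) [hSn : (S : Subgroup G).Normal] :
    Nat.card {b : Set (IrrCharacter G) // IsPBlock M b ∧ IsDefectGroup p M b (S : Subgroup G)} =
      Nat.card {C : ConjClasses G // ∀ n : G, ConjClasses.mk n = C →
        ¬ p ∣ orderOf n ∧ n ∈ Subgroup.centralizer ((S : Subgroup G) : Set G)} := by
  classical
  have : Finite G := Finite.of_fintype G
  have : Fintype {C : ConjClasses G // ∀ n : G, ConjClasses.mk n = C →
        ¬ p ∣ orderOf n ∧ n ∈ Subgroup.centralizer ((S : Subgroup G) : Set G)} :=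
    Fintype.ofFinite _
  -- conjugation invariance of the condition
  have hconj : ∀ (g c : G), (¬ p ∣ orderOf g ∧
      g ∈ Subgroup.centralizer ((S : Subgroup G) : Set G)) →
      (¬ p ∣ orderOf (c * g * c⁻¹) ∧
        c * g * c⁻¹ ∈ Subgroup.centralizer ((S : Subgroup G) : Set G)) := by
    intro g c h
    have h1 := good_conj (p := p) (S : Subgroup G) (g := g)
      ⟨h.1, (isSylowIn_centralizer_iff S g).mpr h.2⟩ c
    exact ⟨h1.1, (isSylowIn_centralizer_iff S _).mp h1.2⟩
  have hxinj : Function.Injective fun i : {C : ConjClasses G // ∀ n : G, ConjClasses.mk n = C →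
        ¬ p ∣ orderOf n ∧ n ∈ Subgroup.centralizer ((S : Subgroup G) : Set G)} =>
      ConjClasses.mk (rep i.1) := by
    intro i j hij
    simp only [mk_rep] at hij
    exact Subtype.ext hij
  have hx : ∀ C : ConjClasses G, (∃ i : {C : ConjClasses G // ∀ n : G, ConjClasses.mk n = C →
        ¬ p ∣ orderOf n ∧ n ∈ Subgroup.centralizer ((S : Subgroup G) : Set G)},
        ConjClasses.mk (rep i.1) = C) ↔
      ∃ g : G, ConjClasses.mk g = C ∧ ¬ p ∣ orderOf g ∧
        IsSylowIn p (S : Subgroup G) (Subgroup.centralizer ({g} : Set G)) := by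
    intro C
    constructor
    · rintro ⟨i, hi⟩
      rw [mk_rep] at hi
      obtain ⟨h1, h2⟩ := i.2 (rep i.1) (mk_rep _)
      exact ⟨rep i.1, by rw [mk_rep, hi], h1, (isSylowIn_centralizer_iff S _).mpr h2⟩
    · rintro ⟨g, rfl, h1, h2⟩
      refine ⟨⟨ConjClasses.mk g, ?_⟩, mk_rep _⟩
      intro n hn
      obtain ⟨c, hc⟩ := isConj_iff.mp (ConjClasses.mk_eq_mk_iff_isConj.mp hn)
      have h3 := hconj g c⁻¹ ⟨h1, (isSylowIn_centralizer_iff S g).mp h2⟩
      have hn' : c⁻¹ * g * c⁻¹⁻¹ = n := by
        rw [← hc]; group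
      rwa [hn'] at h3
  rw [main hM (S : Subgroup G) S.isPGroup' S (fun i : {C : ConjClasses G // ∀ n : G,
    ConjClasses.mk n = C → ¬ p ∣ orderOf n ∧
      n ∈ Subgroup.centralizer ((S : Subgroup G) : Set G)} => rep i.1) hxinj hx]
  -- the matrix is diagonal
  have hcardS : Nat.card (S : Subgroup G) = p ^ (Nat.card G).factorization p :=
    S.card_eq_multiplicity
  have hexp : (Nat.card G).factorization p - (Nat.card (S : Subgroup G)).factorization p = 0 := by
    rw [hcardS, Nat.Prime.factorization_pow hp.out, Finsupp.single_eq_same, Nat.sub_self]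
  rw [hexp]
  have hgood : ∀ i : {C : ConjClasses G // ∀ n : G, ConjClasses.mk n = C →
        ¬ p ∣ orderOf n ∧ n ∈ Subgroup.centralizer ((S : Subgroup G) : Set G)},
      ∀ t : G, IsConj (rep i.1) t →
        ¬ p ∣ orderOf t ∧ t ∈ Subgroup.centralizer ((S : Subgroup G) : Set G) := by
    intro i t ht
    apply i.2 t
    rw [← mk_rep i.1]
    exact (ConjClasses.mk_eq_mk_iff_isConj.mpr ht).symm
  have hdiag : (Matrix.of fun i j : {C : ConjClasses G // ∀ n : G, ConjClasses.mk n = C →
        ¬ p ∣ orderOf n ∧ n ∈ Subgroup.centralizer ((S : Subgroup G) : Set G)} =>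
      ((Nat.card {yz : G × G // IsConj (rep i.1) yz.1 ∧ IsConj (rep j.1) yz.2 ∧
        yz.2 * yz.1⁻¹ ∈ (S : Subgroup G)} / p ^ 0 : ℕ) : ZMod p)) =
      Matrix.diagonal (fun i => ((Nat.card {t : G // IsConj (rep i.1) t} : ℕ) : ZMod p)) := by
    ext i j
    rw [Matrix.of_apply, Matrix.diagonal_apply, pow_zero, Nat.div_one]
    by_cases hij : i = j
    · subst hij
      rw [if_pos rfl]
      congr 1
      apply Nat.card_congr
      refine ⟨fun yz => ⟨yz.1.1, yz.2.1⟩, fun t => ⟨(t.1, t.1), t.2, t.2, by simp⟩, ?_, ?_⟩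
      · rintro ⟨⟨y, z⟩, h1, h2, h3⟩
        have hy := hgood i y h1
        have hz := hgood i z h2
        have := eq_of_regular_of_mul_mem S hy.1 hz.1 hy.2 h3
        subst this
        rfl
      · rintro ⟨t, ht⟩
        rfl
    · rw [if_neg hij]
      have hempty : IsEmpty {yz : G × G // IsConj (rep i.1) yz.1 ∧ IsConj (rep j.1) yz.2 ∧
          yz.2 * yz.1⁻¹ ∈ (S : Subgroup G)} := by
        constructor
        rintro ⟨⟨y, z⟩, h1, h2, h3⟩
        have hy := hgood i y h1
        have hz := hgood j z h2
        have := eq_of_regular_of_mul_mem S hy.1 hz.1 hy.2 h3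
        subst this
        apply hij
        apply Subtype.ext
        rw [← mk_rep i.1, ← mk_rep j.1]
        exact ConjClasses.mk_eq_mk_iff_isConj.mpr (h1.trans h2.symm)
      rw [Nat.card_of_isEmpty, Nat.cast_zero]
  rw [hdiag, Matrix.rank_diagonal, Nat.card_eq_fintype_card]
  apply Fintype.card_congr
  apply Equiv.subtypeUnivEquiv
  intro i
  rw [Ne, ZMod.natCast_eq_zero_iff, ← index_centralizer_eq_card_conj]
  -- the class size is prime to `p`
  have hS : (S : Subgroup G) ≤ Subgroup.centralizer ({rep i.1} : Set G) :=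
    ((isSylowIn_centralizer_iff S _).mpr (hgood i _ (IsConj.refl _)).2).1
  intro hdvd
  have h1 : (Subgroup.centralizer ({rep i.1} : Set G)).index ∣ (S : Subgroup G).index :=
    Subgroup.index_dvd_of_le hS
  exact S.not_dvd_index (dvd_trans hdvd h1)

end Cfsg.Agent.Helper5.Rob
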