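import Mathlib
import Cfsg.Prelude.Def_PLocal
import Cfsg.Agent.Helper28.S2768Defs
import Cfsg.Agent.Helper23.S2768E0A
import Cfsg.Agent.Helper14.PCore

/-! # S2768 board, piece E0B (blueprint 1.5, Lemma A) -/

set_option autoImplicit false

namespace Cfsg.Agent.S2768P

open Subgroup

variable {G : Type*} [Group G] [Finite G] {p : ℕ} [Fact p.Prime]

omit [Finite G] [Fact p.Prime] in
theorem E0B_aux_mem_cj {g x : G} {H : Subgroup G} : x ∈ cj g H ↔ g⁻¹ * x * g ∈ H := by
  unfold cj
  constructor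
  · rintro ⟨y, hy, rfl⟩
    simpa [MulAut.conj_apply, mul_assoc] using hy
  · intro h
    refine ⟨g⁻¹ * x * g, h, ?_⟩
    simp [MulAut.conj_apply, mul_assoc]

/-- a `p`-subgroup of `M` lies in an `M`-conjugate of a Sylow `p`-subgroup of `G` contained in `M` -/
theorem E0B_aux_conj (S : Sylow p G) {M Y : Subgroup G} (hSM : (S : Subgroup G) ≤ M) (hYM : Y ≤ M)
    (hY : IsPGroup p ↥Y) : ∃ m ∈ M, Y ≤ cj m (S : Subgroup G) := by
  have hYp : IsPGroup p ↥(Y.subgroupOf M) := hY.comap_subtype
  obtain ⟨Q, hQ⟩ := hYp.exists_le_sylow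
  obtain ⟨n, hn⟩ := MulAction.exists_smul_eq ↥M (S.subtype hSM) Q
  refine ⟨n, n.2, ?_⟩
  have h3 := congrArg (fun P : Sylow p ↥M => (P : Subgroup ↥M)) hn
  simp only [Sylow.coe_subgroup_smul, Sylow.coe_subtype] at h3
  intro y hy
  have hyM : y ∈ M := hYM hy
  have hyQ : (⟨y, hyM⟩ : ↥M) ∈ (Q : Subgroup ↥M) := hQ (mem_subgroupOf.mpr hy)
  rw [← h3, Subgroup.mem_pointwise_smul_iff_inv_smul_mem, mem_subgroupOf] at hyQ
  rw [E0B_aux_mem_cj]
  simpa [MulAut.smul_def, MulAut.conj_apply, MulAut.inv_apply, MulAut.conj_symm_apply] using hyQ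

omit [Finite G] [Fact p.Prime] in
theorem E0B_aux_cj_cj (g m : G) (H : Subgroup G) : cj g (cj m H) = cj (g * m) H := by
  ext x
  simp only [E0B_aux_mem_cj]
  constructor <;> intro h <;> simpa [mul_assoc] using h

omit [Finite G] [Fact p.Prime] in
theorem E0B_aux_cj_self {m : G} {H : Subgroup G} (hm : m ∈ H) : cj m H = H := by
  ext x
  rw [E0B_aux_mem_cj]
  constructor
  · intro h
    have := H.mul_mem (H.mul_mem hm h) (H.inv_mem hm)
    simpa [mul_assoc] using this
  · intro h
    exact H.mul_mem (H.mul_mem (H.inv_mem hm) h) hm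

omit [Finite G] [Fact p.Prime] in
theorem E0B_aux_cj_mono (g : G) {H₁ H₂ : Subgroup G} (h : H₁ ≤ H₂) : cj g H₁ ≤ cj g H₂ :=
  Subgroup.map_mono h

omit [Finite G] [Fact p.Prime] in
theorem E0B_aux_cj_coatom (g : G) {H : Subgroup G} (h : IsCoatom H) : IsCoatom (cj g H) := by
  have hinj : ∀ A B : Subgroup G, cj g A ≤ cj g B → A ≤ B := by
    intro A B hAB a ha
    have h1 : g * a * g⁻¹ ∈ cj g B := hAB (by rw [E0B_aux_mem_cj]; simpa [mul_assoc] using ha)
    rw [E0B_aux_mem_cj] at h1
    simpa [mul_assoc] using h1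
  have hcjinv : ∀ A : Subgroup G, cj g (cj g⁻¹ A) = A := by
    intro A
    rw [E0B_aux_cj_cj, mul_inv_cancel]
    ext x
    rw [E0B_aux_mem_cj]
    simp
  constructor
  · intro htop
    apply h.1
    rw [eq_top_iff]
    apply hinj
    rw [htop]
    exact le_top
  · intro B hB
    have h1 : H < cj g⁻¹ B := by
      constructor
      · apply hinj
        rw [hcjinv]
        exact hB.le
      · intro hle
        apply hB.not_ge
        have := E0B_aux_cj_mono g hle
        rwa [hcjinv] at this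
    have h2 := h.2 _ h1
    rw [← hcjinv B, h2]
    ext x
    rw [E0B_aux_mem_cj]
    simp

/-- E0B (M): 1.5 Lemma A. -/
theorem E0B (S : Sylow p G) (M K : Subgroup G) [K.Normal] (h : Hyp p S M K) (g : G) (hg : g ∉ M) :
    (S : Subgroup G) ⊓ cj g M = Cfsg.pCore p G ∧ (S : Subgroup G) ⊓ K = Cfsg.pCore p G := by
  obtain ⟨hprop, hMtop, hKM, hMn, hSK⟩ := E0A S M K h
  have hQS : Cfsg.pCore p G ≤ (S : Subgroup G) := Cfsg.Agent.Helper14.pCore_le_sylow p S
  have hQn : (Cfsg.pCore p G).Normal := Cfsg.Agent.Helper14.pCore_normal p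
  -- `Q ≤ cj g M`
  have hQM : Cfsg.pCore p G ≤ cj g M := by
    intro x hx
    rw [E0B_aux_mem_cj]
    have := hQn.conj_mem x hx g⁻¹
    rw [inv_inv] at this
    exact h.le (hQS this)
  -- the key: `Y ≤ K`
  have hYK : (S : Subgroup G) ⊓ cj g M ≤ K := by
    set Y := (S : Subgroup G) ⊓ cj g M with hYdef
    -- `Y' = g⁻¹ Y g ≤ M`
    have hY'M : cj g⁻¹ Y ≤ M := by
      intro x hx
      rw [E0B_aux_mem_cj, inv_inv] at hx
      have h1 : g * x * g⁻¹ ∈ cj g M := hx.2
      rw [E0B_aux_mem_cj] at h1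
      simpa [mul_assoc] using h1
    have hYp : IsPGroup p ↥Y := S.isPGroup'.to_le inf_le_left
    have hY'p : IsPGroup p ↥(cj g⁻¹ Y) := by
      unfold cj
      exact hYp.map _
    obtain ⟨m, hmM, hm⟩ := E0B_aux_conj S h.le hY'M hY'p
    -- `Y ≤ T₁ := cj (g * m) S`
    have hYT : Y ≤ cj (g * m) (S : Subgroup G) := by
      intro y hy
      have h1 : g⁻¹ * y * g ∈ cj g⁻¹ Y := by
        rw [E0B_aux_mem_cj, inv_inv]
        simpa [mul_assoc] using hy
      have h2 := hm h1
      rw [E0B_aux_mem_cj] at h2 ⊢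
      simpa [mul_assoc] using h2
    -- the images in `G ⧸ K`
    let π := QuotientGroup.mk' K
    have hπ : Function.Surjective π := QuotientGroup.mk'_surjective K
    let U : Sylow p (G ⧸ K) := S.mapSurjective hπ
    let U₁ : Sylow p (G ⧸ K) := ((g * m) • S).mapSurjective hπ
    have hT₁coe : (((g * m) • S : Sylow p G) : Subgroup G) = cj (g * m) (S : Subgroup G) := by
      ext x
      rw [Sylow.coe_subgroup_smul, Subgroup.mem_pointwise_smul_iff_inv_smul_mem, E0B_aux_mem_cj]
      simp [MulAut.smul_def, MulAut.inv_apply, MulAut.conj_symm_apply, mul_assoc]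
    by_cases hUU : U₁ = U
    · -- then `T₁ ≤ S K ≤ M`, so `M = cj (g*m) M = cj g M`
      exfalso
      have hT₁SK : cj (g * m) (S : Subgroup G) ≤ (S : Subgroup G) ⊔ K := by
        intro x hx
        have h1 : π x ∈ (U₁ : Subgroup (G ⧸ K)) := by
          rw [Sylow.coe_mapSurjective]
          exact ⟨x, by rw [hT₁coe]; exact hx, rfl⟩
        rw [hUU, Sylow.coe_mapSurjective] at h1
        obtain ⟨s, hs, hsx⟩ := h1
        have h2 : s⁻¹ * x ∈ K := by
          have : π (s⁻¹ * x) = 1 := by rw [map_mul, map_inv, hsx, inv_mul_cancel]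
          rwa [← MonoidHom.mem_ker, QuotientGroup.ker_mk'] at this
        have : x = s * (s⁻¹ * x) := by group
        rw [this]
        exact Subgroup.mul_mem _ (Subgroup.mem_sup_left hs) (Subgroup.mem_sup_right h2)
      have hSKM : (S : Subgroup G) ⊔ K ≤ M := sup_le h.le hKM
      have hT₁M : cj (g * m) (S : Subgroup G) ≤ M := hT₁SK.trans hSKM
      -- `cj (g*m)⁻¹ M` is a coatom containing `S`
      have h3 : (S : Subgroup G) ≤ cj (g * m)⁻¹ M := by
        intro s hs
        rw [E0B_aux_mem_cj, inv_inv]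
        apply hT₁M
        rw [E0B_aux_mem_cj]
        simpa [mul_assoc] using hs
      have h4 := h.uniq _ (E0B_aux_cj_coatom (g * m)⁻¹ h.coatom) h3
      -- so `g * m` normalizes `M`, hence `g` does
      have h5 : cj g M = M := by
        have h6 : cj (g * m) M = M := by
          have := congrArg (cj (g * m)) h4
          rw [E0B_aux_cj_cj, mul_inv_cancel] at this
          rw [← this]
          ext x
          rw [E0B_aux_mem_cj]
          simp
        rw [← E0B_aux_cj_cj, E0B_aux_cj_self hmM] at h6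
        exact h6
      -- `N_G(M) = M` as `M` is a non-normal coatom
      have hgN : g ∈ normalizer (M : Set G) := by
        rw [Subgroup.mem_normalizer_iff]
        intro x
        constructor
        · intro hx
          have : g * x * g⁻¹ ∈ cj g M := by
            rw [E0B_aux_mem_cj]; simpa [mul_assoc] using hx
          rwa [h5] at this
        · intro hx
          rw [← h5, E0B_aux_mem_cj] at hx
          simpa [mul_assoc] using hx
      have hNM : normalizer (M : Set G) = M := by
        by_contra hne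
        have hlt : M < normalizer (M : Set G) := lt_of_le_of_ne le_normalizer (Ne.symm hne)
        have htop := h.coatom.2 _ hlt
        exact hMn (Subgroup.normalizer_eq_top_iff.1 htop)
      rw [hNM] at hgN
      exact hg hgN
    · -- TI: the images of `S` and `T₁` meet trivially
      have hti := h.rank.ti U₁ U hUU
      intro y hy
      have h1 : π y ∈ (U₁ : Subgroup (G ⧸ K)) ⊓ (U : Subgroup (G ⧸ K)) := by
        constructor
        · rw [Sylow.coe_mapSurjective]
          exact ⟨y, by rw [hT₁coe]; exact hYT hy, rfl⟩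
        · rw [Sylow.coe_mapSurjective]
          exact ⟨y, hy.1, rfl⟩
      rw [hti, Subgroup.mem_bot] at h1
      rwa [← MonoidHom.mem_ker, QuotientGroup.ker_mk'] at h1
  have h1 : (S : Subgroup G) ⊓ cj g M ≤ Cfsg.pCore p G :=
    (le_inf inf_le_left hYK).trans hSK
  have h2 : Cfsg.pCore p G ≤ (S : Subgroup G) ⊓ cj g M := le_inf hQS hQM
  refine ⟨le_antisymm h1 h2, le_antisymm hSK ?_⟩
  exact le_inf hQS (h2.trans hYK)

end Cfsg.Agent.S2768P
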