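import Cfsg.Agent.Helper20.S5702RATSIEG
import Cfsg.Agent.Helper4.S5702TENS
import Cfsg.Agent.Helper21.S5702PLANERAT
import Cfsg.Agent.Helper15.S5702FIXPERP

set_option autoImplicit false
set_option linter.unusedSectionVars false
set_option linter.unusedVariables false

/-! # S5702, piece STAB: the stabiliser of the plane `π` in `D = ⟨R_π(F₀), E(v,w)⟩` is `R_π(F₀)`
(when the coordinates of `p = lin3 κ (α ⨯₃ β)` are `F₀`-linearly independent). -/

namespace Cfsg.Agent.S5702P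

open Matrix Cfsg.Agent.Helper28.Sg Cfsg.Agent.Helper28.Spin Cfsg.Agent.Helper12.OrthGen
  Cfsg.Agent.S5683P

variable {F : Type*} [Field F] {m : ℕ} {a b : F}

namespace STAB

/-- two independent vectors of `F³` (cross product non-zero): the pairing map is onto `F²` -/
theorem exists_dot (α β : Fin 3 → F) (h : α ⨯₃ β ≠ 0) (ξ η : F) :
    ∃ c : Fin 3 → F, c ⬝ᵥ α = ξ ∧ c ⬝ᵥ β = η := by
  obtain ⟨j, hj⟩ : ∃ j, (α ⨯₃ β) j ≠ 0 := by
    by_contra hcon
    simp only [not_exists, not_not] at hcon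
    exact h (funext hcon)
  refine ⟨((α ⨯₃ β) j)⁻¹ • (ξ • (β ⨯₃ Pi.single j 1) + η • (Pi.single j 1 ⨯₃ α)), ?_, ?_⟩
  · fin_cases j
    all_goals
      simp only [cross_apply, dotProduct, Fin.sum_univ_three, Pi.smul_apply, Pi.add_apply,
        smul_eq_mul, Matrix.cons_val_zero, Matrix.cons_val_one, Matrix.cons_val_two,
        Matrix.head_cons, Matrix.tail_cons, Pi.single_apply] at hj ⊢
      simp at hj ⊢
      field_simp
      ring
  · fin_cases j
    all_goals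
      simp only [cross_apply, dotProduct, Fin.sum_univ_three, Pi.smul_apply, Pi.add_apply,
        smul_eq_mul, Matrix.cons_val_zero, Matrix.cons_val_one, Matrix.cons_val_two,
        Matrix.head_cons, Matrix.tail_cons, Pi.single_apply] at hj ⊢
      simp at hj ⊢
      field_simp
      ring

/-- the rational `ρ(t)` lie in `M` -/
theorem rho_mem (F₀ : Subfield F) (ha : a ∈ F₀) (hb : b ∈ F₀) (M : Subgroup (OG m F a b))
    (hM : HasRatO F₀ M) (κ : Fin 3 → Fin m) (t : Fin 3 → F) (ht : ∀ k, t k ∈ F₀) :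
    rho a b κ t ∈ M := by
  unfold rho
  refine M.mul_mem ?_ ?_
  · obtain ⟨_, h⟩ := RATSIEG.mem_rad F₀ ha hb M hM (ee F (κ 0))
      (t 2 • ee F (κ 1) - t 1 • ee F (κ 2)) (rat_ee _)
      (((rat_ee (κ 1)).smul (ht 2)).sub ((rat_ee (κ 2)).smul (ht 1))) (Q_ee _) (rho_aux1 κ t)
    exact h
  · obtain ⟨_, h⟩ := RATSIEG.mem_rad F₀ ha hb M hM (ee F (κ 1))
      (t 0 • ee F (κ 2)) (rat_ee _) ((rat_ee (κ 2)).smul (ht 0)) (Q_ee _) (rho_aux2 κ t)
    exact h

/-- `D ≤ M` -/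
theorem Dgrp_le (F₀ : Subfield F) (ha : a ∈ F₀) (hb : b ∈ F₀) (M : Subgroup (OG m F a b))
    (hM : HasRatO F₀ M) (κ : Fin 3 → Fin m) (v w : Idx m → F)
    (hv : QfMinus m F a b v = 0) (hvw : B (QfMinus m F a b) v w = 0) (hw' : w ∈ Rad M v hv) :
    Dgrp F₀ κ (siegO (QfMinus m F a b) v w hv hvw) ≤ M := by
  unfold Dgrp
  refine sup_le ?_ ?_
  · unfold Rgrp
    rw [Subgroup.closure_le]
    rintro g ⟨t, ht, rfl⟩
    exact rho_mem F₀ ha hb M hM κ t ht
  · rw [Subgroup.zpowers_le]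
    obtain ⟨_, h⟩ := hw'
    exact h

/-- `xi3` of `J (lin3 κ c)` -/
theorem xi3_Jmap (κ : Fin 3 → Fin m) (v w : Idx m → F) (c : Fin 3 → F) :
    xi3 κ (Jmap a b v w (lin3 κ c)) =
      (c ⬝ᵥ xi3 κ v) • xi3 κ w - (c ⬝ᵥ xi3 κ w) • xi3 κ v := by
  unfold Jmap
  rw [B_lin3, B_lin3]
  rfl

theorem xi3_sub' (κ : Fin 3 → Fin m) (x y : Idx m → F) : xi3 κ (x - y) = xi3 κ x - xi3 κ y := rfl

theorem lin3_sub' (κ : Fin 3 → Fin m) (c c' : Fin 3 → F) :
    lin3 κ (c - c') = lin3 κ c - lin3 κ c' := by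
  have h := lin3_add (F := F) κ (c - c') c'
  rw [sub_add_cancel] at h
  rw [h, add_sub_cancel_right]

theorem lin3_injective (κ : Fin 3 → Fin m) (hκ : Function.Injective κ) {c c' : Fin 3 → F}
    (h : lin3 κ c = lin3 κ c') : c = c' := by
  funext k
  have h1 := congrFun h (Sum.inl (Sum.inl (κ k)))
  have key : ∀ c : Fin 3 → F, lin3 κ c (Sum.inl (Sum.inl (κ k))) = c k := by
    intro c
    unfold lin3
    simp only [Finset.sum_apply, Pi.smul_apply, ee, Pi.single_apply, smul_eq_mul, Sum.inl.injEq]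
    rw [Finset.sum_eq_single k]
    · simp
    · intro j _ hj
      have : κ k ≠ κ j := fun h => hj (hκ h).symm
      simp [this]
    · intro h; exact absurd (Finset.mem_univ k) h
  rwa [key, key] at h1

theorem lin3_eq_zero (κ : Fin 3 → Fin m) (hκ : Function.Injective κ) {c : Fin 3 → F}
    (h : lin3 κ c = 0) : c = 0 := by
  apply lin3_injective κ hκ
  rw [h, lin3_zero]

/-- a scalar `μ` with `μ γ_l, μ γ_l' ∈ F₀` for two different indices vanishes -/
theorem mu_zero (F₀ : Subfield F) (γv : Fin 3 → F) (hγ : Indep3 F₀ γv) (μ : F) (l l' : Fin 3)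
    (hll' : l ≠ l') (h1 : μ * γv l ∈ F₀) (h2 : μ * γv l' ∈ F₀) : μ = 0 := by
  by_contra hμ
  have hγl' : γv l' ≠ 0 := by
    intro hk
    have h := hγ (Pi.single l' 1) (Rat.single l' F₀.one_mem)
      (by rw [single_dotProduct, one_mul]; exact hk)
    have := congrFun h l'
    simp at this
  have ht : ∀ k, (Pi.single l (μ * γv l') - Pi.single l' (μ * γv l) : Fin 3 → F) k ∈ F₀ := by
    intro k
    exact F₀.sub_mem (Rat.single l h2 k) (Rat.single l' h1 k)
  have h := hγ _ ht (by rw [sub_dotProduct, single_dotProduct, single_dotProduct]; ring)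
  have := congrFun h l
  simp only [Pi.sub_apply, Pi.single_eq_same, Pi.single_eq_of_ne hll', sub_zero,
    Pi.zero_apply] at this
  rcases mul_eq_zero.mp this with h | h
  · exact hμ h
  · exact hγl' h

theorem cross0 (x y : Fin 3 → F) : (x ⨯₃ y) 0 = x 1 * y 2 - x 2 * y 1 := by
  rw [cross_apply]; rfl

theorem cross1 (x y : Fin 3 → F) : (x ⨯₃ y) 1 = x 2 * y 0 - x 0 * y 2 := by
  rw [cross_apply]; rfl

theorem cross2 (x y : Fin 3 → F) : (x ⨯₃ y) 2 = x 0 * y 1 - x 1 * y 0 := by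
  rw [cross_apply]; rfl

theorem cross_gen (α : F) (s : Fin 3 → F) (g : Fin 3 → F) :
    ((α • Pi.single 0 1 + s 0 • g) ⨯₃ (α • Pi.single 2 1 + s 2 • g)) 0 = α * s 0 * g 1 ∧
    ((α • Pi.single 0 1 + s 0 • g) ⨯₃ (α • Pi.single 1 1 + s 1 • g)) 0 = -(α * s 0 * g 2) ∧
    ((α • Pi.single 1 1 + s 1 • g) ⨯₃ (α • Pi.single 2 1 + s 2 • g)) 1 = -(α * s 1 * g 0) ∧
    ((α • Pi.single 0 1 + s 0 • g) ⨯₃ (α • Pi.single 1 1 + s 1 • g)) 1 = -(α * s 1 * g 2) ∧
    ((α • Pi.single 1 1 + s 1 • g) ⨯₃ (α • Pi.single 2 1 + s 2 • g)) 2 = -(α * s 2 * g 0) ∧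
    ((α • Pi.single 0 1 + s 0 • g) ⨯₃ (α • Pi.single 2 1 + s 2 • g)) 2 = α * s 2 * g 1 := by
  refine ⟨?_, ?_, ?_, ?_, ?_, ?_⟩ <;>
  · simp [cross0, cross1, cross2]
    ring

end STAB

theorem STAB.mem_Rgrp [Finite F] (hm : 4 ≤ m) (F₀ : Subfield F) (ha : a ∈ F₀) (hb : b ∈ F₀)
    (hab : 4 * b - a ^ 2 ≠ 0) (M : Subgroup (OG m F a b)) (hM : HasRatO F₀ M)
    (hR : RootRatO F₀ M) (κ : Fin 3 → Fin m) (hκ : Function.Injective κ)
    (v w : Idx m → F) (hv : QfMinus m F a b v = 0) (hw : QfMinus m F a b w = 0)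
    (hvw : B (QfMinus m F a b) v w = 0) (hw' : w ∈ Rad M v hv)
    (hγ : Indep3 F₀ (xi3 κ v ⨯₃ xi3 κ w)) (d : OG m F a b)
    (hd : d ∈ Dgrp F₀ κ (siegO (QfMinus m F a b) v w hv hvw))
    (hstab : ∀ c : Fin 3 → F, ∃ c' : Fin 3 → F,
      mt (QfMinus m F a b) d *ᵥ lin3 κ c = lin3 κ c') : d ∈ Rgrp F₀ a b κ := by
  have hdM : d ∈ M := STAB.Dgrp_le F₀ ha hb M hM κ v w hv hvw hw' hd
  obtain ⟨hp, hfix, α, β, γ, δ, h1, h2⟩ := TENS.all F₀ κ hκ v w hv hw hvw d hd
  -- the coordinates of `p` are non-zero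
  have hγk : ∀ k, (xi3 κ v ⨯₃ xi3 κ w) k ≠ 0 := by
    intro k hk
    have h := hγ (Pi.single k 1) (Rat.single k F₀.one_mem)
      (by rw [single_dotProduct, one_mul]; exact hk)
    have := congrFun h k
    simp at this
  have hγ0 : xi3 κ v ⨯₃ xi3 κ w ≠ 0 := fun h => hγk 0 (by rw [h]; rfl)
  have hp0 : lin3 κ (xi3 κ v ⨯₃ xi3 κ w) ≠ 0 := fun h => hγ0 (STAB.lin3_eq_zero κ hκ h)
  -- `γ = 0`
  have hγz : γ = 0 := by
    obtain ⟨c, hc1, hc2⟩ := STAB.exists_dot (xi3 κ v) (xi3 κ w) hγ0 1 0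
    obtain ⟨s, hs⟩ := h1 c
    obtain ⟨c', hc'⟩ := hstab c
    rw [hc'] at hs
    have h3 := congrArg (xi3 κ) hs
    rw [xi3_lin3, xi3_add, xi3_add, xi3_smul, xi3_smul, xi3_smul, xi3_lin3, xi3_lin3,
      STAB.xi3_Jmap, hc1, hc2] at h3
    simp only [smul_zero, zero_add, one_smul, zero_smul, sub_zero, add_zero] at h3
    rcases smul_eq_zero.mp h3.symm with h3 | h3
    · exact h3
    · exfalso
      apply hγ0
      rw [h3]
      simp
  have h1' : ∀ c : Fin 3 → F, ∃ s : F, mt (QfMinus m F a b) d *ᵥ lin3 κ c =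
      α • lin3 κ c + s • lin3 κ (xi3 κ v ⨯₃ xi3 κ w) := by
    intro c
    obtain ⟨s, hs⟩ := h1 c
    exact ⟨s, by rw [hs, hγz, zero_smul, add_zero]⟩
  choose s hs using fun k : Fin 3 => h1' (Pi.single k 1)
  have hde : ∀ k, mt (QfMinus m F a b) d *ᵥ ee F (κ k) =
      lin3 κ (α • Pi.single k 1 + s k • (xi3 κ v ⨯₃ xi3 κ w)) := by
    intro k
    rw [← lin3_single, hs k, lin3_add, lin3_smul, lin3_smul]
  -- conjugating the rational `E(e_k, e_l)`
  have hcross : ∀ k l, k ≠ l → ∀ j,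
      ((α • Pi.single k 1 + s k • (xi3 κ v ⨯₃ xi3 κ w)) ⨯₃
        (α • Pi.single l 1 + s l • (xi3 κ v ⨯₃ xi3 κ w))) j ∈ F₀ := by
    intro k l hkl
    have hB : B (QfMinus m F a b) (ee F (κ k)) (ee F (κ l)) = 0 := by
      rw [B_ee]
      simp [ee]
    have hrad : ee F (κ l) ∈ Rad M (ee F (κ k)) (Q_ee _) :=
      RATSIEG.mem_rad F₀ ha hb M hM _ _ (rat_ee _) (rat_ee _) (Q_ee _) hB
    have := Rad_conj' hdM hrad (Q_lin3 κ _) (hde k) (hde l)
    exact PLANERAT.cross_mem hm F₀ ha hb hab M hM hR κ hκ _ _ this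
  -- `α s_k = 0`
  obtain ⟨e1, e2, e3, e4, e5, e6⟩ := STAB.cross_gen α s (xi3 κ v ⨯₃ xi3 κ w)
  have hμ0 : α * s 0 = 0 := by
    apply STAB.mu_zero F₀ _ hγ (α * s 0) 1 2 (by decide)
    · have := hcross 0 2 (by decide) 0
      rwa [e1] at this
    · have := hcross 0 1 (by decide) 0
      rw [e2] at this
      simpa using F₀.neg_mem this
  have hμ1 : α * s 1 = 0 := by
    apply STAB.mu_zero F₀ _ hγ (α * s 1) 0 2 (by decide)
    · have := hcross 1 2 (by decide) 1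
      rw [e3] at this
      simpa using F₀.neg_mem this
    · have := hcross 0 1 (by decide) 1
      rw [e4] at this
      simpa using F₀.neg_mem this
  have hμ2 : α * s 2 = 0 := by
    apply STAB.mu_zero F₀ _ hγ (α * s 2) 0 1 (by decide)
    · have := hcross 1 2 (by decide) 2
      rw [e5] at this
      simpa using F₀.neg_mem this
    · have := hcross 0 2 (by decide) 2
      rwa [e6] at this
  -- `α ≠ 0`
  have hinj : ∀ x y : Idx m → F, mt (QfMinus m F a b) d *ᵥ x = mt (QfMinus m F a b) d *ᵥ y →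
      x = y := by
    intro x y hxy
    have := congrArg (fun z => mt (QfMinus m F a b) d⁻¹ *ᵥ z) hxy
    simpa only [mt_inv_mulVec] using this
  have hα0 : α ≠ 0 := by
    intro hα
    have h0 : mt (QfMinus m F a b) d *ᵥ ee F (κ 0) =
        mt (QfMinus m F a b) d *ᵥ (s 0 • lin3 κ (xi3 κ v ⨯₃ xi3 κ w)) := by
      rw [Matrix.mulVec_smul, hp, hde 0, hα, zero_smul, zero_add, lin3_smul]
    have h0' := hinj _ _ h0
    rw [← lin3_single, ← lin3_smul] at h0'
    have h0'' := STAB.lin3_injective κ hκ h0'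
    have e0 := congrFun h0'' 0
    have e1 := congrFun h0'' 1
    simp only [Pi.single_eq_same, Pi.smul_apply, smul_eq_mul] at e0
    rw [Pi.single_eq_of_ne (by decide)] at e1
    simp only [Pi.smul_apply, smul_eq_mul] at e1
    rcases mul_eq_zero.mp e1.symm with h | h
    · rw [h, zero_mul] at e0
      exact one_ne_zero e0
    · exact hγk 1 h
  have hs0 : ∀ k, s k = 0 := by
    intro k
    fin_cases k
    · exact (mul_eq_zero.mp hμ0).resolve_left hα0
    · exact (mul_eq_zero.mp hμ1).resolve_left hα0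
    · exact (mul_eq_zero.mp hμ2).resolve_left hα0
  have hde' : ∀ k, mt (QfMinus m F a b) d *ᵥ ee F (κ k) = α • ee F (κ k) := by
    intro k
    rw [hde k, hs0 k, zero_smul, add_zero, lin3_smul, lin3_single]
  have hlin : ∀ c : Fin 3 → F, mt (QfMinus m F a b) d *ᵥ lin3 κ c = α • lin3 κ c := by
    intro c
    unfold lin3
    rw [Matrix.mulVec_sum, Finset.smul_sum]
    apply Finset.sum_congr rfl
    intro k _
    rw [Matrix.mulVec_smul, hde' k, smul_comm]
  have hα1 : α = 1 := by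
    have h := hlin (xi3 κ v ⨯₃ xi3 κ w)
    rw [hp] at h
    have h' : (α - 1) • lin3 κ (xi3 κ v ⨯₃ xi3 κ w) = 0 := by
      rw [sub_smul, one_smul, ← h, sub_self]
    rcases smul_eq_zero.mp h' with h'' | h''
    · exact sub_eq_zero.mp h''
    · exact absurd h'' hp0
  have hlin1 : ∀ c : Fin 3 → F, mt (QfMinus m F a b) d *ᵥ lin3 κ c = lin3 κ c := by
    intro c
    rw [hlin c, hα1, one_smul]
  -- `d` fixes `π^⊥` pointwise
  have hperp : ∀ x : Idx m → F, xi3 κ x = 0 → mt (QfMinus m F a b) d *ᵥ x = x := by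
    intro x hx
    obtain ⟨c, hc1, hc2⟩ := STAB.exists_dot (xi3 κ v) (xi3 κ w) hγ0
      (B (QfMinus m F a b) v x) (B (QfMinus m F a b) w x)
    have hfx := hfix (x - lin3 κ c)
      (by rw [STAB.xi3_sub', hx, xi3_lin3, sub_zero])
      (by
        show QuadraticMap.polar ⇑(QfMinus m F a b) v (x - lin3 κ c) = 0
        rw [QuadraticMap.polar_sub_right]
        show B (QfMinus m F a b) v x - B (QfMinus m F a b) v (lin3 κ c) = 0
        rw [B_comm _ v (lin3 κ c), B_lin3, hc1, sub_self])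
      (by
        show QuadraticMap.polar ⇑(QfMinus m F a b) w (x - lin3 κ c) = 0
        rw [QuadraticMap.polar_sub_right]
        show B (QfMinus m F a b) w x - B (QfMinus m F a b) w (lin3 κ c) = 0
        rw [B_comm _ w (lin3 κ c), B_lin3, hc2, sub_self])
    rw [Matrix.mulVec_sub, hlin1 c] at hfx
    exact sub_left_injective hfx
  obtain ⟨t, hdt⟩ := FIXPERP.exists_rho hab κ hκ d hperp
  have ht : ∀ k, t k ∈ F₀ :=
    PLANERAT.rho_mem hm F₀ ha hb hab M hM hR κ hκ t (by rw [← hdt]; exact hdM)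
  show d ∈ Subgroup.closure _
  exact Subgroup.subset_closure ⟨t, ht, hdt⟩

end Cfsg.Agent.S5702P
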