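import Mathlib
import Cfsg.Agent.Helper5.GCu
import Cfsg.Agent.Helper5.GCt
import Cfsg.Agent.Helper5.PrincipalInducing
import Cfsg.Agent.Helper5.PElementCongr
import Cfsg.Agent.Helper5.BlockGalois
import Cfsg.Agent.Helper8.AS6
import Cfsg.Agent.S0939

/-!
# Sylow `p`-subgroup of order `p`: sum of squares at `x`, degree congruences, the case `e = 1`,
transitivity in the case `e = p - 1`
-/

set_option autoImplicit false

namespace Cfsg.Agent.Helper5.GC

open Cfsg Cfsg.Agent.Helper24 Cfsg.Agent.Helper5 Cfsg.Agent.Helper5.Loc Cfsg.Agent.Helper5.CC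
  Subgroup

variable {G : Type*} [Group G] [Finite G] {p : ℕ} [hp : Fact p.Prime] {M : Ideal AlgInt}

/-- Degree congruence: the degree is congruent to an integer value at a `p`-element. -/
theorem deg_modEq_of_apply (hM : IsPModular p M) (χ : IrrCharacter G) (x : G) (k : ℕ)
    (hx : x ^ (p ^ k) = 1) (n : ℤ) (hn : (χ : G → ℂ) x = (n : ℂ)) :
    (charDegree (χ : G → ℂ) : ℤ) ≡ n [ZMOD p] := by
  have h1 := char_mul_sub_char_memLocalIdeal hM (IsIrrCharacter.isCharacter χ.2) x 1
    (Commute.one_right x) k hx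
  rw [mul_one, hn, irrDeg_spec, ← charDegree_irr] at h1
  have h2 : ((n : ℂ) - ((charDegree (χ : G → ℂ) : ℕ) : ℂ)) =
      ((n - (charDegree (χ : G → ℂ) : ℤ) : ℤ) : ℂ) := by push_cast; ring
  rw [h2, Cfsg.Agent.Helper5.BG.memLocalIdeal_intCast_iff hM] at h1
  exact (Int.modEq_iff_dvd).mpr h1

/-- **Sum of squares** of the values of the principal block at a non-identity element of `P`. -/
theorem sum_sq_principal (hM : IsPModular p M) (P : Sylow p G) (hP : Nat.card P = p) (x : G)
    (hxP : x ∈ (P : Subgroup G)) (hx1 : x ≠ 1) :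
    ∑ᶠ ζ ∈ principalBlock M G, (ζ : G → ℂ) x * (starRingEnd ℂ) ((ζ : G → ℂ) x) = (p : ℂ) := by
  classical
  haveI : Fintype G := Fintype.ofFinite G
  haveI : Fintype (IrrCharacter G) := Fintype.ofFinite _
  set C : Subgroup G := centralizer ({x} : Set G) with hC
  haveI : Fintype C := Fintype.ofFinite _
  haveI : Fintype (IrrCharacter C) := Fintype.ofFinite _
  have hab := isMulCommutative_of_card P hP
  have hxC : x ∈ C := Cfsg.Agent.Helper8.AS.mem_centralizer_singleton.mpr rfl
  have hcomm : ∀ c : C, x * (c : G) = (c : G) * x :=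
    fun c => Cfsg.Agent.Helper8.AS.mem_centralizer_singleton.mp c.2
  have hxp : x ^ p = 1 := by
    have := pow_card_eq_one' (G := (P : Subgroup G)) (x := ⟨x, hxP⟩)
    rw [show Nat.card (P : Subgroup G) = p from hP] at this
    have := congrArg Subtype.val this
    simpa using this
  have hord : ∃ k : ℕ, orderOf x = p ^ k := by
    have h1 := orderOf_dvd_of_pow_eq_one hxp
    rcases (Nat.dvd_prime hp.out).mp h1 with h | h
    · exact ⟨0, by rw [h, pow_zero]⟩
    · exact ⟨1, by rw [h, pow_one]⟩
  have hbf := brauer_formula hM x hord C hxC hcomm (le_refl _) (principalBlock M G)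
    isPBlock_principalBlock (1 : C) (by
      rw [orderOf_one]; exact fun h => hp.out.one_lt.ne' (Nat.dvd_one.mp h))
  rw [inducingSet_principalBlock hM x hord C hxC hcomm (le_refl _)] at hbf
  simp only [Subgroup.coe_one, mul_one] at hbf
  rw [hbf]
  have hidx := Cfsg.Agent.Helper8.AS.index_pPrimeCore_centralizer P hab hxP
    (centralizer_singleton_inf P hP x hxP hx1)
  rw [show Nat.card (P : Subgroup G) = p from hP] at hidx
  have hsq := Cfsg.Agent.Helper8.AS.sum_deg_sq_principal_npc (H := C) hM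
    ⟨1, by rw [hidx, pow_one]⟩
  rw [hidx] at hsq
  have hcast := congrArg (fun r : ℚ => (r : ℂ)) hsq
  simp only [Rat.cast_natCast] at hcast
  rw [← hcast, finsum_mem_eq_sum_ite', finsum_mem_eq_sum_ite', Rat.cast_sum]
  refine Finset.sum_congr rfl fun ψ _ => ?_
  split_ifs
  · rw [irrDeg_spec, Complex.conj_natCast, ← charDegree_irr]
    push_cast
    ring
  · simp

end Cfsg.Agent.Helper5.GC
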