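import Mathlib
import Cfsg.Agent.Helper5.GCv

/-!
# The case `e = 1` (normal `p`-complement) and transitivity in the case `e = p - 1`
-/

set_option autoImplicit false

namespace Cfsg.Agent.Helper5.GC

open Cfsg Cfsg.Agent.Helper24 Cfsg.Agent.Helper5 Cfsg.Agent.Helper5.Loc Cfsg.Agent.Helper5.CC
  Subgroup

variable {G : Type*} [Group G] [Finite G] {p : ℕ} [hp : Fact p.Prime] {M : Ideal AlgInt}

/-- The case `e = 1`. -/
theorem pn_block (hM : IsPModular p M) (P : Sylow p G) (hP : Nat.card P = p)
    (hNC : normalizer ((P : Subgroup G) : Set G) ≤ centralizer ((P : Subgroup G) : Set G)) :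
    Nat.card (principalBlock M G) = p ∧
      (∀ χ ∈ principalBlock M G, charDegree (χ : G → ℂ) = 1) ∧
      (∀ χ ∈ principalBlock M G, ∀ g : G, ¬ p ∣ orderOf g → (χ : G → ℂ) g = 1) := by
  classical
  haveI : Fintype G := Fintype.ofFinite G
  haveI : Fintype (IrrCharacter G) := Fintype.ofFinite _
  have hker := Cfsg.Agent.Helper15.pPrimeCore_eq_ker_transferSylow P hNC
  have hc := MonoidHom.ker_transferSylow_isComplement' P hNC
  have hidx : (pPrimeCore p G).index = p := by
    rw [hker]
    have h1 := hc.card_mul_card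
    have h2 := Subgroup.card_mul_index (MonoidHom.transferSylow P hNC).ker
    have hpos : 0 < Nat.card (MonoidHom.transferSylow P hNC).ker := Nat.card_pos
    have : Nat.card (MonoidHom.transferSylow P hNC).ker *
        (MonoidHom.transferSylow P hNC).ker.index =
        Nat.card (MonoidHom.transferSylow P hNC).ker * p := by
      rw [h2, ← h1, show Nat.card (P : Subgroup G) = p from hP]
    exact Nat.eq_of_mul_eq_mul_left hpos this
  have hnc : ∃ k : ℕ, (pPrimeCore p G).index = p ^ k := ⟨1, by rw [hidx, pow_one]⟩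
  have hB := Cfsg.Agent.S0939.result p M hM hnc
  have hsq := Cfsg.Agent.Helper8.AS.sum_deg_sq_principal_npc (H := G) hM hnc
  rw [hidx, finsum_mem_eq_sum_ite', ← Finset.sum_filter] at hsq
  have hsqN : ∑ ψ ∈ Finset.univ.filter (· ∈ principalBlock M G),
      (charDegree (ψ : G → ℂ)) ^ 2 = p := by
    exact_mod_cast hsq
  have hcardF : (Finset.univ.filter (· ∈ principalBlock M G)).card =
      Nat.card (principalBlock M G) := by
    rw [Nat.card_eq_fintype_card, Fintype.card_subtype]
  have hge := card_principalBlock_ge p M hM P hP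
  rw [Subgroup.relIndex_eq_one.mpr hNC, Nat.div_one] at hge
  have hge' : p ≤ (Finset.univ.filter (· ∈ principalBlock M G)).card := by
    rw [hcardF]
    have := hp.out.one_lt
    omega
  have hpos : ∀ ψ : IrrCharacter G, 1 ≤ (charDegree (ψ : G → ℂ)) ^ 2 := by
    intro ψ
    rw [charDegree_irr]
    exact Nat.one_le_pow _ _ (irrDeg_pos ψ)
  have hle : (Finset.univ.filter (· ∈ principalBlock M G)).card ≤ p := by
    rw [← hsqN, Finset.card_eq_sum_ones]
    exact Finset.sum_le_sum fun ψ _ => hpos ψ
  have hcard : (Finset.univ.filter (· ∈ principalBlock M G)).card = p := le_antisymm hle hge'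
  have hdeg : ∀ χ ∈ principalBlock M G, charDegree (χ : G → ℂ) = 1 := by
    have hsum : ∑ ψ ∈ Finset.univ.filter (· ∈ principalBlock M G), 1 =
        ∑ ψ ∈ Finset.univ.filter (· ∈ principalBlock M G), (charDegree (ψ : G → ℂ)) ^ 2 := by
      rw [hsqN, ← Finset.card_eq_sum_ones, hcard]
    have := (Finset.sum_eq_sum_iff_of_le (fun ψ _ => hpos ψ)).mp hsum
    intro χ hχ
    have h1 := this χ (Finset.mem_filter.mpr ⟨Finset.mem_univ _, hχ⟩)
    have h2 : (charDegree (χ : G → ℂ)) ^ 2 = 1 ^ 2 := by rw [← h1, one_pow]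
    exact Nat.pow_left_injective (by norm_num : (2 : ℕ) ≠ 0) h2
  refine ⟨by rw [← hcardF, hcard], hdeg, ?_⟩
  intro χ hχ g hg
  have hgO : g ∈ pPrimeCore p G := by
    rw [hker, MonoidHom.mem_ker]
    have h1 : orderOf (MonoidHom.transferSylow P hNC g) ∣ orderOf g := orderOf_map_dvd _ g
    have h2 : orderOf (MonoidHom.transferSylow P hNC g) ∣ p := by
      have := orderOf_dvd_natCard (MonoidHom.transferSylow P hNC g)
      rwa [show Nat.card (P : Subgroup G) = p from hP] at this
    rcases (Nat.dvd_prime hp.out).mp h2 with h | h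
    · exact orderOf_eq_one_iff.mp h
    · exact absurd (h ▸ h1) hg
  rw [hB] at hχ
  rw [hχ g hgO, irrDeg_spec, ← charDegree_irr, hdeg χ (by rw [hB]; exact hχ)]
  simp

/-- Transitivity of the normalizer on `P ∖ 1` when `e = p - 1`. -/
theorem exists_conj_pow (P : Sylow p G) (hP : Nat.card P = p) (x : G)
    (hxP : x ∈ (P : Subgroup G)) (hx1 : x ≠ 1)
    (he : (centralizer ((P : Subgroup G) : Set G)).relIndex
      (normalizer ((P : Subgroup G) : Set G)) = p - 1) (k : ℕ) (hk : ¬ p ∣ k) :
    ∃ n ∈ normalizer ((P : Subgroup G) : Set G), n * x * n⁻¹ = x ^ k := by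
  classical
  set N := normalizer ((P : Subgroup G) : Set G) with hN
  let x' : (P : Subgroup G) := ⟨x, hxP⟩
  have hx'1 : x' ≠ 1 := fun h => hx1 (congrArg Subtype.val h)
  have htop : zpowers x' = ⊤ := zpowers_eq_top_of_prime_card (p := p) hP hx'1
  have hsmul : ∀ (n : N) (y : (P : Subgroup G)), ((n • y : (P : Subgroup G)) : G) =
      (n : G) * (y : G) * (n : G)⁻¹ := fun n y => rfl
  have hstab : MulAction.stabilizer N x' =
      (centralizer ((P : Subgroup G) : Set G)).subgroupOf N := by
    ext n
    rw [MulAction.mem_stabilizer_iff, Subgroup.mem_subgroupOf, Subgroup.mem_centralizer_iff]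
    constructor
    · intro h w hw
      have hnx : (n : G) * x * (n : G)⁻¹ = x := by
        have := congrArg Subtype.val h
        rwa [hsmul] at this
      have hcomm : Commute (n : G) x := by
        show (n : G) * x = x * (n : G)
        calc (n : G) * x = (n : G) * x * (n : G)⁻¹ * (n : G) := by group
          _ = x * (n : G) := by rw [hnx]
      have : (⟨w, hw⟩ : (P : Subgroup G)) ∈ zpowers x' := by rw [htop]; trivial
      obtain ⟨i, hi⟩ := mem_zpowers_iff.mp this
      have hwx : w = x ^ i := by
        have := congrArg Subtype.val hi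
        simpa using this.symm
      rw [hwx]
      exact ((hcomm.zpow_right i).eq).symm
    · intro h
      apply Subtype.ext
      rw [hsmul]
      have := h x hxP
      show (n : G) * x * (n : G)⁻¹ = x
      rw [← this]; group
  have horb : (MulAction.orbit N x').ncard = p - 1 := by
    rw [← MulAction.index_stabilizer, hstab]
    exact he
  have hsub : MulAction.orbit N x' ⊆ {y : (P : Subgroup G) | y ≠ 1} := by
    rintro _ ⟨n, rfl⟩ h
    apply hx'1
    have h2 : n • x' = n • (1 : (P : Subgroup G)) := by rw [smul_one]; exact h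
    exact MulAction.injective n h2
  have hcard : ({y : (P : Subgroup G) | y ≠ 1} : Set (P : Subgroup G)).ncard = p - 1 := by
    have : ({y : (P : Subgroup G) | y ≠ 1} : Set (P : Subgroup G)) = {1}ᶜ := by
      ext y; simp
    rw [this, Set.ncard_compl, Set.ncard_singleton, show Nat.card (P : Subgroup G) = p from hP]
  have heq := Set.eq_of_subset_of_ncard_le hsub (by rw [hcard, horb]) (Set.toFinite _)
  have hord : orderOf x' = p := by
    have h1 : orderOf x' ∣ p := by
      have := orderOf_dvd_natCard x'
      rwa [show Nat.card (P : Subgroup G) = p from hP] at this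
    rcases (Nat.dvd_prime hp.out).mp h1 with h | h
    · exact absurd (orderOf_eq_one_iff.mp h) hx'1
    · exact h
  have hxk : x' ^ k ∈ {y : (P : Subgroup G) | y ≠ 1} := by
    intro h
    apply hk
    rw [← hord]
    exact orderOf_dvd_of_pow_eq_one h
  rw [← heq] at hxk
  obtain ⟨n, hn⟩ := hxk
  refine ⟨(n : G), n.2, ?_⟩
  have := congrArg Subtype.val hn
  rw [hsmul] at this
  simpa using this

end Cfsg.Agent.Helper5.GC
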