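import Mathlib
import Cfsg.Agent.Helper5.GCw
import Cfsg.Agent.Helper8.AS11
import Cfsg.Agent.Helper8.AS13
import Cfsg.Agent.Helper8.RationalValue
import Cfsg.Agent.S0925

/-!
# The shape of the principal block for a Sylow `p`-subgroup of order `p`: the cases `e = 1` and
`e = p - 1`
-/

set_option autoImplicit false

namespace Cfsg.Agent.Helper5.GC

open Cfsg Cfsg.Agent.Helper24 Cfsg.Agent.Helper5 Cfsg.Agent.Helper5.Loc Cfsg.Agent.Helper5.CC
  Subgroup

variable {G : Type*} [Group G] [Finite G]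

/-- The conclusion of the theorem on blocks with Sylow subgroup of prime order. -/
def BlockShape (p : ℕ) (M : Ideal AlgInt) (P : Sylow p G) (e : ℕ) : Prop :=
  ∃ X Y : Set (IrrCharacter G), principalBlock M G = X ∪ Y ∧ Disjoint X Y ∧ Nat.card X = e ∧
    Nat.card Y = (p - 1) / e ∧ ∃ (εX : IrrCharacter G → ℤ) (ε : ℤ),
      (∀ χ ∈ X, (εX χ = 1 ∨ εX χ = -1) ∧ (charDegree (χ : G → ℂ) : ℤ) ≡ εX χ [ZMOD p] ∧
        ∀ x : G, x ∈ (P : Subgroup G) → x ≠ 1 → ∀ y : G,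
          y ∈ centralizer ((P : Subgroup G) : Set G) → ¬ p ∣ orderOf y →
            (χ : G → ℂ) (x * y) = (εX χ : ℂ)) ∧
      (ε = 1 ∨ ε = -1) ∧ (∀ θ ∈ Y, (charDegree (θ : G → ℂ) : ℤ) ≡ ε * (e : ℤ) [ZMOD p]) ∧
      (∀ θ ∈ Y, ∀ θ' ∈ Y, ∀ g : G, ¬ p ∣ orderOf g → (θ : G → ℂ) g = (θ' : G → ℂ) g) ∧
      ∀ θ ∈ Y, ∀ g : G, ¬ p ∣ orderOf g →
        (ε : ℂ) * (θ : G → ℂ) g = ∑ᶠ χ ∈ X, (εX χ : ℂ) * (χ : G → ℂ) g

variable {p : ℕ} [hp : Fact p.Prime] {M : Ideal AlgInt}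

theorem charDegree_trivIrr : charDegree ((trivIrr G : IrrCharacter G) : G → ℂ) = 1 := by
  unfold charDegree
  simp

/-- The case `e = 1`. -/
theorem blockShape_one (hM : IsPModular p M) (P : Sylow p G) (hP : Nat.card P = p)
    (he : (centralizer ((P : Subgroup G) : Set G)).relIndex
      (normalizer ((P : Subgroup G) : Set G)) = 1) : BlockShape p M P 1 := by
  classical
  have hMp := isPrime_of_isPModular hM
  have hNC := Subgroup.relIndex_eq_one.mp he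
  obtain ⟨hcard, hdeg, hreg⟩ := pn_block hM P hP hNC
  have htriv : trivIrr G ∈ principalBlock M G := trivIrr_mem_principalBlock hMp
  refine ⟨{trivIrr G}, principalBlock M G \ {trivIrr G}, ?_, ?_, ?_, ?_, fun _ => 1, 1, ?_, Or.inl rfl,
    ?_, ?_, ?_⟩
  · rw [Set.union_sdiff_cancel (Set.singleton_subset_iff.mpr htriv)]
  · exact Set.disjoint_sdiff_right
  · rw [Nat.card_coe_set_eq, Set.ncard_singleton]
  · rw [Nat.card_coe_set_eq, Set.ncard_sdiff_singleton_of_mem htriv, ← Nat.card_coe_set_eq, hcard,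
      Nat.div_one]
  · intro χ hχ
    rw [Set.mem_singleton_iff] at hχ
    subst hχ
    refine ⟨Or.inl rfl, ?_, ?_⟩
    · rw [charDegree_trivIrr]; rfl
    · intro x _ _ y _ _
      simp
  · intro θ hθ
    rw [hdeg θ hθ.1]
    simp
  · intro θ hθ θ' hθ' g hg
    rw [hreg θ hθ.1 g hg, hreg θ' hθ'.1 g hg]
  · intro θ hθ g hg
    rw [finsum_mem_singleton, hreg θ hθ.1 g hg]
    simp

end Cfsg.Agent.Helper5.GC
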