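import Mathlib
import Cfsg.Agent.Helper5.GCx

/-!
# The shape of the principal block: the case `e = p - 1`
-/

set_option autoImplicit false

namespace Cfsg.Agent.Helper5.GC

open Cfsg Cfsg.Agent.Helper24 Cfsg.Agent.Helper5 Cfsg.Agent.Helper5.Loc Cfsg.Agent.Helper5.CC
  Subgroup

variable {G : Type*} [Group G] [Finite G] {p : ℕ} [hp : Fact p.Prime] {M : Ideal AlgInt}

theorem blockShape_pred (hM : IsPModular p M) (hodd : p ≠ 2) (P : Sylow p G)
    (hP : Nat.card P = p)
    (he : (centralizer ((P : Subgroup G) : Set G)).relIndex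
      (normalizer ((P : Subgroup G) : Set G)) = p - 1) : BlockShape p M P (p - 1) := by
  classical
  haveI : Fintype G := Fintype.ofFinite G
  haveI : Fintype (IrrCharacter G) := Fintype.ofFinite _
  have hMp := isPrime_of_isPModular hM
  have hp2 : 2 < p := lt_of_le_of_ne hp.out.two_le (Ne.symm hodd)
  have hab := isMulCommutative_of_card P hP
  have hfrob := fun y hy hy1 => centralizer_singleton_inf P hP y hy hy1
  obtain ⟨x, hx1, hxp, hPx⟩ := exists_generator P hP
  have hxP : x ∈ (P : Subgroup G) := by rw [hPx]; exact mem_zpowers x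
  have htriv : trivIrr G ∈ principalBlock M G := trivIrr_mem_principalBlock hMp
  have hpG : p ∣ Nat.card G := by
    have := Subgroup.card_subgroup_dvd_card (P : Subgroup G)
    rwa [show Nat.card (P : Subgroup G) = p from hP] at this
  -- conjugacy of the powers
  have hconj : ∀ (χ : IrrCharacter G) (k : ℕ), ¬ p ∣ k → (χ : G → ℂ) (x ^ k) = (χ : G → ℂ) x := by
    intro χ k hk
    obtain ⟨n, -, hn⟩ := exists_conj_pow P hP x hxP hx1 he k hk
    rw [← hn, isClassFunction_irr χ x n]
  -- integrality
  have hint : ∀ χ : IrrCharacter G, ∃ n : ℤ, (χ : G → ℂ) x = (n : ℂ) := by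
    intro χ
    apply Cfsg.Agent.Helper8.char_int_of_pow_invariant (IsIrrCharacter.isCharacter χ.2) x
    intro k hk
    apply hconj χ k
    intro hpk
    have : p ∣ Nat.gcd k (Nat.card G) := Nat.dvd_gcd hpk hpG
    rw [hk] at this
    exact hp.out.one_lt.ne' (Nat.dvd_one.mp this)
  choose n hn using hint
  have hn0 : ∀ χ ∈ principalBlock M G, n χ ≠ 0 := by
    intro χ hχ h0
    have := Cfsg.Agent.Helper8.AS.principal_apply_ne_zero hM χ hχ x
      (Cfsg.Agent.Helper8.AS.not_dvd_index_centralizer P hab hxP)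
    rw [hn χ, h0] at this
    simp at this
  -- the sum of squares
  have hsq := sum_sq_principal hM P hP x hxP hx1
  rw [finsum_mem_eq_sum_ite', ← Finset.sum_filter] at hsq
  have hsqZ : ∑ χ ∈ Finset.univ.filter (· ∈ principalBlock M G), (n χ) ^ 2 = (p : ℤ) := by
    have h1 : ∀ χ : IrrCharacter G, (χ : G → ℂ) x * (starRingEnd ℂ) ((χ : G → ℂ) x) =
        (((n χ) ^ 2 : ℤ) : ℂ) := by
      intro χ
      rw [hn χ, map_intCast]
      push_cast
      ring
    rw [Finset.sum_congr rfl fun χ _ => h1 χ, ← Int.cast_sum] at hsq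
    exact_mod_cast hsq
  have hcardF : (Finset.univ.filter (· ∈ principalBlock M G)).card =
      Nat.card (principalBlock M G) := by
    rw [Nat.card_eq_fintype_card, Fintype.card_subtype]
  have hge := card_principalBlock_ge p M hM P hP
  rw [he, Nat.div_self (by omega)] at hge
  have hge' : p ≤ (Finset.univ.filter (· ∈ principalBlock M G)).card := by
    rw [hcardF]; omega
  have hpos : ∀ χ ∈ Finset.univ.filter (· ∈ principalBlock M G), (1 : ℤ) ≤ (n χ) ^ 2 := by
    intro χ hχ
    have := hn0 χ (Finset.mem_filter.mp hχ).2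
    have h2 : 0 < (n χ) ^ 2 := by positivity
    omega
  have hle : ((Finset.univ.filter (· ∈ principalBlock M G)).card : ℤ) ≤ p := by
    rw [← hsqZ, Finset.card_eq_sum_ones]
    push_cast
    exact Finset.sum_le_sum hpos
  have hcard : (Finset.univ.filter (· ∈ principalBlock M G)).card = p := by
    have : (Finset.univ.filter (· ∈ principalBlock M G)).card ≤ p := by exact_mod_cast hle
    omega
  have hone : ∀ χ ∈ principalBlock M G, n χ = 1 ∨ n χ = -1 := by
    have hsum : ∑ χ ∈ Finset.univ.filter (· ∈ principalBlock M G), (1 : ℤ) =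
        ∑ χ ∈ Finset.univ.filter (· ∈ principalBlock M G), (n χ) ^ 2 := by
      rw [hsqZ, Finset.sum_const, hcard]
      simp
    have := (Finset.sum_eq_sum_iff_of_le hpos).mp hsum
    intro χ hχ
    have h1 := this χ (Finset.mem_filter.mpr ⟨Finset.mem_univ _, hχ⟩)
    have h2 : n χ * n χ = 1 := by rw [← pow_two]; exact h1.symm
    exact mul_self_eq_one_iff.mp h2
  have hntriv : n (trivIrr G) = 1 := by
    have := hn (trivIrr G)
    rw [trivIrr_apply] at this
    exact_mod_cast this.symm
  have hBcard : Nat.card (principalBlock M G) = p := by rw [← hcardF, hcard]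
  refine ⟨principalBlock M G \ {trivIrr G}, {trivIrr G}, ?_, ?_, ?_, ?_, n, -1, ?_, Or.inr rfl,
    ?_, ?_, ?_⟩
  · rw [Set.sdiff_union_self, Set.union_eq_self_of_subset_right (Set.singleton_subset_iff.mpr htriv)]
  · exact Set.disjoint_sdiff_left
  · rw [Nat.card_coe_set_eq, Set.ncard_sdiff_singleton_of_mem htriv, ← Nat.card_coe_set_eq, hBcard]
  · rw [Nat.card_coe_set_eq, Set.ncard_singleton, Nat.div_self (by omega)]
  · intro χ hχ
    refine ⟨hone χ hχ.1, ?_, ?_⟩
    · exact deg_modEq_of_apply hM χ x 1 (by rw [pow_one]; exact hxp) (n χ) (hn χ)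
    · intro x' hx'P hx'1 y hy hyreg
      have hcomm : Commute x' y := by
        rw [Subgroup.mem_centralizer_iff] at hy
        exact hy x' hx'P
      have hx'p : x' ^ p = 1 := by
        have := pow_card_eq_one' (G := (P : Subgroup G)) (x := ⟨x', hx'P⟩)
        rw [show Nat.card (P : Subgroup G) = p from hP] at this
        have := congrArg Subtype.val this
        simpa using this
      have hordx' : orderOf x' = p := by
        have h1 := orderOf_dvd_of_pow_eq_one hx'p
        rcases (Nat.dvd_prime hp.out).mp h1 with h | h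
        · exact absurd (orderOf_eq_one_iff.mp h) hx'1
        · exact h
      have hz : IsPPart p (x' * y) x' := ⟨y, rfl, hcomm, ⟨1, by rw [hordx', pow_one]⟩, hyreg⟩
      rw [Cfsg.Agent.Helper8.AS.const_section hM P hab hfrob χ hχ.1 (x' * y) x' hz hx'P hx'1]
      rw [hPx] at hx'P
      obtain ⟨k, rfl⟩ := exists_pow_of_mem_zpowers hx'P
      have hk : ¬ p ∣ k := by
        intro hpk
        apply hx'1
        obtain ⟨c, rfl⟩ := hpk
        rw [pow_mul, hxp, one_pow]
      rw [hconj χ k hk, hn χ]
  · intro θ hθ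
    rw [Set.mem_singleton_iff] at hθ
    subst hθ
    rw [charDegree_trivIrr]
    have h1 : 1 ≤ p := hp.out.one_lt.le
    rw [Int.modEq_iff_dvd]
    refine ⟨-1, ?_⟩
    push_cast [Nat.cast_sub h1]
    ring
  · intro θ hθ θ' hθ' g _
    rw [Set.mem_singleton_iff] at hθ hθ'
    rw [hθ, hθ']
  · intro θ hθ g hg
    rw [Set.mem_singleton_iff] at hθ
    subst hθ
    have hpp1 : IsPPart p x x :=
      Cfsg.Agent.Helper8.AS.isPPart_self_of_pow ⟨1, by
        have h1 := orderOf_dvd_of_pow_eq_one hxp
        rcases (Nat.dvd_prime hp.out).mp h1 with h | h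
        · exact absurd (orderOf_eq_one_iff.mp h) hx1
        · rw [h, pow_one]⟩ hp.out.ne_one
    have hpp2 : IsPPart p g⁻¹ 1 :=
      ⟨g⁻¹, one_mul _, Commute.one_left _, ⟨0, by rw [orderOf_one, pow_zero]⟩, by
        rw [orderOf_inv]; exact hg⟩
    have hnc : ¬ IsConj x 1 := fun h => hx1 (isConj_one_left.mp h)
    have horth := (Cfsg.Agent.S0925.result p M hM).2 x g⁻¹ x 1 hpp1 hpp2 hnc
      (principalBlock M G) isPBlock_principalBlock
    rw [inv_inv] at horth
    have hBeq : principalBlock M G = (principalBlock M G \ {trivIrr G}) ∪ {trivIrr G} := by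
      rw [Set.sdiff_union_self,
        Set.union_eq_self_of_subset_right (Set.singleton_subset_iff.mpr htriv)]
    rw [hBeq, finsum_mem_union Set.disjoint_sdiff_left (Set.toFinite _) (Set.toFinite _),
      finsum_mem_singleton, trivIrr_apply, trivIrr_apply, mul_one] at horth
    have h2 : ∑ᶠ χ ∈ principalBlock M G \ {trivIrr G}, (n χ : ℂ) * (χ : G → ℂ) g =
        ∑ᶠ χ ∈ principalBlock M G \ {trivIrr G}, (χ : G → ℂ) x * (χ : G → ℂ) g := by
      refine finsum_mem_congr rfl fun χ _ => ?_
      rw [hn χ]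
    rw [h2, trivIrr_apply]
    push_cast
    linear_combination -horth

end Cfsg.Agent.Helper5.GC
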