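import Mathlib
import Cfsg.Agent.Helper5.GCy
import Cfsg.Agent.S4709

/-!
# The shape of the principal block: the main case `1 < e < p - 1`, and the final theorem
-/

set_option autoImplicit false

namespace Cfsg.Agent.Helper5.GC

open Cfsg Cfsg.Agent.Helper24 Cfsg.Agent.Helper5 Cfsg.Agent.Helper5.Loc Cfsg.Agent.Helper5.CC
  Subgroup

variable {G : Type*} [Group G] [Finite G] {p : ℕ} [hp : Fact p.Prime] {M : Ideal AlgInt}

theorem blockShape_main (hM : IsPModular p M) (P : Sylow p G) (hP : Nat.card P = p) (e : ℕ)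
    (he : (centralizer ((P : Subgroup G) : Set G)).relIndex
      (normalizer ((P : Subgroup G) : Set G)) = e) (he1 : 1 < e) (he2 : e + 1 < p) :
    BlockShape p M P e := by
  classical
  haveI : Fintype G := Fintype.ofFinite G
  haveI : Fintype (IrrCharacter G) := Fintype.ofFinite _
  haveI hMax : M.IsMaximal := hM.2.1
  haveI : CharP (AlgInt ⧸ M) p := algInt_quot_charP p M hM
  have hab := isMulCommutative_of_card P hP
  have hP1 : Nat.card P ≠ 1 := by rw [hP]; exact hp.out.one_lt.ne'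
  have hm2 : e + 1 < Nat.card P := by rw [hP]; exact he2
  have hcyc := exists_cyclic_generator P (AlgInt ⧸ M) hP
  have hfrob := fun y hy hy1 => centralizer_singleton_inf P hP y hy hy1
  obtain ⟨s, X, Y, hs, hB, hdisj, hX, hY, -, a, d, δ, ζ, hδ, hXa, -, -, -, -, hnorm, hagree,
    hlin⟩ := Cfsg.Agent.S4709.result p M hM P hab hP1 e he1 hm2 he hcyc hfrob
  rw [hP] at hY hnorm hlin
  -- t
  obtain ⟨t, ht⟩ := relIndex_dvd_pred P hP
  rw [he] at ht
  have hdiv : (p - 1) / e = t := by rw [ht]; exact Nat.mul_div_cancel_left t (by omega)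
  have ht2 : 2 ≤ t := by
    by_contra hlt
    have : t = 0 ∨ t = 1 := by omega
    rcases this with h | h
    · rw [h, mul_zero] at ht; omega
    · rw [h, mul_one] at ht; omega
  rw [hdiv] at hY hlin
  have hdivZ : ((p : ℤ) - 1) / (e : ℤ) = (t : ℤ) := by
    have h1 : ((p : ℤ) - 1) = (e : ℤ) * (t : ℤ) := by
      have : 1 ≤ p := hp.out.one_lt.le
      rw [← Nat.cast_mul, ← ht]
      push_cast [Nat.cast_sub this]
      ring
    rw [h1]
    exact Int.mul_ediv_cancel_left _ (by exact_mod_cast (by omega : e ≠ 0))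
  rw [hdivZ] at hnorm
  -- s = e
  have hXfin : X.Finite := Set.toFinite X
  have hYfin : Y.Finite := Set.toFinite Y
  have hcardB : Nat.card (principalBlock M G) = s + t := by
    rw [hB, Nat.card_coe_set_eq, Set.ncard_union_eq hdisj hXfin hYfin, ← Nat.card_coe_set_eq,
      ← Nat.card_coe_set_eq, hX, hY]
  have hge := card_principalBlock_ge p M hM P hP
  rw [he, hdiv, hcardB] at hge
  have hse : s = e := by omega
  rw [hse] at hX
  -- the sum of squares
  set XF := hXfin.toFinset with hXF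
  have hXFcard : XF.card = e := by
    rw [← hX, Nat.card_coe_set_eq, Set.ncard_eq_toFinset_card X hXfin]
  have hmemXF : ∀ χ, χ ∈ XF ↔ χ ∈ X := fun χ => Set.Finite.mem_toFinset hXfin
  rw [finsum_mem_eq_finite_toFinset_sum _ hXfin] at hnorm
  have hpos : ∀ χ ∈ XF, (1 : ℤ) ≤ a χ ^ 2 := by
    intro χ hχ
    have := (hXa χ ((hmemXF χ).mp hχ)).1
    have h2 : 0 < a χ ^ 2 := by positivity
    omega
  have hsumge : (e : ℤ) ≤ ∑ χ ∈ XF, a χ ^ 2 := by
    have : ∑ χ ∈ XF, (1 : ℤ) ≤ ∑ χ ∈ XF, a χ ^ 2 := Finset.sum_le_sum hpos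
    rw [Finset.sum_const, hXFcard] at this
    simpa using this
  have hδ2 : δ ^ 2 = 1 := by rcases hδ with h | h <;> rw [h] <;> norm_num
  have hD : 1 ≤ (d - δ) ^ 2 + ((t : ℤ) - 1) * d ^ 2 := by
    by_cases hd0 : d = 0
    · rw [hd0]
      have : ((0 : ℤ) - δ) ^ 2 = 1 := by rw [zero_sub, neg_sq, hδ2]
      rw [this]; simp
    · have h1 : 1 ≤ d ^ 2 := by
        have : 0 < d ^ 2 := by positivity
        omega
      have h2 : (1 : ℤ) ≤ (t : ℤ) - 1 := by
        have : (2 : ℤ) ≤ (t : ℤ) := by exact_mod_cast ht2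
        omega
      nlinarith [sq_nonneg (d - δ)]
  have hnorm' : (d - δ) ^ 2 + ((t : ℤ) - 1) * d ^ 2 + ∑ χ ∈ XF, a χ ^ 2 = (e : ℤ) + 1 := hnorm
  have hsumeq : ∑ χ ∈ XF, a χ ^ 2 = (e : ℤ) := by linarith
  have hDeq : (d - δ) ^ 2 + ((t : ℤ) - 1) * d ^ 2 = 1 := by linarith
  have hone : ∀ χ ∈ X, a χ = 1 ∨ a χ = -1 := by
    have hsum : ∑ χ ∈ XF, (1 : ℤ) = ∑ χ ∈ XF, a χ ^ 2 := by
      rw [hsumeq, Finset.sum_const, hXFcard]; simp
    have := (Finset.sum_eq_sum_iff_of_le hpos).mp hsum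
    intro χ hχ
    have h1 := this χ ((hmemXF χ).mpr hχ)
    have h2 : a χ * a χ = 1 := by rw [← pow_two]; exact h1.symm
    exact mul_self_eq_one_iff.mp h2
  -- the sign ε
  set ε : ℤ := δ - (t : ℤ) * d with hε
  have hεpm : ε = 1 ∨ ε = -1 := by
    have hdle : d ^ 2 ≤ 1 := by
      have h2 : (1 : ℤ) ≤ (t : ℤ) - 1 := by
        have : (2 : ℤ) ≤ (t : ℤ) := by exact_mod_cast ht2
        omega
      nlinarith [sq_nonneg (d - δ)]
    have hdcases : d = -1 ∨ d = 0 ∨ d = 1 := by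
      have h1 : -1 ≤ d := by nlinarith
      have h2 : d ≤ 1 := by nlinarith
      omega
    rcases hdcases with hd | hd | hd <;> rcases hδ with hδ' | hδ' <;> rw [hd, hδ'] at hDeq <;>
      rw [hε, hd, hδ'] <;> norm_num at hDeq ⊢ <;> omega
  have hε2 : ε * ε = 1 := by rcases hεpm with h | h <;> rw [h] <;> norm_num
  -- a generator
  obtain ⟨x, hx1, hxp, hPx⟩ := exists_generator P hP
  have hxP : x ∈ (P : Subgroup G) := by rw [hPx]; exact mem_zpowers x
  have hordx : orderOf x = p := by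
    have h1 := orderOf_dvd_of_pow_eq_one hxp
    rcases (Nat.dvd_prime hp.out).mp h1 with h | h
    · exact absurd (orderOf_eq_one_iff.mp h) hx1
    · exact h
  have hpp : IsPPart p x x :=
    Cfsg.Agent.Helper8.AS.isPPart_self_of_pow ⟨1, by rw [hordx, pow_one]⟩ hp.out.ne_one
  have hdegX : ∀ χ ∈ X, (charDegree (χ : G → ℂ) : ℤ) ≡ a χ [ZMOD p] := by
    intro χ hχ
    exact deg_modEq_of_apply hM χ x 1 (by rw [pow_one]; exact hxp) (a χ)
      ((hXa χ hχ).2 x x hpp hxP hx1)
  -- the linear relation in `ℤ` at `g = 1`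
  have hreg1 : ¬ p ∣ orderOf (1 : G) := by
    rw [orderOf_one]; exact fun h => hp.out.one_lt.ne' (Nat.dvd_one.mp h)
  have hlinZ : ∀ θ ∈ Y, ε * (charDegree (θ : G → ℂ) : ℤ) =
      ∑ χ ∈ XF, a χ * (charDegree (χ : G → ℂ) : ℤ) := by
    intro θ hθ
    have h := hlin θ hθ 1 hreg1
    rw [finsum_mem_eq_finite_toFinset_sum _ hXfin] at h
    have hcastd : ∀ ψ : IrrCharacter G, (ψ : G → ℂ) 1 = ((charDegree (ψ : G → ℂ) : ℤ) : ℂ) := by
      intro ψ
      rw [irrDeg_spec, ← charDegree_irr]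
      push_cast
      rfl
    rw [hcastd θ, Finset.sum_congr rfl fun χ _ => by rw [hcastd χ]] at h
    have h' : (((t : ℤ) * d - δ) * (charDegree (θ : G → ℂ) : ℤ) +
        ∑ χ ∈ XF, a χ * (charDegree (χ : G → ℂ) : ℤ) : ℤ) = 0 := by
      have : ((((t : ℤ) * d - δ) * (charDegree (θ : G → ℂ) : ℤ) +
        ∑ χ ∈ XF, a χ * (charDegree (χ : G → ℂ) : ℤ) : ℤ) : ℂ) = 0 := by
        push_cast
        exact h
      exact_mod_cast this
    rw [hε]
    linear_combination -h'
  have hsumcong : (∑ χ ∈ XF, a χ * (charDegree (χ : G → ℂ) : ℤ)) ≡ (e : ℤ) [ZMOD p] := by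
    rw [← hsumeq]
    apply Int.ModEq.symm
    rw [Int.modEq_iff_dvd, ← Finset.sum_sub_distrib]
    apply Finset.dvd_sum
    intro χ hχ
    have h1 := (Int.modEq_iff_dvd.mp (hdegX χ ((hmemXF χ).mp hχ)))
    have : a χ * (charDegree (χ : G → ℂ) : ℤ) - a χ ^ 2 =
        - a χ * (a χ - (charDegree (χ : G → ℂ) : ℤ)) := by ring
    rw [this]
    exact Dvd.dvd.mul_left h1 _
  refine ⟨X, Y, hB, hdisj, hX, by rw [hdiv]; exact hY, a, ε, ?_, hεpm, ?_, hagree, ?_⟩
  · intro χ hχ
    refine ⟨hone χ hχ, hdegX χ hχ, ?_⟩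
    intro x' hx'P hx'1 y hy hyreg
    have hcomm : Commute x' y := by
      rw [Subgroup.mem_centralizer_iff] at hy
      exact hy x' hx'P
    have hx'p : x' ^ p = 1 := by
      have := pow_card_eq_one' (G := (P : Subgroup G)) (x := ⟨x', hx'P⟩)
      rw [show Nat.card (P : Subgroup G) = p from hP] at this
      have := congrArg Subtype.val this
      simpa using this
    have hordx' : orderOf x' = p := by
      have h1 := orderOf_dvd_of_pow_eq_one hx'p
      rcases (Nat.dvd_prime hp.out).mp h1 with h | h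
      · exact absurd (orderOf_eq_one_iff.mp h) hx'1
      · exact h
    exact (hXa χ hχ).2 (x' * y) x' ⟨y, rfl, hcomm, ⟨1, by rw [hordx', pow_one]⟩, hyreg⟩ hx'P hx'1
  · intro θ hθ
    have h1 := hlinZ θ hθ
    have h2 : ε * (charDegree (θ : G → ℂ) : ℤ) ≡ (e : ℤ) [ZMOD p] := by rw [h1]; exact hsumcong
    have h3 := h2.mul_left ε
    rw [← mul_assoc, hε2, one_mul] at h3
    exact h3
  · intro θ hθ g hg
    have h := hlin θ hθ g hg
    rw [hε]
    push_cast
    linear_combination -h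

/-- **The principal block of a group with Sylow `p`-subgroup of order `p`** (`p` odd). -/
theorem blockShape (hM : IsPModular p M) (hodd : p ≠ 2) (P : Sylow p G) (hP : Nat.card P = p)
    (e : ℕ) (he : (centralizer ((P : Subgroup G) : Set G)).relIndex
      (normalizer ((P : Subgroup G) : Set G)) = e) : BlockShape p M P e := by
  have hdvd := relIndex_dvd_pred P hP
  rw [he] at hdvd
  have hp2 : 2 < p := lt_of_le_of_ne hp.out.two_le (Ne.symm hodd)
  have hle : e ≤ p - 1 := Nat.le_of_dvd (by omega) hdvd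
  have he0 : e ≠ 0 := by
    intro h
    rw [h, zero_dvd_iff] at hdvd
    omega
  by_cases h1 : e = 1
  · subst h1
    exact blockShape_one hM P hP he
  by_cases h2 : e = p - 1
  · subst h2
    exact blockShape_pred hM hodd P hP he
  exact blockShape_main hM P hP e he (by omega) (by omega)

end Cfsg.Agent.Helper5.GC
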