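import Mathlib
import Cfsg.Agent.Helper29.EsnDefs

/-!
# S5877 piece QUAD: fibres of a nondegenerate quadratic exponent have at most two elements.
-/

set_option autoImplicit false

namespace Cfsg.Agent.S5877P

namespace QUAD

theorem two_mul_tri (j : ℕ) : 2 * (j * (j - 1) / 2) = j * (j - 1) :=
  Nat.two_mul_div_two_of_even (Nat.even_mul_pred_self j)

theorem cast_quad (r : ℕ) (k l j : ℕ) :
    (2 : ZMod r) * ((k * (j * (j - 1) / 2) + l * j : ℕ) : ZMod r) =
      (k : ZMod r) * ((j : ZMod r) * ((j : ZMod r) - 1)) + 2 * (l : ZMod r) * (j : ZMod r) := by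
  have h0 := two_mul_tri j
  have h1 : 2 * (k * (j * (j - 1) / 2) + l * j) = k * (j * (j - 1)) + 2 * l * j := by
    generalize j * (j - 1) / 2 = t at h0 ⊢
    rw [← h0]; ring
  have h3 : ((j * (j - 1) : ℕ) : ZMod r) = (j : ZMod r) * ((j : ZMod r) - 1) := by
    rcases Nat.eq_zero_or_pos j with h | h
    · subst h; simp
    · rw [Nat.cast_mul, Nat.cast_sub h, Nat.cast_one]
  have h2 : ((2 * (k * (j * (j - 1) / 2) + l * j) : ℕ) : ZMod r) =
      ((k * (j * (j - 1)) + 2 * l * j : ℕ) : ZMod r) := by rw [h1]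
  rw [Nat.cast_mul, Nat.cast_add (k * (j * (j - 1))), Nat.cast_mul k, h3] at h2
  rw [show ((2 : ℕ) : ZMod r) = 2 from by norm_num] at h2
  rw [h2]
  push_cast
  ring

end QUAD

theorem card_quad_fiber_le (r : ℕ) (hr : r.Prime) (hr2 : r ≠ 2) {M : Type*} [Group M] [DecidableEq M]
    (ζ : M) (hζ : ζ ^ r = 1) (k l : ℕ) (hk : ζ ^ k ≠ 1) (x : M) :
    ((Finset.range r).filter (fun j => ζ ^ (k * (j * (j - 1) / 2) + l * j) = x)).card ≤ 2 := by
  have : Fact r.Prime := ⟨hr⟩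
  have hζ1 : ζ ≠ 1 := by
    rintro rfl
    exact hk (one_pow k)
  have hord : orderOf ζ = r := orderOf_eq_prime hζ hζ1
  have hk0 : (k : ZMod r) ≠ 0 := by
    intro h0
    rw [ZMod.natCast_eq_zero_iff] at h0
    apply hk
    rw [← hord] at h0
    exact orderOf_dvd_iff_pow_eq_one.mp h0
  have h20 : (2 : ZMod r) ≠ 0 := by
    intro h0
    have h1 : ((2 : ℕ) : ZMod r) = 0 := by exact_mod_cast h0
    rw [ZMod.natCast_eq_zero_iff] at h1
    exact hr2 ((Nat.prime_dvd_prime_iff_eq hr Nat.prime_two).mp h1)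
  set S := (Finset.range r).filter (fun j => ζ ^ (k * (j * (j - 1) / 2) + l * j) = x) with hS
  rcases S.eq_empty_or_nonempty with hemp | ⟨j₀, hj₀⟩
  · rw [hemp]; simp
  have key : ∀ j ∈ S, (j : ZMod r) = (j₀ : ZMod r) ∨
      (j : ZMod r) = 1 - (j₀ : ZMod r) - 2 * (l : ZMod r) * (k : ZMod r)⁻¹ := by
    intro j hj
    have e1 : ζ ^ (k * (j * (j - 1) / 2) + l * j) = ζ ^ (k * (j₀ * (j₀ - 1) / 2) + l * j₀) := by
      rw [(Finset.mem_filter.mp hj).2, (Finset.mem_filter.mp hj₀).2]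
    rw [pow_eq_pow_iff_modEq, hord, ← ZMod.natCast_eq_natCast_iff] at e1
    have e2 : (2 : ZMod r) * ((k * (j * (j - 1) / 2) + l * j : ℕ) : ZMod r) =
        (2 : ZMod r) * ((k * (j₀ * (j₀ - 1) / 2) + l * j₀ : ℕ) : ZMod r) := by rw [e1]
    rw [QUAD.cast_quad, QUAD.cast_quad] at e2
    have e3 : ((j : ZMod r) - (j₀ : ZMod r)) *
        ((k : ZMod r) * ((j : ZMod r) + (j₀ : ZMod r) - 1) + 2 * (l : ZMod r)) = 0 := by
      linear_combination e2
    rcases mul_eq_zero.mp e3 with h | h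
    · left; exact sub_eq_zero.mp h
    · right
      have : (k : ZMod r) * ((j : ZMod r) - (1 - (j₀ : ZMod r) - 2 * (l : ZMod r) * (k : ZMod r)⁻¹)) = 0 := by
        have hkk : (k : ZMod r) * (k : ZMod r)⁻¹ = 1 := mul_inv_cancel₀ hk0
        linear_combination h + 2 * (l : ZMod r) * hkk
      rcases mul_eq_zero.mp this with h' | h'
      · exact absurd h' hk0
      · exact sub_eq_zero.mp h'
  classical
  have hinj : Set.InjOn (fun j : ℕ => (j : ZMod r)) (S : Set ℕ) := by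
    intro a ha b hb hab
    have ha' : a < r := Finset.mem_range.mp (Finset.mem_filter.mp ha).1
    have hb' : b < r := Finset.mem_range.mp (Finset.mem_filter.mp hb).1
    have h1 : a ≡ b [MOD r] := (ZMod.natCast_eq_natCast_iff _ _ _).mp hab
    exact Nat.ModEq.eq_of_lt_of_lt h1 ha' hb'
  have hmaps : ∀ j ∈ S, (fun j : ℕ => (j : ZMod r)) j ∈
      ({(j₀ : ZMod r), 1 - (j₀ : ZMod r) - 2 * (l : ZMod r) * (k : ZMod r)⁻¹} : Finset (ZMod r)) := by
    intro j hj
    rcases key j hj with h | h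
    · simp [h]
    · simp [h]
  calc S.card ≤ ({(j₀ : ZMod r), 1 - (j₀ : ZMod r) - 2 * (l : ZMod r) * (k : ZMod r)⁻¹} :
        Finset (ZMod r)).card := Finset.card_le_card_of_injOn _ hmaps hinj
    _ ≤ 2 := Finset.card_le_two

end Cfsg.Agent.S5877P
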