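import Mathlib
import Cfsg.Agent.Helper7.K2M.Defs
import Cfsg.Agent.Helper13.K2MSPDefs
import Cfsg.Agent.Helper4.K2MQB
import Cfsg.Agent.Helper27.K2MPERM

set_option autoImplicit false
set_option linter.unusedSectionVars false
set_option linter.unusedVariables false

/-! # S5694, `k = 2` minus blocks, chapter SPREAD (driver helper13), piece SP-CYC (helper5):
moving a block inside `Rad H u` by a 3-cycle of free blocks. -/

namespace Cfsg.Agent.K2M

open Matrix Cfsg.Agent.OC2P Cfsg.Agent.Helper28.Sg Cfsg.Agent.Helper28.Spin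
  Cfsg.Agent.Helper12.OrthGen

variable {F : Type*} [Field F] [Fintype F] {t : ℕ} {Q : QuadraticForm F (Fin t × Fin 2 → F)}
  {q : QuadraticForm F (Fin 2 → F)}

/-! ## SPCYC (M): moving a block inside `Rad H u` by a 3-cycle of free blocks.
`PERM.cycle3 bm hH (i := l) (j := l') (l := p)` gives `g ∈ H` with `g (binj m y) = binj (π m) y`,
`π = swap l l' ∘ swap l' p`, `π p = l`.  `g u = u`: by `QB.ext` and `PERM.bproj` (`bproj (π m) (g u) = bproj m u`;
`π` permutes `{p, l, l'}`, where `u` vanishes, and fixes every other block).  Then `Rad_conj'`. -/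
theorem SPCYC (bm : BM Q q) {H : Subgroup (OG Q)} (hH : HasMO H)
    {u : Fin t × Fin 2 → F} (hu : Q u = 0) {p l l' : Fin t} (h1 : p ≠ l) (h2 : p ≠ l')
    (h3 : l ≠ l') (hup : bproj p u = 0) (hul : bproj l u = 0) (hul' : bproj l' u = 0)
    (hp : ∀ y : Fin 2 → F, binj p y ∈ Rad H u hu) (y : Fin 2 → F) :
    binj l y ∈ Rad H u hu := by
  classical
  obtain ⟨g, hgH, -, hg⟩ := PERM.cycle3 bm hH (i := l) (j := l') (l := p) h3 h1.symm h2.symm
  set π : Equiv.Perm (Fin t) := (Equiv.swap l' p).trans (Equiv.swap l l') with hπ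
  have hπapp : ∀ m, π m = Equiv.swap l l' (Equiv.swap l' p m) := fun m => rfl
  have hg' : ∀ (m : Fin t) (y : Fin 2 → F), mt Q g *ᵥ binj m y = binj (π m) y := by
    intro m y
    rw [hg, hπapp]
  have hπp : π p = l := by
    rw [hπapp, Equiv.swap_apply_right, Equiv.swap_apply_right]
  have hπl' : π l' = p := by
    rw [hπapp, Equiv.swap_apply_left, Equiv.swap_apply_of_ne_of_ne h1 h2]
  have hπl : π l = l' := by
    rw [hπapp, Equiv.swap_apply_of_ne_of_ne h3 h1.symm, Equiv.swap_apply_left]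
  have hπo : ∀ m, m ≠ p → m ≠ l → m ≠ l' → π m = m := by
    intro m hmp hml hml'
    rw [hπapp, Equiv.swap_apply_of_ne_of_ne hml' hmp, Equiv.swap_apply_of_ne_of_ne hml hml']
  have hgu : mt Q g *ᵥ u = u := by
    apply QB.ext
    intro i
    obtain ⟨m, rfl⟩ := π.surjective i
    rw [PERM.bproj g π hg' u m]
    by_cases hmp : m = p
    · subst hmp; rw [hπp, hup, hul]
    by_cases hml : m = l
    · subst hml; rw [hπl, hul, hul']
    by_cases hml' : m = l'
    · subst hml'; rw [hπl', hul', hup]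
    rw [hπo m hmp hml hml']
  have hgv : mt Q g *ᵥ binj p y = binj l y := by rw [hg', hπp]
  exact Rad_conj' hgH (hp y) hu hgu hgv

end Cfsg.Agent.K2M
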