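import Mathlib
import Cfsg.Agent.Helper13.S2276Defs
import Cfsg.Agent.Helper23.S2276S3A
import Cfsg.Agent.Helper14.S2276S3B
import Cfsg.Agent.Helper14.S2276S3C
import Cfsg.Agent.Helper1.S2276FRAME
import Cfsg.Agent.Helper11.S2276PARITY
import Cfsg.Agent.Helper4.S2276SYMM

set_option autoImplicit false
set_option linter.unusedSectionVars false
set_option linter.unusedVariables false

/-! # S2276 piece SMALL3: `p = 3`, all parts `3` -/

namespace Cfsg.Agent.S2276P

open Equiv Equiv.Perm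

namespace SMALL3

theorem not_nodup_replicate {m : ℕ} (hm : 2 ≤ m) : ¬ (Multiset.replicate m 3).Nodup := by
  intro h
  have := Multiset.nodup_iff_count_le_one.mp h 3
  rw [Multiset.count_replicate_self] at this
  omega

/-- extend a good pair of types `3^a`, `3^b` on `Fin r` to types `3^(a+k)`, `3^(b+l)` on `Fin n`, with both parities -/
theorem extend {n r : ℕ} (hrn : r ≤ n) (hn5 : 5 ≤ n) (c v : Perm (Fin r)) (hG : Good 3 c v)
    (a b k l : ℕ) (hc : c.cycleType = Multiset.replicate a 3) (hv : v.cycleType = Multiset.replicate b 3)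
    (hk : 3 * k + r ≤ n) (hl : 3 * l + r ≤ n) (hpar : 2 ≤ a + k ∨ 2 ≤ b + l ∨ a + k = 1) :
    ∃ U W σ : Perm (Fin n), U.cycleType = Multiset.replicate (a + k) 3 ∧
      W.cycleType = Multiset.replicate (b + l) 3 ∧ Perm.sign σ = -1 ∧ Good 3 U W ∧
      Good 3 U (σ * W * σ⁻¹) := by
  have h2 : ∀ m : ℕ, ∀ y ∈ Multiset.replicate m 3, 2 ≤ y := by
    intro m y hy
    rw [Multiset.eq_of_mem_replicate hy]
    norm_num
  have hsum : ∀ m : ℕ, (Multiset.replicate m 3).sum = 3 * m := by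
    intro m
    rw [Multiset.sum_replicate, smul_eq_mul, mul_comm]
  obtain ⟨U, W, hU, hW, hUW, -⟩ := FRAME.main hrn Nat.prime_three c v (Multiset.replicate k 3)
    (Multiset.replicate l 3) (h2 k) (h2 l) (by rw [hsum]; exact hk) (by rw [hsum]; exact hl) hG
  rw [hc, ← Multiset.replicate_add] at hU
  rw [hv, ← Multiset.replicate_add] at hW
  have hpar' : ¬ (U.cycleType.Nodup ∧ n ≤ U.cycleType.sum + 1) ∨
      ¬ (W.cycleType.Nodup ∧ n ≤ W.cycleType.sum + 1) := by
    rcases hpar with h | h | h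
    · left
      rw [hU]
      exact fun hh => not_nodup_replicate h hh.1
    · right
      rw [hW]
      exact fun hh => not_nodup_replicate h hh.1
    · left
      rw [hU, h, hsum]
      intro hh
      omega
  obtain ⟨σ, hσ, hσG⟩ := PARITY.main U W hUW hpar'
  exact ⟨U, W, σ, hU, hW, hσ, hUW, hσG⟩

end SMALL3

theorem SMALL3.main {n : ℕ} (hn : 5 ≤ n) (i j : ℕ) (hi : 1 ≤ i) (hj : 1 ≤ j) (hin : 3 * i ≤ n)
    (hjn : 3 * j ≤ n) :
    ∃ U W σ : Perm (Fin n), U.cycleType = Multiset.replicate i 3 ∧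
      W.cycleType = Multiset.replicate j 3 ∧ Perm.sign σ = -1 ∧ Good 3 U W ∧
      Good 3 U (σ * W * σ⁻¹) := by
  have e1 : ({3} : Multiset ℕ) = Multiset.replicate 1 3 := (Multiset.replicate_one 3).symm
  have e2 : ({3, 3} : Multiset ℕ) = Multiset.replicate 2 3 := by decide
  rcases Nat.lt_or_ge i 2 with hi2 | hi2
  · have hi1 : i = 1 := by omega
    subst hi1
    rcases Nat.lt_or_ge j 2 with hj2 | hj2
    · have hj1 : j = 1 := by omega
      subst hj1
      obtain ⟨U₀, W₀, hU₀, hW₀, hG⟩ := S3A.main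
      rw [e1] at hU₀ hW₀
      exact SMALL3.extend hn hn U₀ W₀ hG 1 1 0 0 hU₀ hW₀ (by omega) (by omega) (Or.inr (Or.inr rfl))
    · obtain ⟨l, rfl⟩ : ∃ l, j = 2 + l := ⟨j - 2, by omega⟩
      obtain ⟨U₀, W₀, hU₀, hW₀, hG⟩ := S3C.main
      rw [e2] at hU₀
      rw [e1] at hW₀
      exact SMALL3.extend (by omega) hn W₀ U₀ (SYMM.main hG) 1 2 0 l hW₀ hU₀ (by omega) (by omega)
        (Or.inr (Or.inr rfl))
  · obtain ⟨k, rfl⟩ : ∃ k, i = 2 + k := ⟨i - 2, by omega⟩
    rcases Nat.lt_or_ge j 2 with hj2 | hj2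
    · have hj1 : j = 1 := by omega
      subst hj1
      obtain ⟨U₀, W₀, hU₀, hW₀, hG⟩ := S3C.main
      rw [e2] at hU₀
      rw [e1] at hW₀
      exact SMALL3.extend (by omega) hn U₀ W₀ hG 2 1 k 0 hU₀ hW₀ (by omega) (by omega)
        (Or.inl (by omega))
    · obtain ⟨l, rfl⟩ : ∃ l, j = 2 + l := ⟨j - 2, by omega⟩
      obtain ⟨U₀, W₀, hU₀, hW₀, hG⟩ := S3B.main
      rw [e2] at hU₀ hW₀
      exact SMALL3.extend (by omega) hn U₀ W₀ hG 2 2 k l hU₀ hW₀ (by omega) (by omega)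
        (Or.inl (by omega))

end Cfsg.Agent.S2276P
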