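import Mathlib
import Cfsg.Prelude.Def_Blocks
import Cfsg.Agent.S0907
import Cfsg.Agent.S0910
import Cfsg.Agent.Helper24.DefectZero
import Cfsg.Agent.Helper24.SmallDegree
import Cfsg.Agent.Helper24.RealChar
import Cfsg.Agent.Helper24.Linear

/-!
# Brauer–Tuan: self-centralizing Sylow subgroups of prime order in simple groups of order
`p ^ a * q ^ b * r`
-/

set_option autoImplicit false

namespace Cfsg.Agent.Helper5.BT

open Cfsg Cfsg.Agent.Helper24 Cfsg.Agent.Helper5 Cfsg.Agent.Helper5.Loc Cfsg.Agent.Helper5.CC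

/-- In a non-abelian simple group of order `ℓ ^ a * q ^ b * r`, no element of order `ℓ` commutes
with an element of order `r`. -/
theorem no_commuting {G : Type*} [Group G] [Finite G] [IsSimpleGroup G]
    (hna : ∃ a b : G, a * b ≠ b * a)
    (ℓ q r a b : ℕ) (hℓ : ℓ.Prime) (hq : q.Prime) (hr : r.Prime) (hℓr : ℓ ≠ r) (hqr : q ≠ r)
    (hcard : Nat.card G = ℓ ^ a * q ^ b * r) (x y : G) (hx : orderOf x = r) (hy : orderOf y = ℓ)
    (hxy : Commute x y) : False := by
  classical
  haveI : Fintype G := Fintype.ofFinite G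
  haveI : Fintype (IrrCharacter G) := Fintype.ofFinite _
  haveI : Fact ℓ.Prime := ⟨hℓ⟩
  obtain ⟨M, hM⟩ := exists_isPModular ℓ hℓ
  set B := principalBlock M G with hBdef
  have hB : IsPBlock M B := ⟨trivIrr G, rfl⟩
  have hcop : Nat.Coprime (orderOf x) (orderOf y) := by
    rw [hx, hy]
    exact (Nat.coprime_primes hr hℓ).mpr (Ne.symm hℓr)
  have hord : orderOf (x * y) = r * ℓ := by
    rw [hxy.orderOf_mul_eq_mul_orderOf_of_coprime hcop, hx, hy]
  have h0 := Cfsg.Agent.S0907.result ℓ M hM B hB 1 (x * y)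
    (by rw [orderOf_one]; exact hℓ.one_lt.ne' ∘ Nat.dvd_one.mp)
    (by rw [hord]; exact dvd_mul_left ℓ r)
  rw [finsum_mem_eq_finite_toFinset_sum _ (Set.toFinite B)] at h0
  have htriv : trivIrr G ∈ (Set.toFinite B).toFinset := by
    rw [Set.Finite.mem_toFinset]
    exact mem_blockOf_self (isPrime_of_isPModular hM) (trivIrr G)
  rw [← Finset.add_sum_erase _ _ htriv] at h0
  have hr2 : ¬ r ^ 2 ∣ Nat.card G := by
    intro h
    rw [hcard, pow_two] at h
    have h1 : r ∣ ℓ ^ a * q ^ b := Nat.dvd_of_mul_dvd_mul_right hr.pos h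
    rcases (Nat.Prime.dvd_mul hr).mp h1 with h2 | h2
    · exact hℓr ((Nat.prime_dvd_prime_iff_eq hr hℓ).mp (hr.dvd_of_dvd_pow h2)).symm
    · exact hqr ((Nat.prime_dvd_prime_iff_eq hr hq).mp (hr.dvd_of_dvd_pow h2)).symm
  have hr1 : r ^ 1 ∣ Nat.card G := by
    rw [hcard, pow_one]; exact dvd_mul_left r _
  -- every other term is a multiple of `q`
  have hterm : ∀ χ ∈ ((Set.toFinite B).toFinset).erase (trivIrr G),
      ∃ α : ℂ, IsIntegral ℤ α ∧
        (χ : G → ℂ) 1 * (starRingEnd ℂ) ((χ : G → ℂ) (x * y)) = (q : ℂ) * α := by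
    intro χ hχ
    rw [Finset.mem_erase, Set.Finite.mem_toFinset] at hχ
    obtain ⟨hχ1, hχB⟩ := hχ
    have hint : IsIntegral ℤ ((starRingEnd ℂ) ((χ : G → ℂ) (x * y))) := by
      rw [← irr_inv]
      exact irr_isIntegral χ _
    have hdvd := irrDeg_dvd_card χ
    by_cases hqd : q ∣ irrDeg χ
    · obtain ⟨m, hm⟩ := hqd
      refine ⟨(m : ℂ) * (starRingEnd ℂ) ((χ : G → ℂ) (x * y)), ?_, ?_⟩
      · have hm' : IsIntegral ℤ ((m : ℂ)) := by
          have := isIntegral_algebraMap (R := ℤ) (A := ℂ) (x := (m : ℤ))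
          simpa using this
        exact IsIntegral.mul hm' hint
      · rw [irrDeg_spec, hm]; push_cast; ring
    · have hd2 : irrDeg χ ∣ ℓ ^ a * r := by
        rw [hcard] at hdvd
        have hc : Nat.Coprime (irrDeg χ) (q ^ b) :=
          Nat.Coprime.pow_right b ((Nat.Prime.coprime_iff_not_dvd hq).mpr hqd).symm
        have : irrDeg χ ∣ q ^ b * (ℓ ^ a * r) := by
          convert hdvd using 1; ring
        exact hc.dvd_of_dvd_mul_left this
      by_cases hrd : r ∣ irrDeg χ
      · refine ⟨0, isIntegral_zero, ?_⟩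
        have := irr_eq_zero_of_defect_zero χ r 1 (irrDeg χ) hr hr1 hr2 (irrDeg_spec χ)
          (by rw [pow_one]; exact hrd) (x * y) (by rw [hord]; exact dvd_mul_right r ℓ)
        rw [this]; simp
      · exfalso
        have hc : Nat.Coprime (irrDeg χ) r :=
          ((Nat.Prime.coprime_iff_not_dvd hr).mpr hrd).symm
        have hd3 : irrDeg χ ∣ ℓ ^ a := hc.dvd_of_dvd_mul_right hd2
        obtain ⟨k, -, hk⟩ := (Nat.dvd_prime_pow hℓ).mp hd3
        have hdeg : (χ : G → ℂ) 1 = (ℓ : ℂ) ^ k := by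
          rw [irrDeg_spec, hk]; push_cast; rfl
        have := Cfsg.Agent.S0910.result ℓ M hM hna χ hχB k hdeg
        apply hχ1
        apply Subtype.ext
        exact this
  choose! α hα using hterm
  have hsum : ∑ χ ∈ ((Set.toFinite B).toFinset).erase (trivIrr G),
      (χ : G → ℂ) 1 * (starRingEnd ℂ) ((χ : G → ℂ) (x * y)) =
      (q : ℂ) * ∑ χ ∈ ((Set.toFinite B).toFinset).erase (trivIrr G), α χ := by
    rw [Finset.mul_sum]
    exact Finset.sum_congr rfl fun χ hχ => (hα χ hχ).2
  have hAint : IsIntegral ℤ (∑ χ ∈ ((Set.toFinite B).toFinset).erase (trivIrr G), α χ) :=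
    IsIntegral.sum _ fun χ hχ => (hα χ hχ).1
  set A := ∑ χ ∈ ((Set.toFinite B).toFinset).erase (trivIrr G), α χ with hA
  have h1 : (1 : ℂ) + (q : ℂ) * A = 0 := by
    have e : (trivIrr G : G → ℂ) 1 * (starRingEnd ℂ) ((trivIrr G : G → ℂ) (x * y)) = 1 := by
      simp
    rw [← e, ← hsum]
    exact h0
  have hq0 : (q : ℂ) ≠ 0 := by exact_mod_cast hq.ne_zero
  have hAq : A = ((-(1 : ℚ) / (q : ℚ) : ℚ) : ℂ) := by
    push_cast
    field_simp
    linear_combination h1
  rw [hAq] at hAint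
  obtain ⟨m, hm⟩ := exists_int_of_isIntegral_ratCast hAint
  have hq0' : (q : ℚ) ≠ 0 := by exact_mod_cast hq.ne_zero
  have h2 : (q : ℚ) * m = -1 := by
    rw [← hm]; field_simp
  have h3 : (q : ℤ) * m = -1 := by exact_mod_cast h2
  have h4 : (q : ℤ) ∣ 1 := ⟨-m, by linarith⟩
  have h5 : q ∣ 1 := by exact_mod_cast h4
  exact hq.one_lt.ne' (Nat.dvd_one.mp h5)

/-- The commutative case. -/
theorem centralizer_eq_zpowers_of_comm {G : Type*} [Group G] [IsSimpleGroup G]
    (hab : ∀ a b : G, a * b = b * a) (x : G) (hx1 : x ≠ 1) :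
    Subgroup.centralizer ({x} : Set G) = Subgroup.zpowers x := by
  have hle : Subgroup.zpowers x ≤ Subgroup.centralizer ({x} : Set G) := by
    rw [Subgroup.zpowers_le, Subgroup.mem_centralizer_iff]
    intro y hy
    rw [Set.mem_singleton_iff] at hy
    rw [hy]
  have hn : (Subgroup.zpowers x).Normal := ⟨fun n hn g => by
    rw [hab g n, mul_inv_cancel_right]; exact hn⟩
  rcases hn.eq_bot_or_eq_top with h | h
  · exfalso
    apply hx1
    have := Subgroup.mem_zpowers x
    rw [h, Subgroup.mem_bot] at this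
    exact this
  · rw [h] at hle ⊢
    exact top_le_iff.mp hle

/-- **Brauer–Tuan.** In a simple group of order `p ^ a * q ^ b * r` an element of order `r`
is self-centralizing. -/
theorem centralizer_eq_zpowers {G : Type*} [Group G] [Finite G] [IsSimpleGroup G]
    (p q r a b : ℕ) (hp : p.Prime) (hq : q.Prime) (hr : r.Prime) (hpr : p ≠ r) (hqr : q ≠ r)
    (hcard : Nat.card G = p ^ a * q ^ b * r) (x : G) (hx : orderOf x = r) :
    Subgroup.centralizer ({x} : Set G) = Subgroup.zpowers x := by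
  classical
  have hx1 : x ≠ 1 := by
    intro h
    rw [h, orderOf_one] at hx
    exact hr.one_lt.ne hx
  have hle : Subgroup.zpowers x ≤ Subgroup.centralizer ({x} : Set G) := by
    rw [Subgroup.zpowers_le, Subgroup.mem_centralizer_iff]
    intro y hy
    rw [Set.mem_singleton_iff] at hy
    rw [hy]
  by_cases hab : ∀ a b : G, a * b = b * a
  · have hn : (Subgroup.zpowers x).Normal := ⟨fun n hn g => by
      rw [hab g n, mul_inv_cancel_right]; exact hn⟩
    rcases hn.eq_bot_or_eq_top with h | h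
    · exfalso
      apply hx1
      have := Subgroup.mem_zpowers x
      rw [h, Subgroup.mem_bot] at this
      exact this
    · rw [h] at hle ⊢
      exact top_le_iff.mp hle
  · have hna : ∃ a b : G, a * b ≠ b * a := by
      push Not at hab
      exact hab
    by_contra hne
    set C := Subgroup.centralizer ({x} : Set G) with hC
    have hcz : Nat.card (Subgroup.zpowers x) = r := by rw [Nat.card_zpowers, hx]
    have hdvd1 : r ∣ Nat.card C := by
      rw [← hcz]; exact Subgroup.card_dvd_of_le hle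
    obtain ⟨m, hm⟩ := hdvd1
    have hm1 : m ≠ 1 := by
      intro h
      apply hne
      symm
      apply Subgroup.eq_of_le_of_card_ge hle
      rw [hcz, hm, h, mul_one]
    have hm0 : m ≠ 0 := by
      intro h
      rw [h, mul_zero] at hm
      exact (Nat.card_pos (α := C)).ne' hm
    obtain ⟨ℓ, hℓ, hℓm⟩ := Nat.exists_prime_and_dvd hm1
    have hCG : Nat.card C ∣ Nat.card G := Subgroup.card_subgroup_dvd_card C
    have hmG : m ∣ p ^ a * q ^ b := by
      rw [hm, hcard, mul_comm r m] at hCG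
      exact Nat.dvd_of_mul_dvd_mul_right hr.pos hCG
    have hℓpq : ℓ ∣ p ^ a * q ^ b := dvd_trans hℓm hmG
    haveI : Fact ℓ.Prime := ⟨hℓ⟩
    have hℓC : ℓ ∣ Nat.card C := by rw [hm]; exact dvd_mul_of_dvd_right hℓm r
    obtain ⟨y, hy⟩ := exists_prime_orderOf_dvd_card' ℓ hℓC
    have hy' : orderOf (y : G) = ℓ := by rw [Subgroup.orderOf_coe]; exact hy
    have hcomm : Commute x (y : G) := by
      have := Subgroup.mem_centralizer_iff.mp y.2 x rfl
      exact this
    rcases (Nat.Prime.dvd_mul hℓ).mp hℓpq with h | h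
    · have hℓp : ℓ = p := (Nat.prime_dvd_prime_iff_eq hℓ hp).mp (hℓ.dvd_of_dvd_pow h)
      subst hℓp
      exact no_commuting hna ℓ q r a b hℓ hq hr hpr hqr hcard x y hx hy' hcomm
    · have hℓq : ℓ = q := (Nat.prime_dvd_prime_iff_eq hℓ hq).mp (hℓ.dvd_of_dvd_pow h)
      subst hℓq
      have hcard' : Nat.card G = ℓ ^ b * p ^ a * r := by rw [hcard]; ring
      exact no_commuting hna ℓ p r b a hℓ hp hr hqr hpr hcard' x y hx hy' hcomm

end Cfsg.Agent.Helper5.BT
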