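import Mathlib
import Cfsg.Agent.Helper1.S4503Defs

/-!
# S0999 (Brauer–Reynolds: simple groups of order `< p³`): shared definitions

`|P| = p`, `C = C_G(P)`, `N = N_G(P)`, `f = fN P = |N : C|` (`Cfsg.Agent.S4503P.fN`).
`B0Full p P`: Brauer's description of the principal `p`-block for a Sylow subgroup of order `p`
whose centraliser is arbitrary, in the case `f ≠ p - 1` (at least two exceptional characters):
degrees modulo `p`, the degree relation, and the alternative "all `p`-regular elements of `C` lie in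
the kernel, or the degree is at least `p`".
-/

set_option autoImplicit false

namespace Cfsg.Agent.S0999P

open Cfsg Cfsg.Agent.Helper24 Cfsg.Agent.S4503P

universe u

variable {G : Type u} [Group G] [Finite G]

/-- The principal block of a group with a Sylow subgroup of order `p` (non-exceptional characters
`X` with signs `δ`, exceptional characters `Y` with sign `ε`). -/
structure B0Full (p : ℕ) (P : Sylow p G) where
  X : Finset (IrrCharacter G)
  Y : Finset (IrrCharacter G)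
  δ : IrrCharacter G → ℤ
  ε : ℤ
  hε : ε = 1 ∨ ε = -1
  card_X : X.card = fN (P : Subgroup G)
  card_Y : Y.card * fN (P : Subgroup G) = p - 1
  disj : Disjoint X Y
  triv_mem : trivIrr G ∈ X
  δ_triv : δ (trivIrr G) = 1
  δ_pm : ∀ χ ∈ X, δ χ = 1 ∨ δ χ = -1
  deg_X : ∀ χ ∈ X, (irrDeg χ : ℤ) ≡ δ χ [ZMOD p]
  deg_Y : ∀ ψ ∈ Y, (irrDeg ψ : ℤ) ≡ ε * (fN (P : Subgroup G) : ℤ) [ZMOD p]
  rel_one : ∀ ψ ∈ Y, ∑ χ ∈ X, δ χ * (irrDeg χ : ℤ) = ε * (irrDeg ψ : ℤ)
  big : ∀ χ : IrrCharacter G, χ ∈ X ∨ χ ∈ Y →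
    (∀ c ∈ Subgroup.centralizer ((P : Subgroup G) : Set G), ¬ p ∣ orderOf c →
      (χ : G → ℂ) c = (χ : G → ℂ) 1) ∨ p ≤ irrDeg χ

end Cfsg.Agent.S0999P
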