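import Mathlib
import Cfsg.Agent.Helper5.S0999Defs
import Cfsg.Agent.Helper1.D1PA
import Cfsg.Agent.Helper11.D1QL
import Cfsg.Agent.Helper11.D1QCc
import Cfsg.Agent.Helper18.D1QO
import Cfsg.Agent.Helper8.CharComp
import Cfsg.Agent.Helper24.Expansion

/-!
# S0999, piece DEGP: a character of the principal block either has all `p`-regular elements of
`C_G(P)` in its kernel or has degree at least `p`
-/

set_option autoImplicit false

namespace Cfsg.Agent.S0999P

open Cfsg Cfsg.Agent.Helper24 Cfsg.Agent.Helper8.D1 Cfsg.Agent.S4705P Cfsg.Agent.S4503P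
  Cfsg.Agent.Helper11.D1QC Cfsg.Agent.Helper11.D1QL Cfsg.Agent.Helper18.D1QO
open scoped ComplexConjugate

universe u

variable {G : Type u} [Group G] [Finite G]

/-- DEGP: a character all of whose "non-principal" generalized decomposition numbers vanish either
has all `p`-regular elements of `C_G(P)` in its kernel or has degree at least `p`. -/
theorem deg_ge_of_dnum_zero (p : ℕ) [Fact p.Prime] (P : Sylow p G) (hP : Nat.card P = p)
    (χ : IrrCharacter G)
    (hZ : ∀ φ : IrrCharacter (Subgroup.centralizer ((P : Subgroup G) : Set G)),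
      (∀ x : Subgroup.centralizer ((P : Subgroup G) : Set G), (x : G) ∈ (P : Subgroup G) →
        (φ : Subgroup.centralizer ((P : Subgroup G) : Set G) → ℂ) x =
          (φ : Subgroup.centralizer ((P : Subgroup G) : Set G) → ℂ) 1) →
      (∃ c, (φ : Subgroup.centralizer ((P : Subgroup G) : Set G) → ℂ) c ≠ 1) →
      ∀ μ, IsPLin p μ → Dnum (Subgroup.centralizer ((P : Subgroup G) : Set G)) μ
        (φ : Subgroup.centralizer ((P : Subgroup G) : Set G) → ℂ) (χ : G → ℂ) = 0) :
    (∀ c ∈ Subgroup.centralizer ((P : Subgroup G) : Set G), ¬ p ∣ orderOf c →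
      (χ : G → ℂ) c = (χ : G → ℂ) 1) ∨ p ≤ irrDeg χ := by
  classical
  have hp : p.Prime := Fact.out
  obtain ⟨hZ1, hZc, hZi⟩ := subgroupOf_facts P hP
  have hcardL0 : Nat.card (Lty p (P : Subgroup G)) = p := card_pLin _ hZ1 hZc hZi
  have : Finite (Lty p (P : Subgroup G)) :=
    Nat.finite_of_card_ne_zero (by rw [hcardL0]; exact hp.ne_zero)
  let _ : Fintype (Subgroup.centralizer ((P : Subgroup G) : Set G)) := Fintype.ofFinite _
  have : Fintype (IrrCharacter (Subgroup.centralizer ((P : Subgroup G) : Set G))) :=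
    Fintype.ofFinite _
  have : Fintype (Lty p (P : Subgroup G)) := Fintype.ofFinite _
  have : Fintype (Tty (P : Subgroup G)) := Fintype.ofFinite _
  let _ : Fintype (P : Subgroup G) := Fintype.ofFinite _
  -- the expansion of `χ|_C`
  have hres : IsCharacter (Subgroup.centralizer ((P : Subgroup G) : Set G))
      (fun c : Subgroup.centralizer ((P : Subgroup G) : Set G) => (χ : G → ℂ) c) :=
    Cfsg.Agent.Helper8.isCharacter_restrict _ (IsIrrCharacter.isCharacter χ.2)
  obtain ⟨n, hn⟩ := IsCharacter.exists_nat_coeff hres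
  have hnval : ∀ ξ : IrrCharacter (Subgroup.centralizer ((P : Subgroup G) : Set G)),
      classInner (fun c : Subgroup.centralizer ((P : Subgroup G) : Set G) => (χ : G → ℂ) c)
        (ξ : Subgroup.centralizer ((P : Subgroup G) : Set G) → ℂ) = (n ξ : ℂ) := by
    intro ξ
    rw [hn]
    exact classInner_sum_irr _ ξ
  have hpt : ∀ c : Subgroup.centralizer ((P : Subgroup G) : Set G), (χ : G → ℂ) c =
      ∑ θ' : Tty (P : Subgroup G), ∑ μ : Lty p (P : Subgroup G), (n (mulIrr μ θ'.1) : ℂ) *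
        (μ.1 c * (θ'.1 : Subgroup.centralizer ((P : Subgroup G) : Set G) → ℂ) c) := by
    intro c
    have h1 := congrFun hn c
    simp only [Finset.sum_apply, Pi.smul_apply, smul_eq_mul] at h1
    rw [h1, sum_irr_eq_sum_prod P hP]
    rfl
  -- the trivial `p`-linear function
  let μ₁ : Lty p (P : Subgroup G) := ⟨fun _ => 1, isPLin_one p⟩
  have hμ₁ : ∀ θ : IrrCharacter (Subgroup.centralizer ((P : Subgroup G) : Set G)),
      mulIrr μ₁ θ = θ := by
    intro θ
    apply Subtype.ext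
    funext c
    show (1 : ℂ) * _ = _
    rw [one_mul]
  have hμne : ∀ μ : Lty p (P : Subgroup G), μ ≠ μ₁ → ∃ x, μ.1 x ≠ 1 := by
    intro μ hne
    by_contra h
    push Not at h
    apply hne
    apply Subtype.ext
    funext x
    exact h x
  -- multiplicities along a nontrivial `θ'` are constant
  have hconst : ∀ θ' : Tty (P : Subgroup G),
      (∃ c, (θ'.1 : Subgroup.centralizer ((P : Subgroup G) : Set G) → ℂ) c ≠ 1) →
      ∀ μ : Lty p (P : Subgroup G), n (mulIrr μ θ'.1) = n θ'.1 := by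
    intro θ' hne μ
    have h1 := hZ θ'.1 (fun x hx => θ'.2 x (Subgroup.mem_subgroupOf.mpr hx)) hne μ.1 μ.2
    rw [Dnum_eq_mult, mult_eq, mult_eq] at h1
    have h2 := hnval (mulIrr μ θ'.1)
    have h3 := hnval θ'.1
    have h4 : ((n (mulIrr μ θ'.1) : ℕ) : ℂ) = (n θ'.1 : ℂ) := by
      rw [← h2, ← h3]
      exact sub_eq_zero.mp h1
    exact_mod_cast h4
  -- the degree
  have hdeg : irrDeg χ = ∑ θ' : Tty (P : Subgroup G), ∑ μ : Lty p (P : Subgroup G),
      n (mulIrr μ θ'.1) * irrDeg θ'.1 := by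
    have e2 := hpt 1
    rw [Subgroup.coe_one, irrDeg_spec] at e2
    have : ((irrDeg χ : ℕ) : ℂ) = ((∑ θ' : Tty (P : Subgroup G), ∑ μ : Lty p (P : Subgroup G),
        n (mulIrr μ θ'.1) * irrDeg θ'.1 : ℕ) : ℂ) := by
      rw [e2]
      push_cast
      refine Finset.sum_congr rfl fun θ' _ => Finset.sum_congr rfl fun μ _ => ?_
      rw [μ.2.one, one_mul, irrDeg_spec]
    exact_mod_cast this
  by_cases hex : ∃ θ' : Tty (P : Subgroup G),
      (∃ c, (θ'.1 : Subgroup.centralizer ((P : Subgroup G) : Set G) → ℂ) c ≠ 1) ∧ n θ'.1 ≠ 0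
  · right
    obtain ⟨θ₀, hθ₀, hn₀⟩ := hex
    rw [hdeg]
    have h1 : ∑ μ : Lty p (P : Subgroup G), n (mulIrr μ θ₀.1) * irrDeg θ₀.1 ≤
        ∑ θ' : Tty (P : Subgroup G), ∑ μ : Lty p (P : Subgroup G),
          n (mulIrr μ θ'.1) * irrDeg θ'.1 :=
      Finset.single_le_sum (f := fun θ' : Tty (P : Subgroup G) =>
        ∑ μ : Lty p (P : Subgroup G), n (mulIrr μ θ'.1) * irrDeg θ'.1)
        (fun _ _ => Nat.zero_le _) (Finset.mem_univ θ₀)
    refine le_trans ?_ h1
    have h2 : ∑ μ : Lty p (P : Subgroup G), n (mulIrr μ θ₀.1) * irrDeg θ₀.1 =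
        p * (n θ₀.1 * irrDeg θ₀.1) := by
      have : ∀ μ : Lty p (P : Subgroup G), n (mulIrr μ θ₀.1) * irrDeg θ₀.1 =
          n θ₀.1 * irrDeg θ₀.1 := fun μ => by rw [hconst θ₀ hθ₀ μ]
      simp_rw [this]
      rw [Finset.sum_const, Finset.card_univ, ← Nat.card_eq_fintype_card, hcardL0, smul_eq_mul]
    rw [h2]
    have h3 : 1 ≤ n θ₀.1 * irrDeg θ₀.1 :=
      Nat.one_le_iff_ne_zero.mpr (Nat.mul_ne_zero hn₀ (irrDeg_pos θ₀.1).ne')
    calc p = p * 1 := (mul_one p).symm
      _ ≤ p * (n θ₀.1 * irrDeg θ₀.1) := Nat.mul_le_mul_left p h3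
  · left
    push Not at hex
    have hzero2 : ∀ θ' : Tty (P : Subgroup G),
        (∃ c, (θ'.1 : Subgroup.centralizer ((P : Subgroup G) : Set G) → ℂ) c ≠ 1) →
        ∀ μ : Lty p (P : Subgroup G), n (mulIrr μ θ'.1) = 0 := by
      intro θ' hne μ
      rw [hconst θ' hne μ]
      exact hex θ' hne
    intro c hc hreg
    have hcreg : ¬ p ∣ orderOf (⟨c, hc⟩ : Subgroup.centralizer ((P : Subgroup G) : Set G)) := by
      have h3 : orderOf ((⟨c, hc⟩ : Subgroup.centralizer ((P : Subgroup G) : Set G)) : G) =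
          orderOf (⟨c, hc⟩ : Subgroup.centralizer ((P : Subgroup G) : Set G)) :=
        Subgroup.orderOf_coe _
      rw [← h3]
      exact hreg
    have e1 := hpt ⟨c, hc⟩
    have e2 := hpt 1
    rw [Subgroup.coe_one] at e2
    show (χ : G → ℂ) ((⟨c, hc⟩ : Subgroup.centralizer ((P : Subgroup G) : Set G)) : G) = _
    rw [e1, e2]
    refine Finset.sum_congr rfl fun θ' _ => Finset.sum_congr rfl fun μ _ => ?_
    by_cases hθ : ∃ c, (θ'.1 : Subgroup.centralizer ((P : Subgroup G) : Set G) → ℂ) c ≠ 1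
    · rw [hzero2 θ' hθ μ, Nat.cast_zero, zero_mul, zero_mul]
    · push Not at hθ
      rw [hθ, hθ, μ.2.reg _ hcreg, μ.2.one]

end Cfsg.Agent.S0999P
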