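import Mathlib
import Cfsg.Agent.Helper5.S0999Defs
import Cfsg.Agent.Helper5.S0999DEGP
import Cfsg.Agent.Helper20.S4503PSIANb
import Cfsg.Agent.Helper8.S4503FZ
import Cfsg.Agent.Helper23.S4503ORB
import Cfsg.Agent.S0936

/-!
# S0999, piece B0X (backup, own namespace): the defect-one data of the principal block with
degrees, degree relation and the alternative "kernel or degree ≥ p"
-/

set_option autoImplicit false
set_option maxHeartbeats 1000000

namespace Cfsg.Agent.Helper5.S0999B0X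

open Cfsg Cfsg.Agent.Helper24 Cfsg.Agent.Helper8.D1 Cfsg.Agent.S4705P Cfsg.Agent.Helper8.W2p
  Cfsg.Agent.Helper20.S4705BLK Cfsg.Agent.Helper20.S4503PSIAN Cfsg.Agent.Helper5 Cfsg.Agent.Helper5.D1Q
  Cfsg.Agent.Helper5.Loc Cfsg.Agent.Helper5.CC Cfsg.Agent.S4503P Cfsg.Agent.S0999P
open scoped ComplexConjugate

universe u

variable {G : Type u} [Group G] [Finite G]

/-- `Dnum` of the trivial character with respect to the trivial character of `C`. -/
theorem Dnum_triv_gen (p : ℕ) [Fact p.Prime] (P : Sylow p G)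
    (μ : Subgroup.centralizer ((P : Subgroup G) : Set G) → ℂ) (hμ : NT p μ) :
    Dnum (Subgroup.centralizer ((P : Subgroup G) : Set G)) μ
      ((trivIrr (Subgroup.centralizer ((P : Subgroup G) : Set G)) :
        IrrCharacter (Subgroup.centralizer ((P : Subgroup G) : Set G))) :
          Subgroup.centralizer ((P : Subgroup G) : Set G) → ℂ)
      ((trivIrr G : IrrCharacter G) : G → ℂ) = -1 := by
  classical
  let _ : Fintype (Subgroup.centralizer ((P : Subgroup G) : Set G)) := Fintype.ofFinite _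
  let μI : IrrCharacter (Subgroup.centralizer ((P : Subgroup G) : Set G)) :=
    ⟨μ, isIrr_of_isPLin hμ.1⟩
  have hne : trivIrr (Subgroup.centralizer ((P : Subgroup G) : Set G)) ≠ μI := by
    intro h
    obtain ⟨x, hx⟩ := hμ.2
    apply hx
    have := congrArg (fun ξ : IrrCharacter (Subgroup.centralizer ((P : Subgroup G) : Set G)) =>
      (ξ : Subgroup.centralizer ((P : Subgroup G) : Set G) → ℂ) x) h
    simp only [trivIrr_apply] at this
    exact this.symm
  rw [Dnum_eq_mult, mult_eq, mult_eq]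
  have h1 : (fun c : Subgroup.centralizer ((P : Subgroup G) : Set G) =>
      ((trivIrr G : IrrCharacter G) : G → ℂ) (c : G)) =
      ((trivIrr (Subgroup.centralizer ((P : Subgroup G) : Set G)) :
        IrrCharacter (Subgroup.centralizer ((P : Subgroup G) : Set G))) :
          Subgroup.centralizer ((P : Subgroup G) : Set G) → ℂ) := by
    funext c
    rw [trivIrr_apply, trivIrr_apply]
  have h2 : (fun c : Subgroup.centralizer ((P : Subgroup G) : Set G) => μ c *
      ((trivIrr (Subgroup.centralizer ((P : Subgroup G) : Set G)) :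
        IrrCharacter (Subgroup.centralizer ((P : Subgroup G) : Set G))) :
          Subgroup.centralizer ((P : Subgroup G) : Set G) → ℂ) c) = (μI : _ → ℂ) := by
    funext c
    rw [trivIrr_apply, mul_one]
  rw [h1, h2, classInner_irr_ne hne, classInner_irr_self, zero_sub]

/-- B0X (backup): the principal block data (at least two exceptional characters). -/
theorem exists_b0Full (p : ℕ) [Fact p.Prime] (P : Sylow p G) (hP : Nat.card P = p)
    (hf : fN (P : Subgroup G) ≠ p - 1) : Nonempty (B0Full p P) := by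
  classical
  have hp : p.Prime := Fact.out
  obtain ⟨M, hM⟩ := Cfsg.Agent.Helper24.exists_isPModular p hp
  have hMp := isPrime_of_isPModular hM
  let _ : Fintype (IrrCharacter G) := Fintype.ofFinite _
  -- the principal block of `C` induces the principal block of `G`
  set θ₁ : IrrCharacter (Subgroup.centralizer ((P : Subgroup G) : Set G)) := trivIrr _ with hθ₁
  obtain ⟨B', hind'⟩ := Cfsg.Agent.Helper23.D1QI.exists_induced hM P hP θ₁
  have hb : blockOf M (θ₁ : Subgroup.centralizer ((P : Subgroup G) : Set G) → ℂ) =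
      principalBlock M (Subgroup.centralizer ((P : Subgroup G) : Set G)) := rfl
  have hind : IsInducedBlock M (Subgroup.centralizer ((P : Subgroup G) : Set G))
      (blockOf M (θ₁ : Subgroup.centralizer ((P : Subgroup G) : Set G) → ℂ))
      (principalBlock M G) :=
    (Cfsg.Agent.S0936.result p M hM _ _ ⟨B', hind'⟩).mpr hb
  have hθb : θ₁ ∈ blockOf M (θ₁ : Subgroup.centralizer ((P : Subgroup G) : Set G) → ℂ) :=
    mem_blockOf_self hMp θ₁
  have hθP : ∀ x : Subgroup.centralizer ((P : Subgroup G) : Set G), (x : G) ∈ (P : Subgroup G) →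
      (θ₁ : Subgroup.centralizer ((P : Subgroup G) : Set G) → ℂ) x =
        (θ₁ : Subgroup.centralizer ((P : Subgroup G) : Set G) → ℂ) 1 := fun _ _ => rfl
  have hζB : trivIrr G ∈ principalBlock M G := mem_blockOf_self hMp (trivIrr G)
  have hζdeg : irrDeg (trivIrr G) = 1 := by
    have h1 := irrDeg_spec (trivIrr G)
    rw [trivIrr_apply] at h1
    exact_mod_cast h1.symm
  have hζ : ¬ p ∣ irrDeg (trivIrr G) := by
    rw [hζdeg]
    exact hp.one_lt.not_ge ∘ Nat.le_of_dvd Nat.one_pos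
  obtain ⟨D, hDθ, hDB⟩ := exists_coreData_of_theta p M hM P hP (trivIrr G) hζ _ _ hind hζB θ₁ hθb hθP
  -- `T = N`
  have hTeq : D.T = Subgroup.normalizer ((P : Subgroup G) : Set G) := by
    ext g
    rw [D.hT g, hDθ]
    exact ⟨fun h => h.1, fun h => ⟨h, fun _ _ _ => rfl⟩⟩
  have hef : D.e = D.f := by
    rw [← D.he, ← D.hf, hTeq]
  have hfN : fN (P : Subgroup G) = D.f := D.hf
  have hp1 : 0 < p - 1 := by have := hp.two_le; omega
  have hepos : 0 < D.e := Nat.pos_of_dvd_of_pos D.e_dvd hp1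
  have hθdeg : irrDeg D.θ = 1 := by
    rw [hDθ]
    have h1 := irrDeg_spec θ₁
    rw [hθ₁, trivIrr_apply] at h1
    exact_mod_cast h1.symm
  -- the non-exceptional characters
  set X : Finset (IrrCharacter G) :=
    Finset.univ.filter (fun χ => χ ∈ D.B ∧ ∀ μ, NT p μ → χ ≠ D.Ψ μ) with hX
  set Bf : Finset (IrrCharacter G) := Finset.univ.filter (fun χ => χ ∈ D.B) with hBf
  set Yf : Finset (IrrCharacter G) := Finset.univ.filter (fun χ => ∃ μ, NT p μ ∧ χ = D.Ψ μ) with hYf
  have hBfcard : Bf.card = D.e + (p - 1) / D.e := by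
    rw [← D.card_B, hBf, Nat.card_eq_fintype_card, Fintype.card_subtype]
  have hYfcard : Yf.card = (p - 1) / D.e := by
    rw [← D.card_Y, hYf, Nat.card_eq_fintype_card, Fintype.card_subtype]
  have hYB : Yf ⊆ Bf := by
    intro χ hχ
    obtain ⟨μ, hμ, rfl⟩ := (Finset.mem_filter.1 hχ).2
    exact Finset.mem_filter.2 ⟨Finset.mem_univ _, D.Ψ_mem μ hμ⟩
  have hXeq : X = Bf \ Yf := by
    ext χ
    simp only [hX, hBf, hYf, Finset.mem_filter, Finset.mem_univ, true_and, Finset.mem_sdiff]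
    constructor
    · rintro ⟨h1, h2⟩
      exact ⟨h1, fun ⟨μ, hμ, h⟩ => h2 μ hμ h⟩
    · rintro ⟨h1, h2⟩
      exact ⟨h1, fun μ hμ h => h2 ⟨μ, hμ, h⟩⟩
  have hXcard : X.card = fN (P : Subgroup G) := by
    rw [hXeq, Finset.card_sdiff_of_subset hYB, hBfcard, hYfcard, hfN, ← hef]
    omega
  have hYcard : Yf.card * fN (P : Subgroup G) = p - 1 := by
    rw [hYfcard, hfN, ← hef]
    exact Nat.div_mul_cancel D.e_dvd
  have hXB : ∀ χ ∈ X, χ ∈ principalBlock M G := by
    intro χ hχ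
    rw [← hDB]
    exact (Finset.mem_filter.1 hχ).2.1
  have hmemB : ∀ χ : IrrCharacter G, (χ ∈ X ∨ χ ∈ Yf) → χ ∈ principalBlock M G := by
    rintro χ (h | h)
    · exact hXB χ h
    · obtain ⟨μ, hμ, rfl⟩ := (Finset.mem_filter.1 h).2
      rw [← hDB]
      exact D.Ψ_mem μ hμ
  -- a nontrivial `p`-linear character exists
  obtain ⟨μ₁, hμ₁⟩ : ∃ μ : Subgroup.centralizer ((P : Subgroup G) : Set G) → ℂ, NT p μ := by
    have h1 := Cfsg.Agent.S4503P.card_NT p P hP
    have h2 : 0 < Nat.card {ν : Subgroup.centralizer ((P : Subgroup G) : Set G) → ℂ // NT p ν} := by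
      rw [h1]; exact hp1
    obtain ⟨⟨μ, hμ⟩⟩ := (Nat.card_pos_iff.mp h2).1
    exact ⟨μ, hμ⟩
  have hDtriv : ∀ μ, NT p μ → Dnum (Subgroup.centralizer ((P : Subgroup G) : Set G)) μ
      (D.θ : Subgroup.centralizer ((P : Subgroup G) : Set G) → ℂ)
      ((trivIrr G : IrrCharacter G) : G → ℂ) = -1 := by
    intro μ hμ
    rw [hDθ]
    exact Dnum_triv_gen p P μ hμ
  -- the trivial character is not exceptional
  have htrivX : trivIrr G ∈ X := by
    refine Finset.mem_filter.2 ⟨Finset.mem_univ _, D.mem, ?_⟩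
    intro μ₀ hμ₀ hμ₀eq
    have hwtriv : D.w (trivIrr G) = 0 := by
      have h0 := D.w_Ψ μ₀ hμ₀
      rw [← hμ₀eq] at h0
      exact h0
    have hall : ∀ ν, NT p ν → D.Ψ ν = trivIrr G := by
      intro ν hν
      by_contra hne
      have h1 := D.D_w ν hν (trivIrr G) (fun h => hne h.symm)
      rw [hDtriv ν hν, hwtriv] at h1
      norm_num at h1
    have hYeq : Yf = {trivIrr G} := by
      ext χ
      rw [Finset.mem_singleton]
      constructor
      · intro h
        obtain ⟨μ, hμ, rfl⟩ := (Finset.mem_filter.1 h).2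
        exact hall μ hμ
      · intro h
        exact Finset.mem_filter.2 ⟨Finset.mem_univ _, μ₀, hμ₀, h.trans hμ₀eq⟩
    rw [hYeq, Finset.card_singleton, one_mul] at hYcard
    exact hf hYcard
  have hwtriv : D.w (trivIrr G) = -1 := by
    have h1 := D.D_w μ₁ hμ₁ (trivIrr G) ((Finset.mem_filter.1 htrivX).2.2 μ₁ hμ₁)
    rw [hDtriv μ₁ hμ₁] at h1
    have h2 : ((D.w (trivIrr G) : ℤ) : ℂ) = ((-1 : ℤ) : ℂ) := by rw [← h1]; simp
    exact_mod_cast h2
  have hw0 : ∀ χ, χ ∉ X → D.w χ = 0 := by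
    intro χ hχ
    by_cases hB : χ ∈ D.B
    · have h1 : ¬ ∀ μ, NT p μ → χ ≠ D.Ψ μ := fun h =>
        hχ (Finset.mem_filter.2 ⟨Finset.mem_univ _, hB, h⟩)
      push Not at h1
      obtain ⟨μ, hμ, rfl⟩ := h1
      exact D.w_Ψ μ hμ
    · exact D.w_out χ hB
  have hZ : ∀ χ : IrrCharacter G, χ ∈ principalBlock M G →
      ∀ φ : IrrCharacter (Subgroup.centralizer ((P : Subgroup G) : Set G)),
      (∀ x : Subgroup.centralizer ((P : Subgroup G) : Set G), (x : G) ∈ (P : Subgroup G) →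
        (φ : Subgroup.centralizer ((P : Subgroup G) : Set G) → ℂ) x =
          (φ : Subgroup.centralizer ((P : Subgroup G) : Set G) → ℂ) 1) →
      (∃ c, (φ : Subgroup.centralizer ((P : Subgroup G) : Set G) → ℂ) c ≠ 1) →
      ∀ μ, IsPLin p μ → Dnum (Subgroup.centralizer ((P : Subgroup G) : Set G)) μ
        (φ : Subgroup.centralizer ((P : Subgroup G) : Set G) → ℂ) (χ : G → ℂ) = 0 :=
    fun χ hχ φ hφP hφ μ hμ => dnum_eq_zero_of_ne_triv p M hM P hP χ hχ φ hφP hφ μ hμ
  refine ⟨⟨X, Yf, fun χ => - D.w χ, D.ε, D.ε_pm, hXcard, hYcard, ?_, htrivX, ?_, ?_, ?_, ?_, ?_, ?_⟩⟩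
  · -- disjoint
    rw [Finset.disjoint_left]
    intro χ hχ hχY
    obtain ⟨μ, hμ, h⟩ := (Finset.mem_filter.1 hχY).2
    exact (Finset.mem_filter.1 hχ).2.2 μ hμ h
  · show - D.w (trivIrr G) = 1
    rw [hwtriv]; rfl
  · intro χ hχ
    show - D.w χ = 1 ∨ - D.w χ = -1
    rcases D.w_X χ (Finset.mem_filter.1 hχ).2.1 (Finset.mem_filter.1 hχ).2.2 with h | h
    · right; rw [h]
    · left; rw [h]; rfl
  · intro χ hχ
    have h := D.deg_X χ (Finset.mem_filter.1 hχ).2.1 (Finset.mem_filter.1 hχ).2.2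
    rw [← hef, Nat.div_self hepos, hθdeg] at h
    simpa using h
  · intro ψ hψ
    obtain ⟨μ, hμ, rfl⟩ := (Finset.mem_filter.1 hψ).2
    have h := D.deg_Y μ hμ
    rw [hθdeg, mul_one, ← hfN] at h
    exact h
  · intro ψ hψ
    obtain ⟨μ, hμ, rfl⟩ := (Finset.mem_filter.1 hψ).2
    have h := D.rel μ hμ 1 (by rw [orderOf_one]; exact fun h => hp.one_lt.ne' (Nat.dvd_one.mp h))
    rw [finsum_eq_sum_of_fintype] at h
    have h2 : ∑ χ : IrrCharacter G, (D.w χ : ℂ) * (χ : G → ℂ) 1 =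
        ∑ χ ∈ X, (D.w χ : ℂ) * (χ : G → ℂ) 1 := by
      symm
      apply Finset.sum_subset (Finset.subset_univ _)
      intro χ _ hχ
      rw [hw0 χ hχ]
      simp
    rw [h2] at h
    have h3 : ((∑ χ ∈ X, (- D.w χ) * (irrDeg χ : ℤ) : ℤ) : ℂ) =
        ((D.ε * (irrDeg (D.Ψ μ) : ℤ) : ℤ) : ℂ) := by
      push_cast
      rw [← irrDeg_spec (D.Ψ μ)]
      have h4 : ∑ χ ∈ X, -(D.w χ : ℂ) * (irrDeg χ : ℂ) =
          - ∑ χ ∈ X, (D.w χ : ℂ) * (χ : G → ℂ) 1 := by
        rw [← Finset.sum_neg_distrib]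
        refine Finset.sum_congr rfl fun χ _ => ?_
        rw [irrDeg_spec]; ring
      rw [h4]
      linear_combination -h
    exact_mod_cast h3
  · intro χ hχ
    exact deg_ge_of_dnum_zero p P hP χ (hZ χ (hmemB χ hχ))

end Cfsg.Agent.Helper5.S0999B0X
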