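import Mathlib
import Cfsg.Agent.Helper5.S0999Defs
import Cfsg.Agent.Helper11.Transfer

set_option autoImplicit false

/-! # S0999: group-theoretic facts (backup of the pieces SYL and GRP, own namespace). -/

namespace Cfsg.Agent.Helper5.S0999GT

open Cfsg Cfsg.Agent.S4503P

universe u

variable {G : Type u} [Group G] [Finite G]

/-- a Sylow `p`-subgroup of a non-cyclic simple group is not normal when `p ∣ |G|` -/
theorem sylow_not_normal [IsSimpleGroup G] (hG : ¬ IsCyclic G) (p : ℕ) [Fact p.Prime]
    (hdvd : p ∣ Nat.card G) (P : Sylow p G) : ¬ (P : Subgroup G).Normal := by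
  have hp : p.Prime := Fact.out
  intro hN
  rcases hN.eq_bot_or_eq_top with h | h
  · have h1 : Nat.card P = 1 := by
      rw [show Nat.card P = Nat.card (P : Subgroup G) from rfl, h]
      exact Subgroup.card_bot
    have h2 : p ∣ Nat.card P := P.dvd_card_of_dvd_card hdvd
    rw [h1] at h2
    exact hp.one_lt.ne' (Nat.dvd_one.mp h2)
  · -- `G` is a `p`-group
    have hGp : IsPGroup p G := by
      intro g
      have hg : g ∈ (P : Subgroup G) := by rw [h]; exact Subgroup.mem_top g
      obtain ⟨k, hk⟩ := P.2 ⟨g, hg⟩
      exact ⟨k, by simpa using congrArg Subtype.val hk⟩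
    have hnt : Nontrivial G := inferInstance
    have hcen : Nontrivial (Subgroup.center G) := hGp.center_nontrivial
    have hcn : (Subgroup.center G).Normal := inferInstance
    rcases hcn.eq_bot_or_eq_top with h' | h'
    · have : Subsingleton (Subgroup.center G) := by
        rw [h']; infer_instance
      exact not_subsingleton _ this
    · -- `G` commutative, simple: cyclic
      have hcomm : ∀ a b : G, a * b = b * a := by
        intro a b
        have : b ∈ Subgroup.center G := by rw [h']; exact Subgroup.mem_top b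
        exact Subgroup.mem_center_iff.mp this a
      let _ : CommGroup G := { (inferInstance : Group G) with mul_comm := hcomm }
      exact hG inferInstance

/-- SYL (backup) -/
theorem exists_sylow_card [IsSimpleGroup G] (hG : ¬ IsCyclic G) (p : ℕ) [Fact p.Prime]
    (hdvd : p ∣ Nat.card G) (hbig : Nat.card G < p ^ 3) : ∃ P : Sylow p G, Nat.card P = p := by
  have hp : p.Prime := Fact.out
  obtain ⟨P⟩ : Nonempty (Sylow p G) := inferInstance
  have hP := sylow_not_normal hG p hdvd P
  refine ⟨P, ?_⟩
  obtain ⟨k, hk⟩ := (IsPGroup.iff_card.mp P.2)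
  have hdvd' : Nat.card P ∣ Nat.card G := Subgroup.card_subgroup_dvd_card _
  have hle : Nat.card P ≤ Nat.card G := Nat.le_of_dvd Nat.card_pos hdvd'
  have hk3 : k < 3 := by
    by_contra h
    push Not at h
    have : p ^ 3 ≤ p ^ k := Nat.pow_le_pow_right hp.pos h
    omega
  have hk0 : k ≠ 0 := by
    rintro rfl
    rw [pow_zero] at hk
    apply hP
    have : (P : Subgroup G) = ⊥ := Subgroup.card_eq_one.mp hk
    rw [this]
    infer_instance
  have hk2 : k ≠ 2 := by
    rintro rfl
    have hidx : (P : Subgroup G).index < p := by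
      have h1 := Subgroup.card_mul_index (P : Subgroup G)
      rw [hk] at h1
      by_contra h
      push Not at h
      have : p ^ 2 * p ≤ p ^ 2 * (P : Subgroup G).index := Nat.mul_le_mul_left _ h
      have e : p ^ 2 * p = p ^ 3 := by ring
      omega
    have h2 : Nat.card (Sylow p G) ∣ (P : Subgroup G).index := Sylow.card_dvd_index P
    have h3 : Nat.card (Sylow p G) ≡ 1 [MOD p] := card_sylow_modEq_one p G
    have hpos : 0 < (P : Subgroup G).index :=
      Nat.pos_of_ne_zero (Subgroup.index_ne_zero_of_finite)
    have h4 : Nat.card (Sylow p G) < p := lt_of_le_of_lt (Nat.le_of_dvd hpos h2) hidx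
    have h5 : Nat.card (Sylow p G) = 1 := by
      have h6 := Nat.mod_eq_of_lt h4
      have h7 : Nat.card (Sylow p G) % p = 1 % p := h3
      rw [h6, Nat.mod_eq_of_lt hp.one_lt] at h7
      exact h7
    have hsub : Subsingleton (Sylow p G) := (Nat.card_eq_one_iff_unique.mp h5).1
    exact hP (Sylow.normal_of_subsingleton P)
  have : k = 1 := by omega
  rw [hk, this, pow_one]

/-- GRP (backup) -/
theorem group_facts [IsSimpleGroup G] (hG : ¬ IsCyclic G) (p : ℕ) [Fact p.Prime] (P : Sylow p G)
    (hP : Nat.card P = p) :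
    ∃ n c : ℕ, 1 ≤ n ∧ 1 ≤ c ∧ Nat.card (Sylow p G) = 1 + n * p ∧
      Nat.card (Subgroup.centralizer ((P : Subgroup G) : Set G)) = p * c ∧
      Nat.card G = p * c * fN (P : Subgroup G) * (1 + n * p) ∧ 2 ≤ fN (P : Subgroup G) ∧
      fN (P : Subgroup G) ∣ p - 1 := by
  have hp : p.Prime := Fact.out
  have hdvd : p ∣ Nat.card G := by
    rw [← hP]
    exact Subgroup.card_subgroup_dvd_card _
  have hnn := sylow_not_normal hG p hdvd P
  -- number of Sylow subgroups
  have hmod : Nat.card (Sylow p G) ≡ 1 [MOD p] := card_sylow_modEq_one p G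
  have hne1 : Nat.card (Sylow p G) ≠ 1 := by
    intro h
    have hsub : Subsingleton (Sylow p G) := (Nat.card_eq_one_iff_unique.mp h).1
    exact hnn (Sylow.normal_of_subsingleton P)
  have hpos : 0 < Nat.card (Sylow p G) := Nat.card_pos
  obtain ⟨n, hn⟩ : ∃ n, Nat.card (Sylow p G) = 1 + n * p := by
    have h1 : 1 ≤ Nat.card (Sylow p G) := hpos
    have h2 : p ∣ Nat.card (Sylow p G) - 1 := (Nat.modEq_iff_dvd' h1).mp hmod.symm
    obtain ⟨k, hk⟩ := h2
    exact ⟨k, by rw [mul_comm k p]; omega⟩
  have hn1 : 1 ≤ n := by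
    rcases Nat.eq_zero_or_pos n with h | h
    · subst h; omega
    · exact h
  -- `P ≤ C`
  have hcyc : IsCyclic (P : Subgroup G) := isCyclic_of_prime_card hP
  have hPC : (P : Subgroup G) ≤ Subgroup.centralizer ((P : Subgroup G) : Set G) := by
    have hcomm : ∀ a b : (P : Subgroup G), a * b = b * a := by
      obtain ⟨g, hg⟩ := hcyc.exists_generator
      intro a b
      obtain ⟨i, rfl⟩ := Subgroup.mem_zpowers_iff.mp (hg a)
      obtain ⟨j, rfl⟩ := Subgroup.mem_zpowers_iff.mp (hg b)
      rw [← zpow_add, ← zpow_add, add_comm]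
    intro x hx
    rw [Subgroup.mem_centralizer_iff]
    intro y hy
    have := hcomm ⟨y, hy⟩ ⟨x, hx⟩
    exact congrArg Subtype.val this
  have hCN : Subgroup.centralizer ((P : Subgroup G) : Set G) ≤
      Subgroup.normalizer ((P : Subgroup G) : Set G) := Subgroup.centralizer_le_normalizer _
  obtain ⟨c, hc⟩ : ∃ c, Nat.card (Subgroup.centralizer ((P : Subgroup G) : Set G)) = p * c := by
    have := Subgroup.card_dvd_of_le hPC
    rw [show Nat.card (P : Subgroup G) = p from hP] at this
    exact this
  have hc1 : 1 ≤ c := by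
    rcases Nat.eq_zero_or_pos c with h | h
    · subst h
      rw [mul_zero] at hc
      exact absurd hc Nat.card_pos.ne'
    · exact h
  -- `|N| = |C| f`
  have hNcard : Nat.card (Subgroup.normalizer ((P : Subgroup G) : Set G)) =
      p * c * fN (P : Subgroup G) := by
    have h := Subgroup.relIndex_mul_relIndex (⊥ : Subgroup G)
      (Subgroup.centralizer ((P : Subgroup G) : Set G))
      (Subgroup.normalizer ((P : Subgroup G) : Set G)) bot_le hCN
    rw [Subgroup.relIndex_bot_left, Subgroup.relIndex_bot_left, hc] at h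
    exact h.symm
  have hGcard : Nat.card G = p * c * fN (P : Subgroup G) * (1 + n * p) := by
    have h1 := (Subgroup.normalizer ((P : Subgroup G) : Set G)).card_mul_index
    have h2 : Nat.card (Sylow p G) =
        (Subgroup.normalizer ((P : Subgroup G) : Set G)).index := P.card_eq_index_normalizer
    rw [← h1, hNcard, ← h2, hn]
  have hfpos : 0 < fN (P : Subgroup G) := by
    rcases Nat.eq_zero_or_pos (fN (P : Subgroup G)) with h | h
    · rw [h, mul_zero] at hNcard
      exact absurd hNcard Nat.card_pos.ne'
    · exact h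
  have hf2 : 2 ≤ fN (P : Subgroup G) := by
    by_contra hlt
    have hf1 : fN (P : Subgroup G) = 1 := by omega
    have hNC : Subgroup.normalizer ((P : Subgroup G) : Set G) ≤
        Subgroup.centralizer ((P : Subgroup G) : Set G) := Subgroup.relIndex_eq_one.mp hf1
    have hcompl := MonoidHom.ker_transferSylow_isComplement' P hNC
    have hker : (MonoidHom.transferSylow P hNC).ker.Normal := inferInstance
    have hcardc := hcompl.card_mul_card
    rcases hker.eq_bot_or_eq_top with h | h
    · rw [h, Subgroup.card_bot, one_mul] at hcardc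
      have : Nat.card G = p := by rw [← hcardc]; exact hP
      exact hG (isCyclic_of_prime_card this)
    · rw [h, Subgroup.card_top] at hcardc
      have h3 : Nat.card (P : Subgroup G) = 1 := by
        have hGpos : 0 < Nat.card G := Nat.card_pos
        exact Nat.eq_of_mul_eq_mul_left hGpos (by rw [hcardc, mul_one])
      have : p = 1 := by rw [← hP]; exact h3
      exact hp.one_lt.ne' this
  have hfd : fN (P : Subgroup G) ∣ p - 1 := by
    have h1 := Cfsg.Agent.Helper11.relIndex_centralizer_normalizer_dvd_card_mulAut (P : Subgroup G)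
    rw [IsCyclic.card_mulAut, show Nat.card (P : Subgroup G) = p from hP,
      Nat.totient_prime hp] at h1
    exact h1
  exact ⟨n, c, hn1, hc1, hn, hc, hGcard, hf2, hfd⟩

end Cfsg.Agent.Helper5.S0999GT
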