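import Mathlib
import Cfsg.Agent.Helper5.S0999Defs
import Cfsg.Agent.Helper5.S0999GT
import Cfsg.Agent.Helper5.S0999B0X
import Cfsg.Agent.Helper7.S0999PERF
import Cfsg.Agent.Helper15.S0999PREG
import Cfsg.Agent.Helper15.S0999FAITH
import Cfsg.Agent.Helper3.S0999AM
import Cfsg.Agent.Helper24.SmallDegree

set_option autoImplicit false

/-!
# S0999 (Brauer–Reynolds): `C_G(P) = P` and the reduction to S0996
-/

namespace Cfsg.Agent.S0999P

open Cfsg Cfsg.Agent.Helper24 Cfsg.Agent.Helper8.D1 Cfsg.Agent.S4503P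

universe u

variable {G : Type u} [Group G] [Finite G]

/-- NOV: `C_G(P)` has order `p`. -/
theorem card_centralizer_eq [IsSimpleGroup G] (hG : ¬ IsCyclic G) (p : ℕ) [Fact p.Prime]
    (P : Sylow p G) (hP : Nat.card P = p) (hbig : Nat.card G < p ^ 3) :
    ∃ n : ℕ, Nat.card (Sylow p G) = 1 + n * p ∧ 2 * (1 + n * p) < p ^ 2 ∧
      Nat.card (Subgroup.centralizer ((P : Subgroup G) : Set G)) = p := by
  classical
  have hp : p.Prime := Fact.out
  obtain ⟨n, c, hn, hc, hsyl, hcC, hcard, hf2, hfd⟩ :=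
    Cfsg.Agent.Helper5.S0999GT.group_facts hG p P hP
  have hppos : 0 < p := hp.pos
  have hsmall : c * fN (P : Subgroup G) * (1 + n * p) < p ^ 2 := by
    rw [hcard] at hbig
    have h1 : p * c * fN (P : Subgroup G) * (1 + n * p) =
        p * (c * fN (P : Subgroup G) * (1 + n * p)) := by ring
    have h2 : p ^ 3 = p * p ^ 2 := by ring
    rw [h1, h2] at hbig
    exact Nat.lt_of_mul_lt_mul_left hbig
  have hc1 : c = 1 := by
    by_contra hne
    have hc2 : 2 ≤ c := by omega
    by_cases hfp : fN (P : Subgroup G) = p - 1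
    · -- `f = p - 1`
      have hp2 := hp.two_le
      have h1 : 2 * (p - 1) * (1 + 1 * p) ≤ c * fN (P : Subgroup G) * (1 + n * p) := by
        rw [hfp]
        apply Nat.mul_le_mul (Nat.mul_le_mul hc2 le_rfl)
        have := Nat.mul_le_mul_right p hn
        omega
      obtain ⟨q, rfl⟩ : ∃ q, p = q + 2 := ⟨p - 2, by omega⟩
      have h2 : 2 * (q + 2 - 1) * (1 + 1 * (q + 2)) < (q + 2) ^ 2 := lt_of_le_of_lt h1 hsmall
      have h3 : q + 2 - 1 = q + 1 := by omega
      rw [h3] at h2
      nlinarith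
    · obtain ⟨D⟩ := Cfsg.Agent.Helper5.S0999B0X.exists_b0Full p P hP hfp
      have hYne : D.Y.Nonempty := by
        rw [Finset.nonempty_iff_ne_empty]
        intro h
        have := D.card_Y
        rw [h, Finset.card_empty, zero_mul] at this
        have hp2 := hp.two_le
        omega
      obtain ⟨x, hxC, hx1, hxp⟩ := exists_pregular p P hP c hcC hc2
      refine arith_core (ι := IrrCharacter G) hp hf2 hfd hc2 hn hsmall D.X D.Y irrDeg D.δ D.ε
        (trivIrr G) D.hε D.card_X hYne D.triv_mem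
        (fun h => (Finset.disjoint_left.mp D.disj) D.triv_mem h) D.δ_triv ?_ D.δ_pm D.deg_X D.deg_Y D.rel_one
        ?_ ?_
      · have h := irrDeg_spec (trivIrr G)
        rw [trivIrr_apply] at h
        exact_mod_cast h.symm
      · intro χ _
        rw [← hcard]
        exact irrDeg_dvd_card χ
      · intro χ hχ hne'
        rcases D.big χ hχ with h | h
        · exact absurd (faithful_of_simple χ hne' x (h x hxC hxp)) hx1
        · exact h
  subst hc1
  refine ⟨n, hsyl, ?_, by rw [hcC, mul_one]⟩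
  have h1 : 2 * (1 + n * p) ≤ 1 * fN (P : Subgroup G) * (1 + n * p) := by
    rw [one_mul]
    exact Nat.mul_le_mul_right _ hf2
  omega

/-- S0999 reduced to the hypotheses of S0996. -/
theorem reduction {G : Type u} [Group G] [Finite G] [IsSimpleGroup G] (hG : ¬ IsCyclic G) (p : ℕ)
    [Fact p.Prime] (hdvd : p ∣ Nat.card G) (hbig : Nat.card G < p ^ 3) :
    commutator G = ⊤ ∧ ∃ z : G, orderOf z = p ∧
      Subgroup.centralizer ({z} : Set G) = Subgroup.zpowers z ∧
      2 * Nat.card (Sylow p G) < (p + 1) * (p + 2) := by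
  obtain ⟨P, hP⟩ := Cfsg.Agent.Helper5.S0999GT.exists_sylow_card hG p hdvd hbig
  obtain ⟨n, hsyl, hn2, hC⟩ := card_centralizer_eq hG p P hP hbig
  -- `C_G(P) = P`
  have hcyc : IsCyclic (P : Subgroup G) := isCyclic_of_prime_card hP
  have hPC : (P : Subgroup G) ≤ Subgroup.centralizer ((P : Subgroup G) : Set G) := by
    have hcomm : ∀ a b : (P : Subgroup G), a * b = b * a := by
      obtain ⟨g, hg⟩ := hcyc.exists_generator
      intro a b
      obtain ⟨i, rfl⟩ := Subgroup.mem_zpowers_iff.mp (hg a)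
      obtain ⟨j, rfl⟩ := Subgroup.mem_zpowers_iff.mp (hg b)
      rw [← zpow_add, ← zpow_add, add_comm]
    intro x hx
    rw [Subgroup.mem_centralizer_iff]
    intro y hy
    have := hcomm ⟨y, hy⟩ ⟨x, hx⟩
    exact congrArg Subtype.val this
  have hCeq : Subgroup.centralizer ((P : Subgroup G) : Set G) = (P : Subgroup G) := by
    symm
    apply Subgroup.eq_of_le_of_card_ge hPC
    rw [hC, hP]
  -- a generator
  obtain ⟨z, hz⟩ := hcyc.exists_generator
  have hzp : Subgroup.zpowers (z : G) = (P : Subgroup G) := by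
    ext x
    constructor
    · intro hx
      obtain ⟨k, rfl⟩ := Subgroup.mem_zpowers_iff.mp hx
      exact Subgroup.zpow_mem _ z.2 k
    · intro hx
      obtain ⟨k, hk⟩ := Subgroup.mem_zpowers_iff.mp (hz ⟨x, hx⟩)
      rw [Subgroup.mem_zpowers_iff]
      refine ⟨k, ?_⟩
      have := congrArg Subtype.val hk
      simpa using this
  have hzo : orderOf (z : G) = p := by
    rw [← Nat.card_zpowers, hzp]
    exact hP
  have hCz : Subgroup.centralizer ({(z : G)} : Set G) = Subgroup.zpowers (z : G) := by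
    rw [← Subgroup.centralizer_closure, ← Subgroup.zpowers_eq_closure, hzp]
    exact hCeq
  have hcount : 2 * Nat.card (Sylow p G) < (p + 1) * (p + 2) := by
    rw [hsyl]
    nlinarith
  exact ⟨perfect_of_simple hG, (z : G), hzo, hCz, hcount⟩

end Cfsg.Agent.S0999P
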