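import Mathlib
import Cfsg.Agent.Helper27.S0996Defs
import Cfsg.Agent.Helper24.Expansion
import Cfsg.Agent.Helper24.Product
import Cfsg.Agent.Helper24.RealChar
import Cfsg.Agent.Helper24.Abelian

set_option autoImplicit false

/-! # S0996 piece C1B: the case `ε = 1`, `e` odd: `n = 1`, `t = 2`. -/

namespace Cfsg.Agent.Helper5.S0996C1B

open Cfsg Cfsg.Agent.Helper24 Cfsg.Agent.Helper1.W2p Cfsg.Agent.S0996P

universe u

/-- The arithmetic heart of the case. -/
theorem arith {p e t n k : ℕ} (hp : p.Prime) (h5 : 5 ≤ p) (hte : t * e = p - 1) (hodd : Odd e)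
    (hn1 : 1 ≤ n) (hk : (n + 1) * k + 1 = e) (he2 : 2 ≤ e)
    (hsq : 1 + k * (1 + n * p) ≤ e * e) : n = 1 ∧ t = 2 := by
  have hk1 : 1 ≤ k := by
    rcases Nat.eq_zero_or_pos k with h | h
    · subst h; omega
    · exact h
  have hpe : p = t * e + 1 := by omega
  -- `(n+1)(e+1) ≥ 1 + n p`
  have h1 : 1 + n * p ≤ (n + 1) * (e + 1) := by
    have h2 : e * e = (n + 1) * k * (e + 1) + 1 := by
      have : e * e = (e - 1) * (e + 1) + 1 := by
        obtain ⟨e', rfl⟩ : ∃ e', e = e' + 1 := ⟨e - 1, by omega⟩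
        simp only [Nat.add_sub_cancel]; ring
      rw [this]
      have : e - 1 = (n + 1) * k := by omega
      rw [this]
    rw [h2] at hsq
    have h3 : k * (1 + n * p) ≤ k * ((n + 1) * (e + 1)) := by
      have : (n + 1) * k * (e + 1) = k * ((n + 1) * (e + 1)) := by ring
      omega
    exact Nat.le_of_mul_le_mul_left h3 hk1
  -- `n t ≤ n + 1`
  have h4 : n * t ≤ n + 1 := by
    rw [hpe] at h1
    have h5' : e * (n * t) ≤ e * (n + 1) := by
      have e1 : n * (t * e + 1) = e * (n * t) + n := by ring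
      have e2 : (n + 1) * (e + 1) = e * (n + 1) + n + 1 := by ring
      omega
    exact Nat.le_of_mul_le_mul_left h5' (by omega)
  -- `t` is even and positive
  have hpodd : Odd p := hp.odd_of_ne_two (by omega)
  have hteven : Even t := by
    have hev : Even (t * e) := by
      rw [hte]
      obtain ⟨m, hm⟩ := hpodd
      exact ⟨m, by omega⟩
    rcases Nat.even_mul.mp hev with h | h
    · exact h
    · exact absurd h (Nat.not_even_iff_odd.mpr hodd)
  have ht0 : t ≠ 0 := by
    rintro rfl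
    omega
  obtain ⟨s, hs⟩ := hteven
  have hs1 : 1 ≤ s := by omega
  have h6 : n * 2 ≤ n * t := Nat.mul_le_mul_left n (by omega)
  have hn : n = 1 := by omega
  subst hn
  refine ⟨rfl, ?_⟩
  omega

variable {G : Type u} [Group G] [Fintype G]

theorem classInner_mulConj_triv (ψ : IrrCharacter G) :
    Cfsg.classInner (fun g => (ψ : G → ℂ) g * (starRingEnd ℂ) ((ψ : G → ℂ) g))
      (trivIrr G : G → ℂ) = 1 := by
  rw [← classInner_irr_self ψ]
  unfold Cfsg.classInner
  congr 1
  apply Finset.sum_congr rfl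
  intro g _
  simp

theorem irrDeg_trivIrr : irrDeg (trivIrr G) = 1 := by
  have h := irrDeg_spec (trivIrr G)
  rw [trivIrr_apply] at h
  exact_mod_cast h.symm

end Cfsg.Agent.Helper5.S0996C1B

namespace Cfsg.Agent.S0996P

open Cfsg Cfsg.Agent.Helper24 Cfsg.Agent.Helper1.W2p

universe u

variable {G : Type u} [Group G]

section L6
variable [Fintype G] [Fintype (IrrCharacter G)] {p : ℕ} [Fact p.Prime] {P : Subgroup G} {n : ℕ}
  [Fintype (Lin P)]

/-- C1B -/
theorem pos_case (B : Basic p P n) (D : BrauerData p P) (T : Dict p P n D) (S : Struc p P n D)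
    (hε : D.ε = 1) (hodd : Odd (eN P))
    (hinner : ∀ ψ ∈ D.Y, ∀ φ : Lin P,
      Cfsg.classInner (fun g => (ψ : G → ℂ) g * (starRingEnd ℂ) ((ψ : G → ℂ) g)) (indL P φ) = 1) :
    n = 1 ∧ Nat.card D.Y = 2 := by
  classical
  have hp : p.Prime := Fact.out
  have h5 := B.five_le
  have hte := D.card_Y
  -- `Y` is non-empty
  have hYne : Nat.card D.Y ≠ 0 := by
    intro h
    rw [h] at hte
    omega
  obtain ⟨⟨ψ, hψ⟩⟩ : Nonempty D.Y := (Nat.card_pos_iff.mp (Nat.pos_of_ne_zero hYne)).1
  set Θ : G → ℂ := fun g => (ψ : G → ℂ) g * (starRingEnd ℂ) ((ψ : G → ℂ) g) with hΘ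
  have hψc : IsCharacter G (ψ : G → ℂ) := IsIrrCharacter.isCharacter ψ.2
  have hΘc : IsCharacter G Θ := IsCharacter.mul hψc (isCharacter_star hψc)
  obtain ⟨m, hm⟩ := IsCharacter.exists_nat_coeff hΘc
  have hmχ : ∀ χ : IrrCharacter G, Cfsg.classInner Θ (χ : G → ℂ) = (m χ : ℂ) := by
    intro χ
    rw [hm]
    exact classInner_sum_irr _ χ
  -- `m 1 = 1`
  have hm1 : m (trivIrr G) = 1 := by
    have := hmχ (trivIrr G)
    rw [Cfsg.Agent.Helper5.S0996C1B.classInner_mulConj_triv ψ] at this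
    exact_mod_cast this.symm
  -- `m χ = 1` on `X₊`
  have hmX : ∀ χ ∈ Xp D, m χ = 1 := by
    intro χ hχ
    obtain ⟨hχX, hδ, hne⟩ := (mem_Xp D χ).mp hχ
    have hcnt := S.countX χ hχX hδ hne
    have hpos : 0 < (Finset.univ.filter (fun φ : Lin P => mult P φ χ = 1)).card := by
      rw [hcnt]; exact Nat.succ_pos n
    obtain ⟨φ, hφ⟩ := Finset.card_pos.mp hpos
    have hφ1 : mult P φ χ = 1 := (Finset.mem_filter.mp hφ).2
    have hφne : φ ≠ 1 := by
      rintro rfl
      have := S.pi_zero χ (Or.inl ⟨hχX, hne⟩)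
      omega
    have hind : indL P φ = (χ : G → ℂ) := by
      rcases S.form φ hφne with ⟨χ₀, _, _, _, h1, h0⟩ | ⟨hε', _, _⟩
      · have hχχ₀ : χ = χ₀ := by
          by_contra hne'
          have := h0 χ hne'
          omega
        subst hχχ₀
        rw [T.expand φ, Finset.sum_eq_single χ]
        · rw [h1]; simp
        · intro χ' _ hne'
          rw [h0 χ' hne']; simp
        · intro h; exact absurd (Finset.mem_univ χ) h
      · rw [hε] at hε'; norm_num at hε'
    have h1 := hinner ψ hψ φ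
    rw [hind, hmχ χ] at h1
    exact_mod_cast h1
  -- degrees
  have hdeg : (eN P) * (eN P) = ∑ χ : IrrCharacter G, m χ * irrDeg χ := by
    have h1 : Θ 1 = ((eN P * eN P : ℕ) : ℂ) := by
      simp only [hΘ]
      rw [irrDeg_spec ψ, (S.posY hε ψ hψ).1]
      simp
    have h2 : Θ 1 = ((∑ χ : IrrCharacter G, m χ * irrDeg χ : ℕ) : ℂ) := by
      rw [hm, Finset.sum_apply]
      push_cast
      apply Finset.sum_congr rfl
      intro χ _
      rw [Pi.smul_apply, smul_eq_mul, irrDeg_spec]
    rw [h1] at h2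
    exact_mod_cast h2
  have hsq : 1 + (Xp D).card * (1 + n * p) ≤ eN P * eN P := by
    rw [hdeg]
    have htriv : trivIrr G ∉ Xp D := by
      intro h
      exact ((mem_Xp D _).mp h).2.2 rfl
    have hsub : insert (trivIrr G) (Xp D) ⊆ Finset.univ := Finset.subset_univ _
    calc 1 + (Xp D).card * (1 + n * p)
        = ∑ χ ∈ insert (trivIrr G) (Xp D), m χ * irrDeg χ := by
          rw [Finset.sum_insert htriv, hm1, Cfsg.Agent.Helper5.S0996C1B.irrDeg_trivIrr, one_mul]
          congr 1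
          rw [Finset.card_eq_sum_ones, Finset.sum_mul]
          apply Finset.sum_congr rfl
          intro χ hχ
          obtain ⟨hχX, hδ, hne⟩ := (mem_Xp D χ).mp hχ
          rw [hmX χ hχ, S.degXp χ hχX hδ hne]
      _ ≤ ∑ χ : IrrCharacter G, m χ * irrDeg χ :=
          Finset.sum_le_sum_of_subset hsub
  exact Cfsg.Agent.Helper5.S0996C1B.arith hp h5 hte hodd B.one_le_n (S.star_pos hε) B.two_le_eN hsq

end L6

end Cfsg.Agent.S0996P
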