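import Mathlib
import Cfsg.Agent.Helper27.S0996Defs

set_option autoImplicit false

/-! # S0996 piece EVN2: the case `e` even. -/

namespace Cfsg.Agent.Helper5.S0996EVN2

open Cfsg Cfsg.Agent.Helper24 Cfsg.Agent.Helper1.W2p Cfsg.Agent.S0996P

universe u

variable {G : Type u} [Group G]

/-- Cauchy in the dual group. -/
theorem exists_invol {P : Subgroup G} [Fintype (Lin P)] (LF : LinFacts P) (he : Even (eN P)) :
    ∃ φ₀ : Lin P, φ₀ ≠ 1 ∧ φ₀ * φ₀ = 1 := by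
  have h2 : 2 ∣ Fintype.card (Lin P) := by
    rw [LF.card]; exact even_iff_two_dvd.mp he
  have : Fact (Nat.Prime 2) := ⟨Nat.prime_two⟩
  obtain ⟨φ₀, hφ₀⟩ := exists_prime_orderOf_dvd_card 2 h2
  refine ⟨φ₀, ?_, ?_⟩
  · intro h
    rw [h, orderOf_one] at hφ₀
    omega
  · have := pow_orderOf_eq_one φ₀
    rw [hφ₀, pow_two] at this
    exact this

end Cfsg.Agent.Helper5.S0996EVN2

namespace Cfsg.Agent.S0996P

open Cfsg Cfsg.Agent.Helper24 Cfsg.Agent.Helper1.W2p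

universe u

variable {G : Type u} [Group G]

section L6
variable [Fintype G] [Fintype (IrrCharacter G)] {p : ℕ} [Fact p.Prime] {P : Subgroup G} {n : ℕ}
  [Fintype (Lin P)]

/-- EVN2 -/
theorem even_case (B : Basic p P n) (D : BrauerData p P) (S : Struc p P n D) (LF : LinFacts P)
    (hEV : ∀ φ₀ : Lin P, φ₀ ≠ 1 → φ₀ * φ₀ = 1 →
      ∑ χ : IrrCharacter G, mult P φ₀ χ ^ 2 = n + 1)
    (heven : Even (eN P)) :
    D.ε = -1 ∧ Nat.card D.Y = n + 1 ∧ (∀ ψ ∈ D.Y, D.a ψ = 1 ∧ irrDeg ψ + eN P = p) ∧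
      ∃ φ₀ : Lin P, φ₀ ≠ 1 ∧ φ₀ * φ₀ = 1 ∧ (∀ ψ ∈ D.Y, mult P φ₀ ψ = 1) ∧
        ∀ χ' : IrrCharacter G, χ' ∉ D.Y → mult P φ₀ χ' = 0 := by
  classical
  obtain ⟨φ₀, h1, h2⟩ := Cfsg.Agent.Helper5.S0996EVN2.exists_invol LF heven
  have hsum := hEV φ₀ h1 h2
  have hn1 := B.one_le_n
  rcases S.form φ₀ h1 with ⟨χ, _, _, _, hχ1, hχ0⟩ | ⟨hε, hY1, hY0⟩
  · exfalso
    have : ∑ χ' : IrrCharacter G, mult P φ₀ χ' ^ 2 = 1 := by
      rw [Finset.sum_eq_single χ]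
      · rw [hχ1]; norm_num
      · intro χ' _ hne
        rw [hχ0 χ' hne]; norm_num
      · intro h; exact absurd (Finset.mem_univ χ) h
    omega
  · have hcard : Nat.card D.Y = n + 1 := by
      rw [← hsum, ← card_YF D, Finset.card_eq_sum_ones]
      symm
      rw [← Finset.sum_subset (Finset.subset_univ (YF D))]
      · apply Finset.sum_congr rfl
        intro ψ hψ
        rw [hY1 ψ ((mem_YF D ψ).mp hψ)]; norm_num
      · intro χ' _ hχ'
        rw [hY0 χ' (fun h => hχ' ((mem_YF D χ').mpr h))]; norm_num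
    refine ⟨hε, hcard, ?_, φ₀, h1, h2, hY1, hY0⟩
    intro ψ hψ
    obtain ⟨_, h4⟩ := S.negY hε ψ hψ
    rw [hcard] at h4
    have ha : D.a ψ = 1 := by
      have hpos : 0 < n + 1 := Nat.succ_pos n
      exact Nat.eq_of_mul_eq_mul_right hpos (by rw [h4, one_mul])
    refine ⟨ha, ?_⟩
    have hdeg := D.deg_Y ψ hψ
    rw [ha, hε] at hdeg
    have : (irrDeg ψ : ℤ) + (eN P : ℤ) = (p : ℤ) := by
      rw [hdeg]; push_cast; ring
    exact_mod_cast this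

end L6

end Cfsg.Agent.S0996P
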