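import Cfsg.Agent.Helper5.S4705IDHb

set_option autoImplicit false
set_option maxHeartbeats 1000000
set_option linter.unusedSectionVars false
set_option linter.style.haveILetI false

/-! S4705 piece IDH, part c: the bounds from the trace bound, and the assembly. -/

namespace Cfsg.Agent.Helper5.S4705IDH

open Cfsg Cfsg.Agent.Helper24 Cfsg.Agent.Helper1.W2p
open scoped ComplexConjugate

universe u
variable {H : Type u} [Group H] [Finite H]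

/-- the form of the trace bound used here -/
def TrbHyp (Q : Subgroup H) (t : H) : Prop :=
  ∀ χ : H → ℂ, IsCharacter H χ →
    ∃ n : ℕ, ∑ᶠ y : ↥Q, χ (y : H) = (n : ℂ) * (Nat.card Q : ℂ) ∧ ‖χ t‖ ≤ (n : ℝ)

theorem card_erase_one (p : ℕ) (Q : Subgroup H) (hQ : Nat.card Q = p) [Fintype Q]
    [DecidableEq Q] : (Finset.univ.erase (1 : Q)).card = p - 1 := by
  rw [Finset.card_erase_of_mem (Finset.mem_univ _), Finset.card_univ, ← Nat.card_eq_fintype_card,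
    hQ]

theorem bound_neg (p : ℕ) [Fact p.Prime] (hp5 : 5 ≤ p) (Q : Subgroup H)
    (hQ : Nat.card Q = p) (D : BrauerData p Q) (t : H) (htrb : TrbHyp Q t)
    (χ₁ : IrrCharacter H) (hχX : χ₁ ∈ D.X) (b : ℤ) (hb : (χ₁ : H → ℂ) t = (b : ℂ))
    (hδ : D.δ χ₁ = -1) :
    ∃ a : ℕ, 1 ≤ a ∧ irrDeg χ₁ + 1 = a * p ∧ |b| ≤ (a : ℤ) - 1 := by
  classical
  haveI : Fintype Q := Fintype.ofFinite _
  have hdeg1 : ((irrDeg χ₁ : ℤ)) ≡ D.δ χ₁ [ZMOD p] := D.deg_X χ₁ hχX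
  rw [hδ] at hdeg1
  have h3 : (p : ℤ) ∣ -1 - (irrDeg χ₁ : ℤ) := hdeg1.dvd
  have h4 : (p : ℤ) ∣ ((irrDeg χ₁ + 1 : ℕ) : ℤ) := by
    have : ((irrDeg χ₁ + 1 : ℕ) : ℤ) = -(-1 - (irrDeg χ₁ : ℤ)) := by push_cast; ring
    rw [this]; exact (dvd_neg).mpr h3
  obtain ⟨a, ha⟩ := Int.natCast_dvd_natCast.mp h4
  have hppos : 0 < p := by omega
  have ha1 : 1 ≤ a := by
    rcases Nat.eq_zero_or_pos a with h | h
    · rw [h, mul_zero] at ha; omega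
    · exact h
  refine ⟨a, ha1, by rw [ha, mul_comm], ?_⟩
  obtain ⟨n, hn1, hn2⟩ := htrb χ₁ (IsIrrCharacter.isCharacter χ₁.2)
  rw [finsum_split Q (χ₁ : H → ℂ)] at hn1
  have hs : ∑ y ∈ Finset.univ.erase (1 : Q), (χ₁ : H → ℂ) (y : H) =
      ∑ y ∈ Finset.univ.erase (1 : Q), (-1 : ℂ) := by
    refine Finset.sum_congr rfl ?_
    intro y hy
    have hy1 : (y : H) ≠ 1 := by
      intro h
      exact (Finset.ne_of_mem_erase hy) (Subtype.ext h)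
    rw [D.val_X χ₁ hχX y y.2 hy1, hδ]; norm_num
  rw [hs, Finset.sum_const, card_erase_one p Q hQ, irrDeg_spec, hQ] at hn1
  -- c - (p-1) = n p,  c + 1 = p a
  have hn : (n : ℤ) = (a : ℤ) - 1 := by
    have h5 : ((irrDeg χ₁ : ℕ) : ℂ) + 1 = (p : ℂ) * (a : ℂ) := by exact_mod_cast ha
    have h6 : ((p - 1 : ℕ) : ℂ) = (p : ℂ) - 1 := by
      rw [Nat.cast_sub (by omega)]; simp
    rw [nsmul_eq_mul, h6] at hn1
    have h7 : (n : ℂ) * (p : ℂ) = ((a : ℂ) - 1) * (p : ℂ) := by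
      rw [← hn1]; linear_combination h5
    have hpne : (p : ℂ) ≠ 0 := by exact_mod_cast hppos.ne'
    have h8 : (n : ℂ) = (a : ℂ) - 1 := mul_right_cancel₀ hpne h7
    have h9 : ((n : ℤ) : ℂ) = (((a : ℤ) - 1 : ℤ) : ℂ) := by push_cast; exact h8
    exact_mod_cast h9
  rw [hb, Complex.norm_intCast] at hn2
  rw [← hn]
  have : ((|b| : ℤ) : ℝ) ≤ ((n : ℤ) : ℝ) := by
    push_cast; exact hn2
  exact_mod_cast this

theorem bound_pos (p : ℕ) [Fact p.Prime] (hp5 : 5 ≤ p) (Q : Subgroup H)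
    (hQ : Nat.card Q = p) (he : eN Q = 2) (D : BrauerData p Q) (t : H) (ht : orderOf t = 2)
    (htrb : TrbHyp Q t)
    (χ₁ : IrrCharacter H) (hχX : χ₁ ∈ D.X) (hχ1 : χ₁ ≠ trivIrr H)
    (hXeq : D.X = {trivIrr H, χ₁}) (b : ℤ) (hb : (χ₁ : H → ℂ) t = (b : ℂ))
    (hδ : D.δ χ₁ = 1) :
    ∃ a : ℕ, irrDeg χ₁ = a * p + 1 ∧ b + 1 ≤ (a : ℤ) := by
  classical
  haveI : Fintype Q := Fintype.ofFinite _
  have hdeg1 : ((irrDeg χ₁ : ℤ)) ≡ D.δ χ₁ [ZMOD p] := D.deg_X χ₁ hχX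
  rw [hδ] at hdeg1
  have h3 : (p : ℤ) ∣ 1 - (irrDeg χ₁ : ℤ) := hdeg1.dvd
  have hcpos := irrDeg_pos χ₁
  have h4 : (p : ℤ) ∣ ((irrDeg χ₁ - 1 : ℕ) : ℤ) := by
    have : ((irrDeg χ₁ - 1 : ℕ) : ℤ) = -(1 - (irrDeg χ₁ : ℤ)) := by
      rw [Nat.cast_sub (by omega)]; push_cast; ring
    rw [this]; exact (dvd_neg).mpr h3
  obtain ⟨a, ha⟩ := Int.natCast_dvd_natCast.mp h4
  have hppos : 0 < p := by omega
  have hca : irrDeg χ₁ = a * p + 1 := by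
    have : irrDeg χ₁ = (irrDeg χ₁ - 1) + 1 := by omega
    rw [this, ha, mul_comm]
  refine ⟨a, hca, ?_⟩
  obtain ⟨ψ, hψ⟩ := exists_Y p hp5 Q he D
  have hreg1 : ¬ p ∣ orderOf (1 : H) := by
    rw [orderOf_one]; intro h; have := Nat.le_of_dvd (by norm_num) h; omega
  have hregt := not_dvd_two p hp5 ht
  have h1 := rel_two p Q D χ₁ hχ1 hXeq ψ hψ 1 hreg1
  have ht' := rel_two p Q D χ₁ hχ1 hXeq ψ hψ t hregt
  rw [hδ, irrDeg_spec, irrDeg_spec] at h1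
  rw [hδ, hb] at ht'
  -- ε = 1
  have hε : D.ε = 1 := by
    rcases D.ε_pm with h | h
    · exact h
    · exfalso
      rw [h] at h1
      have hψpos := irrDeg_pos ψ
      have h5 : ((irrDeg ψ : ℤ) : ℂ) = ((-(1 + (irrDeg χ₁ : ℤ)) : ℤ) : ℂ) := by
        push_cast; rw [h1]; push_cast; ring
      have h6 : (irrDeg ψ : ℤ) = -(1 + (irrDeg χ₁ : ℤ)) := by exact_mod_cast h5
      omega
  rw [hε] at h1 ht'
  obtain ⟨n, hn1, hn2⟩ := htrb ψ (IsIrrCharacter.isCharacter ψ.2)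
  rw [finsum_split Q (ψ : H → ℂ)] at hn1
  have hs : ∑ y ∈ Finset.univ.erase (1 : Q), (ψ : H → ℂ) (y : H) =
      ∑ y ∈ Finset.univ.erase (1 : Q), D.Lam ψ (y : H) := by
    refine Finset.sum_congr rfl ?_
    intro y hy
    have hy1 : (y : H) ≠ 1 := by
      intro h
      exact (Finset.ne_of_mem_erase hy) (Subtype.ext h)
    rw [D.val_Y ψ hψ y y.2 hy1, hε]; norm_num
  have hL := D.Lam_sum ψ hψ
  rw [finsum_split Q (D.Lam ψ), D.Lam_one ψ hψ, he] at hL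
  have hs2 : ∑ y ∈ Finset.univ.erase (1 : Q), D.Lam ψ (y : H) = -2 := by
    push_cast at hL
    linear_combination hL
  rw [hs, hs2, irrDeg_spec, h1, hQ] at hn1
  have hn : (n : ℤ) = (a : ℤ) := by
    have h5 : ((irrDeg χ₁ : ℕ) : ℂ) = (a : ℂ) * (p : ℂ) + 1 := by exact_mod_cast hca
    have h7 : (n : ℂ) * (p : ℂ) = (a : ℂ) * (p : ℂ) := by
      rw [← hn1, h5]; push_cast; ring
    have hpne : (p : ℂ) ≠ 0 := by exact_mod_cast hppos.ne'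
    have h8 : (n : ℂ) = (a : ℂ) := mul_right_cancel₀ hpne h7
    exact_mod_cast h8
  have h9 : (ψ : H → ℂ) t = ((1 + b : ℤ) : ℂ) := by
    rw [ht']; push_cast; ring
  rw [h9, Complex.norm_intCast] at hn2
  rw [← hn]
  have h10 : ((|1 + b| : ℤ) : ℝ) ≤ ((n : ℤ) : ℝ) := by
    push_cast; push_cast at hn2; exact hn2
  have h11 : |1 + b| ≤ (n : ℤ) := by exact_mod_cast h10
  have := le_abs_self (1 + b)
  omega

theorem brauer_identity_of_trb (p : ℕ) [Fact p.Prime] (hp5 : 5 ≤ p)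
    (Q : Sylow p H) (hQ : Nat.card Q = p)
    (hC : Subgroup.centralizer ((Q : Subgroup H) : Set H) = (Q : Subgroup H))
    (he : eN (Q : Subgroup H) = 2) (D : BrauerData p (Q : Subgroup H))
    (t : H) (ht : orderOf t = 2) (htN : t ∈ Subgroup.normalizer ((Q : Subgroup H) : Set H))
    (htrb : TrbHyp (Q : Subgroup H) t) :
    ∃ (χ₁ : IrrCharacter H) (b : ℤ), χ₁ ∈ D.X ∧ χ₁ ≠ trivIrr H ∧ (χ₁ : H → ℂ) t = (b : ℂ) ∧
      (p : ℤ) * (Nat.card (Subgroup.centralizer ({t} : Set H)) : ℤ) ^ 2 * (irrDeg χ₁ : ℤ) *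
          ((irrDeg χ₁ : ℤ) + D.δ χ₁) = (Nat.card H : ℤ) * ((irrDeg χ₁ : ℤ) - b) ^ 2 ∧
      (D.δ χ₁ = -1 → ∃ a : ℕ, 1 ≤ a ∧ irrDeg χ₁ + 1 = a * p ∧ |b| ≤ (a : ℤ) - 1) ∧
      (D.δ χ₁ = 1 → ∃ a : ℕ, irrDeg χ₁ = a * p + 1 ∧ b + 1 ≤ (a : ℤ)) := by
  obtain ⟨χ₁, hχX, hχ1, hXeq⟩ := exists_X p (Q : Subgroup H) he D
  obtain ⟨d, m, -, hm⟩ :=
    Cfsg.Agent.Helper8.char_involution (IsIrrCharacter.isCharacter χ₁.2) ht
  have hb : (χ₁ : H → ℂ) t = ((2 * (m : ℤ) - (d : ℤ) : ℤ) : ℂ) := by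
    rw [hm]; push_cast; ring
  refine ⟨χ₁, 2 * (m : ℤ) - (d : ℤ), hχX, hχ1, hb, ?_, ?_, ?_⟩
  · exact main_identity p hp5 (Q : Subgroup H) hQ hC he D t ht htN χ₁ hχX hχ1 hXeq _ hb
  · intro hδ
    exact bound_neg p hp5 (Q : Subgroup H) hQ D t htrb χ₁ hχX _ hb hδ
  · intro hδ
    exact bound_pos p hp5 (Q : Subgroup H) hQ he D t ht htrb χ₁ hχX hχ1 hXeq _ hb hδ

/-- the hypotheses of the trace bound hold for `Q`, `t` -/
theorem trb_hyps (p : ℕ) [Fact p.Prime] (hp5 : 5 ≤ p)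
    (Q : Sylow p H) (hQ : Nat.card Q = p)
    (hC : Subgroup.centralizer ((Q : Subgroup H) : Set H) = (Q : Subgroup H))
    (t : H) (ht : orderOf t = 2) (htN : t ∈ Subgroup.normalizer ((Q : Subgroup H) : Set H)) :
    (∀ y ∈ (Q : Subgroup H), t * y * t⁻¹ ∈ (Q : Subgroup H)) ∧
      (∀ y ∈ (Q : Subgroup H), IsConj t (t * y)) := by
  have hp2 : p ≠ 2 := by omega
  have hinv := inverts p hp2 (Q : Subgroup H) hQ hC t ht htN
  refine ⟨?_, isConj_mul p hp2 (Q : Subgroup H) hQ t hinv⟩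
  intro y hy
  rw [hinv y hy]
  exact (Q : Subgroup H).inv_mem hy

end Cfsg.Agent.Helper5.S4705IDH
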