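import Mathlib
import Cfsg.Prelude.Def_Characters
import Cfsg.Prelude.Def_Blocks
import Cfsg.Agent.Helper24.Abelian
import Cfsg.Agent.Helper24.Linear
import Cfsg.Agent.Helper1.W2pDefs
import Cfsg.Agent.Lead.S4705Defs
import Cfsg.Agent.Helper26.S4705TRB
import Cfsg.Agent.Helper5.S4705IDHc

set_option autoImplicit false

/-! S4705 piece IDH: the class multiplication identity in `H = G/Z` with `BrauerData`. -/

namespace Cfsg.Agent.S4705P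

open Cfsg Cfsg.Agent.Helper24 Cfsg.Agent.Helper1.W2p
open scoped ComplexConjugate

universe u

theorem brauer_identity {H : Type u} [Group H] [Finite H] (p : ℕ) [Fact p.Prime] (hp5 : 5 ≤ p)
    (Q : Sylow p H) (hQ : Nat.card Q = p)
    (hC : Subgroup.centralizer ((Q : Subgroup H) : Set H) = (Q : Subgroup H))
    (he : eN (Q : Subgroup H) = 2) (D : BrauerData p (Q : Subgroup H))
    (t : H) (ht : orderOf t = 2) (htN : t ∈ Subgroup.normalizer ((Q : Subgroup H) : Set H)) :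
    ∃ (χ₁ : IrrCharacter H) (b : ℤ), χ₁ ∈ D.X ∧ χ₁ ≠ trivIrr H ∧ (χ₁ : H → ℂ) t = (b : ℂ) ∧
      (p : ℤ) * (Nat.card (Subgroup.centralizer ({t} : Set H)) : ℤ) ^ 2 * (irrDeg χ₁ : ℤ) *
          ((irrDeg χ₁ : ℤ) + D.δ χ₁) = (Nat.card H : ℤ) * ((irrDeg χ₁ : ℤ) - b) ^ 2 ∧
      (D.δ χ₁ = -1 → ∃ a : ℕ, 1 ≤ a ∧ irrDeg χ₁ + 1 = a * p ∧ |b| ≤ (a : ℤ) - 1) ∧
      (D.δ χ₁ = 1 → ∃ a : ℕ, irrDeg χ₁ = a * p + 1 ∧ b + 1 ≤ (a : ℤ)) := by
  obtain ⟨hnorm, hconj⟩ := Cfsg.Agent.Helper5.S4705IDH.trb_hyps p hp5 Q hQ hC t ht htN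
  refine Cfsg.Agent.Helper5.S4705IDH.brauer_identity_of_trb p hp5 Q hQ hC he D t ht htN ?_
  intro χ hχ
  obtain ⟨n, h1, h2, -⟩ := trace_bound χ hχ (Q : Subgroup H) t hnorm hconj
  exact ⟨n, h1, h2⟩

end Cfsg.Agent.S4705P
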