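import Mathlib
import Cfsg.Agent.Helper5.S0999Defs
import Cfsg.Agent.Helper5.S0999B0X

/-!
# S0997 reduction, piece R-FULL: the degree relation of the principal block when `f = p - 1`
(exactly one exceptional character).
-/

set_option autoImplicit false
set_option maxHeartbeats 1000000

namespace Cfsg.Agent.S0997R

open Cfsg Cfsg.Agent.Helper24 Cfsg.Agent.S4503P

universe u

section
open Cfsg.Agent.Helper8.D1 Cfsg.Agent.S4705P Cfsg.Agent.Helper8.W2p
  Cfsg.Agent.Helper20.S4705BLK Cfsg.Agent.Helper20.S4503PSIAN Cfsg.Agent.Helper5 Cfsg.Agent.Helper5.D1Q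
  Cfsg.Agent.Helper5.Loc Cfsg.Agent.Helper5.CC Cfsg.Agent.S0999P Cfsg.Agent.Helper5.S0999B0X
open scoped ComplexConjugate

/-- R-FULL: `f = p - 1` (one exceptional character): the degree relation of the principal block. -/
theorem rel_of_full {G : Type u} [Group G] [Finite G] (p : ℕ) [Fact p.Prime] (hp3 : 3 ≤ p)
    (P : Sylow p G) (hP : Nat.card P = p) (hf : fN (P : Subgroup G) = p - 1) :
    ∃ (S : Finset (IrrCharacter G)) (s : IrrCharacter G → ℤ),
      trivIrr G ∉ S ∧ (∀ χ ∈ S, s χ = 1 ∨ s χ = -1) ∧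
      (∀ χ ∈ S, (irrDeg χ : ℤ) ≡ 1 [ZMOD p] ∨ (irrDeg χ : ℤ) ≡ -1 [ZMOD p]) ∧
      1 + ∑ χ ∈ S, s χ * (irrDeg χ : ℤ) = 0 := by
  classical
  have hp : p.Prime := Fact.out
  obtain ⟨M, hM⟩ := Cfsg.Agent.Helper24.exists_isPModular p hp
  have hMp := isPrime_of_isPModular hM
  let _ : Fintype (IrrCharacter G) := Fintype.ofFinite _
  set θ₁ : IrrCharacter (Subgroup.centralizer ((P : Subgroup G) : Set G)) := trivIrr _ with hθ₁
  obtain ⟨B', hind'⟩ := Cfsg.Agent.Helper23.D1QI.exists_induced hM P hP θ₁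
  have hb : blockOf M (θ₁ : Subgroup.centralizer ((P : Subgroup G) : Set G) → ℂ) =
      principalBlock M (Subgroup.centralizer ((P : Subgroup G) : Set G)) := rfl
  have hind : IsInducedBlock M (Subgroup.centralizer ((P : Subgroup G) : Set G))
      (blockOf M (θ₁ : Subgroup.centralizer ((P : Subgroup G) : Set G) → ℂ))
      (principalBlock M G) :=
    (Cfsg.Agent.S0936.result p M hM _ _ ⟨B', hind'⟩).mpr hb
  have hθb : θ₁ ∈ blockOf M (θ₁ : Subgroup.centralizer ((P : Subgroup G) : Set G) → ℂ) :=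
    mem_blockOf_self hMp θ₁
  have hθP : ∀ x : Subgroup.centralizer ((P : Subgroup G) : Set G), (x : G) ∈ (P : Subgroup G) →
      (θ₁ : Subgroup.centralizer ((P : Subgroup G) : Set G) → ℂ) x =
        (θ₁ : Subgroup.centralizer ((P : Subgroup G) : Set G) → ℂ) 1 := fun _ _ => rfl
  have hζB : trivIrr G ∈ principalBlock M G := mem_blockOf_self hMp (trivIrr G)
  have hζdeg : irrDeg (trivIrr G) = 1 := by
    have h1 := irrDeg_spec (trivIrr G)
    rw [trivIrr_apply] at h1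
    exact_mod_cast h1.symm
  have hζ : ¬ p ∣ irrDeg (trivIrr G) := by
    rw [hζdeg]
    exact hp.one_lt.not_ge ∘ Nat.le_of_dvd Nat.one_pos
  obtain ⟨D, hDθ, hDB⟩ := exists_coreData_of_theta p M hM P hP (trivIrr G) hζ _ _ hind hζB θ₁ hθb hθP
  have hTeq : D.T = Subgroup.normalizer ((P : Subgroup G) : Set G) := by
    ext g
    rw [D.hT g, hDθ]
    exact ⟨fun h => h.1, fun h => ⟨h, fun _ _ _ => rfl⟩⟩
  have hef : D.e = D.f := by
    rw [← D.he, ← D.hf, hTeq]
  have hfN : fN (P : Subgroup G) = D.f := D.hf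
  have hp1 : 0 < p - 1 := by have := hp.two_le; omega
  have hDf : D.f = p - 1 := by rw [← hfN, hf]
  have hDe : D.e = p - 1 := by rw [hef, hDf]
  have hθdeg : irrDeg D.θ = 1 := by
    rw [hDθ]
    have h1 := irrDeg_spec θ₁
    rw [hθ₁, trivIrr_apply] at h1
    exact_mod_cast h1.symm
  -- a nontrivial `p`-linear character exists
  obtain ⟨μ₁, hμ₁⟩ : ∃ μ : Subgroup.centralizer ((P : Subgroup G) : Set G) → ℂ, NT p μ := by
    have h1 := Cfsg.Agent.S4503P.card_NT p P hP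
    have h2 : 0 < Nat.card {ν : Subgroup.centralizer ((P : Subgroup G) : Set G) → ℂ // NT p ν} := by
      rw [h1]; exact hp1
    obtain ⟨⟨μ, hμ⟩⟩ := (Nat.card_pos_iff.mp h2).1
    exact ⟨μ, hμ⟩
  have hDtriv : ∀ μ, NT p μ → Dnum (Subgroup.centralizer ((P : Subgroup G) : Set G)) μ
      (D.θ : Subgroup.centralizer ((P : Subgroup G) : Set G) → ℂ)
      ((trivIrr G : IrrCharacter G) : G → ℂ) = -1 := by
    intro μ hμ
    rw [hDθ]
    exact Dnum_triv_gen p P μ hμ
  -- exactly one exceptional character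
  set Ψ₀ : IrrCharacter G := D.Ψ μ₁ with hΨ₀
  have hone : ∀ μ, NT p μ → D.Ψ μ = Ψ₀ := by
    intro μ hμ
    have hc : Nat.card {χ : IrrCharacter G // ∃ μ, NT p μ ∧ χ = D.Ψ μ} = 1 := by
      rw [D.card_Y, hDe, Nat.div_self hp1]
    have hsub : Subsingleton {χ : IrrCharacter G // ∃ μ, NT p μ ∧ χ = D.Ψ μ} :=
      (Nat.card_eq_one_iff_unique.mp hc).1
    have := Subsingleton.elim (⟨D.Ψ μ, μ, hμ, rfl⟩ : {χ : IrrCharacter G // ∃ μ, NT p μ ∧ χ = D.Ψ μ})
      ⟨D.Ψ μ₁, μ₁, hμ₁, rfl⟩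
    exact congrArg Subtype.val this
  have hΨB : Ψ₀ ∈ D.B := D.Ψ_mem μ₁ hμ₁
  have hwΨ : D.w Ψ₀ = 0 := D.w_Ψ μ₁ hμ₁
  -- the combined sign function
  set t : IrrCharacter G → ℤ := fun χ => if χ = Ψ₀ then D.ε else D.w χ with ht
  have ht_triv : t (trivIrr G) = -1 := by
    by_cases h : trivIrr G = Ψ₀
    · have h1 := D.D_Ψ μ₁ hμ₁
      rw [← hΨ₀, ← h, hDtriv μ₁ hμ₁] at h1
      have h2 : ((D.ε : ℤ) : ℂ) = ((-1 : ℤ) : ℂ) := by rw [← h1]; simp
      simp only [ht, if_pos h]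
      exact_mod_cast h2
    · have h1 := D.D_w μ₁ hμ₁ (trivIrr G) h
      rw [hDtriv μ₁ hμ₁] at h1
      have h2 : ((D.w (trivIrr G) : ℤ) : ℂ) = ((-1 : ℤ) : ℂ) := by rw [← h1]; simp
      simp only [ht, if_neg h]
      exact_mod_cast h2
  have ht_out : ∀ χ, χ ∉ D.B → t χ = 0 := by
    intro χ hχ
    have hne : χ ≠ Ψ₀ := fun h => hχ (h ▸ hΨB)
    simp only [ht, if_neg hne]
    exact D.w_out χ hχ
  have ht_pm : ∀ χ ∈ D.B, t χ = 1 ∨ t χ = -1 := by
    intro χ hχ
    by_cases h : χ = Ψ₀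
    · simp only [ht, if_pos h]
      exact D.ε_pm
    · simp only [ht, if_neg h]
      apply D.w_X χ hχ
      intro μ hμ hχμ
      exact h (hχμ.trans (hone μ hμ))
  -- the relation at `1`
  have hrel : ∑ χ : IrrCharacter G, t χ * (irrDeg χ : ℤ) = 0 := by
    have h := D.rel μ₁ hμ₁ 1 (by rw [orderOf_one]; exact fun h => hp.one_lt.ne' (Nat.dvd_one.mp h))
    rw [finsum_eq_sum_of_fintype] at h
    have h3 : ((∑ χ : IrrCharacter G, t χ * (irrDeg χ : ℤ) : ℤ) : ℂ) = 0 := by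
      push_cast
      rw [← h]
      have h4 : ∀ χ : IrrCharacter G, ((t χ : ℤ) : ℂ) * (irrDeg χ : ℂ) =
          (D.w χ : ℂ) * (χ : G → ℂ) 1 + (if χ = Ψ₀ then (D.ε : ℂ) * (χ : G → ℂ) 1 else 0) := by
        intro χ
        rw [irrDeg_spec]
        by_cases hχ : χ = Ψ₀
        · simp only [ht, if_pos hχ]
          rw [hχ, hwΨ]
          simp
        · simp only [ht, if_neg hχ]
          simp
      rw [Finset.sum_congr rfl (fun χ _ => h4 χ), Finset.sum_add_distrib,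
        Finset.sum_ite_eq' Finset.univ Ψ₀, if_pos (Finset.mem_univ _)]
    exact_mod_cast h3
  set Bf : Finset (IrrCharacter G) := Finset.univ.filter (fun χ => χ ∈ D.B) with hBf
  have hrelB : ∑ χ ∈ Bf, t χ * (irrDeg χ : ℤ) = 0 := by
    rw [← hrel]
    apply Finset.sum_subset (Finset.subset_univ _)
    intro χ _ hχ
    have : χ ∉ D.B := fun h => hχ (Finset.mem_filter.2 ⟨Finset.mem_univ _, h⟩)
    rw [ht_out χ this, zero_mul]
  have htrivB : trivIrr G ∈ Bf := Finset.mem_filter.2 ⟨Finset.mem_univ _, D.mem⟩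
  refine ⟨Bf.erase (trivIrr G), fun χ => - t χ, Finset.notMem_erase _ _, ?_, ?_, ?_⟩
  · intro χ hχ
    have hχB : χ ∈ D.B := (Finset.mem_filter.1 (Finset.mem_of_mem_erase hχ)).2
    show - t χ = 1 ∨ - t χ = -1
    rcases ht_pm χ hχB with h | h
    · right; rw [h]
    · left; rw [h]; rfl
  · intro χ hχ
    have hχB : χ ∈ D.B := (Finset.mem_filter.1 (Finset.mem_of_mem_erase hχ)).2
    by_cases h : χ = Ψ₀
    · have h1 := D.deg_Y μ₁ hμ₁
      rw [← hΨ₀, ← h, hθdeg, mul_one, hDf] at h1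
      have hp1' : ((p - 1 : ℕ) : ℤ) = (p : ℤ) - 1 := by
        rw [Nat.cast_sub hp.one_le]; simp
      rw [hp1'] at h1
      have h2 : D.ε * ((p : ℤ) - 1) ≡ - D.ε [ZMOD p] := by
        have : D.ε * ((p : ℤ) - 1) = - D.ε + (p : ℤ) * D.ε := by ring
        rw [this]
        exact (Int.add_mul_emod_self_left _ _ _)
      rcases D.ε_pm with he | he
      · right
        rw [he] at h1 h2
        exact h1.trans h2
      · left
        rw [he] at h1 h2
        exact h1.trans (by simp at h2 ⊢)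
    · have h1 := D.deg_X χ hχB (fun μ hμ hχμ => h (hχμ.trans (hone μ hμ)))
      rw [← hef, Nat.div_self (by rw [hDe]; exact hp1), hθdeg] at h1
      have hw := D.w_X χ hχB (fun μ hμ hχμ => h (hχμ.trans (hone μ hμ)))
      rcases hw with hw | hw
      · right
        rw [hw] at h1
        simpa using h1
      · left
        rw [hw] at h1
        simpa using h1
  · have h1 := Finset.add_sum_erase Bf (fun χ => t χ * (irrDeg χ : ℤ)) htrivB
    rw [hrelB, ht_triv, hζdeg] at h1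
    have h2 : ∑ χ ∈ Bf.erase (trivIrr G), - t χ * (irrDeg χ : ℤ) =
        - ∑ χ ∈ Bf.erase (trivIrr G), t χ * (irrDeg χ : ℤ) := by
      rw [← Finset.sum_neg_distrib]
      exact Finset.sum_congr rfl (fun χ _ => by ring)
    show 1 + ∑ χ ∈ Bf.erase (trivIrr G), - t χ * (irrDeg χ : ℤ) = 0
    rw [h2]
    push_cast at h1
    linarith

end

end Cfsg.Agent.S0997R
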