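import Mathlib
import Cfsg.Prelude.Def_Classical
import Cfsg.Agent.Helper13.S2558LDefs
import Cfsg.Agent.Helper17.S2482Low
import Cfsg.Agent.Helper24.S2558LOMG
import Cfsg.Agent.Helper16.S2558LNORMEVAL
import Cfsg.Agent.Helper16.S2558LDISCTW

/-! S2558 chapter (L), piece REALH (helper5; driver helper13): the space `V_h = R[√δ]`, `R = F[Y]/(h)`, realises
`(2e, h², (-1)^e h(2) h(-2))`. -/

set_option autoImplicit false

universe u

namespace Cfsg.Agent.S2558P.LOW

open Polynomial

variable {F : Type u} [Field F]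

namespace REALH

/-- private copy of GRAMT: the form `(u, v) ↦ μ (u * v)` on `AdjoinRoot h` is nondegenerate -/
theorem det_gram_top_ne_zero' (h : F[X]) (hh : h.Monic) {I : Type} [Fintype I] [DecidableEq I]
    (b : Module.Basis I F (AdjoinRoot h)) :
    (Matrix.of fun i j : I => Cfsg.Agent.S2482P.LOW.topCoeff h hh (b i * b j)).det ≠ 0 := by
  intro hdet
  obtain ⟨c, hc0, hc⟩ := Matrix.exists_mulVec_eq_zero_iff.mpr hdet
  have hfin : Module.Finite F (AdjoinRoot h) := hh.finite_adjoinRoot
  have hne : Nonempty I := by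
    by_contra hI
    rw [not_nonempty_iff] at hI
    exact hc0 (Subsingleton.elim _ _)
  have hcard : Fintype.card I = h.natDegree := by
    rw [← Module.finrank_eq_card_basis b, (AdjoinRoot.powerBasis hh.ne_zero).finrank,
      AdjoinRoot.powerBasis_dim]
  have hn : 1 ≤ h.natDegree := by
    rw [← hcard]
    exact Fintype.card_pos
  have h1 : ∀ i, Cfsg.Agent.S2482P.LOW.topCoeff h hh (b i * ∑ j, c j • b j) = 0 := by
    intro i
    have h3 := congrFun hc i
    rw [Matrix.mulVec, dotProduct] at h3
    simp only [Matrix.of_apply, Pi.zero_apply] at h3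
    rw [Finset.mul_sum, map_sum, ← h3]
    apply Finset.sum_congr rfl
    intro j _
    rw [mul_smul_comm, map_smul, smul_eq_mul, mul_comm]
  have h2 : ∀ y, Cfsg.Agent.S2482P.LOW.topCoeff h hh ((∑ j, c j • b j) * y) = 0 := by
    intro y
    rw [← b.sum_repr y, Finset.mul_sum, map_sum]
    apply Finset.sum_eq_zero
    intro i _
    rw [mul_smul_comm, map_smul, mul_comm, h1 i, smul_zero]
  have hx0 := Cfsg.Agent.S2482P.LOW.topCoeff_nondeg h hh hn _ h2
  apply hc0
  have h4 := (Fintype.linearIndependent_iff.mp b.linearIndependent) c hx0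
  funext i
  exact h4 i

/-- the Gram matrix of the norm form in a product basis is block diagonal -/
theorem gram_prod {R : Type u} [CommRing R] [Algebra F R] {I : Type} [Fintype I] [DecidableEq I]
    (b : Module.Basis I F R) (μ : R →ₗ[F] F) (δ : R) :
    LinearMap.BilinForm.toMatrix (b.prod b) (normForm μ δ) =
      Matrix.fromBlocks (Matrix.of fun i j => μ (b i * b j)) 0 0
        (Matrix.of fun i j => μ ((-δ) * (b i * b j))) := by
  ext i j
  rw [LinearMap.BilinForm.toMatrix_apply, normForm_apply]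
  rcases i with i | i <;> rcases j with j | j
  · rw [Module.Basis.prod_apply_inl_fst, Module.Basis.prod_apply_inl_fst,
      Module.Basis.prod_apply_inl_snd, Module.Basis.prod_apply_inl_snd, Matrix.fromBlocks_apply₁₁,
      Matrix.of_apply, mul_zero, mul_zero, sub_zero]
  · rw [Module.Basis.prod_apply_inl_fst, Module.Basis.prod_apply_inr_fst,
      Module.Basis.prod_apply_inl_snd, Module.Basis.prod_apply_inr_snd, Matrix.fromBlocks_apply₁₂,
      Matrix.zero_apply, mul_zero, zero_mul, mul_zero, sub_zero, map_zero]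
  · rw [Module.Basis.prod_apply_inr_fst, Module.Basis.prod_apply_inl_fst,
      Module.Basis.prod_apply_inr_snd, Module.Basis.prod_apply_inl_snd, Matrix.fromBlocks_apply₂₁,
      Matrix.zero_apply, zero_mul, mul_zero, mul_zero, sub_zero, map_zero]
  · rw [Module.Basis.prod_apply_inr_fst, Module.Basis.prod_apply_inr_fst,
      Module.Basis.prod_apply_inr_snd, Module.Basis.prod_apply_inr_snd, Matrix.fromBlocks_apply₂₂,
      Matrix.of_apply, mul_zero, zero_sub, neg_mul]

/-- the norm of `-δ = (2 - Y)(2 + Y)` -/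
theorem norm_neg_delta (h : F[X]) (hh : h.Monic) (e : ℕ) (he : h.natDegree = e) :
    Algebra.norm F (-(AdjoinRoot.root h * AdjoinRoot.root h - 4)) =
      (-1) ^ e * (h.eval 2 * h.eval (-2)) := by
  have : Module.Finite F (AdjoinRoot h) := hh.finite_adjoinRoot
  have hfr : Module.finrank F (AdjoinRoot h) = e := by
    rw [(AdjoinRoot.powerBasis hh.ne_zero).finrank, AdjoinRoot.powerBasis_dim, he]
  have e1 : -(AdjoinRoot.root h * AdjoinRoot.root h - 4) =
      (algebraMap F (AdjoinRoot h) 2 - AdjoinRoot.root h) *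
        (algebraMap F (AdjoinRoot h) (-1) *
          (algebraMap F (AdjoinRoot h) (-2) - AdjoinRoot.root h)) := by
    simp only [map_neg, map_one, map_ofNat]
    ring
  rw [e1, map_mul, map_mul, norm_C_sub_root h hh 2, norm_C_sub_root h hh (-2),
    Algebra.norm_algebraMap, hfr]
  ring

end REALH

open REALH in
/-- REALH -/
theorem realizes_h (h2 : (2 : F) ≠ 0) (h : F[X]) (hh : h.Monic) (e : ℕ) (he : h.natDegree = e)
    (hp : h.eval 2 ≠ 0) (hm : h.eval (-2) ≠ 0) :
    Realizes F (2 * e) (h * h) ((-1) ^ e * (h.eval 2 * h.eval (-2))) := by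
  classical
  have hfin : Module.Finite F (AdjoinRoot h) := hh.finite_adjoinRoot
  have hdim : (AdjoinRoot.powerBasis hh.ne_zero).dim = e := by
    rw [AdjoinRoot.powerBasis_dim, he]
  let b0 : Module.Basis (Fin e) F (AdjoinRoot h) :=
    (AdjoinRoot.powerBasis hh.ne_zero).basis.reindex (finCongr hdim)
  have hδ : AdjoinRoot.root h * AdjoinRoot.root h -
      (AdjoinRoot.root h * AdjoinRoot.root h - 4) = 4 := sub_sub_cancel _ _
  refine ⟨AdjoinRoot h × AdjoinRoot h, inferInstance, inferInstance, Fin e ⊕ Fin e, inferInstance,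
    inferInstance,
    normForm (Cfsg.Agent.S2482P.LOW.topCoeff h hh) (AdjoinRoot.root h * AdjoinRoot.root h - 4),
    omg (F := F) (AdjoinRoot.root h) (AdjoinRoot.root h * AdjoinRoot.root h - 4),
    omgInv (F := F) (AdjoinRoot.root h) (AdjoinRoot.root h * AdjoinRoot.root h - 4),
    b0.prod b0,
    (Matrix.of fun i j : Fin e => Cfsg.Agent.S2482P.LOW.topCoeff h hh (b0 i * b0 j)).det,
    ?_, ?_, ?_, ?_, ?_, ?_, ?_, ?_⟩
  · rw [Fintype.card_sum, Fintype.card_fin, two_mul]
  · exact fun u v => normForm_symm _ _ u v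
  · exact fun u v => normForm_omg h2 _ _ _ hδ u v
  · exact omg_comp_omgInv h2 _ _ hδ
  · exact det_gram_top_ne_zero' h hh b0
  · exact mul_ne_zero (pow_ne_zero _ (neg_ne_zero.mpr one_ne_zero)) (mul_ne_zero hp hm)
  · rw [gram_prod, Matrix.det_fromBlocks_zero₂₁, det_twist, norm_neg_delta h hh e he]
    ring
  · rw [LinearMap.charpoly_toMatrix, omg_add_omgInv h2, LinearMap.charpoly_prodMap,
      Cfsg.Agent.S2482P.LOW.charpoly_mulLeft_root h hh]

end Cfsg.Agent.S2558P.LOW
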