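import Mathlib
import Cfsg.Agent.Helper4.S5033Defs
import Cfsg.Agent.Helper25.RootComm5

/-! S5033 board, piece L0 (the class, S5032), part 1: partner, conjugacy, normal subgroups meeting a member
(`L0.inf_center` is in `Cfsg.Agent.Helper5.S5033L0C`, which imports this module). -/

set_option autoImplicit false

open Cfsg Cfsg.Agent.S5033P

namespace Cfsg.Agent.S5033P

variable {G : Type*} [Group G] {S : Set (Subgroup G)}

theorem L0.exists_partner (H : Hyp S) {A : Subgroup G} (hA : A ∈ S) :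
    ∃ B ∈ S, IsRankOnePair A B := by
  obtain ⟨A₀, hA₀, B₀, hB₀, hne⟩ := H.h2
  have key : ∀ C ∈ S, C ≠ A → ∃ B ∈ S, IsRankOnePair A B := by
    intro C hC hCA
    rcases (H.h1 A hA C hC).cases_head with h | ⟨D, hAD, -⟩
    · exact absurd h.symm hCA
    · exact ⟨D, hAD.2.1, hAD.2.2⟩
  by_cases h : A₀ = A
  · exact key B₀ hB₀ (fun hB => hne (h.trans hB.symm))
  · exact key A₀ hA₀ h

theorem L0.conj (H : Hyp S) {A B : Subgroup G} (hA : A ∈ S) (hB : B ∈ S) :
    ∃ g : G, B = conjBy A g :=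
  Cfsg.Agent.Helper25.fadj_reach_conj (H.h1 A hA B hB)

theorem L0.inf_ne_bot (H : Hyp S) {N : Subgroup G} (hN : N.Normal) {A : Subgroup G} (hA : A ∈ S)
    (h : N ⊓ A ≠ ⊥) : ∀ B ∈ S, N ⊓ B ≠ ⊥ := by
  intro B hB
  obtain ⟨g, rfl⟩ := L0.conj H hA hB
  obtain ⟨⟨x, hxm⟩, hx1⟩ := (Subgroup.ne_bot_iff_exists_ne_one).mp h
  have hx1' : x ≠ 1 := fun h1 => hx1 (Subtype.ext h1)
  intro hbot
  have hmem : g * x * g⁻¹ ∈ N ⊓ conjBy A g :=
    ⟨hN.conj_mem x hxm.1 g, ⟨x, hxm.2, rfl⟩⟩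
  rw [hbot, Subgroup.mem_bot] at hmem
  apply hx1'
  have : x = g⁻¹ * (g * x * g⁻¹) * g := by group
  rw [this, hmem]
  group

theorem L0.eq_top_of_le (H : Hyp S) {N : Subgroup G} (hN : N.Normal) {A : Subgroup G} (hA : A ∈ S)
    (h : A ≤ N) : N = ⊤ := by
  rw [eq_top_iff, ← H.hS.generates]
  apply iSup₂_le
  intro B hB
  obtain ⟨g, rfl⟩ := L0.conj H hA hB
  rintro _ ⟨x, hx, rfl⟩
  exact hN.conj_mem x (h hx) g

theorem L0.sup_eq_top (H : Hyp S) {A : Subgroup G} (hA : A ∈ S) : commutator G ⊔ A = ⊤ := by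
  have hN : (commutator G ⊔ A).Normal := by
    constructor
    intro n hn g
    have h1 : g * n * g⁻¹ * n⁻¹ ∈ commutator G := by
      rw [commutator_def]
      exact Subgroup.commutator_mem_commutator (Subgroup.mem_top g) (Subgroup.mem_top n)
    have h2 : g * n * g⁻¹ = (g * n * g⁻¹ * n⁻¹) * n := by group
    rw [h2]
    exact Subgroup.mul_mem _ (Subgroup.mem_sup_left h1) hn
  exact L0.eq_top_of_le H hN hA le_sup_right

end Cfsg.Agent.S5033P
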