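import Mathlib
import Cfsg.Prelude.Def_GeometricClasses
import Cfsg.Agent.Helper19.Mono.Defs

/-! S5634, monomial half (driver helper19): piece SECMONO.  The section of a subgroup containing all monomial matrices of
determinant one contains all monomial matrices. -/

set_option autoImplicit false
set_option linter.unusedSectionVars false
set_option linter.style.haveILetI false

namespace Cfsg.Agent.MonoP

open Matrix

variable {ι : Type} [Fintype ι] [DecidableEq ι] {K : Type*} [Field K] [Fintype K]

namespace SECMONO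

/-- the splitting of the index type at `o`. -/
noncomputable def splitEquiv (o : ι) : {i : ι // i ≠ o} ⊕ {i : ι // ¬ i ≠ o} ≃ ι :=
  Equiv.sumCompl (fun i : ι => i ≠ o)

/-- `h` on the block, `c` at `(o, o)`. -/
noncomputable def extMat (o : ι) (h : Matrix {i : ι // i ≠ o} {i : ι // i ≠ o} K) (c : K) : Matrix ι ι K :=
  Matrix.reindex (splitEquiv o) (splitEquiv o)
    (Matrix.fromBlocks h 0 0 (Matrix.of fun _ _ => c))

theorem splitEquiv_symm_ne (o : ι) (i : ι) (hi : i ≠ o) : (splitEquiv o).symm i = Sum.inl ⟨i, hi⟩ := by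
  unfold splitEquiv
  exact Equiv.sumCompl_symm_apply_of_pos (p := fun i : ι => i ≠ o) hi

theorem splitEquiv_symm_self (o : ι) : (splitEquiv o).symm o = Sum.inr ⟨o, by simp⟩ := by
  unfold splitEquiv
  exact Equiv.sumCompl_symm_apply_of_neg (p := fun i : ι => i ≠ o) (by simp)

theorem extMat_block (o : ι) (h : Matrix {i : ι // i ≠ o} {i : ι // i ≠ o} K) (c : K)
    (i j : {i : ι // i ≠ o}) : extMat o h c i j = h i j := by
  unfold extMat
  rw [Matrix.reindex_apply, Matrix.submatrix_apply, splitEquiv_symm_ne o i i.2, splitEquiv_symm_ne o j j.2]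
  rfl

theorem extMat_col (o : ι) (h : Matrix {i : ι // i ≠ o} {i : ι // i ≠ o} K) (c : K)
    (i : ι) (hi : i ≠ o) : extMat o h c i o = 0 := by
  unfold extMat
  rw [Matrix.reindex_apply, Matrix.submatrix_apply, splitEquiv_symm_ne o i hi, splitEquiv_symm_self o]
  rfl

theorem extMat_row (o : ι) (h : Matrix {i : ι // i ≠ o} {i : ι // i ≠ o} K) (c : K)
    (j : ι) (hj : j ≠ o) : extMat o h c o j = 0 := by
  unfold extMat
  rw [Matrix.reindex_apply, Matrix.submatrix_apply, splitEquiv_symm_ne o j hj, splitEquiv_symm_self o]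
  rfl

theorem extMat_det (o : ι) (h : Matrix {i : ι // i ≠ o} {i : ι // i ≠ o} K) (c : K) :
    (extMat o h c).det = h.det * c := by
  unfold extMat
  rw [Matrix.det_reindex_self, Matrix.det_fromBlocks_zero₂₁]
  haveI : Unique {i : ι // ¬ i ≠ o} :=
    ⟨⟨⟨o, by simp⟩⟩, fun x => Subtype.ext (by have := x.2; push Not at this; exact this)⟩
  congr 1
  rw [Matrix.det_unique]
  rfl

theorem extMat_isMono (o : ι) (h : Matrix {i : ι // i ≠ o} {i : ι // i ≠ o} K) (c : K) (hh : IsMono h) :
    IsMono (extMat o h c) := by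
  obtain ⟨σ, hσ⟩ := hh
  refine ⟨Equiv.Perm.ofSubtype σ, ?_⟩
  intro i j hij
  by_cases hi : i = o
  · by_cases hj : j = o
    · exfalso
      apply hij
      rw [hi, hj]
      exact (Equiv.Perm.ofSubtype_apply_of_not_mem σ (by simp)).symm
    · rw [hi]; exact extMat_row o h c j hj
  · by_cases hj : j = o
    · rw [hj]; exact extMat_col o h c i hi
    · have := extMat_block o h c ⟨i, hi⟩ ⟨j, hj⟩
      simp only at this
      rw [this]
      apply hσ
      intro hEq
      apply hij
      rw [Equiv.Perm.ofSubtype_apply_of_mem σ (show j ≠ o from hj)]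
      exact congrArg Subtype.val hEq

end SECMONO

/-- SECMONO (M): the section contains all monomial matrices: for a monomial `h` on `{i // i ≠ o}` let `y` be `h` on the
block and `(det h)⁻¹` at `(o, o)`; `y` is monomial of determinant one. -/
theorem SECMONO.monoLE (M : Subgroup (GL ι K)) (hmon : MonoSLE M) (o : ι)
    (S : Subgroup (GL {i : ι // i ≠ o} K)) (hS : (S : Set (GL {i : ι // i ≠ o} K)) = secSet M o) : MonoLE S := by
  intro h hh
  have hdet0 : (h.val).det ≠ 0 := by
    have := (Matrix.isUnit_iff_isUnit_det _).1 (Units.isUnit h)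
    exact this.ne_zero
  set c : K := ((h.val).det)⁻¹ with hc
  have hdet : (SECMONO.extMat o h.val c).det = 1 := by
    rw [SECMONO.extMat_det, hc, mul_inv_cancel₀ hdet0]
  let y : GL ι K := Matrix.GeneralLinearGroup.mkOfDetNeZero
    (SECMONO.extMat o h.val c) (by rw [hdet]; exact one_ne_zero)
  have hyv : (y : Matrix ι ι K) = SECMONO.extMat o h.val c := rfl
  have hyM : y ∈ M := by
    apply hmon
    · rw [hyv]; exact SECMONO.extMat_isMono o _ c hh
    · rw [hyv]; exact hdet
  have : h ∈ (S : Set (GL {i : ι // i ≠ o} K)) := by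
    rw [hS]
    refine ⟨y, hyM, ?_, ?_⟩
    · intro i hi
      rw [hyv]; exact SECMONO.extMat_col o _ c i hi
    · intro i j
      rw [hyv]; exact SECMONO.extMat_block o _ c i j
  exact this

end Cfsg.Agent.MonoP
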