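import Cfsg.Agent.Helper5.TDDefs
import Cfsg.Agent.Helper29.TwoDegG

set_option autoImplicit false

/-! # S4460 piece TRI: basics on `LeThree` -/

namespace Cfsg.Agent.Helper5.TD

open Cfsg Cfsg.Agent.Helper24 Cfsg.Agent.Helper29.TwoDeg Cfsg.Agent.Helper29.BG
open scoped ComplexConjugate commutatorElement

universe u

variable {G : Type u} [Group G] [Finite G]

theorem leThree_of_card
    (hcd : Nat.card {n : ℕ // ∃ χ : IrrCharacter G, charDegree (χ : G → ℂ) = n} = 3) :
    LeThree G := by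
  unfold LeThree
  have : (cdSet G).ncard = Nat.card {n : ℕ // ∃ χ : IrrCharacter G, charDegree (χ : G → ℂ) = n} :=
    rfl
  rw [this, hcd]

theorem mem_cdSet_iff (d : ℕ) : d ∈ cdSet G ↔ ∃ χ : IrrCharacter G, irrDeg χ = d := by
  unfold cdSet
  constructor
  · rintro ⟨χ, hχ⟩
    exact ⟨χ, by rw [← charDegree_irr]; exact hχ⟩
  · rintro ⟨χ, hχ⟩
    exact ⟨χ, by rw [charDegree_irr]; exact hχ⟩

theorem leThree_of_degrees (S : Finset ℕ) (hS : S.card ≤ 3)
    (h : ∀ χ : IrrCharacter G, irrDeg χ ∈ S) : LeThree G := by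
  unfold LeThree
  have hsub : cdSet G ⊆ (S : Set ℕ) := by
    intro d hd
    obtain ⟨χ, rfl⟩ := (mem_cdSet_iff d).mp hd
    exact h χ
  calc (cdSet G).ncard ≤ (S : Set ℕ).ncard := Set.ncard_le_ncard hsub (Finset.finite_toSet S)
    _ = S.card := Set.ncard_coe_finset S
    _ ≤ 3 := hS

theorem leThree_quot (N : Subgroup G) [N.Normal] (h : LeThree G) : LeThree (G ⧸ N) := by
  unfold LeThree at h ⊢
  refine le_trans (Set.ncard_le_ncard ?_ cdSet_finite) h
  rintro d ⟨η, hη⟩
  refine ⟨irrInflate N η, ?_⟩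
  rw [← hη]
  unfold charDegree
  rfl

theorem one_mem_cdSet : 1 ∈ cdSet G := by
  rw [mem_cdSet_iff]
  refine ⟨trivIrr G, ?_⟩
  rw [irrDeg_eq_one_iff]
  simp [trivIrr_apply]

theorem trichotomy (h : LeThree G) :
    (∀ a b : G, a * b = b * a) ∨
    (∃ m : ℕ, 1 < m ∧ ∀ χ : IrrCharacter G, irrDeg χ = 1 ∨ irrDeg χ = m) ∨
    ∃ m n : ℕ, ThreeDeg G m n := by
  classical
  unfold LeThree at h
  have hfin : (cdSet G).Finite := cdSet_finite
  have h1 : 1 ∈ cdSet G := one_mem_cdSet
  have hpos : ∀ d ∈ cdSet G, 1 ≤ d := by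
    intro d hd
    obtain ⟨χ, rfl⟩ := (mem_cdSet_iff d).mp hd
    exact irrDeg_pos χ
  have hmem : ∀ χ : IrrCharacter G, irrDeg χ ∈ cdSet G := fun χ => (mem_cdSet_iff _).mpr ⟨χ, rfl⟩
  set T : Finset ℕ := hfin.toFinset.erase 1 with hT
  have hTmem : ∀ d, d ∈ T ↔ d ∈ cdSet G ∧ d ≠ 1 := by
    intro d
    rw [hT, Finset.mem_erase, Set.Finite.mem_toFinset]
    tauto
  have hTcard : T.card ≤ 2 := by
    have h2 : hfin.toFinset.card = (cdSet G).ncard := (Set.ncard_eq_toFinset_card _ hfin).symm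
    have h3 : T.card = hfin.toFinset.card - 1 :=
      Finset.card_erase_of_mem ((Set.Finite.mem_toFinset hfin).mpr h1)
    omega
  have hTgt : ∀ d ∈ T, 1 < d := by
    intro d hd
    obtain ⟨h4, h5⟩ := (hTmem d).mp hd
    have := hpos d h4
    omega
  have hcase : ∀ χ : IrrCharacter G, irrDeg χ = 1 ∨ irrDeg χ ∈ T := by
    intro χ
    by_cases h4 : irrDeg χ = 1
    · left; exact h4
    · right; exact (hTmem _).mpr ⟨hmem χ, h4⟩
  -- case on the cardinality of T
  rcases Nat.lt_or_ge T.card 1 with h0 | h0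
  · -- T empty: abelian
    left
    have hTe : T = ∅ := Finset.card_eq_zero.mp (by omega)
    apply (comm_iff_forall_irr_one (G := G)).mpr
    intro χ
    rcases hcase χ with h4 | h4
    · exact (irrDeg_eq_one_iff χ).mp h4
    · rw [hTe] at h4; exact absurd h4 (Finset.notMem_empty _)
  rcases Nat.lt_or_ge T.card 2 with h2 | h2
  · -- T a singleton
    right; left
    have hT1 : T.card = 1 := by omega
    obtain ⟨m, hm⟩ := Finset.card_eq_one.mp hT1
    refine ⟨m, hTgt m (by rw [hm]; exact Finset.mem_singleton_self m), ?_⟩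
    intro χ
    rcases hcase χ with h4 | h4
    · left; exact h4
    · right; rw [hm] at h4; exact Finset.mem_singleton.mp h4
  · -- T has two elements
    right; right
    have hT2 : T.card = 2 := by omega
    obtain ⟨a, b, hab, hTab⟩ := Finset.card_eq_two.mp hT2
    have ha : a ∈ T := by rw [hTab]; simp
    have hb : b ∈ T := by rw [hTab]; simp
    obtain ⟨χa, hχa⟩ := (mem_cdSet_iff a).mp ((hTmem a).mp ha).1
    obtain ⟨χb, hχb⟩ := (mem_cdSet_iff b).mp ((hTmem b).mp hb).1
    rcases lt_or_gt_of_ne hab with hlt | hlt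
    · refine ⟨a, b, hTgt a ha, hlt, ?_, ⟨χa, hχa⟩, ⟨χb, hχb⟩⟩
      intro χ
      rcases hcase χ with h4 | h4
      · left; exact h4
      · right
        rw [hTab] at h4
        simpa using h4
    · refine ⟨b, a, hTgt b hb, hlt, ?_, ⟨χb, hχb⟩, ⟨χa, hχa⟩⟩
      intro χ
      rcases hcase χ with h4 | h4
      · left; exact h4
      · right
        rw [hTab] at h4
        have : irrDeg χ = a ∨ irrDeg χ = b := by simpa using h4
        tauto

theorem derived_two_of_two (m : ℕ) (h : ∀ χ : IrrCharacter G, irrDeg χ = 1 ∨ irrDeg χ = m) :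
    derivedSeries G 2 = ⊥ := by
  classical
  have hd1 : derivedSeries G 1 = commutator G := by
    rw [derivedSeries_succ, derivedSeries_zero, commutator_def]
  have hcomm : ∀ a ∈ commutator G, ∀ b ∈ commutator G, a * b = b * a := by
    by_cases hex : ∃ χ : IrrCharacter G, irrDeg χ ≠ 1
    · obtain ⟨χ₀, hχ₀⟩ := hex
      have hm : irrDeg χ₀ = m := (h χ₀).resolve_left hχ₀
      have hm1 : m ≠ 1 := by rw [← hm]; exact hχ₀
      apply two_degrees_commutator_comm m
      · intro χ
        rw [charDegree_irr]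
        exact h χ
      · exact ⟨χ₀, by rw [charDegree_irr]; exact hm⟩
      · exact hm1
    · push Not at hex
      have hab : ∀ a b : G, a * b = b * a :=
        (comm_iff_forall_irr_one (G := G)).mpr (fun χ => (irrDeg_eq_one_iff χ).mp (hex χ))
      intro a _ b _
      exact hab a b
  rw [eq_bot_iff, derivedSeries_succ, hd1, Subgroup.commutator_le]
  intro a ha b hb
  rw [Subgroup.mem_bot, commutatorElement_eq_one_iff_commute]
  exact hcomm a ha b hb

end Cfsg.Agent.Helper5.TD
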