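import Mathlib

/-!
# Zassenhaus' theorem on perfect fixed-point-free groups: the linear setup

A finite group `G` acting fixed-point-freely on a finite `𝔽_p`-vector space `V`, where `p` is a
"split" prime: `p ≡ 1 mod 120·|G|`, so that every element of `G` is diagonalisable over `ZMod p`
and `ZMod p` contains `√5`, `√-3`, `√-1`.
-/

set_option autoImplicit false

namespace Cfsg.Agent.Helper5.Zas

/-- A fixed-point-free linear representation over a split prime field. -/
structure Setup (p : ℕ) (G : Type*) (V : Type*) [Group G] [AddCommGroup V]
    [Module (ZMod p) V] where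
  /-- the representation -/
  ρ : G →* Module.End (ZMod p) V
  /-- it is fixed-point-free -/
  fpf : ∀ g : G, g ≠ 1 → ∀ v : V, ρ g v = v → v = 0
  /-- the prime is split -/
  split : 120 * Nat.card G ∣ p - 1

variable {p : ℕ} {G : Type*} {V : Type*} [Group G] [AddCommGroup V] [Module (ZMod p) V]

/-- The "trace" `ρ g + ρ g⁻¹` of a group element. -/
def Setup.tr (S : Setup p G V) (g : G) : Module.End (ZMod p) V := S.ρ g + S.ρ g⁻¹

/-- The "pure part" `2 ρ g + 1` of an element of order three. -/
def Setup.pure (S : Setup p G V) (g : G) : Module.End (ZMod p) V := 2 * S.ρ g + 1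

/-- A pair of elements of order three is *good* if its product has order `4` or `6`
(the alternative, for a non-cyclic pair, being order `10`). -/
def Good (x w : G) : Prop := orderOf (x * w) = 4 ∨ orderOf (x * w) = 6

/-- "Binary tetrahedral or binary icosahedral": order `24` over `A₄` or order `120` over `A₅`. -/
def IsBinary (H : Subgroup G) : Prop :=
  (Nat.card H = 24 ∧ ∃ π : H →* alternatingGroup (Fin 4),
    Function.Surjective π ∧ Nat.card π.ker = 2) ∨
  (Nat.card H = 120 ∧ ∃ π : H →* alternatingGroup (Fin 5),
    Function.Surjective π ∧ Nat.card π.ker = 2)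

end Cfsg.Agent.Helper5.Zas
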