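import Cfsg.Agent.Helper5.ZasAlgA

/-!
# Theorem A of the Zassenhaus cluster: the ring-theoretic core

Quaternion-frame calculus (`proj`, `ext4`, `qmul`) and `thmA_alg`.
-/

set_option autoImplicit false
set_option linter.unusedSimpArgs false
set_option linter.unnecessarySeqFocus false
set_option linter.unreachableTactic false
set_option linter.unusedTactic false
set_option linter.unusedVariables false

namespace Cfsg.Agent.Helper5.Zas.Alg

variable {E : Type*} [Ring E] {i j k : E}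

/-- four times the projection onto the centraliser of the frame -/
def proj (i j k : E) (r : E) : E := r - i * r * i - j * r * j - k * r * k

theorem proj_inC (F : Frame i j k) (r : E) : InC i j (proj i j k r) := by
  unfold proj
  constructor
  · simp only [sub_mul, mul_sub, mul_assoc, F.ii, F.ji, F.ki, F.ii', F.ij', F.ik', mul_neg, neg_mul,
      mul_one, neg_neg, sub_neg_eq_add]
    abel
  · simp only [sub_mul, mul_sub, mul_assoc, F.ij, F.jj, F.kj, F.ji', F.jj', F.jk', mul_neg, neg_mul,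
      mul_one, neg_neg, sub_neg_eq_add]
    abel

/-- the decomposition -/
theorem four_mul_eq (F : Frame i j k) (r : E) :
    4 * r = proj i j k r + i * proj i j k (-(i * r)) + j * proj i j k (-(j * r))
      + k * proj i j k (-(k * r)) := by
  unfold proj
  simp only [sub_eq_add_neg, add_mul, mul_add, mul_assoc, mul_neg, neg_mul, neg_neg, neg_add,
    F.ii', F.ij', F.ik', F.ji', F.jj', F.jk', F.ki', F.kj', F.kk']
  have : (4 : E) * r = r + r + r + r := by noncomm_ring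
  rw [this]
  abel

end Cfsg.Agent.Helper5.Zas.Alg

namespace Cfsg.Agent.Helper5.Zas.Alg

variable {E : Type*} [Ring E] {i j k : E}

theorem proj_of_inC (F : Frame i j k) {r : E} (hr : InC i j r) : proj i j k r = 4 * r := by
  unfold proj
  have hk := hr.comm_k F
  rw [mul_assoc i r i, hr.1, ← mul_assoc, F.ii, mul_assoc j r j, hr.2, ← mul_assoc, F.jj,
    mul_assoc k r k, hk, ← mul_assoc, F.kk]
  noncomm_ring

theorem proj_add (x y : E) : proj i j k (x + y) = proj i j k x + proj i j k y := by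
  unfold proj
  simp only [mul_add, add_mul]
  abel

theorem proj_i_mul (F : Frame i j k) {r : E} (hr : InC i j r) : proj i j k (i * r) = 0 := by
  unfold proj
  have hk := hr.comm_k F
  simp only [mul_assoc, hr.1, hr.2, hk, F.ii', F.ij', F.ik', F.ji', F.jj', F.jk', F.ki', F.kj',
    F.kk', F.ii, F.ji, F.ki, mul_neg, neg_mul, neg_neg, sub_neg_eq_add]
  abel

theorem proj_j_mul (F : Frame i j k) {r : E} (hr : InC i j r) : proj i j k (j * r) = 0 := by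
  unfold proj
  have hk := hr.comm_k F
  simp only [mul_assoc, hr.1, hr.2, hk, F.ii', F.ij', F.ik', F.ji', F.jj', F.jk', F.ki', F.kj',
    F.kk', F.ij, F.jj, F.kj, mul_neg, neg_mul, neg_neg, sub_neg_eq_add]
  abel

theorem proj_k_mul (F : Frame i j k) {r : E} (hr : InC i j r) : proj i j k (k * r) = 0 := by
  unfold proj
  have hk := hr.comm_k F
  simp only [mul_assoc, hr.1, hr.2, hk, F.ii', F.ij', F.ik', F.ji', F.jj', F.jk', F.ki', F.kj',
    F.kk', F.ik, F.jk, F.kk, mul_neg, neg_mul, neg_neg, sub_neg_eq_add]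
  abel

/-- the `1`-component -/
theorem proj_quad (F : Frame i j k) {r₀ r₁ r₂ r₃ : E} (h₀ : InC i j r₀) (h₁ : InC i j r₁)
    (h₂ : InC i j r₂) (h₃ : InC i j r₃) :
    proj i j k (r₀ + i * r₁ + j * r₂ + k * r₃) = 4 * r₀ := by
  rw [proj_add, proj_add, proj_add, proj_of_inC F h₀, proj_i_mul F h₁, proj_j_mul F h₂,
    proj_k_mul F h₃]
  simp

end Cfsg.Agent.Helper5.Zas.Alg

namespace Cfsg.Agent.Helper5.Zas.Alg

variable {E : Type*} [Ring E] {i j k : E}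

/-- uniqueness of the decomposition -/
theorem ext4 (F : Frame i j k) {r₀ r₁ r₂ r₃ : E} (h₀ : InC i j r₀) (h₁ : InC i j r₁)
    (h₂ : InC i j r₂) (h₃ : InC i j r₃) (h : r₀ + i * r₁ + j * r₂ + k * r₃ = 0) :
    4 * r₀ = 0 ∧ 4 * r₁ = 0 ∧ 4 * r₂ = 0 ∧ 4 * r₃ = 0 := by
  have e0 : proj i j k (r₀ + i * r₁ + j * r₂ + k * r₃) = 4 * r₀ := proj_quad F h₀ h₁ h₂ h₃
  have e1 : -(i * (r₀ + i * r₁ + j * r₂ + k * r₃)) = r₁ + i * (-r₀) + j * r₃ + k * (-r₂) := by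
    simp only [mul_add, F.ii', F.ij', F.ik', mul_neg, neg_add, neg_neg]
    abel
  have e2 : -(j * (r₀ + i * r₁ + j * r₂ + k * r₃)) = r₂ + i * (-r₃) + j * (-r₀) + k * r₁ := by
    simp only [mul_add, F.ji', F.jj', F.jk', mul_neg, neg_add, neg_neg]
    abel
  have e3 : -(k * (r₀ + i * r₁ + j * r₂ + k * r₃)) = r₃ + i * r₂ + j * (-r₁) + k * (-r₀) := by
    simp only [mul_add, F.ki', F.kj', F.kk', mul_neg, neg_add, neg_neg]
    abel
  have p1 := proj_quad F h₁ h₀.neg h₃ h₂.neg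
  have p2 := proj_quad F h₂ h₃.neg h₀.neg h₁
  have p3 := proj_quad F h₃ h₂ h₁.neg h₀.neg
  rw [← e1, h] at p1
  rw [← e2, h] at p2
  rw [← e3, h] at p3
  rw [h] at e0
  have z : proj i j k (0 : E) = 0 := by unfold proj; simp
  simp only [mul_zero, neg_zero, z] at e0 p1 p2 p3
  exact ⟨e0.symm, p1.symm, p2.symm, p3.symm⟩

/-- the quaternion product formula with coefficients in the centraliser -/
theorem qmul (F : Frame i j k) {r₀ r₁ r₂ r₃ s₀ s₁ s₂ s₃ : E} (h₀ : InC i j r₀) (h₁ : InC i j r₁)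
    (h₂ : InC i j r₂) (h₃ : InC i j r₃) :
    (r₀ + i * r₁ + j * r₂ + k * r₃) * (s₀ + i * s₁ + j * s₂ + k * s₃) =
      (r₀ * s₀ - r₁ * s₁ - r₂ * s₂ - r₃ * s₃) + i * (r₀ * s₁ + r₁ * s₀ + r₂ * s₃ - r₃ * s₂)
        + j * (r₀ * s₂ + r₂ * s₀ + r₃ * s₁ - r₁ * s₃)
        + k * (r₀ * s₃ + r₃ * s₀ + r₁ * s₂ - r₂ * s₁) := by
  simp only [sub_eq_add_neg, add_mul, mul_add, mul_assoc, mul_neg, neg_mul, neg_neg,
    h₀.i', h₀.j', h₀.k' F, h₁.i', h₁.j', h₁.k' F, h₂.i', h₂.j', h₂.k' F, h₃.i', h₃.j', h₃.k' F,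
    F.ii', F.ij', F.ik', F.ji', F.jj', F.jk', F.ki', F.kj', F.kk']
  abel

end Cfsg.Agent.Helper5.Zas.Alg

namespace Cfsg.Agent.Helper5.Zas.Alg

variable {E : Type*} [Ring E] {i j k : E}

theorem four_cancel (h2 : ∀ x : E, 2 * x = 0 → x = 0) {x : E} (h : 4 * x = 0) : x = 0 := by
  apply h2; apply h2
  rw [← h]; noncomm_ring

theorem ext4c (F : Frame i j k) (h2 : ∀ x : E, 2 * x = 0 → x = 0) {r₀ r₁ r₂ r₃ c : E}
    (h₀ : InC i j r₀) (h₁ : InC i j r₁) (h₂ : InC i j r₂) (h₃ : InC i j r₃) (hc : InC i j c)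
    (h : r₀ + i * r₁ + j * r₂ + k * r₃ = c) : r₀ = c ∧ r₁ = 0 ∧ r₂ = 0 ∧ r₃ = 0 := by
  have h' : (r₀ - c) + i * r₁ + j * r₂ + k * r₃ = 0 := by rw [← h]; abel
  obtain ⟨e0, e1, e2, e3⟩ := ext4 F (h₀.sub hc) h₁ h₂ h₃ h'
  exact ⟨sub_eq_zero.mp (four_cancel h2 e0), four_cancel h2 e1, four_cancel h2 e2,
    four_cancel h2 e3⟩

theorem anti_formula (F : Frame i j k) {a₀ a₁ a₂ a₃ : E} (h₀ : InC i j a₀) (h₁ : InC i j a₁)
    (h₂ : InC i j a₂) (h₃ : InC i j a₃) {ε₁ ε₂ ε₃ : E} (e₁ : ε₁ = 1 ∨ ε₁ = -1)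
    (e₂ : ε₂ = 1 ∨ ε₂ = -1) (e₃ : ε₃ = 1 ∨ ε₃ = -1) :
    (ε₁ * i + ε₂ * j + ε₃ * k) * (a₀ + i * a₁ + j * a₂ + k * a₃) +
        (a₀ + i * a₁ + j * a₂ + k * a₃) * (ε₁ * i + ε₂ * j + ε₃ * k) =
      -(2 * (ε₁ * a₁ + ε₂ * a₂ + ε₃ * a₃)) + i * (2 * (ε₁ * a₀)) + j * (2 * (ε₂ * a₀))
        + k * (2 * (ε₃ * a₀)) := by
  rcases e₁ with rfl | rfl <;> rcases e₂ with rfl | rfl <;> rcases e₃ with rfl | rfl <;>
  · simp only [two_mul, one_mul, neg_mul, sub_eq_add_neg, add_mul, mul_add, mul_assoc, mul_neg,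
      neg_neg, neg_add, h₀.i', h₀.j', h₀.k' F, h₁.i', h₁.j', h₁.k' F, h₂.i', h₂.j', h₂.k' F,
      h₃.i', h₃.j', h₃.k' F, h₀.1, h₀.2, h₀.comm_k F, h₁.1, h₁.2, h₁.comm_k F, h₂.1, h₂.2,
      h₂.comm_k F, h₃.1, h₃.2, h₃.comm_k F,
      F.ii', F.ij', F.ik', F.ji', F.jj', F.jk', F.ki', F.kj', F.kk', F.ii, F.ij, F.ik, F.ji, F.jj,
      F.jk, F.ki, F.kj, F.kk, mul_one]
    abel

end Cfsg.Agent.Helper5.Zas.Alg

namespace Cfsg.Agent.Helper5.Zas.Alg

variable {E : Type*} [Ring E] {i j k : E}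

theorem inC_pm {ε : E} (e : ε = 1 ∨ ε = -1) : InC i j ε := by
  rcases e with rfl | rfl
  · exact InC.one
  · exact InC.one.neg

theorem Bsq (F : Frame i j k) (h2 : ∀ x : E, 2 * x = 0 → x = 0) {a₀ a₁ a₂ a₃ : E}
    (h₀ : InC i j a₀) (h₁ : InC i j a₁) (h₂ : InC i j a₂) (h₃ : InC i j a₃) {ε₁ ε₂ ε₃ : E}
    (e₁ : ε₁ = 1 ∨ ε₁ = -1) (e₂ : ε₂ = 1 ∨ ε₂ = -1) (e₃ : ε₃ = 1 ∨ ε₃ = -1) {C : E}
    (hC : InC i j C)
    (h : ((ε₁ * i + ε₂ * j + ε₃ * k) * (a₀ + i * a₁ + j * a₂ + k * a₃) +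
        (a₀ + i * a₁ + j * a₂ + k * a₃) * (ε₁ * i + ε₂ * j + ε₃ * k)) ^ 2 = C) :
    4 * ((ε₁ * a₁ + ε₂ * a₂ + ε₃ * a₃) * (ε₁ * a₁ + ε₂ * a₂ + ε₃ * a₃)) - 12 * (a₀ * a₀) = C ∧
      (ε₁ * a₁ + ε₂ * a₂ + ε₃ * a₃) * a₀ + a₀ * (ε₁ * a₁ + ε₂ * a₂ + ε₃ * a₃) = 0 := by
  rw [anti_formula F h₀ h₁ h₂ h₃ e₁ e₂ e₃, pow_two] at h
  have c1 := inC_pm (i := i) (j := j) e₁
  have c2 := inC_pm (i := i) (j := j) e₂
  have c3 := inC_pm (i := i) (j := j) e₃
  have t : InC i j (2 : E) := InC.ofNat 2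
  set aε := ε₁ * a₁ + ε₂ * a₂ + ε₃ * a₃ with haε
  have hε : InC i j aε := ((c1.mul h₁).add (c2.mul h₂)).add (c3.mul h₃)
  have r0 : InC i j (-(2 * aε)) := (t.mul hε).neg
  have r1 : InC i j (2 * (ε₁ * a₀)) := t.mul (c1.mul h₀)
  have r2 : InC i j (2 * (ε₂ * a₀)) := t.mul (c2.mul h₀)
  have r3 : InC i j (2 * (ε₃ * a₀)) := t.mul (c3.mul h₀)
  rw [qmul F r0 r1 r2 r3] at h
  obtain ⟨g0, g1, g2, g3⟩ := ext4c F h2 ((((r0.mul r0).sub (r1.mul r1)).sub (r2.mul r2)).sub (r3.mul r3))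
    ((((r0.mul r1).add (r1.mul r0)).add (r2.mul r3)).sub (r3.mul r2))
    ((((r0.mul r2).add (r2.mul r0)).add (r3.mul r1)).sub (r1.mul r3))
    ((((r0.mul r3).add (r3.mul r0)).add (r1.mul r2)).sub (r2.mul r1)) hC h
  constructor
  · rw [← g0]
    rcases e₁ with rfl | rfl <;> rcases e₂ with rfl | rfl <;> rcases e₃ with rfl | rfl <;>
      noncomm_ring
  · apply four_cancel h2
    rcases e₁ with rfl | rfl
    · have : -(-(2 * aε) * (2 * (1 * a₀)) + 2 * (1 * a₀) * -(2 * aε) +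
          2 * (ε₂ * a₀) * (2 * (ε₃ * a₀)) - 2 * (ε₃ * a₀) * (2 * (ε₂ * a₀))) = 0 := by
        rw [g1, neg_zero]
      rw [← this]
      rcases e₂ with rfl | rfl <;> rcases e₃ with rfl | rfl <;> noncomm_ring
    · rw [← g1]
      rcases e₂ with rfl | rfl <;> rcases e₃ with rfl | rfl <;> noncomm_ring

end Cfsg.Agent.Helper5.Zas.Alg

namespace Cfsg.Agent.Helper5.Zas.Alg

variable {E : Type*} [Ring E] {i j k : E}

theorem wsq (F : Frame i j k) (h2 : ∀ x : E, 2 * x = 0 → x = 0) {a₀ a₁ a₂ a₃ : E}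
    (h₀ : InC i j a₀) (h₁ : InC i j a₁) (h₂ : InC i j a₂) (h₃ : InC i j a₃)
    (h : (a₀ + i * a₁ + j * a₂ + k * a₃) * (a₀ + i * a₁ + j * a₂ + k * a₃) = -3) :
    a₀ * a₀ - a₁ * a₁ - a₂ * a₂ - a₃ * a₃ = -3 ∧
      a₀ * a₁ + a₁ * a₀ + a₂ * a₃ - a₃ * a₂ = 0 ∧
      a₀ * a₂ + a₂ * a₀ + a₃ * a₁ - a₁ * a₃ = 0 ∧
      a₀ * a₃ + a₃ * a₀ + a₁ * a₂ - a₂ * a₁ = 0 := by
  rw [qmul F h₀ h₁ h₂ h₃] at h
  exact ext4c F h2 ((((h₀.mul h₀).sub (h₁.mul h₁)).sub (h₂.mul h₂)).sub (h₃.mul h₃))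
    ((((h₀.mul h₁).add (h₁.mul h₀)).add (h₂.mul h₃)).sub (h₃.mul h₂))
    ((((h₀.mul h₂).add (h₂.mul h₀)).add (h₃.mul h₁)).sub (h₁.mul h₃))
    ((((h₀.mul h₃).add (h₃.mul h₀)).add (h₁.mul h₂)).sub (h₂.mul h₁)) (InC.ofNat 3).neg h

section formulas

variable (F : Frame i j k) {a₀ a₁ a₂ a₃ : E} (h₀ : InC i j a₀) (h₁ : InC i j a₁)
    (h₂ : InC i j a₂) (h₃ : InC i j a₃)
include F h₀ h₁ h₂ h₃

theorem comm_i : i * (a₀ + i * a₁ + j * a₂ + k * a₃) - (a₀ + i * a₁ + j * a₂ + k * a₃) * i =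
    0 + i * 0 + j * (-(2 * a₃)) + k * (2 * a₂) := by
  simp only [two_mul, sub_eq_add_neg, add_mul, mul_add, mul_assoc, mul_neg, neg_mul,
    neg_neg, neg_add, h₀.1, h₁.1, h₂.1, h₃.1,
    F.ii', F.ij', F.ik', F.ji', F.jj', F.jk', F.ki', F.kj', F.kk', F.ii, F.ij, F.ik, F.ji, F.jj,
    F.jk, F.ki, F.kj, F.kk, mul_zero, mul_one]
  abel

theorem comm_j : j * (a₀ + i * a₁ + j * a₂ + k * a₃) - (a₀ + i * a₁ + j * a₂ + k * a₃) * j =
    0 + i * (2 * a₃) + j * 0 + k * (-(2 * a₁)) := by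
  simp only [two_mul, sub_eq_add_neg, add_mul, mul_add, mul_assoc, mul_neg, neg_mul,
    neg_neg, neg_add, h₀.2, h₁.2, h₂.2, h₃.2,
    F.ii', F.ij', F.ik', F.ji', F.jj', F.jk', F.ki', F.kj', F.kk', F.ii, F.ij, F.ik, F.ji, F.jj,
    F.jk, F.ki, F.kj, F.kk, mul_zero, mul_one]
  abel

theorem comm_k : k * (a₀ + i * a₁ + j * a₂ + k * a₃) - (a₀ + i * a₁ + j * a₂ + k * a₃) * k =
    0 + i * (-(2 * a₂)) + j * (2 * a₁) + k * 0 := by
  simp only [two_mul, sub_eq_add_neg, add_mul, mul_add, mul_assoc, mul_neg, neg_mul,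
    neg_neg, neg_add, h₀.comm_k F, h₁.comm_k F, h₂.comm_k F, h₃.comm_k F,
    F.ii', F.ij', F.ik', F.ji', F.jj', F.jk', F.ki', F.kj', F.kk', F.ii, F.ij, F.ik, F.ji, F.jj,
    F.jk, F.ki, F.kj, F.kk, mul_zero, mul_one]
  abel

theorem anti_i : i * (a₀ + i * a₁ + j * a₂ + k * a₃) + (a₀ + i * a₁ + j * a₂ + k * a₃) * i =
    -(2 * a₁) + i * (2 * a₀) + j * 0 + k * 0 := by
  simp only [two_mul, sub_eq_add_neg, add_mul, mul_add, mul_assoc, mul_neg, neg_mul,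
    neg_neg, neg_add, h₀.1, h₁.1, h₂.1, h₃.1,
    F.ii', F.ij', F.ik', F.ji', F.jj', F.jk', F.ki', F.kj', F.kk', F.ii, F.ij, F.ik, F.ji, F.jj,
    F.jk, F.ki, F.kj, F.kk, mul_zero, mul_one]
  abel

theorem anti_j : j * (a₀ + i * a₁ + j * a₂ + k * a₃) + (a₀ + i * a₁ + j * a₂ + k * a₃) * j =
    -(2 * a₂) + i * 0 + j * (2 * a₀) + k * 0 := by
  simp only [two_mul, sub_eq_add_neg, add_mul, mul_add, mul_assoc, mul_neg, neg_mul,
    neg_neg, neg_add, h₀.2, h₁.2, h₂.2, h₃.2,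
    F.ii', F.ij', F.ik', F.ji', F.jj', F.jk', F.ki', F.kj', F.kk', F.ii, F.ij, F.ik, F.ji, F.jj,
    F.jk, F.ki, F.kj, F.kk, mul_zero, mul_one]
  abel

theorem anti_k : k * (a₀ + i * a₁ + j * a₂ + k * a₃) + (a₀ + i * a₁ + j * a₂ + k * a₃) * k =
    -(2 * a₃) + i * 0 + j * 0 + k * (2 * a₀) := by
  simp only [two_mul, sub_eq_add_neg, add_mul, mul_add, mul_assoc, mul_neg, neg_mul,
    neg_neg, neg_add, h₀.comm_k F, h₁.comm_k F, h₂.comm_k F, h₃.comm_k F,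
    F.ii', F.ij', F.ik', F.ji', F.jj', F.jk', F.ki', F.kj', F.kk', F.ii, F.ij, F.ik, F.ji, F.jj,
    F.jk, F.ki, F.kj, F.kk, mul_zero, mul_one]
  abel

end formulas

end Cfsg.Agent.Helper5.Zas.Alg

namespace Cfsg.Agent.Helper5.Zas.Alg

variable {E : Type*} [Ring E] {i j k : E}

theorem two_pow_ne_zero [Nontrivial E] (h2 : ∀ x : E, 2 * x = 0 → x = 0) (n : ℕ) :
    (2 : E) ^ n ≠ 0 := by
  induction n with
  | zero => simp
  | succ n ih =>
    intro h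
    apply ih
    apply h2
    rw [← h, pow_succ']

/-- conclusion for the first axis -/
theorem concl_i (F : Frame i j k) (h2 : ∀ x : E, 2 * x = 0 → x = 0) {a₀ a₁ a₂ a₃ : E}
    (h₀ : InC i j a₀) (h₁ : InC i j a₁) (h₂ : InC i j a₂) (h₃ : InC i j a₃)
    (u1 : a₁ * a₁ ≠ 0) (u0 : a₀ * a₀ ≠ 0) (z21 : a₂ * a₁ = 0) (z31 : a₃ * a₁ = 0) :
    (i * (a₀ + i * a₁ + j * a₂ + k * a₃) - (a₀ + i * a₁ + j * a₂ + k * a₃) * i) * (a₁ * a₁) = 0 ∧
    (j * (a₀ + i * a₁ + j * a₂ + k * a₃) ≠ (a₀ + i * a₁ + j * a₂ + k * a₃) * j) ∧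
    (j * (a₀ + i * a₁ + j * a₂ + k * a₃) ≠ -((a₀ + i * a₁ + j * a₂ + k * a₃) * j)) ∧
    (k * (a₀ + i * a₁ + j * a₂ + k * a₃) ≠ (a₀ + i * a₁ + j * a₂ + k * a₃) * k) ∧
    (k * (a₀ + i * a₁ + j * a₂ + k * a₃) ≠ -((a₀ + i * a₁ + j * a₂ + k * a₃) * k)) := by
  have t : InC i j (2 : E) := InC.ofNat 2
  have a1ne : a₁ ≠ 0 := fun h => u1 (by rw [h, mul_zero])
  have a0ne : a₀ ≠ 0 := fun h => u0 (by rw [h, mul_zero])
  refine ⟨?_, ?_, ?_, ?_, ?_⟩
  · rw [comm_i F h₀ h₁ h₂ h₃]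
    simp only [zero_add, mul_zero, add_mul, mul_assoc, neg_mul, ← mul_assoc a₃ a₁ a₁,
      ← mul_assoc a₂ a₁ a₁, z21, z31, zero_mul, mul_zero, neg_zero, add_zero]
  · intro h
    have h' := sub_eq_zero.mpr h
    rw [comm_j F h₀ h₁ h₂ h₃] at h'
    obtain ⟨-, -, -, e⟩ := ext4c F h2 InC.zero (t.mul h₃) InC.zero (t.mul h₁).neg InC.zero h'
    exact a1ne (h2 _ (neg_eq_zero.mp e))
  · intro h
    have h' : j * (a₀ + i * a₁ + j * a₂ + k * a₃) + (a₀ + i * a₁ + j * a₂ + k * a₃) * j = 0 := by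
      rw [h]; abel
    rw [anti_j F h₀ h₁ h₂ h₃] at h'
    obtain ⟨-, -, e, -⟩ := ext4c F h2 (t.mul h₂).neg InC.zero (t.mul h₀) InC.zero InC.zero h'
    exact a0ne (h2 _ e)
  · intro h
    have h' := sub_eq_zero.mpr h
    rw [comm_k F h₀ h₁ h₂ h₃] at h'
    obtain ⟨-, -, e, -⟩ := ext4c F h2 InC.zero (t.mul h₂).neg (t.mul h₁) InC.zero InC.zero h'
    exact a1ne (h2 _ e)
  · intro h
    have h' : k * (a₀ + i * a₁ + j * a₂ + k * a₃) + (a₀ + i * a₁ + j * a₂ + k * a₃) * k = 0 := by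
      rw [h]; abel
    rw [anti_k F h₀ h₁ h₂ h₃] at h'
    obtain ⟨-, -, -, e⟩ := ext4c F h2 (t.mul h₃).neg InC.zero InC.zero (t.mul h₀) InC.zero h'
    exact a0ne (h2 _ e)

end Cfsg.Agent.Helper5.Zas.Alg

namespace Cfsg.Agent.Helper5.Zas.Alg

variable {E : Type*} [Ring E] {i j k : E}

/-- conclusion for the second axis -/
theorem concl_j (F : Frame i j k) (h2 : ∀ x : E, 2 * x = 0 → x = 0) {a₀ a₁ a₂ a₃ : E}
    (h₀ : InC i j a₀) (h₁ : InC i j a₁) (h₂ : InC i j a₂) (h₃ : InC i j a₃)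
    (u2 : a₂ * a₂ ≠ 0) (u0 : a₀ * a₀ ≠ 0) (z12 : a₁ * a₂ = 0) (z32 : a₃ * a₂ = 0) :
    (j * (a₀ + i * a₁ + j * a₂ + k * a₃) - (a₀ + i * a₁ + j * a₂ + k * a₃) * j) * (a₂ * a₂) = 0 ∧
    (i * (a₀ + i * a₁ + j * a₂ + k * a₃) ≠ (a₀ + i * a₁ + j * a₂ + k * a₃) * i) ∧
    (i * (a₀ + i * a₁ + j * a₂ + k * a₃) ≠ -((a₀ + i * a₁ + j * a₂ + k * a₃) * i)) ∧
    (k * (a₀ + i * a₁ + j * a₂ + k * a₃) ≠ (a₀ + i * a₁ + j * a₂ + k * a₃) * k) ∧
    (k * (a₀ + i * a₁ + j * a₂ + k * a₃) ≠ -((a₀ + i * a₁ + j * a₂ + k * a₃) * k)) := by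
  have t : InC i j (2 : E) := InC.ofNat 2
  have a2ne : a₂ ≠ 0 := fun h => u2 (by rw [h, mul_zero])
  have a0ne : a₀ ≠ 0 := fun h => u0 (by rw [h, mul_zero])
  refine ⟨?_, ?_, ?_, ?_, ?_⟩
  · rw [comm_j F h₀ h₁ h₂ h₃]
    simp only [zero_add, mul_zero, add_mul, mul_assoc, neg_mul, ← mul_assoc a₃ a₂ a₂,
      ← mul_assoc a₁ a₂ a₂, z12, z32, zero_mul, mul_zero, neg_zero, add_zero]
  · intro h
    have h' := sub_eq_zero.mpr h
    rw [comm_i F h₀ h₁ h₂ h₃] at h'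
    obtain ⟨-, -, -, e⟩ := ext4c F h2 InC.zero InC.zero (t.mul h₃).neg (t.mul h₂) InC.zero h'
    exact a2ne (h2 _ e)
  · intro h
    have h' : i * (a₀ + i * a₁ + j * a₂ + k * a₃) + (a₀ + i * a₁ + j * a₂ + k * a₃) * i = 0 := by
      rw [h]; abel
    rw [anti_i F h₀ h₁ h₂ h₃] at h'
    obtain ⟨-, e, -, -⟩ := ext4c F h2 (t.mul h₁).neg (t.mul h₀) InC.zero InC.zero InC.zero h'
    exact a0ne (h2 _ e)
  · intro h
    have h' := sub_eq_zero.mpr h
    rw [comm_k F h₀ h₁ h₂ h₃] at h'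
    obtain ⟨-, e, -, -⟩ := ext4c F h2 InC.zero (t.mul h₂).neg (t.mul h₁) InC.zero InC.zero h'
    exact a2ne (h2 _ (neg_eq_zero.mp e))
  · intro h
    have h' : k * (a₀ + i * a₁ + j * a₂ + k * a₃) + (a₀ + i * a₁ + j * a₂ + k * a₃) * k = 0 := by
      rw [h]; abel
    rw [anti_k F h₀ h₁ h₂ h₃] at h'
    obtain ⟨-, -, -, e⟩ := ext4c F h2 (t.mul h₃).neg InC.zero InC.zero (t.mul h₀) InC.zero h'
    exact a0ne (h2 _ e)

/-- conclusion for the third axis -/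
theorem concl_k (F : Frame i j k) (h2 : ∀ x : E, 2 * x = 0 → x = 0) {a₀ a₁ a₂ a₃ : E}
    (h₀ : InC i j a₀) (h₁ : InC i j a₁) (h₂ : InC i j a₂) (h₃ : InC i j a₃)
    (u3 : a₃ * a₃ ≠ 0) (u0 : a₀ * a₀ ≠ 0) (z13 : a₁ * a₃ = 0) (z23 : a₂ * a₃ = 0) :
    (k * (a₀ + i * a₁ + j * a₂ + k * a₃) - (a₀ + i * a₁ + j * a₂ + k * a₃) * k) * (a₃ * a₃) = 0 ∧
    (i * (a₀ + i * a₁ + j * a₂ + k * a₃) ≠ (a₀ + i * a₁ + j * a₂ + k * a₃) * i) ∧
    (i * (a₀ + i * a₁ + j * a₂ + k * a₃) ≠ -((a₀ + i * a₁ + j * a₂ + k * a₃) * i)) ∧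
    (j * (a₀ + i * a₁ + j * a₂ + k * a₃) ≠ (a₀ + i * a₁ + j * a₂ + k * a₃) * j) ∧
    (j * (a₀ + i * a₁ + j * a₂ + k * a₃) ≠ -((a₀ + i * a₁ + j * a₂ + k * a₃) * j)) := by
  have t : InC i j (2 : E) := InC.ofNat 2
  have a3ne : a₃ ≠ 0 := fun h => u3 (by rw [h, mul_zero])
  have a0ne : a₀ ≠ 0 := fun h => u0 (by rw [h, mul_zero])
  refine ⟨?_, ?_, ?_, ?_, ?_⟩
  · rw [comm_k F h₀ h₁ h₂ h₃]
    simp only [zero_add, mul_zero, add_mul, mul_assoc, neg_mul, ← mul_assoc a₂ a₃ a₃,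
      ← mul_assoc a₁ a₃ a₃, z13, z23, zero_mul, mul_zero, neg_zero, add_zero]
  · intro h
    have h' := sub_eq_zero.mpr h
    rw [comm_i F h₀ h₁ h₂ h₃] at h'
    obtain ⟨-, -, e, -⟩ := ext4c F h2 InC.zero InC.zero (t.mul h₃).neg (t.mul h₂) InC.zero h'
    exact a3ne (h2 _ (neg_eq_zero.mp e))
  · intro h
    have h' : i * (a₀ + i * a₁ + j * a₂ + k * a₃) + (a₀ + i * a₁ + j * a₂ + k * a₃) * i = 0 := by
      rw [h]; abel
    rw [anti_i F h₀ h₁ h₂ h₃] at h'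
    obtain ⟨-, e, -, -⟩ := ext4c F h2 (t.mul h₁).neg (t.mul h₀) InC.zero InC.zero InC.zero h'
    exact a0ne (h2 _ e)
  · intro h
    have h' := sub_eq_zero.mpr h
    rw [comm_j F h₀ h₁ h₂ h₃] at h'
    obtain ⟨-, e, -, -⟩ := ext4c F h2 InC.zero (t.mul h₃) InC.zero (t.mul h₁).neg InC.zero h'
    exact a3ne (h2 _ e)
  · intro h
    have h' : j * (a₀ + i * a₁ + j * a₂ + k * a₃) + (a₀ + i * a₁ + j * a₂ + k * a₃) * j = 0 := by
      rw [h]; abel
    rw [anti_j F h₀ h₁ h₂ h₃] at h'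
    obtain ⟨-, -, e, -⟩ := ext4c F h2 (t.mul h₂).neg InC.zero (t.mul h₀) InC.zero InC.zero h'
    exact a0ne (h2 _ e)

end Cfsg.Agent.Helper5.Zas.Alg

namespace Cfsg.Agent.Helper5.Zas.Alg

variable {E : Type*} [Ring E] {i j k : E}

theorem two_pow_cancel (h2 : ∀ x : E, 2 * x = 0 → x = 0) (n : ℕ) {x : E}
    (h : (2 : E) ^ n * x = 0) : x = 0 := by
  induction n with
  | zero => simpa using h
  | succ n ih =>
    apply ih
    apply h2
    rw [← h, pow_succ', mul_assoc]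

set_option maxHeartbeats 1600000 in
theorem core [Nontrivial E] (F : Frame i j k) (h2 : ∀ x : E, 2 * x = 0 → x = 0)
    {a₀ a₁ a₂ a₃ : E} (h₀ : InC i j a₀) (h₁ : InC i j a₁) (h₂ : InC i j a₂) (h₃ : InC i j a₃)
    (hw : (a₀ + i * a₁ + j * a₂ + k * a₃) * (a₀ + i * a₁ + j * a₂ + k * a₃) = -3)
    (b0 b1 b2 b3 : Bool)
    (g0 : (((1 : E) * i + 1 * j + 1 * k) * (a₀ + i * a₁ + j * a₂ + k * a₃) +
      (a₀ + i * a₁ + j * a₂ + k * a₃) * ((1 : E) * i + 1 * j + 1 * k)) ^ 2 =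
        if b0 then 20 else 4)
    (g1 : (((1 : E) * i + (-1) * j + (-1) * k) * (a₀ + i * a₁ + j * a₂ + k * a₃) +
      (a₀ + i * a₁ + j * a₂ + k * a₃) * ((1 : E) * i + (-1) * j + (-1) * k)) ^ 2 =
        if b1 then 20 else 4)
    (g2 : (((-1 : E) * i + 1 * j + (-1) * k) * (a₀ + i * a₁ + j * a₂ + k * a₃) +
      (a₀ + i * a₁ + j * a₂ + k * a₃) * ((-1 : E) * i + 1 * j + (-1) * k)) ^ 2 =
        if b2 then 20 else 4)
    (g3 : (((-1 : E) * i + (-1) * j + 1 * k) * (a₀ + i * a₁ + j * a₂ + k * a₃) +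
      (a₀ + i * a₁ + j * a₂ + k * a₃) * ((-1 : E) * i + (-1) * j + 1 * k)) ^ 2 =
        if b3 then 20 else 4) :
    (b0.toNat + b1.toNat + b2.toNat + b3.toNat = 2) ∨
    ∃ q, (q = i ∨ q = j ∨ q = k) ∧ ∃ u : E, u ≠ 0 ∧
      (q * (a₀ + i * a₁ + j * a₂ + k * a₃) - (a₀ + i * a₁ + j * a₂ + k * a₃) * q) * u = 0 ∧
      ∀ q', (q' = i ∨ q' = j ∨ q' = k) → q' ≠ q →
        q' * (a₀ + i * a₁ + j * a₂ + k * a₃) ≠ (a₀ + i * a₁ + j * a₂ + k * a₃) * q' ∧
        q' * (a₀ + i * a₁ + j * a₂ + k * a₃) ≠ -((a₀ + i * a₁ + j * a₂ + k * a₃) * q') := by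
  obtain ⟨w0, w1, w2, w3⟩ := wsq F h2 h₀ h₁ h₂ h₃ hw
  have hC : ∀ b : Bool, InC i j (if b then (20 : E) else 4) := by
    intro b
    cases b
    · simpa using (InC.ofNat 4 : InC i j (4 : E))
    · simpa using (InC.ofNat 20 : InC i j (20 : E))
  obtain ⟨p0, n0⟩ := Bsq F h2 h₀ h₁ h₂ h₃ (Or.inl rfl) (Or.inl rfl) (Or.inl rfl) (hC b0) g0
  obtain ⟨p1, n1⟩ := Bsq F h2 h₀ h₁ h₂ h₃ (Or.inl rfl) (Or.inr rfl) (Or.inr rfl) (hC b1) g1
  obtain ⟨p2, n2⟩ := Bsq F h2 h₀ h₁ h₂ h₃ (Or.inr rfl) (Or.inl rfl) (Or.inr rfl) (hC b2) g2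
  obtain ⟨p3, n3⟩ := Bsq F h2 h₀ h₁ h₂ h₃ (Or.inr rfl) (Or.inr rfl) (Or.inl rfl) (hC b3) g3
  have s1 : a₁ * a₀ + a₀ * a₁ = 0 := by
    apply h2
    linear_combination (norm := skip) n0 + n1
    noncomm_ring
  have s2 : a₂ * a₀ + a₀ * a₂ = 0 := by
    apply h2
    linear_combination (norm := skip) n0 + n2
    noncomm_ring
  have s3 : a₃ * a₀ + a₀ * a₃ = 0 := by
    apply h2
    linear_combination (norm := skip) n0 + n3
    noncomm_ring
  have c23 : a₃ * a₂ = a₂ * a₃ := by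
    linear_combination (norm := skip) s1 - w1
    noncomm_ring
  have c31 : a₃ * a₁ = a₁ * a₃ := by
    linear_combination (norm := skip) w2 - s2
    noncomm_ring
  have c12 : a₂ * a₁ = a₁ * a₂ := by
    linear_combination (norm := skip) s3 - w3
    noncomm_ring
  have e0 : -(8 * (a₀ * a₀)) + 12 + 8 * (a₁ * a₂ + a₁ * a₃ + a₂ * a₃) =
      if b0 then 20 else 4 := by
    linear_combination (norm := skip) p0 + 4 * w0 - 4 * c12 - 4 * c31 - 4 * c23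
    noncomm_ring <;> norm_num
  have e1 : -(8 * (a₀ * a₀)) + 12 + 8 * (-(a₁ * a₂) - a₁ * a₃ + a₂ * a₃) =
      if b1 then 20 else 4 := by
    linear_combination (norm := skip) p1 + 4 * w0 + 4 * c12 + 4 * c31 - 4 * c23
    noncomm_ring <;> norm_num
  have e2 : -(8 * (a₀ * a₀)) + 12 + 8 * (-(a₁ * a₂) + a₁ * a₃ - a₂ * a₃) =
      if b2 then 20 else 4 := by
    linear_combination (norm := skip) p2 + 4 * w0 + 4 * c12 - 4 * c31 + 4 * c23
    noncomm_ring <;> norm_num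
  have e3 : -(8 * (a₀ * a₀)) + 12 + 8 * (a₁ * a₂ - a₁ * a₃ - a₂ * a₃) =
      if b3 then 20 else 4 := by
    linear_combination (norm := skip) p3 + 4 * w0 - 4 * c12 + 4 * c31 + 4 * c23
    noncomm_ring <;> norm_num
  have EA : 32 * (a₀ * a₀) = 48 - ((if b0 then (20 : E) else 4) + (if b1 then (20 : E) else 4) +
      (if b2 then (20 : E) else 4) + (if b3 then (20 : E) else 4)) := by
    linear_combination (norm := skip) -e0 - e1 - e2 - e3
    noncomm_ring <;> norm_num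
  have EX : 32 * (a₁ * a₂) = (if b0 then (20 : E) else 4) + (if b3 then (20 : E) else 4) -
      (if b1 then (20 : E) else 4) - (if b2 then (20 : E) else 4) := by
    linear_combination (norm := skip) e0 + e3 - e1 - e2
    noncomm_ring <;> norm_num
  have EY : 32 * (a₁ * a₃) = (if b0 then (20 : E) else 4) + (if b2 then (20 : E) else 4) -
      (if b1 then (20 : E) else 4) - (if b3 then (20 : E) else 4) := by
    linear_combination (norm := skip) e0 + e2 - e1 - e3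
    noncomm_ring <;> norm_num
  have EZ : 32 * (a₂ * a₃) = (if b0 then (20 : E) else 4) + (if b1 then (20 : E) else 4) -
      (if b2 then (20 : E) else 4) - (if b3 then (20 : E) else 4) := by
    linear_combination (norm := skip) e0 + e1 - e2 - e3
    noncomm_ring <;> norm_num
  have c12' : ∀ x, a₂ * (a₁ * x) = a₁ * (a₂ * x) := fun x => by
    rw [← mul_assoc, c12, mul_assoc]
  have c31' : ∀ x, a₃ * (a₁ * x) = a₁ * (a₃ * x) := fun x => by
    rw [← mul_assoc, c31, mul_assoc]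
  have c23' : ∀ x, a₃ * (a₂ * x) = a₂ * (a₃ * x) := fun x => by
    rw [← mul_assoc, c23, mul_assoc]
  have id1 : a₁ * a₁ * (a₂ * a₃) = a₁ * a₂ * (a₁ * a₃) := by
    simp only [mul_assoc, c12, c31, c23, c12', c31', c23']
  have id2 : a₂ * a₂ * (a₁ * a₃) = a₁ * a₂ * (a₂ * a₃) := by
    simp only [mul_assoc, c12, c31, c23, c12', c31', c23']
  have id3 : a₃ * a₃ * (a₁ * a₂) = a₁ * a₃ * (a₂ * a₃) := by
    simp only [mul_assoc, c12, c31, c23, c12', c31', c23']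
  have t1 : a₁ * a₁ * ((32 * (a₂ * a₃)) * (32 * (a₂ * a₃))) * 32 =
      (32 * (a₁ * a₂)) * (32 * (a₁ * a₃)) * (32 * (a₂ * a₃)) := by
    have := congrArg (fun x => 1024 * x * (32 * (a₂ * a₃))) id1
    beta_reduce at this
    linear_combination (norm := skip) this
    noncomm_ring
  have t2 : a₂ * a₂ * ((32 * (a₁ * a₃)) * (32 * (a₁ * a₃))) * 32 =
      (32 * (a₁ * a₂)) * (32 * (a₂ * a₃)) * (32 * (a₁ * a₃)) := by
    have := congrArg (fun x => 1024 * x * (32 * (a₁ * a₃))) id2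
    beta_reduce at this
    linear_combination (norm := skip) this
    noncomm_ring
  have t3 : a₃ * a₃ * ((32 * (a₁ * a₂)) * (32 * (a₁ * a₂))) * 32 =
      (32 * (a₁ * a₃)) * (32 * (a₂ * a₃)) * (32 * (a₁ * a₂)) := by
    have := congrArg (fun x => 1024 * x * (32 * (a₁ * a₂))) id3
    beta_reduce at this
    linear_combination (norm := skip) this
    noncomm_ring
  have h32 : (2 : E) ^ 5 = 32 := by norm_num
  cases b0 <;> cases b1 <;> cases b2 <;> cases b3 <;>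
    simp only [Bool.false_eq_true, if_false, if_true, ↓reduceIte] at EA EX EY EZ <;>
    rw [EX, EY, EZ] at t1 t2 t3 <;>
    first
    | (left; rfl)
    | (exfalso
       apply two_pow_ne_zero h2 14
       linear_combination (norm := skip) (8192 : E) * w0 - 256 * EA + t1 + t2 + t3
       noncomm_ring <;> norm_num
       done)
    | (exfalso
       apply two_pow_ne_zero h2 15
       linear_combination (norm := skip) (8192 : E) * w0 - 256 * EA + t1 + t2 + t3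
       noncomm_ring <;> norm_num
       done)
    | (right
       have hX : a₁ * a₂ = 0 := by
         apply two_pow_cancel h2 5
         rw [h32, EX]; norm_num
       have hY : a₁ * a₃ = 0 := by
         apply two_pow_cancel h2 5
         rw [h32, EY]; norm_num
       have hZ : a₂ * a₃ = 0 := by
         apply two_pow_cancel h2 5
         rw [h32, EZ]; norm_num
       have hA0 : a₀ * a₀ ≠ 0 := by
         intro h
         rw [h, mul_zero] at EA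
         first
         | (apply two_pow_ne_zero h2 5
            linear_combination (norm := skip) -EA
            norm_num
            done)
         | (apply two_pow_ne_zero h2 5
            linear_combination (norm := skip) EA
            norm_num
            done)
       have hS : a₁ * a₁ ≠ 0 ∨ a₂ * a₂ ≠ 0 ∨ a₃ * a₃ ≠ 0 := by
         by_contra hcon
         push Not at hcon
         obtain ⟨z1, z2, z3⟩ := hcon
         rw [z1, z2, z3] at w0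
         first
         | (apply two_pow_ne_zero h2 7
            linear_combination (norm := skip) 32 * w0 - EA
            noncomm_ring <;> norm_num
            done)
         | (apply two_pow_ne_zero h2 6
            linear_combination (norm := skip) 32 * w0 - EA
            noncomm_ring <;> norm_num
            done)
       rcases hS with u | u | u
       · obtain ⟨r1, r2, r3, r4, r5⟩ :=
           concl_i F h2 h₀ h₁ h₂ h₃ u hA0 (c12.trans hX) (c31.trans hY)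
         refine ⟨i, Or.inl rfl, a₁ * a₁, u, r1, ?_⟩
         rintro q' (rfl | rfl | rfl) hne
         · exact absurd rfl hne
         · exact ⟨r2, r3⟩
         · exact ⟨r4, r5⟩
       · obtain ⟨r1, r2, r3, r4, r5⟩ :=
           concl_j F h2 h₀ h₁ h₂ h₃ u hA0 hX (c23.trans hZ)
         refine ⟨j, Or.inr (Or.inl rfl), a₂ * a₂, u, r1, ?_⟩
         rintro q' (rfl | rfl | rfl) hne
         · exact ⟨r2, r3⟩
         · exact absurd rfl hne
         · exact ⟨r4, r5⟩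
       · obtain ⟨r1, r2, r3, r4, r5⟩ :=
           concl_k F h2 h₀ h₁ h₂ h₃ u hA0 hY hZ
         refine ⟨k, Or.inr (Or.inr rfl), a₃ * a₃, u, r1, ?_⟩
         rintro q' (rfl | rfl | rfl) hne
         · exact ⟨r2, r3⟩
         · exact ⟨r4, r5⟩
         · exact absurd rfl hne)

end Cfsg.Agent.Helper5.Zas.Alg

namespace Cfsg.Agent.Helper5.Zas

open Alg

variable {p : ℕ} [Fact p.Prime]

theorem Alg.two_cancel_of_algebra {E : Type*} [Ring E] [Algebra (ZMod p) E] (hp : 2 < p) (x : E)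
    (h : 2 * x = 0) : x = 0 := by
  have h2 : (2 : ZMod p) ≠ 0 := by
    intro h0
    have : ((2 : ℕ) : ZMod p) = 0 := by exact_mod_cast h0
    rw [ZMod.natCast_eq_zero_iff] at this
    exact absurd (Nat.le_of_dvd (by norm_num) this) (by omega)
  have e : (2 : E) * x = (2 : ZMod p) • x := by
    rw [Algebra.smul_def, map_ofNat]
  rw [e] at h
  exact (smul_eq_zero.mp h).resolve_left h2

theorem Alg.exists_decomp {E : Type*} [Ring E] [Algebra (ZMod p) E] (hp : 2 < p) {i j k : E}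
    (F : Frame i j k) (w : E) :
    ∃ a₀ a₁ a₂ a₃ : E, InC i j a₀ ∧ InC i j a₁ ∧ InC i j a₂ ∧ InC i j a₃ ∧
      w = a₀ + i * a₁ + j * a₂ + k * a₃ := by
  have h2 := Alg.two_cancel_of_algebra (E := E) hp
  have h4 : (4 : ZMod p) ≠ 0 := by
    intro h0
    have : ((4 : ℕ) : ZMod p) = 0 := by exact_mod_cast h0
    rw [ZMod.natCast_eq_zero_iff] at this
    have hpr : p.Prime := Fact.out
    have h22 : p ∣ 2 * 2 := by simpa using this
    rcases (Nat.Prime.dvd_mul hpr).mp h22 with h | h <;>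
      exact absurd (Nat.le_of_dvd (by norm_num) h) (by omega)
  set c : ZMod p := (4 : ZMod p)⁻¹ with hc
  have hsm : ∀ {x : E}, InC i j x → InC i j (c • x) := by
    intro x hx
    exact ⟨by rw [smul_mul_assoc, hx.1, mul_smul_comm], by rw [smul_mul_assoc, hx.2, mul_smul_comm]⟩
  refine ⟨c • proj i j k w, c • proj i j k (-(i * w)), c • proj i j k (-(j * w)),
    c • proj i j k (-(k * w)), hsm (proj_inC F _), hsm (proj_inC F _), hsm (proj_inC F _),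
    hsm (proj_inC F _), ?_⟩
  have e := four_mul_eq F w
  have e4 : (4 : E) * w = (4 : ZMod p) • w := by rw [Algebra.smul_def, map_ofNat]
  have h1 : c • ((4 : E) * w) = w := by
    rw [e4, smul_smul, hc, inv_mul_cancel₀ h4, one_smul]
  calc w = c • ((4 : E) * w) := h1.symm
    _ = c • (proj i j k w + i * proj i j k (-(i * w)) + j * proj i j k (-(j * w))
          + k * proj i j k (-(k * w))) := by rw [← e]
    _ = _ := by simp only [smul_add, mul_smul_comm]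

end Cfsg.Agent.Helper5.Zas

namespace Cfsg.Agent.Helper5.Zas

open Alg

variable {p : ℕ} [Fact p.Prime]

/-- **Theorem A, ring-theoretic core.** -/
theorem thmA_alg {E : Type*} [Ring E] [Algebra (ZMod p) E] [Nontrivial E] (hp : 7 < p)
    (i j k w' : E) (hi : i * i = -1) (hj : j * j = -1) (hij : i * j = k) (hji : j * i = -k)
    (hw : w' * w' = -3) (bad : Fin 4 → Bool)
    (h0 : ((i + j + k) * w' + w' * (i + j + k)) ^ 2 = if bad 0 then 20 else 4)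
    (h1 : ((i - j - k) * w' + w' * (i - j - k)) ^ 2 = if bad 1 then 20 else 4)
    (h2 : ((-i + j - k) * w' + w' * (-i + j - k)) ^ 2 = if bad 2 then 20 else 4)
    (h3 : ((-i - j + k) * w' + w' * (-i - j + k)) ^ 2 = if bad 3 then 20 else 4) :
    (Finset.univ.filter fun m => bad m = true).card = 2 ∨
    ∃ q ∈ ({i, j, k} : Set E), ∃ u : E, u ≠ 0 ∧ (q * w' - w' * q) * u = 0 ∧
      ∀ q' ∈ ({i, j, k} : Set E), q' ≠ q → q' * w' ≠ w' * q' ∧ q' * w' ≠ -(w' * q') := by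
  have F : Frame i j k := ⟨hi, hj, hij, hji⟩
  have c2 := Alg.two_cancel_of_algebra (E := E) (p := p) (by omega)
  obtain ⟨a₀, a₁, a₂, a₃, h₀, h₁, h₂, h₃, rfl⟩ := Alg.exists_decomp (p := p) (by omega) F w'
  have g0 : (((1 : E) * i + 1 * j + 1 * k) * (a₀ + i * a₁ + j * a₂ + k * a₃) +
      (a₀ + i * a₁ + j * a₂ + k * a₃) * ((1 : E) * i + 1 * j + 1 * k)) ^ 2 =
        if bad 0 then 20 else 4 := by
    simpa only [one_mul] using h0
  have g1 : (((1 : E) * i + (-1) * j + (-1) * k) * (a₀ + i * a₁ + j * a₂ + k * a₃) +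
      (a₀ + i * a₁ + j * a₂ + k * a₃) * ((1 : E) * i + (-1) * j + (-1) * k)) ^ 2 =
        if bad 1 then 20 else 4 := by
    simpa only [one_mul, neg_mul, ← sub_eq_add_neg] using h1
  have g2 : (((-1 : E) * i + 1 * j + (-1) * k) * (a₀ + i * a₁ + j * a₂ + k * a₃) +
      (a₀ + i * a₁ + j * a₂ + k * a₃) * ((-1 : E) * i + 1 * j + (-1) * k)) ^ 2 =
        if bad 2 then 20 else 4 := by
    simpa only [one_mul, neg_mul, ← sub_eq_add_neg] using h2
  have g3 : (((-1 : E) * i + (-1) * j + 1 * k) * (a₀ + i * a₁ + j * a₂ + k * a₃) +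
      (a₀ + i * a₁ + j * a₂ + k * a₃) * ((-1 : E) * i + (-1) * j + 1 * k)) ^ 2 =
        if bad 3 then 20 else 4 := by
    simpa only [one_mul, neg_mul, ← sub_eq_add_neg] using h3
  rcases Alg.core F c2 h₀ h₁ h₂ h₃ hw (bad 0) (bad 1) (bad 2) (bad 3) g0 g1 g2 g3 with h | h
  · left
    rw [Finset.card_filter, Fin.sum_univ_four]
    revert h
    generalize bad 0 = b0
    generalize bad 1 = b1
    generalize bad 2 = b2
    generalize bad 3 = b3
    cases b0 <;> cases b1 <;> cases b2 <;> cases b3 <;> simp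
  · right
    obtain ⟨q, hq, u, hu, e1, e2⟩ := h
    refine ⟨q, ?_, u, hu, e1, ?_⟩
    · simpa only [Set.mem_insert_iff, Set.mem_singleton_iff] using hq
    · intro q' hq' hne
      exact e2 q' (by simpa only [Set.mem_insert_iff, Set.mem_singleton_iff] using hq') hne

end Cfsg.Agent.Helper5.Zas
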