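import Mathlib
import Cfsg.Agent.Helper3.ZasPair2
import Cfsg.Agent.Helper23.ZasCorA
import Cfsg.Agent.Helper23.ZasCardB
import Cfsg.Agent.Helper23.ZasThmB
import Cfsg.Agent.Helper18.ZasPentagon2
import Cfsg.Agent.Helper25.ZasCoreOf
import Cfsg.Agent.Helper4.ZasPerfectAux
import Cfsg.Agent.Helper4.ZasY1
import Cfsg.Agent.Helper18.ZasNonsolv

/-!
# Zassenhaus cluster: absolute forms of Z8, Z9, Z10 and Y2

The relative forms (`Z8.pentagon_of`, `Z9.order_three_closure_of`, `Z10.perfect_iso_sl25_aux`,
`Y2.nonsolvable_closure_of`) are instantiated with the landed pieces `pair_cases`, `pair_binary`,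
`corA`, `corA_card`, `thmB`, `solvable_of_order_three_cyclic`, `solvable_quotient_of_isBinary`.
The names live in their own namespace `ZasFin`, so that they cannot collide with the wrappers of
the other authors.
-/

set_option autoImplicit false

namespace Cfsg.Agent.Helper5.ZasFin

open Cfsg.Agent.Helper5.Zas

variable {p : ℕ} [Fact p.Prime] {G : Type*} [Group G] [Finite G] {V : Type*} [AddCommGroup V]
  [Module (ZMod p) V] [Finite V] [Nontrivial V]

/-- Z8, absolute form. -/
theorem pentagon (S : Setup p G V) (L : Subgroup G) (hL : Nat.card L = 120)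
    (π : L →* alternatingGroup (Fin 5)) (hπ : Function.Surjective π) (hker : Nat.card π.ker = 2)
    {w : G} (hw : orderOf w = 3) (hwL : w ∉ L) : False :=
  Z8.pentagon_of S (fun hx hw hxw => pair_cases S hx hw hxw)
    (fun hx hy hxy hg hw hwT => corA S hx hy hxy hg hw hwT)
    (fun hx hy hw hbad hxw hyw => thmB S hx hy hw hbad hxw hyw) L hL π hπ hker hw hwL

/-- Z9, absolute form. -/
theorem order_three_closure (S : Setup p G V) :
    (∃ x : G, ∀ g : G, orderOf g = 3 → g ∈ Subgroup.zpowers x) ∨
      IsBinary (Subgroup.closure {g : G | orderOf g = 3}) :=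
  Z9.order_three_closure_of
    (fun _ _ hx hy hyx => Z3.pair_binary S hx hy hyx)
    (fun _ _ hx hw hwx => pair_cases S hx hw hwx)
    (fun _ _ _ hx hy hyx hg hw hwT => corA_card S hx hy hyx hg hw hwT)
    (fun L hL π hπ hker _ hw hwL => pentagon S L hL π hπ hker hw hwL)

/-- Z10, absolute form. -/
theorem perfect_iso_sl25 (S : Setup p G V) (hperf : commutator G = ⊤) (hne : Nontrivial G) :
    Nonempty (G ≃* Matrix.SpecialLinearGroup (Fin 2) (ZMod 5)) :=
  Z10.perfect_iso_sl25_aux S hperf hne (order_three_closure S)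

/-- Y2, absolute form. -/
theorem nonsolvable_closure (S : Setup p G V) (hns : ¬ Group.IsSolvable G) :
    Nat.card (Subgroup.closure {g : G | orderOf g = 3}) = 120 ∧
    (Subgroup.closure {g : G | orderOf g = 3}).Normal ∧
    (∃ π : Subgroup.closure {g : G | orderOf g = 3} →* alternatingGroup (Fin 5),
      Function.Surjective π ∧ Nat.card π.ker = 2) ∧
    Nonempty (Subgroup.closure {g : G | orderOf g = 3} ≃*
      Matrix.SpecialLinearGroup (Fin 2) (ZMod 5)) :=
  Y2.nonsolvable_closure_of S hns (order_three_closure S)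
    (fun h => solvable_of_order_three_cyclic S h)
    (fun hbin hN => by
      obtain ⟨_, h⟩ := solvable_quotient_of_isBinary S hbin
      exact h)
    (fun S' hperf hne => perfect_iso_sl25 S' hperf hne)

end Cfsg.Agent.Helper5.ZasFin
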