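import Mathlib
import Cfsg.Agent.S2119

/-!
# The index of `N·C_G(N)` for a normal binary icosahedral subgroup `N`

`N ⊴ G` generated by the elements of order three, with `N / Z ≅ A₅`: then `G / C_G(N)` embeds in
`Aut(A₅) ≅ S₅`, so `N·C_G(N)` has index `1` or `2`.
-/

set_option autoImplicit false
set_option linter.unusedSectionVars false

namespace Cfsg.Agent.Helper5.Zas

namespace Y4

variable {G : Type*} [Group G]

/-- a normal subgroup of order two is central -/
theorem central_of_card_two {N : Type*} [Group N] (K : Subgroup N) [K.Normal]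
    (hK : Nat.card K = 2) : K ≤ Subgroup.center N := by
  intro k hk
  rw [Subgroup.mem_center_iff]
  intro n
  by_cases hk1 : k = 1
  · rw [hk1, mul_one, one_mul]
  have hconj : n * k * n⁻¹ ∈ K := Subgroup.Normal.conj_mem inferInstance k hk n
  have hconj1 : n * k * n⁻¹ ≠ 1 := by
    intro h
    apply hk1
    have : n * k = n := by
      have := congrArg (· * n) h
      simpa using this
    exact mul_eq_left.mp this
  -- a group of order two has exactly one nontrivial element
  have h2 : ∀ a b : K, a ≠ 1 → b ≠ 1 → a = b := by
    intro a b ha hb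
    have hfin : Finite K := Nat.finite_of_card_ne_zero (by rw [hK]; norm_num)
    have := Fintype.ofFinite K
    by_contra hab
    have h3 : 2 < Nat.card K := by
      rw [Nat.card_eq_fintype_card]
      exact Fintype.two_lt_card_iff.mpr ⟨1, a, b, ha.symm, hb.symm, hab⟩
    omega
  have := h2 ⟨n * k * n⁻¹, hconj⟩ ⟨k, hk⟩ (fun h => hconj1 (congrArg Subtype.val h))
    (fun h => hk1 (congrArg Subtype.val h))
  have e : n * k * n⁻¹ = k := congrArg Subtype.val this
  calc n * k = (n * k * n⁻¹) * n := by group
    _ = k * n := by rw [e]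

section Main

variable {G : Type*} [Group G] (N : Subgroup G) [hNn : N.Normal]
  (π : N →* alternatingGroup (Fin 5)) (hπ : Function.Surjective π) (hker : Nat.card π.ker = 2)

include hπ hker in
theorem ker_eq_center : π.ker = Subgroup.center N := by
  apply le_antisymm
  · exact central_of_card_two π.ker hker
  · intro c hc
    rw [MonoidHom.mem_ker]
    have h1 : π c ∈ Subgroup.center (alternatingGroup (Fin 5)) := by
      rw [Subgroup.mem_center_iff]
      intro a
      obtain ⟨s, rfl⟩ := hπ a
      rw [← map_mul, ← map_mul, Subgroup.mem_center_iff.mp hc s]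
    rw [alternatingGroup.center_eq_bot (by simp)] at h1
    exact Subgroup.mem_bot.mp h1

theorem map_mem_center (e : N ≃* N) {c : N} (hc : c ∈ Subgroup.center N) :
    e c ∈ Subgroup.center N := by
  rw [Subgroup.mem_center_iff] at hc ⊢
  intro n
  have := congrArg e (hc (e.symm n))
  rwa [map_mul, map_mul, e.apply_symm_apply] at this

include hπ hker in
theorem key (g : G) {s s' : N} (h : π s = π s') :
    π (MulAut.conjNormal g s) = π (MulAut.conjNormal g s') := by
  have h1 : s⁻¹ * s' ∈ π.ker := by
    rw [MonoidHom.mem_ker, map_mul, map_inv, h, inv_mul_cancel]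
  rw [ker_eq_center N π hπ hker] at h1
  have h2 := map_mem_center N (MulAut.conjNormal g) h1
  rw [← ker_eq_center N π hπ hker, MonoidHom.mem_ker, map_mul, map_inv, map_mul, map_inv] at h2
  exact inv_mul_eq_one.mp h2

/-- the induced endomorphism of `A₅` -/
noncomputable def thetaFun (g : G) (a : alternatingGroup (Fin 5)) : alternatingGroup (Fin 5) :=
  π (MulAut.conjNormal g (Function.surjInv hπ a))

include hker in
theorem thetaFun_pi (g : G) (s : N) :
    thetaFun N π hπ g (π s) = π (MulAut.conjNormal g s) := by
  unfold thetaFun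
  exact key N π hπ hker g (Function.surjInv_eq hπ (π s))

include hker in
theorem thetaFun_mul (g : G) (a b : alternatingGroup (Fin 5)) :
    thetaFun N π hπ g (a * b) = thetaFun N π hπ g a * thetaFun N π hπ g b := by
  obtain ⟨s, rfl⟩ := hπ a
  obtain ⟨t, rfl⟩ := hπ b
  rw [← map_mul, thetaFun_pi N π hπ hker, thetaFun_pi N π hπ hker, thetaFun_pi N π hπ hker,
    map_mul, map_mul]

include hker in
theorem thetaFun_comp (g h : G) (a : alternatingGroup (Fin 5)) :
    thetaFun N π hπ g (thetaFun N π hπ h a) = thetaFun N π hπ (g * h) a := by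
  obtain ⟨s, rfl⟩ := hπ a
  rw [thetaFun_pi N π hπ hker, thetaFun_pi N π hπ hker, thetaFun_pi N π hπ hker, map_mul]
  rfl

include hker in
theorem thetaFun_one (a : alternatingGroup (Fin 5)) : thetaFun N π hπ (1 : G) a = a := by
  obtain ⟨s, rfl⟩ := hπ a
  rw [thetaFun_pi N π hπ hker, map_one]
  rfl

/-- the action of `G` on `N / Z(N) ≅ A₅` -/
noncomputable def Theta : G →* MulAut (alternatingGroup (Fin 5)) where
  toFun g :=
    { toFun := thetaFun N π hπ g
      invFun := thetaFun N π hπ g⁻¹
      left_inv := fun a => by
        rw [thetaFun_comp N π hπ hker, inv_mul_cancel, thetaFun_one N π hπ hker]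
      right_inv := fun a => by
        rw [thetaFun_comp N π hπ hker, mul_inv_cancel, thetaFun_one N π hπ hker]
      map_mul' := thetaFun_mul N π hπ hker g }
  map_one' := MulEquiv.ext fun a => thetaFun_one N π hπ hker a
  map_mul' g h := MulEquiv.ext fun a => (thetaFun_comp N π hπ hker g h a).symm

theorem Theta_apply (g : G) (s : N) :
    Theta N π hπ hker g (π s) = π (MulAut.conjNormal g s) :=
  thetaFun_pi N π hπ hker g s

include hker in
theorem ker_Theta (hN : N = Subgroup.closure {g : G | orderOf g = 3}) :
    (Theta N π hπ hker).ker = Subgroup.centralizer (N : Set G) := by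
  ext g
  rw [MonoidHom.mem_ker]
  constructor
  · intro hg
    have hall : ∀ s : N, π (MulAut.conjNormal g s) = π s := by
      intro s
      rw [← Theta_apply N π hπ hker, hg]
      rfl
    have hD : ∀ x : G, orderOf x = 3 → g * x = x * g := by
      intro x hx
      have hxN : x ∈ N := by
        rw [hN]; exact Subgroup.subset_closure hx
      set s : N := ⟨x, hxN⟩ with hs
      set ζ : N := MulAut.conjNormal g s * s⁻¹ with hζ
      have hζker : ζ ∈ π.ker := by
        rw [MonoidHom.mem_ker, hζ, map_mul, hall s, map_inv, mul_inv_cancel]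
      have hζc : ζ ∈ Subgroup.center N := by
        rw [← ker_eq_center N π hπ hker]; exact hζker
      have hζ2 : ζ ^ 2 = 1 := by
        have := pow_card_eq_one' (G := π.ker) (x := ⟨ζ, hζker⟩)
        rw [hker] at this
        exact congrArg Subtype.val this
      have hs3 : s ^ 3 = 1 := by
        apply Subtype.ext
        rw [Subgroup.coe_pow, Subgroup.coe_one, ← hx]
        exact pow_orderOf_eq_one x
      have hcs : MulAut.conjNormal g s = ζ * s := by
        rw [hζ, inv_mul_cancel_right]
      have h3 : (MulAut.conjNormal g s) ^ 3 = 1 := by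
        rw [← map_pow, hs3, map_one]
      have hcomm : Commute ζ s := (Subgroup.mem_center_iff.mp hζc s).symm
      rw [hcs, hcomm.mul_pow, hs3, mul_one] at h3
      have hζ1 : ζ = 1 := by
        calc ζ = ζ ^ 3 * (ζ ^ 2)⁻¹ := by group
          _ = 1 := by rw [h3, hζ2, inv_one, mul_one]
      rw [hζ1, one_mul] at hcs
      have := congrArg Subtype.val hcs
      rw [MulAut.conjNormal_apply] at this
      calc g * x = (g * x * g⁻¹) * g := by group
        _ = x * g := by rw [this]
    rw [hN, Subgroup.centralizer_closure, Subgroup.mem_centralizer_iff]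
    intro x hx
    exact (hD x hx).symm
  · intro hg
    apply MulEquiv.ext
    intro a
    obtain ⟨s, rfl⟩ := hπ a
    rw [Theta_apply N π hπ hker]
    have e : MulAut.conjNormal g s = s := by
      apply Subtype.ext
      rw [MulAut.conjNormal_apply]
      have := Subgroup.mem_centralizer_iff.mp hg s s.2
      rw [← this]
      group
    rw [e]
    rfl

end Main

theorem card_mulAut_alt5 : Nat.card (MulAut (alternatingGroup (Fin 5))) = 120 := by
  have hb := Cfsg.Agent.S2119.result 5 (by norm_num) (by norm_num)
  rw [← Nat.card_congr (Equiv.ofBijective _ hb), Nat.card_eq_fintype_card, Fintype.card_perm,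
    Fintype.card_fin]
  rfl

end Y4

/-- **The index of `N·C_G(N)`.** -/
theorem index_sup_centralizer {G : Type*} [Group G] [Finite G] (N : Subgroup G) [N.Normal]
    (hN : N = Subgroup.closure {g : G | orderOf g = 3})
    (π : N →* alternatingGroup (Fin 5)) (hπ : Function.Surjective π) (hker : Nat.card π.ker = 2) :
    (N ⊔ Subgroup.centralizer (N : Set G)).index = 1 ∨
      (N ⊔ Subgroup.centralizer (N : Set G)).index = 2 := by
  set C := Subgroup.centralizer (N : Set G) with hC
  have hCker : (Y4.Theta N π hπ hker).ker = C := Y4.ker_Theta N π hπ hker hN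
  -- `|G : C|` divides `120`
  have h1 : C.index ∣ 120 := by
    rw [← hCker, Subgroup.index_ker, ← Y4.card_mulAut_alt5]
    exact Subgroup.card_subgroup_dvd_card _
  -- `|N : N ∩ C| = 60`
  have h2 : C.relIndex N = 60 := by
    have e : C.subgroupOf N = Subgroup.center N := by
      ext s
      rw [Subgroup.mem_subgroupOf, hC, Subgroup.mem_centralizer_iff, Subgroup.mem_center_iff]
      constructor
      · intro h t
        apply Subtype.ext
        exact h t t.2
      · intro h t ht
        exact congrArg Subtype.val (h ⟨t, ht⟩)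
    rw [Subgroup.relIndex, e, ← Y4.ker_eq_center N π hπ hker]
    have h3 := Subgroup.card_mul_index π.ker
    rw [hker] at h3
    have h4 : Nat.card N = 120 := by
      have h5 := Subgroup.index_ker π
      rw [MonoidHom.range_eq_top.mpr hπ, Subgroup.card_top] at h5
      have h6 : Nat.card (alternatingGroup (Fin 5)) = 60 := by
        rw [Nat.card_eq_fintype_card]; rfl
      rw [h6] at h5
      rw [h5] at h3
      omega
    omega
  have h3 : C.relIndex (N ⊔ C) * (N ⊔ C).index = C.index :=
    Subgroup.relIndex_mul_index le_sup_right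
  have hCn : C.Normal := Subgroup.normal_centralizer
  rw [Subgroup.relIndex_sup_right, h2] at h3
  rw [← h3] at h1
  have h4 : (N ⊔ C).index ∣ 2 := by
    have : 60 * (N ⊔ C).index ∣ 60 * 2 := h1
    exact Nat.dvd_of_mul_dvd_mul_left (by norm_num) this
  rcases (Nat.dvd_prime Nat.prime_two).mp h4 with h | h
  · exact Or.inl h
  · exact Or.inr h

end Cfsg.Agent.Helper5.Zas
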