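import Mathlib
import Cfsg.Agent.Helper5.Residue
import Cfsg.Agent.Helper5.CenterFunctional
import Cfsg.Agent.Helper5.BlockBasic
import Cfsg.Agent.Helper5.BrauerMap2
import Cfsg.Agent.Helper5.MinMax

/-!
# Operators on a modular representation attached to functions with local coefficients

For a representation `ρ` of `G` over the residue field `AlgInt ⧸ M` and a function `F : G → ℂ`
with coefficients in the local ring at `M`, `Op ρ F = ∑ g, res (F g) • ρ g`.  This is additive and
turns convolution into composition.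
-/

set_option autoImplicit false

namespace Cfsg.Agent.Helper5.Fpf

open Cfsg Cfsg.Agent.Helper24 Cfsg.Agent.Helper5 Cfsg.Agent.Helper5.Loc Cfsg.Agent.Helper5.Res
  Cfsg.Agent.Helper5.CC

variable {G : Type*} [Group G] [Fintype G] {M : Ideal AlgInt} [hMax : M.IsMaximal]
variable {W : Type*} [AddCommGroup W] [Module (AlgInt ⧸ M) W]

/-- The operator of a function with local coefficients. -/
noncomputable def Op (ρ : Representation (AlgInt ⧸ M) G W) (F : G → ℂ) :
    W →ₗ[AlgInt ⧸ M] W :=
  ∑ g : G, res M (F g) • ρ g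

theorem Op_add (ρ : Representation (AlgInt ⧸ M) G W) {F F' : G → ℂ}
    (hF : ∀ g, MemLocalRing M (F g)) (hF' : ∀ g, MemLocalRing M (F' g)) :
    Op ρ (F + F') = Op ρ F + Op ρ F' := by
  unfold Op
  rw [← Finset.sum_add_distrib]
  refine Finset.sum_congr rfl fun g _ => ?_
  rw [Pi.add_apply, res_add (hF g) (hF' g), add_smul]

theorem Op_zero (ρ : Representation (AlgInt ⧸ M) G W) : Op ρ (0 : G → ℂ) = 0 := by
  unfold Op
  apply Finset.sum_eq_zero
  intro g _
  rw [Pi.zero_apply, res_zero, zero_smul]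

theorem Op_smul (ρ : Representation (AlgInt ⧸ M) G W) {c : ℂ} (hc : MemLocalRing M c)
    {F : G → ℂ} (hF : ∀ g, MemLocalRing M (F g)) :
    Op ρ (c • F) = res M c • Op ρ F := by
  unfold Op
  rw [Finset.smul_sum]
  refine Finset.sum_congr rfl fun g _ => ?_
  rw [Pi.smul_apply, smul_eq_mul, res_mul hc (hF g), mul_smul]

theorem Op_sum (ρ : Representation (AlgInt ⧸ M) G W) {ι : Type*} (s : Finset ι)
    (F : ι → G → ℂ) (hF : ∀ i ∈ s, ∀ g, MemLocalRing M (F i g)) :
    Op ρ (∑ i ∈ s, F i) = ∑ i ∈ s, Op ρ (F i) := by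
  classical
  have hMp : M.IsPrime := hMax.isPrime
  induction s using Finset.induction_on with
  | empty => simp [Op_zero]
  | insert a s ha ih =>
    rw [Finset.sum_insert ha, Finset.sum_insert ha,
      Op_add ρ (hF a (Finset.mem_insert_self a s)), ih]
    · intro i hi
      exact hF i (Finset.mem_insert_of_mem hi)
    · intro g
      rw [Finset.sum_apply]
      exact lr_sum hMp _ _ fun i hi => hF i (Finset.mem_insert_of_mem hi) g

theorem Op_deltaOne (ρ : Representation (AlgInt ⧸ M) G W) : Op ρ (deltaOne : G → ℂ) = 1 := by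
  classical
  unfold Op
  rw [Finset.sum_eq_single (1 : G)]
  · rw [deltaOne_apply_one, res_one, one_smul, map_one]
  · intro g _ hg
    rw [deltaOne_apply_ne hg, res_zero, zero_smul]
  · intro h; exact absurd (Finset.mem_univ _) h

theorem Op_conv (ρ : Representation (AlgInt ⧸ M) G W) {F F' : G → ℂ}
    (hF : ∀ g, MemLocalRing M (F g)) (hF' : ∀ g, MemLocalRing M (F' g)) :
    Op ρ (conv F F') = Op ρ F * Op ρ F' := by
  classical
  have hMp : M.IsPrime := hMax.isPrime
  unfold Op
  rw [Finset.sum_mul]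
  simp_rw [Finset.mul_sum]
  have h1 : ∀ u : G, res M (conv F F' u) • ρ u =
      ∑ t : G, (res M (F t) * res M (F' (t⁻¹ * u))) • ρ u := by
    intro u
    rw [← Finset.sum_smul]
    congr 1
    show res M (∑ t : G, F t * F' (t⁻¹ * u)) = _
    rw [res_sum _ _ fun t _ => lr_mul hMp (hF t) (hF' _)]
    refine Finset.sum_congr rfl fun t _ => ?_
    rw [res_mul (hF t) (hF' _)]
  simp_rw [h1]
  rw [Finset.sum_comm]
  refine Finset.sum_congr rfl fun t _ => ?_
  rw [← Equiv.sum_comp (Equiv.mulLeft t)]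
  refine Finset.sum_congr rfl fun v _ => ?_
  simp only [Equiv.coe_mulLeft, inv_mul_cancel_left]
  rw [smul_mul_smul_comm, map_mul]

theorem Op_congr (ρ : Representation (AlgInt ⧸ M) G W) {F F' : G → ℂ}
    (hF : ∀ g, MemLocalRing M (F g)) (hF' : ∀ g, MemLocalRing M (F' g))
    (h : ∀ g, MemLocalIdeal M (F g - F' g)) : Op ρ F = Op ρ F' := by
  unfold Op
  refine Finset.sum_congr rfl fun g _ => ?_
  rw [res_eq_of_li (hF g) (hF' g) (h g)]

end Cfsg.Agent.Helper5.Fpf
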