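import Mathlib
import Cfsg.Agent.Helper5.FpfA
import Cfsg.Agent.Helper5.FongReynolds2

/-!
# A modular representation killed by all subgroup norms singles out an irreducible character

Let `p ∤ |G|` and let `ρ` be a nonzero representation of `G` over `AlgInt ⧸ M` such that the norm
`∑ z ∈ Z, ρ z` vanishes for every nontrivial subgroup `Z`.  Then some irreducible complex
character `χ₀` has `∑ z ∈ Z, χ₀ (z h) ≡ 0 (mod M)` for all such `Z` and all `h`.
-/

set_option autoImplicit false
set_option linter.unusedSectionVars false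

namespace Cfsg.Agent.Helper5.Fpf

open Cfsg Cfsg.Agent.Helper24 Cfsg.Agent.Helper5 Cfsg.Agent.Helper5.Loc Cfsg.Agent.Helper5.Res
  Cfsg.Agent.Helper5.CC

variable {G : Type*} [Group G] [Fintype G]

open Classical in
/-- The conjugation average of the delta function at `y`. -/
noncomputable def avd (y : G) : G → ℂ := fun u =>
  (Nat.card G : ℂ)⁻¹ * ∑ t : G, if t * y * t⁻¹ = u then 1 else 0

theorem isClassFunction_avd (y : G) : IsClassFunction G (avd y) := by
  classical
  intro g h
  unfold avd
  congr 1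
  rw [← Equiv.sum_comp (Equiv.mulLeft h)]
  refine Finset.sum_congr rfl fun t _ => ?_
  simp only [Equiv.coe_mulLeft]
  have : h * t * y * (h * t)⁻¹ = h * g * h⁻¹ ↔ t * y * t⁻¹ = g := by
    constructor
    · intro e
      have e2 : h * (t * y * t⁻¹) * h⁻¹ = h * g * h⁻¹ := by rw [← e]; group
      exact mul_left_cancel (mul_right_cancel e2)
    · intro e
      rw [← e]; group
  simp only [this]

theorem sum_avd_mul (y : G) (φ : G → ℂ) (hφ : IsClassFunction G φ) :
    ∑ u : G, avd y u * φ u = φ y := by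
  classical
  unfold avd
  have h1 : ∀ u : G, ((Nat.card G : ℂ)⁻¹ * ∑ t : G, if t * y * t⁻¹ = u then (1 : ℂ) else 0) * φ u =
      (Nat.card G : ℂ)⁻¹ * ∑ t : G, if t * y * t⁻¹ = u then φ y else 0 := by
    intro u
    rw [mul_assoc, Finset.sum_mul]
    congr 1
    refine Finset.sum_congr rfl fun t _ => ?_
    by_cases e : t * y * t⁻¹ = u
    · rw [if_pos e, if_pos e, one_mul, ← e, hφ]
    · rw [if_neg e, if_neg e, zero_mul]
  simp_rw [h1]
  rw [← Finset.mul_sum, Finset.sum_comm]
  simp only [Finset.sum_ite_eq, Finset.mem_univ, if_true, Finset.sum_const, Finset.card_univ,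
    nsmul_eq_mul]
  have hG : (Nat.card G : ℂ) ≠ 0 := by
    have : 0 < Nat.card G := Nat.card_pos
    exact_mod_cast this.ne'
  rw [← Nat.card_eq_fintype_card, ← mul_assoc, inv_mul_cancel₀ hG, one_mul]

theorem act_avd (y : G) (χ : IrrCharacter G) :
    act (avd y) χ = (χ : G → ℂ) y / (χ : G → ℂ) 1 := by
  rw [act, sum_avd_mul y _ (isClassFunction_irr χ)]

variable {M : Ideal AlgInt}

theorem lr_inv_card {p : ℕ} (hM : IsPModular p M) (hp : ¬ p ∣ Nat.card G) :
    MemLocalRing M ((Nat.card G : ℂ)⁻¹) :=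
  memLocalRing_inv_natCast hM hp

theorem lr_avd {p : ℕ} (hM : IsPModular p M) (hp : ¬ p ∣ Nat.card G) (y u : G) :
    MemLocalRing M (avd y u) := by
  classical
  have hMp := isPrime_of_isPModular hM
  unfold avd
  refine lr_mul hMp (lr_inv_card hM hp) (lr_sum hMp _ _ fun t _ => ?_)
  split_ifs
  · exact memLocalRing_one hMp
  · exact memLocalRing_zero hMp

variable [hMax : M.IsMaximal] {W : Type*} [AddCommGroup W] [Module (AlgInt ⧸ M) W]

theorem Op_avd {p : ℕ} (hM : IsPModular p M) (hp : ¬ p ∣ Nat.card G)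
    (ρ : Representation (AlgInt ⧸ M) G W) (y : G) :
    Op ρ (avd y) = res M ((Nat.card G : ℂ)⁻¹) • ∑ t : G, ρ (t * y * t⁻¹) := by
  classical
  have hMp := isPrime_of_isPModular hM
  unfold Op
  have h1 : ∀ u : G, res M (avd y u) • ρ u =
      res M ((Nat.card G : ℂ)⁻¹) • ∑ t : G, if t * y * t⁻¹ = u then ρ (t * y * t⁻¹) else 0 := by
    intro u
    unfold avd
    rw [res_mul (lr_inv_card hM hp) (lr_sum hMp _ _ fun t _ => by
      split_ifs
      · exact memLocalRing_one hMp
      · exact memLocalRing_zero hMp), mul_smul]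
    congr 1
    rw [res_sum _ _ fun t _ => by
      split_ifs
      · exact memLocalRing_one hMp
      · exact memLocalRing_zero hMp, Finset.sum_smul]
    refine Finset.sum_congr rfl fun t _ => ?_
    by_cases e : t * y * t⁻¹ = u
    · rw [if_pos e, if_pos e, res_one, one_smul, e]
    · rw [if_neg e, if_neg e, res_zero, zero_smul]
  simp_rw [h1]
  rw [← Finset.smul_sum, Finset.sum_comm]
  simp only [Finset.sum_ite_eq, Finset.mem_univ, if_true]

open Classical in
/-- The class function attached to a subgroup `Z` and an element `h`. -/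
noncomputable def cZ (Z : Subgroup G) (h : G) : G → ℂ :=
  ∑ z : G, if z ∈ Z then avd (z * h) else 0

theorem isClassFunction_cZ (Z : Subgroup G) (h : G) : IsClassFunction G (cZ Z h) := by
  classical
  unfold cZ
  apply isClassFunction_sum
  intro z _
  split_ifs
  · exact isClassFunction_avd _
  · exact isClassFunction_zero

theorem lr_cZ {p : ℕ} (hM : IsPModular p M) (hp : ¬ p ∣ Nat.card G) (Z : Subgroup G) (h u : G) :
    MemLocalRing M (cZ Z h u) := by
  classical
  have hMp := isPrime_of_isPModular hM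
  unfold cZ
  rw [Finset.sum_apply]
  refine lr_sum hMp _ _ fun z _ => ?_
  split_ifs
  · exact lr_avd hM hp _ _
  · exact memLocalRing_zero hMp

open Classical in
theorem act_cZ (Z : Subgroup G) (h : G) (χ : IrrCharacter G) :
    act (cZ Z h) χ = (∑ z : G, if z ∈ Z then (χ : G → ℂ) (z * h) else 0) / (χ : G → ℂ) 1 := by
  classical
  unfold cZ
  rw [act_sum, Finset.sum_div]
  refine Finset.sum_congr rfl fun z _ => ?_
  split_ifs
  · exact act_avd _ χ
  · rw [act_zero, zero_div]

open Classical in
theorem Op_cZ {p : ℕ} (hM : IsPModular p M) (hp : ¬ p ∣ Nat.card G)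
    (ρ : Representation (AlgInt ⧸ M) G W) (Z : Subgroup G) (h : G)
    (hZ : ∑ z : G, (if z ∈ Z then ρ z else 0) = 0) : Op ρ (cZ Z h) = 0 := by
  classical
  have hMp := isPrime_of_isPModular hM
  unfold cZ
  rw [Op_sum]
  · have h1 : ∀ z : G, Op ρ (if z ∈ Z then avd (z * h) else 0) =
        res M ((Nat.card G : ℂ)⁻¹) • ∑ t : G, ρ t * (if z ∈ Z then ρ z else 0) * ρ (h * t⁻¹) := by
      intro z
      by_cases hz : z ∈ Z
      · rw [if_pos hz, Op_avd hM hp]
        congr 1
        refine Finset.sum_congr rfl fun t _ => ?_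
        rw [if_pos hz, ← map_mul, ← map_mul]
        congr 1
        group
      · rw [if_neg hz, Op_zero]
        simp [hz]
    simp_rw [h1]
    rw [← Finset.smul_sum, Finset.sum_comm]
    have h2 : ∀ t : G, ∑ z : G, ρ t * (if z ∈ Z then ρ z else 0) * ρ (h * t⁻¹) = 0 := by
      intro t
      rw [← Finset.sum_mul, ← Finset.mul_sum, hZ, mul_zero, zero_mul]
    simp_rw [h2]
    simp
  · intro z _ u
    split_ifs
    · exact lr_avd hM hp _ _
    · exact memLocalRing_zero hMp

end Cfsg.Agent.Helper5.Fpf
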