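import Mathlib
import Cfsg.Agent.Helper5.FpfB

/-!
# The character singled out by a representation killed by all subgroup norms (modulo `M`)
-/

set_option autoImplicit false
set_option linter.unusedSectionVars false

namespace Cfsg.Agent.Helper5.Fpf

open Cfsg Cfsg.Agent.Helper24 Cfsg.Agent.Helper5 Cfsg.Agent.Helper5.Loc Cfsg.Agent.Helper5.Res
  Cfsg.Agent.Helper5.CC

variable {G : Type*} [Group G] [Fintype G] {M : Ideal AlgInt} [Fintype (IrrCharacter G)]

/-- The central idempotent of a single character. -/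
noncomputable def eχ (χ : IrrCharacter G) : G → ℂ := blockCoeff ({χ} : Set (IrrCharacter G))

theorem eχ_apply (χ : IrrCharacter G) (g : G) :
    eχ χ g = (Nat.card G : ℂ)⁻¹ * ((χ : G → ℂ) 1 * (starRingEnd ℂ) ((χ : G → ℂ) g)) := by
  classical
  unfold eχ
  rw [blockCoeff_eq]
  congr 1
  rw [Finset.sum_eq_single χ]
  · rw [if_pos (Set.mem_singleton χ), one_mul]
  · intro ψ _ hψ
    rw [if_neg (fun h => hψ (Set.mem_singleton_iff.mp h)), zero_mul]
  · intro h; exact absurd (Finset.mem_univ _) h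

theorem isClassFunction_eχ (χ : IrrCharacter G) : IsClassFunction G (eχ χ) :=
  isClassFunction_blockCoeff _

theorem lr_eχ {p : ℕ} (hM : IsPModular p M) (hp : ¬ p ∣ Nat.card G) (χ : IrrCharacter G) (g : G) :
    MemLocalRing M (eχ χ g) := by
  have hMp := isPrime_of_isPModular hM
  rw [eχ_apply]
  refine lr_mul hMp (lr_inv_card hM hp) (memLocalRing_of_isIntegral hMp ?_)
  rw [← Cfsg.Agent.Helper24.irr_inv]
  exact (irr_isIntegral χ 1).mul (irr_isIntegral χ g⁻¹)

open Classical in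
theorem act_eχ (χ ψ : IrrCharacter G) : act (eχ χ) ψ = if ψ = χ then 1 else 0 := by
  unfold eχ
  rw [act_blockCoeff]
  simp only [Set.mem_singleton_iff]

open Classical in
theorem conv_eχ (χ ψ : IrrCharacter G) : conv (eχ χ) (eχ ψ) = if χ = ψ then eχ χ else 0 := by
  by_cases h : χ = ψ
  · subst h
    rw [if_pos rfl]
    exact conv_blockCoeff_self _
  · rw [if_neg h]
    apply Cfsg.Agent.Helper5.FR.conv_blockCoeff_disjoint
    intro η hη hη'
    rw [Set.mem_singleton_iff] at hη hη'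
    exact h (hη.symm.trans hη')

theorem sum_eχ : ∑ χ : IrrCharacter G, eχ χ = (deltaOne : G → ℂ) := by
  classical
  apply eq_of_act_eq
  · exact isClassFunction_sum _ _ fun χ _ => isClassFunction_eχ χ
  · exact isClassFunction_classIndicator 1
  · intro ψ
    rw [act_sum, act_deltaOne]
    simp_rw [act_eχ]
    simp

/-- A class function is the combination of the `eχ` with coefficients its scalars. -/
theorem eq_sum_act_smul_eχ {c : G → ℂ} (hc : IsClassFunction G c) :
    c = ∑ χ : IrrCharacter G, act c χ • eχ χ := by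
  classical
  apply eq_of_act_eq hc
  · exact isClassFunction_sum _ _ fun χ _ => isClassFunction_smul _ (isClassFunction_eχ χ)
  · intro ψ
    rw [act_sum]
    simp_rw [act_smul, act_eχ]
    simp

variable [hMax : M.IsMaximal] {W : Type*} [AddCommGroup W] [Module (AlgInt ⧸ M) W]

open Classical in
/-- **The modular step.** -/
theorem exists_irr_li {p : ℕ} (hM : IsPModular p M) (hp : ¬ p ∣ Nat.card G)
    (ρ : Representation (AlgInt ⧸ M) G W) [Nontrivial W]
    (hρ : ∀ Z : Subgroup G, Z ≠ ⊥ → ∑ z : G, (if z ∈ Z then ρ z else 0) = 0) :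
    ∃ χ₀ : IrrCharacter G, ∀ Z : Subgroup G, Z ≠ ⊥ → ∀ h : G,
      MemLocalIdeal M (∑ z : G, if z ∈ Z then (χ₀ : G → ℂ) (z * h) else 0) := by
  have hMp := isPrime_of_isPModular hM
  set E : IrrCharacter G → (W →ₗ[AlgInt ⧸ M] W) := fun χ => Op ρ (eχ χ) with hE
  have hsum : ∑ χ : IrrCharacter G, E χ = 1 := by
    rw [← Op_deltaOne ρ, ← sum_eχ, Op_sum]
    intro χ _ g
    exact lr_eχ hM hp χ g
  have horth : ∀ χ ψ : IrrCharacter G, E χ * E ψ = if χ = ψ then E χ else 0 := by
    intro χ ψ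
    rw [hE]
    beta_reduce
    rw [← Op_conv ρ (lr_eχ hM hp χ) (lr_eχ hM hp ψ), conv_eχ]
    split_ifs
    · rfl
    · exact Op_zero ρ
  obtain ⟨χ₀, hχ₀⟩ : ∃ χ₀, E χ₀ ≠ 0 := by
    by_contra hcon
    push Not at hcon
    have h0 : (1 : W →ₗ[AlgInt ⧸ M] W) = 0 := by
      rw [← hsum]
      exact Finset.sum_eq_zero fun χ _ => hcon χ
    obtain ⟨w, hw⟩ := exists_ne (0 : W)
    apply hw
    have := LinearMap.congr_fun h0 w
    simpa using this
  refine ⟨χ₀, fun Z hZ h => ?_⟩
  have hc := isClassFunction_cZ Z h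
  have hclr := lr_cZ hM hp Z h
  have h1 : Op ρ (cZ Z h) = ∑ χ : IrrCharacter G, res M (act (cZ Z h) χ) • E χ := by
    conv_lhs => rw [eq_sum_act_smul_eχ hc]
    rw [Op_sum]
    · refine Finset.sum_congr rfl fun χ _ => ?_
      exact Op_smul ρ (act_lr hMp hc hclr χ) (lr_eχ hM hp χ)
    · intro χ _ g
      exact lr_mul hMp (act_lr hMp hc hclr χ) (lr_eχ hM hp χ g)
  have h2 : E χ₀ * Op ρ (cZ Z h) = res M (act (cZ Z h) χ₀) • E χ₀ := by
    rw [h1, Finset.mul_sum, Finset.sum_eq_single χ₀]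
    · rw [mul_smul_comm, horth, if_pos rfl]
    · intro ψ _ hψ
      rw [mul_smul_comm, horth, if_neg (Ne.symm hψ), smul_zero]
    · intro h; exact absurd (Finset.mem_univ _) h
  rw [Op_cZ hM hp ρ Z h (hρ Z hZ), mul_zero] at h2
  have h3 : res M (act (cZ Z h) χ₀) = 0 := by
    rcases smul_eq_zero.mp h2.symm with h | h
    · exact h
    · exact absurd h hχ₀
  have h4 : MemLocalIdeal M (act (cZ Z h) χ₀) :=
    (res_eq_zero_iff (act_lr hMp hc hclr χ₀)).mp h3
  rw [act_cZ] at h4
  have h5 := li_mul_left hMp (memLocalRing_of_isIntegral hMp (irr_isIntegral χ₀ 1)) h4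
  rwa [mul_div_cancel₀ _ (irr_one_ne_zero χ₀)] at h5

end Cfsg.Agent.Helper5.Fpf
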