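import Mathlib
import Cfsg.Agent.Helper5.FpfC
import Cfsg.Agent.Helper5.ConvAlg

/-!
# Lifting: idempotents with coefficients in the local ideal vanish; the core theorem
-/

set_option autoImplicit false
set_option linter.unusedSectionVars false

namespace Cfsg.Agent.Helper5.Fpf

open Cfsg Cfsg.Agent.Helper24 Cfsg.Agent.Helper5 Cfsg.Agent.Helper5.Loc Cfsg.Agent.Helper5.Res
  Cfsg.Agent.Helper5.CC

variable {M : Ideal AlgInt}

/-- The local ring as a subring of `ℂ`. -/
def lrSub (hM : M.IsPrime) : Subring ℂ where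
  carrier := {z | MemLocalRing M z}
  mul_mem' := fun ha hb => lr_mul hM ha hb
  one_mem' := memLocalRing_one hM
  add_mem' := fun ha hb => lr_add hM ha hb
  zero_mem' := memLocalRing_zero hM
  neg_mem' := fun ha => lr_neg ha

/-- The residue map as a ring homomorphism. -/
noncomputable def resRingHom [hMax : M.IsMaximal] : lrSub (M := M) hMax.isPrime →+* AlgInt ⧸ M where
  toFun z := res M z.1
  map_one' := res_one
  map_mul' := fun z w => res_mul z.2 w.2
  map_zero' := res_zero
  map_add' := fun z w => res_add z.2 w.2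

theorem res_det_matrix [hMax : M.IsMaximal] {n : Type*} [Fintype n] [DecidableEq n]
    (P : Matrix n n ℂ) (h : ∀ i j, MemLocalRing M (P i j)) :
    res M P.det = (Matrix.of fun i j => res M (P i j)).det := by
  let P' : Matrix n n (lrSub (M := M) hMax.isPrime) := fun i j => ⟨P i j, h i j⟩
  have h1 : P = (lrSub (M := M) hMax.isPrime).subtype.mapMatrix P' := by
    ext i j; rfl
  have h2 : P.det = ((P'.det : lrSub (M := M) hMax.isPrime) : ℂ) := by
    conv_lhs => rw [h1, ← RingHom.map_det]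
    rfl
  rw [h2]
  show resRingHom P'.det = _
  rw [RingHom.map_det]
  rfl

variable {G : Type*} [Group G] [Fintype G]

/-- An idempotent of the group algebra all of whose coefficients lie in the local ideal is `0`. -/
theorem eq_zero_of_idem_of_li [hMax : M.IsMaximal] {a : G → ℂ} (hidem : conv a a = a)
    (hli : ∀ u, MemLocalIdeal M (a u)) : a = 0 := by
  classical
  have hMp := hMax.isPrime
  set A : Matrix G G ℂ := Matrix.of fun u v => a (u * v⁻¹) with hA
  have hAij : ∀ i j, A i j = a (i * j⁻¹) := fun i j => rfl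
  have hAA : A * A = A := by
    ext u w
    rw [Matrix.mul_apply]
    simp only [hAij]
    have h1 := congrFun hidem (u * w⁻¹)
    rw [← h1]
    show _ = ∑ t : G, a t * a (t⁻¹ * (u * w⁻¹))
    rw [← Equiv.sum_comp ((Equiv.inv G).trans (Equiv.mulLeft u))
      (fun t => a t * a (t⁻¹ * (u * w⁻¹)))]
    refine Finset.sum_congr rfl fun v _ => ?_
    simp only [Equiv.trans_apply, Equiv.inv_apply, Equiv.coe_mulLeft]
    have : (u * v⁻¹)⁻¹ * (u * w⁻¹) = v * w⁻¹ := by group
    rw [this]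
  set P : Matrix G G ℂ := 1 - A with hP
  have hPlr : ∀ i j, MemLocalRing M (P i j) := by
    intro i j
    rw [hP, Matrix.sub_apply, Matrix.one_apply, hAij]
    refine lr_sub hMp ?_ (li_lr (hli _))
    split_ifs
    · exact memLocalRing_one hMp
    · exact memLocalRing_zero hMp
  have hPres : (Matrix.of fun i j => res M (P i j)) = (1 : Matrix G G (AlgInt ⧸ M)) := by
    ext i j
    rw [Matrix.of_apply, hP, Matrix.sub_apply, Matrix.one_apply, Matrix.one_apply, hAij]
    have h1 : MemLocalRing M ((if i = j then 1 else 0 : ℂ)) := by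
      split_ifs
      · exact memLocalRing_one hMp
      · exact memLocalRing_zero hMp
    rw [res_sub h1 (li_lr (hli _)), (res_eq_zero_iff (li_lr (hli _))).mpr (hli _), sub_zero]
    split_ifs
    · exact res_one
    · exact res_zero
  have hdet : P.det ≠ 0 := by
    intro h0
    have := res_det_matrix P hPlr
    rw [h0, res_zero, hPres, Matrix.det_one] at this
    exact zero_ne_one this
  have hAP : A * P = 0 := by
    rw [hP, mul_sub, mul_one, hAA, sub_self]
  have hunit : IsUnit P.det := isUnit_iff_ne_zero.mpr hdet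
  have hA0 : A = 0 := by
    have : A = A * P * P⁻¹ := by
      rw [mul_assoc, Matrix.mul_nonsing_inv P hunit, mul_one]
    rw [this, hAP, zero_mul]
  funext u
  have := congrFun (congrFun hA0 u) 1
  rw [hAij] at this
  simpa using this

open Classical in
/-- The normalized indicator of a subgroup. -/
noncomputable def fZ (Z : Subgroup G) : G → ℂ := fun u =>
  (Nat.card Z : ℂ)⁻¹ * (if u ∈ Z then 1 else 0)

theorem card_ne_zero (Z : Subgroup G) : (Nat.card Z : ℂ) ≠ 0 := by
  have : 0 < Nat.card Z := Nat.card_pos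
  exact_mod_cast this.ne'

open Classical in
theorem sum_ite_mem (Z : Subgroup G) : ∑ t : G, (if t ∈ Z then (1 : ℂ) else 0) = Nat.card Z := by
  rw [Finset.sum_ite, Finset.sum_const_zero, add_zero, Finset.sum_const, nsmul_eq_mul, mul_one]
  congr 1
  rw [Nat.card_eq_fintype_card, Fintype.card_subtype]

theorem conv_fZ (Z : Subgroup G) : conv (fZ Z) (fZ Z) = fZ Z := by
  classical
  funext u
  show ∑ t : G, fZ Z t * fZ Z (t⁻¹ * u) = fZ Z u
  unfold fZ
  have h1 : ∀ t : G, ((Nat.card Z : ℂ)⁻¹ * (if t ∈ Z then 1 else 0)) *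
      ((Nat.card Z : ℂ)⁻¹ * (if t⁻¹ * u ∈ Z then 1 else 0)) =
      ((Nat.card Z : ℂ)⁻¹ * (Nat.card Z : ℂ)⁻¹ * (if u ∈ Z then 1 else 0)) *
        (if t ∈ Z then 1 else 0) := by
    intro t
    by_cases ht : t ∈ Z
    · have : t⁻¹ * u ∈ Z ↔ u ∈ Z := by
        constructor
        · intro h
          have := Z.mul_mem ht h
          rwa [mul_inv_cancel_left] at this
        · intro h
          exact Z.mul_mem (Z.inv_mem ht) h
      simp only [this, if_pos ht]
      ring
    · simp [if_neg ht]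
  simp_rw [h1]
  rw [← Finset.mul_sum, sum_ite_mem]
  have := card_ne_zero Z
  field_simp

variable [Fintype (IrrCharacter G)]

open Classical in
theorem conv_eχ_fZ_apply (χ : IrrCharacter G) (Z : Subgroup G) (u : G) :
    conv (eχ χ) (fZ Z) u = (Nat.card Z : ℂ)⁻¹ * (Nat.card G : ℂ)⁻¹ * (χ : G → ℂ) 1 *
      ∑ z : G, if z ∈ Z then (χ : G → ℂ) (z * u⁻¹) else 0 := by
  show ∑ t : G, eχ χ t * fZ Z (t⁻¹ * u) = _
  rw [← Equiv.sum_comp ((Equiv.inv G).trans (Equiv.mulLeft u)), Finset.mul_sum]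
  refine Finset.sum_congr rfl fun z _ => ?_
  simp only [Equiv.trans_apply, Equiv.inv_apply, Equiv.coe_mulLeft]
  have h1 : (u * z⁻¹)⁻¹ * u = z := by group
  rw [h1, eχ_apply, fZ]
  by_cases hz : z ∈ Z
  · rw [if_pos hz, if_pos hz, ← Cfsg.Agent.Helper24.irr_inv]
    have h2 : (u * z⁻¹)⁻¹ = z * u⁻¹ := by group
    rw [h2]
    ring
  · rw [if_neg hz, if_neg hz]
    ring

theorem conv_eχ_fZ_idem (χ : IrrCharacter G) (Z : Subgroup G) :
    conv (conv (eχ χ) (fZ Z)) (conv (eχ χ) (fZ Z)) = conv (eχ χ) (fZ Z) := by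
  classical
  have hc := isClassFunction_eχ χ
  have hee : conv (eχ χ) (eχ χ) = eχ χ := by
    have := conv_eχ χ χ
    rwa [if_pos rfl] at this
  calc conv (conv (eχ χ) (fZ Z)) (conv (eχ χ) (fZ Z))
      = conv (eχ χ) (conv (fZ Z) (conv (eχ χ) (fZ Z))) := conv_assoc _ _ _
    _ = conv (eχ χ) (conv (conv (fZ Z) (eχ χ)) (fZ Z)) := by rw [conv_assoc]
    _ = conv (eχ χ) (conv (conv (eχ χ) (fZ Z)) (fZ Z)) := by
        rw [conv_comm_of_isClassFunction (fZ Z) hc]
    _ = conv (eχ χ) (conv (eχ χ) (conv (fZ Z) (fZ Z))) := by rw [conv_assoc]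
    _ = conv (eχ χ) (conv (eχ χ) (fZ Z)) := by rw [conv_fZ]
    _ = conv (conv (eχ χ) (eχ χ)) (fZ Z) := by rw [conv_assoc]
    _ = conv (eχ χ) (fZ Z) := by rw [hee]

variable [hMax : M.IsMaximal] {W : Type*} [AddCommGroup W] [Module (AlgInt ⧸ M) W]

open Classical in
/-- **Core theorem.** A nonzero representation of the `p'`-group `G` in characteristic `p` on which
all norms of nontrivial subgroups vanish yields an irreducible complex character with the same
property. -/
theorem core {p : ℕ} (hM : IsPModular p M) (hp : ¬ p ∣ Nat.card G)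
    (ρ : Representation (AlgInt ⧸ M) G W) [Nontrivial W]
    (hρ : ∀ Z : Subgroup G, Z ≠ ⊥ → ∑ z : G, (if z ∈ Z then ρ z else 0) = 0) :
    ∃ χ₀ : IrrCharacter G, ∀ Z : Subgroup G, Z ≠ ⊥ → ∀ h : G,
      (∑ z : G, if z ∈ Z then (χ₀ : G → ℂ) (z * h) else 0) = 0 := by
  have hMp := isPrime_of_isPModular hM
  obtain ⟨χ₀, hχ₀⟩ := exists_irr_li hM hp ρ hρ
  refine ⟨χ₀, fun Z hZ h => ?_⟩
  have hpZ : ¬ p ∣ Nat.card Z := fun hd => hp (hd.trans (Subgroup.card_subgroup_dvd_card Z))
  have hpre : MemLocalRing M ((Nat.card Z : ℂ)⁻¹ * (Nat.card G : ℂ)⁻¹ * (χ₀ : G → ℂ) 1) :=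
    lr_mul hMp (lr_mul hMp (memLocalRing_inv_natCast hM hpZ) (lr_inv_card hM hp))
      (memLocalRing_of_isIntegral hMp (irr_isIntegral χ₀ 1))
  have hzero : conv (eχ χ₀) (fZ Z) = 0 := by
    apply eq_zero_of_idem_of_li (M := M) (conv_eχ_fZ_idem χ₀ Z)
    intro u
    rw [conv_eχ_fZ_apply]
    exact li_mul_left hMp hpre (hχ₀ Z hZ u⁻¹)
  have h1 := congrFun hzero h⁻¹
  rw [conv_eχ_fZ_apply, inv_inv] at h1
  have hne : (Nat.card Z : ℂ)⁻¹ * (Nat.card G : ℂ)⁻¹ * (χ₀ : G → ℂ) 1 ≠ 0 := by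
    have hG : (Nat.card G : ℂ) ≠ 0 := by
      have : 0 < Nat.card G := Nat.card_pos
      exact_mod_cast this.ne'
    exact mul_ne_zero (mul_ne_zero (inv_ne_zero (card_ne_zero Z)) (inv_ne_zero hG))
      (irr_one_ne_zero χ₀)
  exact (mul_eq_zero.mp h1).resolve_left hne

end Cfsg.Agent.Helper5.Fpf
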