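import Mathlib
import Cfsg.Agent.Helper5.FpfD
import Cfsg.Agent.Helper5.AlgIntMod
import Cfsg.Agent.Helper24.DefectZero

/-!
# From a fixed-point-free action on an elementary abelian `p`-group to a complex character
-/

set_option autoImplicit false
set_option linter.unusedSectionVars false

namespace Cfsg.Agent.Helper5.Fpf

open Cfsg Cfsg.Agent.Helper24 Cfsg.Agent.Helper5 Cfsg.Agent.Helper5.Loc Cfsg.Agent.Helper5.Res
  Cfsg.Agent.Helper5.CC

variable {G : Type*} [Group G] {A : Type*} [AddCommGroup A] [DistribMulAction G A]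
variable {k : Type*} [Field k]

/-- The dual action on additive maps into `k`. -/
def dualRep : Representation k G (A →+ k) where
  toFun g :=
    { toFun := fun φ => φ.comp (DistribSMul.toAddMonoidHom A g⁻¹)
      map_add' := fun φ ψ => by ext a; rfl
      map_smul' := fun c φ => by ext a; rfl }
  map_one' := by
    ext φ a
    show φ ((1 : G)⁻¹ • a) = φ a
    rw [inv_one, one_smul]
  map_mul' g h := by
    ext φ a
    show φ ((g * h)⁻¹ • a) = φ (h⁻¹ • g⁻¹ • a)
    rw [mul_inv_rev, mul_smul]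

theorem dualRep_apply (g : G) (φ : A →+ k) (a : A) :
    (dualRep (k := k) (G := G) (A := A) g φ) a = φ (g⁻¹ • a) := rfl

open Classical in
/-- The subgroup norms vanish on the dual of a fixed-point-free action. -/
theorem dualRep_norm_eq_zero [Fintype G]
    (hfpf : ∀ g : G, g ≠ 1 → ∀ a : A, g • a = a → a = 0) (Z : Subgroup G) (hZ : Z ≠ ⊥) :
    ∑ z : G, (if z ∈ Z then dualRep (k := k) (G := G) (A := A) z else 0) = 0 := by
  obtain ⟨⟨g, hgZ⟩, hg⟩ := Subgroup.ne_bot_iff_exists_ne_one.mp hZ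
  have hg1 : g ≠ 1 := fun h => hg (Subtype.ext h)
  ext φ a
  rw [LinearMap.sum_apply, AddMonoidHom.finsetSum_apply]
  have h1 : ∀ z : G, ((if z ∈ Z then dualRep (k := k) (G := G) (A := A) z else 0) φ) a =
      φ (if z ∈ Z then z⁻¹ • a else 0) := by
    intro z
    split_ifs
    · rfl
    · simp
  simp_rw [h1]
  rw [← map_sum]
  set b : A := ∑ z : G, if z ∈ Z then z⁻¹ • a else 0 with hb
  have hgb : g • b = b := by
    rw [hb, Finset.smul_sum]
    refine Fintype.sum_equiv (Equiv.mulRight g⁻¹) _ _ (fun z => ?_)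
    show g • (if z ∈ Z then z⁻¹ • a else 0) = (if z * g⁻¹ ∈ Z then (z * g⁻¹)⁻¹ • a else 0)
    have hmem : z * g⁻¹ ∈ Z ↔ z ∈ Z := by
      constructor
      · intro h
        have := Z.mul_mem h hgZ
        rwa [inv_mul_cancel_right] at this
      · intro h
        exact Z.mul_mem h (Z.inv_mem hgZ)
    by_cases hz : z ∈ Z
    · rw [if_pos hz, if_pos (hmem.mpr hz), mul_inv_rev, inv_inv, mul_smul]
    · rw [if_neg hz, if_neg (fun h => hz (hmem.mp h)), smul_zero]
  rw [hfpf g hg1 b hgb, map_zero]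
  rfl

theorem exists_addHom_ne_zero (p : ℕ) [hp : Fact p.Prime] [CharP k p] (A : Type*)
    [AddCommGroup A] [Module (ZMod p) A] (a : A) (ha : a ≠ 0) : ∃ φ : A →+ k, φ a ≠ 0 := by
  have h1 : ∃ f : A →ₗ[ZMod p] ZMod p, f a ≠ 0 := by
    by_contra h
    push Not at h
    exact ha ((Module.forall_dual_apply_eq_zero_iff (ZMod p) a).mp h)
  obtain ⟨f, hf⟩ := h1
  let c : ZMod p →+* k := ZMod.castHom (dvd_refl p) k
  refine ⟨c.toAddMonoidHom.comp f.toAddMonoidHom, ?_⟩
  intro h
  have h3 : c (f a) = 0 := h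
  exact hf ((map_eq_zero_iff c c.injective).mp h3)

/-- A nonzero additive map from a nontrivial elementary abelian `p`-group to a field of
characteristic `p`. -/
theorem nontrivial_addHom (p : ℕ) [hp : Fact p.Prime] [CharP k p] [Nontrivial A]
    (hpA : ∀ a : A, p • a = 0) : Nontrivial (A →+ k) := by
  obtain ⟨a, ha⟩ := exists_ne (0 : A)
  obtain ⟨φ, hφ⟩ := @exists_addHom_ne_zero k _ p hp _ A _ (AddCommGroup.zmodModule hpA) a ha
  refine ⟨⟨φ, 0, ?_⟩⟩
  intro h
  apply hφ
  rw [h]
  rfl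

open Classical in
/-- **Core theorem, action form.** A finite `p'`-group acting fixed-point-freely on a nontrivial
elementary abelian `p`-group has an irreducible complex character all of whose subgroup norms
vanish. -/
theorem core_of_action [Fintype G] [Fintype (IrrCharacter G)] (p : ℕ) [hp : Fact p.Prime]
    (hpG : ¬ p ∣ Nat.card G) [Nontrivial A] (hpA : ∀ a : A, p • a = 0)
    (hfpf : ∀ g : G, g ≠ 1 → ∀ a : A, g • a = a → a = 0) :
    ∃ χ₀ : IrrCharacter G, ∀ Z : Subgroup G, Z ≠ ⊥ → ∀ h : G,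
      (∑ z : G, if z ∈ Z then (χ₀ : G → ℂ) (z * h) else 0) = 0 := by
  obtain ⟨M, hM⟩ := exists_isPModular p hp.out
  have hMax : M.IsMaximal := hM.2.1
  have : CharP (AlgInt ⧸ M) p := algInt_quot_charP p M hM
  have : Nontrivial (A →+ (AlgInt ⧸ M)) := nontrivial_addHom p hpA
  exact core hM hpG (dualRep (k := AlgInt ⧸ M) (G := G) (A := A))
    (fun Z hZ => dualRep_norm_eq_zero hfpf Z hZ)

end Cfsg.Agent.Helper5.Fpf
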