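import Mathlib

/-!
# From a function killed by all subgroup norms to a fixed-point-free irreducible matrix
representation

Let `F` be a field of characteristic `0`, `G` a finite group and `ε : G → F` a nonzero function
with `∑ z ∈ Z, ε (u z) = 0` for all nontrivial subgroups `Z` and all `u`.  Then `G` has a faithful
irreducible fixed-point-free matrix representation over `F`.
-/

set_option autoImplicit false
set_option linter.unusedSectionVars false

namespace Cfsg.Agent.Helper5.Fpf

variable {F : Type*} [Field F] {G : Type*} [Group G]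

/-- Right translation on functions. -/
def rtr : Representation F G (G → F) where
  toFun t :=
    { toFun := fun φ u => φ (u * t)
      map_add' := fun φ ψ => rfl
      map_smul' := fun c φ => rfl }
  map_one' := by
    ext φ u
    simp
  map_mul' s t := by
    apply LinearMap.ext
    intro φ
    funext u
    show φ (u * (s * t)) = φ (u * s * t)
    rw [mul_assoc]

theorem rtr_apply (t : G) (φ : G → F) (u : G) : (rtr (F := F) t φ) u = φ (u * t) := rfl

open Classical in
/-- The functions killed by all norms of nontrivial subgroups (acting by right translation). -/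
def normKer [Fintype G] : Submodule F (G → F) where
  carrier := {φ | ∀ Z : Subgroup G, Z ≠ ⊥ → ∀ u : G, ∑ z : G, (if z ∈ Z then φ (u * z) else 0) = 0}
  add_mem' := by
    intro φ ψ hφ hψ Z hZ u
    have : ∀ z : G, (if z ∈ Z then (φ + ψ) (u * z) else 0) =
        (if z ∈ Z then φ (u * z) else 0) + (if z ∈ Z then ψ (u * z) else 0) := by
      intro z
      split_ifs <;> simp
    simp_rw [this]
    rw [Finset.sum_add_distrib, hφ Z hZ u, hψ Z hZ u, add_zero]
  zero_mem' := by
    intro Z hZ u
    simp
  smul_mem' := by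
    intro c φ hφ Z hZ u
    have : ∀ z : G, (if z ∈ Z then (c • φ) (u * z) else 0) =
        c * (if z ∈ Z then φ (u * z) else 0) := by
      intro z
      split_ifs <;> simp
    simp_rw [this]
    rw [← Finset.mul_sum, hφ Z hZ u, mul_zero]

open Classical in
theorem mem_normKer [Fintype G] (φ : G → F) : φ ∈ normKer (F := F) (G := G) ↔
    ∀ Z : Subgroup G, Z ≠ ⊥ → ∀ u : G, ∑ z : G, (if z ∈ Z then φ (u * z) else 0) = 0 := Iff.rfl

theorem rtr_mem_normKer [Fintype G] (t : G) {φ : G → F} (hφ : φ ∈ normKer (F := F) (G := G)) :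
    rtr (F := F) t φ ∈ normKer (F := F) (G := G) := by
  classical
  intro Z hZ u
  -- the conjugate subgroup
  set Z' : Subgroup G := Z.comap (MulAut.conj t).toMonoidHom with hZ'
  have hmem : ∀ z : G, z ∈ Z' ↔ t * z * t⁻¹ ∈ Z := by
    intro z
    rw [hZ', Subgroup.mem_comap]
    rfl
  have hZ'ne : Z' ≠ ⊥ := by
    obtain ⟨⟨g, hgZ⟩, hg⟩ := Subgroup.ne_bot_iff_exists_ne_one.mp hZ
    have hg1 : g ≠ 1 := fun h => hg (Subtype.ext h)
    intro hbot
    have h1 : t⁻¹ * g * t ∈ Z' := by
      rw [hmem]
      have : t * (t⁻¹ * g * t) * t⁻¹ = g := by group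
      rw [this]; exact hgZ
    rw [hbot, Subgroup.mem_bot] at h1
    apply hg1
    have : g = t * (t⁻¹ * g * t) * t⁻¹ := by group
    rw [this, h1]; group
  have h := hφ Z' hZ'ne (u * t)
  refine (Fintype.sum_equiv (MulAut.conj t⁻¹).toEquiv _ _ (fun z => ?_)).trans h
  show (if z ∈ Z then rtr (F := F) t φ (u * z) else 0) =
    (if (MulAut.conj t⁻¹ z) ∈ Z' then φ (u * t * (MulAut.conj t⁻¹ z)) else 0)
  have e1 : MulAut.conj t⁻¹ z = t⁻¹ * z * t := by
    rw [MulAut.conj_apply, inv_inv]
  have e2 : (MulAut.conj t⁻¹ z) ∈ Z' ↔ z ∈ Z := by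
    rw [hmem, e1]
    have : t * (t⁻¹ * z * t) * t⁻¹ = z := by group
    rw [this]
  by_cases hz : z ∈ Z
  · rw [if_pos hz, if_pos (e2.mpr hz), rtr_apply, e1]
    congr 1
    group
  · rw [if_neg hz, if_neg (fun h => hz (e2.mp h))]

end Cfsg.Agent.Helper5.Fpf
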