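import Mathlib
import Cfsg.Agent.Helper5.FpfF

/-!
# The matrix representation
-/

set_option autoImplicit false
set_option linter.unusedSectionVars false

namespace Cfsg.Agent.Helper5.Fpf

variable {F : Type*} [Field F] {G : Type*} [Group G] [Fintype G]

/-- Elements of an invariant subspace of `normKer` fixed by a nontrivial element vanish. -/
theorem eq_zero_of_fixed [CharZero F] {φ : G → F} (hφ : φ ∈ normKer (F := F) (G := G)) {g : G}
    (hg : g ≠ 1) (hfix : rtr (F := F) g φ = φ) : φ = 0 := by
  classical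
  set Z : Subgroup G := Subgroup.zpowers g with hZdef
  have hZ : Z ≠ ⊥ := by
    intro h
    apply hg
    have : g ∈ Z := Subgroup.mem_zpowers g
    rw [h, Subgroup.mem_bot] at this
    exact this
  have hfixz : ∀ z ∈ Z, rtr (F := F) z φ = φ := by
    intro z hz
    obtain ⟨k, rfl⟩ := Subgroup.mem_zpowers_iff.mp hz
    have hpow : ∀ m : ℕ, rtr (F := F) (g ^ m) φ = φ := by
      intro m
      induction m with
      | zero => simp
      | succ m ih =>
        rw [pow_succ, map_mul]
        show rtr (F := F) (g ^ m) (rtr (F := F) g φ) = φ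
        rw [hfix, ih]
    have hinv : rtr (F := F) g⁻¹ φ = φ := by
      have h1 : rtr (F := F) g⁻¹ (rtr (F := F) g φ) = φ := by
        have : (rtr (F := F) g⁻¹ * rtr (F := F) g) φ = φ := by
          rw [← map_mul, inv_mul_cancel, map_one]; rfl
        exact this
      rwa [hfix] at h1
    have hpowinv : ∀ m : ℕ, rtr (F := F) (g⁻¹ ^ m) φ = φ := by
      intro m
      induction m with
      | zero => simp
      | succ m ih =>
        rw [pow_succ, map_mul]
        show rtr (F := F) (g⁻¹ ^ m) (rtr (F := F) g⁻¹ φ) = φ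
        rw [hinv, ih]
    rcases Int.eq_nat_or_neg k with ⟨m, rfl | rfl⟩
    · rw [zpow_natCast]; exact hpow m
    · rw [zpow_neg, zpow_natCast, ← inv_pow]; exact hpowinv m
  funext u
  have h1 := hφ Z hZ u
  have h2 : ∀ z : G, (if z ∈ Z then φ (u * z) else 0) = (if z ∈ Z then φ u else 0) := by
    intro z
    by_cases hz : z ∈ Z
    · rw [if_pos hz, if_pos hz]
      have := congrFun (hfixz z hz) u
      rwa [rtr_apply] at this
    · rw [if_neg hz, if_neg hz]
  simp_rw [h2] at h1
  rw [Finset.sum_ite, Finset.sum_const_zero, add_zero, Finset.sum_const, nsmul_eq_mul] at h1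
  have hcard : ((Finset.univ.filter (fun z : G => z ∈ Z)).card : F) ≠ 0 := by
    have : 0 < (Finset.univ.filter (fun z : G => z ∈ Z)).card :=
      Finset.card_pos.mpr ⟨1, Finset.mem_filter.mpr ⟨Finset.mem_univ _, Z.one_mem⟩⟩
    exact_mod_cast this.ne'
  exact (mul_eq_zero.mp h1).resolve_left hcard

/-- **The matrix representation.** -/
theorem exists_matrix_rep [CharZero F] (ε : G → F) (hε : ε ≠ 0)
    (hεK : ε ∈ normKer (F := F) (G := G)) :
    ∃ (n : ℕ) (ρ : G →* GL (Fin n) F), 0 < n ∧ Function.Injective ρ ∧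
      (∀ W : Submodule F (Fin n → F),
        (∀ g : G, ∀ w ∈ W, ((ρ g : GL (Fin n) F) : Matrix (Fin n) (Fin n) F).mulVec w ∈ W) →
          W = ⊥ ∨ W = ⊤) ∧
      ∀ g : G, g ≠ 1 → ∀ v : Fin n → F,
        ((ρ g : GL (Fin n) F) : Matrix (Fin n) (Fin n) F).mulVec v = v → v = 0 := by
  classical
  let Good : Set (Submodule F (G → F)) :=
    {S | S ≠ ⊥ ∧ S ≤ normKer (F := F) (G := G) ∧ ∀ t : G, ∀ φ ∈ S, rtr (F := F) t φ ∈ S}
  have hne : Good.Nonempty := by
    refine ⟨normKer, ?_, le_rfl, fun t φ hφ => rtr_mem_normKer t hφ⟩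
    intro h
    apply hε
    have : ε ∈ (⊥ : Submodule F (G → F)) := h ▸ hεK
    simpa using this
  obtain ⟨S, hS, hSmin⟩ := wellFounded_lt.has_min Good hne
  obtain ⟨hSne, hSle, hSinv⟩ := hS
  -- the restricted action
  let ρS : G → (S →ₗ[F] S) := fun t => (rtr (F := F) t).restrict (fun φ hφ => hSinv t φ hφ)
  have hρS_apply : ∀ t (s : S), ((ρS t s : S) : G → F) = rtr (F := F) t (s : G → F) :=
    fun t s => rfl
  have hρS_one : ρS 1 = LinearMap.id := by
    apply LinearMap.ext
    intro s
    apply Subtype.ext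
    rw [hρS_apply, map_one]
    rfl
  have hρS_mul : ∀ s t, ρS (s * t) = ρS s ∘ₗ ρS t := by
    intro s t
    apply LinearMap.ext
    intro x
    apply Subtype.ext
    rw [hρS_apply, map_mul]
    rfl
  set n := Module.finrank F S with hn
  have hnpos : 0 < n := by
    have : Nontrivial S := Submodule.nontrivial_iff_ne_bot.mpr hSne
    exact Module.finrank_pos
  let b : Module.Basis (Fin n) F S := Module.finBasis F S
  let matHom : G →* Matrix (Fin n) (Fin n) F :=
    { toFun := fun t => LinearMap.toMatrix b b (ρS t)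
      map_one' := by rw [hρS_one, LinearMap.toMatrix_id]
      map_mul' := fun s t => by rw [hρS_mul, LinearMap.toMatrix_comp b b b] }
  let ρ : G →* GL (Fin n) F := matHom.toHomUnits
  have hρ_coe : ∀ g, ((ρ g : GL (Fin n) F) : Matrix (Fin n) (Fin n) F) =
      LinearMap.toMatrix b b (ρS g) := fun g => rfl
  have hmulVec : ∀ g (s : S), ((ρ g : GL (Fin n) F) : Matrix (Fin n) (Fin n) F).mulVec
      (b.equivFun s) = b.equivFun (ρS g s) := by
    intro g s
    rw [hρ_coe]
    exact LinearMap.toMatrix_mulVec_repr b b (ρS g) s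
  have hfpf : ∀ g : G, g ≠ 1 → ∀ v : Fin n → F,
      ((ρ g : GL (Fin n) F) : Matrix (Fin n) (Fin n) F).mulVec v = v → v = 0 := by
    intro g hg v hv
    set s : S := b.equivFun.symm v with hs
    have hsv : b.equivFun s = v := by rw [hs, LinearEquiv.apply_symm_apply]
    have h1 : ρS g s = s := by
      apply b.equivFun.injective
      rw [← hmulVec, hsv, hv]
    have h2 : rtr (F := F) g (s : G → F) = (s : G → F) := by
      rw [← hρS_apply, h1]
    have h3 : (s : G → F) = 0 := eq_zero_of_fixed (hSle s.2) hg h2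
    have h4 : s = 0 := Subtype.ext h3
    rw [← hsv, h4, map_zero]
  refine ⟨n, ρ, hnpos, ?_, ?_, hfpf⟩
  · -- injective
    rw [injective_iff_map_eq_one]
    intro g hg1
    by_contra hg
    let v : Fin n → F := Pi.single ⟨0, hnpos⟩ 1
    have hv : v ≠ 0 := by
      intro h
      have := congrFun h ⟨0, hnpos⟩
      simp [v] at this
    apply hv
    apply hfpf g hg v
    rw [hg1]
    simp
  · -- irreducible
    intro W hW
    set S' : Submodule F (G → F) := (W.comap b.equivFun.toLinearMap).map S.subtype with hS'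
    have hS'le : S' ≤ S := Submodule.map_subtype_le S _
    have hS'inv : ∀ t : G, ∀ φ ∈ S', rtr (F := F) t φ ∈ S' := by
      intro t φ hφ
      obtain ⟨s, hs, rfl⟩ := hφ
      refine ⟨ρS t s, ?_, rfl⟩
      show b.equivFun (ρS t s) ∈ W
      rw [← hmulVec]
      exact hW t _ hs
    by_cases hbot : S' = ⊥
    · left
      have h1 : W.comap b.equivFun.toLinearMap = ⊥ := by
        rw [eq_bot_iff]
        intro s hs
        have h3 : (s : G → F) ∈ S' := ⟨s, hs, rfl⟩
        rw [hbot, Submodule.mem_bot] at h3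
        rw [Submodule.mem_bot]
        exact Subtype.ext h3
      rw [eq_bot_iff]
      intro w hw
      have h2 : b.equivFun.symm w ∈ W.comap b.equivFun.toLinearMap := by
        show b.equivFun (b.equivFun.symm w) ∈ W
        rw [LinearEquiv.apply_symm_apply]; exact hw
      rw [h1, Submodule.mem_bot] at h2
      have : w = b.equivFun (b.equivFun.symm w) := by rw [LinearEquiv.apply_symm_apply]
      rw [this, h2, map_zero]
      exact Submodule.zero_mem _
    · right
      have hgood : S' ∈ Good := ⟨hbot, hS'le.trans hSle, hS'inv⟩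
      have hnot := hSmin S' hgood
      have heq : S' = S := by
        by_contra hne'
        exact hnot (lt_of_le_of_ne hS'le hne')
      rw [eq_top_iff]
      intro w _
      have h2 : ((b.equivFun.symm w : S) : G → F) ∈ S' := by
        rw [heq]; exact (b.equivFun.symm w).2
      obtain ⟨s, hs, hs2⟩ := h2
      have h3 : s = b.equivFun.symm w := Subtype.ext hs2
      have h4 : b.equivFun s ∈ W := hs
      rwa [h3, LinearEquiv.apply_symm_apply] at h4

end Cfsg.Agent.Helper5.Fpf
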