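import Mathlib
import Cfsg.Agent.Helper5.FpfE
import Cfsg.Agent.Helper5.FpfG

/-!
# Fixed-point-free actions in characteristic `p` give fixed-point-free matrix representations over
the algebraic closure of `ℚ`
-/

set_option autoImplicit false
set_option linter.unusedSectionVars false

namespace Cfsg.Agent.Helper5.Fpf

open Cfsg Cfsg.Agent.Helper24 Cfsg.Agent.Helper5 Cfsg.Agent.Helper5.CC

variable {G : Type*} [Group G]

/-- The algebraic closure of `ℚ` as the field of algebraic numbers in `ℂ`. -/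
noncomputable def eqvAlg : AlgebraicClosure ℚ ≃+* (algebraicClosure ℚ ℂ) := by
  have h := algebraicClosure.isAlgClosure ℚ ℂ
  have hL : @IsAlgClosure ℚ (AlgebraicClosure ℚ) _ _ (AlgebraicClosure.instAlgebra ℚ)
    inferInstance := inferInstance
  exact (@IsAlgClosure.equiv ℚ _ _ (AlgebraicClosure ℚ) (algebraicClosure ℚ ℂ) _ _ _ _ h
    (AlgebraicClosure.instAlgebra ℚ) _ hL).toRingEquiv

open Classical in
/-- An irreducible character all of whose subgroup norms vanish gives a faithful irreducible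
fixed-point-free matrix representation over `AlgebraicClosure ℚ`. -/
theorem exists_rep_of_char [Fintype G] (χ₀ : IrrCharacter G)
    (hχ : ∀ Z : Subgroup G, Z ≠ ⊥ → ∀ h : G,
      (∑ z : G, if z ∈ Z then (χ₀ : G → ℂ) (z * h) else 0) = 0) :
    ∃ (n : ℕ) (ρ : G →* GL (Fin n) (AlgebraicClosure ℚ)), 0 < n ∧ Function.Injective ρ ∧
      (∀ W : Submodule (AlgebraicClosure ℚ) (Fin n → AlgebraicClosure ℚ),
        (∀ g : G, ∀ w ∈ W, ((ρ g : GL (Fin n) (AlgebraicClosure ℚ)) :
          Matrix (Fin n) (Fin n) (AlgebraicClosure ℚ)).mulVec w ∈ W) → W = ⊥ ∨ W = ⊤) ∧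
      ∀ g : G, g ≠ 1 → ∀ v : Fin n → AlgebraicClosure ℚ,
        ((ρ g : GL (Fin n) (AlgebraicClosure ℚ)) :
          Matrix (Fin n) (Fin n) (AlgebraicClosure ℚ)).mulVec v = v → v = 0 := by
  classical
  let e : AlgebraicClosure ℚ ≃+* algebraicClosure ℚ ℂ := eqvAlg
  have hmem : ∀ u : G, (χ₀ : G → ℂ) u ∈ algebraicClosure ℚ ℂ := by
    intro u
    rw [mem_algebraicClosure_iff']
    exact (irr_isIntegral χ₀ u).tower_top
  let ε : G → AlgebraicClosure ℚ := fun u => e.symm ⟨(χ₀ : G → ℂ) u, hmem u⟩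
  let ι : AlgebraicClosure ℚ → ℂ := fun x => ((e x : algebraicClosure ℚ ℂ) : ℂ)
  have hι_add : ∀ x y, ι (x + y) = ι x + ι y := by
    intro x y
    show ((e (x + y) : algebraicClosure ℚ ℂ) : ℂ) = _
    rw [map_add]; rfl
  have hι_zero : ι 0 = 0 := by
    show ((e 0 : algebraicClosure ℚ ℂ) : ℂ) = 0
    rw [map_zero]; rfl
  have hι_inj : Function.Injective ι := by
    intro x y h
    exact e.injective (Subtype.ext h)
  have hιε : ∀ u, ι (ε u) = (χ₀ : G → ℂ) u := by
    intro u
    show ((e (e.symm ⟨(χ₀ : G → ℂ) u, hmem u⟩) : algebraicClosure ℚ ℂ) : ℂ) = _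
    rw [RingEquiv.apply_symm_apply]
  have hι_sum : ∀ (s : Finset G) (f : G → AlgebraicClosure ℚ),
      ι (∑ z ∈ s, f z) = ∑ z ∈ s, ι (f z) := by
    intro s f
    induction s using Finset.induction_on with
    | empty => simpa using hι_zero
    | insert a s ha ih => rw [Finset.sum_insert ha, Finset.sum_insert ha, hι_add, ih]
  apply exists_matrix_rep ε
  · intro h
    have h1 := congrFun h 1
    have h2 : ι (ε 1) = 0 := by rw [h1]; exact hι_zero
    rw [hιε] at h2
    exact irr_one_ne_zero χ₀ h2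
  · intro Z hZ u
    apply hι_inj
    rw [hι_sum, hι_zero, ← hχ Z hZ u]
    refine Finset.sum_congr rfl fun z _ => ?_
    by_cases hz : z ∈ Z
    · rw [if_pos hz, if_pos hz, hιε]
      have := isClassFunction_irr χ₀ (z * u) u
      rw [← this]
      group
    · rw [if_neg hz, if_neg hz, hι_zero]

open Classical in
/-- **Main theorem.** A finite `p'`-group acting fixed-point-freely by automorphisms on a nontrivial
elementary abelian `p`-group has a faithful irreducible fixed-point-free matrix representation over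
the algebraic closure of `ℚ`. -/
theorem exists_rep_of_action [Finite G] {A : Type*} [AddCommGroup A] [DistribMulAction G A]
    (p : ℕ) [hp : Fact p.Prime] (hpG : ¬ p ∣ Nat.card G) [Nontrivial A]
    (hpA : ∀ a : A, p • a = 0) (hfpf : ∀ g : G, g ≠ 1 → ∀ a : A, g • a = a → a = 0) :
    ∃ (n : ℕ) (ρ : G →* GL (Fin n) (AlgebraicClosure ℚ)), 0 < n ∧ Function.Injective ρ ∧
      (∀ W : Submodule (AlgebraicClosure ℚ) (Fin n → AlgebraicClosure ℚ),
        (∀ g : G, ∀ w ∈ W, ((ρ g : GL (Fin n) (AlgebraicClosure ℚ)) :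
          Matrix (Fin n) (Fin n) (AlgebraicClosure ℚ)).mulVec w ∈ W) → W = ⊥ ∨ W = ⊤) ∧
      ∀ g : G, g ≠ 1 → ∀ v : Fin n → AlgebraicClosure ℚ,
        ((ρ g : GL (Fin n) (AlgebraicClosure ℚ)) :
          Matrix (Fin n) (Fin n) (AlgebraicClosure ℚ)).mulVec v = v → v = 0 := by
  have : Fintype G := Fintype.ofFinite G
  have : Fintype (IrrCharacter G) := Fintype.ofFinite _
  obtain ⟨χ₀, hχ₀⟩ := core_of_action (G := G) (A := A) p hpG hpA hfpf
  exact exists_rep_of_char χ₀ hχ₀

end Cfsg.Agent.Helper5.Fpf
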