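import Mathlib
import Cfsg.Agent.Helper5.FpfH
import Cfsg.Agent.S0034
import Cfsg.Agent.S0035
import Cfsg.Agent.S0039
import Cfsg.Agent.S0042

/-!
# Frobenius complements have fixed-point-free irreducible representations in characteristic `0`
-/

set_option autoImplicit false
set_option linter.unusedSectionVars false

namespace Cfsg.Agent.Helper5.Fpf

open Cfsg

section Kernel

variable {L : Type*} [Group L] [Finite L]

/-- The data of the Frobenius kernel. -/
theorem frobenius_kernel_data (H : Subgroup L) (hH : IsFrobeniusComplement H) :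
    ∃ N : Subgroup L, N.Normal ∧ Group.IsNilpotent N ∧ N ≠ ⊥ ∧
      (Nat.card N).Coprime (Nat.card H) ∧
      ∀ h ∈ H, h ≠ 1 → ∀ x ∈ N, h * x = x * h → x = 1 := by
  obtain ⟨N, hNk, hNn, hNnil⟩ := Cfsg.Agent.S0042.result H hH
  obtain ⟨N', hNk', _, hNc'⟩ := Cfsg.Agent.S0035.result H hH
  have hNN' : N' = N := SetLike.coe_injective (hNk'.trans hNk.symm)
  rw [hNN'] at hNc'
  have := hNn
  have hcard : Nat.card N * Nat.card H = Nat.card L := hNc'.card_mul_card
  have hNne : N ≠ ⊥ := by
    intro h
    rw [h, Subgroup.card_bot, one_mul] at hcard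
    exact hH.2.1 (Subgroup.card_eq_iff_eq_top H |>.mp hcard)
  refine ⟨N, hNn, hNnil, hNne, ?_, ?_⟩
  · obtain ⟨h1, h2⟩ := Cfsg.Agent.S0034.result H hH
    have hNcard : Nat.card N = H.index := by
      rw [← h1, ← hNk]
      rfl
    have hH2 : 2 ≤ Nat.card H := by
      have h1' : Nat.card H ≠ 1 := fun h => hH.1 (Subgroup.card_eq_one.mp h)
      have : 0 < Nat.card H := Nat.card_pos
      omega
    rw [hNcard]
    rw [Nat.mod_eq_of_lt (by omega : 1 < Nat.card H)] at h2
    -- index = q * |H| + 1
    have h3 := Nat.div_add_mod H.index (Nat.card H)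
    rw [h2] at h3
    rw [← h3]
    rw [Nat.coprime_comm]
    have : Nat.gcd (Nat.card H) (Nat.card H * (H.index / Nat.card H) + 1) = 1 := by
      rw [Nat.gcd_comm, add_comm, Nat.gcd_add_mul_left_left]
      exact Nat.gcd_one_left _
    exact this
  · intro h hh hh1 x hx hcomm
    have h4 := (Cfsg.Agent.S0039.result N H hNc' hNne hH.1).mp hH h hh hh1
    have hx2 : x ∈ N ⊓ Subgroup.centralizer {h} := by
      refine Subgroup.mem_inf.mpr ⟨hx, ?_⟩
      rw [Subgroup.mem_centralizer_iff]
      intro y hy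
      rw [Set.mem_singleton_iff] at hy
      rw [hy]
      exact hcomm
    rw [h4, Subgroup.mem_bot] at hx2
    exact hx2

end Kernel

end Cfsg.Agent.Helper5.Fpf
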