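import Mathlib
import Cfsg.Agent.Helper5.FpfI

/-!
# Frobenius complements: the elementary abelian section and the final theorem
-/

set_option autoImplicit false
set_option linter.unusedSectionVars false

namespace Cfsg.Agent.Helper5.Fpf

open Cfsg

section Omega

variable {L : Type*} [Group L]

/-- The elements of order dividing `p` in the centre of `N`, as a subgroup of `L`. -/
def omegaCenter (N : Subgroup L) (p : ℕ) : Subgroup L where
  carrier := {x | x ∈ N ∧ (∀ y ∈ N, y * x = x * y) ∧ x ^ p = 1}
  mul_mem' := by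
    rintro a b ⟨haN, hac, hap⟩ ⟨hbN, hbc, hbp⟩
    refine ⟨N.mul_mem haN hbN, ?_, ?_⟩
    · intro y hy
      rw [← mul_assoc, hac y hy, mul_assoc, hbc y hy, mul_assoc]
    · have hcomm : Commute a b := hbc a haN
      rw [hcomm.mul_pow, hap, hbp, one_mul]
  one_mem' := ⟨N.one_mem, by simp, one_pow p⟩
  inv_mem' := by
    rintro a ⟨haN, hac, hap⟩
    refine ⟨N.inv_mem haN, ?_, by rw [inv_pow, hap, inv_one]⟩
    intro y hy
    have := hac y hy
    calc y * a⁻¹ = a⁻¹ * (a * y) * a⁻¹ := by group
      _ = a⁻¹ * (y * a) * a⁻¹ := by rw [this]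
      _ = a⁻¹ * y := by group

theorem mem_omegaCenter {N : Subgroup L} {p : ℕ} {x : L} :
    x ∈ omegaCenter N p ↔ x ∈ N ∧ (∀ y ∈ N, y * x = x * y) ∧ x ^ p = 1 := Iff.rfl

theorem conj_mem_omegaCenter {N : Subgroup L} [hN : N.Normal] {p : ℕ} (g : L) {x : L}
    (hx : x ∈ omegaCenter N p) : g * x * g⁻¹ ∈ omegaCenter N p := by
  obtain ⟨hxN, hxc, hxp⟩ := hx
  refine ⟨hN.conj_mem x hxN g, ?_, ?_⟩
  · intro y hy
    have hy' : g⁻¹ * y * g ∈ N := by
      have := hN.conj_mem y hy g⁻¹
      rwa [inv_inv] at this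
    have := hxc _ hy'
    calc y * (g * x * g⁻¹) = g * ((g⁻¹ * y * g) * x) * g⁻¹ := by group
      _ = g * (x * (g⁻¹ * y * g)) * g⁻¹ := by rw [this]
      _ = g * x * g⁻¹ * y := by group
  · rw [conj_pow, hxp, mul_one, mul_inv_cancel]

theorem omegaCenter_comm {N : Subgroup L} {p : ℕ} {x y : L} (hx : x ∈ omegaCenter N p)
    (hy : y ∈ omegaCenter N p) : x * y = y * x := hy.2.1 x hx.1

/-- The conjugation action of `H` on the additive version of a conjugation-invariant subgroup. -/
@[reducible] def conjAction (H V : Subgroup L) (hV : ∀ g : L, ∀ x ∈ V, g * x * g⁻¹ ∈ V) :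
    DistribMulAction H (Additive V) where
  smul h a := Additive.ofMul
    (⟨(h : L) * ((Additive.toMul a : V) : L) * (h : L)⁻¹, hV _ _ (Additive.toMul a).2⟩ : V)
  one_smul a := by
    show Additive.ofMul
      (⟨((1 : H) : L) * ((Additive.toMul a : V) : L) * ((1 : H) : L)⁻¹, _⟩ : V) = a
    apply Additive.toMul.injective
    apply Subtype.ext
    simp
  mul_smul g h a := by
    apply Additive.toMul.injective
    apply Subtype.ext
    show ((g * h : H) : L) * ((Additive.toMul a : V) : L) * ((g * h : H) : L)⁻¹ =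
      (g : L) * ((h : L) * ((Additive.toMul a : V) : L) * (h : L)⁻¹) * (g : L)⁻¹
    rw [Subgroup.coe_mul]
    group
  smul_zero h := by
    apply Additive.toMul.injective
    apply Subtype.ext
    show (h : L) * ((1 : V) : L) * (h : L)⁻¹ = ((1 : V) : L)
    simp
  smul_add h a b := by
    apply Additive.toMul.injective
    apply Subtype.ext
    show (h : L) * ((Additive.toMul a * Additive.toMul b : V) : L) * (h : L)⁻¹ =
      ((h : L) * ((Additive.toMul a : V) : L) * (h : L)⁻¹) *
        ((h : L) * ((Additive.toMul b : V) : L) * (h : L)⁻¹)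
    rw [Subgroup.coe_mul]
    group

end Omega

section Main

variable {L : Type*} [Group L] [Finite L]

/-- **Frobenius complements have faithful irreducible fixed-point-free representations over the
algebraic closure of `ℚ`.** -/
theorem frobenius_complement_fpf_rep (H : Subgroup L) (hH : IsFrobeniusComplement H) :
    ∃ (n : ℕ) (ρ : H →* GL (Fin n) (AlgebraicClosure ℚ)), 0 < n ∧ Function.Injective ρ ∧
      (∀ W : Submodule (AlgebraicClosure ℚ) (Fin n → AlgebraicClosure ℚ),
        (∀ g : H, ∀ w ∈ W, ((ρ g : GL (Fin n) (AlgebraicClosure ℚ)) :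
          Matrix (Fin n) (Fin n) (AlgebraicClosure ℚ)).mulVec w ∈ W) → W = ⊥ ∨ W = ⊤) ∧
      ∀ g : H, g ≠ 1 → ∀ v : Fin n → AlgebraicClosure ℚ,
        ((ρ g : GL (Fin n) (AlgebraicClosure ℚ)) :
          Matrix (Fin n) (Fin n) (AlgebraicClosure ℚ)).mulVec v = v → v = 0 := by
  obtain ⟨N, hNn, hNnil, hNne, hcop, hfix⟩ := frobenius_kernel_data H hH
  have := hNn
  have := hNnil
  have hNnt : Nontrivial N := (Subgroup.nontrivial_iff_ne_bot N).mpr hNne
  have hZne : Subgroup.center N ≠ ⊥ := Group.IsNilpotent.center_ne_bot N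
  have hZcard : Nat.card (Subgroup.center N) ≠ 1 := fun h => hZne (Subgroup.card_eq_one.mp h)
  obtain ⟨p, hp, hpd⟩ := Nat.exists_prime_and_dvd hZcard
  have hpF : Fact p.Prime := ⟨hp⟩
  obtain ⟨z, hz⟩ := exists_prime_orderOf_dvd_card' p hpd
  set V := omegaCenter N p with hVdef
  have hVinv : ∀ g : L, ∀ x ∈ V, g * x * g⁻¹ ∈ V := fun g x hx => conj_mem_omegaCenter g hx
  have hzV : (((z : Subgroup.center N) : N) : L) ∈ V := by
    refine ⟨(z : N).2, ?_, ?_⟩
    · intro y hy
      have h1 := Subgroup.mem_center_iff.mp z.2 ⟨y, hy⟩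
      exact congrArg Subtype.val h1
    · have h1 : z ^ p = 1 := by rw [← hz]; exact pow_orderOf_eq_one z
      have h2 := congrArg (fun w : Subgroup.center N => (((w : N)) : L)) h1
      simpa using h2
  have hz1 : (((z : Subgroup.center N) : N) : L) ≠ 1 := by
    intro h
    have h1 : z = 1 := by
      apply Subtype.ext
      apply Subtype.ext
      simpa using h
    rw [h1, orderOf_one] at hz
    exact hp.one_lt.ne hz
  have hVne : V ≠ ⊥ := by
    intro h
    rw [h, Subgroup.mem_bot] at hzV
    exact hz1 hzV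
  have hpN : p ∣ Nat.card N := hpd.trans (Subgroup.card_subgroup_dvd_card _)
  have hpH : ¬ p ∣ Nat.card H := by
    intro h
    have := Nat.dvd_gcd hpN h
    rw [hcop] at this
    exact hp.one_lt.ne' (Nat.dvd_one.mp this)
  let _ : CommGroup V :=
    { (inferInstance : Group V) with
      mul_comm := fun a b => Subtype.ext (omegaCenter_comm a.2 b.2) }
  let _ : DistribMulAction H (Additive V) := conjAction H V hVinv
  have hVnt : Nontrivial V := (Subgroup.nontrivial_iff_ne_bot V).mpr hVne
  have hAnt : Nontrivial (Additive V) := inferInstance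
  refine exists_rep_of_action (G := H) (A := Additive V) p hpH ?_ ?_
  · intro a
    apply Additive.toMul.injective
    apply Subtype.ext
    show ((Additive.toMul a ^ p : V) : L) = 1
    rw [Subgroup.coe_pow]
    exact (Additive.toMul a).2.2.2
  · intro h hh1 a ha
    have h1 : (h : L) * ((Additive.toMul a : V) : L) * (h : L)⁻¹ = ((Additive.toMul a : V) : L) :=
      congrArg (fun w : Additive V => ((Additive.toMul w : V) : L)) ha
    have h2 : (h : L) * ((Additive.toMul a : V) : L) = ((Additive.toMul a : V) : L) * (h : L) := by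
      calc (h : L) * ((Additive.toMul a : V) : L)
          = ((h : L) * ((Additive.toMul a : V) : L) * (h : L)⁻¹) * (h : L) := by group
        _ = ((Additive.toMul a : V) : L) * (h : L) := by rw [h1]
    have hh1' : (h : L) ≠ 1 := fun e => hh1 (Subtype.ext e)
    have h3 := hfix h h.2 hh1' _ (Additive.toMul a).2.1 h2
    apply Additive.toMul.injective
    apply Subtype.ext
    exact h3

end Main

end Cfsg.Agent.Helper5.Fpf
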