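import Cfsg.Agent.Helper5.FpfK
import Cfsg.Agent.Helper5.FpfJ
import Cfsg.Agent.Helper5.ZasDefs

/-!
# From Frobenius complements to the split linear setup

A Frobenius complement has a fixed-point-free representation over `ℚ̄`; reducing a stable lattice
modulo a prime `ℓ ≡ 1 mod 120·|H|` gives a `Zas.Setup`.
-/

set_option autoImplicit false
set_option linter.unusedSectionVars false

namespace Cfsg.Agent.Helper5.Zas

open Cfsg.Agent.Helper5.Fpf

/-- a distributive action on a `ZMod n`-module as a representation -/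
def rhoOfAction (n : ℕ) (S V : Type*) [Monoid S] [AddCommGroup V] [Module (ZMod n) V]
    [DistribMulAction S V] : S →* Module.End (ZMod n) V where
  toFun s := (DistribSMul.toAddMonoidHom V s).toZModLinearMap n
  map_one' := by
    ext v
    exact one_smul S v
  map_mul' s t := by
    ext v
    exact mul_smul s t v

theorem rhoOfAction_apply (n : ℕ) (S V : Type*) [Monoid S] [AddCommGroup V] [Module (ZMod n) V]
    [DistribMulAction S V] (s : S) (v : V) : rhoOfAction n S V s v = s • v := rfl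

section Lattice

universe u v

variable {S : Type u} [Group S] {E : Type v} [AddCommGroup E] [DistribMulAction S E]
  {Λ : AddSubgroup E}

theorem quo_nsmul (ℓ : ℕ) (v : Λ ⧸ mulSubL Λ ℓ) : ℓ • v = 0 := by
  induction v using QuotientAddGroup.induction_on with
  | H r =>
    show ((ℓ • r : Λ) : Λ ⧸ mulSubL Λ ℓ) = 0
    rw [QuotientAddGroup.eq_zero_iff]
    exact ⟨r, rfl⟩

/-- the action on `Λ/ℓΛ` is fixed-point-free -/
theorem quo_fpf [Finite S] (hst : ∀ s : S, ∀ v ∈ Λ, s • v ∈ Λ)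
    (hnorm : ∀ s : S, s ≠ 1 → ∀ v ∈ Λ, ∑ i ∈ Finset.range (orderOf s), (s ^ i) • v = 0)
    (ℓ : ℕ) (hℓ : ℓ.Prime) (hdvd : ¬ ℓ ∣ Nat.card S) :
    letI := quoAct hst ℓ
    ∀ s : S, s ≠ 1 → ∀ v : Λ ⧸ mulSubL Λ ℓ, s • v = v → v = 0 := by
  let _ := latAct Λ hst
  let _ := quoAct hst ℓ
  intro s hs v hv
  set m := orderOf s with hm
  have hmdvd : m ∣ Nat.card S := orderOf_dvd_natCard s
  have hcop : Nat.Coprime m ℓ := by
    rw [Nat.coprime_comm]
    exact (Nat.Prime.coprime_iff_not_dvd hℓ).mpr (fun h => hdvd (h.trans hmdvd))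
  have hpow : ∀ i : ℕ, (s ^ i) • v = v := by
    intro i
    induction i with
    | zero => rw [pow_zero, one_smul]
    | succ i ih => rw [pow_succ, mul_smul, hv, ih]
  have hsum : ∑ i ∈ Finset.range m, (s ^ i) • v = m • v := by
    rw [Finset.sum_congr rfl (fun i _ => hpow i), Finset.sum_const, Finset.card_range]
  have hsum0 : ∑ i ∈ Finset.range m, (s ^ i) • v = 0 := by
    induction v using QuotientAddGroup.induction_on with
    | H r =>
      have e1 : ∀ i : ℕ, (s ^ i) • (r : Λ ⧸ mulSubL Λ ℓ) =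
          (((s ^ i) • r : Λ) : Λ ⧸ mulSubL Λ ℓ) := fun i => rfl
      rw [Finset.sum_congr rfl (fun i _ => e1 i)]
      have e2 : ∑ i ∈ Finset.range m, ((((s ^ i) • r : Λ)) : Λ ⧸ mulSubL Λ ℓ) =
          ((∑ i ∈ Finset.range m, (s ^ i) • r : Λ) : Λ ⧸ mulSubL Λ ℓ) := by
        rw [← QuotientAddGroup.mk'_apply, map_sum]
        rfl
      rw [e2]
      have e3 : (∑ i ∈ Finset.range m, (s ^ i) • r : Λ) = 0 := by
        apply Subtype.ext
        show Λ.subtype (∑ i ∈ Finset.range m, (s ^ i) • r) = 0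
        rw [map_sum]
        exact hnorm s hs r r.2
      rw [e3]; rfl
  have hmv : m • v = 0 := by rw [← hsum, hsum0]
  have hℓv : ℓ • v = 0 := quo_nsmul ℓ v
  have hb : ((Nat.gcd m ℓ : ℕ) : ℤ) = (m : ℤ) * Nat.gcdA m ℓ + (ℓ : ℤ) * Nat.gcdB m ℓ :=
    Nat.gcd_eq_gcd_ab _ _
  rw [hcop] at hb
  have h6 : ((m : ℤ) * Nat.gcdA m ℓ) • v = 0 := by
    rw [mul_zsmul', natCast_zsmul, hmv, zsmul_zero]
  have h7 : ((ℓ : ℤ) * Nat.gcdB m ℓ) • v = 0 := by
    rw [mul_zsmul', natCast_zsmul, hℓv, zsmul_zero]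
  have h8 : v = ((1 : ℕ) : ℤ) • v := by simp
  rw [h8, hb, add_zsmul, h6, h7, add_zero]

/-- **Reduction modulo a split prime.** -/
theorem setup_of_lattice [Finite S] (hst : ∀ s : S, ∀ v ∈ Λ, s • v ∈ Λ)
    (htf : ∀ (n : ℤ) (v : E), n ≠ 0 → n • v = 0 → v = 0) (hfg : Λ.FG) (hne : Λ ≠ ⊥)
    (hnorm : ∀ s : S, s ≠ 1 → ∀ v ∈ Λ, ∑ i ∈ Finset.range (orderOf s), (s ^ i) • v = 0) :
    ∃ (p : ℕ) (_ : Fact p.Prime) (V : Type v) (_ : AddCommGroup V) (_ : Module (ZMod p) V)
      (_ : Finite V) (_ : Nontrivial V), Nonempty (Setup p S V) := by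
  have hk0 : 120 * Nat.card S ≠ 0 := by
    have := Nat.card_pos (α := S)
    omega
  obtain ⟨ℓ, hℓ, hgt, hmod⟩ := Nat.exists_prime_gt_modEq_one (120 * Nat.card S) hk0
  have hdvd : ¬ ℓ ∣ Nat.card S := by
    intro hd
    have := Nat.le_of_dvd Nat.card_pos hd
    have := Nat.card_pos (α := S)
    nlinarith
  let _ := latAct Λ hst
  let _ := quoAct hst ℓ
  have hfin : Finite (Λ ⧸ mulSubL Λ ℓ) := finite_quo hfg ℓ hℓ.pos
  have hnt : Nontrivial (Λ ⧸ mulSubL Λ ℓ) := by
    have h1 := mulSubL_ne_top htf hfg hne ℓ hℓ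
    obtain ⟨x, hx⟩ : ∃ x : Λ, x ∉ mulSubL Λ ℓ := by
      by_contra hcon
      push Not at hcon
      exact h1 (eq_top_iff.mpr fun x _ => hcon x)
    refine ⟨⟨(x : Λ ⧸ mulSubL Λ ℓ), 0, ?_⟩⟩
    rw [Ne, QuotientAddGroup.eq_zero_iff]
    exact hx
  have hfpf := quo_fpf hst hnorm ℓ hℓ hdvd
  let _ : Module (ZMod ℓ) (Λ ⧸ mulSubL Λ ℓ) := AddCommGroup.zmodModule (quo_nsmul ℓ)
  refine ⟨ℓ, ⟨hℓ⟩, Λ ⧸ mulSubL Λ ℓ, inferInstance, inferInstance, hfin, hnt,
    ⟨⟨rhoOfAction ℓ S (Λ ⧸ mulSubL Λ ℓ), ?_, ?_⟩⟩⟩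
  · intro g hg v hv
    exact hfpf g hg v hv
  · exact (Nat.modEq_iff_dvd' hℓ.one_lt.le).mp hmod.symm

end Lattice

end Cfsg.Agent.Helper5.Zas

namespace Cfsg.Agent.Helper5.Zas

open Cfsg.Agent.Helper5.Fpf

section MatrixRep

universe u

variable {S : Type u} [Group S] {F : Type} [Field F] {ι : Type} [Fintype ι] [DecidableEq ι]

/-- A finite group with a fixed-point-free matrix representation in characteristic `0` has a
split linear setup. -/
theorem setup_of_fpf_matrix_rep [Finite S] [CharZero F] [Nonempty ι]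
    (ρ : S →* Matrix ι ι F)
    (hfpf : ∀ s : S, s ≠ 1 → ∀ v : ι → F, (ρ s).mulVec v = v → v = 0) :
    ∃ (p : ℕ) (_ : Fact p.Prime) (V : Type) (_ : AddCommGroup V) (_ : Module (ZMod p) V)
      (_ : Finite V) (_ : Nontrivial V), Nonempty (Setup p S V) := by
  let _ := matAct ρ
  have hsmul : ∀ (s : S) (v : ι → F), s • v = (ρ s).mulVec v := fun s v => rfl
  set Λ : AddSubgroup (ι → F) :=
    AddSubgroup.closure (Set.range fun p : S × ι => (ρ p.1).mulVec (Pi.single p.2 1)) with hΛ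
  have hst : ∀ s : S, ∀ v ∈ Λ, s • v ∈ Λ := by
    intro s v hv
    rw [hΛ] at hv
    induction hv using AddSubgroup.closure_induction with
    | mem x hx =>
      obtain ⟨⟨t, i⟩, rfl⟩ := hx
      apply AddSubgroup.subset_closure
      refine ⟨(s * t, i), ?_⟩
      show (ρ (s * t)).mulVec (Pi.single i 1) = (ρ s).mulVec ((ρ t).mulVec (Pi.single i 1))
      rw [map_mul, Matrix.mulVec_mulVec]
    | zero => rw [smul_zero]; exact zero_mem _
    | add x y _ _ hx hy => rw [smul_add]; exact add_mem hx hy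
    | neg x _ hx => rw [smul_neg]; exact neg_mem hx
  have hfg : Λ.FG := by
    rw [AddSubgroup.fg_iff]
    exact ⟨_, rfl, Set.finite_range _⟩
  have hne : Λ ≠ ⊥ := by
    obtain ⟨i⟩ := ‹Nonempty ι›
    intro h
    have h1 : (Pi.single i 1 : ι → F) ∈ Λ := by
      apply AddSubgroup.subset_closure
      refine ⟨(1, i), ?_⟩
      show (ρ 1).mulVec (Pi.single i 1) = Pi.single i 1
      rw [map_one, Matrix.one_mulVec]
    rw [h, AddSubgroup.mem_bot] at h1
    have := congrFun h1 i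
    simp at this
  have htf : ∀ (n : ℤ) (v : ι → F), n ≠ 0 → n • v = 0 → v = 0 := by
    intro n v hn hv
    funext j
    have := congrFun hv j
    rw [Pi.smul_apply, zsmul_eq_mul, Pi.zero_apply] at this
    rcases mul_eq_zero.mp this with h | h
    · exact absurd (by exact_mod_cast h) hn
    · exact h
  have hnorm : ∀ s : S, s ≠ 1 → ∀ v ∈ Λ,
      ∑ i ∈ Finset.range (orderOf s), (s ^ i) • v = 0 := by
    intro s hs v _
    apply hfpf s hs
    rw [← hsmul, Finset.smul_sum]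
    have h1 : ∀ i : ℕ, s • (s ^ i) • v = (s ^ (i + 1)) • v := by
      intro i
      rw [← mul_smul, ← pow_succ']
    simp_rw [h1]
    have h2 := Finset.sum_range_succ' (fun i => (s ^ i) • v) (orderOf s)
    have h3 := Finset.sum_range_succ (fun i => (s ^ i) • v) (orderOf s)
    rw [h3] at h2
    simp only [pow_orderOf_eq_one, pow_zero] at h2
    exact (add_right_cancel h2).symm
  exact setup_of_lattice hst htf hfg hne hnorm

end MatrixRep

/-- **A Frobenius complement has a split linear setup.** -/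
theorem exists_setup_of_fc {L : Type*} [Group L] [Finite L] (H : Subgroup L)
    (hH : Cfsg.IsFrobeniusComplement H) :
    ∃ (p : ℕ) (_ : Fact p.Prime) (V : Type) (_ : AddCommGroup V) (_ : Module (ZMod p) V)
      (_ : Finite V) (_ : Nontrivial V), Nonempty (Setup p H V) := by
  obtain ⟨n, ρ, hn, -, -, hfpf⟩ := frobenius_complement_fpf_rep H hH
  have : Nonempty (Fin n) := ⟨⟨0, hn⟩⟩
  let ρ' : H →* Matrix (Fin n) (Fin n) (AlgebraicClosure ℚ) :=
    (Units.coeHom _).comp ρ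
  exact setup_of_fpf_matrix_rep ρ' (fun s hs v hv => hfpf s hs v hv)

/-- transport of a setup along a group isomorphism -/
def Setup.ofEquiv {p : ℕ} {G G' V : Type*} [Group G] [Group G'] [AddCommGroup V]
    [Module (ZMod p) V] (S : Setup p G V) (e : G' ≃* G) : Setup p G' V where
  ρ := S.ρ.comp e.toMonoidHom
  fpf := fun g hg v hv => S.fpf (e g) (fun h => hg (e.injective (by rw [h, map_one]))) v hv
  split := by
    rw [Nat.card_congr e.toEquiv]
    exact S.split

end Cfsg.Agent.Helper5.Zas
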