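import Cfsg.Agent.Helper29.OC2K.Main
import Cfsg.Agent.Helper29.OC2K.REFLMEM
import Cfsg.Agent.Helper17.OC2KC2Defs
import Cfsg.Agent.Helper17.OC2KC2PM
import Cfsg.Agent.Helper11.OC2KC2GEODPERP
import Cfsg.Agent.Helper11.OC2KC2LOCB2FIN
import Cfsg.Agent.Helper11.OC2KC2Q2SECOND
import Cfsg.Agent.Lead.OC2Q2QYC

set_option autoImplicit false
set_option linter.unusedSectionVars false
set_option linter.unusedVariables false

/-! # OC2K, chapter CHAR2 (driver helper17), piece Q2SING (`F = F₂`, `k = 4`, Witt index 1): `Q η = 0`. -/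

namespace Cfsg.Agent.OC2K

open Matrix Cfsg.Agent.Helper28.Sg Cfsg.Agent.Helper28.Spin Cfsg.Agent.Helper12.OrthGen
  Cfsg.Agent.S2614 Cfsg.Agent.S5683P Cfsg.Agent.Helper28.NDM

variable {F : Type*} [Field F] [Fintype F] {t k : ℕ} {ι : Type} [Fintype ι] [DecidableEq ι] {Q : QuadraticForm F (ι → F)} [QHyp Q] {D : Fin t → Submodule F (ι → F)}
  {M : Subgroup (OGq Q)}

theorem C2.Q2SING.main (h2 : (2 : F) = 0) (hD : HD Q k D) (hk4 : k = 4) (hq : Fintype.card F = 2)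
    (hW : C2.Witt1 Q D) {b : Fin t} {a η : ι → F} (ha : a ∈ D b) (hQa : Q a ≠ 0) (hη : η ∈ D b)
    (hηa : B (Q) a η = 1)
    (hs : ∀ x ∈ D b, x ≠ 0 → Q x = 0 → B (Q) x a = 0 → B (Q) x η = 1) : Q η = 0 := by
  have hF : Q2.IsF2 F := fun s => C2.Q2SECOND.aux_two hq s
  have hBadd : ∀ x y z : ι → F, B (Q) x (y + z) = B (Q) x y + B (Q) x z :=
    fun x y z => QuadraticMap.polar_add_right _ _ _ _
  have hBsmul : ∀ (c : F) (x y : ι → F), B (Q) x (c • y) = c * B (Q) x y := by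
    intro c x y
    show QuadraticMap.polar (⇑Q) x (c • y) = c * QuadraticMap.polar (⇑Q) x y
    rw [QuadraticMap.polar_smul_right, smul_eq_mul]
  have ha0 : a ≠ 0 := by
    rintro rfl
    exact hQa (map_zero _)
  obtain ⟨z₀, hz₀, haz₀, hz₀ne⟩ := C2.LOCB2FIN.aux_exists hD ha ha0
  obtain ⟨l, hQ₁, ha₁⟩ := C2.LOCB2FIN.aux_sing h2 hQa haz₀
  set x₁ := z₀ + l • a with hx₁def
  have hx₁ : x₁ ∈ D b := (D b).add_mem hz₀ ((D b).smul_mem l ha)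
  have hx₁0 : x₁ ≠ 0 := by
    intro h0
    apply hz₀ne (-l)
    rw [neg_smul, eq_neg_iff_add_eq_zero]
    exact h0
  -- `z₁`
  obtain ⟨z₁, hz₁, haz₁, hx₁z₁⟩ : ∃ z₁ ∈ D b, B (Q) a z₁ = 0 ∧ B (Q) x₁ z₁ ≠ 0 := by
    by_contra hcon
    push Not at hcon
    obtain ⟨s, hs1⟩ := C2.GEODPERP.main hD ha ha0 hx₁ (fun w hw haw => by
      rw [B_comm]; exact hcon w hw haw)
    have hQs : Q x₁ = s * s * Q a := by rw [hs1, Q_smul]
    rw [hQ₁] at hQs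
    have hs0 : s = 0 := by
      rcases mul_eq_zero.mp hQs.symm with h | h
      · rcases mul_eq_zero.mp h with h' | h' <;> exact h'
      · exact absurd h hQa
    apply hx₁0
    rw [hs1, hs0, zero_smul]
  have hx₁z₁1 : B (Q) x₁ z₁ = 1 := Q2.eq_one hF hx₁z₁
  have hB11 : B (Q) x₁ x₁ = 0 := by rw [B_self, hQ₁, mul_zero]
  set x₂ := z₁ + Q z₁ • x₁ with hx₂def
  have hx₂ : x₂ ∈ D b := (D b).add_mem hz₁ ((D b).smul_mem _ hx₁)
  have hQ₂ : Q x₂ = 0 := by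
    rw [hx₂def, Q_add, Q_smul, hQ₁, hBsmul, B_comm (Q) z₁ x₁, hx₁z₁1]
    linear_combination Q z₁ * h2
  have ha₂ : B (Q) a x₂ = 0 := by
    rw [hx₂def, hBadd, hBsmul, haz₁, ha₁, mul_zero, add_zero]
  have h12 : B (Q) x₁ x₂ = 1 := by
    rw [hx₂def, hBadd, hBsmul, hx₁z₁1, hB11, mul_zero, add_zero]
  have hx₂0 : x₂ ≠ 0 := by
    intro h0
    rw [h0] at h12
    have : B (Q) x₁ 0 = 0 := QuadraticMap.polar_zero_right _ _
    rw [this] at h12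
    exact zero_ne_one h12
  have hy₁ : B (Q) η x₁ = 1 := by
    rw [B_comm]
    exact hs x₁ hx₁ hx₁0 hQ₁ (by rw [B_comm]; exact ha₁)
  have hy₂ : B (Q) η x₂ = 1 := by
    rw [B_comm]
    exact hs x₂ hx₂ hx₂0 hQ₂ (by rw [B_comm]; exact ha₂)
  have hya : B (Q) η a = 1 := by rw [B_comm]; exact hηa
  exact Q2.QYC.main hF hD hW ha hx₁ hx₂ hη hQ₁ hQ₂ h12 ha₁ ha₂ hy₁ hy₂ hya

end Cfsg.Agent.OC2K
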