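import Mathlib
import Cfsg.Prelude.Def_GeometricClasses
import Cfsg.Agent.Helper3.OC2.Defs

set_option autoImplicit false
set_option linter.unusedSectionVars false
set_option linter.unusedVariables false

/-! # S5692 / S5694, chapter TRANSPORT (designer helper3), piece STABCONJ (helper5):
the decomposition stabiliser under conjugation by `P`. -/

namespace Cfsg.Agent.OC2P

open Matrix Cfsg.Geo

variable {F : Type*} [Field F] {t k n : ℕ}

namespace STABCONJ

theorem map_map_toLin' {ι : Type} [Fintype ι] [DecidableEq ι] (A B : Matrix ι ι F)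
    (W : Submodule F (ι → F)) :
    (W.map (Matrix.toLin' A)).map (Matrix.toLin' B) = W.map (Matrix.toLin' (B * A)) := by
  rw [Matrix.toLin'_mul, Submodule.map_comp]

theorem mem_iff {ι : Type} [Fintype ι] [DecidableEq ι] (D : Fin t → Submodule F (ι → F))
    (g : GL ι F) :
    g ∈ decompositionStabilizer D ↔
      ∃ σ : Equiv.Perm (Fin t), ∀ i, (D i).map (Matrix.toLin' (g : Matrix ι ι F)) = D (σ i) :=
  Iff.rfl

end STABCONJ

theorem STABCONJ.map_conj {ι : Type} [Fintype ι] [DecidableEq ι] (P : GL ι F)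
    (D₁ : Fin t → Submodule F (ι → F)) :
    (decompositionStabilizer D₁).map (MulAut.conj P).toMonoidHom =
      decompositionStabilizer (fun i => (D₁ i).map (Matrix.toLin' (P : Matrix ι ι F))) := by
  ext g
  rw [Subgroup.mem_map, STABCONJ.mem_iff]
  constructor
  · rintro ⟨h, ⟨σ, hσ⟩, rfl⟩
    refine ⟨σ, fun i => ?_⟩
    show ((D₁ i).map (Matrix.toLin' (P : Matrix ι ι F))).map
        (Matrix.toLin' ((P * h * P⁻¹ : GL ι F) : Matrix ι ι F)) = _
    rw [STABCONJ.map_map_toLin', ← Units.val_mul, inv_mul_cancel_right, Units.val_mul,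
      ← STABCONJ.map_map_toLin', hσ i]
  · rintro ⟨σ, hσ⟩
    refine ⟨P⁻¹ * g * P, ⟨σ, fun i => ?_⟩, ?_⟩
    · have h1 := hσ i
      have h2 : (D₁ i).map (Matrix.toLin' ((P⁻¹ * g * P : GL ι F) : Matrix ι ι F)) =
          (((D₁ i).map (Matrix.toLin' (P : Matrix ι ι F))).map
            (Matrix.toLin' (g : Matrix ι ι F))).map
              (Matrix.toLin' ((P⁻¹ : GL ι F) : Matrix ι ι F)) := by
        rw [STABCONJ.map_map_toLin', STABCONJ.map_map_toLin', ← Units.val_mul, ← Units.val_mul,
          mul_assoc]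
      rw [h2, h1, STABCONJ.map_map_toLin', ← Units.val_mul, inv_mul_cancel, Units.val_one,
        Matrix.toLin'_one, Submodule.map_id]
    · show P * (P⁻¹ * g * P) * P⁻¹ = g
      group

end Cfsg.Agent.OC2P
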