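import Mathlib
import Cfsg.Prelude.Def_GeometricClasses
import Cfsg.Agent.Helper3.OC2.Defs

set_option autoImplicit false
set_option linter.unusedSectionVars false
set_option linter.unusedVariables false

/-! # S5692 / S5694, chapter TRANSPORT (designer helper3), piece ISODISC (helper5):
`HasSquareDiscriminant` is an isometry invariant (Gram matrix congruence). -/

namespace Cfsg.Agent.OC2P

open Matrix Cfsg.Geo

variable {F : Type*} [Field F] {t k n : ℕ}

namespace ISODISC

/-- the polar form of a frozen-style quadratic form as a Mathlib bilinear form -/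
noncomputable def polB {ι : Type} [Fintype ι] [DecidableEq ι] {Q : (ι → F) → F}
    (hQ : IsNondegenerateQuadraticForm Q) : LinearMap.BilinForm F (ι → F) :=
  LinearMap.mk₂ F (QuadraticMap.polar Q) hQ.polar_bilinear.add_left
    (fun c x v => by rw [hQ.polar_bilinear.smul_left, smul_eq_mul])
    hQ.polar_bilinear.add_right
    (fun c v x => by rw [hQ.polar_bilinear.smul_right, smul_eq_mul])

theorem polB_apply {ι : Type} [Fintype ι] [DecidableEq ι] {Q : (ι → F) → F}
    (hQ : IsNondegenerateQuadraticForm Q) (u v : ι → F) :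
    polB hQ u v = QuadraticMap.polar Q u v := rfl

theorem gram_eq {ι : Type} [Fintype ι] [DecidableEq ι] {Q : (ι → F) → F}
    (hQ : IsNondegenerateQuadraticForm Q) :
    gramMatrix (QuadraticMap.polar Q) = LinearMap.BilinForm.toMatrix' (polB hQ) := by
  ext a b
  rw [LinearMap.BilinForm.toMatrix'_apply]
  rfl

theorem single_comp_symm {κ ι : Type} [Fintype κ] [DecidableEq κ] [Fintype ι] [DecidableEq ι]
    (e : κ ≃ ι) (a : κ) : (Pi.single a (1 : F) : κ → F) ∘ e.symm = Pi.single (e a) 1 := by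
  funext i
  by_cases h : i = e a
  · subst h
    simp
  · have h' : e.symm i ≠ a := fun h2 => h (by rw [← h2, Equiv.apply_symm_apply])
    simp [Function.comp, h, h']

theorem polar_eq {κ ι : Type} [Fintype κ] [DecidableEq κ] [Fintype ι] [DecidableEq ι]
    {Q : (ι → F) → F} {Q₀ : (κ → F) → F} (e : κ ≃ ι) (P : GL ι F)
    (hP : ∀ x : ι → F, Q ((P : Matrix ι ι F) *ᵥ x) = Q₀ (x ∘ e)) (y y' : κ → F) :
    QuadraticMap.polar Q₀ y y' =
      QuadraticMap.polar Q ((P : Matrix ι ι F) *ᵥ (y ∘ e.symm)) ((P : Matrix ι ι F) *ᵥ (y' ∘ e.symm)) := by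
  have h : ∀ z : κ → F, Q ((P : Matrix ι ι F) *ᵥ (z ∘ e.symm)) = Q₀ z := by
    intro z
    rw [hP]
    congr 1
    funext a
    simp
  unfold QuadraticMap.polar
  rw [← Matrix.mulVec_add, h y, h y', ← h (y + y')]
  rfl

theorem gram_congr {κ ι : Type} [Fintype κ] [DecidableEq κ] [Fintype ι] [DecidableEq ι]
    {Q : (ι → F) → F} {Q₀ : (κ → F) → F} (e : κ ≃ ι) (P : GL ι F)
    (hP : ∀ x : ι → F, Q ((P : Matrix ι ι F) *ᵥ x) = Q₀ (x ∘ e))
    (hQ : IsNondegenerateQuadraticForm Q) :
    gramMatrix (QuadraticMap.polar Q₀) =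
      ((P : Matrix ι ι F)ᵀ * gramMatrix (QuadraticMap.polar Q) * (P : Matrix ι ι F)).submatrix e e := by
  ext a b
  show QuadraticMap.polar Q₀ (Pi.single a 1) (Pi.single b 1) = _
  rw [polar_eq e P hP, single_comp_symm, single_comp_symm, Matrix.submatrix_apply, gram_eq hQ,
    ← LinearMap.toMatrix'_toLin' (P : Matrix ι ι F)]
  have := LinearMap.BilinForm.toMatrix'_comp (polB hQ) (Matrix.toLin' (P : Matrix ι ι F))
    (Matrix.toLin' (P : Matrix ι ι F))
  rw [← this, LinearMap.BilinForm.toMatrix'_apply, LinearMap.BilinForm.comp_apply,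
    Matrix.toLin'_apply, Matrix.toLin'_apply, polB_apply, LinearMap.toMatrix'_toLin']

theorem isSquare_mul_mul {d g : F} (hd : d ≠ 0) : IsSquare (d * g * d) ↔ IsSquare g := by
  constructor
  · rintro ⟨s, hs⟩
    refine ⟨s / d, ?_⟩
    have : g = (d * g * d) / (d * d) := by field_simp
    rw [this, hs]
    field_simp
  · rintro ⟨s, hs⟩
    exact ⟨d * s, by rw [hs]; ring⟩

end ISODISC

/-- Gram matrices: `G₀ = (P R)ᵀ G (P R)`, `R` the permutation matrix of `e` -/
theorem ISODISC.main {κ ι : Type} [Fintype κ] [DecidableEq κ] [Fintype ι] [DecidableEq ι]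
    {Q : (ι → F) → F} {Q₀ : (κ → F) → F} (e : κ ≃ ι) (P : GL ι F)
    (hP : ∀ x : ι → F, Q ((P : Matrix ι ι F) *ᵥ x) = Q₀ (x ∘ e))
    (hQ : IsNondegenerateQuadraticForm Q) :
    HasSquareDiscriminant Q ↔ HasSquareDiscriminant Q₀ := by
  unfold HasSquareDiscriminant
  rw [ISODISC.gram_congr e P hP hQ, Matrix.det_submatrix_equiv_self, Matrix.det_mul, Matrix.det_mul,
    Matrix.det_transpose]
  have hd : (P : Matrix ι ι F).det ≠ 0 := by
    have := (Matrix.isUnit_iff_isUnit_det _).mp P.isUnit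
    exact this.ne_zero
  exact (ISODISC.isSquare_mul_mul hd).symm

end Cfsg.Agent.OC2P
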