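import Mathlib
import Cfsg.Agent.Helper7.K2M.Defs2
import Cfsg.Agent.Helper4.K2MQB
import Cfsg.Agent.Helper3.K2MRACT
import Cfsg.Agent.Helper19.K2MUNIV
import Cfsg.Agent.Helper27.K2MSTAB
import Cfsg.Agent.Helper27.K2MPERM
import Cfsg.Agent.Helper27.K2MINVBase
import Cfsg.Agent.Helper19.K2MOMEGA
import Cfsg.Agent.Helper27.K2MFULL
import Cfsg.Agent.Helper27.K2MRANK2
import Cfsg.Agent.Helper11.K2MINVINVOLA

set_option autoImplicit false
set_option linter.unusedSectionVars false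
set_option linter.unusedVariables false

/-! # S5694, `k = 2` minus blocks, chapter INV (driver helper27), piece INV-INVOLPAIR:
the involution argument for a chosen pair of blocks. -/

namespace Cfsg.Agent.K2M

open Matrix Cfsg.Agent.OC2P Cfsg.Agent.Helper28.Sg Cfsg.Agent.Helper28.Spin
  Cfsg.Agent.Helper12.OrthGen

variable {F : Type*} [Field F] [Fintype F] {t : ℕ} {Q : QuadraticForm F (Fin t × Fin 2 → F)}
  {q : QuadraticForm F (Fin 2 → F)}

/-- INVOLPAIR -/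
theorem INVOLPAIR.main (bm : BM Q q) (ht : 3 ≤ t) (hF : Fintype.card F ≠ 3) {H : Subgroup (OG Q)}
    (hH : HasMO H) (hP : PropP H) {x : OG Q} (hx : x ∈ H) (hns : ¬ StabD Q x)
    {i₀ : Fin t} {y₀ : Fin 2 → F} (hy₀ : y₀ ≠ 0) {i j k : Fin t} (hij : i ≠ j) (hik : i ≠ k) (hjk : j ≠ k)
    {p p' : Fin 2 → F} (hp : p ≠ 0) (hp' : p' ≠ 0)
    (hpu : QuadraticMap.polar ⇑q p (bproj i (mt Q x *ᵥ binj i₀ y₀)) = 0)
    (hpu' : QuadraticMap.polar ⇑q p' (bproj j (mt Q x *ᵥ binj i₀ y₀)) = 0)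
    (hsq : IsSquare (q p * q p')) : False := by
  have hb : Q (binj i p) ≠ 0 := by
    rw [QB.Q_binj bm]
    exact fun h => hp (bm.aniso _ h)
  have hb' : Q (binj j p') ≠ 0 := by
    rw [QB.Q_binj bm]
    exact fun h => hp' (bm.aniso _ h)
  have hm : reflO Q (binj i p) hb * reflO Q (binj j p') hb' ∈ H :=
    OMEGA.pair_mem bm ht hH i j p p' hb hb' hsq
  have hBu : B Q (binj i p) (mt Q x *ᵥ binj i₀ y₀) = 0 := by
    rw [QB.B_binj_left bm]; exact hpu
  have hBu' : B Q (binj j p') (mt Q x *ᵥ binj i₀ y₀) = 0 := by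
    rw [QB.B_binj_left bm]; exact hpu'
  have hfix := RR.fix (binj i p) (binj j p') hb hb' hBu hBu'
  have hvblk : IsBlk (binj i₀ y₀ : Fin t × Fin 2 → F) := ⟨i₀, binj_mem i₀ y₀⟩
  have hQv : Q (binj i₀ y₀) ≠ 0 := by
    rw [QB.Q_binj bm]
    exact fun h => hy₀ (bm.aniso _ h)
  have hstar := STAR.main hP hx hm hvblk hQv hfix
  have he : Q (mt Q x⁻¹ *ᵥ binj i p) ≠ 0 := by rw [Q_isom]; exact hb
  have he' : Q (mt Q x⁻¹ *ᵥ binj j p') ≠ 0 := by rw [Q_isom]; exact hb'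
  have hconj := RR.conj x (binj i p) (binj j p') hb hb' he he'
  rw [← hconj] at hstar
  have hee : B Q (mt Q x⁻¹ *ᵥ binj i p) (mt Q x⁻¹ *ᵥ binj j p') = 0 := by
    rw [B_isom]
    exact QB.B_binj_binj_ne bm hij p p'
  -- `B e w = B b (x w)`
  have hBe : ∀ w : Fin t × Fin 2 → F,
      B Q (mt Q x⁻¹ *ᵥ binj i p) w = B Q (binj i p) (mt Q x *ᵥ w) := by
    intro w
    rw [← B_isom Q x (mt Q x⁻¹ *ᵥ binj i p) w, mt_mulVec_inv]
  have hBe' : ∀ w : Fin t × Fin 2 → F,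
      B Q (mt Q x⁻¹ *ᵥ binj j p') w = B Q (binj j p') (mt Q x *ᵥ w) := by
    intro w
    rw [← B_isom Q x (mt Q x⁻¹ *ᵥ binj j p') w, mt_mulVec_inv]
  -- `x (α e + β e') = α b + β b'`
  have hxcomb : ∀ α β : F,
      mt Q x *ᵥ (α • (mt Q x⁻¹ *ᵥ binj i p) + β • (mt Q x⁻¹ *ᵥ binj j p'))
        = α • binj i p + β • binj j p' := by
    intro α β
    rw [Matrix.mulVec_add, Matrix.mulVec_smul, Matrix.mulVec_smul, mt_mulVec_inv, mt_mulVec_inv]
  have hind : Indep2 (F := F) (mt Q x⁻¹ *ᵥ binj i p) (mt Q x⁻¹ *ᵥ binj j p') := by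
    intro α β h
    have h1 := hxcomb α β
    rw [h, Matrix.mulVec_zero] at h1
    have hi := congrArg (bproj i) h1
    have hj := congrArg (bproj j) h1
    rw [QB.bproj_add, QB.bproj_smul, QB.bproj_smul, bproj_binj, bproj_binj_ne hij, smul_zero,
      add_zero, QB.bproj_zero] at hi
    rw [QB.bproj_add, QB.bproj_smul, QB.bproj_smul, bproj_binj, bproj_binj_ne hij.symm, smul_zero,
      zero_add, QB.bproj_zero] at hj
    constructor
    · rcases smul_eq_zero.mp hi.symm with h0 | h0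
      · exact h0
      · exact absurd h0 hp
    · rcases smul_eq_zero.mp hj.symm with h0 | h0
      · exact h0
      · exact absurd h0 hp'
  have hv0 : (binj i₀ y₀ : Fin t × Fin 2 → F) ≠ 0 := fun h => hy₀ (QB.binj_eq_zero.mp h)
  have hev : B Q (mt Q x⁻¹ *ᵥ binj i p) (binj i₀ y₀) = 0 := by rw [hBe]; exact hBu
  have hev' : B Q (mt Q x⁻¹ *ᵥ binj j p') (binj i₀ y₀) = 0 := by rw [hBe']; exact hBu'
  rcases RANK2.main bm he he' hee hind hstar (binj_mem i₀ y₀) hv0 hev hev' with hA | hB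
  · -- (A)
    refine INVOLA.main bm (x := x) (i₀ := i₀) (i := i) ?_ hp ?_
    · intro y hy
      exact FULL.main bm ht hF hH hP hx hns ⟨i₀, binj_mem i₀ y⟩
        (fun h => hy (QB.binj_eq_zero.mp h)) i
    · intro y
      rw [← QB.B_binj_left bm, ← hBe]
      exact (hA _ (binj_mem i₀ y)).1
  · -- (B)
    obtain ⟨l, r, α, β, hr, hr0, hreq⟩ := hB
    apply FULL.main bm ht hF hH hP hx hns ⟨l, hr⟩ hr0 k
    rw [hreq, hxcomb, QB.bproj_add, QB.bproj_smul, QB.bproj_smul, bproj_binj_ne hik.symm,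
      bproj_binj_ne hjk.symm, smul_zero, smul_zero, add_zero]

end Cfsg.Agent.K2M
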