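import Mathlib
import Cfsg.Agent.Helper7.K2M.Defs
import Cfsg.Agent.Helper28.OrthMax3
import Cfsg.Agent.Helper17.OC2TBLKND
import Cfsg.Agent.Helper4.K2MQB
import Cfsg.Agent.Helper19.K2MUNIV
import Cfsg.Agent.Helper27.K2MSTAB

set_option autoImplicit false
set_option linter.unusedSectionVars false
set_option linter.unusedVariables false

/-! # S5694, `k = 2` minus blocks (designer helper7), top level piece PROPER (helper5):
`Ω = S Q` does not permute the blocks. -/

namespace Cfsg.Agent.K2M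

open Matrix Cfsg.Agent.OC2P Cfsg.Agent.Helper28.Sg Cfsg.Agent.Helper28.Spin
  Cfsg.Agent.Helper12.OrthGen

variable {F : Type*} [Field F] [Fintype F] {t : ℕ} {Q : QuadraticForm F (Fin t × Fin 2 → F)}
  {q : QuadraticForm F (Fin 2 → F)}

/-- PROPER (M): `Ω` does not permute the blocks (e.g. `E(u, w)`, `u` singular on blocks `0, 1`, `w` in block `2`) -/
theorem PROPER.main (bm : BM Q q) (ht : 7 ≤ t) : ∃ g : OG Q, g ∈ S Q ∧ ¬ StabD Q g := by
  classical
  let i0 : Fin t := ⟨0, by omega⟩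
  let i1 : Fin t := ⟨1, by omega⟩
  let i2 : Fin t := ⟨2, by omega⟩
  have h01 : i0 ≠ i1 := by intro h; simpa [i0, i1, Fin.ext_iff] using h
  have h02 : i0 ≠ i2 := by intro h; simpa [i0, i2, Fin.ext_iff] using h
  have h12 : i1 ≠ i2 := by intro h; simpa [i1, i2, Fin.ext_iff] using h
  set y₀ : Fin 2 → F := Pi.single 0 1 with hy₀def
  have hy₀ : y₀ ≠ 0 := by
    intro h0
    have := congrFun h0 0
    simp [hy₀def] at this
  set c : F := q y₀ with hc
  have hc0 : c ≠ 0 := fun h0 => hy₀ (bm.aniso y₀ h0)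
  obtain ⟨y₁, hy₁⟩ := UNIV.main bm (c := -c) (neg_ne_zero.mpr hc0)
  have hy₁0 : y₁ ≠ 0 := by
    intro h0
    rw [h0, map_zero] at hy₁
    exact hc0 (neg_eq_zero.mp hy₁.symm)
  obtain ⟨y', hy'⟩ := QB.exists_polar_ne bm hy₀
  set u : Fin t × Fin 2 → F := binj i0 y₀ + binj i1 y₁ with hu
  set w : Fin t × Fin 2 → F := binj i2 y₀ with hw
  set x : Fin t × Fin 2 → F := binj i0 y' with hx
  have hQu : Q u = 0 := by
    rw [hu, Q_add, QB.Q_binj bm, QB.Q_binj bm, QB.B_binj_binj_ne bm h01, hy₁, ← hc]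
    ring
  have hBuw : B Q u w = 0 := by
    rw [hu, hw]
    show QuadraticMap.polar ⇑Q (binj i0 y₀ + binj i1 y₁) (binj i2 y₀) = 0
    rw [QuadraticMap.polar_add_left]
    have e1 := QB.B_binj_binj_ne bm h02 y₀ y₀
    have e2 := QB.B_binj_binj_ne bm h12 y₁ y₀
    simp only [B] at e1 e2
    rw [e1, e2, add_zero]
  have hBux : B Q u x = 1 := by
    rw [hu, hx]
    show QuadraticMap.polar ⇑Q (binj i0 y₀ + binj i1 y₁) (binj i0 y') = 1
    rw [QuadraticMap.polar_add_left]
    have e1 := QB.B_binj_left bm i0 y₀ (binj i0 y')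
    have e2 := QB.B_binj_binj_ne bm h01.symm y₁ y'
    simp only [B] at e1 e2
    rw [e1, e2, add_zero, bproj_binj, hy']
  have hBwx : B Q w x = 0 := by
    rw [hw, hx]
    exact QB.B_binj_binj_ne bm h02.symm y₀ y'
  have hQw : Q w = c := by rw [hw, QB.Q_binj bm]
  refine ⟨siegO Q u w hQu hBuw, siegO_mem_S Q u w hQu hBuw, ?_⟩
  intro hst
  obtain ⟨σ, hσ⟩ := (STAB.iff bm _).mp hst
  have hmem := hσ i0 y'
  rw [siegO_mulVec, hBux, hBwx, hQw, one_smul, zero_smul, sub_zero, mul_one] at hmem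
  rw [QB.mem_Dblk_iff] at hmem
  -- the components in blocks `i1` and `i2`
  have hb2 : bproj i2 (binj i0 y' + w - c • u) = y₀ := by
    rw [QB.bproj_sub, QB.bproj_add, QB.bproj_smul, hu, QB.bproj_add, hw,
      bproj_binj_ne h02.symm, bproj_binj, bproj_binj_ne h02.symm, bproj_binj_ne h12.symm]
    simp
  have hb1 : bproj i1 (binj i0 y' + w - c • u) = - (c • y₁) := by
    rw [QB.bproj_sub, QB.bproj_add, QB.bproj_smul, hu, QB.bproj_add, hw,
      bproj_binj_ne h01.symm, bproj_binj_ne h12, bproj_binj_ne h01.symm, bproj_binj]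
    simp
  by_cases hs : σ i0 = i2
  · have h1 := hmem i1 (by rw [hs]; exact h12)
    rw [hb1, neg_eq_zero] at h1
    rcases smul_eq_zero.mp h1 with h | h
    · exact hc0 h
    · exact hy₁0 h
  · have h2 := hmem i2 (fun h => hs h.symm)
    rw [hb2] at h2
    exact hy₀ h2

end Cfsg.Agent.K2M
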