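import Mathlib
import Cfsg.Agent.Helper14.GLk.Defs
import Cfsg.Agent.Helper14.SLk.Defs
import Cfsg.Agent.Helper14.PSLk.Defs

/-!
# S2480 piece UNIQA (helper5): the dimension of the image of multiplication by `r^k` on
`F[X]/(p^e)`
-/

set_option autoImplicit false

namespace Cfsg.Agent.S2480P

open Polynomial DirectSum Cfsg.Agent.S2478P Cfsg.Agent.S2479P


namespace UNIQA

variable {F : Type*} [Field F]

theorem finrank_quot (f : F[X]) (hf : f.Monic) :
    Module.finrank F (F[X] ⧸ Submodule.span F[X] {f}) = f.natDegree :=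
  finrank_quotient_span_eq_natDegree' hf

/-- the `F`-linear map `x ↦ a • mk x` -/
noncomputable def gam (f a : F[X]) : F[X] →ₗ[F] (F[X] ⧸ Submodule.span F[X] {f}) :=
  ((LinearMap.lsmul F[X] (F[X] ⧸ Submodule.span F[X] {f}) a).restrictScalars F).comp
    ((Submodule.span F[X] {f}).mkQ.restrictScalars F)

theorem gam_apply (f a x : F[X]) :
    gam f a x = Submodule.Quotient.mk (a * x) := rfl

theorem range_gam (f a : F[X]) :
    LinearMap.range (gam f a) =
      LinearMap.range ((LinearMap.lsmul F[X] (F[X] ⧸ Submodule.span F[X] {f}) a).restrictScalars F) := by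
  unfold gam
  apply LinearMap.range_comp_of_range_eq_top
  rw [LinearMap.range_eq_top]
  intro y
  obtain ⟨x, rfl⟩ := Submodule.Quotient.mk_surjective _ y
  exact ⟨x, rfl⟩

theorem ker_gam (f a g : F[X]) (h : ∀ x : F[X], f ∣ a * x ↔ g ∣ x) :
    LinearMap.ker (gam f a) = (Submodule.span F[X] {g}).restrictScalars F := by
  ext x
  rw [LinearMap.mem_ker, gam_apply, Submodule.Quotient.mk_eq_zero, Submodule.restrictScalars_mem,
    Submodule.mem_span_singleton, Submodule.mem_span_singleton]
  constructor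
  · rintro ⟨c, hc⟩
    obtain ⟨d, hd⟩ := (h x).1 ⟨c, by rw [← hc, smul_eq_mul, mul_comm]⟩
    exact ⟨d, by rw [hd, smul_eq_mul, mul_comm]⟩
  · rintro ⟨c, hc⟩
    obtain ⟨d, hd⟩ := (h x).2 ⟨c, by rw [← hc, smul_eq_mul, mul_comm]⟩
    exact ⟨d, by rw [hd, smul_eq_mul, mul_comm]⟩

theorem finrank_range (f a g : F[X]) (hg : g.Monic) (h : ∀ x : F[X], f ∣ a * x ↔ g ∣ x) :
    Module.finrank F (LinearMap.range
      ((LinearMap.lsmul F[X] (F[X] ⧸ Submodule.span F[X] {f}) a).restrictScalars F)) =
      g.natDegree := by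
  rw [← range_gam, ← (gam f a).quotKerEquivRange.finrank_eq, ker_gam f a g h,
    (Submodule.Quotient.restrictScalarsEquiv F (Submodule.span F[X] {g})).finrank_eq,
    finrank_quot g hg]

theorem dvd_iff (p : F[X]) (hp : p ≠ 0) (e k : ℕ) (x : F[X]) :
    p ^ e ∣ p ^ k * x ↔ p ^ (e - k) ∣ x := by
  rcases le_total e k with h | h
  · rw [Nat.sub_eq_zero_of_le h, pow_zero]
    constructor
    · intro _; exact one_dvd _
    · intro _; exact Dvd.dvd.mul_right (pow_dvd_pow p h) x
  · obtain ⟨m, rfl⟩ := Nat.exists_eq_add_of_le h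
    rw [Nat.add_sub_cancel_left, pow_add]
    exact mul_dvd_mul_iff_left (pow_ne_zero _ hp)

end UNIQA

theorem finrank_range_block {F : Type*} [Field F] (p r : F[X]) (hp : p.Monic) (hpi : Irreducible p)
    (hr : r.Monic) (hri : Irreducible r) (e k : ℕ) :
    Module.finrank F (LinearMap.range
      ((LinearMap.lsmul F[X] (F[X] ⧸ Submodule.span F[X] {p ^ e}) (r ^ k)).restrictScalars F)) =
      rho p e r k := by
  classical
  unfold rho
  split_ifs with hpr
  · subst hpr
    rw [UNIQA.finrank_range (p ^ e) (p ^ k) (p ^ (e - k)) (hp.pow _)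
      (UNIQA.dvd_iff p hp.ne_zero e k), natDegree_pow]
  · have hcop : IsCoprime p r := by
      rw [Irreducible.coprime_iff_not_dvd hpi]
      intro hdvd
      exact hpr (eq_of_monic_of_associated hp hr (hpi.associated_of_dvd hri hdvd))
    have hcop' : IsCoprime (p ^ e) (r ^ k) := hcop.pow
    rw [UNIQA.finrank_range (p ^ e) (r ^ k) (p ^ e) (hp.pow _), natDegree_pow]
    intro x
    constructor
    · intro h
      exact hcop'.dvd_of_dvd_mul_left h
    · intro h
      exact Dvd.dvd.mul_left h _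

end Cfsg.Agent.S2480P

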