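import Mathlib

/-!
# S2932 — shared definitions (helper5)

Abstract setting for S2932: a finite group `Γ` acting faithfully by additive automorphisms on the plane `F²`
(`A : Γ →* AddMonoid.End (Fin 2 → F)`, injective), a subgroup `Λ` with an epimorphism `ρ : Λ → SL₂(F)` such that `Λ` acts through
`ρ` by matrix–vector multiplication.  `T` is the root group (preimage of the upper unitriangular matrices), `e1 F` the line
`{v | v 1 = 0}` (its fixed line and commutator line), `img g = g • e1`, `Tc g = g T g⁻¹`.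
Blueprint: `departures/helper5_S2932_blueprint.md`; exact row statements: `departures/helper5_S2932_stubs.lean.txt`.
-/

set_option autoImplicit false

namespace Cfsg.Agent.S2932P

open Matrix

/-- The upper unitriangular matrix with entry `a`. -/
def uM {F : Type} [Field F] (a : F) : SpecialLinearGroup (Fin 2) F :=
  ⟨!![1, a; 0, 1], by simp [Matrix.det_fin_two_of]⟩

/-- The lower unitriangular matrix with entry `a`. -/
def lM {F : Type} [Field F] (a : F) : SpecialLinearGroup (Fin 2) F :=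
  ⟨!![1, 0; a, 1], by simp [Matrix.det_fin_two_of]⟩

theorem uM_coe {F : Type} [Field F] (a : F) :
    ((uM a : SpecialLinearGroup (Fin 2) F) : Matrix (Fin 2) (Fin 2) F) = !![1, a; 0, 1] := rfl

theorem lM_coe {F : Type} [Field F] (a : F) :
    ((lM a : SpecialLinearGroup (Fin 2) F) : Matrix (Fin 2) (Fin 2) F) = !![1, 0; a, 1] := rfl

theorem uM_mul {F : Type} [Field F] (a b : F) : uM a * uM b = uM (a + b) := by
  apply Subtype.ext
  simp only [Matrix.SpecialLinearGroup.coe_mul, uM_coe]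
  ext i j
  fin_cases i <;> fin_cases j <;> simp [Matrix.mul_apply, Fin.sum_univ_two, add_comm]

theorem uM_zero {F : Type} [Field F] : uM (0 : F) = 1 := by
  apply Subtype.ext
  simp only [Matrix.SpecialLinearGroup.coe_one, uM_coe]
  ext i j
  fin_cases i <;> fin_cases j <;> simp

theorem uM_inv {F : Type} [Field F] (a : F) : (uM a)⁻¹ = uM (-a) := by
  rw [inv_eq_iff_mul_eq_one, uM_mul, add_neg_cancel, uM_zero]

/-- The line `{v | v 1 = 0}` of the plane `F²`. -/
def e1 (F : Type) [Field F] : AddSubgroup (Fin 2 → F) where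
  carrier := {v | v 1 = 0}
  zero_mem' := rfl
  add_mem' := by
    intro a b ha hb
    show (a + b) 1 = 0
    rw [Pi.add_apply, show a 1 = 0 from ha, show b 1 = 0 from hb, add_zero]
  neg_mem' := by
    intro a ha
    show (-a) 1 = 0
    rw [Pi.neg_apply, show a 1 = 0 from ha, neg_zero]

theorem mem_e1 {F : Type} [Field F] (v : Fin 2 → F) : v ∈ e1 F ↔ v 1 = 0 := Iff.rfl

/-- The data: faithful additive action `A` of `Γ` on `F²`, and a subgroup `Λ` acting as `SL₂(F)` through `ρ`. -/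
structure Dat (F : Type) [Field F] (Γ : Type*) [Group Γ] where
  A : Γ →* AddMonoid.End (Fin 2 → F)
  A_inj : Function.Injective A
  Λ : Subgroup Γ
  ρ : ↥Λ →* SpecialLinearGroup (Fin 2) F
  ρ_surj : Function.Surjective ρ
  hA : ∀ (l : ↥Λ) (v : Fin 2 → F),
    A (l : Γ) v = ((ρ l : SpecialLinearGroup (Fin 2) F) : Matrix (Fin 2) (Fin 2) F).mulVec v

namespace Dat

variable {F : Type} [Field F] {Γ : Type*} [Group Γ] (D : Dat F Γ)

theorem A_mul (x y : Γ) (v : Fin 2 → F) : D.A (x * y) v = D.A x (D.A y v) := by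
  rw [map_mul]; rfl

theorem A_one (v : Fin 2 → F) : D.A 1 v = v := by
  rw [map_one]; rfl

theorem A_inv_A (x : Γ) (v : Fin 2 → F) : D.A x⁻¹ (D.A x v) = v := by
  rw [← D.A_mul, inv_mul_cancel, D.A_one]

theorem A_A_inv (x : Γ) (v : Fin 2 → F) : D.A x (D.A x⁻¹ v) = v := by
  rw [← D.A_mul, mul_inv_cancel, D.A_one]

theorem A_add (x : Γ) (v w : Fin 2 → F) : D.A x (v + w) = D.A x v + D.A x w := map_add (D.A x) v w

theorem A_zero (x : Γ) : D.A x 0 = 0 := map_zero (D.A x)

theorem A_neg (x : Γ) (v : Fin 2 → F) : D.A x (-v) = -D.A x v := map_neg (D.A x) v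

theorem A_sub (x : Γ) (v w : Fin 2 → F) : D.A x (v - w) = D.A x v - D.A x w := map_sub (D.A x) v w

theorem A_injective (x : Γ) : Function.Injective (D.A x) := by
  intro v w h
  rw [← D.A_inv_A x v, ← D.A_inv_A x w, h]

/-- The root group: the elements of `Λ` mapped by `ρ` to upper unitriangular matrices. -/
def T : Subgroup Γ where
  carrier := {g | ∃ l : ↥D.Λ, (l : Γ) = g ∧ ∃ a : F, D.ρ l = uM a}
  one_mem' := ⟨1, rfl, 0, by rw [map_one, uM_zero]⟩
  mul_mem' := by
    rintro x y ⟨l, rfl, a, ha⟩ ⟨m, rfl, b, hb⟩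
    exact ⟨l * m, rfl, a + b, by rw [map_mul, ha, hb, uM_mul]⟩
  inv_mem' := by
    rintro x ⟨l, rfl, a, ha⟩
    exact ⟨l⁻¹, rfl, -a, by rw [map_inv, ha, uM_inv]⟩

theorem mem_T (g : Γ) : g ∈ D.T ↔ ∃ l : ↥D.Λ, (l : Γ) = g ∧ ∃ a : F, D.ρ l = uM a := Iff.rfl

/-- The conjugate `g T g⁻¹`. -/
def Tc (g : Γ) : Subgroup Γ := D.T.map (MulAut.conj g).toMonoidHom

/-- The translate `g • e1` of the line `e1`. -/
def img (g : Γ) : AddSubgroup (Fin 2 → F) := (e1 F).map (D.A g)

/-- The fixed points of `x` on the plane. -/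
def fix (x : Γ) : AddSubgroup (Fin 2 → F) where
  carrier := {v | D.A x v = v}
  zero_mem' := D.A_zero x
  add_mem' := by
    intro a b ha hb
    show D.A x (a + b) = a + b
    rw [D.A_add, show D.A x a = a from ha, show D.A x b = b from hb]
  neg_mem' := by
    intro a ha
    show D.A x (-a) = -a
    rw [D.A_neg, show D.A x a = a from ha]

theorem mem_fix (x : Γ) (v : Fin 2 → F) : v ∈ D.fix x ↔ D.A x v = v := Iff.rfl

/-- The chosen element of `T` with parameter `a`. -/
noncomputable def tt (a : F) : Γ := ((Classical.choose (D.ρ_surj (uM a)) : ↥D.Λ) : Γ)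

/-- The "field automorphism" induced by `x` on the line `e1` (meaningful for `x ∈ N(T)`). -/
noncomputable def sig (x : Γ) (u : F) : F := (D.A x ![u, 0]) 0 / (D.A x ![1, 0]) 0

/-- `x` acts trivially on the line `e1` and on the quotient `F² / e1`. -/
def lin (x : Γ) : Prop := (∀ u : F, D.A x ![u, 0] = ![u, 0]) ∧ ∀ v : Fin 2 → F, (D.A x v) 1 = v 1

/-- Sylow hypothesis: every `p`-subgroup of `N(Λ)` lies in a Sylow `p`-subgroup of `Γ` contained in `N(Λ)`. -/
def Syl (p : ℕ) : Prop :=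
  ∀ Q : Subgroup Γ, IsPGroup p ↥Q → Q ≤ Subgroup.normalizer (D.Λ : Set Γ) →
    ∃ S : Sylow p Γ, Q ≤ (S : Subgroup Γ) ∧ (S : Subgroup Γ) ≤ Subgroup.normalizer (D.Λ : Set Γ)

end Dat

/-- The even permutations of `Fin 8` supported in the finite set `Δ`. -/
def altOn (Δ : Finset (Fin 8)) : Subgroup (Equiv.Perm (Fin 8)) where
  carrier := {π | π ∈ alternatingGroup (Fin 8) ∧ ∀ i, i ∉ Δ → π i = i}
  one_mem' := ⟨Subgroup.one_mem _, fun _ _ => rfl⟩
  mul_mem' := by
    rintro a b ⟨ha, ha'⟩ ⟨hb, hb'⟩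
    refine ⟨Subgroup.mul_mem _ ha hb, fun i hi => ?_⟩
    rw [Equiv.Perm.mul_apply, hb' i hi, ha' i hi]
  inv_mem' := by
    rintro a ⟨ha, ha'⟩
    refine ⟨Subgroup.inv_mem _ ha, fun i hi => ?_⟩
    rw [Equiv.Perm.inv_eq_iff_eq, ha' i hi]

theorem mem_altOn (Δ : Finset (Fin 8)) (π : Equiv.Perm (Fin 8)) :
    π ∈ altOn Δ ↔ π ∈ alternatingGroup (Fin 8) ∧ ∀ i, i ∉ Δ → π i = i := Iff.rfl

end Cfsg.Agent.S2932P
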