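import Mathlib
import Cfsg.Agent.Helper14.S5559Defs
import Cfsg.Agent.Helper19.S5559GEN
import Cfsg.Agent.Helper4.S5559TRIVG
import Cfsg.Agent.Helper25.S5559INV3

set_option autoImplicit false
set_option linter.unusedSectionVars false
set_option linter.unusedVariables false

namespace Cfsg.Agent.S5559P

/-- the subgroup of fixed points of an automorphism of a commutative group -/
def TRIV.aux_fix {W : Type*} [CommGroup W] (f : MulAut W) : Subgroup W where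
  carrier := {w | f w = w}
  one_mem' := map_one f
  mul_mem' := by
    intro a b ha hb
    show f (a * b) = a * b
    rw [map_mul, ha, hb]
  inv_mem' := by
    intro a ha
    show f a⁻¹ = a⁻¹
    rw [map_inv, ha]

theorem TRIV.aux_mem_fix {W : Type*} [CommGroup W] (f : MulAut W) (w : W) :
    w ∈ TRIV.aux_fix f ↔ f w = w := Iff.rfl

/-- the core step: a point of `Fix(c)` fixed by `g = y₁^i y₂^j` (not both exponents divisible by 3)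
is fixed by `y₁`, `y₂` and `t`. -/
theorem TRIV.aux_step {G : Type*} [Group G] [Finite G] {W : Type*} [CommGroup W] [Finite W]
    (C : Ctx G W) (y₁ y₂ c : G) (h1 : y₁ ∈ C.Q) (h2 : y₂ ∈ C.Q)
    (hi1 : C.t * y₁ * C.t = y₁⁻¹) (hi2 : C.t * y₂ * C.t = y₂⁻¹)
    (hc : y₁ * y₂ = c * (y₂ * y₁)) (hcz : ∀ g : G, c * g = g * c)
    (hind : ∀ i j : ℕ, y₁ ^ i * y₂ ^ j ∈ Subgroup.zpowers c → 3 ∣ i ∧ 3 ∣ j)
    (i j : ℕ) (hij : ¬ (3 ∣ i ∧ 3 ∣ j)) (w : W) (hw : C.ρ c w = w)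
    (hg : C.ρ (y₁ ^ i * y₂ ^ j) w = w) :
    C.ρ y₁ w = w ∧ C.ρ y₂ w = w ∧ C.ρ C.t w = w := by
  have h31 : y₁ ^ 3 = 1 := INV3 C y₁ h1 hi1
  have h32 : y₂ ^ 3 = 1 := INV3 C y₂ h2 hi2
  -- `ρ (c^m) w = w`
  have hcm : ∀ m : ℤ, C.ρ (c ^ m) w = w := by
    intro m
    have hmem : w ∈ TRIV.aux_fix (C.ρ c) := hw
    have : ∀ n : ℕ, C.ρ (c ^ n) w = w := by
      intro n
      induction n with
      | zero => simp
      | succ n ih => rw [pow_succ, map_mul, MulAut.mul_apply, hw, ih]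
    obtain ⟨n, rfl | rfl⟩ := m.eq_nat_or_neg
    · rw [zpow_natCast]; exact this n
    · rw [zpow_neg, zpow_natCast, map_inv]
      have h := this n
      calc (C.ρ (c ^ n))⁻¹ w = (C.ρ (c ^ n))⁻¹ (C.ρ (c ^ n) w) := by rw [h]
        _ = w := by simp
  -- `ρ g⁻¹ w = w`
  have hginv : C.ρ (y₁ ^ i * y₂ ^ j)⁻¹ w = w := by
    rw [map_inv]
    calc (C.ρ (y₁ ^ i * y₂ ^ j))⁻¹ w = (C.ρ (y₁ ^ i * y₂ ^ j))⁻¹ (C.ρ (y₁ ^ i * y₂ ^ j) w) := by rw [hg]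
      _ = w := by simp
  -- the key: `ρ (r t r⁻¹) w = w` for `r = y₁^k y₂^l`
  have key : ∀ k l : ℕ, C.ρ ((y₁ ^ k * y₂ ^ l) * C.t * (y₁ ^ k * y₂ ^ l)⁻¹) w = w := by
    intro k l
    have hrQ : y₁ ^ k * y₂ ^ l ∈ C.Q := C.Q.mul_mem (C.Q.pow_mem h1 k) (C.Q.pow_mem h2 l)
    have hgQ : y₁ ^ i * y₂ ^ j ∈ C.Q := C.Q.mul_mem (C.Q.pow_mem h1 i) (C.Q.pow_mem h2 j)
    obtain ⟨hne, m, hm⟩ := TRIVG C.t y₁ y₂ c C.ht2 hi1 hi2 hc hcz hind i j k l hij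
    have haD : (y₁ ^ k * y₂ ^ l) * C.t * (y₁ ^ k * y₂ ^ l)⁻¹ ∈ C.D :=
      (C.hD _).2 ⟨_, hrQ, rfl⟩
    have hbD : (y₁ ^ i * y₂ ^ j) * ((y₁ ^ k * y₂ ^ l) * C.t * (y₁ ^ k * y₂ ^ l)⁻¹) *
        (y₁ ^ i * y₂ ^ j)⁻¹ ∈ C.D := by
      refine (C.hD _).2 ⟨(y₁ ^ i * y₂ ^ j) * (y₁ ^ k * y₂ ^ l), C.Q.mul_mem hgQ hrQ, ?_⟩
      group
    apply C.hM _ haD _ hbD hne w
    rw [hm, map_mul, map_mul, MulAut.mul_apply, MulAut.mul_apply, hcm m, hginv, hginv]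
  have ht : C.ρ C.t w = w := by
    have := key 0 0
    simpa using this
  refine ⟨?_, ?_, ht⟩
  · -- `r = y₁²`: `t * (y₁² t y₁⁻²) = y₁²`
    have hk := key 2 0
    simp only [pow_zero, mul_one] at hk
    have e : C.t * (y₁ ^ 2 * C.t * (y₁ ^ 2)⁻¹) = y₁ ^ 2 := by
      have e1 : C.t * y₁ ^ 2 * C.t = (y₁ ^ 2)⁻¹ := by
        have : C.t * y₁ ^ 2 * C.t = (C.t * y₁ * C.t) * (C.t * y₁ * C.t) := by
          have ht2 := C.ht2
          calc C.t * y₁ ^ 2 * C.t = C.t * y₁ * (1 : G) * y₁ * C.t := by rw [pow_two]; group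
            _ = C.t * y₁ * (C.t * C.t) * y₁ * C.t := by rw [ht2]
            _ = (C.t * y₁ * C.t) * (C.t * y₁ * C.t) := by group
        rw [this, hi1, pow_two, mul_inv_rev]
      have e2 : (y₁ ^ 2)⁻¹ * (y₁ ^ 2)⁻¹ = y₁ ^ 2 := by
        have : y₁ ^ 2 * (y₁ ^ 2 * y₁ ^ 2) = 1 := by
          rw [← pow_add, ← pow_add]
          show y₁ ^ 6 = 1
          rw [show (6 : ℕ) = 3 * 2 from rfl, pow_mul, h31, one_pow]
        calc (y₁ ^ 2)⁻¹ * (y₁ ^ 2)⁻¹ = (y₁ ^ 2)⁻¹ * (y₁ ^ 2)⁻¹ * (y₁ ^ 2 * (y₁ ^ 2 * y₁ ^ 2)) := by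
              rw [this, mul_one]
          _ = y₁ ^ 2 := by group
      calc C.t * (y₁ ^ 2 * C.t * (y₁ ^ 2)⁻¹) = (C.t * y₁ ^ 2 * C.t) * (y₁ ^ 2)⁻¹ := by group
        _ = y₁ ^ 2 := by rw [e1, e2]
    have h2w : C.ρ (y₁ ^ 2) w = w := by
      rw [← e, map_mul, MulAut.mul_apply, hk, ht]
    have e3 : y₁ = y₁ ^ 2 * y₁ ^ 2 := by
      rw [← pow_add]
      show y₁ = y₁ ^ 4
      rw [show (4 : ℕ) = 3 + 1 from rfl, pow_add, h31, one_mul, pow_one]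
    rw [e3, map_mul, MulAut.mul_apply, h2w, h2w]
  · have hk := key 0 2
    simp only [pow_zero, one_mul] at hk
    have e : C.t * (y₂ ^ 2 * C.t * (y₂ ^ 2)⁻¹) = y₂ ^ 2 := by
      have e1 : C.t * y₂ ^ 2 * C.t = (y₂ ^ 2)⁻¹ := by
        have : C.t * y₂ ^ 2 * C.t = (C.t * y₂ * C.t) * (C.t * y₂ * C.t) := by
          have ht2 := C.ht2
          calc C.t * y₂ ^ 2 * C.t = C.t * y₂ * (1 : G) * y₂ * C.t := by rw [pow_two]; group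
            _ = C.t * y₂ * (C.t * C.t) * y₂ * C.t := by rw [ht2]
            _ = (C.t * y₂ * C.t) * (C.t * y₂ * C.t) := by group
        rw [this, hi2, pow_two, mul_inv_rev]
      have e2 : (y₂ ^ 2)⁻¹ * (y₂ ^ 2)⁻¹ = y₂ ^ 2 := by
        have : y₂ ^ 2 * (y₂ ^ 2 * y₂ ^ 2) = 1 := by
          rw [← pow_add, ← pow_add]
          show y₂ ^ 6 = 1
          rw [show (6 : ℕ) = 3 * 2 from rfl, pow_mul, h32, one_pow]
        calc (y₂ ^ 2)⁻¹ * (y₂ ^ 2)⁻¹ = (y₂ ^ 2)⁻¹ * (y₂ ^ 2)⁻¹ * (y₂ ^ 2 * (y₂ ^ 2 * y₂ ^ 2)) := by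
              rw [this, mul_one]
          _ = y₂ ^ 2 := by group
      calc C.t * (y₂ ^ 2 * C.t * (y₂ ^ 2)⁻¹) = (C.t * y₂ ^ 2 * C.t) * (y₂ ^ 2)⁻¹ := by group
        _ = y₂ ^ 2 := by rw [e1, e2]
    have h2w : C.ρ (y₂ ^ 2) w = w := by
      rw [← e, map_mul, MulAut.mul_apply, hk, ht]
    have e3 : y₂ = y₂ ^ 2 * y₂ ^ 2 := by
      rw [← pow_add]
      show y₂ = y₂ ^ 4
      rw [show (4 : ℕ) = 3 + 1 from rfl, pow_add, h32, one_mul, pow_one]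
    rw [e3, map_mul, MulAut.mul_apply, h2w, h2w]

/-! ## TRIV (L): uses GEN, TRIVG, INV3 -/
theorem TRIV {G : Type*} [Group G] [Finite G] {W : Type*} [CommGroup W] [Finite W]
    (C : Ctx G W) (y₁ y₂ c : G) (h1 : y₁ ∈ C.Q) (h2 : y₂ ∈ C.Q)
    (hi1 : C.t * y₁ * C.t = y₁⁻¹) (hi2 : C.t * y₂ * C.t = y₂⁻¹)
    (hc : y₁ * y₂ = c * (y₂ * y₁)) (hcz : ∀ g : G, c * g = g * c)
    (hind : ∀ i j : ℕ, y₁ ^ i * y₂ ^ j ∈ Subgroup.zpowers c → 3 ∣ i ∧ 3 ∣ j) :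
    ∀ w : W, C.ρ c w = w → (C.ρ y₁ w = w ∧ C.ρ y₂ w = w ∧ C.ρ C.t w = w) := by
  have h31 : y₁ ^ 3 = 1 := INV3 C y₁ h1 hi1
  have h32 : y₂ ^ 3 = 1 := INV3 C y₂ h2 hi2
  set S : Subgroup W := TRIV.aux_fix (C.ρ c) with hS
  set T : Subgroup W := TRIV.aux_fix (C.ρ y₁) ⊓ TRIV.aux_fix (C.ρ y₂) ⊓ TRIV.aux_fix (C.ρ C.t) with hT
  have hinv : ∀ g : G, ∀ w ∈ S, C.ρ g w ∈ S := by
    intro g w hw
    show C.ρ c (C.ρ g w) = C.ρ g w
    rw [← MulAut.mul_apply, ← map_mul, hcz g, map_mul, MulAut.mul_apply]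
    congr 1
  have hstep : ∀ i j : ℕ, ¬ (3 ∣ i ∧ 3 ∣ j) → ∀ w ∈ S, C.ρ (y₁ ^ i * y₂ ^ j) w = w → w ∈ T := by
    intro i j hij w hw hg
    obtain ⟨a1, a2, a3⟩ := TRIV.aux_step C y₁ y₂ c h1 h2 hi1 hi2 hc hcz hind i j hij w hw hg
    exact ⟨⟨a1, a2⟩, a3⟩
  have hST : S ≤ T := by
    apply GEN C.hcube S T (C.ρ y₁) (C.ρ y₂) (hinv y₁) (hinv y₂)
    · -- commute on S
      intro w hw
      have hw' : C.ρ c (C.ρ (y₂ * y₁) w) = C.ρ (y₂ * y₁) w := hinv (y₂ * y₁) w hw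
      calc C.ρ y₁ (C.ρ y₂ w) = C.ρ (y₁ * y₂) w := by rw [map_mul, MulAut.mul_apply]
        _ = C.ρ (c * (y₂ * y₁)) w := by rw [hc]
        _ = C.ρ c (C.ρ (y₂ * y₁) w) := by rw [map_mul, MulAut.mul_apply]
        _ = C.ρ (y₂ * y₁) w := hw'
        _ = C.ρ y₂ (C.ρ y₁ w) := by rw [map_mul, MulAut.mul_apply]
    · intro w _
      calc C.ρ y₁ (C.ρ y₁ (C.ρ y₁ w)) = C.ρ (y₁ ^ 3) w := by
            rw [pow_succ, pow_two, map_mul, map_mul, MulAut.mul_apply, MulAut.mul_apply]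
        _ = w := by rw [h31, map_one, MulAut.one_apply]
    · intro w _
      calc C.ρ y₂ (C.ρ y₂ (C.ρ y₂ w)) = C.ρ (y₂ ^ 3) w := by
            rw [pow_succ, pow_two, map_mul, map_mul, MulAut.mul_apply, MulAut.mul_apply]
        _ = w := by rw [h32, map_one, MulAut.one_apply]
    · intro w hw h
      apply hstep 1 0 (by norm_num) w hw
      simpa using h
    · intro w hw h
      apply hstep 0 1 (by norm_num) w hw
      simpa using h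
    · intro w hw h
      apply hstep 1 1 (by norm_num) w hw
      rw [pow_one, pow_one, map_mul, MulAut.mul_apply]; exact h
    · intro w hw h
      apply hstep 1 2 (by norm_num) w hw
      rw [pow_one, pow_two, map_mul, map_mul, MulAut.mul_apply, MulAut.mul_apply]; exact h
  intro w hw
  have := hST (show w ∈ S from hw)
  exact ⟨this.1.1, this.1.2, this.2⟩

end Cfsg.Agent.S5559P
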