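import Mathlib
import Cfsg.Agent.Helper14.S5559Defs
import Cfsg.Agent.S0827
import Cfsg.Agent.Helper2.UnitaryCenter

set_option autoImplicit false
set_option linter.unusedSectionVars false
set_option linter.unusedVariables false
set_option linter.style.haveILetI false

namespace Cfsg.Agent.S5559P

open Subgroup

/-- cardinality of the preimage of a subgroup under a surjective homomorphism -/
theorem SU54A.aux_card_comap {G H : Type*} [Group G] [Group H] [Finite G] (f : G →* H)
    (hf : Function.Surjective f) (K : Subgroup H) :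
    Nat.card (K.comap f) = Nat.card K * Nat.card f.ker := by
  haveI : Finite H := Finite.of_surjective f hf
  have h1 : Nat.card (K.comap f) * (K.comap f).index = Nat.card G := card_mul_index _
  have h2 : (K.comap f).index = K.index := index_comap_of_surjective K hf
  have h3 : Nat.card f.ker * f.ker.index = Nat.card G := card_mul_index _
  have h4 : f.ker.index = Nat.card H := by
    rw [index_ker, MonoidHom.range_eq_top.2 hf, card_top]
  have h5 : Nat.card K * K.index = Nat.card H := card_mul_index _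
  have hpos : 0 < K.index := Nat.pos_of_ne_zero (index_ne_zero_of_finite)
  apply Nat.eq_of_mul_eq_mul_right hpos
  rw [← h2, h1, ← h3, h4, ← h5, h2]; ring

theorem SU54A.aux_q8_cube : ∀ q : QuaternionGroup 2, q ^ 3 = 1 → q = 1 := by decide

theorem SU54A.aux_q8_comm : ∀ p q : QuaternionGroup 2,
    p * q * p⁻¹ * q⁻¹ = 1 ∨ p * q * p⁻¹ * q⁻¹ = QuaternionGroup.a 2 := by decide

theorem SU54A.aux_q8_order : orderOf (QuaternionGroup.a 2 : QuaternionGroup 2) = 2 := by
  apply orderOf_eq_prime
  · decide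
  · decide

/-! ## SU54A (M): the derived group of `SU₃(2)` lies in a subgroup of order 54 -/
theorem SU54A {F : Type*} [Field F] [Fintype F] (hF : Fintype.card F = 4) :
    ∃ L M : Subgroup ↥(Cfsg.SU 3 F 2), M ≤ L ∧ Nat.card L = 54 ∧ Nat.card M = 27 ∧
      commutator ↥(Cfsg.SU 3 F 2) ≤ L ∧ ∀ x : ↥(Cfsg.SU 3 F 2), x ^ 3 = 1 → x ∈ M := by
  classical
  have hF' : Fintype.card F = 2 ^ 2 := by rw [hF]; norm_num
  have hcen : Nat.card (center (Cfsg.SU 3 F 2)) = 3 := by
    rw [Cfsg.Agent.Helper2.Herm.card_center_SU hF' 3 (by norm_num)]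
    decide
  obtain ⟨N, hNn, hN9, hN3, ⟨e⟩⟩ := Cfsg.Agent.S0827.result hF
  haveI := hNn
  haveI : Finite (Cfsg.SU 3 F 2) := inferInstance
  let π : Cfsg.SU 3 F 2 →* Cfsg.PSU 3 F 2 := QuotientGroup.mk' (center (Cfsg.SU 3 F 2))
  have hπ : Function.Surjective π := QuotientGroup.mk'_surjective _
  let ψ : Cfsg.SU 3 F 2 →* QuaternionGroup 2 :=
    e.toMonoidHom.comp ((QuotientGroup.mk' N).comp π)
  have hψs : Function.Surjective ψ := by
    intro q
    obtain ⟨u, hu⟩ := e.surjective q
    obtain ⟨v, hv⟩ := QuotientGroup.mk'_surjective N u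
    obtain ⟨x, hx⟩ := hπ v
    exact ⟨x, by show e (QuotientGroup.mk' N (π x)) = q; rw [hx, hv, hu]⟩
  have hker : ψ.ker = N.comap π := by
    ext x
    rw [MonoidHom.mem_ker, mem_comap]
    show e (QuotientGroup.mk' N (π x)) = 1 ↔ π x ∈ N
    rw [MulEquiv.map_eq_one_iff, ← MonoidHom.mem_ker, QuotientGroup.ker_mk']
  have hπker : Nat.card π.ker = 3 := by
    rw [QuotientGroup.ker_mk']; exact hcen
  have hM : Nat.card ψ.ker = 27 := by
    rw [hker, SU54A.aux_card_comap π hπ N, hN9, hπker]
  refine ⟨(zpowers (QuaternionGroup.a 2 : QuaternionGroup 2)).comap ψ, ψ.ker, ?_, ?_, hM, ?_, ?_⟩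
  · intro x hx
    rw [mem_comap, MonoidHom.mem_ker.1 hx]
    exact one_mem _
  · rw [SU54A.aux_card_comap ψ hψs, hM, Nat.card_zpowers, SU54A.aux_q8_order]
  · rw [commutator_def, commutator_le]
    intro g₁ _ g₂ _
    rw [mem_comap, commutatorElement_def, map_mul, map_mul, map_mul, map_inv, map_inv]
    rcases SU54A.aux_q8_comm (ψ g₁) (ψ g₂) with h | h
    · rw [h]; exact one_mem _
    · rw [h]; exact mem_zpowers _
  · intro x hx
    rw [MonoidHom.mem_ker]
    apply SU54A.aux_q8_cube
    rw [← map_pow, hx, map_one]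

end Cfsg.Agent.S5559P
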