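import Mathlib
import Cfsg.Prelude.Def_JComponents
import Cfsg.Agent.Helper5.S2951Defs
import Cfsg.Agent.Helper19.S2951P1
import Cfsg.Agent.Helper26.S2951UNIQ
import Cfsg.Agent.Helper15.S2951CONJ
import Cfsg.Agent.Helper25.S2951CARD
import Cfsg.Agent.Helper25.S2951ZFACTS

/-! # S2951 board, piece LEMA (Lemma A, blueprint §2) -/

set_option autoImplicit false

universe u

namespace Cfsg.Agent.S2951P

open Cfsg Subgroup Cfsg.Agent.Helper15.JComp

variable {G : Type u} [Group G] [Finite G] {M T K K' L L' : Subgroup G}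

omit [Finite G] in
theorem LEMA_aux_mem_cj {g x : G} {H : Subgroup G} : x ∈ cj g H ↔ g⁻¹ * x * g ∈ H := by
  constructor
  · rintro ⟨y, hy, rfl⟩
    simpa [MulAut.conj_apply, mul_assoc] using hy
  · intro h
    refine ⟨g⁻¹ * x * g, h, ?_⟩
    simp [MulAut.conj_apply, mul_assoc]

omit [Finite G] in
theorem LEMA_aux_conj_mem {g x : G} {H : Subgroup G} (hx : x ∈ H) : g * x * g⁻¹ ∈ cj g H :=
  ⟨x, hx, by simp [MulAut.conj_apply]⟩

omit [Finite G] in
theorem LEMA_aux_cj_self {g : G} {H : Subgroup G} (hg : g ∈ H) : cj g H = H := by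
  ext x
  rw [LEMA_aux_mem_cj]
  constructor
  · intro h
    have := H.mul_mem (H.mul_mem hg h) (H.inv_mem hg)
    simpa [mul_assoc] using this
  · intro h
    exact H.mul_mem (H.mul_mem (H.inv_mem hg) h) hg

omit [Finite G] in
theorem LEMA_aux_mem_normalizer {g : G} {H : Subgroup G} (h : H = cj g H) :
    g ∈ normalizer (H : Set G) := by
  rw [mem_normalizer_iff]
  intro x
  constructor
  · intro hx
    rw [h]
    exact LEMA_aux_conj_mem hx
  · intro hx
    rw [h, LEMA_aux_mem_cj] at hx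
    simpa [mul_assoc] using hx

omit [Finite G] in
/-- elements of `Ω₁Z(X)` -/
theorem LEMA_aux_omega {X : Subgroup G} {x : G} (hx : x ∈ omegaCenterOf X) :
    x ∈ X ∧ (∀ y ∈ X, y * x = x * y) ∧ x * x = 1 := by
  unfold omegaCenterOf omegaOne at hx
  induction hx using Subgroup.closure_induction with
  | mem x hx =>
    obtain ⟨hx1, hx2⟩ := hx
    exact ⟨hx1.1, fun y hy => mem_centralizer_iff.mp hx1.2 y hy, by rw [← pow_two]; exact hx2⟩
  | one => exact ⟨one_mem _, fun y _ => by simp, by simp⟩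
  | mul a b _ _ ha hb =>
    refine ⟨mul_mem ha.1 hb.1, fun y hy => ?_, ?_⟩
    · have h1 : Commute y a := ha.2.1 y hy
      have h2 : Commute y b := hb.2.1 y hy
      exact h1.mul_right h2
    · have h3 : b * a = a * b := ha.2.1 b hb.1
      calc a * b * (a * b) = a * (b * a) * b := by group
        _ = a * (a * b) * b := by rw [h3]
        _ = (a * a) * (b * b) := by group
        _ = 1 := by rw [ha.2.2, hb.2.2, one_mul]
  | inv a _ ha =>
    refine ⟨inv_mem ha.1, fun y hy => ?_, ?_⟩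
    · have h1 : Commute y a := ha.2.1 y hy
      exact h1.inv_right
    · rw [← mul_inv_rev, ha.2.2, inv_one]

omit [Finite G] in
theorem LEMA_aux_omega_mem {X : Subgroup G} {x : G} (hx : x ∈ X) (hc : ∀ y ∈ X, y * x = x * y)
    (h2 : x * x = 1) : x ∈ omegaCenterOf X :=
  Subgroup.subset_closure ⟨⟨hx, mem_centralizer_iff.mpr hc⟩, by rw [pow_two]; exact h2⟩

theorem LEMA_aux_two {H : Subgroup G} (h2 : Nat.card H = 2) {a : G} (ha : a ∈ H) (ha1 : a ≠ 1)
    {x : G} (hx : x ∈ H) : x = 1 ∨ x = a := by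
  classical
  by_contra hcon
  push Not at hcon
  have hsub : ((({1, a, x} : Finset G)) : Set G) ⊆ (H : Set G) := by
    intro y hy
    simp only [Finset.coe_insert, Finset.coe_singleton, Set.mem_insert_iff,
      Set.mem_singleton_iff] at hy
    rcases hy with rfl | rfl | rfl
    · exact one_mem _
    · exact ha
    · exact hx
  have hcard : ({1, a, x} : Finset G).card = 3 := by
    rw [Finset.card_insert_of_notMem, Finset.card_insert_of_notMem, Finset.card_singleton]
    · simp only [Finset.mem_singleton]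
      exact fun h => hcon.2 h.symm
    · simp only [Finset.mem_insert, Finset.mem_singleton, not_or]
      exact ⟨fun h => ha1 h.symm, fun h => hcon.1 h.symm⟩
  have h3 := Set.ncard_le_ncard hsub (Set.toFinite _)
  rw [Set.ncard_coe_finset, hcard] at h3
  have h4 : (H : Set G).ncard = Nat.card H := (Nat.card_coe_set_eq _).symm
  rw [h4, h2] at h3
  omega

theorem LEMA_aux_four {H : Subgroup G} (h4 : Nat.card H = 4) {a b : G} (ha : a ∈ H) (hb : b ∈ H)
    (ha1 : a ≠ 1) (hb1 : b ≠ 1) (hab : a ≠ b) (hab1 : a * b ≠ 1) {x : G} (hx : x ∈ H) :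
    x = 1 ∨ x = a ∨ x = b ∨ x = a * b := by
  classical
  by_contra hcon
  push Not at hcon
  obtain ⟨hx1, hxa, hxb, hxab⟩ := hcon
  have hsub : ((({1, a, b, a * b, x} : Finset G)) : Set G) ⊆ (H : Set G) := by
    intro y hy
    simp only [Finset.coe_insert, Finset.coe_singleton, Set.mem_insert_iff,
      Set.mem_singleton_iff] at hy
    rcases hy with rfl | rfl | rfl | rfl | rfl
    · exact one_mem _
    · exact ha
    · exact hb
    · exact mul_mem ha hb
    · exact hx
  have hcard : ({1, a, b, a * b, x} : Finset G).card = 5 := by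
    rw [Finset.card_insert_of_notMem, Finset.card_insert_of_notMem, Finset.card_insert_of_notMem,
      Finset.card_insert_of_notMem, Finset.card_singleton]
    · simp only [Finset.mem_singleton]
      exact fun h => hxab h.symm
    · simp only [Finset.mem_insert, Finset.mem_singleton, not_or]
      refine ⟨fun h => ha1 ?_, fun h => hxb h.symm⟩
      have : a * b = 1 * b := by rw [one_mul]; exact h.symm
      exact mul_right_cancel this
    · simp only [Finset.mem_insert, Finset.mem_singleton, not_or]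
      refine ⟨hab, fun h => hb1 ?_, fun h => hxa h.symm⟩
      have : a * b = a * 1 := by rw [mul_one]; exact h.symm
      exact mul_left_cancel this
    · simp only [Finset.mem_insert, Finset.mem_singleton, not_or]
      exact ⟨fun h => ha1 h.symm, fun h => hb1 h.symm, fun h => hab1 h.symm, fun h => hx1 h.symm⟩
  have h3 := Set.ncard_le_ncard hsub (Set.toFinite _)
  rw [Set.ncard_coe_finset, hcard] at h3
  have h5 : (H : Set G).ncard = Nat.card H := (Nat.card_coe_set_eq _).symm
  rw [h5, h4] at h3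
  omega

/-- a proper subgroup of a Sylow 2-subgroup grows in its normalizer -/
theorem LEMA_aux_normalizer (S : Sylow 2 G) (hTS : T ≤ (S : Subgroup G))
    (hne : T ≠ (S : Subgroup G)) :
    ∃ t ∈ (S : Subgroup G), t ∈ normalizer (T : Set G) ∧ t ∉ T := by
  have : Fact (Nat.Prime 2) := ⟨Nat.prime_two⟩
  have : Group.IsNilpotent ↥(S : Subgroup G) := S.isPGroup'.isNilpotent
  have hlt : T.subgroupOf (S : Subgroup G) < ⊤ := by
    rw [lt_top_iff_ne_top]
    intro h
    exact hne (le_antisymm hTS (subgroupOf_eq_top.mp h))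
  have h2 := Group.normalizerCondition_of_isNilpotent (G := ↥(S : Subgroup G)) _ hlt
  obtain ⟨x, hxN, hxT⟩ := SetLike.exists_of_lt h2
  refine ⟨x, x.2, ?_, fun h => hxT (mem_subgroupOf.mpr h)⟩
  rw [mem_normalizer_iff] at hxN ⊢
  intro y
  constructor
  · intro hy
    have := (hxN ⟨y, hTS hy⟩).mp (mem_subgroupOf.mpr hy)
    exact mem_subgroupOf.mp this
  · intro hy
    have hyS : y ∈ (S : Subgroup G) := by
      have h3 := (S : Subgroup G).mul_mem ((S : Subgroup G).mul_mem ((S : Subgroup G).inv_mem x.2) (hTS hy)) x.2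
      simpa [mul_assoc] using h3
    have := (hxN ⟨y, hyS⟩).mpr (mem_subgroupOf.mpr hy)
    exact mem_subgroupOf.mp this

/-- a 2-subgroup of `L` is not bigger than a Sylow 2-subgroup of `L` -/
theorem LEMA_aux_card_le (hSyl : IsSylowTwoIn T L) {Q : Subgroup G} (hQ : IsPGroup 2 ↥Q)
    (hQL : Q ≤ L) : Nat.card ↥Q ≤ Nat.card ↥T := by
  obtain ⟨S₁, hS₁, hQS₁⟩ := exists_isSylowTwoIn_ge hQ hQL
  obtain ⟨n, -, hn⟩ := isSylowTwoIn_conj hSyl hS₁
  have h1 : Nat.card ↥S₁ = Nat.card ↥T := by
    rw [hn]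
    exact (Nat.card_congr (T.equivMapOfInjective _ (MulAut.conj n).injective).toEquiv).symm
  rw [← h1]
  exact Nat.le_of_dvd Nat.card_pos (Subgroup.card_dvd_of_le hQS₁)

/-- LEMA (L) = §2. -/
theorem LEMA (c : StraddleCtx M T) (S : Sylow 2 G)
    (hMJ : normalizer ((thompsonSubgroupOf 2 (S : Subgroup G) : Subgroup G) : Set G) ≤ M)
    (hTS : T ≤ (S : Subgroup G)) (hne : T ≠ (S : Subgroup G))
    (hK : K ∈ jComponentsOutside M T) (h : IsLK T K L) :
    (omegaCenterOf (S : Subgroup G) = Z0 T ∧ Nat.card ↥(Z0 T) = 2) ∨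
      (omegaCenterOf T = Z0 T ∧ Nat.card ↥(Z0 T) = 4 ∧
        (L ⊓ centralizer ((Z0 T : Subgroup G) : Set G)).relIndex
          (normalizer ((Z0 T : Subgroup G) : Set G)) = 2) := by
  have hKc : IsJComponent T K := hK.1.1
  have hKM : ¬ K ≤ M := hK.2.1
  obtain ⟨L₀, -, -, hL₀uniq, -, hSyl₀⟩ := c.unique_maximal hK
  have hLL₀ : L = L₀ := hL₀uniq L h.1 h.2
  have hSyl : IsSylowTwoIn T L := by rw [hLL₀]; exact hSyl₀
  have hS2 : IsPGroup 2 ↥(S : Subgroup G) := S.isPGroup'
  have hJT : thompsonSubgroupOf 2 T ≤ T := Cfsg.Agent.S2941.thompsonSubgroupOf_le 2 T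
  -- the element `t`
  obtain ⟨t, htS, htN, htT⟩ := LEMA_aux_normalizer S hTS hne
  have htJ : t ∈ normalizer ((thompsonSubgroupOf 2 T : Subgroup G) : Set G) :=
    normalizer_le_normalizer_thompsonSubgroupOf 2 T htN
  have hcardlt : Nat.card ↥T < Nat.card ↥(S : Subgroup G) := by
    by_contra hge
    push Not at hge
    exact hne (Subgroup.eq_of_le_of_card_ge hTS hge)
  have htL : t ∉ L := by
    intro htL
    have hQS : T ⊔ zpowers t ≤ (S : Subgroup G) := sup_le hTS (by rw [zpowers_le]; exact htS)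
    have hQL : T ⊔ zpowers t ≤ L := sup_le hSyl.1 (by rw [zpowers_le]; exact htL)
    have h1 := LEMA_aux_card_le hSyl (hS2.to_le hQS) hQL
    have h2 : T = T ⊔ zpowers t := Subgroup.eq_of_le_of_card_ge le_sup_left h1
    apply htT
    rw [h2]
    exact (le_sup_right : zpowers t ≤ T ⊔ zpowers t) (mem_zpowers t)
  obtain ⟨hK'c, hK'M, h', hZ0t, hZ1t⟩ := CONJ c hKc hKM h htJ
  have hLne : L ≠ cj t L := by
    intro e
    apply htL
    have := LEMA_aux_mem_normalizer e
    rwa [P1 h.1] at this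
  obtain ⟨hZ1le, hZ0le, hZ0ge⟩ := CARD_le_four c hKc hKM h hK'c hK'M h' hLne
  have hdisj := CARD_disjoint c hKc hKM h hK'c hK'M h' hLne
  have h2mul := CARD_two_mul c hKc
  obtain ⟨hZne, hZle, hZTle, hZK⟩ := ZFACTS c S hMJ hTS
  have hZZ0 : omegaCenterOf (S : Subgroup G) ≤ Z0 T := hZle.trans hZTle
  have hpos : 0 < Nat.card ↥(Z1 T K) := Nat.card_pos
  have hcases : Nat.card ↥(Z1 T K) = 1 ∨ Nat.card ↥(Z1 T K) = 2 := by omega
  rcases hcases with h1 | h2
  · -- `|Z₀| = 2`
    left
    have hc2 : Nat.card ↥(Z0 T) = 2 := by omega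
    refine ⟨?_, hc2⟩
    apply Subgroup.eq_of_le_of_card_ge hZZ0
    rw [hc2]
    exact (Subgroup.one_lt_card_iff_ne_bot _).mpr hZne
  · -- `|Z₀| = 4`
    right
    have hc4 : Nat.card ↥(Z0 T) = 4 := by omega
    have hZ1ne : Z1 T K ≠ ⊥ := by
      intro hb
      rw [hb, Subgroup.card_bot] at h2
      omega
    have hZ1Z0 : Z1 T K ≤ Z0 T := inf_le_left
    obtain ⟨c₁, hc₁, hc₁1⟩ : ∃ x ∈ Z1 T K, x ≠ 1 := by
      by_contra hh
      push Not at hh
      exact hZ1ne ((Subgroup.eq_bot_iff_forall _).mpr hh)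
    obtain ⟨z, hz, hz1⟩ : ∃ x ∈ omegaCenterOf (S : Subgroup G), x ≠ 1 := by
      by_contra hh
      push Not at hh
      exact hZne ((Subgroup.eq_bot_iff_forall _).mpr hh)
    have hc₁Z0 : c₁ ∈ Z0 T := hZ1Z0 hc₁
    have hzZ0 : z ∈ Z0 T := hZZ0 hz
    obtain ⟨hzS, hzcomm, hzsq⟩ := LEMA_aux_omega hz
    obtain ⟨hc₁J, hc₁comm, hc₁sq⟩ := LEMA_aux_omega hc₁Z0
    obtain ⟨hzJ, -, -⟩ := LEMA_aux_omega hzZ0
    have hzc : z * c₁ = c₁ * z := hc₁comm z hzJ
    have htz : t * z * t⁻¹ = z := by rw [hzcomm t htS, mul_inv_cancel_right]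
    have hct_mem : t * c₁ * t⁻¹ ∈ Z1 T (cj t K) := by
      rw [hZ1t]
      exact LEMA_aux_conj_mem hc₁
    -- `c₁ ∉ Z`
    have hc₁Z : c₁ ∉ omegaCenterOf (S : Subgroup G) := by
      intro hcZ
      have h3 : t * c₁ = c₁ * t := (LEMA_aux_omega hcZ).2.1 t htS
      have h4 : t * c₁ * t⁻¹ = c₁ := by rw [h3, mul_inv_cancel_right]
      rw [h4] at hct_mem
      have h5 : c₁ ∈ Z1 T K ⊓ Z1 T (cj t K) := mem_inf.mpr ⟨hc₁, hct_mem⟩
      rw [hdisj, mem_bot] at h5
      exact hc₁1 h5
    have hc₁z : c₁ ≠ z := fun e => hc₁Z (e ▸ hz)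
    have hcz1 : c₁ * z ≠ 1 := by
      intro e
      apply hc₁Z
      have : c₁ = z⁻¹ := eq_inv_of_mul_eq_one_left e
      rw [this]
      exact inv_mem hz
    have hen : ∀ x ∈ Z0 T, x = 1 ∨ x = c₁ ∨ x = z ∨ x = c₁ * z := fun x hx =>
      LEMA_aux_four hc4 hc₁Z0 hzZ0 hc₁1 hz1 hc₁z hcz1 hx
    -- key claim A
    have keyA : ∀ g : G, (∀ x ∈ Z0 T, g * x * g⁻¹ ∈ Z0 T) → g * z * g⁻¹ = z →
        (g * c₁ * g⁻¹ = c₁ ∨ g * c₁ * g⁻¹ = c₁ * z) := by
      intro g hg hgz
      rcases hen _ (hg c₁ hc₁Z0) with e | e | e | e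
      · exfalso
        apply hc₁1
        have : c₁ = g⁻¹ * (g * c₁ * g⁻¹) * g := by group
        rw [this, e]
        group
      · exact Or.inl e
      · exfalso
        apply hc₁z
        have h3 : g * c₁ * g⁻¹ = g * z * g⁻¹ := by rw [e, hgz]
        exact mul_left_cancel (mul_right_cancel h3)
      · exact Or.inr e
    have htZ0 : ∀ x ∈ Z0 T, t * x * t⁻¹ ∈ Z0 T := by
      intro x hx
      have := LEMA_aux_conj_mem (g := t) hx
      rwa [hZ0t] at this
    have hct : t * c₁ * t⁻¹ = c₁ * z := by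
      rcases keyA t htZ0 htz with e | e
      · exfalso
        rw [e] at hct_mem
        have h5 : c₁ ∈ Z1 T K ⊓ Z1 T (cj t K) := mem_inf.mpr ⟨hc₁, hct_mem⟩
        rw [hdisj, mem_bot] at h5
        exact hc₁1 h5
      · exact e
    -- `T` centralizes `c₁`
    have hTc : ∀ s ∈ T, s * c₁ = c₁ * s := by
      intro s hs
      by_contra hsc
      have hsJ : s ∈ normalizer ((thompsonSubgroupOf 2 T : Subgroup G) : Set G) :=
        normalizer_le_normalizer_thompsonSubgroupOf 2 T (le_normalizer hs)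
      obtain ⟨hKs, hKsM, hs', hZ0s, hZ1s⟩ := CONJ c hKc hKM h hsJ
      rw [LEMA_aux_cj_self (hSyl.1 hs)] at hs'
      have hsZ0 : ∀ x ∈ Z0 T, s * x * s⁻¹ ∈ Z0 T := by
        intro x hx
        have := LEMA_aux_conj_mem (g := s) hx
        rwa [hZ0s] at this
      have hsz : s * z * s⁻¹ = z := by rw [hzcomm s (hTS hs), mul_inv_cancel_right]
      rcases keyA s hsZ0 hsz with e | e
      · apply hsc
        calc s * c₁ = (s * c₁ * s⁻¹) * s := by group
          _ = c₁ * s := by rw [e]
      · have h3 : c₁ * z ∈ Z1 T (cj s K) := by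
          rw [hZ1s, ← e]
          exact LEMA_aux_conj_mem hc₁
        have h4 : c₁ * z ∈ Z1 T (cj t K) := by rw [← hct]; exact hct_mem
        have h5 := CARD_disjoint c hKs hKsM hs' hK'c hK'M h' hLne
        have h6 : c₁ * z ∈ Z1 T (cj s K) ⊓ Z1 T (cj t K) := mem_inf.mpr ⟨h3, h4⟩
        rw [h5, mem_bot] at h6
        exact hcz1 h6
    have hZ0T : Z0 T ≤ omegaCenterOf T := by
      intro x hx
      obtain ⟨hxJ, -, hxsq⟩ := LEMA_aux_omega hx
      refine LEMA_aux_omega_mem (hJT hxJ) ?_ hxsq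
      intro s hs
      have hsz : s * z = z * s := hzcomm s (hTS hs)
      have hsc := hTc s hs
      rcases hen x hx with e | e | e | e
      · rw [e]; simp
      · rw [e]; exact hsc
      · rw [e]; exact hsz
      · rw [e]
        calc s * (c₁ * z) = (s * c₁) * z := by group
          _ = c₁ * (s * z) := by rw [hsc]; group
          _ = c₁ * z * s := by rw [hsz]; group
    refine ⟨le_antisymm hZTle hZ0T, hc4, ?_⟩
    -- the index
    have hNZ1 : normalizer ((Z1 T K : Subgroup G) : Set G) ≤ L :=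
      UNIQ_normalizer c hKc hKM h le_rfl hZ1ne
    have hcent_c₁ : ∀ u : G, c₁ * u = u * c₁ → u ∈ L := by
      intro u hu
      apply hNZ1
      apply Subgroup.centralizer_le_normalizer
      rw [mem_centralizer_iff]
      intro x hx
      rcases LEMA_aux_two h2 hc₁ hc₁1 hx with e | e
      · rw [e]; simp
      · rw [e]; exact hu
    have hCL : centralizer ((Z0 T : Subgroup G) : Set G) ≤ L := by
      intro u hu
      exact hcent_c₁ u (mem_centralizer_iff.mp hu c₁ hc₁Z0)
    -- key claim B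
    have keyB : ∀ g : G, g * z * g⁻¹ ≠ c₁ := by
      intro g e
      have hle : cj g (S : Subgroup G) ≤ L := by
        intro u hu
        rw [LEMA_aux_mem_cj] at hu
        apply hcent_c₁
        have h3 := hzcomm _ hu
        rw [← e]
        calc g * z * g⁻¹ * u = g * (z * (g⁻¹ * u * g)) * g⁻¹ := by group
          _ = g * ((g⁻¹ * u * g) * z) * g⁻¹ := by rw [h3]
          _ = u * (g * z * g⁻¹) := by group
      have h2g : IsPGroup 2 ↥(cj g (S : Subgroup G)) := hS2.map _
      have h3 := LEMA_aux_card_le hSyl h2g hle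
      have h4 : Nat.card ↥(cj g (S : Subgroup G)) = Nat.card ↥(S : Subgroup G) :=
        (Nat.card_congr ((S : Subgroup G).equivMapOfInjective _ (MulAut.conj g).injective).toEquiv).symm
      omega
    have hNmem : ∀ n ∈ normalizer ((Z0 T : Subgroup G) : Set G), ∀ x ∈ Z0 T,
        n * x * n⁻¹ ∈ Z0 T := fun n hn x hx => (mem_normalizer_iff.mp hn x).mp hx
    have keyC : ∀ n ∈ normalizer ((Z0 T : Subgroup G) : Set G), n * z * n⁻¹ = z := by
      intro n hn
      rcases hen _ (hNmem n hn z hzZ0) with e | e | e | e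
      · exfalso
        apply hz1
        have : z = n⁻¹ * (n * z * n⁻¹) * n := by group
        rw [this, e]
        group
      · exact absurd e (keyB n)
      · exact e
      · exfalso
        apply keyB (t⁻¹ * n)
        have : t⁻¹ * n * z * (t⁻¹ * n)⁻¹ = t⁻¹ * (n * z * n⁻¹) * t := by group
        rw [this, e, ← hct]
        group
    have hCiff : ∀ n ∈ normalizer ((Z0 T : Subgroup G) : Set G),
        (n ∈ L ⊓ centralizer ((Z0 T : Subgroup G) : Set G) ↔ n * c₁ * n⁻¹ = c₁) := by
      intro n hn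
      rw [inf_eq_right.mpr hCL]
      constructor
      · intro hnC
        have := mem_centralizer_iff.mp hnC c₁ hc₁Z0
        rw [← this, mul_inv_cancel_right]
      · intro e
        have hnc : c₁ * n = n * c₁ := by
          calc c₁ * n = (n * c₁ * n⁻¹) * n := by rw [e]
            _ = n * c₁ := by group
        have hnz : z * n = n * z := by
          calc z * n = (n * z * n⁻¹) * n := by rw [keyC n hn]
            _ = n * z := by group
        rw [mem_centralizer_iff]
        intro x hx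
        rcases hen x hx with e' | e' | e' | e'
        · rw [e']; simp
        · rw [e']; exact hnc
        · rw [e']; exact hnz
        · rw [e']
          calc c₁ * z * n = c₁ * (z * n) := by group
            _ = (c₁ * n) * z := by rw [hnz]; group
            _ = n * (c₁ * z) := by rw [hnc]; group
    have htNZ0 : t ∈ normalizer ((Z0 T : Subgroup G) : Set G) :=
      LEMA_aux_mem_normalizer hZ0t.symm
    rw [relIndex_eq_two_iff]
    refine ⟨t, htNZ0, fun b hb => ?_⟩
    have hbt : b * t ∈ normalizer ((Z0 T : Subgroup G) : Set G) := mul_mem hb htNZ0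
    rw [hCiff b hb, hCiff (b * t) hbt]
    have hconj : b * t * c₁ * (b * t)⁻¹ = (b * c₁ * b⁻¹) * z := by
      calc b * t * c₁ * (b * t)⁻¹ = b * (t * c₁ * t⁻¹) * b⁻¹ := by group
        _ = b * (c₁ * z) * b⁻¹ := by rw [hct]
        _ = (b * c₁ * b⁻¹) * (b * z * b⁻¹) := by group
        _ = (b * c₁ * b⁻¹) * z := by rw [keyC b hb]
    rw [hconj]
    rcases keyA b (hNmem b hb) (keyC b hb) with e | e
    · refine Or.inr ⟨e, ?_⟩
      rw [e]
      intro e2
      apply hz1
      have : c₁ * z = c₁ * 1 := by rw [mul_one]; exact e2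
      exact mul_left_cancel this
    · refine Or.inl ⟨?_, ?_⟩
      · rw [e, mul_assoc, hzsq, mul_one]
      · rw [e]
        intro e2
        apply hz1
        have : c₁ * z = c₁ * 1 := by rw [mul_one]; exact e2
        exact mul_left_cancel this

end Cfsg.Agent.S2951P
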