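import Mathlib

/-!
# S4330 board, piece L3 : a `p`-group of odd order acting on a finite set has a subset whose
setwise stabilizer is the kernel of the action.
-/

set_option autoImplicit false
open Pointwise

namespace Cfsg.Agent.Helper5.S4330

section
variable {Q : Type*} [Group Q] {Ω : Type*} [MulAction Q Ω]

/-- a finite set mapped into itself is mapped onto itself -/
theorem smul_set_eq_of_mapsTo {S : Set Ω} (hS : S.Finite) {g : Q} (h : ∀ ω ∈ S, g • ω ∈ S) :
    g • S = S := by
  have hsub : g • S ⊆ S := Set.smul_set_subset_iff.mpr h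
  apply Set.eq_of_subset_of_ncard_le hsub _ hS
  rw [Set.ncard_smul_set]

/-- the symmetric difference trick: `S₀` is recovered from `S = (S₀ \ O) ∪ (O \ S₀)` -/
theorem symmDiff_trick (S₀ O : Set Ω) :
    S₀ = (((S₀ \ O) ∪ (O \ S₀)) \ O) ∪ (O \ ((S₀ \ O) ∪ (O \ S₀))) := by
  ext ω
  simp only [Set.mem_union, Set.mem_sdiff]
  tauto

end

theorem exists_subset_stabilizer_le_kernel_aux {p : ℕ} [Fact p.Prime] (hp : p ≠ 2)
    {Ω : Type*} : ∀ (n : ℕ) (Q : Type*) [Group Q] [Finite Q] [MulAction Q Ω],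
      Nat.card Q = n → IsPGroup p Q → ∀ (T : Set Ω), T.Finite →
      (∀ g : Q, ∀ ω ∈ T, g • ω ∈ T) →
      ∃ S ⊆ T, ∀ g : Q, (∀ ω ∈ S, g • ω ∈ S) → ∀ ω ∈ T, g • ω = ω := by
  intro n
  induction n using Nat.strong_induction_on with
  | _ n ih =>
    intro Q _ _ _ hn hQ T hT hinv
    by_cases htriv : ∀ g : Q, ∀ ω ∈ T, g • ω = ω
    · exact ⟨∅, Set.empty_subset _, fun g _ => htriv g⟩
    push Not at htriv
    obtain ⟨g₁, ω₀, hω₀T, hg₁⟩ := htriv
    -- a maximal subgroup containing the stabilizer of `ω₀`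
    set H := MulAction.stabilizer Q ω₀ with hH
    have hHtop : H ≠ ⊤ := by
      intro h
      have : g₁ ∈ H := by rw [h]; exact Subgroup.mem_top _
      exact hg₁ (MulAction.mem_stabilizer_iff.mp this)
    obtain ⟨M, hMco, hHM⟩ := (eq_top_or_exists_le_coatom H).resolve_left hHtop
    have hnil : Group.IsNilpotent Q := hQ.isNilpotent
    have hall : ∀ H : Subgroup Q, IsCoatom H → H.Normal :=
      ((Group.isNilpotent_of_finite_tfae (G := Q)).out 0 2 rfl rfl).mp hnil
    have hMn : M.Normal := hall M hMco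
    have hMtop : M ≠ ⊤ := hMco.1
    obtain ⟨g₀, hg₀⟩ : ∃ g₀ : Q, g₀ ∉ M := by
      by_contra h
      push Not at h
      exact hMtop (eq_top_iff.mpr fun g _ => h g)
    have hMcard : Nat.card M < n := by
      rw [← hn]
      refine lt_of_le_of_ne (Subgroup.card_le_card_group M) fun h => hMtop ?_
      exact (Subgroup.card_eq_iff_eq_top M).mp h
    have hMp : IsPGroup p M := hQ.to_subgroup M
    have hinvM : ∀ m : M, ∀ ω ∈ T, m • ω ∈ T := fun m ω hω => hinv (m : Q) ω hω
    obtain ⟨S₀, hS₀T, hS₀⟩ := ih _ hMcard M rfl hMp T hT hinvM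
    have hS₀fin : S₀.Finite := hT.subset hS₀T
    -- the `M`-orbit of `ω₀`
    set O : Set Ω := MulAction.orbit M ω₀ with hO
    have hOT : O ⊆ T := by
      rintro _ ⟨m, rfl⟩
      exact hinvM m ω₀ hω₀T
    have hOfin : O.Finite := hT.subset hOT
    have hOM : ∀ m ∈ M, m • O = O := by
      intro m hm
      have := MulAction.smul_orbit (⟨m, hm⟩ : M) ω₀
      exact this
    have hOdisj : ∀ g : Q, g ∉ M → Disjoint (g • O) O := by
      intro g hg
      rw [Set.disjoint_left]
      rintro _ ⟨_, ⟨m, rfl⟩, rfl⟩ ⟨m', hm'⟩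
      apply hg
      have h1 : ((m' : Q)⁻¹ * g * (m : Q)) • ω₀ = ω₀ := by
        have h2 : (m' : Q) • ω₀ = g • ((m : Q) • ω₀) := hm'
        rw [mul_smul, mul_smul, ← h2, inv_smul_smul]
      have h3 : (m' : Q)⁻¹ * g * (m : Q) ∈ M := hHM (MulAction.mem_stabilizer_iff.mpr h1)
      have h4 : g = (m' : Q) * ((m' : Q)⁻¹ * g * (m : Q)) * (m : Q)⁻¹ := by group
      rw [h4]
      exact M.mul_mem (M.mul_mem m'.2 h3) (M.inv_mem m.2)
    have hOodd : Odd O.ncard := by
      have h1 : (MulAction.stabilizer M ω₀).index = O.ncard := MulAction.index_stabilizer M ω₀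
      have h2 : (MulAction.stabilizer M ω₀).index ∣ Nat.card M := Subgroup.index_dvd_card _
      obtain ⟨k, hk⟩ := IsPGroup.iff_card.mp hMp
      rw [hk] at h2
      obtain ⟨j, _, hj⟩ := (Nat.dvd_prime_pow Fact.out).mp h2
      rw [← h1, hj]
      exact Odd.pow ((Fact.out : p.Prime).odd_of_ne_two hp)
    -- key: a subset with different counts on `O` and some translate has its stabilizer inside `M`
    have key : ∀ S : Set Ω, S.Finite → (∃ g' : Q, (S ∩ g' • O).ncard ≠ (S ∩ O).ncard) →
        ∀ g : Q, g • S = S → g ∈ M := by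
      intro S _ ⟨g', hg'⟩ g hgS
      by_contra hgM
      apply hg'
      set X := MulAction.stabilizer Q S with hX
      have hgX : g ∈ X := MulAction.mem_stabilizer_iff.mpr hgS
      have hXM : X ⊔ M = ⊤ := by
        by_contra hne
        have hlt : M < X ⊔ M := lt_of_le_of_ne le_sup_right fun h => hgM (by
          rw [h]; exact Subgroup.mem_sup_left hgX)
        exact hne (hMco.2 _ hlt)
      have hg'mem : g' ∈ ((X ⊔ M : Subgroup Q) : Set Q) := by rw [hXM]; trivial
      rw [Subgroup.mul_normal] at hg'mem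
      obtain ⟨x, hx, m, hm, rfl⟩ := hg'mem
      have hxS : x • S = S := MulAction.mem_stabilizer_iff.mp hx
      have h1 : (x * m) • O = x • O := by rw [mul_smul, hOM m hm]
      rw [h1]
      have h2 : S ∩ x • O = x • (S ∩ O) := by rw [Set.smul_set_inter, hxS]
      rw [h2, Set.ncard_smul_set]
    by_cases hcount : ∃ g' : Q, (S₀ ∩ g' • O).ncard ≠ (S₀ ∩ O).ncard
    · -- `S₀` itself works
      refine ⟨S₀, hS₀T, fun g hg => ?_⟩
      have hgS := smul_set_eq_of_mapsTo hS₀fin hg
      have hgM := key S₀ hS₀fin hcount g hgS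
      exact hS₀ ⟨g, hgM⟩ hg
    · -- complement `S₀` inside `O`
      push Not at hcount
      set S : Set Ω := (S₀ \ O) ∪ (O \ S₀) with hS
      have hST : S ⊆ T := by
        intro ω hω
        rcases hω with h | h
        · exact hS₀T h.1
        · exact hOT h.1
      have hSfin : S.Finite := hT.subset hST
      have hcountS : ∃ g' : Q, (S ∩ g' • O).ncard ≠ (S ∩ O).ncard := by
        refine ⟨g₀, ?_⟩
        have hdis := hOdisj g₀ hg₀
        have h1 : S ∩ g₀ • O = S₀ ∩ g₀ • O := by
          ext ω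
          simp only [hS, Set.mem_inter_iff, Set.mem_union, Set.mem_sdiff]
          constructor
          · rintro ⟨h | h, h'⟩
            · exact ⟨h.1, h'⟩
            · exact absurd h.1 (Set.disjoint_left.mp hdis h')
          · rintro ⟨h, h'⟩
            exact ⟨Or.inl ⟨h, fun hO' => Set.disjoint_left.mp hdis h' hO'⟩, h'⟩
        have h2 : S ∩ O = O \ S₀ := by
          ext ω
          simp only [hS, Set.mem_inter_iff, Set.mem_union, Set.mem_sdiff]
          tauto
        rw [h1, h2, hcount g₀]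
        have h3 : (O \ S₀).ncard + (S₀ ∩ O).ncard = O.ncard := by
          rw [Set.inter_comm, add_comm]
          exact Set.ncard_inter_add_ncard_sdiff_eq_ncard O S₀ hOfin
        intro h4
        rw [h4] at h3
        have : ¬ Odd O.ncard := by
          rw [← h3, Nat.not_odd_iff_even]
          exact ⟨_, rfl⟩
        exact this hOodd
      refine ⟨S, hST, fun g hg => ?_⟩
      have hgS := smul_set_eq_of_mapsTo hSfin hg
      have hgM := key S hSfin hcountS g hgS
      have hgO := hOM g hgM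
      have hgS₀ : g • S₀ = S₀ := by
        have h1 := symmDiff_trick S₀ O
        rw [← hS] at h1
        conv_lhs => rw [h1]
        rw [Set.smul_set_union, Set.smul_set_sdiff, Set.smul_set_sdiff, hgS, hgO]
        exact h1.symm
      refine hS₀ ⟨g, hgM⟩ fun ω hω => ?_
      have : g • ω ∈ g • S₀ := Set.smul_mem_smul_set hω
      rw [hgS₀] at this
      exact this

/-- **L3** -/
theorem exists_subset_stabilizer_le_kernel {p : ℕ} [Fact p.Prime] (hp : p ≠ 2)
    {Q : Type*} [Group Q] [Finite Q] (hQ : IsPGroup p Q) {Ω : Type*} [MulAction Q Ω]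
    (T : Set Ω) (hT : T.Finite) (hinv : ∀ g : Q, ∀ ω ∈ T, g • ω ∈ T) :
    ∃ S ⊆ T, ∀ g : Q, (∀ ω ∈ S, g • ω ∈ S) → ∀ ω ∈ T, g • ω = ω :=
  exists_subset_stabilizer_le_kernel_aux hp _ Q rfl hQ T hT hinv

end Cfsg.Agent.Helper5.S4330
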