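import Mathlib
import Cfsg.Agent.Helper26.S5704GENDDefs
import Cfsg.Agent.Helper26.S5704ROOTS

set_option autoImplicit false
set_option linter.unusedSectionVars false
set_option linter.unusedVariables false

/-! # S5704, chapter SEED, sub-chapter GEND (designer helper26), piece GESCAL (helper5). -/

namespace Cfsg.Agent.S5704P

open Matrix Cfsg.Agent.S5637P Cfsg.Agent.S5704S Cfsg.Agent.Helper28.Sg

variable {F : Type*} [Field F] {n a b : ℕ} (e : Fin n ≃ Fin a × Fin b)

/-! ## GESCAL (S): `GE` only depends on `(α • u', β • u')` -/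

/-- unfold `GE`; `bf_smul_right`, `smul_smul`, `mul_comm/mul_assoc`; the two formulas agree term by term. -/
theorem GEND.GESCAL.smul {GU : Matrix (Fin a) (Fin a) F} {GW : Matrix (Fin b) (Fin b) F}
    {u u' : Fin a → F} {z p : Fin b → F} {α β s : F} {k : GL (Fin n) F}
    (h : GE e GU GW u u' z p (s * α) (s * β) k) : GE e GU GW u (s • u') z p α β k := by
  intro x w
  rw [h x w, bf_smul_right]
  have e1 : (α * (s * bf GU x u')) • u + (β * bf GU x u) • s • u' =
      (s * α * bf GU x u') • u + (s * β * bf GU x u) • u' := by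
    module
  have e2 : (β * (s * bf GU x u')) • u + (α * bf GU x u) • s • u' =
      (s * β * bf GU x u') • u + (s * α * bf GU x u) • u' := by
    module
  rw [e1, e2]

end Cfsg.Agent.S5704P
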