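import Mathlib
import Cfsg.Prelude.Def_Classical
import Cfsg.Prelude.Def_GeometricClasses
import Cfsg.Agent.Helper5.S5973Defs

set_option autoImplicit false
open scoped MatrixGroups

/-! S5973 + S5987, piece TRICK: on a quadratic space without fixed vectors the alternating form
`Bt u v = polar ((y - y⁻¹) u) v` has the same invariant totally singular subspaces. -/

universe u

namespace Cfsg.Agent.S5973P

open Module Polynomial Cfsg.Agent.S5955P Cfsg.Agent.S5961P Cfsg.Agent.Helper2.SympInvol
  Cfsg.Agent.Helper2.SympUnits

namespace TRICK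

section

variable {F V : Type*} [Field F] [AddCommGroup V] [Module F V]

theorem polar_isom (Q : QuadraticForm F V) (y : Module.End F V) (hy : ∀ v, Q (y v) = Q v)
    (u v : V) : QuadraticMap.polar Q (y u) (y v) = QuadraticMap.polar Q u v := by
  simp only [QuadraticMap.polar, ← map_add, hy]

theorem polar_self (Q : QuadraticForm F V) (v : V) : QuadraticMap.polar Q v v = 2 * Q v := by
  rw [QuadraticMap.polar, ← two_smul F v, QuadraticMap.map_smul]
  simp only [smul_eq_mul]
  ring

theorem quad_sub (Q : QuadraticForm F V) (a b : V) :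
    Q (a - b) = Q a + Q b - QuadraticMap.polar Q a b := by
  have h1 : Q (a - b + b) = Q (a - b) + Q b + QuadraticMap.polar Q (a - b) b := by
    rw [QuadraticMap.polar]; ring
  rw [sub_add_cancel] at h1
  have h2 : QuadraticMap.polar Q (a - b) b = QuadraticMap.polar Q a b - QuadraticMap.polar Q b b := by
    rw [QuadraticMap.polar_sub_left]
  rw [h2, polar_self] at h1
  linear_combination -h1

/-- powers of `y` on an eigenvector for `-1` -/
theorem pow_apply_neg (y : Module.End F V) (u : V) (hu : y u = -u) (k : ℕ) :
    (y ^ k) u = (-1 : F) ^ k • u := by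
  induction k with
  | zero => simp
  | succ k ih =>
    rw [pow_succ', Module.End.mul_apply, ih, map_smul, hu, pow_succ]
    simp

theorem pow_mem (y : Module.End F V) (W : Submodule F V) (hW : W.map y ≤ W) (k : ℕ) :
    ∀ w ∈ W, (y ^ k) w ∈ W := by
  induction k with
  | zero => intro w hw; simpa using hw
  | succ k ih =>
    intro w hw
    rw [pow_succ', Module.End.mul_apply]
    exact hW ⟨_, ih w hw, rfl⟩

end

section

variable {F V : Type*} [Field F] [AddCommGroup V] [Module F V]

/-- an injective endomorphism preserving a subspace is surjective on it -/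
theorem exists_preimage_mem [FiniteDimensional F V] (f : Module.End F V) (hf : Function.Injective f) (W : Submodule F V)
    (hW : ∀ w ∈ W, f w ∈ W) (w : V) (hw : w ∈ W) : ∃ u ∈ W, f u = w := by
  have hinj : Function.Injective (f.restrict hW) := by
    intro a b hab
    apply Subtype.ext
    apply hf
    have := congrArg Subtype.val hab
    simpa using this
  have hsurj := LinearMap.injective_iff_surjective.mp hinj
  obtain ⟨u, hu⟩ := hsurj ⟨w, hw⟩
  refine ⟨u.1, u.2, ?_⟩
  have := congrArg Subtype.val hu
  simpa using this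

/-- `y - y^(r-1)` is injective on a space without fixed vectors (`r` odd) -/
theorem z_injective (r : ℕ) (hr : Odd r) (y : Module.End F V) (hy : y ^ r = 1)
    (hfix : LinearMap.ker (y - 1) = ⊥) : Function.Injective (y - y ^ (r - 1)) := by
  have hr1 : 1 ≤ r := hr.pos
  have hyy : y * y ^ (r - 1) = 1 := by rw [← pow_succ', Nat.sub_add_cancel hr1, hy]
  have hfix' : ∀ v, y v = v → v = 0 := by
    intro v hv
    have : v ∈ LinearMap.ker (y - 1) := by
      rw [LinearMap.mem_ker, LinearMap.sub_apply, Module.End.one_apply, hv, sub_self]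
    rw [hfix] at this
    exact (Submodule.mem_bot F).mp this
  rw [← LinearMap.ker_eq_bot, Submodule.eq_bot_iff]
  intro u hu
  rw [LinearMap.mem_ker, LinearMap.sub_apply, sub_eq_zero] at hu
  -- `y (y u) = u`
  have h1 : y (y u) = u := by
    rw [hu, ← Module.End.mul_apply, hyy, Module.End.one_apply]
  -- `y u + u` is fixed
  have h2 : y u + u = 0 := by
    apply hfix'
    rw [map_add, h1, add_comm]
  have h3 : y u = -u := eq_neg_of_add_eq_zero_left h2
  have h4 := pow_apply_neg y u h3 r
  rw [hy, Module.End.one_apply, hr.neg_one_pow, neg_one_smul] at h4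
  -- `u = -u`
  by_cases h2F : (2 : F) = 0
  · apply hfix'
    rw [h3, ← h4]
  · have : (2 : F) • u = 0 := by
      rw [two_smul]
      nth_rw 1 [h4]
      exact neg_add_cancel u
    rcases smul_eq_zero.mp this with h | h
    · exact absurd h h2F
    · exact h

end

end TRICK

open TRICK in
/-- TRICK: on a space without fixed vectors the alternating form `Bt u v = polar ((y - y⁻¹) u) v` has the
same invariant totally singular subspaces (every characteristic) -/
theorem trick {F V : Type*} [Field F] [AddCommGroup V] [Module F V] [FiniteDimensional F V]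
    (r : ℕ) (hr : Odd r) (Q : QuadraticForm F V) (y : Module.End F V) (h : IsYO Q y r)
    (hfix : LinearMap.ker (y - 1) = ⊥) :
    ∃ Bt : LinearMap.BilinForm F V, IsYSp Bt y r ∧
      ∀ W : Submodule F V, W.map y ≤ W → (Orth Bt W W ↔ IsTS Q W) := by
  have hr1 : 1 ≤ r := hr.pos
  have hyy : y * y ^ (r - 1) = 1 := by rw [← pow_succ', Nat.sub_add_cancel hr1, h.pow]
  have hyy' : y ^ (r - 1) * y = 1 := by rw [← pow_succ, Nat.sub_add_cancel hr1, h.pow]
  set z : Module.End F V := y - y ^ (r - 1) with hz
  have hzinj : Function.Injective z := z_injective r hr y h.pow hfix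
  have hP : ∀ u v, QuadraticMap.polar Q (y u) (y v) = QuadraticMap.polar Q u v :=
    polar_isom Q y h.isom
  -- `polar (y⁻¹ u) v = polar u (y v)`
  have hPi : ∀ u v, QuadraticMap.polar Q ((y ^ (r - 1)) u) v = QuadraticMap.polar Q u (y v) := by
    intro u v
    rw [← hP ((y ^ (r - 1)) u) v, ← Module.End.mul_apply, hyy, Module.End.one_apply]
  have hzy : ∀ u, z (y u) = y (z u) := by
    intro u
    have e1 : (y ^ (r - 1)) (y u) = u := by
      rw [← Module.End.mul_apply, hyy', Module.End.one_apply]
    have e2 : y ((y ^ (r - 1)) u) = u := by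
      rw [← Module.End.mul_apply, hyy, Module.End.one_apply]
    rw [hz, LinearMap.sub_apply, LinearMap.sub_apply, map_sub, e1, e2]
  set Bt : LinearMap.BilinForm F V := (QuadraticMap.polarBilin Q) ∘ₗ z with hBt
  have hBt_apply : ∀ u v, Bt u v = QuadraticMap.polar Q (z u) v := fun u v => rfl
  have hy1inj : Function.Injective ⇑(y - 1 : Module.End F V) := LinearMap.ker_eq_bot.mp hfix
  refine ⟨Bt, ⟨?_, ?_, ?_, h.pow⟩, ?_⟩
  · -- alternating
    intro v
    rw [hBt_apply, hz, LinearMap.sub_apply, QuadraticMap.polar_sub_left, hPi,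
      QuadraticMap.polar_comm Q v (y v), sub_self]
  · -- nondegenerate
    intro m _ hm
    have hzm : z m ≠ 0 := fun h0 => hm (hzinj (by rw [h0, map_zero]))
    by_contra hcon
    push Not at hcon
    apply hzm
    apply h.nondeg.1
    intro v
    exact hcon v trivial
  · -- isometry
    intro u v
    rw [hBt_apply, hBt_apply, hzy, hP]
  · intro W hW
    have hWy : ∀ w ∈ W, y w ∈ W := fun w hw => hW ⟨w, hw, rfl⟩
    have hWz : ∀ w ∈ W, z w ∈ W := by
      intro w hw
      rw [hz, LinearMap.sub_apply]
      exact W.sub_mem (hWy w hw) (pow_mem y W hW (r - 1) w hw)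
    have hWy1 : ∀ w ∈ W, (y - 1) w ∈ W := by
      intro w hw
      rw [LinearMap.sub_apply, Module.End.one_apply]
      exact W.sub_mem (hWy w hw) hw
    constructor
    · intro hO w hw
      -- polar vanishes on `W`
      have hpol : ∀ a ∈ W, ∀ b ∈ W, QuadraticMap.polar Q a b = 0 := by
        intro a ha b hb
        obtain ⟨a', ha', rfl⟩ := exists_preimage_mem z hzinj W hWz a ha
        exact hO a' ha' b hb
      obtain ⟨u, hu, rfl⟩ := exists_preimage_mem (y - 1) hy1inj W hWy1 w hw
      rw [LinearMap.sub_apply, Module.End.one_apply, quad_sub, h.isom, hpol _ (hWy u hu) _ hu]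
      have h2 : (2 : F) * Q u = 0 := by rw [← polar_self]; exact hpol u hu u hu
      linear_combination h2
    · intro hTS u hu v hv
      rw [hBt_apply, QuadraticMap.polar, hTS _ (W.add_mem (hWz u hu) hv), hTS _ (hWz u hu),
        hTS _ hv]
      ring

end Cfsg.Agent.S5973P
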