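import Mathlib
import Cfsg.Prelude.Def_Classical
import Cfsg.Prelude.Def_GeometricClasses
import Cfsg.Agent.Helper5.S5973Defs
import Cfsg.Agent.Helper5.S5973TRICK

set_option autoImplicit false
open scoped MatrixGroups

/-! S5973 + S5987, piece QT: an alternating space without fixed vectors carries the quadratic form
`v ↦ B (y v) v`, with the same invariant totally singular subspaces. -/

universe u

namespace Cfsg.Agent.S5973P

open Module Polynomial Cfsg.Agent.S5955P Cfsg.Agent.S5961P Cfsg.Agent.Helper2.SympInvol
  Cfsg.Agent.Helper2.SympUnits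

namespace QT

variable {F V : Type*} [Field F] [AddCommGroup V] [Module F V]

theorem skew' (B : LinearMap.BilinForm F V) (halt : ∀ v, B v v = 0) (a b : V) :
    B a b = -B b a := by
  have h := halt (a + b)
  simp only [map_add, LinearMap.add_apply, halt] at h
  linear_combination h

theorem polar_twQ (B : LinearMap.BilinForm F V) (y : Module.End F V) (u v : V) :
    QuadraticMap.polar (twQ B y) u v = B (y u) v + B (y v) u := by
  simp only [QuadraticMap.polar, twQ_apply, map_add, LinearMap.add_apply]
  ring

end QT

open QT TRICK in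
/-- QT: conversely an alternating space without fixed vectors carries the quadratic form `v ↦ B (y v) v` -/
theorem twQ_facts {F V : Type*} [Field F] [AddCommGroup V] [Module F V] [FiniteDimensional F V]
    (r : ℕ) (hr : Odd r) (B : LinearMap.BilinForm F V) (y : Module.End F V) (h : IsYSp B y r)
    (hfix : LinearMap.ker (y - 1) = ⊥) :
    IsYO (twQ B y) y r ∧
      ∀ W : Submodule F V, W.map y ≤ W → (IsTS (twQ B y) W ↔ Orth B W W) := by
  have hr1 : 1 ≤ r := hr.pos
  have hyy : y * y ^ (r - 1) = 1 := by rw [← pow_succ', Nat.sub_add_cancel hr1, h.pow]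
  set z : Module.End F V := y - y ^ (r - 1) with hz
  have hzinj : Function.Injective z := z_injective r hr y h.pow hfix
  -- `B u (y v) = B (y⁻¹ u) v`
  have hBi : ∀ u v, B u (y v) = B ((y ^ (r - 1)) u) v := by
    intro u v
    rw [← h.isom ((y ^ (r - 1)) u) v, ← Module.End.mul_apply, hyy, Module.End.one_apply]
  have hpol : ∀ u v, QuadraticMap.polar (twQ B y) u v = B (z u) v := by
    intro u v
    rw [polar_twQ, skew' B h.alt (y v) u, hBi, hz, LinearMap.sub_apply, map_sub,
      LinearMap.sub_apply]
    ring
  have hsepL : ∀ x, (∀ v, QuadraticMap.polar (twQ B y) x v = 0) → x = 0 := by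
    intro x hx
    by_contra hx0
    have hzx : z x ≠ 0 := fun h0 => hx0 (hzinj (by rw [h0, map_zero]))
    obtain ⟨v, -, hv⟩ := h.nondeg (z x) trivial hzx
    exact hv (by rw [← hpol]; exact hx v)
  refine ⟨⟨⟨?_, ?_⟩, ?_, h.pow⟩, ?_⟩
  · intro x hx
    exact hsepL x hx
  · intro x hx
    apply hsepL x
    intro v
    have := hx v
    rw [QuadraticMap.polarBilin_apply_apply] at this
    rw [QuadraticMap.polar_comm]
    exact this
  · intro v
    rw [twQ_apply, twQ_apply, h.isom]
  · intro W hW
    have hWy : ∀ w ∈ W, y w ∈ W := fun w hw => hW ⟨w, hw, rfl⟩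
    have hWz : ∀ w ∈ W, z w ∈ W := by
      intro w hw
      rw [hz, LinearMap.sub_apply]
      exact W.sub_mem (hWy w hw) (pow_mem y W hW (r - 1) w hw)
    constructor
    · intro hTS a ha b hb
      obtain ⟨a', ha', rfl⟩ := exists_preimage_mem z hzinj W hWz a ha
      rw [← hpol, QuadraticMap.polar, hTS _ (W.add_mem ha' hb), hTS _ ha', hTS _ hb]
      ring
    · intro hO w hw
      rw [twQ_apply]
      exact hO _ (hWy w hw) _ hw

end Cfsg.Agent.S5973P
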