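import Mathlib
import Cfsg.Prelude.Def_Classical
import Cfsg.Prelude.Def_GeometricClasses
import Cfsg.Agent.Helper5.S5973Defs
import Cfsg.Agent.Helper13.S5973TSHALF
import Cfsg.Agent.Helper18.S5961ARITH
import Cfsg.Agent.Helper22.S5973FPFQ
import Cfsg.Agent.Helper15.S5973PRODQ
import Cfsg.Agent.Helper18.S5973PRODSPLIT
import Cfsg.Agent.Helper15.S5973PRODTYPE
import Cfsg.Agent.Helper3.S5973NTYPE
import Cfsg.Agent.Helper1.S5973STD

set_option autoImplicit false
open scoped MatrixGroups

/-! S5973 + S5987, piece MODELV: abstract model of shape `(b, κ)`. -/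

universe u

namespace Cfsg.Agent.S5973P

open Module Polynomial Cfsg.Agent.S5955P Cfsg.Agent.S5961P Cfsg.Agent.Helper2.SympInvol
  Cfsg.Agent.Helper2.SympUnits

namespace MODELV

theorem prop_even (H E : Prop) : (E ↔ (H ↔ E)) ↔ H := by
  by_cases h : H <;> by_cases e : E <;> simp [h, e]

theorem prop_odd (H P : Prop) (hP : P) : (P ↔ H) ↔ H := by
  by_cases h : H <;> simp [h, hP]

end MODELV

/-- MODELV: abstract model of shape `(b, κ)` -/
theorem exists_model_v {F : Type u} [Field F] [Fintype F] {p : ℕ} [Fact p.Prime] [CharP F p]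
    (r : ℕ) [Fact r.Prime] (hr2 : r ≠ 2) (hrp : r ≠ p) (d : ℕ) (hyp : Bool) (b κ : ℕ)
    (hb1 : 1 ≤ b)
    (hsum : κ + (if Even (orderOf ((Fintype.card F : ℕ) : ZMod r)) then
          orderOf ((Fintype.card F : ℕ) : ZMod r)
          else 2 * orderOf ((Fintype.card F : ℕ) : ZMod r)) * b = 2 * d)
    (h0 : κ = 0 → typeC hyp (orderOf ((Fintype.card F : ℕ) : ZMod r)) b) :
    ∃ (V : Type u) (_ : AddCommGroup V) (_ : Module F V) (_ : FiniteDimensional F V)
      (Q : QuadraticForm F V) (y : Module.End F V),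
      IsYO Q y r ∧ finrank F V = 2 * d ∧ (IsHyp Q ↔ hyp = true) ∧ y ≠ 1 ∧
      ∀ W : Submodule F V, W.map y ≤ W → IsTS Q W →
        ∃ a' s : ℕ, finrank F W = a' + orderOf ((Fintype.card F : ℕ) : ZMod r) * s ∧
          (2 * a' + 2 ≤ κ ∨ (typeC hyp (orderOf ((Fintype.card F : ℕ) : ZMod r)) b ∧ 2 * a' ≤ κ)) ∧
          (Odd (orderOf ((Fintype.card F : ℕ) : ZMod r)) → s ≤ b) ∧
          (Even (orderOf ((Fintype.card F : ℕ) : ZMod r)) → s = 0 ∨
            (r - 1) / orderOf ((Fintype.card F : ℕ) : ZMod r) + 2 * s ≤ b + 1) := by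
  classical
  obtain ⟨hi0, -, -, -, -, -, -, -⟩ := cc_arith (F := F) (p := p) r hr2 hrp
  set i := orderOf ((Fintype.card F : ℕ) : ZMod r) with hi
  set c := (if Even i then i else 2 * i) with hc
  have hceven : Even c := by
    rw [hc]
    split_ifs with hev
    · exact hev
    · exact even_two_mul i
  have hcpos : 0 < c := by
    rw [hc]; split_ifs <;> omega
  have hκeven : Even κ := by
    have h2d : Even (2 * d) := even_two_mul d
    rw [← hsum] at h2d
    exact (Nat.even_add.mp h2d).mpr (hceven.mul_right b)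
  -- the fixed-point-free part
  obtain ⟨V', _, _, _, Q', y', hY', hfix', hfr', hbound'⟩ :=
    exists_fpf_model (F := F) (p := p) r hr2 hrp b hb1
  rw [← hi, ← hc] at hfr'
  -- the fixed part
  obtain ⟨ι₀, _, _, Q₀, hQ₀, hcard₀, hhyp₀⟩ :=
    exists_space_of_type (F := F) κ hκeven (decide (typeC hyp i b))
      (fun hk => decide_eq_true (h0 hk))
  have hhyp₀' : IsHyp Q₀ ↔ typeC hyp i b := by
    rw [hhyp₀, decide_eq_true_iff]
  have hfr₀ : finrank F (ι₀ → F) = κ := by
    rw [Module.finrank_fintype_fun_eq_card, hcard₀]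
  obtain ⟨hY, hker, hrange⟩ := prod_isYO Q' Q₀ y' r hY' hfix' hQ₀
  obtain ⟨htodd, hteven⟩ := fpf_type (p := p) r hr2 hrp Q' y' hY' hfix'
  rw [← hi] at htodd hteven
  refine ⟨V' × (ι₀ → F), inferInstance, inferInstance, inferInstance, Q'.prod Q₀,
    y'.prodMap 1, hY, ?_, ?_, ?_, ?_⟩
  · rw [Module.finrank_prod, hfr', hfr₀, ← hsum]; ring
  · -- the type
    have hprod := isHyp_prod_iff Q' Q₀ hY'.nondeg hQ₀ (by rw [hfr']; exact hceven.mul_right b)
      (by rw [hfr₀]; exact hκeven)
    rw [hprod, hhyp₀']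
    unfold typeC
    by_cases hev : Even i
    · rw [if_pos hev]
      have hci : c = i := by rw [hc, if_pos hev]
      have h1 := hteven hev
      rw [hfr', hci, Nat.mul_div_cancel_left _ hi0] at h1
      rw [h1]
      exact MODELV.prop_even _ _
    · rw [if_neg hev]
      have h1 := htodd (Nat.not_even_iff_odd.mp hev)
      exact MODELV.prop_odd _ _ h1
  · -- `y ≠ 1`
    intro hy1
    have hy'1 : y' = 1 := by
      apply LinearMap.ext
      intro v
      have := congrArg (fun f : Module.End F (V' × (ι₀ → F)) => (f (v, 0)).1) hy1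
      simpa using this
    have htop : LinearMap.ker (y' - 1) = ⊤ := by
      rw [hy'1, sub_self, LinearMap.ker_zero]
    rw [hfix'] at htop
    have : finrank F V' = 0 := by
      have h1 : finrank F (⊤ : Submodule F V') = 0 := by rw [← htop, finrank_bot]
      rwa [finrank_top] at h1
    rw [hfr'] at this
    have : 0 < c * b := Nat.mul_pos hcpos hb1
    omega
  · intro W hW hts
    obtain ⟨W₁, W₂, hW₁inv, hW₁ts, hW₂ts, hfrW, hdvd⟩ :=
      prod_inv_split (p := p) r hrp Q' Q₀ y' hY' hfix' W hW hts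
    rw [← hi] at hdvd
    obtain ⟨s, hs⟩ := hdvd
    refine ⟨finrank F W₂, s, by rw [hfrW, hs], ?_, ?_, ?_⟩
    · have hhalf := ts_le_half Q₀ hQ₀ W₂ hW₂ts
      rw [hfr₀] at hhalf
      by_cases heq : 2 * finrank F W₂ = κ
      · right
        refine ⟨hhyp₀'.mp ⟨W₂, hW₂ts, by rw [heq, hfr₀]⟩, hhalf⟩
      · left
        obtain ⟨k, hk⟩ := hκeven
        omega
    · intro hodd
      have hhalf := ts_le_half Q' hY'.nondeg W₁ hW₁ts
      have hci : c = 2 * i := by rw [hc, if_neg (Nat.not_even_iff_odd.mpr hodd)]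
      rw [hfr', hs, hci] at hhalf
      have : 2 * i * s ≤ 2 * i * b := by calc 2 * i * s = 2 * (i * s) := by ring
        _ ≤ 2 * i * b := hhalf
      exact Nat.le_of_mul_le_mul_left this (by omega)
    · intro hev
      have hb' := hbound' hev W₁ hW₁inv hW₁ts
      rw [← hi, hs] at hb'
      have hs' : s ≤ (b + 1 - (r - 1) / i) / 2 := Nat.le_of_mul_le_mul_left hb' hi0
      rcases Nat.eq_zero_or_pos s with h | h
      · exact Or.inl h
      · right
        omega

end Cfsg.Agent.S5973P
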