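import Cfsg.Agent.Helper27.LChDefs

set_option autoImplicit false

/-!
# S0406 piece Q6: at most `24 * |code L|` odd vectors of norm 4
-/

namespace Cfsg.Agent.Helper5.LCh

open Cfsg Matrix Cfsg.Agent.Helper27.LCh

variable {L : AddSubgroup (Fin 24 → ℤ)}

/-- an odd vector with sum of squares `32` has one entry of square `9`, the others of square `1` -/
theorem odd_shape (v : Fin 24 → ℤ) (hv : v ⬝ᵥ v = 32) (hodd : ∀ i, Odd (v i)) :
    ∃ p, v p * v p = 9 ∧ ∀ i, i ≠ p → v i * v i = 1 := by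
  classical
  have ha : ∀ i, 0 ≤ v i * v i - 1 ∧ (8 : ℤ) ∣ v i * v i - 1 := by
    intro i
    obtain ⟨k, hk⟩ := hodd i
    have h2 : (2 : ℤ) ∣ k * (k + 1) := by
      have := Int.even_mul_succ_self k
      exact this.two_dvd
    obtain ⟨m, hm⟩ := h2
    have hkk : 0 ≤ k * (k + 1) := by
      rcases le_or_gt 0 k with h | h
      · positivity
      · have h1 : k + 1 ≤ 0 := by omega
        nlinarith
    have e : v i * v i - 1 = 8 * m := by
      rw [hk]; linear_combination 4 * hm
    refine ⟨?_, ⟨m, e⟩⟩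
    rw [e]; omega
  have hsum : ∑ i, (v i * v i - 1) = 8 := by
    rw [Finset.sum_sub_distrib]
    have : ∑ i, v i * v i = 32 := by simpa [dotProduct] using hv
    rw [this]; simp
  have hex : ∃ p, v p * v p - 1 ≠ 0 := by
    by_contra hcon
    push Not at hcon
    rw [Finset.sum_eq_zero (fun i _ => hcon i)] at hsum
    omega
  obtain ⟨p, hp⟩ := hex
  have hp8 : 8 ≤ v p * v p - 1 := by
    obtain ⟨h0, m, hm⟩ := ha p
    omega
  have hsplit := Finset.add_sum_erase Finset.univ (fun i => v i * v i - 1) (Finset.mem_univ p)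
  rw [hsum] at hsplit
  have hrest0 : 0 ≤ ∑ i ∈ Finset.univ.erase p, (v i * v i - 1) :=
    Finset.sum_nonneg (fun i _ => (ha i).1)
  have hrest : ∑ i ∈ Finset.univ.erase p, (v i * v i - 1) = 0 := by
    have := hsplit
    omega
  have hpe : v p * v p - 1 = 8 := by
    have := hsplit
    omega
  refine ⟨p, by omega, fun i hi => ?_⟩
  have := (Finset.sum_eq_zero_iff_of_nonneg (fun i _ => (ha i).1)).1 hrest i
    (Finset.mem_erase.2 ⟨hi, Finset.mem_univ i⟩)
  omega

theorem odd_count (_hL : Lat L) :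
    {v | v ∈ L ∧ v ⬝ᵥ v = 32 ∧ ∀ i, Odd (v i)}.ncard ≤ 24 * Nat.card (code L) := by
  classical
  set S : Set (Fin 24 → ℤ) := {v | v ∈ L ∧ v ⬝ᵥ v = 32 ∧ ∀ i, Odd (v i)} with hS
  rcases S.eq_empty_or_nonempty with h0 | ⟨v0, hv0⟩
  · rw [h0]; simp
  -- the map
  have hmem : ∀ v ∈ S, (fun i => ((((v i - v0 i) / 2 : ℤ)) : ZMod 2)) ∈ code L := by
    intro v hv
    refine ⟨fun i => (v i - v0 i) / 2, ?_, fun i => rfl⟩
    have hsub : v - v0 ∈ L := L.sub_mem hv.1 hv0.1
    convert hsub using 1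
    funext i
    have h1 := hv.2.2 i
    have h2 := hv0.2.2 i
    obtain ⟨a, ha⟩ := h1
    obtain ⟨b, hb⟩ := h2
    simp only [Pi.sub_apply]
    omega
  have hpos : ∀ v ∈ S, ∃ p, v p * v p = 9 ∧ ∀ i, i ≠ p → v i * v i = 1 :=
    fun v hv => odd_shape v hv.2.1 hv.2.2
  let f : S → (code L) × Fin 24 := fun v =>
    (⟨_, hmem v.1 v.2⟩, Classical.choose (hpos v.1 v.2))
  have hf : Function.Injective f := by
    rintro ⟨v, hv⟩ ⟨w, hw⟩ hvw
    have h1 : (fun i => ((((v i - v0 i) / 2 : ℤ)) : ZMod 2))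
        = (fun i => ((((w i - v0 i) / 2 : ℤ)) : ZMod 2)) := by
      have := congrArg (fun x => (x.1 : Fin 24 → ZMod 2)) hvw
      simpa [f] using this
    have h2 : Classical.choose (hpos v hv) = Classical.choose (hpos w hw) := by
      have := congrArg (fun x => x.2) hvw
      simpa [f] using this
    have hpv := Classical.choose_spec (hpos v hv)
    have hpw := Classical.choose_spec (hpos w hw)
    rw [h2] at hpv
    set p := Classical.choose (hpos w hw) with hp
    apply Subtype.ext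
    funext i
    show v i = w i
    have hsq : v i * v i = w i * w i := by
      by_cases hi : i = p
      · subst hi; rw [hpv.1, hpw.1]
      · rw [hpv.2 i hi, hpw.2 i hi]
    have hc := congrFun h1 i
    rw [ZMod.intCast_eq_intCast_iff_dvd_sub] at hc
    obtain ⟨a, ha⟩ := hv.2.2 i
    obtain ⟨b, hb⟩ := hw.2.2 i
    obtain ⟨c, hc0⟩ := hv0.2.2 i
    have hfac : (v i - w i) * (v i + w i) = 0 := by linear_combination hsq
    rcases mul_eq_zero.1 hfac with h | h
    · omega
    · exfalso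
      have hc' : ((2 : ℕ) : ℤ) ∣ (w i - v0 i) / 2 - (v i - v0 i) / 2 := hc
      push_cast at hc'
      omega
  have hfin : Finite ((code L) × Fin 24) := inferInstance
  have hle := Nat.card_le_card_of_injective f hf
  rw [Nat.card_prod, Nat.card_eq_fintype_card (α := Fin 24), Fintype.card_fin] at hle
  rw [← Nat.card_coe_set_eq]
  calc Nat.card S ≤ Nat.card (code L) * 24 := hle
    _ = 24 * Nat.card (code L) := Nat.mul_comm _ _

end Cfsg.Agent.Helper5.LCh
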