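import Mathlib
import Cfsg.Agent.S0713

set_option autoImplicit false
set_option linter.unusedSectionVars false
set_option linter.unusedVariables false

/-! # S0679 (insoluble transitive groups of degree 11), chapter (6) (designer helper18), piece ORD:
stabiliser orders 72 / 8 by orbit-stabiliser on `Fin k ↪ α`. -/

namespace Cfsg.Agent.S0679P

open Equiv MulAction

variable {α : Type*} [Fintype α] [DecidableEq α] {G : Subgroup (Equiv.Perm α)}

theorem ORD2 (h11 : Fintype.card α = 11) (h2 : IsMultiplyPretransitive G α 2)
    (hord : Nat.card G = 7920) (x : Fin 2 ↪ α) : Nat.card (stabilizer G x) = 72 := by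
  classical
  have hcardE : Nat.card (Fin 2 ↪ α) = 110 := by
    rw [Nat.card_eq_fintype_card, Fintype.card_embedding_eq, h11, Fintype.card_fin]
    rfl
  have hix : (stabilizer G x).index = Nat.card (Fin 2 ↪ α) :=
    @MulAction.index_stabilizer_of_transitive (↥G) (Fin 2 ↪ α) _ _ x h2
  have hidx : Nat.card (stabilizer G x) * (stabilizer G x).index = 7920 := by
    rw [Subgroup.card_mul_index, hord]
  rw [hix, hcardE] at hidx
  omega

theorem ORD3 (h11 : Fintype.card α = 11) (h3 : IsMultiplyPretransitive G α 3)
    (hord : Nat.card G = 7920) (x : Fin 3 ↪ α) : Nat.card (stabilizer G x) = 8 := by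
  classical
  have hcardE : Nat.card (Fin 3 ↪ α) = 990 := by
    rw [Nat.card_eq_fintype_card, Fintype.card_embedding_eq, h11, Fintype.card_fin]
    rfl
  have hix : (stabilizer G x).index = Nat.card (Fin 3 ↪ α) :=
    @MulAction.index_stabilizer_of_transitive (↥G) (Fin 3 ↪ α) _ _ x h3
  have hidx : Nat.card (stabilizer G x) * (stabilizer G x).index = 7920 := by
    rw [Subgroup.card_mul_index, hord]
  rw [hix, hcardE] at hidx
  omega

end Cfsg.Agent.S0679P
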