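import Mathlib
import Cfsg.Agent.Helper5.S2096TXID

set_option autoImplicit false
set_option linter.unusedSectionVars false
set_option linter.unusedVariables false

/-! S2096/S2097 part B, piece TXCHAIN (helper5; driver helper2): the chain identity of the torus
elements, from the corresponding matrix identity in `SL_n` through a half. -/

namespace Cfsg.Agent.S2096P

open Matrix Cfsg.Agent.S3352P Cfsg.Agent.S3351P Cfsg.Agent.S2086P

variable {n : ℕ} {F : Type*} [Field F] [Fintype F] {M : Type*} [Group M] {X : J n → J n → F → M}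

namespace TXCHAIN

open Cfsg.Agent.Helper2 TXID

/-- the homomorphism from the Steinberg group of type `A` adapted to three roots -/
theorem exists_hom_triple (hX : DRel X) {a b c : J n} (hab : IsRoot a b) (hbc : IsRoot b c)
    (hac : IsRoot a c) :
    ∃ Θ : Stn.G F n →* M, ∀ x y : J n, (x = a ∨ x = b ∨ x = c) → (y = a ∨ y = b ∨ y = c) →
      ab x ≠ ab y → ∀ t : F, Θ (Stn.xg (ab x) (ab y) t) = X x y t := by
  classical
  obtain ⟨Θ, hΘ⟩ := exists_half_hom hX
    (Finset.univ.filter (fun k : Fin n => (fun d : J n => d = a ∨ d = b ∨ d = c) (Sum.inr k)))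
  have key : ∀ x : J n, (x = a ∨ x = b ∨ x = c) →
      half (Finset.univ.filter (fun k : Fin n => (fun d : J n => d = a ∨ d = b ∨ d = c) (Sum.inr k)))
        (ab x) = x := by
    intro x hx
    apply half_filter (fun d : J n => d = a ∨ d = b ∨ d = c) hx
    intro hnx
    have h1 : ∀ y : J n, (y = a ∨ y = b ∨ y = c) → ab y = ab x → y = x := by
      intro y hy hyx
      by_contra hne
      have hr : IsRoot y x := by
        rcases hy with rfl | rfl | rfl <;> rcases hx with rfl | rfl | rfl <;>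
          first
          | exact absurd rfl hne
          | exact hab
          | exact hab.symm
          | exact hbc
          | exact hbc.symm
          | exact hac
          | exact hac.symm
      exact isRoot_iff_ab.1 hr hyx
    have h2 := h1 (ng x) hnx (ab_ng x)
    exact ng_ne x h2
  refine ⟨Θ, ?_⟩
  intro x y hx hy hxy t
  rw [hΘ _ _ t hxy, key x hx, key y hy]

theorem phi_xg_smul_other {i j k : Fin n} (hij : i ≠ j) (hkj : k ≠ j) (t : F) :
    Stn.phi (Stn.xg i j t) • (Pi.single k 1 : Fin n → F) = Pi.single k 1 := by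
  rw [Stn.phi_xg hij, Stn.tv_smul, Pi.single_apply, if_neg hkj.symm, mul_zero, zero_smul, add_zero]

theorem phi_wg_smul_other {i j k : Fin n} (hij : i ≠ j) (hki : k ≠ i) (hkj : k ≠ j) (t : F) :
    Stn.phi (Stn.wg i j t) • (Pi.single k 1 : Fin n → F) = Pi.single k 1 := by
  rw [Stn.wg_def, map_mul, map_mul, mul_smul, mul_smul, phi_xg_smul_other hij hkj,
    phi_xg_smul_other hij.symm hki, phi_xg_smul_other hij hkj]

theorem phi_hg_smul_other {i j k : Fin n} (hij : i ≠ j) (hki : k ≠ i) (hkj : k ≠ j) (t : F) :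
    Stn.phi (Stn.hg i j t) • (Pi.single k 1 : Fin n → F) = Pi.single k 1 := by
  rw [Stn.hg_def, map_mul, mul_smul, phi_wg_smul_other hij hki hkj, phi_wg_smul_other hij hki hkj]

theorem phi_hg_smul_snd {i j : Fin n} (hij : i ≠ j) {t : F} (ht : t ≠ 0) :
    Stn.phi (Stn.hg i j t) • (Pi.single j 1 : Fin n → F) = t⁻¹ • Pi.single j 1 := by
  rw [Stn.hg_def, map_mul, mul_smul, Stn.phi_wg_smul_snd hij (neg_ne_zero.mpr one_ne_zero),
    smul_comm, Stn.phi_wg_smul_fst hij ht, smul_smul]
  congr 1
  ring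

theorem sl_ext_single {A B : Matrix.SpecialLinearGroup (Fin n) F}
    (h : ∀ l : Fin n, A • (Pi.single l 1 : Fin n → F) = B • Pi.single l 1) : A = B := by
  apply Matrix.SpecialLinearGroup.ext
  intro i j
  have h1 := congrFun (h j) i
  rw [Matrix.SpecialLinearGroup.smul_def, Matrix.SpecialLinearGroup.smul_def,
    Matrix.smul_eq_mulVec, Matrix.smul_eq_mulVec, Matrix.mulVec_single_one,
    Matrix.mulVec_single_one] at h1
  exact h1

/-- the chain identity in the Steinberg group of type `A` -/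
theorem hg_chain (h3 : 3 ≤ n) {i j k : Fin n} (hij : i ≠ j) (hjk : j ≠ k) (hik : i ≠ k) {t : F}
    (ht : t ≠ 0) : Stn.hg i k t = Stn.hg i j t * Stn.hg j k t := by
  apply Stn.phi_injective h3
  apply sl_ext_single
  intro l
  rw [map_mul, mul_smul]
  by_cases hli : l = i
  · subst hli
    rw [Stn.phi_hg_smul hik ht, phi_hg_smul_other hjk hij hik, Stn.phi_hg_smul hij ht]
  by_cases hlj : l = j
  · subst hlj
    rw [phi_hg_smul_other hik hli hjk, Stn.phi_hg_smul hjk ht, smul_comm,
      phi_hg_smul_snd hij ht, smul_smul, mul_inv_cancel₀ ht, one_smul]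
  by_cases hlk : l = k
  · subst hlk
    rw [phi_hg_smul_snd hik ht, phi_hg_smul_snd hjk ht, smul_comm,
      phi_hg_smul_other hij hli hlj]
  · rw [phi_hg_smul_other hik hli hlk, phi_hg_smul_other hjk hlj hlk,
      phi_hg_smul_other hij hli hlj]

end TXCHAIN

open TXCHAIN TXID Cfsg.Agent.Helper2 in
/-- TXCHAIN -/
theorem tX_chain (hn : 3 ≤ n) (hX : DRel X) {a b c : J n} (hab : IsRoot a b) (hbc : IsRoot b c)
    (hac : IsRoot a c) {t : F} (ht : t ≠ 0) : tX X a c t = tX X a b t * tX X b c t := by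
  obtain ⟨Θ, hΘ⟩ := exists_hom_triple hX hab hbc hac
  have hij : ab a ≠ ab b := isRoot_iff_ab.1 hab
  have hjk : ab b ≠ ab c := isRoot_iff_ab.1 hbc
  have hik : ab a ≠ ab c := isRoot_iff_ab.1 hac
  have pa : a = a ∨ a = b ∨ a = c := Or.inl rfl
  have pb : b = a ∨ b = b ∨ b = c := Or.inr (Or.inl rfl)
  have pc : c = a ∨ c = b ∨ c = c := Or.inr (Or.inr rfl)
  rw [← map_hg (hΘ a c pa pc hik) (hΘ c a pc pa hik.symm),
    ← map_hg (hΘ a b pa pb hij) (hΘ b a pb pa hij.symm),
    ← map_hg (hΘ b c pb pc hjk) (hΘ c b pc pb hjk.symm), ← map_mul, hg_chain hn hij hjk hik ht]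

end Cfsg.Agent.S2096P
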