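import Mathlib
import Cfsg.Agent.Helper16.S3266Defs

set_option autoImplicit false

/-! S3266 piece C2: common neighbour in characteristic 2. -/

namespace Cfsg.Agent.Helper5.S3266C2

variable {F : Type*} [Field F]

/-- structure of an involution matrix in characteristic 2 -/
theorem entries (h2 : (2 : F) = 0) (A : Matrix (Fin 2) (Fin 2) F) (hA : A ≠ 1) (hA2 : A * A = 1) :
    A 0 0 + A 1 1 = 0 ∧ (A 0 1 ≠ 0 ∨ A 1 0 ≠ 0) := by
  have e00 := congrFun (congrFun hA2 0) 0
  have e01 := congrFun (congrFun hA2 0) 1
  have e10 := congrFun (congrFun hA2 1) 0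
  have e11 := congrFun (congrFun hA2 1) 1
  simp only [Matrix.mul_apply, Fin.sum_univ_two, Matrix.one_apply_eq, Matrix.one_apply_ne,
    ne_eq, Fin.isValue, zero_ne_one, one_ne_zero, not_false_eq_true] at e00 e01 e10 e11
  have hbc : A 0 1 ≠ 0 ∨ A 1 0 ≠ 0 := by
    by_contra hcon
    push Not at hcon
    obtain ⟨hb, hc⟩ := hcon
    rw [hb, hc] at e00 e11
    simp only [mul_zero, add_zero, zero_mul, zero_add] at e00 e11
    have ha : A 0 0 = 1 := by
      have : (A 0 0 + 1) * (A 0 0 + 1) = 0 := by linear_combination e00 + (A 0 0 + 1) * h2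
      have := mul_self_eq_zero.mp this
      linear_combination this - h2
    have hd : A 1 1 = 1 := by
      have : (A 1 1 + 1) * (A 1 1 + 1) = 0 := by linear_combination e11 + (A 1 1 + 1) * h2
      have := mul_self_eq_zero.mp this
      linear_combination this - h2
    apply hA
    ext i j
    fin_cases i <;> fin_cases j <;> simp [ha, hd, hb, hc]
  refine ⟨?_, hbc⟩
  rcases hbc with hb | hc
  · have : A 0 1 * (A 0 0 + A 1 1) = 0 := by linear_combination e01
    rcases mul_eq_zero.mp this with h | h
    · exact absurd h hb
    · exact h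
  · have : A 1 0 * (A 0 0 + A 1 1) = 0 := by linear_combination e10
    rcases mul_eq_zero.mp this with h | h
    · exact absurd h hc
    · exact h

end Cfsg.Agent.Helper5.S3266C2

namespace Cfsg.Agent.S3266P

variable {F : Type*} [Field F]

open Cfsg.Agent.Helper5.S3266C2 in
/-- C2 -/
theorem core_two (h2 : (2 : F) = 0) (A B : M2 F)
    (hA : A ≠ 1) (hA2 : A * A = 1) (hAd : A.det = 1)
    (hB : B ≠ 1) (hB2 : B * B = 1) (hBd : B.det = 1) :
    ∃ C : M2 F, C ≠ 1 ∧ C * C = 1 ∧ C.det = 1 ∧ (A * C).trace ≠ 0 ∧ (C * B).trace ≠ 0 := by
  obtain ⟨hAt, hAbc⟩ := entries h2 A hA hA2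
  obtain ⟨hBt, hBbc⟩ := entries h2 B hB hB2
  have h11 : (1 : F) + 1 = 0 := by rw [← h2]; norm_num
  have hm1 : (-1 : F) = 1 := by linear_combination -h11
  by_cases hc : A 1 0 ≠ 0 ∧ B 1 0 ≠ 0
  · refine ⟨!![1, 1; 0, 1], ?_, ?_, ?_, ?_, ?_⟩
    · intro h
      have := congrFun (congrFun h 0) 1
      simp at this
    · ext i j
      fin_cases i <;> fin_cases j <;> simp [Matrix.mul_apply, Fin.sum_univ_two, h11]
    · simp [Matrix.det_fin_two_of]
    · have : (A * !![1, 1; 0, 1]).trace = A 1 0 := by
        simp only [Matrix.trace_fin_two, Matrix.mul_apply, Fin.sum_univ_two, Matrix.of_apply,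
          Matrix.cons_val', Matrix.cons_val_zero, Matrix.cons_val_one, Matrix.empty_val',
          Matrix.cons_val_fin_one]
        linear_combination hAt
      rw [this]; exact hc.1
    · have : ((!![1, 1; 0, 1] : M2 F) * B).trace = B 1 0 := by
        simp only [Matrix.trace_fin_two, Matrix.mul_apply, Fin.sum_univ_two, Matrix.of_apply,
          Matrix.cons_val', Matrix.cons_val_zero, Matrix.cons_val_one, Matrix.empty_val',
          Matrix.cons_val_fin_one]
        linear_combination hBt
      rw [this]; exact hc.2
  · by_cases hb : A 0 1 ≠ 0 ∧ B 0 1 ≠ 0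
    · refine ⟨!![1, 0; 1, 1], ?_, ?_, ?_, ?_, ?_⟩
      · intro h
        have := congrFun (congrFun h 1) 0
        simp at this
      · ext i j
        fin_cases i <;> fin_cases j <;> simp [Matrix.mul_apply, Fin.sum_univ_two, h11]
      · simp [Matrix.det_fin_two_of]
      · have : (A * !![1, 0; 1, 1]).trace = A 0 1 := by
          simp only [Matrix.trace_fin_two, Matrix.mul_apply, Fin.sum_univ_two, Matrix.of_apply,
            Matrix.cons_val', Matrix.cons_val_zero, Matrix.cons_val_one, Matrix.empty_val',
            Matrix.cons_val_fin_one]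
          linear_combination hAt
        rw [this]; exact hb.1
      · have : ((!![1, 0; 1, 1] : M2 F) * B).trace = B 0 1 := by
          simp only [Matrix.trace_fin_two, Matrix.mul_apply, Fin.sum_univ_two, Matrix.of_apply,
            Matrix.cons_val', Matrix.cons_val_zero, Matrix.cons_val_one, Matrix.empty_val',
            Matrix.cons_val_fin_one]
          linear_combination hBt
        rw [this]; exact hb.2
    · refine ⟨!![0, 1; 1, 0], ?_, ?_, ?_, ?_, ?_⟩
      · intro h
        have := congrFun (congrFun h 0) 1
        simp at this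
      · ext i j
        fin_cases i <;> fin_cases j <;> simp [Matrix.mul_apply, Fin.sum_univ_two]
      · simp [Matrix.det_fin_two_of, hm1]
      · have : (A * !![0, 1; 1, 0]).trace = A 0 1 + A 1 0 := by
          simp only [Matrix.trace_fin_two, Matrix.mul_apply, Fin.sum_univ_two, Matrix.of_apply,
            Matrix.cons_val', Matrix.cons_val_zero, Matrix.cons_val_one, Matrix.empty_val',
            Matrix.cons_val_fin_one]
          ring
        rw [this]
        push Not at hc hb
        by_cases h1 : A 1 0 = 0
        · rw [h1, add_zero]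
          rcases hAbc with h | h
          · exact h
          · exact absurd h1 h
        · have h3 : B 1 0 = 0 := hc h1
          have h4 : B 0 1 ≠ 0 := by
            rcases hBbc with h | h
            · exact h
            · exact absurd h3 h
          have h5 : A 0 1 = 0 := by
            by_contra h6
            exact h4 (hb h6)
          rw [h5, zero_add]; exact h1
      · have : ((!![0, 1; 1, 0] : M2 F) * B).trace = B 0 1 + B 1 0 := by
          simp only [Matrix.trace_fin_two, Matrix.mul_apply, Fin.sum_univ_two, Matrix.of_apply,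
            Matrix.cons_val', Matrix.cons_val_zero, Matrix.cons_val_one, Matrix.empty_val',
            Matrix.cons_val_fin_one]
          ring
        rw [this]
        push Not at hc hb
        by_cases h1 : B 1 0 = 0
        · rw [h1, add_zero]
          rcases hBbc with h | h
          · exact h
          · exact absurd h1 h
        · have h3 : A 1 0 = 0 := by
            by_contra h6
            exact h1 (hc h6)
          have h4 : A 0 1 ≠ 0 := by
            rcases hAbc with h | h
            · exact h
            · exact absurd h3 h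
          have h5 : B 0 1 = 0 := hb h4
          rw [h5, zero_add]; exact h1

end Cfsg.Agent.S3266P
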