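import Mathlib
import Cfsg.Agent.Helper16.S3266Defs
import Cfsg.Agent.Helper12.PSL2Basic
import Cfsg.Agent.Helper12.SL2Conj

set_option autoImplicit false

/-! S3266 piece NADJ: two distinct involutions of PSL(2,F) whose product is an involution. -/

namespace Cfsg.Agent.Helper5.S3266NADJ

open Cfsg.Agent.S3266P Cfsg.Agent.Helper12

variable {F : Type*} [Field F]

/-- a non-scalar element of `SL₂` whose square is scalar maps to an involution -/
theorem orderOf_pr_eq_two (M : S2 F) (c : F) (hsq : M.1 * M.1 = c • (1 : M2 F))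
    (hns : ¬ IsScalar2 M.1) : orderOf (pr F M) = 2 := by
  have : Fact (Nat.Prime 2) := ⟨Nat.prime_two⟩
  apply orderOf_eq_prime
  · show (QuotientGroup.mk M : P2 F) ^ 2 = 1
    apply psl2_mk_pow_eq_one_of_scalar M 2 c
    rw [pow_two, hsq]
  · show (QuotientGroup.mk M : P2 F) ≠ 1
    rw [Ne, psl2_mk_eq_one_iff]
    exact hns

theorem pr_ne (M N : S2 F) (hns : ¬ IsScalar2 (M⁻¹ * N).1) : pr F M ≠ pr F N := by
  intro h
  have h1 : pr F (M⁻¹ * N) = 1 := by
    rw [map_mul, map_inv, h, inv_mul_cancel]
  have h2 : (QuotientGroup.mk (M⁻¹ * N) : P2 F) = 1 := h1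
  rw [psl2_mk_eq_one_iff] at h2
  exact hns h2

theorem orderOf_swap {G : Type*} [Group G] (x y : G) (hx : orderOf x = 2) (hy : orderOf y = 2) :
    orderOf (y * x) = orderOf (x * y) := by
  have hx2 : x * x = 1 := by rw [← pow_two, ← hx]; exact pow_orderOf_eq_one x
  have hy2 : y * y = 1 := by rw [← pow_two, ← hy]; exact pow_orderOf_eq_one y
  have hxi : x⁻¹ = x := inv_eq_of_mul_eq_one_left hx2
  have hyi : y⁻¹ = y := inv_eq_of_mul_eq_one_left hy2
  have : y * x = (x * y)⁻¹ := by rw [mul_inv_rev, hxi, hyi]
  rw [this, orderOf_inv]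

end Cfsg.Agent.Helper5.S3266NADJ

namespace Cfsg.Agent.S3266P

open Cfsg.Agent.Helper12 Cfsg.Agent.Helper5.S3266NADJ

variable {F : Type*} [Field F]

/-- NADJ -/
theorem exists_nonadj [Fintype F] (hF : 4 ≤ Fintype.card F) :
    ∃ x y : P2 F, orderOf x = 2 ∧ orderOf y = 2 ∧ x ≠ y ∧ ¬ Odd (orderOf (x * y)) ∧
      ¬ Odd (orderOf (y * x)) := by
  classical
  have hnodd : ¬ Odd 2 := by decide
  by_cases h2 : (2 : F) = 0
  · -- characteristic 2
    have h11 : (1 : F) + 1 = 0 := by rw [← h2]; norm_num
    -- an element c ≠ 0, 1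
    obtain ⟨c, hc0, hc1⟩ : ∃ c : F, c ≠ 0 ∧ c ≠ 1 := by
      by_contra hcon
      push Not at hcon
      have hsub : (Finset.univ : Finset F) ⊆ {0, 1} := by
        intro x _
        by_cases hx : x = 0
        · simp [hx]
        · simp [hcon x hx]
      have := Finset.card_le_card hsub
      rw [Finset.card_univ] at this
      have h3 : ({0, 1} : Finset F).card ≤ 2 := Finset.card_le_two
      omega
    let A : S2 F := ⟨!![1, 1; 0, 1], by simp [Matrix.det_fin_two_of]⟩
    let B : S2 F := ⟨!![1, c; 0, 1], by simp [Matrix.det_fin_two_of]⟩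
    have hA : orderOf (pr F A) = 2 := by
      apply orderOf_pr_eq_two A 1
      · show (!![1, 1; 0, 1] : M2 F) * !![1, 1; 0, 1] = (1 : F) • (1 : M2 F)
        ext i j
        fin_cases i <;> fin_cases j <;> simp [Matrix.mul_apply, Fin.sum_univ_two, h11]
      · intro h
        have : (!![1, 1; 0, 1] : M2 F) 0 1 = 0 := h.1
        simp at this
    have hB : orderOf (pr F B) = 2 := by
      apply orderOf_pr_eq_two B 1
      · show (!![1, c; 0, 1] : M2 F) * !![1, c; 0, 1] = (1 : F) • (1 : M2 F)
        ext i j
        fin_cases i <;> fin_cases j <;> simp [Matrix.mul_apply, Fin.sum_univ_two]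
        linear_combination c * h2
      · intro h
        have : (!![1, c; 0, 1] : M2 F) 0 1 = 0 := h.1
        simp at this
        exact hc0 this
    have hAB : orderOf (pr F A * pr F B) = 2 := by
      rw [← map_mul]
      apply orderOf_pr_eq_two (A * B) 1
      · show ((!![1, 1; 0, 1] : M2 F) * !![1, c; 0, 1]) * ((!![1, 1; 0, 1] : M2 F) * !![1, c; 0, 1])
          = (1 : F) • (1 : M2 F)
        ext i j
        fin_cases i <;> fin_cases j <;> simp [Matrix.mul_apply, Fin.sum_univ_two]
        linear_combination (c + 1) * h2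
      · intro h
        have : ((!![1, 1; 0, 1] : M2 F) * !![1, c; 0, 1]) 0 1 = 0 := h.1
        simp [Matrix.mul_apply, Fin.sum_univ_two] at this
        apply hc1
        linear_combination this - h11
    refine ⟨pr F A, pr F B, hA, hB, ?_, ?_, ?_⟩
    · apply pr_ne
      intro h
      have h3 : (A⁻¹ * B).1 0 1 = 0 := h.1
      have h4 : (A⁻¹ * B).1 = (!![1, -1; 0, 1] : M2 F) * !![1, c; 0, 1] := by
        rw [Matrix.SpecialLinearGroup.coe_mul, Matrix.SpecialLinearGroup.coe_inv]
        congr 1
        show Matrix.adjugate (!![1, 1; 0, 1] : M2 F) = _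
        rw [Matrix.adjugate_fin_two_of]
        simp
      rw [h4] at h3
      simp [Matrix.mul_apply, Fin.sum_univ_two] at h3
      apply hc1
      linear_combination h3
    · rw [hAB]; exact hnodd
    · rw [orderOf_swap _ _ hA hB, hAB]; exact hnodd
  · -- odd characteristic
    have h4 : (4 : F) ≠ 0 := by
      have : (4 : F) = 2 * 2 := by norm_num
      rw [this]; exact mul_ne_zero h2 h2
    obtain ⟨a, b, hab⟩ := exists_norm_form_eq (0 : F) (-1 : F)
      (Or.inr (by rw [zero_pow (by norm_num)]; exact fun h => h4 h.symm))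
    have hab' : a ^ 2 + b ^ 2 = -1 := by linear_combination hab
    let A : S2 F := ⟨!![0, 1; -1, 0], by simp [Matrix.det_fin_two_of]⟩
    let B : S2 F := ⟨!![a, b; b, -a], by
      rw [Matrix.det_fin_two_of]; linear_combination -hab'⟩
    have hA : orderOf (pr F A) = 2 := by
      apply orderOf_pr_eq_two A (-1)
      · show (!![0, 1; -1, 0] : M2 F) * !![0, 1; -1, 0] = (-1 : F) • (1 : M2 F)
        ext i j
        fin_cases i <;> fin_cases j <;> simp [Matrix.mul_apply, Fin.sum_univ_two]
      · intro h
        have : (!![0, 1; -1, 0] : M2 F) 0 1 = 0 := h.1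
        simp at this
    have hB : orderOf (pr F B) = 2 := by
      apply orderOf_pr_eq_two B (-1)
      · show (!![a, b; b, -a] : M2 F) * !![a, b; b, -a] = (-1 : F) • (1 : M2 F)
        ext i j
        fin_cases i <;> fin_cases j <;> simp [Matrix.mul_apply, Fin.sum_univ_two]
        · linear_combination hab'
        · ring
        · ring
        · linear_combination hab'
      · intro h
        have h5 : (!![a, b; b, -a] : M2 F) 0 1 = 0 := h.1
        have h6 : (!![a, b; b, -a] : M2 F) 0 0 = (!![a, b; b, -a] : M2 F) 1 1 := h.2.2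
        simp at h5 h6
        have h7 : a = 0 := by
          have : 2 * a = 0 := by linear_combination h6
          rcases mul_eq_zero.mp this with h | h
          · exact absurd h h2
          · exact h
        rw [h5, h7] at hab'
        norm_num at hab'
    have hAB : orderOf (pr F A * pr F B) = 2 := by
      rw [← map_mul]
      apply orderOf_pr_eq_two (A * B) (-1)
      · show ((!![0, 1; -1, 0] : M2 F) * !![a, b; b, -a]) * ((!![0, 1; -1, 0] : M2 F) * !![a, b; b, -a])
          = (-1 : F) • (1 : M2 F)
        ext i j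
        fin_cases i <;> fin_cases j <;> simp [Matrix.mul_apply, Fin.sum_univ_two]
        · linear_combination hab'
        · ring
        · ring
        · linear_combination hab'
      · intro h
        have h5 : ((!![0, 1; -1, 0] : M2 F) * !![a, b; b, -a]) 0 1 = 0 := h.1
        have h6 : ((!![0, 1; -1, 0] : M2 F) * !![a, b; b, -a]) 0 0 =
          ((!![0, 1; -1, 0] : M2 F) * !![a, b; b, -a]) 1 1 := h.2.2
        simp [Matrix.mul_apply, Fin.sum_univ_two] at h5 h6
        have h7 : b = 0 := by
          have : 2 * b = 0 := by linear_combination h6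
          rcases mul_eq_zero.mp this with h | h
          · exact absurd h h2
          · exact h
        rw [h5, h7] at hab'
        norm_num at hab'
    refine ⟨pr F A, pr F B, hA, hB, ?_, ?_, ?_⟩
    · apply pr_ne
      intro h
      have h4' : (A⁻¹ * B).1 = (!![0, -1; 1, 0] : M2 F) * !![a, b; b, -a] := by
        rw [Matrix.SpecialLinearGroup.coe_mul, Matrix.SpecialLinearGroup.coe_inv]
        congr 1
        show Matrix.adjugate (!![0, 1; -1, 0] : M2 F) = _
        rw [Matrix.adjugate_fin_two_of]
        simp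
      have h5 : (A⁻¹ * B).1 0 1 = 0 := h.1
      have h6 : (A⁻¹ * B).1 0 0 = (A⁻¹ * B).1 1 1 := h.2.2
      rw [h4'] at h5 h6
      simp [Matrix.mul_apply, Fin.sum_univ_two] at h5 h6
      have h7 : b = 0 := by
        have : 2 * b = 0 := by linear_combination -h6
        rcases mul_eq_zero.mp this with h | h
        · exact absurd h h2
        · exact h
      rw [h5, h7] at hab'
      norm_num at hab'
    · rw [hAB]; exact hnodd
    · rw [orderOf_swap _ _ hA hB, hAB]; exact hnodd

end Cfsg.Agent.S3266P
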