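import Mathlib
import Cfsg.Prelude.Def_Classical
import Cfsg.Prelude.Def_GeometricClasses
import Cfsg.Agent.Helper5.S5973Defs
import Cfsg.Agent.Helper5.S5973TRICK
import Cfsg.Agent.Helper10.S5961FIXSPLIT
import Cfsg.Agent.Helper13.S5973HCANCEL

set_option autoImplicit false
open scoped MatrixGroups

/-! S5973 + S5987, piece CNSPLIT: `V = ker (y - 1) ⊥ range (y - 1)` for a quadratic space. -/

universe u

namespace Cfsg.Agent.S5973P

open Module Polynomial Cfsg.Agent.S5955P Cfsg.Agent.S5961P Cfsg.Agent.Helper2.SympInvol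
  Cfsg.Agent.Helper2.SympUnits

/-- CNSPLIT: `V = ker (y - 1) ⊥ range (y - 1)` for a quadratic space -/
theorem cn_split {F V : Type*} [Field F] [AddCommGroup V] [Module F V] [FiniteDimensional F V]
    {p : ℕ} [Fact p.Prime] [CharP F p] (r : ℕ) [Fact r.Prime] (hrp : r ≠ p)
    (Q : QuadraticForm F V) (y : Module.End F V) (h : IsYO Q y r) :
    IsCompl (LinearMap.ker (y - 1)) (LinearMap.range (y - 1)) ∧
    POrth Q (LinearMap.ker (y - 1)) (LinearMap.range (y - 1)) ∧
    ND (resQ Q (LinearMap.ker (y - 1))) ∧ ND (resQ Q (LinearMap.range (y - 1))) ∧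
    ∃ hN : ∀ v ∈ LinearMap.range (y - 1), y v ∈ LinearMap.range (y - 1),
      IsYO (resQ Q (LinearMap.range (y - 1))) (y.restrict hN) r ∧
      LinearMap.ker (y.restrict hN - 1) = ⊥ := by
  have hyB : ∀ u v, QuadraticMap.polarBilin Q (y u) (y v) = QuadraticMap.polarBilin Q u v :=
    fun u v => TRICK.polar_isom Q y h.isom u v
  obtain ⟨hcompl, hCN, -, hNinv, -⟩ :=
    fix_split (p := p) r hrp (QuadraticMap.polarBilin Q) y hyB h.pow
  have horth : POrth Q (LinearMap.ker (y - 1)) (LinearMap.range (y - 1)) :=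
    fun a ha b hb => hCN a ha b hb
  have hndC := HCANCEL.nd_res_left Q h.nondeg _ _ hcompl horth
  have hndN := HCANCEL.nd_res_left Q h.nondeg _ _ hcompl.symm (HCANCEL.porth_symm Q horth)
  have hN : ∀ v ∈ LinearMap.range (y - 1), y v ∈ LinearMap.range (y - 1) :=
    fun v hv => hNinv ⟨v, hv, rfl⟩
  refine ⟨hcompl, horth, hndC, hndN, hN, ⟨hndN, ?_, ?_⟩, ?_⟩
  · intro v
    rw [resQ_apply, resQ_apply]
    exact h.isom v
  · apply LinearMap.ext
    intro v
    apply Subtype.ext
    have : ∀ k : ℕ, ∀ w : LinearMap.range (y - 1),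
        (((y.restrict hN) ^ k) w : V) = (y ^ k) (w : V) := by
      intro k
      induction k with
      | zero => intro w; simp
      | succ k ih =>
        intro w
        rw [pow_succ', Module.End.mul_apply, pow_succ', Module.End.mul_apply,
          LinearMap.coe_restrict_apply, ih]
    rw [this, h.pow]
    rfl
  · rw [Submodule.eq_bot_iff]
    intro v hv
    rw [LinearMap.mem_ker, LinearMap.sub_apply, Module.End.one_apply, sub_eq_zero] at hv
    have hv' : y (v : V) = v := by
      have := congrArg Subtype.val hv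
      simpa using this
    have hmem : (v : V) ∈ LinearMap.ker (y - 1) ⊓ LinearMap.range (y - 1) := by
      refine ⟨?_, v.2⟩
      show (v : V) ∈ LinearMap.ker (y - 1)
      rw [LinearMap.mem_ker, LinearMap.sub_apply, Module.End.one_apply, hv', sub_self]
    rw [hcompl.inf_eq_bot] at hmem
    apply Subtype.ext
    exact (Submodule.mem_bot F).mp hmem

end Cfsg.Agent.S5973P
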