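import Mathlib
import Cfsg.Prelude.Def_Classical
import Cfsg.Prelude.Def_GeometricClasses
import Cfsg.Agent.Helper5.S5973Defs
import Cfsg.Agent.Helper5.S5973CNSPLIT
import Cfsg.Agent.Helper18.S5961ARITH
import Cfsg.Agent.Helper22.S5973NDVD
import Cfsg.Agent.Helper3.S5973NTYPE
import Cfsg.Agent.Helper13.S5973HYPSUM

set_option autoImplicit false
open scoped MatrixGroups

/-! S5973 + S5987, piece SHAPE: the shape `(b, κ)` of an isometry of odd prime order and the type of its
fixed space. -/

universe u

namespace Cfsg.Agent.S5973P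

open Module Polynomial Cfsg.Agent.S5955P Cfsg.Agent.S5961P Cfsg.Agent.Helper2.SympInvol
  Cfsg.Agent.Helper2.SympUnits

/-- SHAPE: the shape `(b, κ)` of an isometry of odd prime order and the type of its fixed space -/
theorem shape {F V : Type*} [Field F] [Fintype F] [AddCommGroup V] [Module F V]
    [FiniteDimensional F V] {p : ℕ} [Fact p.Prime] [CharP F p] (r : ℕ) [Fact r.Prime]
    (hr2 : r ≠ 2) (hrp : r ≠ p) (Q : QuadraticForm F V) (y : Module.End F V) (h : IsYO Q y r)
    (d : ℕ) (hd : finrank F V = 2 * d) (hyp : Bool) (hhyp : IsHyp Q ↔ hyp = true) :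
    ∃ b : ℕ,
      finrank F (LinearMap.range (y - 1)) =
        (if Even (orderOf ((Fintype.card F : ℕ) : ZMod r)) then
          orderOf ((Fintype.card F : ℕ) : ZMod r)
          else 2 * orderOf ((Fintype.card F : ℕ) : ZMod r)) * b ∧
      finrank F (LinearMap.ker (y - 1)) +
        (if Even (orderOf ((Fintype.card F : ℕ) : ZMod r)) then
          orderOf ((Fintype.card F : ℕ) : ZMod r)
          else 2 * orderOf ((Fintype.card F : ℕ) : ZMod r)) * b = 2 * d ∧
      (IsHyp (resQ Q (LinearMap.ker (y - 1))) ↔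
        typeC hyp (orderOf ((Fintype.card F : ℕ) : ZMod r)) b) := by
  obtain ⟨hi0, -, -, -, -, -, -, -⟩ := cc_arith (F := F) (p := p) r hr2 hrp
  obtain ⟨hcompl, horth, -, -, hN, hYN, hfixN⟩ := cn_split (p := p) r hrp Q y h
  have hdvd := fpf_dvd (p := p) r hr2 hrp (resQ Q (LinearMap.range (y - 1))) (y.restrict hN) hYN
    hfixN
  have htype := fpf_type (p := p) r hr2 hrp (resQ Q (LinearMap.range (y - 1))) (y.restrict hN) hYN
    hfixN
  have hsum := Submodule.finrank_add_eq_of_isCompl hcompl
  rw [hd] at hsum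
  set i := orderOf ((Fintype.card F : ℕ) : ZMod r) with hi
  set c := (if Even i then i else 2 * i) with hc
  have hceven : Even c := by
    rw [hc]
    split_ifs with hev
    · exact hev
    · exact even_two_mul i
  obtain ⟨b, hb⟩ := hdvd
  have hNeven : Even (finrank F (LinearMap.range (y - 1))) := by
    rw [hb]; exact hceven.mul_right b
  have hCeven : Even (finrank F (LinearMap.ker (y - 1))) := by
    have h2d : Even (2 * d) := even_two_mul d
    rw [← hsum] at h2d
    exact (Nat.even_add.mp h2d).mpr hNeven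
  have hsumH := isHyp_iff_of_orth Q h.nondeg _ _ hcompl horth hCeven hNeven
  refine ⟨b, hb, by rw [← hb]; exact hsum, ?_⟩
  unfold typeC
  by_cases hev : Even i
  · rw [if_pos hev]
    have hci : c = i := by rw [hc, if_pos hev]
    have hbdiv : finrank F (LinearMap.range (y - 1)) / i = b := by
      rw [hb, hci, Nat.mul_div_cancel_left _ hi0]
    have hN' := htype.2 hev
    rw [hbdiv] at hN'
    rw [← hhyp, hsumH, hN']
    tauto
  · rw [if_neg hev]
    have hN' := htype.1 (Nat.not_even_iff_odd.mp hev)
    rw [← hhyp, hsumH]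
    tauto

end Cfsg.Agent.S5973P
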