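import Mathlib
import Cfsg.Agent.Helper17.S2558GDefs
import Cfsg.Agent.Helper28.Spin5
import Cfsg.Agent.Helper28.CDGen

/-! S2560 chapter (S), piece THOMEGA (driver helper17): `Ω = ker det ∩ ker theta`, and `det = ±1`. -/

set_option autoImplicit false

namespace Cfsg.Agent.S2560P

open Polynomial Cfsg.Agent.Helper2.SympInvol Cfsg.Agent.S2676P Cfsg.Agent.S2478P Cfsg.Agent.S2481P
  Cfsg.Agent.S2482P Cfsg.Agent.S2558P Cfsg.Agent.Helper28.Spin

universe u

section spin

variable {F : Type u} [Field F] [Fintype F] {ι : Type} [Fintype ι] [DecidableEq ι]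

namespace THOMEGA

/-- the polar form of `Q` is `2 B` -/
theorem polar_eq (Q : QuadraticForm F (ι → F)) (B : LinearMap.BilinForm F (ι → F))
    (hQB : IsPolar ⇑Q B) (u v : ι → F) : QuadraticMap.polar ⇑Q u v = 2 * B u v := by
  rw [QuadraticMap.polar, hQB.eq, hQB.eq, hQB.eq, map_add, map_add, LinearMap.add_apply,
    LinearMap.add_apply, hQB.symm v u]
  ring

/-- the polar form is nondegenerate -/
theorem polar_nondeg (h2 : (2 : F) ≠ 0) (Q : QuadraticForm F (ι → F))
    (B : LinearMap.BilinForm F (ι → F)) (hQB : IsPolar ⇑Q B) :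
    (QuadraticMap.polarBilin Q).Nondegenerate := by
  have hl : (QuadraticMap.polarBilin Q).SeparatingLeft := by
    intro x hx
    by_contra hx0
    obtain ⟨v, -, hv⟩ := hQB.nondeg x trivial hx0
    apply hv
    have := hx v
    rw [QuadraticMap.polarBilin_apply_apply, polar_eq Q B hQB] at this
    exact (mul_eq_zero.1 this).resolve_left h2
  refine ⟨hl, ?_⟩
  intro y hy
  apply hl
  intro x
  have := hy x
  rw [QuadraticMap.polarBilin_apply_apply] at this ⊢
  rw [QuadraticMap.polar_comm]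
  exact this

end THOMEGA

theorem THOMEGA.detHom_eq_or (h2 : (2 : F) ≠ 0) (Q : QuadraticForm F (ι → F))
    (B : LinearMap.BilinForm F (ι → F)) (hQB : IsPolar ⇑Q B) (g : Cfsg.isometryGroup F ⇑Q) :
    detHom Q g = 1 ∨ detHom Q g = -1 := by
  obtain ⟨L, rfl⟩ := Cfsg.Agent.Helper28.CDG.cd_list Q h2 (THOMEGA.polar_nondeg h2 Q B hQB) g
  rw [detHom_prodO]
  rcases Nat.even_or_odd L.length with h | h
  · left; exact h.neg_one_pow
  · right; exact h.neg_one_pow

theorem THOMEGA.mem_Omega_iff (h2 : (2 : F) ≠ 0) (Q : QuadraticForm F (ι → F))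
    (B : LinearMap.BilinForm F (ι → F)) (hQB : IsPolar ⇑Q B) (hdim : 2 ≤ Fintype.card ι)
    (g : Cfsg.isometryGroup F ⇑Q) :
    g ∈ Cfsg.Omega F ⇑Q ↔ detHom Q g = 1 ∧ theta Q g = 1 := by
  classical
  constructor
  · intro hg
    exact ⟨hom_eq_one_of_mem_Omega Q (detHom Q) hg, hom_eq_one_of_mem_Omega Q (theta Q) hg⟩
  · rintro ⟨hd, hθ⟩
    obtain ⟨L, rfl⟩ := Cfsg.Agent.Helper28.CDG.cd_list Q h2 (THOMEGA.polar_nondeg h2 Q B hQB) g
    rw [prodO_mem_Omega_iff Q h2]
    have hlen : Even L.length := by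
      rw [detHom_prodO] at hd
      by_contra hodd
      rw [Nat.not_even_iff_odd] at hodd
      rw [hodd.neg_one_pow] at hd
      exact neg_one_units_ne h2 hd
    refine ⟨hlen, ?_⟩
    rw [isSquare_normProd_iff Q h2]
    by_contra hm
    rw [Nat.not_even_iff_odd] at hm
    have hp : Odd (nPlus Q L) := by
      have := nPlus_add_nMinus Q L
      rw [← this] at hlen
      by_contra hp
      rw [Nat.not_odd_iff_even] at hp
      have := (Nat.even_add.1 hlen).1 hp
      exact (Nat.not_even_iff_odd.2 hm) this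
    rw [hom_prodO Q (theta Q) h2] at hθ
    have hp0 : 0 < nPlus Q L := hp.pos
    have hm0 : 0 < nMinus Q L := hm.pos
    obtain ⟨vp, -, hvp⟩ := List.countP_pos_iff.1 hp0
    obtain ⟨vm, -, hvm⟩ := List.countP_pos_iff.1 hm0
    simp only [decide_eq_true_eq] at hvp hvm
    have hprod : cPlus Q (theta Q) * cMinus Q (theta Q) = -1 := by
      rw [← cPlus_eq Q (theta Q) h2 vp hvp, ← cMinus_eq Q (theta Q) h2 vm hvm]
      apply theta_mul_of_not_isSquare Q h2
      rw [isSquare_mul_iff h2 vp.2 vm.2]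
      intro h
      exact hvm (h.1 hvp)
    rw [Int.units_pow_eq_pow_mod_two (cPlus Q (theta Q)),
      Int.units_pow_eq_pow_mod_two (cMinus Q (theta Q)),
      Nat.odd_iff.1 hp, Nat.odd_iff.1 hm, pow_one, pow_one, hprod] at hθ
    exact absurd hθ (by decide)

end spin

end Cfsg.Agent.S2560P
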