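import Mathlib
import Cfsg.Prelude.Def_Classical
import Cfsg.Agent.Helper5.S5973Defs
import Cfsg.Agent.Helper28.S3589Defs

/-! # S3590 (driver helper5): unboundedly many finite groups isospectral to `PSp_8(q)`, `q` even.

The witnesses are `H_k = V^k ⋊ Ω_8^-(q)`, `V` the natural module.  Shared definitions.

* `nsum A j = 1 + A + ... + A^(j-1)`;
* `affPhi ρ κ`, `Aff ρ κ` : the semidirect product `(κ → ι → F) ⋊ G` for `ρ : G →* Matrix ι ι F`;
* `rhoO Q` : the matrix of an element of `Ω(Q)`;
* `spec q` : the set of divisors of the twelve numbers `ords q`;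
* `HasABlock F d hyp o ev` : an "affine block": a nondegenerate quadratic form `Q` of Witt type `hyp` on `F^(2d)`, an
  isometry `y` and a vector `v` with `(y^j = 1 ∧ (1 + y + ... + y^(j-1)) v = 0) ↔ o ∣ j` (so `o` is the order of
  `(v, y)` in `V ⋊ O(V)`), and `ev = true` iff `rank (y - 1)` is even (Dickson invariant). -/

set_option autoImplicit false

namespace Cfsg.Agent.S3590P

open Cfsg.Agent.S5973P Cfsg.Agent.S3589P Matrix

/-- `1 + A + ... + A^(j-1)` -/
def nsum {R : Type*} [Semiring R] (A : R) (j : ℕ) : R := ∑ i ∈ Finset.range j, A ^ i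

section aff

variable {G : Type*} [Group G] {ι : Type*} [Fintype ι] [DecidableEq ι] {F : Type*} [Field F]

/-- the action of `g` on `κ`-families of vectors, as an automorphism of the multiplicative copy -/
def affAut (ρ : G →* Matrix ι ι F) (κ : Type*) (g : G) : MulAut (Multiplicative (κ → ι → F)) where
  toFun C := Multiplicative.ofAdd fun l => ρ g *ᵥ (Multiplicative.toAdd C l)
  invFun C := Multiplicative.ofAdd fun l => ρ g⁻¹ *ᵥ (Multiplicative.toAdd C l)
  left_inv C := by
    apply Multiplicative.toAdd.injective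
    funext l
    simp only [toAdd_ofAdd]
    rw [Matrix.mulVec_mulVec, ← map_mul, inv_mul_cancel, map_one, Matrix.one_mulVec]
  right_inv C := by
    apply Multiplicative.toAdd.injective
    funext l
    simp only [toAdd_ofAdd]
    rw [Matrix.mulVec_mulVec, ← map_mul, mul_inv_cancel, map_one, Matrix.one_mulVec]
  map_mul' C D := by
    apply Multiplicative.toAdd.injective
    funext l
    simp only [toAdd_ofAdd, toAdd_mul, Pi.add_apply, Matrix.mulVec_add]

theorem affAut_apply (ρ : G →* Matrix ι ι F) (κ : Type*) (g : G) (C : κ → ι → F) :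
    affAut ρ κ g (Multiplicative.ofAdd C) = Multiplicative.ofAdd fun l => ρ g *ᵥ C l := rfl

/-- `g ↦ affAut ρ κ g` is a homomorphism -/
def affPhi (ρ : G →* Matrix ι ι F) (κ : Type*) : G →* MulAut (Multiplicative (κ → ι → F)) where
  toFun := affAut ρ κ
  map_one' := by
    apply MulEquiv.ext
    intro C
    apply Multiplicative.toAdd.injective
    funext l
    show ρ 1 *ᵥ (Multiplicative.toAdd C l) = Multiplicative.toAdd C l
    rw [map_one, Matrix.one_mulVec]
  map_mul' g h := by
    apply MulEquiv.ext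
    intro C
    apply Multiplicative.toAdd.injective
    funext l
    show ρ (g * h) *ᵥ (Multiplicative.toAdd C l) = ρ g *ᵥ (ρ h *ᵥ (Multiplicative.toAdd C l))
    rw [map_mul, Matrix.mulVec_mulVec]

theorem affPhi_apply (ρ : G →* Matrix ι ι F) (κ : Type*) (g : G) (C : κ → ι → F) :
    affPhi ρ κ g (Multiplicative.ofAdd C) = Multiplicative.ofAdd fun l => ρ g *ᵥ C l := rfl

/-- the semidirect product `(κ → ι → F) ⋊ G` -/
abbrev Aff (ρ : G →* Matrix ι ι F) (κ : Type*) : Type _ :=
  Multiplicative (κ → ι → F) ⋊[affPhi ρ κ] G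

end aff

/-- the matrix of an element of `Ω(Q)` -/
def rhoO {ι : Type} [Fintype ι] [DecidableEq ι] (F : Type*) [Field F] (Q : (ι → F) → F) :
    ↥(Cfsg.Omega F Q) →* Matrix ι ι F :=
  (Units.coeHom (Matrix ι ι F)).comp ((Cfsg.isometryGroup F Q).subtype.comp (Cfsg.Omega F Q).subtype)

theorem rhoO_apply {ι : Type} [Fintype ι] [DecidableEq ι] (F : Type*) [Field F] (Q : (ι → F) → F)
    (g : ↥(Cfsg.Omega F Q)) :
    rhoO F Q g = (((g : ↥(Cfsg.isometryGroup F Q)) : Matrix.GeneralLinearGroup ι F) : Matrix ι ι F) := rfl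

/-- the divisors of the twelve numbers -/
def spec (q : ℕ) : Set ℕ := {n | 0 < n ∧ ∃ M ∈ ords q, n ∣ M}

/-- an affine block -/
def HasABlock (F : Type*) [Field F] (d : ℕ) (hyp : Bool) (o : ℕ) (ev : Bool) : Prop :=
  ∃ (Q : QuadraticForm F (Fin (2 * d) → F)) (y : Module.End F (Fin (2 * d) → F))
    (v : Fin (2 * d) → F),
    ND Q ∧ (IsHyp Q ↔ hyp = true) ∧ (∀ w, Q (y w) = Q w) ∧
    (Even (Module.finrank F (LinearMap.range (y - 1))) ↔ ev = true) ∧
    ∀ j : ℕ, (y ^ j = 1 ∧ (nsum y j) v = 0) ↔ o ∣ j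

end Cfsg.Agent.S3590P
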