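import Cfsg.Agent.Helper5.S5700EXHYP

set_option autoImplicit false
set_option linter.unusedSectionVars false
set_option linter.unusedVariables false

/-! # S5700, piece EXHYP5 -/

namespace Cfsg.Agent.S5700P

open Matrix Module Cfsg.Agent.Helper28.Sg Cfsg.Agent.Helper28.Spin Cfsg.Agent.Helper12.OrthGen

variable {F : Type*} [Field F] [Fintype F] {ι : Type} [Fintype ι] [DecidableEq ι]
  {Q : QuadraticForm F (ι → F)} {J : Matrix ι ι F} {t p : F}

theorem EXHYP5.of_le5 (hQ : (QuadraticMap.polarBilin Q).Nondegenerate) (hn : 14 ≤ Fintype.card ι)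
    (U : Submodule F (ι → F)) (hU : finrank F ↥U ≤ 5) :
    ∃ w₁ w₂ : ι → F, Q w₁ = 0 ∧ Q w₂ = 0 ∧ B Q w₁ w₂ = 1 ∧
      (∀ u ∈ U, B Q u w₁ = 0) ∧ (∀ u ∈ U, B Q u w₂ = 0) := by
  apply EXHYP.exists_hyp hQ U
  have h1 := LinearMap.BilinForm.finrank_orthogonal hQ U
  rw [Module.finrank_fintype_fun_eq_card] at h1
  have h2 : finrank F ↥(U ⊓ LinearMap.BilinForm.orthogonal (QuadraticMap.polarBilin Q) U) ≤
      finrank F ↥U := Submodule.finrank_mono inf_le_left
  omega

end Cfsg.Agent.S5700P
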