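import Cfsg.Agent.Helper28.S5700.Lib
import Cfsg.Agent.Helper13.QuadWitt

set_option autoImplicit false
set_option linter.unusedSectionVars false
set_option linter.unusedVariables false

/-! # S5700, piece EXHYP: a hyperbolic pair in the orthogonal of a subspace whose orthogonal is large
compared with its radical. -/

namespace Cfsg.Agent.S5700P

open Matrix Module Cfsg.Agent.Helper28.Sg Cfsg.Agent.Helper28.Spin Cfsg.Agent.Helper12.OrthGen

variable {F : Type*} [Field F] [Fintype F] {ι : Type} [Fintype ι] [DecidableEq ι]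
  {Q : QuadraticForm F (ι → F)} {J : Matrix ι ι F} {t p : F}

theorem EXHYP.exists_hyp (hQ : (QuadraticMap.polarBilin Q).Nondegenerate) (U : Submodule F (ι → F))
    (h : finrank F ↥(U ⊓ LinearMap.BilinForm.orthogonal (QuadraticMap.polarBilin Q) U) + 3 ≤
      finrank F ↥(LinearMap.BilinForm.orthogonal (QuadraticMap.polarBilin Q) U)) :
    ∃ w₁ w₂ : ι → F, Q w₁ = 0 ∧ Q w₂ = 0 ∧ B Q w₁ w₂ = 1 ∧
      (∀ u ∈ U, B Q u w₁ = 0) ∧ (∀ u ∈ U, B Q u w₂ = 0) := by
  classical
  set Bf := QuadraticMap.polarBilin Q with hBf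
  have hrefl : Bf.IsRefl := by
    intro x y hxy
    show QuadraticMap.polar ⇑Q y x = 0
    rw [QuadraticMap.polar_comm]
    exact hxy
  set X := LinearMap.BilinForm.orthogonal Bf U with hX
  set R := U ⊓ X with hR
  have hRX : R ≤ X := inf_le_right
  -- `R` inside `X`, and a complement
  set R' : Submodule F ↥X := R.comap X.subtype with hR'
  obtain ⟨C', hC'⟩ := Submodule.exists_isCompl R'
  have hfinR' : finrank F ↥R' = finrank F ↥R :=
    LinearEquiv.finrank_eq (Submodule.comapSubtypeEquivOfLe hRX)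
  have hsum : finrank F ↥R' + finrank F ↥C' = finrank F ↥X :=
    Submodule.finrank_add_eq_of_isCompl hC'
  have h3 : 3 ≤ finrank F ↥C' := by omega
  -- the form on `C'`
  set ι₀ : ↥C' →ₗ[F] (ι → F) := X.subtype.comp C'.subtype with hι₀
  set QC : QuadraticForm F ↥C' := Q.comp ι₀ with hQC
  have hQCa : ∀ c : ↥C', QC c = Q (ι₀ c) := fun c => rfl
  have hpol : ∀ c c' : ↥C', QuadraticMap.polar QC c c' = QuadraticMap.polar ⇑Q (ι₀ c) (ι₀ c') := by
    intro c c'
    simp only [QuadraticMap.polar, hQCa, map_add]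
  have hιX : ∀ c : ↥C', ι₀ c ∈ X := fun c => (c : ↥X).2
  have hperpU : ∀ x ∈ X, ∀ u ∈ U, QuadraticMap.polar ⇑Q u x = 0 := by
    intro x hx u hu
    rw [hX, LinearMap.BilinForm.mem_orthogonal_iff] at hx
    exact hx u hu
  have hnd : ∀ c : ↥C', (∀ c' : ↥C', QuadraticMap.polar QC c c' = 0) → c = 0 := by
    intro c hc
    have hxX : ι₀ c ∈ X := hιX c
    have hxXX : ι₀ c ∈ LinearMap.BilinForm.orthogonal Bf X := by
      rw [LinearMap.BilinForm.mem_orthogonal_iff]
      intro y hy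
      show QuadraticMap.polar ⇑Q y (ι₀ c) = 0
      -- decompose `y`
      have hy' : (⟨y, hy⟩ : ↥X) ∈ R' ⊔ C' := by rw [hC'.sup_eq_top]; trivial
      obtain ⟨r, hr, c'', hc'', hrc⟩ := Submodule.mem_sup.mp hy'
      have hy2 : y = (r : ι → F) + (c'' : ι → F) := by
        have := congrArg (fun z : ↥X => (z : ι → F)) hrc
        simpa using this.symm
      rw [hy2, QuadraticMap.polar_add_left]
      have h1 : QuadraticMap.polar ⇑Q (r : ι → F) (ι₀ c) = 0 := by
        have hrU : (r : ι → F) ∈ U := (show (r : ι → F) ∈ R from hr).1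
        exact hperpU _ hxX _ hrU
      have h2 : QuadraticMap.polar ⇑Q (c'' : ι → F) (ι₀ c) = 0 := by
        have := hc ⟨c'', hc''⟩
        rw [hpol] at this
        rw [QuadraticMap.polar_comm]
        exact this
      rw [h1, h2, add_zero]
    have hxU : ι₀ c ∈ U := by
      rw [← LinearMap.BilinForm.orthogonal_orthogonal hQ hrefl U]
      exact hxXX
    have hcR : (c : ↥X) ∈ R' := ⟨hxU, hxX⟩
    have hcbot : (c : ↥X) ∈ R' ⊓ C' := ⟨hcR, c.2⟩
    rw [hC'.inf_eq_bot, Submodule.mem_bot] at hcbot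
    exact Subtype.ext hcbot
  obtain ⟨v, hv0, hQv⟩ := Cfsg.Agent.Helper13.exists_singular (V := ↥C') QC h3
  obtain ⟨f, hQf, hvf⟩ := Cfsg.Agent.Helper13.exists_hyperbolic_partner (V := ↥C') QC hnd v hv0 hQv
  refine ⟨ι₀ v, ι₀ f, hQv, hQf, ?_, ?_, ?_⟩
  · show QuadraticMap.polar ⇑Q (ι₀ v) (ι₀ f) = 1
    rw [← hpol]; exact hvf
  · intro u hu
    exact hperpU _ (hιX v) u hu
  · intro u hu
    exact hperpU _ (hιX f) u hu

end Cfsg.Agent.S5700P
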