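import Mathlib

/-!
Arithmetic for the partition theorem (Peterfalvi 7.11), part A: column orthogonality from row
orthogonality for a square array.
-/

set_option autoImplicit false
set_option linter.unusedSectionVars false

namespace Cfsg.Agent.Helper5.Part

/-- weighted row orthogonality of a square array implies weighted column orthogonality -/
theorem col_orth_of_row_orth {κ : Type*} [Fintype κ] [DecidableEq κ] (M : κ → κ → ℚ) (w ν : κ → ℚ)
    (hw : ∀ c, w c ≠ 0) (hν : ∀ b, ν b ≠ 0)
    (hrow : ∀ b b', ∑ c, M b c * w c * M b' c = if b = b' then ν b else 0) :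
    ∀ c c', ∑ b, M b c * (ν b)⁻¹ * M b c' = if c = c' then (w c)⁻¹ else 0 := by
  classical
  set A : Matrix κ κ ℚ := Matrix.of M with hA
  set B : Matrix κ κ ℚ := Matrix.of (fun c b => w c * M b c * (ν b)⁻¹) with hB
  have hAB : A * B = 1 := by
    ext b b'
    rw [Matrix.mul_apply, Matrix.one_apply]
    have h1 : ∑ c, A b c * B c b' = (∑ c, M b c * w c * M b' c) * (ν b')⁻¹ := by
      rw [Finset.sum_mul]
      apply Finset.sum_congr rfl
      intro c _
      simp only [hA, hB, Matrix.of_apply]
      ring
    rw [h1, hrow]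
    by_cases hbb : b = b'
    · rw [if_pos hbb, if_pos hbb, hbb, mul_inv_cancel₀ (hν b')]
    · rw [if_neg hbb, if_neg hbb, zero_mul]
  have hBA : B * A = 1 := mul_eq_one_comm.mp hAB
  intro c c'
  have h2 := congrFun (congrFun hBA c) c'
  rw [Matrix.mul_apply, Matrix.one_apply] at h2
  have h3 : ∑ b, B c b * A b c' = w c * ∑ b, M b c * (ν b)⁻¹ * M b c' := by
    rw [Finset.mul_sum]
    apply Finset.sum_congr rfl
    intro b _
    simp only [hA, hB, Matrix.of_apply]
    ring
  rw [h3] at h2
  by_cases hcc : c = c'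
  · rw [if_pos hcc] at h2 ⊢
    exact eq_inv_of_mul_eq_one_right h2
  · rw [if_neg hcc] at h2 ⊢
    rcases mul_eq_zero.mp h2 with h | h
    · exact absurd h (hw c)
    · exact h

end Cfsg.Agent.Helper5.Part
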