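import Mathlib

/-!
Arithmetic for the partition theorem (Peterfalvi 7.11), part B: the final inequalities.
-/

set_option autoImplicit false
set_option linter.unusedSectionVars false

namespace Cfsg.Agent.Helper5.Part

section Split

variable {ι : Type*} [Fintype ι] [DecidableEq ι] {R : Type*} [AddCommMonoid R]

/-- splitting a sum over a fintype into a distinguished index and two complementary parts -/
theorem sum_split3 (i₀ : ι) (P : ι → Prop) [DecidablePred P] (f : ι → R) :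
    ∑ s, f s = f i₀ + (∑ s ∈ Finset.univ.filter (fun j => j ≠ i₀ ∧ P j), f s
      + ∑ s ∈ Finset.univ.filter (fun j => j ≠ i₀ ∧ ¬ P j), f s) := by
  rw [← Finset.sum_filter_add_sum_filter_not Finset.univ (fun j => j = i₀) f]
  congr 1
  · rw [Finset.filter_eq' Finset.univ i₀, if_pos (Finset.mem_univ _), Finset.sum_singleton]
  · rw [← Finset.sum_filter_add_sum_filter_not (Finset.univ.filter (fun j => ¬ j = i₀)) P f,
      Finset.filter_filter, Finset.filter_filter]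

end Split

/-- `n z² - 2 ε z ≥ 0` for integers with `n ≥ 2`, `ε = ± 1` -/
theorem sq_sub_nonneg (n : ℤ) (hn : 2 ≤ n) (ε z : ℤ) (hε : ε = 1 ∨ ε = -1) :
    0 ≤ n * z ^ 2 - 2 * ε * z := by
  have h1 : 0 ≤ z * (z - 1) := by
    rcases le_or_gt z 0 with h | h
    · exact mul_nonneg_of_nonpos_of_nonpos h (by omega)
    · exact mul_nonneg (by omega) (by omega)
  have h2 : 0 ≤ z * (z + 1) := by
    rcases le_or_gt z (-1) with h | h
    · exact mul_nonneg_of_nonpos_of_nonpos (by omega) (by omega)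
    · exact mul_nonneg (by omega) (by omega)
  have h3 : 0 ≤ z ^ 2 := sq_nonneg z
  rcases hε with rfl | rfl
  · nlinarith
  · nlinarith

/-- the final contradiction of the partition theorem -/
theorem endgame {ι : Type*} [Fintype ι] [DecidableEq ι] [Nonempty ι]
    (e n h : ι → ℕ) (g : ℕ) (hg : 0 < g)
    (he : ∀ s, 1 < e s) (hn : ∀ s, 2 ≤ n s) (hneven : ∀ s, Even (n s))
    (hh : ∀ s, h s = e s * n s + 1)
    (hcop : ∀ i j, i ≠ j → Nat.Coprime (h i) (h j))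
    (ε : ι → ℤ) (hε : ∀ i, ε i = 1 ∨ ε i = -1)
    (d : ι → ℤ) (hd : ∀ i, 1 ≤ d i) (z : ι → ι → ℤ)
    (hD : (1 : ℚ) = 1 / g + ∑ s, (n s : ℚ) / h s)
    (hN : ∀ i, (d i : ℚ) ^ 2 / g + ∑ s, ((n s : ℚ) / h s) * (z i s : ℚ) ^ 2
      = ((e i : ℚ) + 2 * ε i * z i i) / h i)
    (hA : ∀ i, 1 + ∑ j, (n j : ℤ) * (z j i) ^ 2 - 2 * ε i * z i i = e i)
    (hE : ∀ i j, i ≠ j → 1 + ∑ s, (n s : ℤ) * z s i * z s j - ε j * z j i - ε i * z i j = 0) :
    False := by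
  classical
  obtain ⟨i₀, -, hmin⟩ := Finset.exists_min_image Finset.univ e Finset.univ_nonempty
  set J₀ := Finset.univ.filter (fun j => j ≠ i₀ ∧ z i₀ j = 0) with hJ₀
  set J₁ := Finset.univ.filter (fun j => j ≠ i₀ ∧ ¬ z i₀ j = 0) with hJ₁
  have hmemJ₀ : ∀ j, j ∈ J₀ ↔ j ≠ i₀ ∧ z i₀ j = 0 := by
    intro j
    rw [hJ₀, Finset.mem_filter]
    simp
  have hmemJ₁ : ∀ j, j ∈ J₁ ↔ j ≠ i₀ ∧ ¬ z i₀ j = 0 := by
    intro j
    rw [hJ₁, Finset.mem_filter]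
    simp
  -- Step 1
  have hstep1 : ∀ j ∈ J₀, 1 ≤ (z j i₀) ^ 2 := by
    intro j hj
    obtain ⟨hji, hz0⟩ := (hmemJ₀ j).mp hj
    have h1 := hE i₀ j (Ne.symm hji)
    rw [hz0, mul_zero, sub_zero] at h1
    have h2 : Even (∑ s, (n s : ℤ) * z s i₀ * z s j) := by
      apply Finset.even_sum
      intro s _
      have : Even ((n s : ℤ)) := by exact_mod_cast hneven s
      exact (this.mul_right _).mul_right _
    obtain ⟨K, hK⟩ := h2
    have h3 : z j i₀ ≠ 0 := by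
      intro h0
      rw [h0, mul_zero, sub_zero, hK] at h1
      omega
    have h4 : 0 < (z j i₀) ^ 2 := by positivity
    omega
  -- Step 2
  have hstep2 : (∑ j ∈ J₀, (n j : ℤ)) ≤ (e i₀ : ℤ) - 1 := by
    have h1 := hA i₀
    rw [sum_split3 i₀ (fun j => z i₀ j = 0) (fun j => (n j : ℤ) * (z j i₀) ^ 2)] at h1
    have h2 : 0 ≤ ∑ s ∈ J₁, (n s : ℤ) * (z s i₀) ^ 2 := by
      apply Finset.sum_nonneg
      intro s _
      positivity
    have h3 : ∑ j ∈ J₀, (n j : ℤ) ≤ ∑ j ∈ J₀, (n j : ℤ) * (z j i₀) ^ 2 := by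
      apply Finset.sum_le_sum
      intro j hj
      have := hstep1 j hj
      have hn0 : (0 : ℤ) ≤ n j := by positivity
      nlinarith
    have h4 := sq_sub_nonneg (n i₀ : ℤ) (by exact_mod_cast hn i₀) (ε i₀) (z i₀ i₀) (hε i₀)
    linarith
  -- Step 3
  have hgq : (0 : ℚ) < g := by exact_mod_cast hg
  have hhpos : ∀ s, (0 : ℚ) < h s := by
    intro s
    have : 0 < h s := by rw [hh]; omega
    exact_mod_cast this
  have hstep3 : ∑ s ∈ J₁, (n s : ℚ) / h s ≤ (e i₀ : ℚ) / h i₀ - 1 / g := by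
    have h1 := hN i₀
    rw [sum_split3 i₀ (fun j => z i₀ j = 0)
      (fun s => ((n s : ℚ) / h s) * (z i₀ s : ℚ) ^ 2)] at h1
    have h2 : ∑ s ∈ J₀, ((n s : ℚ) / h s) * (z i₀ s : ℚ) ^ 2 = 0 := by
      apply Finset.sum_eq_zero
      intro s hs
      rw [((hmemJ₀ s).mp hs).2]
      simp
    have h3 : ∑ s ∈ J₁, (n s : ℚ) / h s ≤ ∑ s ∈ J₁, ((n s : ℚ) / h s) * (z i₀ s : ℚ) ^ 2 := by
      apply Finset.sum_le_sum
      intro s hs
      have hz : z i₀ s ≠ 0 := ((hmemJ₁ s).mp hs).2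
      have hz2 : (1 : ℤ) ≤ (z i₀ s) ^ 2 := by
        have : 0 < (z i₀ s) ^ 2 := by positivity
        omega
      have hz2q : (1 : ℚ) ≤ (z i₀ s : ℚ) ^ 2 := by exact_mod_cast hz2
      have hpos : (0 : ℚ) ≤ (n s : ℚ) / h s := by positivity
      nlinarith
    have h4 := sq_sub_nonneg (n i₀ : ℤ) (by exact_mod_cast hn i₀) (ε i₀) (z i₀ i₀) (hε i₀)
    have h4q : (0 : ℚ) ≤ (n i₀ : ℚ) * (z i₀ i₀ : ℚ) ^ 2 - 2 * ε i₀ * z i₀ i₀ := by
      exact_mod_cast h4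
    have h5 : (1 : ℚ) ≤ (d i₀ : ℚ) ^ 2 := by
      have : (1 : ℤ) ≤ (d i₀) ^ 2 := by
        have := hd i₀
        nlinarith
      exact_mod_cast this
    have h6 : (1 : ℚ) / g ≤ (d i₀ : ℚ) ^ 2 / g := by
      apply div_le_div_of_nonneg_right h5 hgq.le
    have h7 : ((e i₀ : ℚ) + 2 * ε i₀ * z i₀ i₀) / h i₀ - (n i₀ : ℚ) / h i₀ * (z i₀ i₀ : ℚ) ^ 2
        ≤ (e i₀ : ℚ) / h i₀ := by
      have hp := hhpos i₀
      have : ((e i₀ : ℚ) + 2 * ε i₀ * z i₀ i₀) / h i₀ - (n i₀ : ℚ) / h i₀ * (z i₀ i₀ : ℚ) ^ 2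
          = (e i₀ : ℚ) / h i₀
            - ((n i₀ : ℚ) * (z i₀ i₀ : ℚ) ^ 2 - 2 * ε i₀ * z i₀ i₀) / h i₀ := by
        field_simp
        ring
      rw [this]
      have : 0 ≤ ((n i₀ : ℚ) * (z i₀ i₀ : ℚ) ^ 2 - 2 * ε i₀ * z i₀ i₀) / h i₀ :=
        div_nonneg h4q hp.le
      linarith
    rw [h2, zero_add] at h1
    linarith
  -- Step 4
  have hstep4 : 1 - (n i₀ : ℚ) / h i₀ - (e i₀ : ℚ) / h i₀ ≤ ∑ s ∈ J₀, (n s : ℚ) / h s := by
    have h1 := hD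
    rw [sum_split3 i₀ (fun j => z i₀ j = 0) (fun s => (n s : ℚ) / h s)] at h1
    linarith
  -- Step 5
  have hhge : ∀ s, 2 * e i₀ + 1 ≤ h s := by
    intro s
    have h1 := hmin s (Finset.mem_univ s)
    have h2 := hn s
    rw [hh s]
    nlinarith
  have hBq : ((∑ j ∈ J₀, (n j : ℤ) : ℤ) : ℚ) ≤ (e i₀ : ℚ) - 1 := by
    have := hstep2
    exact_mod_cast this
  have hBq' : ∑ j ∈ J₀, (n j : ℚ) ≤ (e i₀ : ℚ) - 1 := by
    have h1 : ((∑ j ∈ J₀, (n j : ℤ) : ℤ) : ℚ) = ∑ j ∈ J₀, (n j : ℚ) := by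
      push_cast
      rfl
    rw [← h1]
    exact hBq
  have hEq1 : (1 : ℚ) < e i₀ := by exact_mod_cast he i₀
  have hhi₀ : (h i₀ : ℚ) = (e i₀ : ℚ) * n i₀ + 1 := by
    rw [hh i₀]
    push_cast
    ring
  have hcomb : ∀ c : ℕ, (∀ s ∈ J₀, c ≤ h s) → 0 < c →
      ∑ s ∈ J₀, (n s : ℚ) / h s ≤ ((e i₀ : ℚ) - 1) / c := by
    intro c hc hcpos
    have hcq : (0 : ℚ) < c := by exact_mod_cast hcpos
    have h1 : ∑ s ∈ J₀, (n s : ℚ) / h s ≤ ∑ s ∈ J₀, (n s : ℚ) / c := by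
      apply Finset.sum_le_sum
      intro s hs
      have h2 : (c : ℚ) ≤ h s := by exact_mod_cast hc s hs
      exact div_le_div_of_nonneg_left (by positivity) hcq h2
    rw [← Finset.sum_div] at h1
    have h3 : (∑ s ∈ J₀, (n s : ℚ)) / c ≤ ((e i₀ : ℚ) - 1) / c :=
      div_le_div_of_nonneg_right hBq' hcq.le
    linarith
  by_cases hn2 : n i₀ = 2
  · have hh0 : h i₀ = 2 * e i₀ + 1 := by
      rw [hh, hn2]
      ring
    have hge2 : ∀ s ∈ J₀, 2 * e i₀ + 2 ≤ h s := by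
      intro s hs
      have hsi := ((hmemJ₀ s).mp hs).1
      have h1 := hhge s
      have h2 : h s ≠ 2 * e i₀ + 1 := by
        intro heq
        have h3 := hcop s i₀ hsi
        rw [heq, hh0, Nat.coprime_self] at h3
        have := he i₀
        omega
      omega
    have h5 := hcomb (2 * e i₀ + 2) hge2 (by omega)
    have h6 : (1 : ℚ) - (n i₀ : ℚ) / h i₀ - (e i₀ : ℚ) / h i₀
        = ((e i₀ : ℚ) - 1) / (2 * e i₀ + 1) := by
      rw [hhi₀, hn2]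
      have : (e i₀ : ℚ) * ((2 : ℕ) : ℚ) + 1 ≠ 0 := by positivity
      field_simp
      push_cast
      ring
    rw [h6] at hstep4
    have h7 : ((e i₀ : ℚ) - 1) / ((2 * e i₀ + 2 : ℕ) : ℚ) < ((e i₀ : ℚ) - 1) / (2 * e i₀ + 1) := by
      apply div_lt_div_of_pos_left (by linarith) (by positivity)
      push_cast
      linarith
    linarith
  · have hn3 : 3 ≤ n i₀ := by
      have := hn i₀
      omega
    have h5 := hcomb (2 * e i₀ + 1) (fun s _ => hhge s) (by omega)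
    have hnq : (3 : ℚ) ≤ n i₀ := by exact_mod_cast hn3
    have h6 : ((e i₀ : ℚ) - 1) / ((2 * e i₀ + 1 : ℕ) : ℚ)
        < 1 - (n i₀ : ℚ) / h i₀ - (e i₀ : ℚ) / h i₀ := by
      rw [hhi₀]
      have hp1 : (0 : ℚ) < (e i₀ : ℚ) * n i₀ + 1 := by positivity
      have hp2 : (0 : ℚ) < ((2 * e i₀ + 1 : ℕ) : ℚ) := by positivity
      have e1 : (1 : ℚ) - (n i₀ : ℚ) / ((e i₀ : ℚ) * n i₀ + 1) - (e i₀ : ℚ) / ((e i₀ : ℚ) * n i₀ + 1)
          = (((e i₀ : ℚ) - 1) * ((n i₀ : ℚ) - 1)) / ((e i₀ : ℚ) * n i₀ + 1) := by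
        field_simp
        ring
      rw [e1, div_lt_div_iff₀ hp2 hp1]
      push_cast
      have hq1 : (0 : ℚ) < (e i₀ : ℚ) - 1 := by linarith
      have hq2 : (0 : ℚ) < (e i₀ : ℚ) + 1 := by linarith
      have hq3 : (0 : ℚ) < (n i₀ : ℚ) - 2 := by linarith
      have hq4 := mul_pos (mul_pos hq1 hq2) hq3
      nlinarith
    linarith

end Cfsg.Agent.Helper5.Part
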