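import Mathlib
import Cfsg.Agent.Helper5.PartArithA
import Cfsg.Agent.Helper5.PartArithB

/-!
Arithmetic for the partition theorem (Peterfalvi 7.11), part C: from the orthogonality relations of
the rows `1, χ₁, …, χ_k` (computed stratum by stratum) to a contradiction.
-/

set_option autoImplicit false
set_option linter.unusedSectionVars false
set_option maxHeartbeats 800000

namespace Cfsg.Agent.Helper5.Part

section Ite

variable {ι : Type*} [Fintype ι] [DecidableEq ι]

theorem sum_ite_left (j : ι) (f : ι → ℚ) (c : ι → ℚ) :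
    ∑ i, f i * (if i = j then c i else 0) = f j * c j := by
  rw [Finset.sum_eq_single j]
  · rw [if_pos rfl]
  · intro i _ hij
    rw [if_neg hij, mul_zero]
  · intro h
    exact absurd (Finset.mem_univ j) h

theorem sum_ite_right (j : ι) (f : ι → ℚ) (c : ι → ℚ) :
    ∑ i, (if i = j then c i else 0) * f i = c j * f j := by
  rw [Finset.sum_eq_single j]
  · rw [if_pos rfl]
  · intro i _ hij
    rw [if_neg hij, zero_mul]
  · intro h
    exact absurd (Finset.mem_univ j) h

theorem sum_ite_right' (j : ι) (f : ι → ℚ) (c : ι → ℚ) :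
    ∑ i, (if j = i then c i else 0) * f i = c j * f j := by
  rw [Finset.sum_eq_single j]
  · rw [if_pos rfl]
  · intro i _ hij
    rw [if_neg (Ne.symm hij), zero_mul]
  · intro h
    exact absurd (Finset.mem_univ j) h

end Ite

/-- the arithmetic contradiction from the row relations -/
theorem arith_contra {ι : Type*} [Fintype ι] [DecidableEq ι] [Nonempty ι]
    (e n h : ι → ℕ) (g : ℕ) (hg : 0 < g)
    (he : ∀ s, 1 < e s) (hn : ∀ s, 2 ≤ n s) (hneven : ∀ s, Even (n s))
    (hh : ∀ s, h s = e s * n s + 1)
    (hcop : ∀ i j, i ≠ j → Nat.Coprime (h i) (h j))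
    (ε : ι → ℤ) (hε : ∀ i, ε i = 1 ∨ ε i = -1)
    (dd : Option ι → ℤ) (zz aa : Option ι → ι → ℤ)
    (hd0 : dd none = 1) (hz0 : ∀ s, zz none s = 1) (ha0 : ∀ s, aa none s = 0)
    (hd : ∀ i, 1 ≤ dd (some i)) (ha : ∀ i s, aa (some i) s = if i = s then ε i else 0)
    (rel : ∀ b b' : Option ι, (if b = b' then (1 : ℚ) else 0) = (dd b : ℚ) * dd b' / g + ∑ s,
      (1 / ((e s : ℚ) * h s)) * ((zz b s : ℚ) * zz b' s * ((h s : ℚ) - 1)
        - e s * ((zz b s : ℚ) * aa b' s + aa b s * zz b' s)
        + (aa b s : ℚ) * aa b' s * ((e s : ℚ) * h s - (e s : ℚ) ^ 2))) :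
    False := by
  classical
  have hgq : (g : ℚ) ≠ 0 := by exact_mod_cast hg.ne'
  have heq : ∀ s, (e s : ℚ) ≠ 0 := by
    intro s
    have := he s
    have : e s ≠ 0 := by omega
    exact_mod_cast this
  have hnq : ∀ s, (n s : ℚ) ≠ 0 := by
    intro s
    have := hn s
    have : n s ≠ 0 := by omega
    exact_mod_cast this
  have hhq : ∀ s, (h s : ℚ) = (e s : ℚ) * n s + 1 := by
    intro s
    rw [hh s]
    push_cast
    ring
  have hhne : ∀ s, (h s : ℚ) ≠ 0 := by
    intro s
    have : h s ≠ 0 := by rw [hh s]; omega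
    exact_mod_cast this
  have hε2 : ∀ i, ((ε i : ℤ) : ℚ) * (ε i : ℚ) = 1 := by
    intro i
    rcases hε i with h1 | h1 <;> rw [h1] <;> norm_num
  -- the relation (D)
  have hD : (1 : ℚ) = 1 / g + ∑ s, (n s : ℚ) / h s := by
    have h1 := rel none none
    rw [if_pos rfl, hd0] at h1
    have h2 : ∀ s ∈ (Finset.univ : Finset ι), (1 / ((e s : ℚ) * h s)) *
        ((zz none s : ℚ) * zz none s * ((h s : ℚ) - 1)
        - e s * ((zz none s : ℚ) * aa none s + aa none s * zz none s)
        + (aa none s : ℚ) * aa none s * ((e s : ℚ) * h s - (e s : ℚ) ^ 2)) = (n s : ℚ) / h s := by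
      intro s _
      rw [hz0 s, ha0 s, hhq s]
      have h3 := heq s
      have h4 : (e s : ℚ) * n s + 1 ≠ 0 := by rw [← hhq s]; exact hhne s
      push_cast
      field_simp
      ring
    rw [Finset.sum_congr rfl h2] at h1
    push_cast at h1
    rw [one_mul] at h1
    exact h1
  -- the relations (N)
  have hN : ∀ i, ((dd (some i) : ℤ) : ℚ) ^ 2 / g
      + ∑ s, ((n s : ℚ) / h s) * ((zz (some i) s : ℤ) : ℚ) ^ 2
      = ((e i : ℚ) + 2 * ε i * zz (some i) i) / h i := by
    intro i
    have h1 := rel (some i) (some i)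
    rw [if_pos rfl] at h1
    have h2 : ∀ s ∈ (Finset.univ : Finset ι), (1 / ((e s : ℚ) * h s)) *
        ((zz (some i) s : ℚ) * zz (some i) s * ((h s : ℚ) - 1)
        - e s * ((zz (some i) s : ℚ) * aa (some i) s + aa (some i) s * zz (some i) s)
        + (aa (some i) s : ℚ) * aa (some i) s * ((e s : ℚ) * h s - (e s : ℚ) ^ 2))
        = ((n s : ℚ) / h s) * ((zz (some i) s : ℤ) : ℚ) ^ 2
          + (if i = s then (-(2 * (ε i : ℚ) * zz (some i) s) / h s + 1 - (e s : ℚ) / h s) else 0) := by
      intro s _
      have h3 := heq s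
      have h4 : (e s : ℚ) * n s + 1 ≠ 0 := by rw [← hhq s]; exact hhne s
      rw [ha i s]
      by_cases his : i = s
      · rw [if_pos his, if_pos his, hhq s]
        have h5 := hε2 i
        field_simp
        have h6 : (ε i : ℚ) ^ 2 = 1 := by rw [pow_two]; exact h5
        linear_combination ((e s : ℚ) * n s + 1 - (e s : ℚ)) * (e s : ℚ) * h6
      · rw [if_neg his, if_neg his, hhq s]
        push_cast
        field_simp
        ring
    rw [Finset.sum_congr rfl h2, Finset.sum_add_distrib, Finset.sum_ite_eq Finset.univ i,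
      if_pos (Finset.mem_univ i)] at h1
    have h7 := hhne i
    have h8 : ((e i : ℚ) + 2 * ε i * zz (some i) i) / h i
        = 1 - (-(2 * (ε i : ℚ) * zz (some i) i) / h i + 1 - (e i : ℚ) / h i) := by
      field_simp
      ring
    rw [h8]
    have h9 : ((dd (some i) : ℤ) : ℚ) ^ 2 = (dd (some i) : ℚ) * dd (some i) := pow_two _
    rw [h9]
    linarith
  -- the square array
  obtain ⟨M, hM0, hM1⟩ : ∃ M : Option ι → Option ι → ℚ, (∀ b, M b none = (dd b : ℚ)) ∧
      ∀ b s, M b (some s) = (zz b s : ℚ) - (aa b s : ℚ) / n s :=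
    ⟨fun b c => c.elim (dd b : ℚ) (fun s => (zz b s : ℚ) - (aa b s : ℚ) / n s),
      fun _ => rfl, fun _ _ => rfl⟩
  obtain ⟨w, hw0, hw1⟩ : ∃ w : Option ι → ℚ, w none = 1 / (g : ℚ) ∧
      ∀ s, w (some s) = (n s : ℚ) / h s :=
    ⟨fun c => c.elim (1 / (g : ℚ)) (fun s => (n s : ℚ) / h s), rfl, fun _ => rfl⟩
  obtain ⟨ν, hν0, hν1⟩ : ∃ ν : Option ι → ℚ, ν none = 1 ∧ ∀ i, ν (some i) = 1 / (n i : ℚ) :=
    ⟨fun c => c.elim 1 (fun i => 1 / (n i : ℚ)), rfl, fun _ => rfl⟩
  have hwne : ∀ c, w c ≠ 0 := by
    intro c
    cases c with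
    | none => rw [hw0]; exact one_div_ne_zero hgq
    | some s => rw [hw1]; exact div_ne_zero (hnq s) (hhne s)
  have hνne : ∀ b, ν b ≠ 0 := by
    intro b
    cases b with
    | none => rw [hν0]; exact one_ne_zero
    | some i => rw [hν1]; exact one_div_ne_zero (hnq i)
  have haasum : ∀ b b' : Option ι, ∑ s, (aa b s : ℚ) * aa b' s * (1 - 1 / (n s : ℚ))
      = if b = b' then 1 - ν b else 0 := by
    intro b b'
    cases b with
    | none =>
      have h1 : ∑ s, (aa none s : ℚ) * aa b' s * (1 - 1 / (n s : ℚ)) = 0 := by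
        apply Finset.sum_eq_zero
        intro s _
        rw [ha0 s]
        push_cast
        ring
      rw [h1, hν0, sub_self]
      split_ifs <;> rfl
    | some i =>
      cases b' with
      | none =>
        rw [if_neg (by simp)]
        apply Finset.sum_eq_zero
        intro s _
        rw [ha0 s]
        push_cast
        ring
      | some l =>
        by_cases hil : i = l
        · subst hil
          rw [if_pos rfl, hν1]
          rw [Finset.sum_eq_single i]
          · rw [ha i i, if_pos rfl, hε2 i, one_mul]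
          · intro s _ hsi
            rw [ha i s, if_neg (Ne.symm hsi)]
            push_cast
            ring
          · intro h
            exact absurd (Finset.mem_univ i) h
        · rw [if_neg (by simpa using hil)]
          apply Finset.sum_eq_zero
          intro s _
          rw [ha i s, ha l s]
          by_cases his : i = s
          · have hls : ¬ l = s := fun h => hil (his.trans h.symm)
            rw [if_neg hls]
            push_cast
            ring
          · rw [if_neg his]
            push_cast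
            ring
  have hrow : ∀ b b', ∑ c, M b c * w c * M b' c = if b = b' then ν b else 0 := by
    intro b b'
    rw [Fintype.sum_option, hM0, hM0, hw0]
    have h2 : ∀ s ∈ (Finset.univ : Finset ι), M b (some s) * w (some s) * M b' (some s)
        = (1 / ((e s : ℚ) * h s)) * ((zz b s : ℚ) * zz b' s * ((h s : ℚ) - 1)
          - e s * ((zz b s : ℚ) * aa b' s + aa b s * zz b' s)
          + (aa b s : ℚ) * aa b' s * ((e s : ℚ) * h s - (e s : ℚ) ^ 2))
          - (aa b s : ℚ) * aa b' s * (1 - 1 / (n s : ℚ)) := by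
      intro s _
      rw [hM1, hM1, hw1, hhq s]
      have h3 := heq s
      have h4 := hnq s
      have h5 : (e s : ℚ) * n s + 1 ≠ 0 := by rw [← hhq s]; exact hhne s
      field_simp
      ring
    rw [Finset.sum_congr rfl h2, Finset.sum_sub_distrib, haasum b b']
    have h6 := rel b b'
    have e0 : (dd b : ℚ) * (1 / (g : ℚ)) * (dd b' : ℚ) = (dd b : ℚ) * dd b' / g := by ring
    rw [e0]
    by_cases hbb : b = b'
    · rw [if_pos hbb] at h6 ⊢
      rw [if_pos hbb]
      linarith
    · rw [if_neg hbb] at h6 ⊢
      rw [if_neg hbb]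
      linarith
  have hcol := col_orth_of_row_orth M w ν hwne hνne hrow
  have hMnone : ∀ s, M none (some s) = 1 := by
    intro s
    rw [hM1, hz0 s, ha0 s]
    push_cast
    ring
  -- the relations (A)
  have hA : ∀ i, 1 + ∑ j, (n j : ℤ) * (zz (some j) i) ^ 2 - 2 * ε i * zz (some i) i = e i := by
    intro i
    have h1 := hcol (some i) (some i)
    rw [if_pos rfl, Fintype.sum_option, hMnone, hν0, hw1] at h1
    have h2 : ∀ j ∈ (Finset.univ : Finset ι), M (some j) (some i) * (ν (some j))⁻¹ * M (some j) (some i)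
        = (n j : ℚ) * (zz (some j) i : ℚ) ^ 2
          + (if j = i then (-(2 * (ε j : ℚ) * zz (some j) i) + 1 / (n j : ℚ)) else 0) := by
      intro j _
      rw [hM1, hν1, ha j i]
      have h4 := hnq j
      by_cases hji : j = i
      · rw [if_pos hji, if_pos hji, hji]
        have h5 := hε2 i
        have h6 := hnq i
        field_simp
        have h7 : (ε i : ℚ) ^ 2 = 1 := by rw [pow_two]; exact h5
        linear_combination h7
      · rw [if_neg hji, if_neg hji]
        push_cast
        field_simp
        ring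
    rw [Finset.sum_congr rfl h2, Finset.sum_add_distrib, Finset.sum_ite_eq' Finset.univ i,
      if_pos (Finset.mem_univ i)] at h1
    have h8 : ((n i : ℚ) / h i)⁻¹ = (e i : ℚ) + 1 / (n i : ℚ) := by
      rw [hhq i]
      have h6 := hnq i
      have h5 : (e i : ℚ) * n i + 1 ≠ 0 := by rw [← hhq i]; exact hhne i
      field_simp
    rw [h8] at h1
    have h9 : ((1 + ∑ j, (n j : ℤ) * (zz (some j) i) ^ 2 - 2 * ε i * zz (some i) i : ℤ) : ℚ)
        = ((e i : ℤ) : ℚ) := by
      push_cast
      linarith
    exact_mod_cast h9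
  -- the relations (E)
  have hE : ∀ i j, i ≠ j → 1 + ∑ s, (n s : ℤ) * zz (some s) i * zz (some s) j
      - ε j * zz (some j) i - ε i * zz (some i) j = 0 := by
    intro i j hij
    have h1 := hcol (some i) (some j)
    rw [if_neg (by simpa using hij), Fintype.sum_option, hMnone, hMnone, hν0] at h1
    have h2 : ∀ s ∈ (Finset.univ : Finset ι), M (some s) (some i) * (ν (some s))⁻¹ * M (some s) (some j)
        = (n s : ℚ) * (zz (some s) i : ℚ) * (zz (some s) j : ℚ)
          - (if s = i then (ε s : ℚ) * zz (some s) j else 0)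
          - (if s = j then (ε s : ℚ) * zz (some s) i else 0) := by
      intro s _
      rw [hM1, hM1, hν1, ha s i, ha s j]
      have h4 := hnq s
      by_cases hsi : s = i
      · have hsj : ¬ s = j := fun h => hij (hsi.symm.trans h)
        rw [if_pos hsi, if_pos hsi, if_neg hsj, if_neg hsj, hsi]
        have h6 := hnq i
        push_cast
        field_simp
        ring
      · rw [if_neg hsi, if_neg hsi]
        by_cases hsj : s = j
        · rw [if_pos hsj, if_pos hsj, hsj]
          have h6 := hnq j
          push_cast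
          field_simp
          ring
        · rw [if_neg hsj, if_neg hsj]
          push_cast
          field_simp
          ring
    rw [Finset.sum_congr rfl h2, Finset.sum_sub_distrib, Finset.sum_sub_distrib,
      Finset.sum_ite_eq' Finset.univ i, Finset.sum_ite_eq' Finset.univ j,
      if_pos (Finset.mem_univ i), if_pos (Finset.mem_univ j)] at h1
    have h9 : ((1 + ∑ s, (n s : ℤ) * zz (some s) i * zz (some s) j
        - ε j * zz (some j) i - ε i * zz (some i) j : ℤ) : ℚ) = ((0 : ℤ) : ℚ) := by
      push_cast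
      linarith
    exact_mod_cast h9
  exact endgame e n h g hg he hn hneven hh hcop ε hε (fun i => dd (some i)) hd
    (fun i s => zz (some i) s) hD hN hA hE

end Cfsg.Agent.Helper5.Part
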