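import Mathlib
import Cfsg.Prelude.Def_Characters
import Cfsg.Prelude.Def_OddOrderChar
import Cfsg.Prelude.Def_OddOrderLocal
import Cfsg.Agent.Helper5.SibA
import Cfsg.Agent.Helper8.Ind

/-!
The partition theorem (Peterfalvi 7.11), part A: the indicator of the non-identity elements of a
trivial-intersection subgroup, its induction to `G`, and summation over a stratum.
-/

set_option autoImplicit false
set_option linter.unusedSectionVars false

namespace Cfsg.Agent.Helper5.Part

open Cfsg Cfsg.Agent.Helper8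

section Single

variable {G : Type*} [Group G] [Fintype G]

open Classical in
/-- the indicator function, on `L`, of the non-identity elements of `H` -/
noncomputable def uInd (H L : Subgroup G) : L → ℂ :=
  fun t => if (t : G) ∈ H ∧ t ≠ 1 then 1 else 0

theorem uInd_pos (H L : Subgroup G) {t : L} (ht : (t : G) ∈ H) (ht1 : t ≠ 1) : uInd H L t = 1 := by
  classical
  unfold uInd
  rw [if_pos ⟨ht, ht1⟩]

theorem uInd_not_mem (H L : Subgroup G) {t : L} (ht : (t : G) ∉ H) : uInd H L t = 0 := by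
  classical
  unfold uInd
  rw [if_neg (fun h => ht h.1)]

theorem uInd_one (H L : Subgroup G) : uInd H L 1 = 0 := by
  classical
  unfold uInd
  rw [if_neg (fun h => h.2 rfl)]

theorem uInd_isClassFunction (H L : Subgroup G) (hHn : ∀ x ∈ L, ∀ h ∈ H, x * h * x⁻¹ ∈ H) :
    Cfsg.IsClassFunction L (uInd H L) := by
  classical
  intro g y
  unfold uInd
  have h1 : ((y * g * y⁻¹ : L) : G) ∈ H ↔ (g : G) ∈ H := by
    constructor
    · intro h
      have h2 := hHn (y⁻¹ : L) (y⁻¹ : L).2 _ h
      have e : ((y⁻¹ : L) : G) * ((y * g * y⁻¹ : L) : G) * ((y⁻¹ : L) : G)⁻¹ = (g : G) := by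
        push_cast
        group
      rwa [e] at h2
    · intro h
      have h2 := hHn (y : G) y.2 _ h
      have e : ((y * g * y⁻¹ : L) : G) = (y : G) * (g : G) * (y : G)⁻¹ := by
        push_cast
        rfl
      rwa [e]
  have h2 : y * g * y⁻¹ ≠ 1 ↔ g ≠ 1 := by
    constructor
    · intro h hg
      apply h
      rw [hg]
      group
    · intro h hg
      apply h
      have : g = y⁻¹ * (y * g * y⁻¹) * y := by group
      rw [this, hg]
      group
  by_cases hc : (g : G) ∈ H ∧ g ≠ 1
  · rw [if_pos hc, if_pos ⟨h1.mpr hc.1, h2.mpr hc.2⟩]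
  · rw [if_neg hc, if_neg (fun h => hc ⟨h1.mp h.1, h2.mp h.2⟩)]

/-- a function induced from a function vanishing off `H` and at `1` vanishes at the elements not
conjugate to a non-identity element of `H` -/
theorem ind_support (H L : Subgroup G) [Fintype L] (β : L → ℂ)
    (hβH : ∀ t : L, (t : G) ∉ H → β t = 0) (hβ1 : β 1 = 0) (g : G)
    (hg : ∀ x : G, x * g * x⁻¹ ∈ H → g = 1) : Cfsg.indFun L β g = 0 := by
  rw [indFun_def]
  have : ∀ x : G, Cfsg.extendByZero L β (x⁻¹ * g * x) = 0 := by
    intro x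
    by_cases hL : x⁻¹ * g * x ∈ L
    · rw [ebz_mem L β hL]
      by_cases hH : x⁻¹ * g * x ∈ H
      · have h1 : x⁻¹ * g * x⁻¹⁻¹ ∈ H := by rwa [inv_inv]
        have hg1 := hg x⁻¹ h1
        have h2 : (⟨x⁻¹ * g * x, hL⟩ : L) = 1 := by
          apply Subtype.ext
          show x⁻¹ * g * x = 1
          rw [hg1]
          group
        rw [h2, hβ1]
      · exact hβH _ hH
    · exact ebz_not_mem L β hL
  rw [Finset.sum_eq_zero (fun x _ => this x), mul_zero]

/-- the induced indicator at an element conjugate to a non-identity element of `H` -/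
theorem ind_uInd_pos (H L : Subgroup G) [Fintype L] (hHL : H ≤ L)
    (hHn : ∀ x ∈ L, ∀ h ∈ H, x * h * x⁻¹ ∈ H)
    (hTI : Cfsg.IsTISubset (H : Set G)) (hN : Subgroup.normalizer (H : Set G) = L) (g : G)
    (x : G) (hx : x * g * x⁻¹ ∈ H) (hg1 : g ≠ 1) : Cfsg.indFun L (uInd H L) g = 1 := by
  have h1 : Cfsg.indFun L (uInd H L) (x * g * x⁻¹) = Cfsg.indFun L (uInd H L) g :=
    indFun_conj L _ g x
  rw [← h1]
  have ht1 : (⟨x * g * x⁻¹, hHL hx⟩ : L) ≠ 1 := by
    intro h
    apply hg1
    have h2 : x * g * x⁻¹ = 1 := congrArg Subtype.val h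
    have : g = x⁻¹ * (x * g * x⁻¹) * x := by group
    rw [this, h2]
    group
  have h3 := Cfsg.Agent.Helper5.Sib.ti_apply H L hTI hN (uInd H L) (uInd_isClassFunction H L hHn)
    (fun t ht => uInd_not_mem H L ht) ⟨x * g * x⁻¹, hHL hx⟩ hx ht1
  rw [uInd_pos H L hx ht1] at h3
  exact h3

/-- the induced indicator elsewhere -/
theorem ind_uInd_neg (H L : Subgroup G) [Fintype L] (g : G)
    (hg : ∀ x : G, x * g * x⁻¹ ∈ H → g = 1) : Cfsg.indFun L (uInd H L) g = 0 :=
  ind_support H L (uInd H L) (fun t ht => uInd_not_mem H L ht) (uInd_one H L) g hg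

/-- summation against an induced function -/
theorem sum_ind_mul (L : Subgroup G) [Fintype L] (β : L → ℂ) (F : G → ℂ)
    (hF : Cfsg.IsClassFunction G F) :
    ∑ g : G, Cfsg.indFun L β g * F g
      = (Nat.card G : ℂ) * ((Nat.card L : ℂ)⁻¹ * ∑ t : L, β t * F t) := by
  have hcf : Cfsg.IsClassFunction G (fun g => (starRingEnd ℂ) (F g)) := by
    intro g y
    show (starRingEnd ℂ) (F (y * g * y⁻¹)) = (starRingEnd ℂ) (F g)
    rw [hF g y]
  have h1 := frobenius_reciprocity L β (fun g => (starRingEnd ℂ) (F g)) hcf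
  unfold Cfsg.classInner at h1
  simp only [Complex.conj_conj] at h1
  rw [← h1]
  have hG : (Nat.card G : ℂ) ≠ 0 := Nat.cast_ne_zero.mpr Nat.card_pos.ne'
  field_simp

end Single

end Cfsg.Agent.Helper5.Part
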