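import Mathlib
import Cfsg.Prelude.Def_Characters
import Cfsg.Prelude.Def_OddOrderChar
import Cfsg.Prelude.Def_OddOrderLocal
import Cfsg.Agent.Helper5.PartA

/-!
The partition theorem (Peterfalvi 7.11), part B: the partition of `G` into strata and the
resulting expansion of the inner product of two class functions.
-/

set_option autoImplicit false
set_option linter.unusedSectionVars false

namespace Cfsg.Agent.Helper5.Part

open Cfsg Cfsg.Agent.Helper8

section Family

variable {G : Type*} [Group G] [Fintype G] {ι : Type*} [Fintype ι]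

/-- an element conjugate into two subgroups of coprime orders is trivial -/
theorem eq_one_of_conj_mem_of_coprime (A B : Subgroup G)
    (hcop : Nat.Coprime (Nat.card A) (Nat.card B)) (g x y : G) (hx : x * g * x⁻¹ ∈ A)
    (hy : y * g * y⁻¹ ∈ B) : g = 1 := by
  have h1 : ∀ (C : Subgroup G) (w : G), w * g * w⁻¹ ∈ C → g ^ Nat.card C = 1 := by
    intro C w hw
    have h2 : (⟨w * g * w⁻¹, hw⟩ : C) ^ Nat.card C = 1 := pow_card_eq_one'
    have h3 : (w * g * w⁻¹) ^ Nat.card C = 1 := by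
      have h4 := congrArg Subtype.val h2
      push_cast at h4
      exact h4
    rw [conj_pow] at h3
    have : g ^ Nat.card C = w⁻¹ * (w * g ^ Nat.card C * w⁻¹) * w := by group
    rw [this, h3]
    group
  have hA := orderOf_dvd_of_pow_eq_one (h1 A x hx)
  have hB := orderOf_dvd_of_pow_eq_one (h1 B y hy)
  have h4 : orderOf g ∣ 1 := by
    have := Nat.dvd_gcd hA hB
    rwa [hcop.gcd_eq_one] at this
  exact orderOf_eq_one_iff.mp (Nat.dvd_one.mp h4)

variable (L H : ι → Subgroup G) [∀ i, Fintype (L i)]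

open Classical in
/-- the strata partition `G` -/
theorem partition_identity (hHL : ∀ i, H i ≤ L i)
    (hHn : ∀ i, ∀ x ∈ L i, ∀ h ∈ H i, x * h * x⁻¹ ∈ H i)
    (hcop : ∀ i j, i ≠ j → Nat.Coprime (Nat.card (H i)) (Nat.card (H j)))
    (hTI : ∀ i, Cfsg.IsTISubset (H i : Set G) ∧ Subgroup.normalizer (H i : Set G) = L i)
    (hcover : ∀ g : G, g ≠ 1 → ∃ i, ∃ x : G, x * g * x⁻¹ ∈ H i) (g : G) :
    (if g = 1 then (1 : ℂ) else 0) + ∑ i, Cfsg.indFun (L i) (uInd (H i) (L i)) g = 1 := by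
  classical
  by_cases hg : g = 1
  · rw [if_pos hg]
    have : ∀ i ∈ (Finset.univ : Finset ι), Cfsg.indFun (L i) (uInd (H i) (L i)) g = 0 := by
      intro i _
      exact ind_uInd_neg (H i) (L i) g (fun _ _ => hg)
    rw [Finset.sum_eq_zero this, add_zero]
  · rw [if_neg hg, zero_add]
    obtain ⟨i₀, x, hx⟩ := hcover g hg
    rw [Finset.sum_eq_single i₀]
    · exact ind_uInd_pos (H i₀) (L i₀) (hHL i₀) (hHn i₀) (hTI i₀).1 (hTI i₀).2 g x hx hg
    · intro i _ hi
      apply ind_uInd_neg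
      intro y hy
      exact eq_one_of_conj_mem_of_coprime (H i) (H i₀) (hcop i i₀ hi) g y x hy hx
    · intro h
      exact absurd (Finset.mem_univ i₀) h

/-- **expansion of the inner product along the strata** -/
theorem inner_expand (hHL : ∀ i, H i ≤ L i)
    (hHn : ∀ i, ∀ x ∈ L i, ∀ h ∈ H i, x * h * x⁻¹ ∈ H i)
    (hcop : ∀ i j, i ≠ j → Nat.Coprime (Nat.card (H i)) (Nat.card (H j)))
    (hTI : ∀ i, Cfsg.IsTISubset (H i : Set G) ∧ Subgroup.normalizer (H i : Set G) = L i)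
    (hcover : ∀ g : G, g ≠ 1 → ∃ i, ∃ x : G, x * g * x⁻¹ ∈ H i)
    (F₁ F₂ : G → ℂ) (hF₁ : Cfsg.IsClassFunction G F₁) (hF₂ : Cfsg.IsClassFunction G F₂) :
    Cfsg.classInner F₁ F₂ = (Nat.card G : ℂ)⁻¹ * (F₁ 1 * (starRingEnd ℂ) (F₂ 1))
      + ∑ i, (Nat.card (L i) : ℂ)⁻¹ *
          ∑ t : L i, uInd (H i) (L i) t * (F₁ t * (starRingEnd ℂ) (F₂ t)) := by
  classical
  set Φ : G → ℂ := fun g => F₁ g * (starRingEnd ℂ) (F₂ g) with hΦ
  have hΦcf : Cfsg.IsClassFunction G Φ := by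
    intro g y
    show F₁ (y * g * y⁻¹) * (starRingEnd ℂ) (F₂ (y * g * y⁻¹)) = F₁ g * (starRingEnd ℂ) (F₂ g)
    rw [hF₁ g y, hF₂ g y]
  have hG : (Nat.card G : ℂ) ≠ 0 := Nat.cast_ne_zero.mpr Nat.card_pos.ne'
  have h1 : ∑ g : G, Φ g = Φ 1 + ∑ i, ∑ g : G, Cfsg.indFun (L i) (uInd (H i) (L i)) g * Φ g := by
    rw [Finset.sum_comm]
    have h2 : ∀ g : G, Φ g = (if g = 1 then (1 : ℂ) else 0) * Φ g
        + ∑ i, Cfsg.indFun (L i) (uInd (H i) (L i)) g * Φ g := by
      intro g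
      rw [← Finset.sum_mul, ← add_mul, partition_identity L H hHL hHn hcop hTI hcover g, one_mul]
    conv_lhs => rw [Finset.sum_congr rfl (fun g _ => h2 g)]
    rw [Finset.sum_add_distrib]
    congr 1
    rw [Finset.sum_eq_single (1 : G)]
    · rw [if_pos rfl, one_mul]
    · intro g _ hg
      rw [if_neg hg, zero_mul]
    · intro h
      exact absurd (Finset.mem_univ _) h
  unfold Cfsg.classInner
  rw [h1, mul_add]
  congr 1
  rw [Finset.mul_sum]
  apply Finset.sum_congr rfl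
  intro i _
  rw [sum_ind_mul (L i) _ Φ hΦcf, ← mul_assoc, inv_mul_cancel₀ hG, one_mul]

end Family

end Cfsg.Agent.Helper5.Part
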