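import Mathlib
import Cfsg.Prelude.Def_Characters
import Cfsg.Prelude.Def_OddOrderChar
import Cfsg.Prelude.Def_OddOrderLocal
import Cfsg.Agent.Helper5.PartA
import Cfsg.Agent.Helper5.SibB
import Cfsg.Agent.Helper8.FrobKernel3
import Cfsg.Agent.Helper8.ExtendCoherent
import Cfsg.Agent.Helper24.Linear

/-!
The partition theorem (Peterfalvi 7.11), part C: the values on the kernel `H` of an irreducible
character of `G`, computed from its inner products with the coherent extension.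
-/

set_option autoImplicit false
set_option linter.unusedSectionVars false
set_option maxHeartbeats 800000

namespace Cfsg.Agent.Helper5.Part

open Cfsg Cfsg.Agent.Helper8

section Values

variable {G : Type*} [Group G] [Fintype G]

/-- the Frobenius condition inside `L` -/
theorem frob_in (H L : Subgroup G)
    (hF : ∀ x ∈ L, x ∉ H → ∀ h ∈ H, x * h = h * x → h = 1) :
    ∀ n : L, n ∉ H.subgroupOf L → ∀ k ∈ H.subgroupOf L, k * n = n * k → k = 1 := by
  intro n hn k hk hkn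
  have hn' : (n : G) ∉ H := fun h => hn (Subgroup.mem_subgroupOf.mpr h)
  have hk' : (k : G) ∈ H := Subgroup.mem_subgroupOf.mp hk
  have h1 : (n : G) * (k : G) = (k : G) * (n : G) := by
    have := congrArg Subtype.val hkn
    simpa using this.symm
  exact Subtype.ext (hF n n.2 hn' k hk' h1)

variable (H L : Subgroup G) [Fintype L] [hK : (H.subgroupOf L).Normal]

/-- irreducible characters of `L` outside the induced set are constant on the kernel -/
theorem const_of_not_mem (hF : ∀ x ∈ L, x ∉ H → ∀ h ∈ H, x * h = h * x → h = 1)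
    (ψ : Cfsg.IrrCharacter L) (hψ : (ψ : L → ℂ) ∉ Cfsg.inducedIrrAbove (H.subgroupOf L) ⊥)
    (x : L) (hx : (x : G) ∈ H) : (ψ : L → ℂ) x = (ψ : L → ℂ) 1 := by
  by_contra hne
  apply hψ
  have hnc : Cfsg.Agent.Helper8.FrobKer.NonConst (H.subgroupOf L) (ψ : L → ℂ) :=
    ⟨x, Subgroup.mem_subgroupOf.mpr hx, hne⟩
  obtain ⟨θ, hθ1, hθ⟩ := Cfsg.Agent.Helper8.FrobKer.exists_ind_eq (H.subgroupOf L)
    (frob_in H L hF) ψ hnc
  refine ⟨θ, θ.2, ?_, ?_, hθ.symm⟩
  · intro h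
    apply hθ1
    apply Subtype.ext
    rw [h]
    rfl
  · intro a ha
    have : a = 1 := Subtype.ext (Subgroup.mem_bot.mp ha)
    rw [this]

/-- **values on the kernel from proportional multiplicities** -/
theorem rd (hF : ∀ x ∈ L, x ∉ H → ∀ h ∈ H, x * h = h * x → h = 1)
    (f : L → ℂ) (hf : Cfsg.IsClassFunction L f) (η : L → ℂ)
    (hprop : ∀ ψ ∈ Cfsg.inducedIrrAbove (H.subgroupOf L) ⊥, Cfsg.IsIrrCharacter L ψ →
      Cfsg.classInner f ψ * η 1 = Cfsg.classInner f η * ψ 1)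
    (x : L) (hx : (x : G) ∈ H) (hx1 : x ≠ 1) :
    (f x - f 1) * η 1 = - (Cfsg.classInner f η * (Nat.card L : ℂ)) := by
  classical
  haveI : Fintype (Cfsg.IrrCharacter L) :=
    @Fintype.ofFinite _ (Cfsg.Agent.Helper23.finite_irrCharacter L)
  have h1 := Cfsg.Agent.Helper5.Sib.restrict_diff (Cfsg.inducedIrrAbove (H.subgroupOf L) ⊥) f hf η
    (fun ψ hψ => hprop ψ hψ ψ.2) x 1 (fun ψ hψ => const_of_not_mem H L hF ψ hψ x hx)
  rw [h1]
  have h2 : ∑ ψ : Cfsg.IrrCharacter L, (ψ : L → ℂ) 1 * ((ψ : L → ℂ) x - (ψ : L → ℂ) 1)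
      = ∑ ψ : Cfsg.IrrCharacter L, (ψ : L → ℂ) 1 * (ψ : L → ℂ) x
        - ∑ ψ : Cfsg.IrrCharacter L, (ψ : L → ℂ) 1 ^ 2 := by
    rw [← Finset.sum_sub_distrib]
    apply Finset.sum_congr rfl
    intro ψ _
    ring
  rw [h2, Cfsg.Agent.Helper24.sum_sq_irr_one, Cfsg.Agent.Helper24.sum_irr_one_mul_eq_zero hx1]
  ring

/-- **The values of a character of `G` on the kernel `H`**, from its inner products with the
coherent extension `τ₁`: if `⟨τ₁ ψ, χ⟩ = a ⟨ψ, ζ⟩` for all `ψ`, then `χ = z + a ζ` on the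
non-identity elements of `H`, for an integer `z`. -/
theorem values (hHL : H ≤ L) (hF : ∀ x ∈ L, x ∉ H → ∀ h ∈ H, x * h = h * x → h = 1)
    (τ₁ : (L → ℂ) → (G → ℂ))
    (hiso : Cfsg.IsLinearIsometryOn (Cfsg.zspan (Cfsg.inducedIrrAbove (H.subgroupOf L) ⊥)) τ₁)
    (hag : ∀ α ∈ Cfsg.zspanOn (Cfsg.inducedIrrAbove (H.subgroupOf L) ⊥) {1}ᶜ,
      τ₁ α = Cfsg.indFun L α)
    (ζ : L → ℂ) (hζ : ζ ∈ Cfsg.inducedIrrAbove (H.subgroupOf L) ⊥)
    (hζ1 : ζ 1 = ((H.subgroupOf L).index : ℂ))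
    (χ : G → ℂ) (hχ : Cfsg.IsCharacter G χ) (a : ℤ)
    (ha : ∀ ψ ∈ Cfsg.inducedIrrAbove (H.subgroupOf L) ⊥,
      Cfsg.classInner (τ₁ ψ) χ = (a : ℂ) * Cfsg.classInner ψ ζ) :
    ∃ z : ℤ, ∀ t : L, (t : G) ∈ H → t ≠ 1 → χ t = (z : ℂ) + (a : ℂ) * ζ t := by
  classical
  haveI : Fintype (Cfsg.IrrCharacter L) :=
    @Fintype.ofFinite _ (Cfsg.Agent.Helper23.finite_irrCharacter L)
  set K := H.subgroupOf L with hKdef
  set S := Cfsg.inducedIrrAbove K ⊥ with hSdef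
  have hirr : ∀ φ ∈ S, Cfsg.IsIrrCharacter L φ := fun φ hφ =>
    Cfsg.Agent.Helper5.Sib.irr_of_mem H L hF hφ
  have hζirr := hirr ζ hζ
  have hζc := Cfsg.Agent.Helper24.IsIrrCharacter.isCharacter hζirr
  set e := K.index with he
  have he0 : (e : ℂ) ≠ 0 := by
    have : e ≠ 0 := Subgroup.index_ne_zero_of_finite
    exact_mod_cast this
  have hχcf : Cfsg.IsClassFunction G χ := Cfsg.Agent.Helper24.IsCharacter.isClassFunction hχ
  set fχ : L → ℂ := fun l : L => χ l with hfχ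
  have hfχc : Cfsg.IsCharacter L fχ := isCharacter_restrict L hχ
  have hfχcf : Cfsg.IsClassFunction L fχ := Cfsg.Agent.Helper24.IsCharacter.isClassFunction hfχc
  have hζcf : Cfsg.IsClassFunction L ζ := Cfsg.Agent.Helper24.IsCharacter.isClassFunction hζc
  set f : L → ℂ := fχ - (a : ℂ) • ζ with hf
  have hfcf : Cfsg.IsClassFunction L f := by
    intro g y
    show fχ (y * g * y⁻¹) - (a : ℂ) * ζ (y * g * y⁻¹) = fχ g - (a : ℂ) * ζ g
    rw [hfχcf g y, hζcf g y]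
  obtain ⟨mζ, hmζ⟩ := Cfsg.Agent.Helper24.IsCharacter.classInner_nat hfχc hζc
  have hmζ' : Cfsg.classInner ζ fχ = mζ := by
    rw [classInner_conj_symm, hmζ, Complex.conj_natCast]
  have hζζ : Cfsg.classInner ζ ζ = 1 := by
    rw [Cfsg.Agent.Helper24.classInner_of_isIrrCharacter hζirr hζirr, if_pos rfl]
  have hfζ : Cfsg.classInner f ζ = (mζ : ℂ) - a := by
    rw [hf, classInner_sub_left, Cfsg.Agent.Helper23.classInner_smul_left, hmζ, hζζ, mul_one]
  have hprop : ∀ ψ ∈ S, Cfsg.IsIrrCharacter L ψ →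
      Cfsg.classInner f ψ * ζ 1 = Cfsg.classInner f ζ * ψ 1 := by
    intro ψ hψ hψirr
    have hψc := Cfsg.Agent.Helper24.IsIrrCharacter.isCharacter hψirr
    obtain ⟨dψ, -, hdψ⟩ := Cfsg.Agent.Helper24.isIrrCharacter_one hψirr
    obtain ⟨mψ, hmψ⟩ := Cfsg.Agent.Helper24.IsCharacter.classInner_nat hfχc hψc
    have hmψ' : Cfsg.classInner ψ fχ = mψ := by
      rw [classInner_conj_symm, hmψ, Complex.conj_natCast]
    obtain ⟨δ, hδ⟩ := Cfsg.Agent.Helper24.IsCharacter.classInner_nat hψc hζc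
    have hδ' : Cfsg.classInner ζ ψ = δ := by
      rw [classInner_conj_symm, hδ, Complex.conj_natCast]
    have hγ : (e : ℤ) • ψ - (dψ : ℤ) • ζ ∈ Cfsg.zspanOn S {1}ᶜ := by
      rw [mem_zspanOn_compl_one]
      refine ⟨zspan_sub_mem (zspan_zsmul_mem _ (mem_zspan_of_mem hψ))
        (zspan_zsmul_mem _ (mem_zspan_of_mem hζ)), ?_⟩
      simp only [Pi.sub_apply, Pi.smul_apply]
      simp only [zsmul_eq_mul]
      rw [hdψ, hζ1]
      push_cast
      ring
    have h1 := hag _ hγ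
    rw [map_zsmul_sub_zsmul hiso (mem_zspan_of_mem hψ) (mem_zspan_of_mem hζ)] at h1
    have h2 : Cfsg.classInner ((e : ℤ) • τ₁ ψ - (dψ : ℤ) • τ₁ ζ) χ
        = Cfsg.classInner (Cfsg.indFun L ((e : ℤ) • ψ - (dψ : ℤ) • ζ)) χ := by rw [h1]
    rw [classInner_sub_left, classInner_zsmul_left, classInner_zsmul_left, ha ψ hψ, ha ζ hζ,
      frobenius_reciprocity L _ χ hχcf, classInner_sub_left, classInner_zsmul_left,
      classInner_zsmul_left, hδ, hζζ] at h2
    change ((e : ℤ) : ℂ) * ((a : ℂ) * (δ : ℂ)) - ((dψ : ℤ) : ℂ) * ((a : ℂ) * 1)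
      = ((e : ℤ) : ℂ) * Cfsg.classInner ψ fχ - ((dψ : ℤ) : ℂ) * Cfsg.classInner ζ fχ at h2
    rw [hmψ', hmζ'] at h2
    rw [hfζ, hf, classInner_sub_left, Cfsg.Agent.Helper23.classInner_smul_left, hmψ, hδ', hζ1,
      hdψ]
    push_cast at h2 ⊢
    linear_combination -h2
  obtain ⟨d, hd⟩ := char_degree_nat hχ
  have hcardL : (Nat.card L : ℂ) = (e : ℂ) * (Nat.card H : ℂ) := by
    have h1 : K.index * Nat.card K = Nat.card L := Subgroup.index_mul_card K
    have h2 : Nat.card K = Nat.card H := Nat.card_congr (Subgroup.subgroupOfEquivOfLe hHL).toEquiv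
    rw [← h1, h2]
    push_cast
    ring
  refine ⟨(d : ℤ) - a * e - ((mζ : ℤ) - a) * (Nat.card H : ℤ), ?_⟩
  intro t ht ht1
  have h1 := rd H L hF f hfcf ζ hprop t ht ht1
  rw [hfζ, hζ1, hcardL] at h1
  have h2 : f t - f 1 = - (((mζ : ℂ) - a) * (Nat.card H : ℂ)) := by
    apply mul_right_cancel₀ he0
    rw [h1]
    ring
  have h3 : f 1 = (d : ℂ) - (a : ℂ) * e := by
    show fχ 1 - (a : ℂ) * ζ 1 = _
    rw [hζ1]
    show χ ((1 : L) : G) - _ = _
    rw [Subgroup.coe_one, hd]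
  have h4 : f t = χ t - (a : ℂ) * ζ t := rfl
  rw [h3, h4] at h2
  push_cast
  linear_combination h2

end Values

end Cfsg.Agent.Helper5.Part
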