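import Mathlib
import Cfsg.Prelude.Def_Characters
import Cfsg.Prelude.Def_OddOrderChar
import Cfsg.Prelude.Def_OddOrderLocal
import Cfsg.Agent.Helper5.PartC

/-!
The partition theorem (Peterfalvi 7.11), part D: sums over the non-identity elements of the
kernel.
-/

set_option autoImplicit false
set_option linter.unusedSectionVars false
set_option maxHeartbeats 800000

namespace Cfsg.Agent.Helper5.Part

open Cfsg Cfsg.Agent.Helper8

section Sums

variable {G : Type*} [Group G] [Fintype G]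
variable (H L : Subgroup G) [Fintype L] [hK : (H.subgroupOf L).Normal]

/-- the number of non-identity elements of `H` -/
theorem sum_uInd (hHL : H ≤ L) : ∑ t : L, uInd H L t = (Nat.card H : ℂ) - 1 := by
  classical
  have h1 : ∀ t : L, uInd H L t
      = Cfsg.Agent.Helper8.FrobKer.indK (H.subgroupOf L) t - (if t = 1 then (1 : ℂ) else 0) := by
    intro t
    by_cases ht : (t : G) ∈ H
    · have htK : t ∈ H.subgroupOf L := Subgroup.mem_subgroupOf.mpr ht
      rw [Cfsg.Agent.Helper8.FrobKer.indK_mem _ htK]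
      by_cases ht1 : t = 1
      · rw [if_pos ht1, ht1, uInd_one, sub_self]
      · rw [if_neg ht1, uInd_pos H L ht ht1, sub_zero]
    · have htK : t ∉ H.subgroupOf L := fun h => ht (Subgroup.mem_subgroupOf.mp h)
      have ht1 : t ≠ 1 := by
        rintro rfl
        exact ht H.one_mem
      rw [Cfsg.Agent.Helper8.FrobKer.indK_not_mem _ htK, if_neg ht1, uInd_not_mem H L ht, sub_zero]
  rw [Finset.sum_congr rfl (fun t _ => h1 t), Finset.sum_sub_distrib,
    Cfsg.Agent.Helper8.FrobKer.sum_indK, Finset.sum_ite_eq' Finset.univ (1 : L),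
    if_pos (Finset.mem_univ _)]
  have h2 : Nat.card (H.subgroupOf L) = Nat.card H :=
    Nat.card_congr (Subgroup.subgroupOfEquivOfLe hHL).toEquiv
  rw [h2]

/-- summing a function vanishing off `H` over the non-identity elements of `H` -/
theorem sum_uInd_mul (φ : L → ℂ) (hφ : ∀ t : L, (t : G) ∉ H → φ t = 0) :
    ∑ t : L, uInd H L t * φ t = ∑ t : L, φ t - φ 1 := by
  classical
  have h1 : ∀ t : L, uInd H L t * φ t = φ t - (if t = 1 then φ 1 else 0) := by
    intro t
    by_cases ht : (t : G) ∈ H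
    · by_cases ht1 : t = 1
      · rw [if_pos ht1, ht1, uInd_one, zero_mul, sub_self]
      · rw [if_neg ht1, uInd_pos H L ht ht1, one_mul, sub_zero]
    · have ht1 : t ≠ 1 := by
        rintro rfl
        exact ht H.one_mem
      rw [if_neg ht1, uInd_not_mem H L ht, zero_mul, hφ t ht, sub_zero]
  rw [Finset.sum_congr rfl (fun t _ => h1 t), Finset.sum_sub_distrib,
    Finset.sum_ite_eq' Finset.univ (1 : L), if_pos (Finset.mem_univ _)]

variable (hlt : H < L) (hF : ∀ x ∈ L, x ∉ H → ∀ h ∈ H, x * h = h * x → h = 1)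
  (ζ : L → ℂ) (hζ : ζ ∈ Cfsg.inducedIrrAbove (H.subgroupOf L) ⊥)

include hζ in
theorem zeta_vanish (t : L) (ht : (t : G) ∉ H) : ζ t = 0 :=
  Cfsg.Agent.Helper5.Sib.zspan_vanish H L (mem_zspan_of_mem hζ) t ht

include hlt hF hζ in
/-- the sum of the values of `ζ` vanishes -/
theorem sum_zeta : ∑ t : L, ζ t = 0 := by
  classical
  have hirr := Cfsg.Agent.Helper5.Sib.irr_of_mem H L hF hζ
  have h1 := Cfsg.Agent.Helper24.classInner_of_isIrrCharacter hirr
    (Cfsg.Agent.Helper24.trivIrr L).2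
  have hne : ζ ≠ ((Cfsg.Agent.Helper24.trivIrr L : Cfsg.IrrCharacter L) : L → ℂ) := by
    intro h
    obtain ⟨x, hxL, hxH⟩ := SetLike.exists_of_lt hlt
    have h2 := zeta_vanish H L ζ hζ ⟨x, hxL⟩ hxH
    rw [h] at h2
    exact one_ne_zero h2
  rw [if_neg hne] at h1
  unfold Cfsg.classInner at h1
  have hL : (Nat.card L : ℂ) ≠ 0 := Nat.cast_ne_zero.mpr Nat.card_pos.ne'
  rcases mul_eq_zero.mp h1 with h | h
  · exact absurd (inv_eq_zero.mp h) hL
  · rw [← h]
    apply Finset.sum_congr rfl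
    intro t _
    show ζ t = ζ t * (starRingEnd ℂ) 1
    rw [map_one, mul_one]

include hF hζ in
/-- the sum of the squared absolute values of `ζ` -/
theorem sum_zeta_sq : ∑ t : L, ζ t * (starRingEnd ℂ) (ζ t) = (Nat.card L : ℂ) := by
  classical
  have hirr := Cfsg.Agent.Helper5.Sib.irr_of_mem H L hF hζ
  have h1 := Cfsg.Agent.Helper24.classInner_of_isIrrCharacter hirr hirr
  rw [if_pos rfl] at h1
  unfold Cfsg.classInner at h1
  have hL : (Nat.card L : ℂ) ≠ 0 := Nat.cast_ne_zero.mpr Nat.card_pos.ne'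
  field_simp at h1
  exact h1

include hlt hF hζ in
/-- **the stratum sum** of a product of two functions of the shape `z + a ζ` -/
theorem stratum_sum (e : ℕ) (hζ1 : ζ 1 = (e : ℂ)) (z z' a a' : ℤ) (F₁ F₂ : L → ℂ)
    (h₁ : ∀ t : L, (t : G) ∈ H → t ≠ 1 → F₁ t = (z : ℂ) + (a : ℂ) * ζ t)
    (h₂ : ∀ t : L, (t : G) ∈ H → t ≠ 1 → F₂ t = (z' : ℂ) + (a' : ℂ) * ζ t) :
    ∑ t : L, uInd H L t * (F₁ t * (starRingEnd ℂ) (F₂ t))
      = (z : ℂ) * z' * ((Nat.card H : ℂ) - 1) - (e : ℂ) * ((z : ℂ) * a' + (a : ℂ) * z')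
        + (a : ℂ) * a' * ((Nat.card L : ℂ) - (e : ℂ) ^ 2) := by
  classical
  have h1 : ∀ t : L, uInd H L t * (F₁ t * (starRingEnd ℂ) (F₂ t))
      = (z : ℂ) * z' * uInd H L t + (z : ℂ) * a' * (uInd H L t * (starRingEnd ℂ) (ζ t))
        + (a : ℂ) * z' * (uInd H L t * ζ t)
        + (a : ℂ) * a' * (uInd H L t * (ζ t * (starRingEnd ℂ) (ζ t))) := by
    intro t
    by_cases ht : (t : G) ∈ H ∧ t ≠ 1
    · rw [h₁ t ht.1 ht.2, h₂ t ht.1 ht.2, uInd_pos H L ht.1 ht.2]
      simp only [map_add, map_mul, map_intCast]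
      ring
    · have h0 : uInd H L t = 0 := by
        unfold uInd
        rw [if_neg ht]
      rw [h0]
      ring
  rw [Finset.sum_congr rfl (fun t _ => h1 t)]
  simp only [Finset.sum_add_distrib, ← Finset.mul_sum]
  have hv : ∀ t : L, (t : G) ∉ H → ζ t = 0 := zeta_vanish H L ζ hζ
  have s1 := sum_uInd H L hlt.le
  have s2 : ∑ t : L, uInd H L t * ζ t = - (e : ℂ) := by
    rw [sum_uInd_mul H L ζ hv, sum_zeta H L hlt hF ζ hζ, hζ1, zero_sub]
  have s3 : ∑ t : L, uInd H L t * (starRingEnd ℂ) (ζ t) = - (e : ℂ) := by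
    rw [sum_uInd_mul H L (fun t => (starRingEnd ℂ) (ζ t)) (fun t ht => by
      show (starRingEnd ℂ) (ζ t) = 0
      rw [hv t ht, map_zero])]
    have : ∑ t : L, (starRingEnd ℂ) (ζ t) = 0 := by
      rw [← map_sum, sum_zeta H L hlt hF ζ hζ, map_zero]
    rw [this, hζ1, Complex.conj_natCast, zero_sub]
  have s4 : ∑ t : L, uInd H L t * (ζ t * (starRingEnd ℂ) (ζ t))
      = (Nat.card L : ℂ) - (e : ℂ) ^ 2 := by
    rw [sum_uInd_mul H L (fun t => ζ t * (starRingEnd ℂ) (ζ t)) (fun t ht => by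
      show ζ t * (starRingEnd ℂ) (ζ t) = 0
      rw [hv t ht, zero_mul]), sum_zeta_sq H L hF ζ hζ, hζ1, Complex.conj_natCast]
    ring
  rw [s1, s2, s3, s4]
  ring

end Sums

end Cfsg.Agent.Helper5.Part
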