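import Mathlib
import Cfsg.Prelude.Def_Characters
import Cfsg.Prelude.Def_OddOrderChar
import Cfsg.Prelude.Def_OddOrderLocal
import Cfsg.Agent.Helper5.PartB
import Cfsg.Agent.Helper5.PartD
import Cfsg.Agent.Helper5.SibH
import Cfsg.Agent.S1529

/-!
The partition theorem (Peterfalvi 7.11), part E: the irreducible characters of `G` attached to a
Frobenius group with trivial-intersection kernel, and their distinctness.
-/

set_option autoImplicit false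
set_option linter.unusedSectionVars false
set_option maxHeartbeats 800000

namespace Cfsg.Agent.Helper5.Part

open Cfsg Cfsg.Agent.Helper8

section Package

variable {G : Type*} [Group G] [Fintype G]

/-- the data attached to a Frobenius group `L` with trivial-intersection kernel `H` -/
structure Pkg (H L : Subgroup G) [Fintype L] (τ₁ : (L → ℂ) → (G → ℂ)) (ε : ℤ) (ζ : L → ℂ) :
    Prop where
  sign : ε = 1 ∨ ε = -1
  iso : Cfsg.IsLinearIsometryOn (Cfsg.zspan (Cfsg.inducedIrrAbove (H.subgroupOf L) ⊥)) τ₁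
  agree : ∀ α ∈ Cfsg.zspanOn (Cfsg.inducedIrrAbove (H.subgroupOf L) ⊥) {1}ᶜ,
    τ₁ α = Cfsg.indFun L α
  irr : ∀ ψ ∈ Cfsg.inducedIrrAbove (H.subgroupOf L) ⊥, Cfsg.IsIrrCharacter G ((ε : ℂ) • τ₁ ψ)
  inj : ∀ ψ ∈ Cfsg.inducedIrrAbove (H.subgroupOf L) ⊥,
    ∀ φ ∈ Cfsg.inducedIrrAbove (H.subgroupOf L) ⊥, τ₁ ψ = τ₁ φ → ψ = φ
  conj : ∀ ψ ∈ Cfsg.inducedIrrAbove (H.subgroupOf L) ⊥,
    Cfsg.conjFun ψ ∈ Cfsg.inducedIrrAbove (H.subgroupOf L) ⊥ ∧ Cfsg.conjFun ψ ≠ ψ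
  zeta_mem : ζ ∈ Cfsg.inducedIrrAbove (H.subgroupOf L) ⊥
  zeta_one : ζ 1 = ((H.subgroupOf L).index : ℂ)

theorem exists_pkg (H L : Subgroup G) [Fintype L] (hodd : Odd (Nat.card L)) (hlt : H < L)
    (hH1 : H ≠ ⊥) (hnil : Group.IsNilpotent H) (hHn : ∀ x ∈ L, ∀ h ∈ H, x * h * x⁻¹ ∈ H)
    (hF : ∀ x ∈ L, x ∉ H → ∀ h ∈ H, x * h = h * x → h = 1)
    (hTI : Cfsg.IsTISubset (H : Set G)) (hN : Subgroup.normalizer (H : Set G) = L) :
    ∃ (τ₁ : (L → ℂ) → (G → ℂ)) (ε : ℤ) (ζ : L → ℂ), Pkg H L τ₁ ε ζ := by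
  classical
  haveI hKn : (H.subgroupOf L).Normal := by
    constructor
    intro n hn g
    rw [Subgroup.mem_subgroupOf] at hn ⊢
    have := hHn g g.2 n hn
    simpa using this
  have eKH : H.subgroupOf L ≃* H := Subgroup.subgroupOfEquivOfLe hlt.le
  haveI hnilK : Group.IsNilpotent (H.subgroupOf L) := by
    haveI := hnil
    exact Group.nilpotent_of_mulEquiv eKH.symm
  have hsolv : Group.IsSolvable (H.subgroupOf L) := inferInstance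
  obtain ⟨R, hS⟩ := Cfsg.Agent.Helper5.Sib.exists_cohSystem H L hodd hlt hH1 hsolv hF hTI hN
  obtain ⟨-, τ₁, hiso, hag⟩ := Cfsg.Agent.Helper5.Sib.sibley H L hodd hlt hH1 hnil hHn hF hTI hN
  set K := H.subgroupOf L with hKdef
  set S := Cfsg.inducedIrrAbove K ⊥ with hSdef
  haveI : Fintype K := Fintype.ofFinite K
  haveI : Fintype (Cfsg.IrrCharacter K) :=
    @Fintype.ofFinite _ (Cfsg.Agent.Helper23.finite_irrCharacter K)
  have hirr : ∀ φ ∈ S, Cfsg.IsIrrCharacter L φ := fun φ hφ =>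
    Cfsg.Agent.Helper5.Sib.irr_of_mem H L hF hφ
  have hKbot : (⊥ : Subgroup L) < K := by
    rw [bot_lt_iff_ne_bot]
    intro h
    apply hH1
    rw [hKdef, Subgroup.subgroupOf_eq_bot] at h
    rw [← disjoint_self]
    exact h.mono_right hlt.le
  obtain ⟨θ, hθ, hθ1⟩ := exists_linear_irrAbove K hsolv hKbot
  set ζ : L → ℂ := Cfsg.indFun K (θ : K → ℂ) with hζdef
  have hζ : ζ ∈ S := (mem_inducedIrrAbove_iff K).mpr ⟨θ, hθ, rfl⟩
  have hζ1 : ζ 1 = (K.index : ℂ) := by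
    rw [hζdef, Cfsg.Agent.Helper5.indFun_apply_one, hθ1, mul_one]
  have htwo : ∃ χ ∈ S, ∃ ψ ∈ S, χ ≠ ψ :=
    ⟨ζ, hζ, Cfsg.conjFun ζ, hS.conj_mem ζ hζ, fun h => hS.conj_ne ζ hζ h.symm⟩
  have h0 : ∀ α ∈ Cfsg.zspan S, α 1 = 0 → τ₁ α 1 = 0 := by
    intro α hα hα1
    rw [hag α (mem_zspanOn_compl_one.mpr ⟨hα, hα1⟩)]
    show Cfsg.indFun L α 1 = 0
    rw [Cfsg.Agent.Helper5.indFun_apply_one, hα1, mul_zero]
  obtain ⟨ε, hε, hεirr, hinj⟩ := Cfsg.Agent.S1529.result L S hirr htwo τ₁ hiso h0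
  have hεZ : ∃ εz : ℤ, (εz = 1 ∨ εz = -1) ∧ ((εz : ℤ) : ℂ) = ε := by
    rcases hε with h | h
    · exact ⟨1, Or.inl rfl, by rw [h]; norm_num⟩
    · exact ⟨-1, Or.inr rfl, by rw [h]; norm_num⟩
  obtain ⟨εz, hεz, hεzc⟩ := hεZ
  refine ⟨τ₁, εz, ζ, ⟨hεz, hiso, fun α hα => hag α hα, ?_, hinj, ?_, hζ, hζ1⟩⟩
  · intro ψ hψ
    rw [hεzc]
    exact hεirr ψ hψ
  · intro ψ hψ
    exact ⟨hS.conj_mem ψ hψ, hS.conj_ne ψ hψ⟩

end Package

section Distinct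

variable {G : Type*} [Group G] [Fintype G]

/-- nonvanishing of an induced function forces conjugacy into the non-identity elements of `H` -/
theorem exists_conj_of_ind_ne_zero (H L : Subgroup G) [Fintype L] (β : L → ℂ)
    (hβH : ∀ t : L, (t : G) ∉ H → β t = 0) (hβ1 : β 1 = 0) (g : G)
    (h : Cfsg.indFun L β g ≠ 0) : g ≠ 1 ∧ ∃ x : G, x * g * x⁻¹ ∈ H := by
  by_contra hcon
  apply h
  apply ind_support H L β hβH hβ1 g
  intro x hx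
  by_contra hg
  exact hcon ⟨hg, x, hx⟩

/-- functions induced from the non-identity elements of subgroups of coprime orders are
orthogonal -/
theorem classInner_ind_ind_eq_zero (H₁ L₁ H₂ L₂ : Subgroup G) [Fintype L₁] [Fintype L₂]
    (hcop : Nat.Coprime (Nat.card H₁) (Nat.card H₂)) (β₁ : L₁ → ℂ) (β₂ : L₂ → ℂ)
    (h₁H : ∀ t : L₁, (t : G) ∉ H₁ → β₁ t = 0) (h₁1 : β₁ 1 = 0)
    (h₂H : ∀ t : L₂, (t : G) ∉ H₂ → β₂ t = 0) (h₂1 : β₂ 1 = 0) :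
    Cfsg.classInner (Cfsg.indFun L₁ β₁) (Cfsg.indFun L₂ β₂) = 0 := by
  unfold Cfsg.classInner
  have : ∀ g ∈ (Finset.univ : Finset G),
      Cfsg.indFun L₁ β₁ g * (starRingEnd ℂ) (Cfsg.indFun L₂ β₂ g) = 0 := by
    intro g _
    by_cases h1 : Cfsg.indFun L₁ β₁ g = 0
    · rw [h1, zero_mul]
    by_cases h2 : Cfsg.indFun L₂ β₂ g = 0
    · rw [h2, map_zero, mul_zero]
    exfalso
    obtain ⟨hg1, x, hx⟩ := exists_conj_of_ind_ne_zero H₁ L₁ β₁ h₁H h₁1 g h1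
    obtain ⟨-, y, hy⟩ := exists_conj_of_ind_ne_zero H₂ L₂ β₂ h₂H h₂1 g h2
    exact hg1 (eq_one_of_conj_mem_of_coprime H₁ H₂ hcop g x y hx hy)
  rw [Finset.sum_eq_zero this, mul_zero]

variable (H L : Subgroup G) [Fintype L] [hK : (H.subgroupOf L).Normal]
  {τ₁ : (L → ℂ) → (G → ℂ)} {ε : ℤ} {ζ : L → ℂ}

theorem Pkg.eps_ne_zero (P : Pkg H L τ₁ ε ζ) : (ε : ℂ) ≠ 0 := by
  rcases P.sign with h | h <;> rw [h] <;> norm_num

theorem Pkg.eps_mul_self (P : Pkg H L τ₁ ε ζ) : (ε : ℂ) * (ε : ℂ) = 1 := by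
  rcases P.sign with h | h <;> rw [h] <;> norm_num

/-- the difference of the characters attached to `ψ` and its conjugate -/
theorem Pkg.sub_conj (P : Pkg H L τ₁ ε ζ) {ψ : L → ℂ}
    (hψ : ψ ∈ Cfsg.inducedIrrAbove (H.subgroupOf L) ⊥) :
    (ε : ℂ) • τ₁ ψ - (ε : ℂ) • τ₁ (Cfsg.conjFun ψ)
      = (ε : ℂ) • Cfsg.indFun L (ψ - Cfsg.conjFun ψ) := by
  have hc := (P.conj ψ hψ).1
  have h1 : ψ - Cfsg.conjFun ψ
      ∈ Cfsg.zspanOn (Cfsg.inducedIrrAbove (H.subgroupOf L) ⊥) {1}ᶜ := by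
    rw [mem_zspanOn_compl_one]
    refine ⟨zspan_sub_mem (mem_zspan_of_mem hψ) (mem_zspan_of_mem hc), ?_⟩
    obtain ⟨θ, hθ, -, -, rfl⟩ := hψ
    obtain ⟨k, hk⟩ := Cfsg.Agent.Helper24.isIrrCharacter_one hθ
    show Cfsg.indFun (H.subgroupOf L) θ 1
      - (starRingEnd ℂ) (Cfsg.indFun (H.subgroupOf L) θ 1) = 0
    rw [Cfsg.Agent.Helper5.indFun_apply_one, hk.2, map_mul, Complex.conj_natCast,
      Complex.conj_natCast, sub_self]
  have h2 := P.agree _ h1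
  have h3 := map_zsmul_sub_zsmul P.iso (mem_zspan_of_mem hψ) (mem_zspan_of_mem hc) 1 1
  simp only [one_smul] at h3
  rw [← h2, h3, smul_sub]

theorem Pkg.sub_conj_vanish {ψ : L → ℂ}
    (hψ : ψ ∈ Cfsg.inducedIrrAbove (H.subgroupOf L) ⊥) (t : L) (ht : (t : G) ∉ H) :
    (ψ - Cfsg.conjFun ψ) t = 0 := by
  have h1 := Cfsg.Agent.Helper5.Sib.zspan_vanish H L (mem_zspan_of_mem hψ) t ht
  show ψ t - (starRingEnd ℂ) (ψ t) = 0
  rw [h1, map_zero, sub_zero]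

theorem Pkg.sub_conj_one {ψ : L → ℂ}
    (hψ : ψ ∈ Cfsg.inducedIrrAbove (H.subgroupOf L) ⊥) :
    (ψ - Cfsg.conjFun ψ) 1 = 0 := by
  obtain ⟨θ, hθ, -, -, rfl⟩ := hψ
  obtain ⟨k, hk⟩ := Cfsg.Agent.Helper24.isIrrCharacter_one hθ
  show Cfsg.indFun (H.subgroupOf L) θ 1
    - (starRingEnd ℂ) (Cfsg.indFun (H.subgroupOf L) θ 1) = 0
  rw [Cfsg.Agent.Helper5.indFun_apply_one, hk.2, map_mul, Complex.conj_natCast,
    Complex.conj_natCast, sub_self]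

theorem Pkg.irr_ne_conj (P : Pkg H L τ₁ ε ζ) {ψ : L → ℂ}
    (hψ : ψ ∈ Cfsg.inducedIrrAbove (H.subgroupOf L) ⊥) :
    (ε : ℂ) • τ₁ ψ ≠ (ε : ℂ) • τ₁ (Cfsg.conjFun ψ) := by
  intro h
  have h1 : τ₁ ψ = τ₁ (Cfsg.conjFun ψ) := by
    have h2 := congrArg (fun F => (ε : ℂ) • F) h
    simp only [smul_smul, P.eps_mul_self, one_smul] at h2
    exact h2
  exact (P.conj ψ hψ).2 (P.inj ψ hψ _ (P.conj ψ hψ).1 h1).symm

end Distinct

end Cfsg.Agent.Helper5.Part
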