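import Mathlib
import Cfsg.Prelude.Def_Characters
import Cfsg.Prelude.Def_OddOrderChar
import Cfsg.Prelude.Def_OddOrderLocal
import Cfsg.Agent.Helper5.PartE

/-!
The partition theorem (Peterfalvi 7.11), part F: the irreducible characters attached to
different Frobenius groups are distinct, and none of them is the principal character.
-/

set_option autoImplicit false
set_option linter.unusedSectionVars false
set_option maxHeartbeats 800000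

namespace Cfsg.Agent.Helper5.Part

open Cfsg Cfsg.Agent.Helper8

section Distinct2

variable {G : Type*} [Group G] [Fintype G]

/-- members of the induced set are orthogonal to the principal character of `L` -/
theorem classInner_one_eq_zero (H L : Subgroup G) [Fintype L] [hK : (H.subgroupOf L).Normal]
    (hlt : H < L) (hF : ∀ x ∈ L, x ∉ H → ∀ h ∈ H, x * h = h * x → h = 1) {ψ : L → ℂ}
    (hψ : ψ ∈ Cfsg.inducedIrrAbove (H.subgroupOf L) ⊥) :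
    Cfsg.classInner ψ (fun _ : L => (1 : ℂ)) = 0 := by
  unfold Cfsg.classInner
  have h1 : ∑ g : L, ψ g * (starRingEnd ℂ) ((fun _ : L => (1 : ℂ)) g) = ∑ g : L, ψ g := by
    apply Finset.sum_congr rfl
    intro g _
    rw [map_one, mul_one]
  rw [h1, sum_zeta H L hlt hF ψ hψ, mul_zero]

theorem irr_ne_of_coprime (H₁ L₁ H₂ L₂ : Subgroup G) [Fintype L₁] [Fintype L₂]
    [hK₁ : (H₁.subgroupOf L₁).Normal] [hK₂ : (H₂.subgroupOf L₂).Normal]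
    (hcop : Nat.Coprime (Nat.card H₁) (Nat.card H₂))
    {τ₁ : (L₁ → ℂ) → (G → ℂ)} {ε₁ : ℤ} {ζ₁ : L₁ → ℂ} (P₁ : Pkg H₁ L₁ τ₁ ε₁ ζ₁)
    {τ₂ : (L₂ → ℂ) → (G → ℂ)} {ε₂ : ℤ} {ζ₂ : L₂ → ℂ} (P₂ : Pkg H₂ L₂ τ₂ ε₂ ζ₂)
    {ψ : L₁ → ℂ} (hψ : ψ ∈ Cfsg.inducedIrrAbove (H₁.subgroupOf L₁) ⊥)
    {φ : L₂ → ℂ} (hφ : φ ∈ Cfsg.inducedIrrAbove (H₂.subgroupOf L₂) ⊥) :
    (ε₁ : ℂ) • τ₁ ψ ≠ (ε₂ : ℂ) • τ₂ φ := by
  classical
  intro heq
  have hψc := (P₁.conj ψ hψ).1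
  have hφc := (P₂.conj φ hφ).1
  have i1 := P₁.irr ψ hψ
  have i1' := P₁.irr _ hψc
  have i2 := P₂.irr φ hφ
  have i2' := P₂.irr _ hφc
  have hzero : Cfsg.classInner ((ε₁ : ℂ) • τ₁ ψ - (ε₁ : ℂ) • τ₁ (Cfsg.conjFun ψ))
      ((ε₂ : ℂ) • τ₂ φ - (ε₂ : ℂ) • τ₂ (Cfsg.conjFun φ)) = 0 := by
    rw [P₁.sub_conj H₁ L₁ hψ, P₂.sub_conj H₂ L₂ hφ, Cfsg.Agent.Helper23.classInner_smul_left,
      classInner_smul_right,
      classInner_ind_ind_eq_zero H₁ L₁ H₂ L₂ hcop _ _ (Pkg.sub_conj_vanish H₁ L₁ hψ)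
        (Pkg.sub_conj_one H₁ L₁ hψ) (Pkg.sub_conj_vanish H₂ L₂ hφ) (Pkg.sub_conj_one H₂ L₂ hφ),
      mul_zero, mul_zero]
  rw [classInner_sub_left, classInner_sub_right, classInner_sub_right,
    Cfsg.Agent.Helper24.classInner_of_isIrrCharacter i1 i2,
    Cfsg.Agent.Helper24.classInner_of_isIrrCharacter i1 i2',
    Cfsg.Agent.Helper24.classInner_of_isIrrCharacter i1' i2,
    Cfsg.Agent.Helper24.classInner_of_isIrrCharacter i1' i2'] at hzero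
  have n1 : ¬ ((ε₁ : ℂ) • τ₁ ψ = (ε₂ : ℂ) • τ₂ (Cfsg.conjFun φ)) := by
    rw [heq]
    exact P₂.irr_ne_conj H₂ L₂ hφ
  have n2 : ¬ ((ε₁ : ℂ) • τ₁ (Cfsg.conjFun ψ) = (ε₂ : ℂ) • τ₂ φ) := by
    rw [← heq]
    exact fun h => P₁.irr_ne_conj H₁ L₁ hψ h.symm
  rw [if_pos heq, if_neg n1, if_neg n2] at hzero
  by_cases h4 : (ε₁ : ℂ) • τ₁ (Cfsg.conjFun ψ) = (ε₂ : ℂ) • τ₂ (Cfsg.conjFun φ)
  · rw [if_pos h4] at hzero
    norm_num at hzero
  · rw [if_neg h4] at hzero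
    norm_num at hzero

theorem irr_ne_one (H L : Subgroup G) [Fintype L] [hK : (H.subgroupOf L).Normal]
    (hlt : H < L) (hF : ∀ x ∈ L, x ∉ H → ∀ h ∈ H, x * h = h * x → h = 1)
    {τ₁ : (L → ℂ) → (G → ℂ)} {ε : ℤ} {ζ : L → ℂ} (P : Pkg H L τ₁ ε ζ)
    {ψ : L → ℂ} (hψ : ψ ∈ Cfsg.inducedIrrAbove (H.subgroupOf L) ⊥) :
    (ε : ℂ) • τ₁ ψ ≠ (fun _ : G => (1 : ℂ)) := by
  classical
  intro heq
  have hψc := (P.conj ψ hψ).1
  have i1 := P.irr ψ hψ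
  have i1' := P.irr _ hψc
  have i0 : Cfsg.IsIrrCharacter G (fun _ : G => (1 : ℂ)) := (Cfsg.Agent.Helper24.trivIrr G).2
  have hcf : Cfsg.IsClassFunction G (fun _ : G => (1 : ℂ)) := fun _ _ => rfl
  have hzero : Cfsg.classInner ((ε : ℂ) • τ₁ ψ - (ε : ℂ) • τ₁ (Cfsg.conjFun ψ))
      (fun _ : G => (1 : ℂ)) = 0 := by
    rw [P.sub_conj H L hψ, Cfsg.Agent.Helper23.classInner_smul_left,
      frobenius_reciprocity L _ _ hcf, classInner_sub_left]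
    have h1 := classInner_one_eq_zero H L hlt hF hψ
    have h2 := classInner_one_eq_zero H L hlt hF hψc
    change (ε : ℂ) * (Cfsg.classInner ψ (fun _ : L => (1 : ℂ))
      - Cfsg.classInner (Cfsg.conjFun ψ) (fun _ : L => (1 : ℂ))) = 0
    rw [h1, h2, sub_zero, mul_zero]
  rw [classInner_sub_left, Cfsg.Agent.Helper24.classInner_of_isIrrCharacter i1 i0,
    Cfsg.Agent.Helper24.classInner_of_isIrrCharacter i1' i0, if_pos heq] at hzero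
  have n2 : ¬ ((ε : ℂ) • τ₁ (Cfsg.conjFun ψ) = (fun _ : G => (1 : ℂ))) := by
    rw [← heq]
    exact fun h => P.irr_ne_conj H L hψ h.symm
  rw [if_neg n2] at hzero
  norm_num at hzero

end Distinct2

end Cfsg.Agent.Helper5.Part
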