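import Mathlib
import Cfsg.Prelude.Def_Characters
import Cfsg.Prelude.Def_OddOrderChar
import Cfsg.Prelude.Def_OddOrderLocal
import Cfsg.Agent.Helper5.PartF
import Cfsg.Agent.Helper5.PartG
import Cfsg.Agent.Helper5.PartArithC

/-!
The partition theorem (Peterfalvi 7.11), part H: the assembly.
-/

set_option autoImplicit false
set_option linter.unusedSectionVars false
set_option maxHeartbeats 1600000

namespace Cfsg.Agent.Helper5.Part

open Cfsg Cfsg.Agent.Helper8

section Assembly

variable {G : Type*} [Group G] [Fintype G] {ι : Type*} [Fintype ι] [Nonempty ι]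

/-- **No group of odd order is partitioned by the conjugates of the kernels of Frobenius groups
with trivial-intersection kernels of pairwise coprime orders** (Peterfalvi 7.11). -/
theorem partition_contra (hodd : Odd (Nat.card G)) (L H : ι → Subgroup G)
    (hHL : ∀ i, H i < L i) (hH1 : ∀ i, H i ≠ ⊥)
    (hHn : ∀ i, ∀ x ∈ L i, ∀ h ∈ H i, x * h * x⁻¹ ∈ H i)
    (hF : ∀ i, ∀ x ∈ L i, x ∉ H i → ∀ h ∈ H i, x * h = h * x → h = 1)
    (hcop : ∀ i j, i ≠ j → Nat.Coprime (Nat.card (H i)) (Nat.card (H j)))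
    (hTI : ∀ i, Cfsg.IsTISubset (H i : Set G) ∧ Subgroup.normalizer (H i : Set G) = L i)
    (hcover : ∀ g : G, g ≠ 1 → ∃ i, ∃ x : G, x * g * x⁻¹ ∈ H i) : False := by
  classical
  haveI hLfin : ∀ i, Fintype (L i) := fun i => Fintype.ofFinite (L i)
  haveI hKn : ∀ i, ((H i).subgroupOf (L i)).Normal := by
    intro i
    constructor
    intro n hn g
    rw [Subgroup.mem_subgroupOf] at hn ⊢
    have := hHn i g g.2 n hn
    simpa using this
  have hoddL : ∀ i, Odd (Nat.card (L i)) := fun i =>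
    hodd.of_dvd_nat (Subgroup.card_subgroup_dvd_card (L i))
  have hnil : ∀ i, Group.IsNilpotent (H i) := fun i =>
    frob_kernel_nilpotent (H i) (L i) (hHL i) (hHn i) (hF i)
  have hpk : ∀ i, ∃ (τ₁ : (L i → ℂ) → (G → ℂ)) (ε : ℤ) (ζ : L i → ℂ),
      Pkg (H i) (L i) τ₁ ε ζ := fun i =>
    exists_pkg (H i) (L i) (hoddL i) (hHL i) (hH1 i) (hnil i) (hHn i) (hF i) (hTI i).1 (hTI i).2
  choose τs εs ζs hP using hpk
  -- the rows
  obtain ⟨Χ, hΧ0, hΧ1⟩ : ∃ Χ : Option ι → (G → ℂ), Χ none = (fun _ : G => (1 : ℂ)) ∧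
      ∀ i, Χ (some i) = (εs i : ℂ) • τs i (ζs i) :=
    ⟨fun b => b.elim (fun _ : G => (1 : ℂ)) (fun i => (εs i : ℂ) • τs i (ζs i)),
      rfl, fun _ => rfl⟩
  have hirrΧ : ∀ b, Cfsg.IsIrrCharacter G (Χ b) := by
    intro b
    cases b with
    | none => rw [hΧ0]; exact (Cfsg.Agent.Helper24.trivIrr G).2
    | some i => rw [hΧ1]; exact (hP i).irr _ (hP i).zeta_mem
  have hneΧ : ∀ b b', b ≠ b' → Χ b ≠ Χ b' := by
    intro b b' hbb
    cases b with
    | none =>
      cases b' with
      | none => exact absurd rfl hbb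
      | some l =>
        rw [hΧ0, hΧ1]
        exact (irr_ne_one (H l) (L l) (hHL l) (hF l) (hP l) (hP l).zeta_mem).symm
    | some i =>
      cases b' with
      | none =>
        rw [hΧ0, hΧ1]
        exact irr_ne_one (H i) (L i) (hHL i) (hF i) (hP i) (hP i).zeta_mem
      | some l =>
        have hil : i ≠ l := fun h => hbb (by rw [h])
        rw [hΧ1, hΧ1]
        exact irr_ne_of_coprime (H i) (L i) (H l) (L l) (hcop i l hil) (hP i) (hP l)
          (hP i).zeta_mem (hP l).zeta_mem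
  have horth : ∀ b b', Cfsg.classInner (Χ b) (Χ b') = if b = b' then 1 else 0 := by
    intro b b'
    rw [Cfsg.Agent.Helper24.classInner_of_isIrrCharacter (hirrΧ b) (hirrΧ b')]
    by_cases hbb : b = b'
    · rw [if_pos hbb, if_pos (by rw [hbb])]
    · rw [if_neg hbb, if_neg (hneΧ b b' hbb)]
  -- the coefficients of `ζ`
  obtain ⟨aa, haa0, haa1⟩ : ∃ aa : Option ι → ι → ℤ, (∀ s, aa none s = 0) ∧
      ∀ i s, aa (some i) s = if i = s then εs i else 0 :=
    ⟨fun b s => b.elim 0 (fun i => if i = s then εs i else 0), fun _ => rfl, fun _ _ => rfl⟩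
  have hcharΧ : ∀ b, Cfsg.IsCharacter G (Χ b) := fun b =>
    Cfsg.Agent.Helper24.IsIrrCharacter.isCharacter (hirrΧ b)
  have hvals' : ∀ i s, ∃ z : ℤ, ∀ t : L s, (t : G) ∈ H s → t ≠ 1 →
      Χ (some i) t = (z : ℂ) + (aa (some i) s : ℂ) * ζs s t := by
    intro i s
    apply values (H s) (L s) (hHL s).le (hF s) (τs s) (hP s).iso (hP s).agree (ζs s)
      (hP s).zeta_mem (hP s).zeta_one (Χ (some i)) (hcharΧ (some i)) (aa (some i) s)
    intro ψ hψ
    by_cases his : i = s
    · subst his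
      rw [hΧ1 i, haa1, if_pos rfl, classInner_smul_right, map_intCast,
        (hP i).iso.2.2.1 ψ (mem_zspan_of_mem hψ) (ζs i) (mem_zspan_of_mem (hP i).zeta_mem)]
    · rw [haa1, if_neg his, Int.cast_zero, zero_mul]
      have h1 := irr_ne_of_coprime (H s) (L s) (H i) (L i) (hcop s i (Ne.symm his)) (hP s) (hP i)
        hψ (hP i).zeta_mem
      have h2 := Cfsg.Agent.Helper24.classInner_of_isIrrCharacter ((hP s).irr ψ hψ)
        (hirrΧ (some i))
      rw [hΧ1 i, if_neg h1, Cfsg.Agent.Helper23.classInner_smul_left] at h2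
      rcases mul_eq_zero.mp h2 with h3 | h3
      · exact absurd h3 ((hP s).eps_ne_zero (H s) (L s))
      · rw [hΧ1 i]
        exact h3
  choose z' hz' using hvals'
  obtain ⟨zz, hzz0, hzz1⟩ : ∃ zz : Option ι → ι → ℤ, (∀ s, zz none s = 1) ∧
      ∀ i s, zz (some i) s = z' i s :=
    ⟨fun b s => b.elim 1 (fun i => z' i s), fun _ => rfl, fun _ _ => rfl⟩
  have hzz : ∀ b s, ∀ t : L s, (t : G) ∈ H s → t ≠ 1 →
      Χ b t = (zz b s : ℂ) + (aa b s : ℂ) * ζs s t := by
    intro b s t ht ht1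
    cases b with
    | none =>
      rw [hΧ0, hzz0, haa0]
      push_cast
      ring
    | some i =>
      rw [hzz1]
      exact hz' i s t ht ht1
  -- the degrees
  have hdeg' : ∀ i, ∃ d : ℤ, 1 ≤ d ∧ Χ (some i) 1 = (d : ℂ) := by
    intro i
    obtain ⟨n, hn, hn1⟩ := Cfsg.Agent.Helper24.isIrrCharacter_one (hirrΧ (some i))
    refine ⟨n, by exact_mod_cast hn, ?_⟩
    rw [hn1]
    push_cast
    rfl
  choose d' hd'1 hd' using hdeg'
  obtain ⟨dd, hdd0, hdd1⟩ : ∃ dd : Option ι → ℤ, dd none = 1 ∧ ∀ i, dd (some i) = d' i :=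
    ⟨fun b => b.elim 1 (fun i => d' i), rfl, fun _ => rfl⟩
  have hdd : ∀ b, Χ b 1 = (dd b : ℂ) := by
    intro b
    cases b with
    | none =>
      rw [hΧ0, hdd0]
      push_cast
      rfl
    | some i =>
      rw [hdd1]
      exact hd' i
  -- the numerical invariants
  set e : ι → ℕ := fun s => ((H s).subgroupOf (L s)).index with hedef
  set h : ι → ℕ := fun s => Nat.card (H s) with hhdef
  set g : ℕ := Nat.card G with hgdef
  have hg : 0 < g := Nat.card_pos
  have hcardL : ∀ s, Nat.card (L s) = e s * h s := by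
    intro s
    have h1 : ((H s).subgroupOf (L s)).index * Nat.card ((H s).subgroupOf (L s))
        = Nat.card (L s) := Subgroup.index_mul_card _
    have h2 : Nat.card ((H s).subgroupOf (L s)) = Nat.card (H s) :=
      Nat.card_congr (Subgroup.subgroupOfEquivOfLe (hHL s).le).toEquiv
    rw [← h1, h2]
  have hcfΧ : ∀ b, Cfsg.IsClassFunction G (Χ b) := fun b =>
    Cfsg.Agent.Helper24.IsCharacter.isClassFunction (hcharΧ b)
  have relC : ∀ b b' : Option ι, (if b = b' then (1 : ℂ) else 0)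
      = (dd b : ℂ) * dd b' / g + ∑ s, (1 / ((e s : ℂ) * h s)) *
        ((zz b s : ℂ) * zz b' s * ((h s : ℂ) - 1)
          - e s * ((zz b s : ℂ) * aa b' s + aa b s * zz b' s)
          + (aa b s : ℂ) * aa b' s * ((e s : ℂ) * h s - (e s : ℂ) ^ 2)) := by
    intro b b'
    rw [← horth b b', inner_expand L H (fun i => (hHL i).le) hHn hcop hTI hcover (Χ b) (Χ b')
      (hcfΧ b) (hcfΧ b'), hdd b, hdd b', map_intCast]
    congr 1
    · rw [div_eq_mul_inv, mul_comm]
    · apply Finset.sum_congr rfl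
      intro s _
      rw [stratum_sum (H s) (L s) (hHL s) (hF s) (ζs s) (hP s).zeta_mem (e s) (hP s).zeta_one
        (zz b s) (zz b' s) (aa b s) (aa b' s) (fun t => Χ b t) (fun t => Χ b' t)
        (hzz b s) (hzz b' s), hcardL s]
      push_cast
      rw [one_div]
  have rel : ∀ b b' : Option ι, (if b = b' then (1 : ℚ) else 0)
      = (dd b : ℚ) * dd b' / g + ∑ s, (1 / ((e s : ℚ) * h s)) *
        ((zz b s : ℚ) * zz b' s * ((h s : ℚ) - 1)
          - e s * ((zz b s : ℚ) * aa b' s + aa b s * zz b' s)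
          + (aa b s : ℚ) * aa b' s * ((e s : ℚ) * h s - (e s : ℚ) ^ 2)) := by
    intro b b'
    have h1 := relC b b'
    apply (Rat.cast_injective (α := ℂ))
    push_cast
    rw [← h1]
    split_ifs <;> simp
  -- arithmetic facts
  have hhodd : ∀ s, Odd (h s) := fun s =>
    hodd.of_dvd_nat (Subgroup.card_subgroup_dvd_card (H s))
  have heodd : ∀ s, Odd (e s) := fun s =>
    (hoddL s).of_dvd_nat ((H s).subgroupOf (L s)).index_dvd_card
  have he1 : ∀ s, 1 < e s := by
    intro s
    have h0 : e s ≠ 0 := Subgroup.index_ne_zero_of_finite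
    have h1 : e s ≠ 1 := by
      intro h1
      have h2 : (H s).subgroupOf (L s) = ⊤ := Subgroup.index_eq_one.mp h1
      rw [Subgroup.subgroupOf_eq_top] at h2
      exact (hHL s).not_ge h2
    omega
  have hh1 : ∀ s, 1 < h s := fun s => (H s).one_lt_card_iff_ne_bot.mpr (hH1 s)
  have hdvd : ∀ s, e s ∣ h s - 1 := fun s => frob_index_dvd (H s) (L s) (hHn s) (hF s)
  set n : ι → ℕ := fun s => (h s - 1) / e s with hndef
  have hen : ∀ s, e s * n s = h s - 1 := fun s => Nat.mul_div_cancel' (hdvd s)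
  have hh : ∀ s, h s = e s * n s + 1 := by
    intro s
    have := hh1 s
    have := hen s
    omega
  have hneven : ∀ s, Even (n s) := by
    intro s
    have h1 : Even (e s * n s) := by
      rw [hen s]
      obtain ⟨k, hk⟩ := hhodd s
      exact ⟨k, by omega⟩
    rcases Nat.even_mul.mp h1 with h2 | h2
    · exact absurd h2 (Nat.not_even_iff_odd.mpr (heodd s))
    · exact h2
  have hn2 : ∀ s, 2 ≤ n s := by
    intro s
    have h0 : n s ≠ 0 := by
      intro h0
      have := hen s
      rw [h0, mul_zero] at this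
      have := hh1 s
      omega
    obtain ⟨k, hk⟩ := hneven s
    omega
  have hd1 : ∀ i, 1 ≤ dd (some i) := by
    intro i
    rw [hdd1]
    exact hd'1 i
  exact arith_contra e n h g hg he1 hn2 hneven hh hcop εs (fun i => (hP i).sign) dd zz aa hdd0
    hzz0 haa0 hd1 haa1 rel

end Assembly

end Cfsg.Agent.Helper5.Part
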