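import Mathlib
import Cfsg.Prelude.Def_Characters
import Cfsg.Prelude.Def_Blocks

set_option autoImplicit false

/-!
# Groups whose nonlinear irreducible characters have prime degree (S4466, S4813): shared definition
-/

namespace Cfsg.Agent.Helper5.PD

open Cfsg

universe u

/-- every irreducible character has degree `1` or a prime -/
def PrimeDeg (G : Type u) [Group G] : Prop :=
  ∀ χ : IrrCharacter G, charDegree (χ : G → ℂ) ≠ 1 → (charDegree (χ : G → ℂ)).Prime

end Cfsg.Agent.Helper5.PD
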