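import Mathlib
import Cfsg.Agent.S0713
import Cfsg.Agent.Helper4.S0679J
import Cfsg.Agent.Helper25.S0679CT
import Cfsg.Agent.Helper5.S0679ORD
import Cfsg.Agent.Helper20.S0679NO33

set_option autoImplicit false
set_option linter.unusedSectionVars false
set_option linter.unusedVariables false

/-! # S0679 (insoluble transitive groups of degree 11), chapter (6) (designer helper18), piece TRANS3 = (6.3):
`G` is 3-transitive. -/

namespace Cfsg.Agent.S0679P

open Equiv MulAction

variable {α : Type*} [Fintype α] [DecidableEq α] {G : Subgroup (Equiv.Perm α)}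

/-- an element of `G` of order 3 fixing the three points of `x` does not exist -/
theorem TRANS3.aux_no3 (h11 : Fintype.card α = 11) (h2 : IsMultiplyPretransitive G α 2)
    (hA : ¬ alternatingGroup α ≤ G) (hord : Nat.card G = 7920) (x : Fin 3 ↪ α) {g : Perm α}
    (hg : g ∈ G) (h3 : orderOf g = 3) (hfix : ∀ i, g (x i) = x i) : False := by
  classical
  obtain ⟨j, hj1, hct, hsupp, hcyc, -⟩ := CT (g := g) Nat.prime_three h3
  have hs : g.support.card + 3 ≤ 11 := by
    have hsub : (Finset.univ.image x) ⊆ g.supportᶜ := by
      intro a ha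
      obtain ⟨i, -, rfl⟩ := Finset.mem_image.mp ha
      rw [Finset.mem_compl, Perm.mem_support, not_not]
      exact hfix i
    have hc := Finset.card_le_card hsub
    rw [Finset.card_image_of_injective _ x.injective, Finset.card_univ, Fintype.card_fin,
      Finset.card_compl, h11] at hc
    have := Finset.card_le_univ g.support
    rw [h11] at this
    omega
  have hj2 : j = 1 ∨ j = 2 := by omega
  rcases hj2 with rfl | rfl
  · have hc := hcyc rfl
    have hcard : g.support.card = 3 := by rw [hsupp]
    exact J h11 h2 hA hg hc (by rw [hcard]; exact Nat.prime_three) (by rw [hcard]; norm_num)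
  · have hct' : g.cycleType = {3, 3} := by
      rw [hct]; rfl
    exact NO33 h11 h2 hA hord hg hct'

theorem TRANS3 (h11 : Fintype.card α = 11) (h2 : IsMultiplyPretransitive G α 2)
    (hA : ¬ alternatingGroup α ≤ G) (hord : Nat.card G = 7920) : IsMultiplyPretransitive G α 3 := by
  classical
  have key : ∀ x : Fin 3 ↪ α, Nat.card (stabilizer G x) ∣ 8 := by
    intro x
    set x2 : Fin 2 ↪ α := (Fin.castSuccEmb (n := 2)).trans x with hx2
    have hle : stabilizer G x ≤ stabilizer G x2 := by
      intro k hk
      rw [mem_stabilizer_iff] at hk ⊢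
      ext i
      have := DFunLike.congr_fun hk (Fin.castSucc i)
      exact this
    have h72 : Nat.card (stabilizer G x) ∣ 72 := by
      rw [← ORD2 h11 h2 hord x2]
      exact Subgroup.card_dvd_of_le hle
    have h3 : ¬ 3 ∣ Nat.card (stabilizer G x) := by
      intro hdvd
      have : Fact (Nat.Prime 3) := ⟨Nat.prime_three⟩
      obtain ⟨k, hk⟩ := exists_prime_orderOf_dvd_card' 3 hdvd
      have hk3 : orderOf (((k : ↥G) : Perm α)) = 3 := by
        rw [Subgroup.orderOf_coe, Subgroup.orderOf_coe]; exact hk
      have hfix : ∀ i, ((k : ↥G) : Perm α) (x i) = x i := by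
        intro i
        have hkm := k.2
        rw [mem_stabilizer_iff] at hkm
        have := DFunLike.congr_fun hkm i
        simpa [Function.Embedding.smul_apply, Subgroup.smul_def] using this
      exact TRANS3.aux_no3 h11 h2 hA hord x (k : ↥G).2 hk3 hfix
    have hcop : Nat.Coprime (Nat.card (stabilizer G x)) 9 := by
      have : Nat.Coprime (Nat.card (stabilizer G x)) 3 := by
        rw [Nat.coprime_comm]
        exact (Nat.Prime.coprime_iff_not_dvd Nat.prime_three).mpr h3
      have h9 : (9 : ℕ) = 3 ^ 2 := by norm_num
      rw [h9]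
      exact Nat.Coprime.pow_right 2 this
    have h72' : Nat.card (stabilizer G x) ∣ 8 * 9 := h72
    exact hcop.dvd_of_dvd_mul_right h72'
  -- orbit-stabiliser
  have hcardE : Nat.card (Fin 3 ↪ α) = 990 := by
    rw [Nat.card_eq_fintype_card, Fintype.card_embedding_eq, h11, Fintype.card_fin]
    rfl
  refine ⟨fun x y => ?_⟩
  have hK := key x
  have hidx : Nat.card (stabilizer G x) * (stabilizer G x).index = 7920 := by
    rw [Subgroup.card_mul_index, hord]
  have hpos : 0 < Nat.card (stabilizer G x) := Nat.card_pos
  have hle8 : Nat.card (stabilizer G x) ≤ 8 := Nat.le_of_dvd (by norm_num) hK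
  have horb : 990 ≤ (orbit G x).ncard := by
    have hix : (stabilizer G x).index = (orbit G x).ncard := MulAction.index_stabilizer (↥G) x
    rw [← hix]
    by_contra hlt
    push Not at hlt
    have : Nat.card (stabilizer G x) * (stabilizer G x).index ≤ 8 * 989 :=
      Nat.mul_le_mul hle8 (by omega)
    omega
  have huniv : orbit G x = Set.univ := by
    apply Set.eq_of_subset_of_ncard_le (Set.subset_univ _)
    · rw [Set.ncard_univ, hcardE]; exact horb
  have hy : y ∈ orbit G x := by rw [huniv]; exact Set.mem_univ y
  obtain ⟨g, hg⟩ := hy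
  exact ⟨g, hg⟩

end Cfsg.Agent.S0679P
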