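import Mathlib
import Cfsg.Agent.Helper2.S2094.DefsR

set_option autoImplicit false
set_option linter.unusedSectionVars false
set_option linter.unusedVariables false
set_option linter.unusedSimpArgs false

/-! S2094 (driver helper2), piece XMATB: the relations between the model matrices `xmB`, `ymB`,
`blkB`. -/

namespace Cfsg.Agent.S2094P

open Matrix Cfsg.Agent.S3352P Cfsg.Agent.S3351P Cfsg.Agent.S2096P

variable {n : ℕ} {F : Type*} [Field F]

namespace XMATB

/-- matrix units on `I n` -/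
def E (i j : I n) : Matrix (I n) (I n) F := Matrix.single i j (1 : F)

theorem E_mul_E (i j k l : I n) :
    (E i j : Matrix (I n) (I n) F) * E k l = if j = k then E i l else 0 := by
  unfold E
  split_ifs with h
  · subst h
    rw [Matrix.single_mul_single_same, mul_one]
  · rw [Matrix.single_mul_single_of_ne _ _ _ _ h]

/-- nilpotent part of `ymB` -/
def Ny (a : J n) (t : F) : Matrix (I n) (I n) F :=
  (2 * t) • E (Sum.inr a) o0 - t • E o0 (Sum.inr (ng a)) - (t * t) • E (Sum.inr a) (Sum.inr (ng a))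

/-- nilpotent part of `xmB` -/
def Nx (a b : J n) (t : F) : Matrix (I n) (I n) F :=
  t • (E (Sum.inr a) (Sum.inr b) - E (Sum.inr (ng b)) (Sum.inr (ng a)))

theorem ymB_eq (a : J n) (t : F) : ymB a t = 1 + Ny a t := by
  unfold ymB Ny E
  abel

theorem xmB_eq (a b : J n) (t : F) : xmB a b t = 1 + Nx a b t := rfl

theorem one_add_mul_one_add (A B : Matrix (I n) (I n) F) :
    (1 + A) * (1 + B) = 1 + A + B + A * B := by
  rw [mul_add, add_mul, add_mul, one_mul, mul_one, one_mul]
  abel

theorem Ny_mul_Ny_self (a : J n) (s t : F) :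
    (Ny a s : Matrix (I n) (I n) F) * Ny a t = (-(2 * s * t)) • E (Sum.inr a) (Sum.inr (ng a)) := by
  have h1 : ng a ≠ a := ng_ne a
  simp only [Ny, mul_sub, sub_mul, smul_mul_assoc, mul_smul_comm, E_mul_E, smul_sub]
  simp [h1, smul_smul]
  module

end XMATB

open XMATB

/-! ### XMATB: the relations between the model matrices -/

theorem blkB_one : blkB (1 : Matrix (J n) (J n) F) = 1 := by
  unfold blkB
  exact Matrix.fromBlocks_one

theorem blkB_mul (A B : Matrix (J n) (J n) F) : blkB (A * B) = blkB A * blkB B := by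
  unfold blkB
  rw [Matrix.fromBlocks_multiply]
  simp

theorem blkB_injective : Function.Injective (blkB (n := n) (F := F)) := by
  intro A B h
  unfold blkB at h
  exact (Matrix.fromBlocks_inj.mp h).2.2.2

theorem xmB_eq_blkB (a b : J n) (t : F) : xmB a b t = blkB (xm a b t) := by
  unfold xmB xm blkB
  ext i j
  rcases i with i | i <;> rcases j with j | j <;>
    simp [Matrix.add_apply, Matrix.smul_apply, Matrix.sub_apply, Matrix.single_apply,
      Matrix.one_apply]

theorem ymB_zero (a : J n) : ymB a (0 : F) = 1 := by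
  unfold ymB
  simp

theorem ymB_add (a : J n) (s t : F) : ymB a (s + t) = ymB a s * ymB a t := by
  rw [ymB_eq, ymB_eq, ymB_eq, one_add_mul_one_add, Ny_mul_Ny_self]
  unfold Ny
  module

namespace XMATB

theorem ymB_mul_neg (a : J n) (t : F) : ymB a t * ymB a (-t) = 1 := by
  rw [← ymB_add, add_neg_cancel, ymB_zero]

theorem xmB_mul_neg {a b : J n} (hab : IsRoot a b) (s : F) : xmB a b s * xmB a b (-s) = 1 := by
  have e1 : ng a ≠ b := fun h => hab.2 (by rw [← h, ng_ng])
  have e2 : ng b ≠ a := fun h => hab.2 h.symm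
  have e3 : b ≠ a := hab.1.symm
  have e4 : ng a ≠ a := ng_ne a
  have e5 : ng b ≠ b := ng_ne b
  have e6 : a ≠ ng a := (ng_ne a).symm
  have e7 : b ≠ ng b := (ng_ne b).symm
  have e8 : ng a ≠ ng b := fun h => hab.1 (ng_injective h)
  have e9 : ng b ≠ ng a := fun h => hab.1 (ng_injective h).symm
  have e10 : b ≠ ng a := fun h => e1 h.symm
  rw [xmB_eq, xmB_eq]
  simp [Nx, ng_ng, mul_add, add_mul, mul_sub, sub_mul, one_mul, mul_one, smul_mul_assoc,
    mul_smul_comm, E_mul_E, smul_sub, smul_add, hab.1, hab.2, e1, e2, e3, e4, e5, e6, e7, e8, e9,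
    e10, smul_smul]
  abel

theorem ymB_yy_aux {a b : J n} (hab : IsRoot a b) (s t : F) :
    ymB a s * ymB b t = xmB a (ng b) (-(2 * s * t)) * ymB b t * ymB a s := by
  have e1 : ng a ≠ b := fun h => hab.2 (by rw [← h, ng_ng])
  have e2 : ng b ≠ a := fun h => hab.2 h.symm
  have e3 : b ≠ a := hab.1.symm
  have e4 : ng a ≠ a := ng_ne a
  have e5 : ng b ≠ b := ng_ne b
  have e6 : a ≠ ng a := (ng_ne a).symm
  have e7 : b ≠ ng b := (ng_ne b).symm
  have e8 : ng a ≠ ng b := fun h => hab.1 (ng_injective h)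
  have e9 : ng b ≠ ng a := fun h => hab.1 (ng_injective h).symm
  have e10 : b ≠ ng a := fun h => e1 h.symm
  rw [ymB_eq, ymB_eq, xmB_eq]
  simp [Ny, Nx, ng_ng, mul_add, add_mul, mul_sub, sub_mul, one_mul, mul_one, smul_mul_assoc,
    mul_smul_comm, E_mul_E, smul_sub, smul_add, hab.1, hab.2, e1, e2, e3, e4, e5, e6, e7, e8, e9,
    e10, smul_smul]
  module

theorem xmB_ymB_xy_aux {a b : J n} (hab : IsRoot a b) (s t : F) :
    xmB a b s * ymB b t = ymB a (s * t) * xmB a (ng b) (s * t * t) * ymB b t * xmB a b s := by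
  have e1 : ng a ≠ b := fun h => hab.2 (by rw [← h, ng_ng])
  have e2 : ng b ≠ a := fun h => hab.2 h.symm
  have e3 : b ≠ a := hab.1.symm
  have e4 : ng a ≠ a := ng_ne a
  have e5 : ng b ≠ b := ng_ne b
  have e6 : a ≠ ng a := (ng_ne a).symm
  have e7 : b ≠ ng b := (ng_ne b).symm
  have e8 : ng a ≠ ng b := fun h => hab.1 (ng_injective h)
  have e9 : ng b ≠ ng a := fun h => hab.1 (ng_injective h).symm
  have e10 : b ≠ ng a := fun h => e1 h.symm
  rw [ymB_eq, ymB_eq, xmB_eq, xmB_eq]
  simp [Ny, Nx, ng_ng, mul_add, add_mul, mul_sub, sub_mul, one_mul, mul_one, smul_mul_assoc,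
    mul_smul_comm, E_mul_E, smul_sub, smul_add, hab.1, hab.2, e1, e2, e3, e4, e5, e6, e7, e8, e9,
    e10, smul_smul]
  module

end XMATB

theorem ymB_yy {a b : J n} (hab : IsRoot a b) (s t : F) :
    ymB a s * ymB b t * ymB a (-s) * ymB b (-t) = xmB a (ng b) (-(2 * s * t)) := by
  rw [ymB_yy_aux hab]
  calc xmB a (ng b) (-(2 * s * t)) * ymB b t * ymB a s * ymB a (-s) * ymB b (-t)
      = xmB a (ng b) (-(2 * s * t)) * (ymB b t * (ymB a s * ymB a (-s)) * ymB b (-t)) := by
        simp only [mul_assoc]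
    _ = xmB a (ng b) (-(2 * s * t)) := by
        rw [ymB_mul_neg, mul_one, ymB_mul_neg, mul_one]

theorem xmB_ymB_xy {a b : J n} (hab : IsRoot a b) (s t : F) :
    xmB a b s * ymB b t * xmB a b (-s) * ymB b (-t) = ymB a (s * t) * xmB a (ng b) (s * t * t) := by
  rw [xmB_ymB_xy_aux hab]
  calc ymB a (s * t) * xmB a (ng b) (s * t * t) * ymB b t * xmB a b s * xmB a b (-s) * ymB b (-t)
      = ymB a (s * t) * xmB a (ng b) (s * t * t) *
          (ymB b t * (xmB a b s * xmB a b (-s)) * ymB b (-t)) := by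
        simp only [mul_assoc]
    _ = ymB a (s * t) * xmB a (ng b) (s * t * t) := by
        rw [xmB_mul_neg hab, mul_one, ymB_mul_neg, mul_one]

theorem ymB_comm_xmB {a c d : J n} (hcd : IsRoot c d) (h1 : d ≠ a) (h2 : c ≠ ng a) (s t : F) :
    ymB a s * xmB c d t = xmB c d t * ymB a s := by
  have e1 : ng a ≠ c := fun h => h2 h.symm
  have e2 : ng a ≠ ng d := fun h => h1 (ng_injective h).symm
  have e3 : ng c ≠ a := fun h => h2 (by rw [← h, ng_ng])
  have hyx : (Ny a s : Matrix (I n) (I n) F) * Nx c d t = 0 := by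
    simp only [Ny, Nx, mul_sub, sub_mul, smul_mul_assoc, mul_smul_comm, E_mul_E, smul_sub]
    simp [e1, e2]
  have hxy : (Nx c d t : Matrix (I n) (I n) F) * Ny a s = 0 := by
    simp only [Ny, Nx, mul_sub, sub_mul, smul_mul_assoc, mul_smul_comm, E_mul_E, smul_sub]
    simp [h1, e3]
  rw [ymB_eq, xmB_eq, one_add_mul_one_add, one_add_mul_one_add, hyx, hxy]
  abel

end Cfsg.Agent.S2094P
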