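import Mathlib
import Cfsg.Agent.Helper28.S5658.Defs
import Cfsg.Agent.Helper28.S5658.Lib

/-! S5658 piece PERP (driver helper28): a non-zero rational isotropic vector orthogonal to three rational
vectors. -/

set_option autoImplicit false

namespace Cfsg.Agent.S5658P

open Matrix
open Cfsg.Agent.S2644 Cfsg.Agent.Helper2.SUGen Cfsg.Agent.Helper28.SimMax Cfsg.Agent.S5639P

variable {K : Type*} [Field K] {q n : ℕ}

local notation "h" => Cfsg.hermForm n K q
local notation "T" => Cfsg.unitaryTransvection n q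

namespace PERP

open Module

/-- a non-zero isotropic vector in a subspace of dimension at least two (over any unitary field) -/
theorem exists_iso_of_finrank [Finite K] (D : Frob K q) {Y : Submodule K (Fin n → K)}
    (hY : 2 ≤ finrank K Y) : ∃ b ∈ Y, b ≠ 0 ∧ h b b = 0 := by
  obtain ⟨z₁, hz₁, hz₁n⟩ := exists_not_smul hY (0 : Fin n → K)
  have hz₁0 : z₁ ≠ 0 := by
    intro h0
    exact hz₁n 0 (by rw [h0, smul_zero])
  obtain ⟨z₂, hz₂, hz₂n⟩ := exists_not_smul hY z₁
  by_cases h11 : h z₁ z₁ = 0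
  · exact ⟨z₁, hz₁, hz₁0, h11⟩
  · set c := h z₂ z₁ / h z₁ z₁ with hc
    set z := z₂ - c • z₁ with hz
    have hzY : z ∈ Y := Y.sub_mem hz₂ (Y.smul_mem _ hz₁)
    have hzp : h z z₁ = 0 := by
      rw [hz, h_sub_left, h_smul_left, hc, div_mul_cancel₀ _ h11, sub_self]
    have hzp' : h z₁ z = 0 := h_symm_zero D hzp
    by_cases hzz : h z z = 0
    · refine ⟨z, hzY, ?_, hzz⟩
      intro h0
      exact hz₂n c (sub_eq_zero.mp h0)
    · have hfix : D.σ (-(h z z) / h z₁ z₁) = -(h z z) / h z₁ z₁ := by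
        rw [map_div₀, map_neg, h_self_fix D, h_self_fix D]
      obtain ⟨t, ht⟩ := exists_norm D (-(h z z) / h z₁ z₁)
        (div_ne_zero (neg_ne_zero.mpr hzz) h11) hfix
      refine ⟨z + t • z₁, Y.add_mem hzY (Y.smul_mem _ hz₁), ?_, ?_⟩
      · intro h0
        apply hz₂n (c - t)
        have : z₂ - c • z₁ + t • z₁ = 0 := h0
        rw [sub_smul]
        rw [← sub_eq_zero]
        rw [← this]
        abel
      · rw [h_self_add_smul D, hzp, hzp', mul_zero, mul_zero, add_zero, add_zero, ht,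
          div_mul_cancel₀ _ h11, add_neg_cancel]

/-- a non-zero isotropic vector orthogonal to three vectors (over any unitary field) -/
theorem exists_perp3_field [Finite K] (D : Frob K q) (hn : 5 ≤ n) (x₁ x₂ x₃ : Fin n → K) :
    ∃ b : Fin n → K, b ≠ 0 ∧ h b b = 0 ∧ h b x₁ = 0 ∧ h b x₂ = 0 ∧ h b x₃ = 0 := by
  classical
  set X : Submodule K (Fin n → K) := Submodule.span K {x₁, x₂, x₃} with hX
  have h1 : finrank K X ≤ 3 := by
    have := finrank_span_finset_le_card (R := K) ({x₁, x₂, x₃} : Finset (Fin n → K))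
    have h3 : ({x₁, x₂, x₃} : Finset (Fin n → K)).card ≤ 3 := Finset.card_le_three
    rw [Finset.coe_insert, Finset.coe_insert, Finset.coe_singleton] at this
    exact le_trans this h3
  have h2 := finrank_perpL D X
  have h3 : 2 ≤ finrank K (perpL q X) := by omega
  obtain ⟨b, hb, hb0, hbb⟩ := exists_iso_of_finrank D h3
  refine ⟨b, hb0, hbb, hb x₁ (Submodule.subset_span (by simp)),
    hb x₂ (Submodule.subset_span (by simp)), hb x₃ (Submodule.subset_span (by simp))⟩

end PERP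

/-- PERP (M): a non-zero rational isotropic vector orthogonal to three rational vectors. -/
theorem PERP.exists_perp3 [Finite K] (hn : 13 ≤ n) (D : Frob K q) (F₀ : Subfield K)
    (hθ : ∃ θ ∈ F₀, D.σ θ ≠ θ) {x₁ x₂ x₃ : Fin n → K} (h1 : Rat F₀ x₁) (h2 : Rat F₀ x₂)
    (h3 : Rat F₀ x₃) :
    ∃ b : Fin n → K, Rat F₀ b ∧ b ≠ 0 ∧ h b b = 0 ∧ h b x₁ = 0 ∧ h b x₂ = 0 ∧ h b x₃ = 0 := by
  have : Finite F₀ := Finite.of_injective (fun x : F₀ => (x : K)) Subtype.val_injective
  obtain ⟨y₁, rfl⟩ := exists_up h1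
  obtain ⟨y₂, rfl⟩ := exists_up h2
  obtain ⟨y₃, rfl⟩ := exists_up h3
  obtain ⟨b, hb0, hbb, hb1, hb2, hb3⟩ :=
    PERP.exists_perp3_field (frob0 D F₀ hθ) (by omega) y₁ y₂ y₃
  refine ⟨up F₀ b, rat_up b, ?_, ?_, ?_, ?_, ?_⟩
  · intro h0
    apply hb0
    apply up_injective (F₀ := F₀)
    rw [h0, up_zero]
  · rw [herm_up, hbb]; rfl
  · rw [herm_up, hb1]; rfl
  · rw [herm_up, hb2]; rfl
  · rw [herm_up, hb3]; rfl

end Cfsg.Agent.S5658P
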