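import Mathlib

/-!
# The "core" of a Frobenius complement (statement S4291): definition
-/

set_option autoImplicit false

namespace Cfsg.Agent.Helper5.Zas

/-- `N` is normal with cyclic Sylow subgroups and `G / N` is `1`, `V₄`, `A₄`, `S₄`, `A₅` or `S₅`. -/
def IsCore {G : Type*} [Group G] (N : Subgroup G) : Prop :=
  N.Normal ∧ (∀ (p : ℕ) [Fact p.Prime] (P : Sylow p N), IsCyclic P) ∧
    (N = ⊤ ∨
      (∃ f : G →* DihedralGroup 2, Function.Surjective f ∧ f.ker = N) ∨
      (∃ f : G →* alternatingGroup (Fin 4), Function.Surjective f ∧ f.ker = N) ∨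
      (∃ f : G →* Equiv.Perm (Fin 4), Function.Surjective f ∧ f.ker = N) ∨
      (∃ f : G →* alternatingGroup (Fin 5), Function.Surjective f ∧ f.ker = N) ∨
      (∃ f : G →* Equiv.Perm (Fin 5), Function.Surjective f ∧ f.ker = N))

end Cfsg.Agent.Helper5.Zas
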