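import Mathlib
import Cfsg.Prelude.Def_Classical
import Cfsg.Agent.Helper21.S2286DEFS
import Cfsg.Agent.Helper21.S2289DEFS
import Cfsg.Agent.Helper2.HermCount

/-! S2289 piece MODELEV (driver helper21): computations in an abstract `U3Data` (no matrices). -/

set_option autoImplicit false

namespace Cfsg.Agent.Helper21.S2289

open Cfsg.Agent.Helper21.S2286 Polynomial Multiplicative

section modelev
variable {F : Type*} [Field F] [Fintype F] {q : ℕ} {G : Type*} [Group G] (D : U3Data F q G)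

namespace MODELEV

theorem neg_pow_q (hF : Fintype.card F = q ^ 2) (a : F) : (-a) ^ q = -(a ^ q) := by
  have hq : 2 ≤ q := Cfsg.Agent.Helper2.Herm.two_le_q hF
  have h := Cfsg.Agent.Helper2.Herm.sub_pow_q hF 0 a
  rw [zero_sub, zero_pow (by omega), zero_sub] at h
  exact h

theorem norm_pow_q (hF : Fintype.card F = q ^ 2) (t : F) : (t ^ (q + 1)) ^ q = t ^ (q + 1) :=
  Cfsg.Agent.Helper2.Herm.norm_mem_K hF t

end MODELEV

theorem val_mul (hF : Fintype.card F = q ^ 2) {a b a' b' : F} (h : Val q a b) (h' : Val q a' b') :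
    Val q (a + a') (b + b' - a * a' ^ q) := by
  unfold Val at *
  have h1 : (a' ^ q) ^ q = a' := by
    rw [← pow_mul, ← sq]; exact Cfsg.Agent.Helper2.Herm.pow_q_sq hF a'
  rw [Cfsg.Agent.Helper2.Herm.sub_pow_q hF, Cfsg.Agent.Helper2.Herm.add_pow_q hF, mul_pow, h1,
    pow_succ (a + a'), Cfsg.Agent.Helper2.Herm.add_pow_q hF]
  rw [pow_succ] at h h'
  linear_combination h + h'

theorem val_hact (hF : Fintype.card F = q ^ 2) {t a b : F} (ht : t ≠ 0) (h : Val q a b) :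
    Val q (a * t ^ 2 / t ^ q) (b * t ^ (q + 1)) := by
  unfold Val at *
  have h1 : (t ^ (q + 1)) ^ q = t ^ (q + 1) := MODELEV.norm_pow_q hF t
  have h2 : (a * t ^ 2 / t ^ q) ^ (q + 1) = a ^ (q + 1) * t ^ (q + 1) := by
    rw [div_pow, mul_pow, div_eq_iff (pow_ne_zero _ (pow_ne_zero _ ht))]
    have e1 : (t ^ q) ^ (q + 1) = t ^ (q + 1) := by
      rw [← pow_mul, mul_comm, pow_mul]; exact h1
    rw [e1, ← pow_mul]
    ring
  rw [mul_pow, h1, h2]
  linear_combination t ^ (q + 1) * h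

theorem val_zero_iff (hF : Fintype.card F = q ^ 2) (v : F) : Val q 0 v ↔ v + v ^ q = 0 := by
  unfold Val
  rw [zero_pow (Nat.succ_ne_zero q), add_zero]

theorem uG_inv (hF : Fintype.card F = q ^ 2) {a b : F} (h : Val q a b) :
    (D.uG a b)⁻¹ = D.uG (-a) (b ^ q) ∧ Val q (-a) (b ^ q) := by
  have hv : Val q (-a) (b ^ q) := by
    unfold Val at *
    have h1 : (b ^ q) ^ q = b := by
      rw [← pow_mul, ← sq]; exact Cfsg.Agent.Helper2.Herm.pow_q_sq hF b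
    rw [h1, pow_succ, MODELEV.neg_pow_q hF]
    rw [pow_succ] at h
    linear_combination h
  refine ⟨?_, hv⟩
  apply inv_eq_of_mul_eq_one_right
  rw [D.u_mul a b (-a) (b ^ q) h hv, MODELEV.neg_pow_q hF]
  have e1 : a + -a = 0 := by ring
  have e2 : b + b ^ q - a * -(a ^ q) = 0 := by
    unfold Val at h
    rw [pow_succ] at h
    linear_combination h
  rw [e1, e2, D.u_zero]

namespace MODELEV

/-- the torus as a homomorphism -/
def hHom : Fˣ →* G where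
  toFun t := D.hG (t : F)
  map_one' := by simpa using D.h_one
  map_mul' s t := by simpa using D.h_mul (s : F) (t : F) s.ne_zero t.ne_zero

end MODELEV

theorem hG_zpow (ζ : Fˣ) (i : ℤ) : D.hG (ζ : F) ^ i = D.hG ((ζ ^ i : Fˣ) : F) := by
  have := map_zpow (MODELEV.hHom D) ζ i
  exact this.symm

theorem cj_hu (hF : Fintype.card F = q ^ 2) (ζ : Fˣ) (i : ℤ) {a b : F} (h : Val q a b) :
    cj (D.hG (ζ : F)) (D.uG a b) i =
      D.uG (((ζ : F) ^ 2 / (ζ : F) ^ q) ^ i * a) (((ζ : F) ^ (q + 1)) ^ i * b) ∧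
    Val q (((ζ : F) ^ 2 / (ζ : F) ^ q) ^ i * a) (((ζ : F) ^ (q + 1)) ^ i * b) := by
  have ht : ((ζ ^ i : Fˣ) : F) ≠ 0 := Units.ne_zero _
  have e1 : ((ζ : F) ^ 2 / (ζ : F) ^ q) ^ i * a =
      a * ((ζ ^ i : Fˣ) : F) ^ 2 / ((ζ ^ i : Fˣ) : F) ^ q := by
    rw [Units.val_zpow_eq_zpow_val, div_zpow, ← zpow_natCast, ← zpow_natCast, ← zpow_natCast,
      ← zpow_natCast, ← zpow_mul, ← zpow_mul, ← zpow_mul, ← zpow_mul, mul_comm i, mul_comm i]
    ring
  have e2 : ((ζ : F) ^ (q + 1)) ^ i * b = b * ((ζ ^ i : Fˣ) : F) ^ (q + 1) := by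
    rw [Units.val_zpow_eq_zpow_val, ← zpow_natCast, ← zpow_natCast, ← zpow_mul, ← zpow_mul,
      mul_comm i]
    ring
  rw [e1, e2]
  refine ⟨?_, val_hact hF ht h⟩
  unfold cj
  rw [hG_zpow D ζ i]
  exact D.h_u _ a b ht h

theorem zW_u (hF : Fintype.card F = q ^ 2) (ζ : Fˣ) {a b : F} (h : Val q a b) :
    zW (D.hG (ζ : F)) (D.uG a b) = D.uG 0 (a ^ (q + 1) *
      ((ζ : F) ^ 2 / (ζ : F) ^ q - ((ζ : F) ^ 2 / (ζ : F) ^ q) ^ q)) := by
  obtain ⟨hc, hvc⟩ := cj_hu D hF ζ 1 h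
  rw [zpow_one, zpow_one] at hc hvc
  set μ := (ζ : F) ^ 2 / (ζ : F) ^ q with hμ
  set η := (ζ : F) ^ (q + 1) with hη
  unfold zW
  rw [hc]
  obtain ⟨hi1, hv1⟩ := uG_inv D hF h
  obtain ⟨hi2, hv2⟩ := uG_inv D hF hvc
  rw [hi1, hi2]
  have hv3 := val_mul hF h hvc
  rw [D.u_mul _ _ _ _ h hvc]
  have hv4 := val_mul hF hv3 hv1
  rw [D.u_mul _ _ _ _ hv3 hv1, D.u_mul _ _ _ _ hv4 hv2]
  congr 1
  · ring
  · rw [ MODELEV.neg_pow_q hF, MODELEV.neg_pow_q hF, mul_pow]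
    unfold Val at h hvc
    rw [pow_succ] at h
    rw [pow_succ, mul_pow] at hvc
    rw [pow_succ]
    linear_combination h + hvc

namespace MODELEV

theorem uG_pow_aux (hF : Fintype.card F = q ^ 2) {a b : F} (h : Val q a b) (m : ℕ) :
    Val q (m * a) (m * b - (m.choose 2 : F) * a ^ (q + 1)) ∧
    D.uG a b ^ m = D.uG (m * a) (m * b - (m.choose 2 : F) * a ^ (q + 1)) := by
  induction m with
  | zero =>
    have hq : 2 ≤ q := Cfsg.Agent.Helper2.Herm.two_le_q hF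
    constructor
    · unfold Val
      simp
      omega
    · simp [D.u_zero]
  | succ m ih =>
    obtain ⟨ihv, ihe⟩ := ih
    have hv := val_mul hF ihv h
    have e1 : ((m + 1 : ℕ) : F) * a = m * a + a := by push_cast; ring
    have e2 : ((m + 1 : ℕ) : F) * b - (((m + 1).choose 2 : ℕ) : F) * a ^ (q + 1) =
        m * b - (m.choose 2 : F) * a ^ (q + 1) + b - m * a * a ^ q := by
      have : (m + 1).choose 2 = m + m.choose 2 := by
        rw [Nat.choose_succ_succ' m 1, Nat.choose_one_right]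
      rw [this, pow_succ]
      push_cast
      ring
    rw [e1, e2]
    refine ⟨hv, ?_⟩
    rw [pow_succ, ihe, D.u_mul _ _ _ _ ihv h]

end MODELEV

theorem prodA_z (hF : Fintype.card F = q ^ 2) (ζ : Fˣ) (v : F) (hv : v + v ^ q = 0) (c : ℕ → ℕ)
    (n : ℕ) :
    prodA (D.hG (ζ : F)) (D.uG 0 v) c n = D.uG 0 (ev ((ζ : F) ^ (q + 1)) c n * v) := by
  have hq : 2 ≤ q := Cfsg.Agent.Helper2.Herm.two_le_q hF
  have hV : Val q 0 v := (val_zero_iff hF v).mpr hv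
  -- all `u(0, w)` with `w` imaginary multiply additively
  have key : ∀ n : ℕ, Val q 0 (ev ((ζ : F) ^ (q + 1)) c n * v) ∧
      prodA (D.hG (ζ : F)) (D.uG 0 v) c n = D.uG 0 (ev ((ζ : F) ^ (q + 1)) c n * v) := by
    intro n
    induction n with
    | zero =>
      constructor
      · unfold Val ev; simp; omega
      · unfold prodA ev; simp [D.u_zero]
    | succ n ih =>
      obtain ⟨ihv, ihe⟩ := ih
      obtain ⟨hc, hvc⟩ := cj_hu D hF ζ (n : ℤ) hV
      obtain ⟨hpv, hpe⟩ := MODELEV.uG_pow_aux D hF hvc (c n)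
      have hv2 := val_mul hF ihv hpv
      have e0 : prodA (D.hG (ζ : F)) (D.uG 0 v) c (n + 1) =
          prodA (D.hG (ζ : F)) (D.uG 0 v) c n * (cj (D.hG (ζ : F)) (D.uG 0 v) (n : ℤ)) ^ (c n) := by
        unfold prodA
        rw [List.range_succ, List.map_append, List.prod_append]
        simp
      have e1 : (0 : F) + (c n : F) * (((ζ : F) ^ 2 / (ζ : F) ^ q) ^ (n : ℤ) * 0) = 0 := by ring
      have e2 : ev ((ζ : F) ^ (q + 1)) c n * v +
          ((c n : F) * (((ζ : F) ^ (q + 1)) ^ (n : ℤ) * v) -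
            (((c n).choose 2 : ℕ) : F) * (((ζ : F) ^ 2 / (ζ : F) ^ q) ^ (n : ℤ) * 0) ^ (q + 1)) -
          0 * ((c n : F) * (((ζ : F) ^ 2 / (ζ : F) ^ q) ^ (n : ℤ) * 0)) ^ q =
          ev ((ζ : F) ^ (q + 1)) c (n + 1) * v := by
        unfold ev
        rw [Finset.sum_range_succ, zpow_natCast, mul_zero, zero_pow (Nat.succ_ne_zero q)]
        ring
      rw [e1, e2] at hv2
      refine ⟨hv2, ?_⟩
      rw [e0, ihe, hc, hpe, D.u_mul _ _ _ _ ihv hpv, e1, e2]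
  exact (key n).2

theorem prodA_u (hF : Fintype.card F = q ^ 2) (ζ : Fˣ) {a b : F} (h : Val q a b) (c : ℕ → ℕ) (n : ℕ) :
    ∃ b' : F, Val q (ev ((ζ : F) ^ 2 / (ζ : F) ^ q) c n * a) b' ∧
      prodA (D.hG (ζ : F)) (D.uG a b) c n = D.uG (ev ((ζ : F) ^ 2 / (ζ : F) ^ q) c n * a) b' := by
  induction n with
  | zero =>
    have hq : 2 ≤ q := Cfsg.Agent.Helper2.Herm.two_le_q hF
    refine ⟨0, ?_, ?_⟩
    · unfold Val ev; simp; omega
    · unfold prodA ev; simp [D.u_zero]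
  | succ n ih =>
    obtain ⟨b', ihv, ihe⟩ := ih
    obtain ⟨hc, hvc⟩ := cj_hu D hF ζ (n : ℤ) h
    obtain ⟨hpv, hpe⟩ := MODELEV.uG_pow_aux D hF hvc (c n)
    have hv2 := val_mul hF ihv hpv
    have e0 : prodA (D.hG (ζ : F)) (D.uG a b) c (n + 1) =
        prodA (D.hG (ζ : F)) (D.uG a b) c n * (cj (D.hG (ζ : F)) (D.uG a b) (n : ℤ)) ^ (c n) := by
      unfold prodA
      rw [List.range_succ, List.map_append, List.prod_append]
      simp
    have e1 : ev ((ζ : F) ^ 2 / (ζ : F) ^ q) c n * a +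
        (c n : F) * (((ζ : F) ^ 2 / (ζ : F) ^ q) ^ (n : ℤ) * a) =
        ev ((ζ : F) ^ 2 / (ζ : F) ^ q) c (n + 1) * a := by
      unfold ev
      rw [Finset.sum_range_succ, zpow_natCast]
      ring
    rw [e1] at hv2
    refine ⟨_, hv2, ?_⟩
    rw [e0, ihe, hc, hpe, D.u_mul _ _ _ _ ihv hpv, e1]

theorem prodA_u_pow (hF : Fintype.card F = q ^ 2) (ζ : Fˣ) (m : ℕ) {a b : F} (h : Val q a b)
    (c : ℕ → ℕ) (n : ℕ) :
    ∃ b' : F, Val q (ev (((ζ : F) ^ 2 / (ζ : F) ^ q) ^ m) c n * a) b' ∧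
      prodA (D.hG (ζ : F) ^ m) (D.uG a b) c n =
        D.uG (ev (((ζ : F) ^ 2 / (ζ : F) ^ q) ^ m) c n * a) b' := by
  have h1 := prodA_u D hF (ζ ^ m) h c n
  have e1 : (((ζ ^ m : Fˣ) : F)) ^ 2 / (((ζ ^ m : Fˣ) : F)) ^ q = ((ζ : F) ^ 2 / (ζ : F) ^ q) ^ m := by
    rw [Units.val_pow_eq_pow_val, div_pow, ← pow_mul, ← pow_mul, ← pow_mul, ← pow_mul, mul_comm m,
      mul_comm m]
  have e2 : D.hG ((ζ ^ m : Fˣ) : F) = D.hG (ζ : F) ^ m := by
    have := hG_zpow D ζ (m : ℤ)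
    rw [zpow_natCast, zpow_natCast] at this
    exact this.symm
  rw [e1, e2] at h1
  exact h1

theorem uG_pow (hF : Fintype.card F = q ^ 2) {a b : F} (h : Val q a b) (m : ℕ) :
    D.uG a b ^ m = D.uG (m * a) (m * b - (m.choose 2 : F) * a ^ (q + 1)) :=
  (MODELEV.uG_pow_aux D hF h m).2

end modelev

end Cfsg.Agent.Helper21.S2289
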