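import Mathlib
import Cfsg.Prelude.Def_Classical
import Cfsg.Agent.Helper21.S2286DEFS
import Cfsg.Agent.Helper21.S2289DEFS
import Cfsg.Agent.Helper2.HermCount
import Cfsg.Agent.Helper2.UnitaryCount

/-! S2289 piece FCOSET (driver helper21): `ζ³ = μ^(q+2)`, so every `a ≠ 0` is `a₀ ζ^i μ^m`, `i < 3`. -/

set_option autoImplicit false

namespace Cfsg.Agent.Helper21.S2289

open Cfsg.Agent.Helper21.S2286 Polynomial

variable {F : Type*} [Field F] [Fintype F] {q : ℕ}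

namespace FCOSET

/-- the order of a generator -/
theorem orderOf_zeta (hF : Fintype.card F = q ^ 2) (ζ : Fˣ)
    (hζ : ∀ y : Fˣ, y ∈ Subgroup.zpowers ζ) : orderOf ζ = q ^ 2 - 1 := by
  rw [orderOf_eq_card_of_forall_mem_zpowers hζ, Nat.card_units, Nat.card_eq_fintype_card, hF]

/-- `ζ^n = 1` in `F` iff `(q² - 1) ∣ n` -/
theorem zeta_pow_eq_one_iff (hF : Fintype.card F = q ^ 2) (ζ : Fˣ)
    (hζ : ∀ y : Fˣ, y ∈ Subgroup.zpowers ζ) (n : ℕ) : (ζ : F) ^ n = 1 ↔ q ^ 2 - 1 ∣ n := by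
  rw [← orderOf_zeta hF ζ hζ, orderOf_dvd_iff_pow_eq_one]
  constructor
  · intro h
    apply Units.ext
    simpa using h
  · intro h
    have := congrArg (fun u : Fˣ => (u : F)) h
    simpa using this

/-- every nonzero element is a natural power of `ζ` -/
theorem exists_pow (ζ : Fˣ) (hζ : ∀ y : Fˣ, y ∈ Subgroup.zpowers ζ) (a : F) (ha : a ≠ 0) :
    ∃ n : ℕ, a = (ζ : F) ^ n := by
  have h := hζ (Units.mk0 a ha)
  rw [← mem_powers_iff_mem_zpowers] at h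
  obtain ⟨n, hn⟩ := h
  refine ⟨n, ?_⟩
  have := congrArg (fun u : Fˣ => (u : F)) hn
  simpa using this.symm

/-- `ζ³ = μ^(q+2)` -/
theorem zeta_cube (hF : Fintype.card F = q ^ 2) (ζ : Fˣ) :
    (ζ : F) ^ 3 = ((ζ : F) ^ 2 / (ζ : F) ^ q) ^ (q + 2) := by
  have hz : (ζ : F) ≠ 0 := ζ.ne_zero
  have h1 : (ζ : F) ^ (q ^ 2) = ζ := Cfsg.Agent.Helper2.Herm.pow_q_sq hF _
  rw [div_pow, eq_div_iff (pow_ne_zero _ (pow_ne_zero _ hz)), ← pow_mul, ← pow_mul]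
  have e1 : q * (q + 2) = q ^ 2 + 2 * q := by ring
  have e2 : 2 * (q + 2) = 2 * q + 4 := by ring
  rw [e1, e2, pow_add, h1, pow_add]
  ring

end FCOSET

/-! ## piece FCOSET [S-M]: `ζ³ ∈ ⟨μ⟩`, so every `a ≠ 0` is `a₀ ζ^i μ^m` with `i < 3`. -/
theorem coset_cover (hF : Fintype.card F = q ^ 2) (h2 : q ≠ 2) (ζ : Fˣ)
    (hζ : ∀ y : Fˣ, y ∈ Subgroup.zpowers ζ) (a₀ a : F) (ha₀ : a₀ ≠ 0) (ha : a ≠ 0) :
    ∃ (i m : ℕ), i < 3 ∧ a = a₀ * (ζ : F) ^ i * ((ζ : F) ^ 2 / (ζ : F) ^ q) ^ m := by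
  obtain ⟨n, hn⟩ := FCOSET.exists_pow ζ hζ (a / a₀) (div_ne_zero ha ha₀)
  refine ⟨n % 3, (q + 2) * (n / 3), Nat.mod_lt _ (by norm_num), ?_⟩
  rw [pow_mul, ← FCOSET.zeta_cube hF ζ, ← pow_mul, mul_assoc, ← pow_add, Nat.mod_add_div, ← hn]
  field_simp

end Cfsg.Agent.Helper21.S2289
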