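import Mathlib
import Cfsg.Prelude.Def_Classical
import Cfsg.Agent.Helper21.S2286DEFS
import Cfsg.Agent.Helper21.S2289DEFS
import Cfsg.Agent.Helper2.HermCount
import Cfsg.Agent.Helper2.UnitaryCount
import Cfsg.Agent.Helper5.S2289FCOSET

/-! S2289 piece FKSPAN (driver helper21): the fixed points of `x ↦ x^q` are the polynomial expressions in `η = ζ^(q+1)`. -/

set_option autoImplicit false

namespace Cfsg.Agent.Helper21.S2289

open Cfsg.Agent.Helper21.S2286 Polynomial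

variable {F : Type*} [Field F] [Fintype F] {q : ℕ}

namespace FKSPAN

/-- `η^q = η` -/
theorem eta_pow_q (hF : Fintype.card F = q ^ 2) (ζ : Fˣ) :
    ((ζ : F) ^ (q + 1)) ^ q = (ζ : F) ^ (q + 1) := by
  have h1 : (ζ : F) ^ (q ^ 2) = ζ := Cfsg.Agent.Helper2.Herm.pow_q_sq hF _
  rw [← pow_mul]
  have e1 : (q + 1) * q = q ^ 2 + q := by ring
  rw [e1, pow_add, h1, pow_succ]
  ring

/-- a nonzero fixed point is a power of `η` -/
theorem fixed_eq_pow (hF : Fintype.card F = q ^ 2) (ζ : Fˣ)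
    (hζ : ∀ y : Fˣ, y ∈ Subgroup.zpowers ζ) (x : F) (hx : x ^ q = x) (hx0 : x ≠ 0) :
    ∃ m : ℕ, x = ((ζ : F) ^ (q + 1)) ^ m := by
  have hq : 2 ≤ q := Cfsg.Agent.Helper2.Herm.two_le_q hF
  obtain ⟨n, rfl⟩ := FCOSET.exists_pow ζ hζ x hx0
  have h1 : ((ζ : F) ^ n) ^ (q - 1) = 1 := by
    have h2 : ((ζ : F) ^ n) ^ (q - 1) * (ζ : F) ^ n = (ζ : F) ^ n := by
      rw [← pow_succ, Nat.sub_add_cancel (by omega)]
      exact hx
    have h3 : (ζ : F) ^ n ≠ 0 := hx0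
    exact mul_right_cancel₀ h3 (by rw [h2, one_mul])
  rw [← pow_mul, FCOSET.zeta_pow_eq_one_iff hF ζ hζ, Cfsg.Agent.Helper2.Herm.factor hq] at h1
  have hq1 : 0 < q - 1 := by omega
  have h4 : q + 1 ∣ n := by
    exact Nat.dvd_of_mul_dvd_mul_right hq1 h1
  obtain ⟨m, rfl⟩ := h4
  exact ⟨m, by rw [pow_mul]⟩

theorem natCast_pow_q (hF : Fintype.card F = q ^ 2) (n : ℕ) : ((n : F)) ^ q = n := by
  induction n with
  | zero =>
    have hq : 2 ≤ q := Cfsg.Agent.Helper2.Herm.two_le_q hF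
    simp only [Nat.cast_zero]
    exact zero_pow (by omega)
  | succ n ih =>
    rw [Nat.cast_succ, Cfsg.Agent.Helper2.Herm.add_pow_q hF, ih, one_pow]

end FKSPAN

/-! ## piece FKSPAN [S-M]: every fixed point of `x ↦ x^q` is a polynomial expression in `η` over the prime field
(`x = η^m = ev η (Pi.single m 1) (m+1)`; `0 = ev η 0 0`). -/
theorem fixed_span (hF : Fintype.card F = q ^ 2) (h2 : q ≠ 2) (h3 : q ≠ 3) (ζ : Fˣ)
    (hζ : ∀ y : Fˣ, y ∈ Subgroup.zpowers ζ) (x : F) (hx : x ^ q = x) :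
    ∃ (c : ℕ → ℕ) (n : ℕ), ev ((ζ : F) ^ (q + 1)) c n = x := by
  by_cases hx0 : x = 0
  · exact ⟨0, 0, by simp [ev, hx0]⟩
  · obtain ⟨m, rfl⟩ := FKSPAN.fixed_eq_pow hF ζ hζ x hx hx0
    refine ⟨Pi.single m 1, m + 1, ?_⟩
    unfold ev
    rw [Finset.sum_eq_single m]
    · simp
    · intro b _ hb
      simp [Pi.single_apply, hb]
    · intro h
      exact absurd (Finset.mem_range.mpr (Nat.lt_succ_self m)) h

/-- FKSPAN, second statement: all polynomial expressions in `η` are fixed points -/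
theorem ev_eta_fixed (hF : Fintype.card F = q ^ 2) (ζ : Fˣ) (c : ℕ → ℕ) (n : ℕ) :
    (ev ((ζ : F) ^ (q + 1)) c n) ^ q = ev ((ζ : F) ^ (q + 1)) c n := by
  unfold ev
  induction n with
  | zero =>
    have hq : 2 ≤ q := Cfsg.Agent.Helper2.Herm.two_le_q hF
    simp only [Finset.range_zero, Finset.sum_empty]
    exact zero_pow (by omega)
  | succ n ih =>
    rw [Finset.sum_range_succ, Cfsg.Agent.Helper2.Herm.add_pow_q hF, ih, mul_pow,
      FKSPAN.natCast_pow_q hF, ← pow_mul, mul_comm n q, pow_mul, FKSPAN.eta_pow_q hF]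

end Cfsg.Agent.Helper21.S2289
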