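import Mathlib
import Cfsg.Prelude.Def_Classical
import Cfsg.Agent.Helper21.S2286DEFS
import Cfsg.Agent.Helper21.S2289DEFS
import Cfsg.Agent.Helper2.HermCount
import Cfsg.Agent.Helper2.UnitaryCount
import Cfsg.Agent.Helper5.S2289FCOSET

/-! S2289 piece FMU (driver helper21): `μ = ζ²/ζ^q` generates `F` over the prime field. -/

set_option autoImplicit false

namespace Cfsg.Agent.Helper21.S2289

open Cfsg.Agent.Helper21.S2286 Polynomial

variable {F : Type*} [Field F] [Fintype F] {q : ℕ}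

namespace FMU

/-- an intermediate field containing `ζ³` is everything (`q ≥ 3`) -/
theorem eq_top_of_cube_mem (p : ℕ) [Fact p.Prime] [Algebra (ZMod p) F]
    (hF : Fintype.card F = q ^ 2) (h2 : q ≠ 2)
    (ζ : Fˣ) (hζ : ∀ y : Fˣ, y ∈ Subgroup.zpowers ζ) (E : IntermediateField (ZMod p) F)
    (hE : (ζ : F) ^ 3 ∈ E) : E = ⊤ := by
  classical
  have hq : 2 ≤ q := Cfsg.Agent.Helper2.Herm.two_le_q hF
  rw [← IntermediateField.finrank_eq_one_iff_eq_top]
  have : Fintype E := Fintype.ofFinite E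
  set e := Fintype.card E with he
  set n := Module.finrank E F with hn
  have hcard : q ^ 2 = e ^ n := by
    rw [← hF]
    exact Module.card_eq_pow_finrank (K := E) (V := F)
  have he2 : 2 ≤ e := by
    have := Fintype.one_lt_card (α := E)
    omega
  have hn0 : 0 < n := Module.finrank_pos
  by_contra hn1
  have hn2 : 2 ≤ n := by omega
  have heq : e ≤ q := by
    have h1 : e ^ 2 ≤ q ^ 2 := by
      rw [hcard]
      exact Nat.pow_le_pow_right (by omega) hn2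
    exact (Nat.pow_le_pow_iff_left (by norm_num)).mp h1
  -- `(ζ³)^(e-1) = 1`
  have hz3 : ((ζ : F) ^ 3) ^ (e - 1) = 1 := by
    have hne : (⟨(ζ : F) ^ 3, hE⟩ : E) ≠ 0 := by
      intro h
      have := congrArg (fun x : E => (x : F)) h
      simp at this
    have := FiniteField.pow_card_sub_one_eq_one (⟨(ζ : F) ^ 3, hE⟩ : E) hne
    have := congrArg (fun x : E => (x : F)) this
    simpa using this
  rw [← pow_mul, FCOSET.zeta_pow_eq_one_iff hF ζ hζ, Cfsg.Agent.Helper2.Herm.factor hq] at hz3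
  have hpos : 0 < 3 * (e - 1) := by omega
  have hle := Nat.le_of_dvd hpos hz3
  have h5 : (q + 1) * (q - 1) ≤ 3 * (q - 1) := le_trans hle (by omega)
  have h6 : q + 1 ≤ 3 := Nat.le_of_mul_le_mul_right h5 (by omega)
  omega

end FMU

/-! ## piece FMU [M]: `μ = ζ²/ζ^q = ζ^(2-q)` has order `(q²-1)/gcd(q²-1, q-2) ≥ (q²-1)/3 > q - 1`, so it lies in no
proper subfield (a proper subfield has at most `q` elements): `F = F_p[μ]`; `μ^q ≠ μ`; `1 + μ ≠ 0`; `μ ≠ 0`. -/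
theorem mu_facts (p : ℕ) [Fact p.Prime] [CharP F p] (hF : Fintype.card F = q ^ 2) (h2 : q ≠ 2)
    (h3 : q ≠ 3) (ζ : Fˣ) (hζ : ∀ y : Fˣ, y ∈ Subgroup.zpowers ζ) :
    (letI := ZMod.algebra F p; Algebra.adjoin (ZMod p) {(ζ : F) ^ 2 / (ζ : F) ^ q} = ⊤) ∧
    ((ζ : F) ^ 2 / (ζ : F) ^ q) ^ q ≠ (ζ : F) ^ 2 / (ζ : F) ^ q ∧
    1 + (ζ : F) ^ 2 / (ζ : F) ^ q ≠ 0 ∧ (ζ : F) ^ 2 / (ζ : F) ^ q ≠ 0 := by
  have hq : 2 ≤ q := Cfsg.Agent.Helper2.Herm.two_le_q hF
  have hz : (ζ : F) ≠ 0 := ζ.ne_zero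
  have h1 : (ζ : F) ^ (q ^ 2) = ζ := Cfsg.Agent.Helper2.Herm.pow_q_sq hF _
  have hfac := Cfsg.Agent.Helper2.Herm.factor hq
  refine ⟨?_, ?_, ?_, ?_⟩
  · let _ := ZMod.algebra F p
    have halg : IsAlgebraic (ZMod p) ((ζ : F) ^ 2 / (ζ : F) ^ q) := IsAlgebraic.of_finite _ _
    rw [← IntermediateField.adjoin_simple_toSubalgebra_of_isAlgebraic halg]
    have : IntermediateField.adjoin (ZMod p) {(ζ : F) ^ 2 / (ζ : F) ^ q} = ⊤ := by
      apply FMU.eq_top_of_cube_mem p hF h2 ζ hζ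
      rw [FCOSET.zeta_cube hF ζ]
      exact pow_mem (IntermediateField.mem_adjoin_simple_self _ _) _
    rw [this]
    rfl
  · -- `μ^q = μ` would give `ζ^(3q) = ζ³`
    intro h
    rw [div_pow, div_eq_div_iff (pow_ne_zero _ (pow_ne_zero _ hz)) (pow_ne_zero _ hz), ← pow_mul,
      ← pow_mul, ← pow_add, mul_comm q q, ← sq, h1] at h
    have h4 : (ζ : F) ^ (3 * (q - 1)) = 1 := by
      have h5 : (ζ : F) ^ (3 * (q - 1)) * (ζ : F) ^ 3 = (ζ : F) ^ 3 := by
        rw [← pow_add]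
        have e1 : 3 * (q - 1) + 3 = 2 * q + q := by omega
        rw [e1, h]
        ring
      exact mul_right_cancel₀ (pow_ne_zero 3 hz) (by rw [h5, one_mul])
    rw [FCOSET.zeta_pow_eq_one_iff hF ζ hζ, hfac] at h4
    have hle := Nat.le_of_dvd (by omega) h4
    have h6 : q + 1 ≤ 3 := Nat.le_of_mul_le_mul_right hle (by omega)
    omega
  · -- `μ = -1` would give `μ² = 1`, `ζ^(2q-4) = 1`
    intro h
    have hmu : (ζ : F) ^ 2 / (ζ : F) ^ q = -1 := by linear_combination h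
    have hmu2 : ((ζ : F) ^ 2 / (ζ : F) ^ q) ^ 2 = 1 := by rw [hmu]; ring
    rw [div_pow, div_eq_one_iff_eq (pow_ne_zero _ (pow_ne_zero _ hz)), ← pow_mul, ← pow_mul] at hmu2
    have h4 : (ζ : F) ^ (2 * q - 4) = 1 := by
      have h5 : (ζ : F) ^ (2 * q - 4) * (ζ : F) ^ 4 = (ζ : F) ^ 4 := by
        rw [← pow_add]
        have e1 : 2 * q - 4 + 4 = q * 2 := by omega
        rw [e1, ← hmu2]
      exact mul_right_cancel₀ (pow_ne_zero 4 hz) (by rw [h5, one_mul])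
    rw [FCOSET.zeta_pow_eq_one_iff hF ζ hζ] at h4
    have hq3 : 3 ≤ q := by omega
    have hle := Nat.le_of_dvd (by omega) h4
    have h7 : 3 * q ≤ q ^ 2 := by
      rw [sq]
      exact Nat.mul_le_mul_right q hq3
    generalize q ^ 2 = s at hle h7
    omega
  · exact div_ne_zero (pow_ne_zero _ hz) (pow_ne_zero _ hz)

end Cfsg.Agent.Helper21.S2289
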