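import Mathlib
import Cfsg.Prelude.Def_Classical
import Cfsg.Agent.Helper21.S2286DEFS
import Cfsg.Agent.Helper21.S2289DEFS
import Cfsg.Agent.Helper2.HermCount
import Cfsg.Agent.Helper18.S2286FIELD2
import Cfsg.Agent.Lead.S2289FIMAG
import Cfsg.Agent.Helper5.S2289FKSPAN
import Cfsg.Agent.Helper5.S2289FMU
import Cfsg.Agent.Helper5.S2289MODELEV

/-! S2289 piece UWORD (driver helper21): every `u(a,b)` is a word in the conjugates of `u₀` and of `z = [u₀, A_1]`. -/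

set_option autoImplicit false

namespace Cfsg.Agent.Helper21.S2289

open Cfsg.Agent.Helper21.S2286 Polynomial Multiplicative

section modelev
variable {F : Type*} [Field F] [Fintype F] {q : ℕ} {G : Type*} [Group G] (D : U3Data F q G)

/-- ZCORR: two valid pairs with the same `a` differ by a word in the conjugates of `z` (same argument as in `uword`) -/
theorem zcorr (p : ℕ) [Fact p.Prime] [CharP F p] (hF : Fintype.card F = q ^ 2) (h2 : q ≠ 2)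
    (h3 : q ≠ 3) (ζ : Fˣ) (hζ : ∀ y : Fˣ, y ∈ Subgroup.zpowers ζ) {a₀ b₀ : F} (h₀ : Val q a₀ b₀)
    (ha₀ : a₀ ≠ 0) {a b b' : F} (h : Val q a b) (h' : Val q a b') :
    ∃ (c : ℕ → ℕ) (n : ℕ),
      D.uG a b = D.uG a b' * prodA (D.hG (ζ : F)) (zW (D.hG (ζ : F)) (D.uG a₀ b₀)) c n := by
  have hq : 2 ≤ q := Cfsg.Agent.Helper2.Herm.two_le_q hF
  obtain ⟨-, hμq, -, -⟩ := mu_facts p hF h2 h3 ζ hζ
  set μ := (ζ : F) ^ 2 / (ζ : F) ^ q with hμ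
  obtain ⟨hι, hι0⟩ := imag_of_mu hF a₀ μ ha₀ hμq
  set ι := a₀ ^ (q + 1) * (μ - μ ^ q) with hιdef
  -- `w = b - b'` is imaginary
  have hw : (b - b') + (b - b') ^ q = 0 := by
    unfold Val at h h'
    rw [Cfsg.Agent.Helper2.Herm.sub_pow_q hF]
    linear_combination h - h'
  have hfix := imag_ratio hF (b - b') ι hw hι hι0
  obtain ⟨c, n, hcn⟩ := fixed_span hF h2 h3 ζ hζ _ hfix
  refine ⟨c, n, ?_⟩
  rw [zW_u D hF ζ h₀, ← hμ, ← hιdef, prodA_z D hF ζ ι hι c n, hcn]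
  have hV : Val q 0 ((b - b') / ι * ι) := by
    rw [div_mul_cancel₀ _ hι0]
    exact (val_zero_iff hF _).mpr hw
  rw [D.u_mul _ _ _ _ h' hV, div_mul_cancel₀ _ hι0, zero_pow (by omega)]
  congr 1
  · ring
  · ring

/-- UWORD: every `u(a,b)` is a word `∏ A_i^{c_i} · ∏ Z_i^{c'_i}` in the conjugates of `u₀ = u(a₀,b₀)` and of `z = [u₀, A_1]`
(`a/a₀ = ev μ c n` by `S2286.ev_span` and `mu_facts`; the correction `b - b'` is "imaginary", a `K`-multiple of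
`ι = N a₀ (μ - μ^q)` (`imag_ratio`, `imag_of_mu`), and `K = F_p[η]` (`fixed_span`); `prodA_z`, `zW_u`) -/
theorem uword (p : ℕ) [Fact p.Prime] [CharP F p] (hF : Fintype.card F = q ^ 2) (h2 : q ≠ 2)
    (h3 : q ≠ 3) (ζ : Fˣ) (hζ : ∀ y : Fˣ, y ∈ Subgroup.zpowers ζ) {a₀ b₀ : F} (h₀ : Val q a₀ b₀)
    (ha₀ : a₀ ≠ 0) {a b : F} (h : Val q a b) :
    ∃ (c : ℕ → ℕ) (n : ℕ) (c' : ℕ → ℕ) (n' : ℕ),
      prodA (D.hG (ζ : F)) (D.uG a₀ b₀) c n *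
        prodA (D.hG (ζ : F)) (zW (D.hG (ζ : F)) (D.uG a₀ b₀)) c' n' = D.uG a b := by
  obtain ⟨hadj, -, -, -⟩ := mu_facts p hF h2 h3 ζ hζ
  obtain ⟨c, n, hcn⟩ := ev_span p ((ζ : F) ^ 2 / (ζ : F) ^ q) hadj (a / a₀)
  obtain ⟨b', hv', he⟩ := prodA_u D hF ζ h₀ c n
  rw [hcn, div_mul_cancel₀ _ ha₀] at hv' he
  obtain ⟨c', n', hz⟩ := zcorr D p hF h2 h3 ζ hζ h₀ ha₀ h hv'
  exact ⟨c, n, c', n', by rw [he, hz]⟩

end modelev

end Cfsg.Agent.Helper21.S2289
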