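import Mathlib
import Cfsg.Agent.Helper2.S3086Defs
import Cfsg.Agent.Helper2.S3086Basic
import Cfsg.Agent.Helper16.S3086QS1
import Cfsg.Agent.Helper16.BaerSuzuki
import Cfsg.Agent.Helper7.Quasisimple

/-! Board `s3086pieces`, row QS4 (helper5): `QS_baer_suzuki`
(Baer–Suzuki modulo the centre of a quasisimple subgroup). -/

set_option autoImplicit false

namespace Cfsg.Agent.S3086P

universe u

section QS4aux

/-- a cyclic group generated by an element of `2`-power order is a `2`-group -/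
theorem QS4_aux_zpowers_isPGroup {Q : Type*} [Group Q] {η : Q} {e : ℕ} (h : η ^ (2 ^ e) = 1) :
    IsPGroup 2 ↥(Subgroup.zpowers η) := by
  have hd : orderOf η ∣ 2 ^ e := orderOf_dvd_of_pow_eq_one h
  obtain ⟨k, -, hk⟩ := (Nat.dvd_prime_pow Nat.prime_two).mp hd
  apply IsPGroup.of_card (n := k)
  rw [Nat.card_zpowers, hk]

/-- the dihedral group generated by an involution `β` and `β η`, with `η` of `2`-power order
inverted by `β`, is a `2`-group -/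
theorem QS4_aux_dihedral {Q : Type*} [Group Q] {β η : Q} {e : ℕ} (hβ : β * β = 1)
    (hinv : β * η * β⁻¹ = η⁻¹) (hη : η ^ (2 ^ e) = 1) :
    IsPGroup 2 ↥(Subgroup.closure ({β, β * η} : Set Q)) := by
  have h1 : IsPGroup 2 ↥(Subgroup.zpowers β) := by
    apply QS4_aux_zpowers_isPGroup (e := 1)
    rw [pow_one, pow_two, hβ]
  have h2 : IsPGroup 2 ↥(Subgroup.zpowers η) := QS4_aux_zpowers_isPGroup hη
  have hβinv : β⁻¹ = β := inv_eq_of_mul_eq_one_left hβ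
  have hconj : ∀ j : ℤ, β * η ^ j * β⁻¹ = (η ^ j)⁻¹ := by
    intro j
    have := map_zpow (MulAut.conj β) η j
    simp only [MulAut.conj_apply] at this
    rw [this, hinv, inv_zpow]
  have h3 : Subgroup.zpowers β ≤ Subgroup.normalizer (Subgroup.zpowers η : Set Q) := by
    rw [Subgroup.zpowers_le, Subgroup.mem_normalizer_iff]
    intro h
    constructor
    · rintro ⟨j, rfl⟩
      rw [hconj]
      exact (Subgroup.zpowers η).inv_mem ⟨j, rfl⟩
    · rintro ⟨j, hj⟩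
      have hj' : η ^ j = β * h * β⁻¹ := hj
      have : h = β * η ^ j * β⁻¹ := by
        rw [hj']
        simp only [hβinv]
        calc h = (β * β) * h * (β * β) := by rw [hβ]; simp
          _ = _ := by group
      rw [this, hconj]
      exact (Subgroup.zpowers η).inv_mem ⟨j, rfl⟩
  have h4 := IsPGroup.to_sup_of_normal_right' h1 h2 h3
  apply h4.to_le
  rw [Subgroup.closure_le]
  intro w hw
  rcases hw with hw | hw
  · rw [hw]
    exact (le_sup_left : Subgroup.zpowers β ≤ _) (Subgroup.mem_zpowers β)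
  · rw [Set.mem_singleton_iff] at hw
    rw [hw]
    exact Subgroup.mul_mem _ ((le_sup_left : Subgroup.zpowers β ≤ _) (Subgroup.mem_zpowers β))
      ((le_sup_right : Subgroup.zpowers η ≤ _) (Subgroup.mem_zpowers η))

end QS4aux

section QS4core
variable {G : Type*} [Group G]

/-- the centre of `K`, as a subgroup of `G` -/
def QS4_aux_Z (K : Subgroup G) : Subgroup G := K ⊓ Subgroup.centralizer (K : Set G)

theorem QS4_aux_mem_Z {K : Subgroup G} {z : G} :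
    z ∈ QS4_aux_Z K ↔ z ∈ K ∧ ∀ y ∈ K, z * y = y * z := by
  unfold QS4_aux_Z
  rw [Subgroup.mem_inf, Subgroup.mem_centralizer_iff]
  constructor
  · rintro ⟨h1, h2⟩
    exact ⟨h1, fun y hy => (h2 y hy).symm⟩
  · rintro ⟨h1, h2⟩
    exact ⟨h1, fun y hy => (h2 y hy).symm⟩

instance QS4_aux_Z_normal (K : Subgroup G) [K.Normal] : (QS4_aux_Z K).Normal := by
  unfold QS4_aux_Z
  infer_instance

/-- core case: `K` normal in `G` and every conjugate of `b` is a `K`-conjugate. -/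
theorem QS4_aux_core [Finite G] {K : Subgroup G} [hKn : K.Normal] (hK : Cfsg.IsQuasisimple ↥K) {b : G}
    (hb2 : b * b = 1) (htop : ∀ g : G, ∃ k ∈ K, g * b * g⁻¹ = k * b * k⁻¹)
    (hn : ¬ ∀ x ∈ K, b * x = x * b) :
    ∃ x ∈ K, Odd (orderOf x) ∧ b * x * b⁻¹ = x⁻¹ ∧ ∃ y ∈ K, x * y ≠ y * x := by
  by_contra hcon
  push Not at hcon
  have hbinv : b⁻¹ = b := inv_eq_of_mul_eq_one_left hb2
  have hπ : ∀ x : G, QuotientGroup.mk' (QS4_aux_Z K) x = 1 ↔ x ∈ QS4_aux_Z K :=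
    fun x => QuotientGroup.eq_one_iff x
  -- Claim 1: the Baer–Suzuki hypothesis in `G ⧸ Z`
  have h1 : ∀ q : G ⧸ QS4_aux_Z K, IsPGroup 2 ↥(Subgroup.closure
      ({QuotientGroup.mk' (QS4_aux_Z K) b, q * QuotientGroup.mk' (QS4_aux_Z K) b * q⁻¹} :
        Set (G ⧸ QS4_aux_Z K))) := by
    intro q
    obtain ⟨g, rfl⟩ := QuotientGroup.mk'_surjective (QS4_aux_Z K) q
    obtain ⟨k, hk, hgk⟩ := htop g
    have hyK : b * (k * b * k⁻¹) ∈ K := by
      have : b * (k * b * k⁻¹) = (b * k * b⁻¹) * k⁻¹ := by rw [hbinv]; group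
      rw [this]
      exact K.mul_mem (hKn.conj_mem k hk b) (K.inv_mem hk)
    have hyinv : b * (b * (k * b * k⁻¹)) * b⁻¹ = (b * (k * b * k⁻¹))⁻¹ := by
      have e1 : b * (b * (k * b * k⁻¹)) * b⁻¹ = (b * b) * (k * b * k⁻¹) * b⁻¹ := by group
      have e2 : (b * (k * b * k⁻¹))⁻¹ = k * b⁻¹ * k⁻¹ * b⁻¹ := by group
      rw [e1, e2, hb2, hbinv, one_mul]
    obtain ⟨e, m, hm, hem⟩ := Nat.exists_eq_two_pow_mul_odd (orderOf_pos (b * (k * b * k⁻¹))).ne'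
    have hxK : (b * (k * b * k⁻¹)) ^ (2 ^ e) ∈ K := K.pow_mem hyK _
    have hxodd : Odd (orderOf ((b * (k * b * k⁻¹)) ^ (2 ^ e))) := by
      apply Odd.of_dvd_nat hm
      apply orderOf_dvd_of_pow_eq_one
      rw [← pow_mul, ← hem, pow_orderOf_eq_one]
    have hxinv : b * (b * (k * b * k⁻¹)) ^ (2 ^ e) * b⁻¹ = ((b * (k * b * k⁻¹)) ^ (2 ^ e))⁻¹ := by
      rw [← conj_pow, hyinv, inv_pow]
    have hxZ : (b * (k * b * k⁻¹)) ^ (2 ^ e) ∈ QS4_aux_Z K :=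
      QS4_aux_mem_Z.mpr ⟨hxK, hcon _ hxK hxodd hxinv⟩
    have hη : (QuotientGroup.mk' (QS4_aux_Z K) (b * (k * b * k⁻¹))) ^ (2 ^ e) = 1 := by
      rw [← map_pow, hπ]; exact hxZ
    have hd := QS4_aux_dihedral (β := QuotientGroup.mk' (QS4_aux_Z K) b)
      (η := QuotientGroup.mk' (QS4_aux_Z K) (b * (k * b * k⁻¹))) (e := e)
      (by rw [← map_mul, hb2, map_one])
      (by rw [← map_inv, ← map_mul, ← map_mul, hyinv, map_inv]) hη
    have e2 : QuotientGroup.mk' (QS4_aux_Z K) g * QuotientGroup.mk' (QS4_aux_Z K) b *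
        (QuotientGroup.mk' (QS4_aux_Z K) g)⁻¹ = QuotientGroup.mk' (QS4_aux_Z K) b *
        QuotientGroup.mk' (QS4_aux_Z K) (b * (k * b * k⁻¹)) := by
      rw [← map_inv, ← map_mul, ← map_mul, hgk, ← map_mul, ← mul_assoc, hb2, one_mul]
    rw [e2]; exact hd
  -- Claim 2: `b̄ ∈ O₂`
  have h2 := Cfsg.Agent.Helper16.baer_suzuki_elt 2 (QuotientGroup.mk' (QS4_aux_Z K) b) h1
  have hOn : (⨅ P : Sylow 2 (G ⧸ QS4_aux_Z K), (P : Subgroup (G ⧸ QS4_aux_Z K))).Normal :=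
    Cfsg.Agent.Helper16.iInf_sylow_normal 2
  have hOp : IsPGroup 2 ↥(⨅ P : Sylow 2 (G ⧸ QS4_aux_Z K), (P : Subgroup (G ⧸ QS4_aux_Z K))) :=
    Cfsg.Agent.Helper16.iInf_sylow_isPGroup 2
  generalize (⨅ P : Sylow 2 (G ⧸ QS4_aux_Z K), (P : Subgroup (G ⧸ QS4_aux_Z K))) = O at h2 hOn hOp
  -- Claim 3: the preimage of `O₂` in `K` is proper, hence central
  have hMne : K ⊓ O.comap (QuotientGroup.mk' (QS4_aux_Z K)) ≠ K := by
    intro hM
    have hle : K ≤ O.comap (QuotientGroup.mk' (QS4_aux_Z K)) := by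
      intro x hx
      have hx' : x ∈ K ⊓ O.comap (QuotientGroup.mk' (QS4_aux_Z K)) := by rw [hM]; exact hx
      exact hx'.2
    apply Cfsg.Agent.Helper7.IsQuasisimple.not_isSolvable hK
    have : Group.IsNilpotent ↥O := hOp.isNilpotent
    have : Group.IsSolvable ↥(Subgroup.center ↥K) := Group.isSolvable_of_comm
      (fun a b => Subtype.ext ((Subgroup.mem_center_iff.mp b.2 (a : ↥K))))
    have hker : (((QuotientGroup.mk' (QS4_aux_Z K)).comp K.subtype).codRestrict O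
        (fun k => hle k.2)).ker ≤ (Subgroup.center ↥K).subtype.range := by
      intro k hk
      rw [MonoidHom.mem_ker] at hk
      have hk1 : QuotientGroup.mk' (QS4_aux_Z K) (k : G) = 1 := congrArg Subtype.val hk
      rw [hπ, QS4_aux_mem_Z] at hk1
      rw [Subgroup.range_subtype, Subgroup.mem_center_iff]
      intro y
      exact Subtype.ext (hk1.2 y y.2).symm
    exact Group.isSolvable_of_ker_le_range (Subgroup.center ↥K).subtype _ hker
  have hnorm : ∀ k ∈ K, ∀ n ∈ K ⊓ O.comap (QuotientGroup.mk' (QS4_aux_Z K)),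
      k * n * k⁻¹ ∈ K ⊓ O.comap (QuotientGroup.mk' (QS4_aux_Z K)) := by
    intro k hk n hn'
    refine ⟨K.mul_mem (K.mul_mem hk hn'.1) (K.inv_mem hk), Subgroup.mem_comap.mpr ?_⟩
    rw [map_mul, map_mul, map_inv]
    exact hOn.conj_mem _ hn'.2 _
  have hcen := QS_normal_central hK inf_le_left hMne hnorm
  -- Claim 4: `[K, b] ≤ Z(K)`, so `b` centralises `K`
  apply hn
  apply QS_comm_central hK (fun x hx => hKn.conj_mem x hx b)
  intro x hx y hy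
  apply hcen _ _ y hy
  refine ⟨K.mul_mem (K.inv_mem hx) (hKn.conj_mem x hx b), Subgroup.mem_comap.mpr ?_⟩
  rw [map_mul, map_mul, map_mul, map_inv, map_inv]
  have h3 : (QuotientGroup.mk' (QS4_aux_Z K) x)⁻¹ * QuotientGroup.mk' (QS4_aux_Z K) b *
      ((QuotientGroup.mk' (QS4_aux_Z K) x)⁻¹)⁻¹ ∈ O := hOn.conj_mem _ h2 _
  have h4 := O.mul_mem h3 (O.inv_mem h2)
  convert h4 using 1
  group

end QS4core

section QS
variable {G : Type*} [Group G] {K : Subgroup G}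

/-- the subgroup of the elements normalising `K` and conjugating `b` to a `K`-conjugate of `b` -/
def QS4_aux_T (K : Subgroup G) (b : G) : Subgroup G where
  carrier := {g | (∀ x, x ∈ K ↔ g * x * g⁻¹ ∈ K) ∧ ∃ k ∈ K, g * b * g⁻¹ = k * b * k⁻¹}
  one_mem' := ⟨fun x => by simp, 1, K.one_mem, rfl⟩
  mul_mem' := by
    rintro g₁ g₂ ⟨hn₁, k₁, hk₁, he₁⟩ ⟨hn₂, k₂, hk₂, he₂⟩
    refine ⟨fun x => ?_, g₁ * k₂ * g₁⁻¹ * k₁, K.mul_mem ((hn₁ k₂).mp hk₂) hk₁, ?_⟩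
    · rw [hn₂ x, hn₁ (g₂ * x * g₂⁻¹)]
      have : g₁ * g₂ * x * (g₁ * g₂)⁻¹ = g₁ * (g₂ * x * g₂⁻¹) * g₁⁻¹ := by group
      rw [this]
    · calc g₁ * g₂ * b * (g₁ * g₂)⁻¹ = g₁ * (g₂ * b * g₂⁻¹) * g₁⁻¹ := by group
        _ = g₁ * (k₂ * b * k₂⁻¹) * g₁⁻¹ := by rw [he₂]
        _ = (g₁ * k₂ * g₁⁻¹) * (g₁ * b * g₁⁻¹) * (g₁ * k₂ * g₁⁻¹)⁻¹ := by group
        _ = (g₁ * k₂ * g₁⁻¹) * (k₁ * b * k₁⁻¹) * (g₁ * k₂ * g₁⁻¹)⁻¹ := by rw [he₁]
        _ = _ := by group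
  inv_mem' := by
    rintro g ⟨hn, k, hk, he⟩
    refine ⟨fun x => ?_, g⁻¹ * k⁻¹ * g, ?_, ?_⟩
    · rw [hn (g⁻¹ * x * g⁻¹⁻¹)]
      have : g * (g⁻¹ * x * g⁻¹⁻¹) * g⁻¹ = x := by group
      rw [this]
    · rw [hn (g⁻¹ * k⁻¹ * g)]
      have : g * (g⁻¹ * k⁻¹ * g) * g⁻¹ = k⁻¹ := by group
      rw [this]; exact K.inv_mem hk
    · have h1 : b = k⁻¹ * (g * b * g⁻¹) * k := by rw [he]; group
      calc g⁻¹ * b * g⁻¹⁻¹ = g⁻¹ * (k⁻¹ * (g * b * g⁻¹) * k) * g := by rw [← h1]; group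
        _ = _ := by group

/-- QSi (M): Baer–Suzuki (S0199) modulo the centre: an involution `b` normalising and not centralising `K` inverts a non-central element of odd order. -/
theorem QS_baer_suzuki [Finite G] (hK : Cfsg.IsQuasisimple ↥K) {b : G} (hb2 : b * b = 1) (hb : ∀ x ∈ K, b * x * b⁻¹ ∈ K)
    (hn : ¬ ∀ x ∈ K, b * x = x * b) :
    ∃ x ∈ K, Odd (orderOf x) ∧ b * x * b⁻¹ = x⁻¹ ∧ ∃ y ∈ K, x * y ≠ y * x := by
  have hKT : K ≤ QS4_aux_T K b := by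
    intro k hk
    refine ⟨fun x => ⟨fun hx => K.mul_mem (K.mul_mem hk hx) (K.inv_mem hk), fun hx => ?_⟩, k, hk, rfl⟩
    have : x = k⁻¹ * (k * x * k⁻¹) * k := by group
    rw [this]; exact K.mul_mem (K.mul_mem (K.inv_mem hk) hx) hk
  have hbT : b ∈ QS4_aux_T K b := by
    refine ⟨fun x => ⟨hb x, fun hx => ?_⟩, 1, K.one_mem, by group⟩
    have h1 := hb _ hx
    have : b * (b * x * b⁻¹) * b⁻¹ = x := by
      calc b * (b * x * b⁻¹) * b⁻¹ = (b * b) * x * (b * b)⁻¹ := by group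
        _ = x := by rw [hb2]; simp
    rwa [this] at h1
  have hK'n : (K.subgroupOf (QS4_aux_T K b)).Normal := by
    refine ⟨?_⟩
    rintro ⟨n, hnT⟩ hn' ⟨g, hg⟩
    rw [Subgroup.mem_subgroupOf] at hn' ⊢
    exact (hg.1 n).mp hn'
  have hK' : Cfsg.IsQuasisimple ↥(K.subgroupOf (QS4_aux_T K b)) :=
    Cfsg.Agent.Helper7.isQuasisimple_of_mulEquiv (Subgroup.subgroupOfEquivOfLe hKT).symm hK
  have htop : ∀ g : ↥(QS4_aux_T K b), ∃ k ∈ K.subgroupOf (QS4_aux_T K b),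
      g * (⟨b, hbT⟩ : ↥(QS4_aux_T K b)) * g⁻¹ = k * ⟨b, hbT⟩ * k⁻¹ := by
    rintro ⟨g, hg⟩
    obtain ⟨k, hk, he⟩ := hg.2
    exact ⟨⟨k, hKT hk⟩, Subgroup.mem_subgroupOf.mpr hk, Subtype.ext he⟩
  have hn' : ¬ ∀ x ∈ K.subgroupOf (QS4_aux_T K b), (⟨b, hbT⟩ : ↥(QS4_aux_T K b)) * x = x * ⟨b, hbT⟩ := by
    intro h
    apply hn
    intro x hx
    exact congrArg Subtype.val (h ⟨x, hKT hx⟩ (Subgroup.mem_subgroupOf.mpr hx))
  obtain ⟨x, hx, hodd, hinv, y, hy, hxy⟩ :=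
    QS4_aux_core (K := K.subgroupOf (QS4_aux_T K b)) hK' (b := ⟨b, hbT⟩) (Subtype.ext hb2) htop hn'
  refine ⟨x.1, Subgroup.mem_subgroupOf.mp hx, ?_, congrArg Subtype.val hinv, y.1,
    Subgroup.mem_subgroupOf.mp hy, fun e => hxy (Subtype.ext e)⟩
  rw [Subgroup.orderOf_coe]
  exact hodd

end QS

end Cfsg.Agent.S3086P
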