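import Mathlib
import Cfsg.Prelude.Def_GeometricClasses
import Cfsg.Agent.Helper2.S5886.Defs
import Cfsg.Agent.Helper2.S5664.Defs

/-! # S5664 (driver helper2), piece PROPER (helper5): the `F`-transvection `x ↦ x + Tr (B x v) • v` is an isometry of
`Tr ∘ B` which is not `K`-semilinear. -/

set_option autoImplicit false

namespace Cfsg.Agent.S5664P

open Cfsg.Agent.S5886P

variable {F K V : Type*} [Field F] [Field K] [Algebra F K]
  [AddCommGroup V] [Module F V] [Module K V] [IsScalarTower F K V]

namespace PROPER

theorem B_smulF_left (B : V →ₗ[K] V →ₗ[K] K) (c : F) (x y : V) : B (c • x) y = c • B x y := by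
  rw [← algebraMap_smul K c x, map_smul, LinearMap.smul_apply, algebraMap_smul]

theorem B_smulF_right (B : V →ₗ[K] V →ₗ[K] K) (c : F) (x y : V) : B x (c • y) = c • B x y := by
  rw [← algebraMap_smul K c y, map_smul, algebraMap_smul]

theorem B_skew {B : V →ₗ[K] V →ₗ[K] K} (hB : IsAltND B) (x y : V) : B x y = - B y x := by
  have h := hB.alt (x + y)
  simp only [map_add, LinearMap.add_apply, hB.alt x, hB.alt y, zero_add, add_zero] at h
  exact eq_neg_of_add_eq_zero_right h

/-- the functional `x ↦ Tr (B x v)` -/
noncomputable def fv (B : V →ₗ[K] V →ₗ[K] K) (v : V) : V →ₗ[F] F where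
  toFun x := Algebra.trace F K (B x v)
  map_add' x y := by rw [map_add, LinearMap.add_apply, map_add]
  map_smul' c x := by
    rw [B_smulF_left, map_smul, RingHom.id_apply]

theorem fv_apply (B : V →ₗ[K] V →ₗ[K] K) (v x : V) : fv (F := F) B v x = trf F B x v := rfl

theorem fv_self {B : V →ₗ[K] V →ₗ[K] K} (hB : IsAltND B) (v : V) : fv (F := F) B v v = 0 := by
  rw [fv_apply]; unfold trf; rw [hB.alt, map_zero]

theorem trf_swap {B : V →ₗ[K] V →ₗ[K] K} (hB : IsAltND B) (x y : V) :
    trf F B x y = - trf F B y x := by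
  unfold trf; rw [B_skew hB x y, map_neg]

theorem notMem_span_of_pair {R M : Type*} [Field R] [AddCommGroup M] [Module R M] {x y : M}
    (h : LinearIndependent R ![x, y]) : y ∉ Submodule.span R {x} := by
  intro hy
  obtain ⟨a, rfl⟩ := Submodule.mem_span_singleton.1 hy
  have := (LinearIndependent.pair_iff.1 h) a (-1) (by simp)
  exact one_ne_zero (neg_eq_zero.1 this.2)

end PROPER

open PROPER in
/-- PROPER (M): `g x = x + trf F B x v • v` (`v ≠ 0`) is in `SpF`; if it were `σ`-semilinear: `g (k x) - σ k g x`... take `x` with `trf x v = 1` (TRFND) and `k ∉ F`: compare `g (k • x) = k x + Tr (k B x v) v` with `σ k • (x + v)`: since `x ∉ K v`... (as S5886 NOTIN, Cfsg/Agent/Helper18/S5886NOTIN.lean). -/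
theorem PROPER [Finite F] [Finite K] [Finite V] (B : V →ₗ[K] V →ₗ[K] K) (hB : IsAltND B)
    (h2 : 2 ≤ Module.finrank F K) (hV : Nontrivial V) :
    ∃ g ∈ SpF F B, g ∉ Nrm F K V := by
  obtain ⟨v, hv⟩ := exists_ne (0 : V)
  -- a vector `w₀` with `B w₀ v ≠ 0`
  obtain ⟨w₀, hw₀⟩ : ∃ w : V, B w v ≠ 0 := by
    by_contra hcon
    push Not at hcon
    apply hv
    apply hB.nd
    intro y
    rw [B_skew hB, hcon y, neg_zero]
  -- rescale so that the trace is non-zero
  obtain ⟨s, hs⟩ : ∃ s : K, Algebra.trace F K (B w₀ v * s) ≠ 0 := by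
    by_contra hcon
    push Not at hcon
    apply hw₀
    apply (traceForm_nondegenerate F K).1 (B w₀ v)
    intro s
    rw [Algebra.traceForm_apply]
    exact hcon s
  set w : V := s • w₀ with hwdef
  have hBw : B w v = s * B w₀ v := by
    rw [hwdef, map_smul, LinearMap.smul_apply, smul_eq_mul]
  have hd0 : fv (F := F) B v w ≠ 0 := by
    rw [fv_apply]; unfold trf
    rw [hBw, mul_comm]
    exact hs
  have hw : B w v ≠ 0 := by
    intro h0
    apply hd0
    rw [fv_apply]; unfold trf
    rw [h0, map_zero]
  have hwv : w ∉ Submodule.span K {v} := by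
    intro hmem
    obtain ⟨a, ha⟩ := Submodule.mem_span_singleton.1 hmem
    apply hw
    rw [← ha, map_smul, LinearMap.smul_apply, hB.alt, smul_zero]
  -- an element of `K` outside `F`
  obtain ⟨k, h1k⟩ := exists_linearIndependent_pair_of_one_lt_finrank (R := F) (M := K) (by omega)
    (one_ne_zero)
  have hkF : ∀ c : F, k ≠ algebraMap F K c := by
    intro c hc
    apply notMem_span_of_pair h1k
    rw [hc, Algebra.algebraMap_eq_smul_one]
    exact Submodule.smul_mem _ c (Submodule.mem_span_singleton_self 1)
  have hfv : fv (F := F) B v v = 0 := fv_self hB v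
  refine ⟨LinearEquiv.transvection hfv, ?_, ?_⟩
  · -- an isometry of `trf`
    intro x y
    show trf F B (x + fv (F := F) B v x • v) (y + fv (F := F) B v y • v) = trf F B x y
    unfold trf
    simp only [map_add, LinearMap.add_apply, B_smulF_left, B_smulF_right, hB.alt, smul_zero,
      add_zero, map_smul]
    have e1 : Algebra.trace F K (B x v) = fv (F := F) B v x := rfl
    have e2 : Algebra.trace F K (B v y) = - fv (F := F) B v y := by
      rw [B_skew hB v y, map_neg]; rfl
    rw [e1, e2, smul_eq_mul, smul_eq_mul]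
    ring
  · rintro ⟨σ, hσ⟩
    have e1 := hσ k w
    have hgw : (LinearEquiv.transvection hfv : V →ₗ[F] V) w = w + fv (F := F) B v w • v := rfl
    have hgkw : (LinearEquiv.transvection hfv : V →ₗ[F] V) (k • w) =
        k • w + fv (F := F) B v (k • w) • v := rfl
    rw [hgw, hgkw, smul_add] at e1
    set c : F := fv (F := F) B v (k • w) with hc
    set d : F := fv (F := F) B v w with hd
    -- `(k - σ k) • w = (σ k * d - c) • v`
    have e2 : (k - σ k) • w = (σ k * algebraMap F K d - algebraMap F K c) • v := by
      rw [sub_smul, sub_smul, mul_smul, algebraMap_smul, algebraMap_smul]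
      have : k • w = σ k • w + σ k • d • v - c • v := by
        rw [← e1]; abel
      rw [this]; abel
    by_cases hk : k - σ k = 0
    · rw [hk, zero_smul] at e2
      have h3 : σ k * algebraMap F K d - algebraMap F K c = 0 := by
        by_contra hne
        exact hv ((smul_eq_zero.mp e2.symm).resolve_left hne)
      have hσk : σ k = k := (sub_eq_zero.mp hk).symm
      rw [hσk] at h3
      have hdK : algebraMap F K d ≠ 0 := by
        intro h0
        exact hd0 ((map_eq_zero _).mp h0)
      have hkk : k = algebraMap F K (c / d) := by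
        rw [map_div₀, eq_div_iff hdK]
        exact sub_eq_zero.mp h3
      exact hkF _ hkk
    · apply hwv
      have : w = ((k - σ k)⁻¹ * (σ k * algebraMap F K d - algebraMap F K c)) • v := by
        rw [mul_smul, ← e2, smul_smul, inv_mul_cancel₀ hk, one_smul]
      rw [this]
      exact Submodule.smul_mem _ _ (Submodule.mem_span_singleton_self v)

end Cfsg.Agent.S5664P
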