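import Mathlib

set_option autoImplicit false

/-! S2140 drive, piece COUNT1: abstract Burnside counting when every nonidentity element has the same
number of fixed points. -/

namespace Cfsg.Agent.S2140P

namespace COUNT1

/-- Burnside in `Nat.card` form. -/
theorem burnside_natCard {Q : Type*} [Group Q] [Fintype Q] {X : Type*} [Finite X]
    [MulAction Q X] :
    ∑ y : Q, Nat.card (MulAction.fixedBy X y) =
      Nat.card (MulAction.orbitRel.Quotient Q X) * Nat.card Q := by
  classical
  let _ : Fintype X := Fintype.ofFinite X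
  let _ : Fintype (MulAction.orbitRel.Quotient Q X) := Fintype.ofFinite _
  let _ : ∀ y : Q, Fintype (MulAction.fixedBy X y) := fun y => Fintype.ofFinite _
  have h := MulAction.sum_card_fixedBy_eq_card_orbits_mul_card_group Q X
  simp only [Nat.card_eq_fintype_card]
  convert h using 2

/-- Burnside when all nonidentity elements have `f` fixed points. -/
theorem burnside_const {Q : Type*} [Group Q] [Finite Q] {X : Type*} [Finite X]
    [MulAction Q X] (f : ℕ) (hf : ∀ y : Q, y ≠ 1 → Nat.card (MulAction.fixedBy X y) = f) :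
    Nat.card X + (Nat.card Q - 1) * f =
      Nat.card (MulAction.orbitRel.Quotient Q X) * Nat.card Q := by
  classical
  let _ : Fintype Q := Fintype.ofFinite Q
  have h := burnside_natCard (Q := Q) (X := X)
  rw [← h]
  rw [← Finset.add_sum_erase Finset.univ _ (Finset.mem_univ (1 : Q))]
  congr 1
  · have : MulAction.fixedBy X (1 : Q) = Set.univ := by
      ext x; simp
    rw [this, Nat.card_congr (Equiv.Set.univ X)]
  · rw [Finset.sum_congr rfl (fun y hy => hf y (Finset.ne_of_mem_erase hy))]
    rw [Finset.sum_const, smul_eq_mul, Finset.card_erase_of_mem (Finset.mem_univ _),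
      Finset.card_univ, Nat.card_eq_fintype_card]

theorem arith (d q f N : ℕ) (hq : 1 ≤ q) (hfd : f ≤ d) (hB : d + (q - 1) * f = N * q) :
    f ≤ N ∧ d = f + (N - f) * q := by
  obtain ⟨q', rfl⟩ : ∃ q', q = q' + 1 := ⟨q - 1, by omega⟩
  simp only [Nat.add_sub_cancel] at hB
  have hNf : f ≤ N := by
    by_contra hlt
    push Not at hlt
    obtain ⟨k, rfl⟩ : ∃ k, f = N + 1 + k := ⟨f - N - 1, by omega⟩
    nlinarith
  refine ⟨hNf, ?_⟩
  obtain ⟨a, rfl⟩ : ∃ a, N = f + a := ⟨N - f, by omega⟩
  simp only [Nat.add_sub_cancel_left]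
  nlinarith

end COUNT1

theorem count_orbits {Q : Type*} [Group Q] [Finite Q] [Nontrivial Q] {X : Type*} [Finite X]
    [MulAction Q X] (f : ℕ) (hf : ∀ y : Q, y ≠ 1 → Nat.card (MulAction.fixedBy X y) = f) :
    ∃ a : ℕ, Nat.card X = f + a * Nat.card Q ∧
      Nat.card (MulAction.orbitRel.Quotient Q X) = f + a := by
  classical
  have hB := COUNT1.burnside_const f hf
  obtain ⟨y, hy⟩ := exists_ne (1 : Q)
  have hfX : f ≤ Nat.card X := by
    rw [← hf y hy]
    exact Nat.card_le_card_of_injective _ Subtype.val_injective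
  have hQ : 1 ≤ Nat.card Q := Nat.one_le_iff_ne_zero.mpr Nat.card_pos.ne'
  obtain ⟨h1, h2⟩ := COUNT1.arith _ _ _ _ hQ hfX hB
  exact ⟨Nat.card (MulAction.orbitRel.Quotient Q X) - f, h2, by omega⟩
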