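import Mathlib
import Cfsg.Agent.Helper5.MinIdxCOUNT1

set_option autoImplicit false

/-! S2140 drive, piece COUNT2: for an abelian group `Q` acting with `|X| = f + |Q|` and every
nonidentity element having `f` fixed points, each subgroup `L` of prime index contains the
stabilizers of exactly one orbit. -/

namespace Cfsg.Agent.S2140P

namespace COUNT2

open MulAction

/-- Double counting: `∑_{y ∈ H} |Fix y| = ∑_x |S_x ⊓ H|`. -/
theorem sum_fixed_eq_sum_stab {Q : Type*} [Group Q] [Fintype Q] {X : Type*} [Fintype X]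
    [MulAction Q X] (H : Subgroup Q) [DecidablePred (· ∈ H)] :
    ∑ y : Q, (if y ∈ H then Nat.card (fixedBy X y) else 0) =
      ∑ x : X, Nat.card ↥(stabilizer Q x ⊓ H) := by
  classical
  have h1 : ∀ y : Q, (if y ∈ H then Nat.card (fixedBy X y) else 0) =
      ∑ x : X, if (y ∈ H ∧ y • x = x) then 1 else 0 := by
    intro y
    by_cases hy : y ∈ H
    · simp only [hy, if_true, true_and]
      rw [Nat.card_eq_fintype_card, ← Finset.card_filter]
      rw [← Fintype.card_subtype]
      apply Fintype.card_congr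
      exact Equiv.subtypeEquivRight (fun x => by simp [mem_fixedBy])
    · simp [hy]
  have h2 : ∀ x : X, Nat.card ↥(stabilizer Q x ⊓ H) =
      ∑ y : Q, if (y ∈ H ∧ y • x = x) then 1 else 0 := by
    intro x
    rw [Nat.card_eq_fintype_card, ← Finset.card_filter, ← Fintype.card_subtype]
    apply Fintype.card_congr
    exact Equiv.subtypeEquivRight (fun y => by
      simp only [Subgroup.mem_inf, mem_stabilizer_iff]
      tauto)
  simp_rw [h1, h2]
  exact Finset.sum_comm

/-- `∑_{y ∈ H} |Fix y| = |X| + (|H| - 1) f`. -/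
theorem sum_fixed_const {Q : Type*} [Group Q] [Fintype Q] {X : Type*} [Finite X]
    [MulAction Q X] (f : ℕ) (hf : ∀ y : Q, y ≠ 1 → Nat.card (fixedBy X y) = f)
    (H : Subgroup Q) [DecidablePred (· ∈ H)] :
    ∑ y : Q, (if y ∈ H then Nat.card (fixedBy X y) else 0) =
      Nat.card X + (Nat.card H - 1) * f := by
  classical
  rw [← Finset.add_sum_erase Finset.univ _ (Finset.mem_univ (1 : Q))]
  congr 1
  · have : fixedBy X (1 : Q) = Set.univ := by
      ext x; simp
    rw [if_pos H.one_mem, this, Nat.card_congr (Equiv.Set.univ X)]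
  · have : ∀ y ∈ Finset.univ.erase (1 : Q),
        (if y ∈ H then Nat.card (fixedBy X y) else 0) = if y ∈ H then f else 0 := by
      intro y hy
      rw [hf y (Finset.ne_of_mem_erase hy)]
    rw [Finset.sum_congr rfl this, ← Finset.sum_filter, Finset.sum_const, smul_eq_mul]
    congr 1
    rw [Finset.filter_erase, Finset.card_erase_of_mem (by simp [H.one_mem])]
    congr 1
    rw [Nat.card_eq_fintype_card, Fintype.card_subtype]

/-- If `S ≰ L` and `L` has prime index then `|S ⊓ L| * p = |S|`. -/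
theorem card_inf_mul {Q : Type*} [CommGroup Q] [Finite Q] (S L : Subgroup Q) (p : ℕ)
    (hp : p.Prime) (hL : L.index = p) (hS : ¬ S ≤ L) :
    Nat.card ↥(S ⊓ L) * p = Nat.card S := by
  have hsup : S ⊔ L = ⊤ := by
    have hdvd : (S ⊔ L).index ∣ p := hL ▸ Subgroup.index_dvd_of_le le_sup_right
    rcases (Nat.dvd_prime hp).mp hdvd with h1 | h1
    · exact Subgroup.index_eq_one.mp h1
    · exfalso
      apply hS
      have hle : L ≤ S ⊔ L := le_sup_right
      rcases hle.lt_or_eq with hlt | heq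
      · have := Subgroup.index_strictAnti hlt
        omega
      · rw [heq]; exact le_sup_left
  have h1 : L.relIndex S = p := by
    rw [← Subgroup.relIndex_sup_right, hsup, Subgroup.relIndex_top_right, hL]
  have h2 := Subgroup.relIndex_mul_relIndex (⊥ : Subgroup Q) (S ⊓ L) S bot_le inf_le_left
  rw [Subgroup.relIndex_bot_left, Subgroup.relIndex_bot_left, Subgroup.inf_relIndex_left, h1] at h2
  exact h2

/-- In a commutative group the stabilizer is constant on orbits. -/
theorem stabilizer_eq_of_mem_orbit {Q : Type*} [CommGroup Q] {X : Type*} [MulAction Q X]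
    {x x₀ : X} (h : x ∈ orbit Q x₀) : stabilizer Q x = stabilizer Q x₀ := by
  obtain ⟨g, rfl⟩ := h
  ext y
  simp only [mem_stabilizer_iff]
  rw [smul_comm y g x₀]
  exact ⟨fun h => smul_left_cancel g h, fun h => by rw [h]⟩

theorem arith (p q l f σ σ' : ℕ) (hp : 2 ≤ p) (hql : l * p = q)
    (h1 : σ + σ' = f + q + (q - 1) * f) (h2 : σ * p + σ' = (f + q + (l - 1) * f) * p)
    (hq : 1 ≤ q) : σ = q := by
  have hl : 1 ≤ l := by
    rcases Nat.eq_zero_or_pos l with h | h
    · subst h; omega
    · exact h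
  obtain ⟨q', rfl⟩ : ∃ q', q = q' + 1 := ⟨q - 1, by omega⟩
  obtain ⟨l', rfl⟩ : ∃ l', l = l' + 1 := ⟨l - 1, by omega⟩
  obtain ⟨p', rfl⟩ : ∃ p', p = p' + 2 := ⟨p - 2, by omega⟩
  simp only [Nat.add_sub_cancel] at h1 h2
  have h3 : σ * (p' + 1) = (q' + 1) * (p' + 1) := by nlinarith
  exact Nat.eq_of_mul_eq_mul_right (by omega) h3

end COUNT2

open MulAction in
theorem count_unique {Q : Type*} [CommGroup Q] [Finite Q] {X : Type*} [Finite X]
    [MulAction Q X] (f : ℕ) (hf : ∀ y : Q, y ≠ 1 → Nat.card (MulAction.fixedBy X y) = f)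
    (hd : Nat.card X = f + Nat.card Q) (L : Subgroup Q) (p : ℕ) (hp : p.Prime) (hL : L.index = p) :
    ∃ x₀ : X, MulAction.stabilizer Q x₀ ≤ L ∧
      ∀ x : X, MulAction.stabilizer Q x ≤ L → x ∈ MulAction.orbit Q x₀ := by
  classical
  let _ : Fintype Q := Fintype.ofFinite Q
  let _ : Fintype X := Fintype.ofFinite X
  have hql : Nat.card L * p = Nat.card Q := hL ▸ L.card_mul_index
  have hq1 : 1 ≤ Nat.card Q := Nat.one_le_iff_ne_zero.mpr Nat.card_pos.ne'
  -- the two double counts
  have hTQ : ∑ x : X, Nat.card ↥(stabilizer Q x) =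
      f + Nat.card Q + (Nat.card Q - 1) * f := by
    have h1 := COUNT2.sum_fixed_eq_sum_stab (X := X) (⊤ : Subgroup Q)
    have h2 := COUNT2.sum_fixed_const (X := X) f hf (⊤ : Subgroup Q)
    rw [h1, hd, Subgroup.card_top] at h2
    rw [← h2]
    apply Finset.sum_congr rfl
    intro x _
    rw [inf_top_eq]
  have hTL : ∑ x : X, Nat.card ↥(stabilizer Q x ⊓ L) =
      f + Nat.card Q + (Nat.card L - 1) * f := by
    have h1 := COUNT2.sum_fixed_eq_sum_stab (X := X) L
    have h2 := COUNT2.sum_fixed_const (X := X) f hf L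
    rw [h1, hd] at h2
    exact h2
  set A : Finset X := Finset.univ.filter (fun x => stabilizer Q x ≤ L) with hA
  set A' : Finset X := Finset.univ.filter (fun x => ¬ stabilizer Q x ≤ L) with hA'
  set σ := ∑ x ∈ A, Nat.card ↥(stabilizer Q x) with hσ
  set σ' := ∑ x ∈ A', Nat.card ↥(stabilizer Q x) with hσ'
  have e1 : σ + σ' = f + Nat.card Q + (Nat.card Q - 1) * f := by
    rw [← hTQ]
    exact Finset.sum_filter_add_sum_filter_not _ _ _
  have e2 : σ * p + σ' = (f + Nat.card Q + (Nat.card L - 1) * f) * p := by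
    rw [← hTL, ← Finset.sum_filter_add_sum_filter_not Finset.univ
      (fun x => stabilizer Q x ≤ L), hσ, hσ', Finset.sum_mul, add_mul, Finset.sum_mul]
    congr 1
    · apply Finset.sum_congr rfl
      intro x hx
      have hx' : stabilizer Q x ≤ L := (Finset.mem_filter.mp hx).2
      rw [inf_eq_left.mpr hx']
    · rw [Finset.sum_mul]
      apply Finset.sum_congr rfl
      intro x hx
      have hx' : ¬ stabilizer Q x ≤ L := (Finset.mem_filter.mp hx).2
      exact (COUNT2.card_inf_mul _ L p hp hL hx').symm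
  have hσq : σ = Nat.card Q := COUNT2.arith p _ _ f σ σ' hp.two_le hql e1 e2 hq1
  -- `A` is nonempty
  have hAne : A.Nonempty := by
    rw [Finset.nonempty_iff_ne_empty]
    intro h0
    rw [hσ, h0, Finset.sum_empty] at hσq
    omega
  obtain ⟨x₀, hx₀⟩ := hAne
  have hx₀L : stabilizer Q x₀ ≤ L := (Finset.mem_filter.mp hx₀).2
  refine ⟨x₀, hx₀L, ?_⟩
  intro x hxL
  by_contra hxO
  set O : Finset X := Finset.univ.filter (fun y => y ∈ orbit Q x₀) with hO
  have hOsum : ∑ y ∈ O, Nat.card ↥(stabilizer Q y) = Nat.card Q := by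
    have h1 : ∀ y ∈ O, Nat.card ↥(stabilizer Q y) = Nat.card ↥(stabilizer Q x₀) := by
      intro y hy
      rw [COUNT2.stabilizer_eq_of_mem_orbit (Finset.mem_filter.mp hy).2]
    rw [Finset.sum_congr rfl h1, Finset.sum_const, smul_eq_mul]
    have h2 : O.card = (stabilizer Q x₀).index := by
      rw [index_stabilizer, Set.ncard_eq_toFinset_card']
      congr 1
      ext y
      simp [hO]
    rw [h2, mul_comm]
    exact Subgroup.card_mul_index _
  have hsub : insert x O ⊆ A := by
    intro y hy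
    rcases Finset.mem_insert.mp hy with rfl | hy
    · exact Finset.mem_filter.mpr ⟨Finset.mem_univ _, hxL⟩
    · refine Finset.mem_filter.mpr ⟨Finset.mem_univ _, ?_⟩
      rw [COUNT2.stabilizer_eq_of_mem_orbit (Finset.mem_filter.mp hy).2]
      exact hx₀L
  have hxO' : x ∉ O := fun h => hxO (Finset.mem_filter.mp h).2
  have h3 : ∑ y ∈ insert x O, Nat.card ↥(stabilizer Q y) ≤ σ :=
    Finset.sum_le_sum_of_subset hsub
  rw [Finset.sum_insert hxO', hOsum, hσq] at h3
  have h4 : 1 ≤ Nat.card ↥(stabilizer Q x) := Nat.one_le_iff_ne_zero.mpr Nat.card_pos.ne'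
  omega

end Cfsg.Agent.S2140P
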