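import Mathlib
import Cfsg.Prelude.Def_JComponents
import Cfsg.Prelude.Def_Involutions

/-! # S0518 (Kurzweil–Stellmacher 12.1, final theorem): shared definitions of board `s0518pieces`

Blueprint: `departures/helper5_S0518_blueprint.md`.  Everything lives in the ambient finite group `G`;
`H = O^2(G)` is the subgroup generated by the elements of odd order.  The proof rides on S2947 and S2954
(`Cfsg.Agent.S2951P.ASM_54`, i.e. on S2858). -/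

set_option autoImplicit false

universe u

namespace Cfsg.Agent.S0518P

open Cfsg Subgroup

variable {G : Type u} [Group G]

/-- the subgroup generated by the elements of odd order of `P` (`= O^2(P)` for finite `P`) -/
def oddGen (P : Subgroup G) : Subgroup G := closure {g : G | g ∈ P ∧ Odd (orderOf g)}

/-- `g X g⁻¹` -/
abbrev cj (g : G) (X : Subgroup G) : Subgroup G := X.map (MulAut.conj g).toMonoidHom

/-- `M = N_H(X)` for a nontrivial 2-subgroup `X` of `H` (everything inside `G`) -/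
def IsTwoLocalIn (H M : Subgroup G) : Prop :=
  ∃ X : Subgroup G, X ≤ H ∧ IsPGroup 2 ↥X ∧ X ≠ ⊥ ∧ M = normalizer (X : Set G) ⊓ H

/-- `M` is a maximal 2-local subgroup of `H` (everything inside `G`) -/
def IsMaxTwoLocalIn (H M : Subgroup G) : Prop :=
  IsTwoLocalIn H M ∧ ∀ N : Subgroup G, IsTwoLocalIn H N → M ≤ N → N = M

/-- the second alternative of S0518, phrased with subgroups of `G` -/
def GConcl (H : Subgroup G) : Prop :=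
  ∃ M₁ M₂ : Subgroup G, M₁ ≠ M₂ ∧ IsMaxTwoLocalIn H M₁ ∧ IsMaxTwoLocalIn H M₂ ∧
    Nonempty (↥M₁ ≃* Equiv.Perm (Fin 4)) ∧ Nonempty (↥M₂ ≃* Equiv.Perm (Fin 4)) ∧
    Nat.card ↥(M₁ ⊓ M₂) = 8

/-- the hypothesis `hZ` of S0518 -/
def ZN (G : Type u) [Group G] : Prop :=
  ∀ S : Sylow 2 G,
    centralizer {z : G | z ∈ (S : Subgroup G) ∧ z ^ 2 = 1 ∧ ∀ s ∈ (S : Subgroup G), s * z = z * s} ≤
      normalizer ((S : Subgroup G) : Set G)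

/-- `O^2(G)`, the subgroup `H` of S0518 -/
def O2 (G : Type u) [Group G] : Subgroup G := closure {g : G | Odd (orderOf g)}

/-- what maximality of the 2-local `P` is used for -/
def MaxN (P : Subgroup G) : Prop :=
  ∀ X : Subgroup G, IsPGroup 2 ↥X → X ≠ ⊥ → P ≤ normalizer (X : Set G) → normalizer (X : Set G) = P

/-- facts about `P ≅ S₄` with Sylow 2-subgroup `T` and `V = O₂(P)` -/
structure A24 (P T V : Subgroup G) : Prop where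
  card_P : Nat.card ↥P = 24
  card_T : Nat.card ↥T = 8
  T_le : T ≤ P
  V_le : V ≤ T
  card_V : Nat.card ↥V = 4
  V_normal : P ≤ normalizer (V : Set G)
  V_le_odd : V ≤ oddGen P

/-- facts about `P ≅ S₄ × C₂` with Sylow 2-subgroup `T`: `Z(P) = ⟨c⟩`, `Q = O₂(P) ≅ E₈`,
`K = O^2(P) ≅ A₄`, `V = O₂(K) = Q ∩ K`. -/
structure B48 (P T : Subgroup G) (c : G) (Q K V : Subgroup G) : Prop where
  card_P : Nat.card ↥P = 48
  card_T : Nat.card ↥T = 16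
  T_le : T ≤ P
  c_ne : c ≠ 1
  c_sq : c * c = 1
  c_central : ∀ x ∈ P, x * c = c * x
  center : ∀ x ∈ P, (∀ y ∈ P, y * x = x * y) → x = 1 ∨ x = c
  Q_le : Q ≤ T
  card_Q : Nat.card ↥Q = 8
  Q_sq : ∀ q ∈ Q, q * q = 1
  Q_normal : P ≤ normalizer (Q : Set G)
  /-- `C_P(Q) ≤ Q` -/
  Q_cent : ∀ x ∈ P, (∀ q ∈ Q, q * x = x * q) → x ∈ Q
  /-- `Q = O₂(P)` -/
  Q_core : ∀ D : Subgroup G, D ≤ P → P ≤ normalizer (D : Set G) → IsPGroup 2 ↥D → D ≤ Q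
  c_mem : c ∈ Q
  K_eq : K = oddGen P
  K_le : K ≤ P
  card_K : Nat.card ↥K = 12
  K_normal : P ≤ normalizer (K : Set G)
  c_not_mem : c ∉ K
  V_eq : V = Q ⊓ K
  card_V : Nat.card ↥V = 4
  V_normal : P ≤ normalizer (V : Set G)
  /-- `Q = V ∪ cV` -/
  Q_cover : ∀ q ∈ Q, q ∈ V ∨ c * q ∈ V
  /-- `K` is transitive on `V ∖ 1` -/
  K_trans : ∀ v ∈ V, ∀ w ∈ V, v ≠ 1 → w ≠ 1 → ∃ k ∈ K, k * v * k⁻¹ = w
  /-- squares of the elements of order dividing 4 lie in `V` -/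
  sq_mem : ∀ y ∈ P, y ^ 4 = 1 → y ^ 2 ∈ V
  /-- `C_P(v) = T` for `1 ≠ v ∈ V ∩ Z(T)` -/
  cent_V : ∀ v ∈ V, v ≠ 1 → (∀ t ∈ T, t * v = v * t) → ∀ x ∈ P, x * v = v * x → x ∈ T
  /-- a complement of `⟨c⟩` in `P` is `≅ S₄` -/
  compl : ∀ R : Subgroup G, R ≤ P → c ∉ R → Nat.card ↥R = 24 → Nonempty (↥R ≃* Equiv.Perm (Fin 4))

/-- the configuration of case B: two maximal 2-locals `P₁ ≠ P₂`, both `≅ S₄ × C₂`, with the common Sylow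
2-subgroup `T`, and the subgroups and elements attached to them by `B48`. -/
structure Cfg (G : Type u) [Group G] where
  P₁ : Subgroup G
  P₂ : Subgroup G
  T : Subgroup G
  c₁ : G
  c₂ : G
  Q₁ : Subgroup G
  Q₂ : Subgroup G
  K₁ : Subgroup G
  K₂ : Subgroup G
  V₁ : Subgroup G
  V₂ : Subgroup G

/-- exchange the two sides -/
def Cfg.swap (C : Cfg G) : Cfg G :=
  ⟨C.P₂, C.P₁, C.T, C.c₂, C.c₁, C.Q₂, C.Q₁, C.K₂, C.K₁, C.V₂, C.V₁⟩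

/-- `T₀ = V₁V₂` (dihedral of order 8) -/
def Cfg.T₀ (C : Cfg G) : Subgroup G := C.V₁ ⊔ C.V₂

/-- `N_G(Z(T))`, where `Z(T) = Q₁ ∩ Q₂` -/
def Cfg.N (C : Cfg G) : Subgroup G := normalizer ((C.Q₁ ⊓ C.Q₂ : Subgroup G) : Set G)

/-- the input of case B -/
structure TBase (C : Cfg G) : Prop where
  b₁ : B48 C.P₁ C.T C.c₁ C.Q₁ C.K₁ C.V₁
  b₂ : B48 C.P₂ C.T C.c₂ C.Q₂ C.K₂ C.V₂
  ne : C.P₁ ≠ C.P₂
  max₁ : MaxN C.P₁
  max₂ : MaxN C.P₂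

theorem TBase.swap {C : Cfg G} (h : TBase C) : TBase C.swap :=
  ⟨h.b₂, h.b₁, h.ne.symm, h.max₂, h.max₁⟩

/-- first consequences of maximality (piece BASE) -/
structure TD0 (C : Cfg G) : Prop where
  cent_c₁ : ∀ x : G, x * C.c₁ = C.c₁ * x → x ∈ C.P₁
  cent_c₂ : ∀ x : G, x * C.c₂ = C.c₂ * x → x ∈ C.P₂
  norm_Q₁ : normalizer (C.Q₁ : Set G) = C.P₁
  norm_Q₂ : normalizer (C.Q₂ : Set G) = C.P₂
  norm_V₁ : normalizer (C.V₁ : Set G) = C.P₁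
  norm_V₂ : normalizer (C.V₂ : Set G) = C.P₂
  Q_ne : C.Q₁ ≠ C.Q₂
  V_ne : C.V₁ ≠ C.V₂
  c_ne : C.c₁ ≠ C.c₂

/-- the structure of `T ≅ D₈ × C₂` seen from its two `E₈`-subgroups (piece PAIR1) -/
structure TD1 (C : Cfg G) : Prop where
  sup_Q : C.Q₁ ⊔ C.Q₂ = C.T
  card_inf_Q : Nat.card ↥(C.Q₁ ⊓ C.Q₂) = 4
  /-- `Q₁ ∩ Q₂ ≤ Z(T)` -/
  central : ∀ x ∈ C.Q₁ ⊓ C.Q₂, ∀ t ∈ C.T, t * x = x * t
  /-- `C_G(T) ≤ Q₁ ∩ Q₂` -/
  cent_T : ∀ x : G, (∀ t ∈ C.T, t * x = x * t) → x ∈ C.Q₁ ⊓ C.Q₂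
  c₁_mem : C.c₁ ∈ C.Q₁ ⊓ C.Q₂
  c₂_mem : C.c₂ ∈ C.Q₁ ⊓ C.Q₂
  /-- the involutions of `T` lie in `Q₁ ∪ Q₂` -/
  invol : ∀ x ∈ C.T, x * x = 1 → x ∈ C.Q₁ ∨ x ∈ C.Q₂
  /-- `T` has exactly two elementary abelian subgroups of order 8 -/
  e8 : ∀ B : Subgroup G, B ≤ C.T → Nat.card ↥B = 8 → (∀ b ∈ B, b * b = 1) → B = C.Q₁ ∨ B = C.Q₂

/-- the element `z` with `⟨z⟩ = V₁ ∩ V₂ = [T,T]` and the dihedral group `T₀ = V₁V₂` (piece PAIR2) -/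
structure TD2 (C : Cfg G) (z : G) : Prop where
  z_ne : z ≠ 1
  z_mem₁ : z ∈ C.V₁
  z_mem₂ : z ∈ C.V₂
  inf_V : ∀ x ∈ C.V₁, x ∈ C.V₂ → x = 1 ∨ x = z
  z_central : ∀ t ∈ C.T, t * z = z * t
  c₂_eq : C.c₂ = C.c₁ * z
  inf_Q : ∀ x ∈ C.Q₁ ⊓ C.Q₂, x = 1 ∨ x = z ∨ x = C.c₁ ∨ x = C.c₂
  card_T₀ : Nat.card ↥C.T₀ = 8
  T₀_le : C.T₀ ≤ C.T
  c₁_not_mem : C.c₁ ∉ C.T₀
  c₂_not_mem : C.c₂ ∉ C.T₀
  /-- `T = T₀ × ⟨c₁⟩` -/
  T_cover : ∀ t ∈ C.T, t ∈ C.T₀ ∨ C.c₁ * t ∈ C.T₀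
  /-- `T₀ = V₁ ∪ V₂ ∪ {r, r⁻¹}` with `r² = z` -/
  T₀_elts : ∀ x ∈ C.T₀, x ∈ C.V₁ ∨ x ∈ C.V₂ ∨ x * x = z
  r_ex : ∃ r ∈ C.T₀, r * r = z
  r_unique : ∀ x ∈ C.T₀, ∀ y ∈ C.T₀, x * x = z → y * y = z → y = x ∨ y = x⁻¹
  /-- all involutions of `T₀` are conjugate to `z` -/
  fuse : ∀ x ∈ C.T₀, x * x = 1 → x ≠ 1 → ∃ g : G, g * z * g⁻¹ = x

/-- non-fusion and the centralizer of `z` (piece PAIR3) -/
structure TD3 (C : Cfg G) (z : G) : Prop where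
  not_conj₁ : ∀ g : G, g * C.c₁ * g⁻¹ ≠ z
  not_conj₂ : ∀ g : G, g * C.c₂ * g⁻¹ ≠ z
  cent_z₁ : ∀ x ∈ C.P₁, x * z = z * x → x ∈ C.T
  cent_z₂ : ∀ x ∈ C.P₂, x * z = z * x → x ∈ C.T

/-- everything known about `T` -/
structure TData (C : Cfg G) (z : G) : Prop where
  base : TBase C
  d0 : TD0 C
  d1 : TD1 C
  d2 : TD2 C z
  d3 : TD3 C z

/-- the case `T < S`: the Sylow 2-subgroup `S = N_G(Z(T))` of order 32 (pieces LT1 – LT3) -/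
structure SData (C : Cfg G) (z : G) (S : Subgroup G) : Prop where
  T_le : C.T ≤ S
  card_S : Nat.card ↥S = 32
  T_normal : S ≤ normalizer (C.T : Set G)
  /-- the elements of `S ∖ T` exchange the two sides -/
  swap : ∀ b ∈ S, b ∉ C.T → cj b C.V₁ = C.V₂ ∧ cj b C.V₂ = C.V₁ ∧ b * C.c₁ * b⁻¹ = C.c₂ ∧
    b * C.c₂ * b⁻¹ = C.c₁ ∧ b * z * b⁻¹ = z
  /-- `C_G(z) = S` (uses the hypothesis `hZ` of S0518) -/
  cent_z : ∀ x : G, x * z = z * x → x ∈ S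

end Cfsg.Agent.S0518P
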