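import Mathlib
import Cfsg.Agent.Helper2.SL2Quaternion

set_option autoImplicit false
set_option linter.unusedSectionVars false
set_option linter.unusedVariables false

namespace Cfsg.Agent.S3206P

open Matrix

/-- private copy of QUAT: if all commutators of the generalised quaternion group of order `4n` lie in
`{1, c}` with `c ^ 2 = 1`, then `n ≤ 2`. -/
theorem KLEIN0.aux_quat (n : ℕ) [NeZero n] (c : QuaternionGroup n) (hc : c ^ 2 = 1)
    (h : ∀ u v : QuaternionGroup n, u * v * u⁻¹ * v⁻¹ = 1 ∨ u * v * u⁻¹ * v⁻¹ = c) : n ≤ 2 := by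
  have hn0 : n ≠ 0 := NeZero.ne n
  have key : ∀ w : QuaternionGroup n,
      w = (QuaternionGroup.a 1) * (QuaternionGroup.xa 0) * (QuaternionGroup.a 1)⁻¹ *
        (QuaternionGroup.xa 0)⁻¹ → w * QuaternionGroup.xa 1 = QuaternionGroup.xa (-1) := by
    intro w hw
    have h1 : (QuaternionGroup.xa 0 : QuaternionGroup n) * QuaternionGroup.a 1 =
        QuaternionGroup.xa 1 := by
      rw [QuaternionGroup.xa_mul_a, zero_add]
    have h2 : (QuaternionGroup.a 1 : QuaternionGroup n) * QuaternionGroup.xa 0 =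
        QuaternionGroup.xa (-1) := by
      rw [QuaternionGroup.a_mul_xa, zero_sub]
    rw [← h1, ← h2, hw]
    group
  rcases h (QuaternionGroup.a 1) (QuaternionGroup.xa 0) with h1 | h1
  · have h2 := key 1 h1.symm
    rw [one_mul] at h2
    have h3 : (1 : ZMod (2 * n)) = -1 := QuaternionGroup.xa.inj h2
    have h4 : ((2 : ℕ) : ZMod (2 * n)) = 0 := by
      have : (1 : ZMod (2 * n)) + 1 = 0 := by
        nth_rewrite 2 [h3]
        ring
      push_cast
      rw [← this]; ring
    rw [ZMod.natCast_eq_zero_iff] at h4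
    have := Nat.le_of_dvd (by norm_num) h4
    omega
  · have h2 := key c h1.symm
    rcases c with j | j
    · rw [QuaternionGroup.a_mul_xa] at h2
      have h3 : (1 : ZMod (2 * n)) - j = -1 := QuaternionGroup.xa.inj h2
      have hj : j = 2 := by
        have : j = 1 - (1 - j) := by ring
        rw [this, h3]; ring
      subst hj
      rw [sq, QuaternionGroup.a_mul_a, QuaternionGroup.one_def] at hc
      have h4 : (2 : ZMod (2 * n)) + 2 = 0 := QuaternionGroup.a.inj hc
      have h5 : ((4 : ℕ) : ZMod (2 * n)) = 0 := by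
        push_cast
        rw [← h4]; ring
      rw [ZMod.natCast_eq_zero_iff] at h5
      have := Nat.le_of_dvd (by norm_num) h5
      omega
    · rw [QuaternionGroup.xa_mul_xa] at h2
      exact absurd h2 (by simp)

/-- An element of the centre of `SL₂(F)` is `1` or `-1`; here in the form: it is `1` or equals
the scalar matrix `-1`. -/
theorem KLEIN0.aux_center {F : Type*} [Field F] (A : SpecialLinearGroup (Fin 2) F)
    (hA : A ∈ Subgroup.center (SpecialLinearGroup (Fin 2) F)) : A = 1 ∨ A = -1 := by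
  rw [Matrix.SpecialLinearGroup.mem_center_iff] at hA
  obtain ⟨r, hr, hA⟩ := hA
  rw [Fintype.card_fin] at hr
  have hr' : r = 1 ∨ r = -1 := by
    rw [sq] at hr
    exact mul_self_eq_one_iff.1 hr
  rcases hr' with rfl | rfl
  · left
    apply Subtype.ext
    rw [← hA]; simp
  · right
    apply Subtype.ext
    rw [← hA]
    ext i j
    simp only [Matrix.scalar_apply, Matrix.diagonal_apply, Matrix.SpecialLinearGroup.coe_neg,
      Matrix.SpecialLinearGroup.coe_one, Matrix.neg_apply, Matrix.one_apply]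
    split_ifs <;> simp

theorem KLEIN0.aux_neg_one_sq {F : Type*} [Field F] :
    (-1 : SpecialLinearGroup (Fin 2) F) ^ 2 = 1 := by
  apply Subtype.ext
  simp [sq]

theorem KLEIN0.aux_neg_one_mem_center {F : Type*} [Field F] :
    (-1 : SpecialLinearGroup (Fin 2) F) ∈ Subgroup.center (SpecialLinearGroup (Fin 2) F) := by
  rw [Subgroup.mem_center_iff]
  intro g
  simp

/-- KLEIN0: if a Sylow 2-subgroup of `PSL₂(q)`, `q` odd, is abelian then `q ≡ 3, 5 (mod 8)`. -/
theorem KLEIN0 {F : Type*} [Field F] [Fintype F] (hFo : Odd (Fintype.card F))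
    (P : Sylow 2 (Matrix.ProjectiveSpecialLinearGroup (Fin 2) F))
    (hP : ∀ x ∈ (P : Subgroup (Matrix.ProjectiveSpecialLinearGroup (Fin 2) F)),
      ∀ y ∈ (P : Subgroup (Matrix.ProjectiveSpecialLinearGroup (Fin 2) F)), x * y = y * x) :
    Fintype.card F % 8 = 3 ∨ Fintype.card F % 8 = 5 := by
  classical
  set SL := SpecialLinearGroup (Fin 2) F with hSL
  set Z : Subgroup SL := Subgroup.center SL with hZ
  set π : SL →* ProjectiveSpecialLinearGroup (Fin 2) F := QuotientGroup.mk' Z with hπ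
  have hπs : Function.Surjective π := QuotientGroup.mk'_surjective Z
  have hker : π.ker = Z := QuotientGroup.ker_mk' Z
  -- the centre is a 2-group
  have hZ2 : IsPGroup 2 π.ker := by
    rw [hker]
    rintro ⟨z, hz⟩
    refine ⟨1, ?_⟩
    apply Subtype.ext
    rcases KLEIN0.aux_center z hz with h | h
    · simp [h]
    · simp only [h, pow_one]
      exact KLEIN0.aux_neg_one_sq
  -- preimage of `P`
  set Q' : Subgroup SL := (P : Subgroup _).comap π with hQ'
  have hQ'2 : IsPGroup 2 Q' := P.isPGroup'.comap_of_ker_isPGroup π hZ2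
  obtain ⟨Q, hQ⟩ := hQ'2.exists_le_sylow
  -- `Q.map π = P`
  have hmap : (Q : Subgroup SL).map π = (P : Subgroup _) := by
    apply P.is_maximal' (Q.isPGroup'.map π)
    intro x hx
    obtain ⟨y, rfl⟩ := hπs x
    exact ⟨y, hQ hx, rfl⟩
  -- commutators of `Q` are central
  have hcomm : ∀ u ∈ (Q : Subgroup SL), ∀ v ∈ (Q : Subgroup SL),
      u * v * u⁻¹ * v⁻¹ = 1 ∨ u * v * u⁻¹ * v⁻¹ = -1 := by
    intro u hu v hv
    apply KLEIN0.aux_center
    rw [← hZ, ← hker, MonoidHom.mem_ker]
    have hu' : π u ∈ (P : Subgroup _) := hmap ▸ Subgroup.mem_map_of_mem π hu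
    have hv' : π v ∈ (P : Subgroup _) := hmap ▸ Subgroup.mem_map_of_mem π hv
    have := hP _ hu' _ hv'
    rw [map_mul, map_mul, map_mul, map_inv, map_inv, this]
    group
  -- `-1 ∈ Q`
  have hneg : (-1 : SL) ∈ (Q : Subgroup SL) := by
    apply hQ
    rw [hQ', Subgroup.mem_comap]
    have : (-1 : SL) ∈ π.ker := by
      rw [hker, hZ]
      exact KLEIN0.aux_neg_one_mem_center
    rw [MonoidHom.mem_ker] at this
    rw [this]
    exact Subgroup.one_mem _
  -- quaternion structure
  obtain ⟨k, hk, ⟨e⟩⟩ := Cfsg.Agent.Helper2.SL2Q.sylow_quaternion hFo Q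
  have : NeZero (2 ^ k) := ⟨by positivity⟩
  set c : QuaternionGroup (2 ^ k) := e ⟨-1, hneg⟩ with hc
  have hc2 : c ^ 2 = 1 := by
    rw [hc, ← map_pow]
    have : (⟨-1, hneg⟩ : (Q : Subgroup SL)) ^ 2 = 1 := by
      apply Subtype.ext
      exact KLEIN0.aux_neg_one_sq
    rw [this, map_one]
  have hq : ∀ u v : QuaternionGroup (2 ^ k), u * v * u⁻¹ * v⁻¹ = 1 ∨ u * v * u⁻¹ * v⁻¹ = c := by
    intro u v
    obtain ⟨u', rfl⟩ := e.surjective u
    obtain ⟨v', rfl⟩ := e.surjective v
    rcases hcomm u' u'.2 v' v'.2 with h | h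
    · left
      have : u' * v' * u'⁻¹ * v'⁻¹ = 1 := Subtype.ext (by simpa using h)
      rw [← map_inv, ← map_inv, ← map_mul, ← map_mul, ← map_mul, this, map_one]
    · right
      have : u' * v' * u'⁻¹ * v'⁻¹ = ⟨-1, hneg⟩ := Subtype.ext (by simpa using h)
      rw [← map_inv, ← map_inv, ← map_mul, ← map_mul, ← map_mul, this]
  have hk2 : 2 ^ k ≤ 2 := KLEIN0.aux_quat (2 ^ k) c hc2 hq
  have hk1 : k = 1 := by
    have : k ≤ 1 := by
      by_contra hcon
      have : 2 ^ 2 ≤ 2 ^ k := Nat.pow_le_pow_right (by norm_num) (by omega)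
      omega
    omega
  subst hk1
  -- `|Q| = 8`
  have hQ8 : Nat.card (Q : Subgroup SL) = 8 := by
    rw [Nat.card_congr e.toEquiv, Nat.card_eq_fintype_card, QuaternionGroup.card]
    norm_num
  -- `16 ∤ |SL₂(q)|`
  have hcardSL : Nat.card SL = Fintype.card F * (Fintype.card F ^ 2 - 1) :=
    Cfsg.Agent.Helper2.SL2.card_SL2
  have h16 : ¬ 16 ∣ Nat.card SL := by
    intro hdvd
    have h1 : (2 : ℕ) ^ 4 ∣ Nat.card SL := by
      rw [show (2 : ℕ) ^ 4 = 16 by norm_num]; exact hdvd
    have h2 := Q.pow_dvd_card_of_pow_dvd_card h1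
    rw [hQ8] at h2
    norm_num at h2
  rw [hcardSL] at h16
  -- arithmetic
  set q := Fintype.card F with hqdef
  obtain ⟨j, hj⟩ := hFo
  have hmod : q % 8 = 1 ∨ q % 8 = 3 ∨ q % 8 = 5 ∨ q % 8 = 7 := by omega
  rcases hmod with h | h | h | h
  · exfalso
    apply h16
    obtain ⟨m, hm⟩ : ∃ m, q = 8 * m + 1 := ⟨q / 8, by omega⟩
    have : q ^ 2 - 1 = 16 * (4 * m ^ 2 + m) := by
      rw [hm]
      have : (8 * m + 1) ^ 2 = 16 * (4 * m ^ 2 + m) + 1 := by ring
      rw [this]; omega
    rw [this]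
    exact Dvd.dvd.mul_left (Dvd.intro _ rfl) _
  · left; exact h
  · right; exact h
  · exfalso
    apply h16
    obtain ⟨m, hm⟩ : ∃ m, q = 8 * m + 7 := ⟨q / 8, by omega⟩
    have : q ^ 2 - 1 = 16 * (4 * m ^ 2 + 7 * m + 3) := by
      rw [hm]
      have : (8 * m + 7) ^ 2 = 16 * (4 * m ^ 2 + 7 * m + 3) + 1 := by ring
      rw [this]; omega
    rw [this]
    exact Dvd.dvd.mul_left (Dvd.intro _ rfl) _

end Cfsg.Agent.S3206P
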