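import Mathlib
import Cfsg.Agent.Helper4.S5033Defs
import Cfsg.Agent.Helper5.S5033L0
import Cfsg.Agent.Helper19.S5033NC

/-! S5033 board, piece L0, part 2: `L0.inf_center` (NC2), from `NC.not_commute`. -/

set_option autoImplicit false

open Cfsg Cfsg.Agent.S5033P

namespace Cfsg.Agent.S5033P

variable {G : Type*} [Group G] {S : Set (Subgroup G)}

/-- NC2. -/
theorem L0.inf_center (H : Hyp S) {A : Subgroup G} (hA : A ∈ S) : A ⊓ Subgroup.center G = ⊥ := by
  obtain ⟨B, hB, hAB⟩ := L0.exists_partner H hA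
  rw [eq_bot_iff]
  rintro x ⟨hxA, hxZ⟩
  rw [Subgroup.mem_bot]
  by_contra hx1
  obtain ⟨⟨b, hbm⟩, hb1⟩ := (Subgroup.ne_bot_iff_exists_ne_one).mp (H.hS.ne_bot B hB)
  have hb1' : b ≠ 1 := fun h1 => hb1 (Subtype.ext h1)
  exact NC.not_commute H.hS hA hB hAB hxA hx1 hbm hb1'
    ((Subgroup.mem_center_iff.mp hxZ b).symm)

end Cfsg.Agent.S5033P
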