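import Mathlib
import Cfsg.Prelude.Def_Classical
import Cfsg.Agent.Helper21.S2286DEFS
import Cfsg.Agent.Helper21.S2289DEFS
import Cfsg.Agent.Helper21.S2289UDEFS
import Cfsg.Agent.Helper21.S2289WORDS
import Cfsg.Agent.Helper21.S2289UCL

/-! S2289 piece RELBS (driver helper21): the Baumslag relation (case S) holds in the model. -/

set_option autoImplicit false

namespace Cfsg.Agent.Helper21.S2289

open Cfsg.Agent.Helper21.S2286 Polynomial Multiplicative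

section rel
variable {F : Type*} [Field F] [Fintype F] {q : ℕ} {G : Type*} [Group G] (D : U3Data F q G)

namespace RELBS

/-- the `a`-coordinate of `A_i = cj h u i`, `i : ℕ` -/
theorem inU_A (hF : Fintype.card F = q ^ 2) (ζ : Fˣ) (β₀ : F) (hβ : β₀ + β₀ ^ q = -1) (i : ℕ) :
    InU D (((ζ : F) ^ 2 / (ζ : F) ^ q) ^ i) (cj (D.hG (ζ : F)) (D.uG 1 β₀) (i : ℤ)) := by
  have h := inU_cj D hF ζ (i : ℤ) (inU_uG D (val_base β₀ hβ))
  rw [zpow_natCast, mul_one] at h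
  exact h

end RELBS

/-! ## piece RELBS [S-M]: Baumslag relation, case `μ^k = 1 + μ` (`inU_cj`, `inU_mul`, `inU_zcorr`). -/
theorem rel_bs (p : ℕ) [Fact p.Prime] [CharP F p] (hF : Fintype.card F = q ^ 2) (h2 : q ≠ 2)
    (h3 : q ≠ 3) (ζ : Fˣ) (hζ : ∀ y : Fˣ, y ∈ Subgroup.zpowers ζ) (β₀ : F) (hβ : β₀ + β₀ ^ q = -1)
    (k : ℕ) (hk : ((ζ : F) ^ 2 / (ζ : F) ^ q) ^ k = 1 + (ζ : F) ^ 2 / (ζ : F) ^ q) :
    ∃ (zc2 : ℕ → ℕ) (zn2 : ℕ), cj (D.hG (ζ : F)) (D.uG 1 β₀) (k : ℤ) =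
      D.uG 1 β₀ * cj (D.hG (ζ : F)) (D.uG 1 β₀) 1 *
        prodA (D.hG (ζ : F)) (zW (D.hG (ζ : F)) (D.uG 1 β₀)) zc2 zn2 := by
  have hk' := RELBS.inU_A D hF ζ β₀ hβ k
  have h1 := RELBS.inU_A D hF ζ β₀ hβ 1
  rw [Nat.cast_one, pow_one] at h1
  have h0 : InU D 1 (D.uG 1 β₀) := inU_uG D (val_base β₀ hβ)
  have h01 := inU_mul D hF h0 h1
  rw [hk] at hk'
  exact inU_zcorr D p hF h2 h3 ζ hζ β₀ hβ hk' h01

end rel

end Cfsg.Agent.Helper21.S2289
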