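import Mathlib
import Cfsg.Prelude.Def_Classical
import Cfsg.Agent.Helper21.S2286DEFS
import Cfsg.Agent.Helper21.S2289DEFS
import Cfsg.Agent.Helper21.S2289UDEFS
import Cfsg.Agent.Helper21.S2289WORDS
import Cfsg.Agent.Helper21.S2289UCL
import Cfsg.Agent.Helper5.S2289RELBS

/-! S2289 piece RELBNS (driver helper21): the Baumslag relations (case NS3) hold in the model. -/

set_option autoImplicit false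

namespace Cfsg.Agent.Helper21.S2289

open Cfsg.Agent.Helper21.S2286 Polynomial Multiplicative

section rel
variable {F : Type*} [Field F] [Fintype F] {q : ℕ} {G : Type*} [Group G] (D : U3Data F q G)

/-! ## piece RELBNS [M]: Baumslag relations, case `(1 + μ)³ = μ^j`. The two commutators have `a`-coordinate `0`
(`inU_mul`, `inU_inv`, `inU_zero_word`); the last one: `D₀ D₁` has `a`-coordinate `(1+μ)² + μ(1+μ)² = (1+μ)³`. -/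
theorem rel_bns (p : ℕ) [Fact p.Prime] [CharP F p] (hF : Fintype.card F = q ^ 2) (h2 : q ≠ 2)
    (h3 : q ≠ 3) (ζ : Fˣ) (hζ : ∀ y : Fˣ, y ∈ Subgroup.zpowers ζ) (β₀ : F) (hβ : β₀ + β₀ ^ q = -1)
    (j : ℕ) (hj : (1 + (ζ : F) ^ 2 / (ζ : F) ^ q) ^ 3 = ((ζ : F) ^ 2 / (ζ : F) ^ q) ^ j) :
    ∃ (zc2 : ℕ → ℕ) (zn2 : ℕ) (zc2b : ℕ → ℕ) (zn2b : ℕ) (zc2c : ℕ → ℕ) (zn2c : ℕ),
      (D.uG 1 β₀ * cj (D.hG (ζ : F)) (D.uG 1 β₀) 1) *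
          (cj (D.hG (ζ : F)) (D.uG 1 β₀) 1 * cj (D.hG (ζ : F)) (D.uG 1 β₀) 2) *
          (D.uG 1 β₀ * cj (D.hG (ζ : F)) (D.uG 1 β₀) 1)⁻¹ *
          (cj (D.hG (ζ : F)) (D.uG 1 β₀) 1 * cj (D.hG (ζ : F)) (D.uG 1 β₀) 2)⁻¹ =
        prodA (D.hG (ζ : F)) (zW (D.hG (ζ : F)) (D.uG 1 β₀)) zc2 zn2 ∧
      (D.uG 1 β₀ * cj (D.hG (ζ : F)) (D.uG 1 β₀) 1 *
            (cj (D.hG (ζ : F)) (D.uG 1 β₀) 1 * cj (D.hG (ζ : F)) (D.uG 1 β₀) 2)) *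
          (cj (D.hG (ζ : F)) (D.uG 1 β₀) 1 * cj (D.hG (ζ : F)) (D.uG 1 β₀) 2 *
            (cj (D.hG (ζ : F)) (D.uG 1 β₀) 2 * cj (D.hG (ζ : F)) (D.uG 1 β₀) 3)) *
          (D.uG 1 β₀ * cj (D.hG (ζ : F)) (D.uG 1 β₀) 1 *
            (cj (D.hG (ζ : F)) (D.uG 1 β₀) 1 * cj (D.hG (ζ : F)) (D.uG 1 β₀) 2))⁻¹ *
          (cj (D.hG (ζ : F)) (D.uG 1 β₀) 1 * cj (D.hG (ζ : F)) (D.uG 1 β₀) 2 *
            (cj (D.hG (ζ : F)) (D.uG 1 β₀) 2 * cj (D.hG (ζ : F)) (D.uG 1 β₀) 3))⁻¹ =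
        prodA (D.hG (ζ : F)) (zW (D.hG (ζ : F)) (D.uG 1 β₀)) zc2b zn2b ∧
      cj (D.hG (ζ : F)) (D.uG 1 β₀) (j : ℤ) =
        (D.uG 1 β₀ * cj (D.hG (ζ : F)) (D.uG 1 β₀) 1 *
            (cj (D.hG (ζ : F)) (D.uG 1 β₀) 1 * cj (D.hG (ζ : F)) (D.uG 1 β₀) 2)) *
          (cj (D.hG (ζ : F)) (D.uG 1 β₀) 1 * cj (D.hG (ζ : F)) (D.uG 1 β₀) 2 *
            (cj (D.hG (ζ : F)) (D.uG 1 β₀) 2 * cj (D.hG (ζ : F)) (D.uG 1 β₀) 3)) *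
          prodA (D.hG (ζ : F)) (zW (D.hG (ζ : F)) (D.uG 1 β₀)) zc2c zn2c := by
  set μ := (ζ : F) ^ 2 / (ζ : F) ^ q with hμ
  have hA0 : InU D 1 (D.uG 1 β₀) := inU_uG D (val_base β₀ hβ)
  have hA1 := RELBS.inU_A D hF ζ β₀ hβ 1
  have hA2 := RELBS.inU_A D hF ζ β₀ hβ 2
  have hA3 := RELBS.inU_A D hF ζ β₀ hβ 3
  have hAj := RELBS.inU_A D hF ζ β₀ hβ j
  rw [← hμ] at hA1 hA2 hA3 hAj
  rw [Nat.cast_one] at hA1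
  rw [Nat.cast_ofNat] at hA2 hA3
  -- `D₀ = A₀ A₁`, `D₁ = A₁ A₂`, `D₂ = A₂ A₃`
  have hD0 := inU_mul D hF hA0 hA1
  have hD1 := inU_mul D hF hA1 hA2
  have hD2 := inU_mul D hF hA2 hA3
  -- `E₀ = D₀ D₁`, `E₁ = D₁ D₂`
  have hE0 := inU_mul D hF hD0 hD1
  have hE1 := inU_mul D hF hD1 hD2
  -- the commutators
  have hC1 := inU_mul D hF (inU_mul D hF (inU_mul D hF hD0 hD1) (inU_inv D hF hD0))
    (inU_inv D hF hD1)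
  have hC2 := inU_mul D hF (inU_mul D hF (inU_mul D hF hE0 hE1) (inU_inv D hF hE0))
    (inU_inv D hF hE1)
  have hC1' := hC1.congr (a' := 0) (by ring)
  have hC2' := hC2.congr (a' := 0) (by ring)
  obtain ⟨zc2, zn2, e1⟩ := inU_zero_word D p hF h2 h3 ζ hζ β₀ hβ hC1'
  obtain ⟨zc2b, zn2b, e2⟩ := inU_zero_word D p hF h2 h3 ζ hζ β₀ hβ hC2'
  have hEE := inU_mul D hF hE0 hE1
  have hAj' := hAj.congr (a' := 1 + μ ^ 1 + (μ ^ 1 + μ ^ 2) + (μ ^ 1 + μ ^ 2 + (μ ^ 2 + μ ^ 3))) (by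
    rw [← hj]; ring)
  obtain ⟨zc2c, zn2c, e3⟩ := inU_zcorr D p hF h2 h3 ζ hζ β₀ hβ hAj' hEE
  exact ⟨zc2, zn2, zc2b, zn2b, zc2c, zn2c, e1, e2, e3⟩

end rel

end Cfsg.Agent.Helper21.S2289
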