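import Mathlib
import Cfsg.Prelude.Def_Classical
import Cfsg.Agent.Helper21.S2286DEFS
import Cfsg.Agent.Helper21.S2289DEFS
import Cfsg.Agent.Helper21.S2289UDEFS
import Cfsg.Agent.Helper21.S2289WORDS
import Cfsg.Agent.Helper5.S2289FCOSET
import Cfsg.Agent.Helper5.S2289MODELEV
import Cfsg.Agent.Helper5.S2289UWORD

/-! S2289 piece RELR1 (driver helper21): the rank-one relation `n X n⁻¹ = F h^m n G` for any `u(a,b)`, `b ≠ 0`. -/

set_option autoImplicit false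

namespace Cfsg.Agent.Helper21.S2289

open Cfsg.Agent.Helper21.S2286 Polynomial Multiplicative

section rel
variable {F : Type*} [Field F] [Fintype F] {q : ℕ} {G : Type*} [Group G] (D : U3Data F q G)

namespace RELR1

theorem val_base' (β₀ : F) (hβ : β₀ + β₀ ^ q = -1) : Val q 1 β₀ := by
  unfold Val
  rw [one_pow, hβ]
  ring

theorem neg_norm (hF : Fintype.card F = q ^ 2) (x : F) : (-x) ^ (q + 1) = x ^ (q + 1) := by
  rw [pow_succ, MODELEV.neg_pow_q hF, pow_succ]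
  ring

/-- the pair `(-a/b^q, 1/b)` is valid -/
theorem val_left (hF : Fintype.card F = q ^ 2) {a b : F} (hv : Val q a b) (hb : b ≠ 0) :
    Val q (-a / b ^ q) (1 / b) := by
  unfold Val at *
  have hbq : b ^ q ≠ 0 := pow_ne_zero _ hb
  have h1 : (b ^ q) ^ (q + 1) = b ^ (q + 1) := by
    rw [← pow_mul, mul_comm, pow_mul]
    exact MODELEV.norm_pow_q hF b
  have e1 : (-a / b ^ q) ^ (q + 1) = a ^ (q + 1) / b ^ (q + 1) := by
    rw [div_pow, neg_norm hF, h1]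
  have e2 : (1 / b) ^ q = 1 / b ^ q := by rw [div_pow, one_pow]
  rw [e1, e2, pow_succ b]
  rw [pow_succ] at hv
  field_simp
  linear_combination hv

/-- the pair `(-a/b, 1/b)` is valid -/
theorem val_right (hF : Fintype.card F = q ^ 2) {a b : F} (hv : Val q a b) (hb : b ≠ 0) :
    Val q (-a / b) (1 / b) := by
  unfold Val at *
  have hbq : b ^ q ≠ 0 := pow_ne_zero _ hb
  have e1 : (-a / b) ^ (q + 1) = a ^ (q + 1) / b ^ (q + 1) := by
    rw [div_pow, neg_norm hF]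
  have e2 : (1 / b) ^ q = 1 / b ^ q := by rw [div_pow, one_pow]
  rw [e1, e2, pow_succ b]
  rw [pow_succ] at hv
  field_simp
  linear_combination hv

end RELR1

/-! ## piece RELR1 [M]: the rank-one relation for any `u(a,b)`, `b ≠ 0`: `D.n_u`; the three `U`-words by `uword`
(`a₀ = 1`, `b₀ = β₀`); `1/b^q = ζ^m` (`hζ`, finite order ⇒ `m : ℕ`) and `hG_zpow`; the pairs `(-a/b^q, 1/b)` and
`(-a/b, 1/b)` are valid (`(-1)^(q+1) = 1` in `F`: `q` odd or characteristic 2). -/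
theorem rel_rank1 (p : ℕ) [Fact p.Prime] [CharP F p] (hF : Fintype.card F = q ^ 2) (h2 : q ≠ 2)
    (h3 : q ≠ 3) (ζ : Fˣ) (hζ : ∀ y : Fˣ, y ∈ Subgroup.zpowers ζ) (β₀ : F) (hβ : β₀ + β₀ ^ q = -1)
    {a b : F} (hv : Val q a b) (hb : b ≠ 0) :
    ∃ w : WP, w.X.w (D.hG (ζ : F)) (D.uG 1 β₀) = D.uG a b ∧
      (w.eq (D.uG 1 β₀) (D.hG (ζ : F)) D.nG).1 = (w.eq (D.uG 1 β₀) (D.hG (ζ : F)) D.nG).2 := by
  have h₀ : Val q 1 β₀ := RELR1.val_base' β₀ hβ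
  have h1 : (1 : F) ≠ 0 := one_ne_zero
  obtain ⟨c, n, c', n', hX⟩ := uword D p hF h2 h3 ζ hζ h₀ h1 hv
  obtain ⟨cF, nF, cF', nF', hFw⟩ := uword D p hF h2 h3 ζ hζ h₀ h1 (RELR1.val_left hF hv hb)
  obtain ⟨cG, nG, cG', nG', hGw⟩ := uword D p hF h2 h3 ζ hζ h₀ h1 (RELR1.val_right hF hv hb)
  have hbq : (1 : F) / b ^ q ≠ 0 := div_ne_zero one_ne_zero (pow_ne_zero _ hb)
  obtain ⟨m, hm⟩ := FCOSET.exists_pow ζ hζ (1 / b ^ q) hbq
  have hhm : D.hG (ζ : F) ^ m = D.hG (1 / b ^ q) := by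
    have := hG_zpow D ζ (m : ℤ)
    rw [zpow_natCast, zpow_natCast, Units.val_pow_eq_pow_val] at this
    rw [this, hm]
  refine ⟨⟨⟨c, n, c', n'⟩, ⟨cF, nF, cF', nF'⟩, m, ⟨cG, nG, cG', nG'⟩⟩, hX, ?_⟩
  show D.nG * UW (D.hG (ζ : F)) (D.uG 1 β₀) c n c' n' * D.nG⁻¹ =
    UW (D.hG (ζ : F)) (D.uG 1 β₀) cF nF cF' nF' * D.hG (ζ : F) ^ m * D.nG *
      UW (D.hG (ζ : F)) (D.uG 1 β₀) cG nG cG' nG'
  unfold UW
  rw [hX, hFw, hGw, hhm]
  exact D.n_u a b hv hb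

end rel

end Cfsg.Agent.Helper21.S2289
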