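import Mathlib
import Cfsg.Prelude.Def_JComponents
import Cfsg.Agent.Helper5.S2951Defs
import Cfsg.Agent.Helper26.S2951UNIQ
import Cfsg.Agent.Helper25.S2951ZFACTS
import Cfsg.Agent.Helper10.S2951PSTRUCT

/-! # S2951 board, piece LEMD (Lemma D, blueprint §5) -/

set_option autoImplicit false

universe u

namespace Cfsg.Agent.S2951P

open Cfsg Subgroup Cfsg.Agent.Helper15.JComp
open scoped commutatorElement

variable {G : Type u} [Group G] [Finite G] {M T K K' L L' : Subgroup G}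

/-- one side of Lemma D -/
theorem LEMD_aux_side {K₁ K₂ L₁ L₂ : Subgroup G} (d : PairData M T K₁ K₂ L₁ L₂) :
    IsSylowTwoIn T L₁ ∧
      (centralizer (pCoreOf 2 (K₁ ⊔ T) : Set G) ≤ pCoreOf 2 (K₁ ⊔ T) ∧ IsSylowTwoIn T (K₁ ⊔ T) ∧
      (pCoreOf 2 (K₁ ⊔ T)).relIndex (K₁ ⊔ T) = 6 ∧ ¬ ⁅K₁ ⊔ T, K₁ ⊔ T⁆ ≤ pCoreOf 2 (K₁ ⊔ T) ∧
      ⁅omegaCenterOf T, K₁ ⊔ T⁆ ≠ ⊥ ∧
      ∃ L : Subgroup G, IsMaximalTwoLocal L ∧ K₁ ⊔ T ≤ L ∧ IsSylowTwoIn T L ∧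
        ∀ L' : Subgroup G, IsMaximalTwoLocal L' → K₁ ⊔ T ≤ L' → L' = L) := by
  have c := d.c
  have hK₁L : K₁ ≤ L₁ := le_sup_left.trans d.lk₁.2
  have hJT : thompsonSubgroupOf 2 T ≤ T := Cfsg.Agent.S2941.thompsonSubgroupOf_le 2 T
  have hLM : ¬ L₁ ≤ M := fun h => d.out₁ (hK₁L.trans h)
  obtain ⟨hov, -⟩ := c.main d.lk₁.1.1 hLM d.le₁
  have hSyl : IsSylowTwoIn T L₁ := hov.1
  have hPL : K₁ ⊔ T ≤ L₁ := sup_le hK₁L d.le₁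
  obtain ⟨hP1, hP2, hP3, -, -⟩ := PSTRUCT d.comp₁ hSyl hK₁L d.norm₁
  refine ⟨hSyl, ?_, hP1, hP2, hP3, ?_, L₁, d.lk₁.1, hPL, hSyl, ?_⟩
  · -- C(O₂(P)) ≤ O₂(P)
    have h1 : pCoreOf 2 L₁ ≤ T := pCoreOf_le_of_isSylowTwoIn hSyl
    have h2 : pCoreOf 2 L₁ ≤ pCoreOf 2 (K₁ ⊔ T) := by
      apply Cfsg.Agent.Helper14.le_pCoreOf 2 (h1.trans le_sup_right)
      · exact hPL.trans (Cfsg.Agent.Helper14.le_normalizer_pCoreOf 2 L₁)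
      · exact Cfsg.Agent.Helper14.pCoreOf_isPGroup 2 L₁
    exact (centralizer_le h2).trans (hov.2.2.trans h2)
  · -- [ΩZ(T), P] ≠ 1
    obtain ⟨S, hTS, hMJ⟩ := d.sylow
    obtain ⟨-, hZle, -, hZK⟩ := ZFACTS c S hMJ hTS
    intro hbot
    apply hZK K₁ d.comp₁ d.out₁
    intro z hz
    rw [mem_centralizer_iff]
    intro k hk
    have h3 : ⁅z, k⁆ ∈ ⁅omegaCenterOf T, K₁ ⊔ T⁆ :=
      commutator_mem_commutator (hZle hz) ((le_sup_left : K₁ ≤ K₁ ⊔ T) hk)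
    rw [hbot, mem_bot, commutatorElement_eq_one_iff_mul_comm] at h3
    exact h3.symm
  · intro L' hL' hPL'
    have : IsLK T K₁ L' := ⟨hL', sup_le (le_sup_left.trans hPL') (hJT.trans (le_sup_right.trans hPL'))⟩
    exact UNIQ_eq c d.comp₁ d.out₁ this d.lk₁

theorem LEMD {K₁ K₂ L₁ L₂ : Subgroup G} (d : PairData M T K₁ K₂ L₁ L₂) :
    Concl53 T K₁ K₂ ∧ (K₁ ⊔ T) ⊓ (K₂ ⊔ T) = T ∧ IsSylowTwoIn T L₁ ∧ IsSylowTwoIn T L₂ := by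
  have c := d.c
  obtain ⟨hS1, hside1⟩ := LEMD_aux_side d
  obtain ⟨hS2, hside2⟩ := LEMD_aux_side d.symm
  have hJT : thompsonSubgroupOf 2 T ≤ T := Cfsg.Agent.S2941.thompsonSubgroupOf_le 2 T
  have hK₁L : K₁ ≤ L₁ := le_sup_left.trans d.lk₁.2
  have hK₂L : K₂ ≤ L₂ := le_sup_left.trans d.lk₂.2
  refine ⟨⟨?_, d.comp₁, d.comp₂, ?_, ?_⟩, ?_, hS1, hS2⟩
  · -- K₁ ≠ K₂
    intro h
    apply d.ne
    have h2 : IsLK T K₁ L₂ := by rw [h]; exact d.lk₂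
    exact UNIQ_eq c d.comp₁ d.out₁ d.lk₁ h2
  · -- O₂(⟨P₁,P₂⟩) = 1
    by_contra hne
    have h2 : IsTwoLocal (normalizer ((pCoreOf 2 ((K₁ ⊔ T) ⊔ (K₂ ⊔ T)) : Subgroup G) : Set G)) :=
      ⟨_, Cfsg.Agent.Helper14.pCoreOf_isPGroup 2 _, hne, rfl⟩
    obtain ⟨L', hL', hle⟩ := exists_isMaximalTwoLocal_ge h2
    have hPP : (K₁ ⊔ T) ⊔ (K₂ ⊔ T) ≤ L' :=
      (Cfsg.Agent.Helper14.le_normalizer_pCoreOf 2 _).trans hle
    have hTL' : T ≤ L' := (le_sup_right.trans le_sup_left).trans hPP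
    have h3 : IsLK T K₁ L' := ⟨hL', sup_le ((le_sup_left.trans le_sup_left).trans hPP) (hJT.trans hTL')⟩
    have h4 : IsLK T K₂ L' := ⟨hL', sup_le ((le_sup_left.trans le_sup_right).trans hPP) (hJT.trans hTL')⟩
    apply d.ne
    rw [UNIQ_eq c d.comp₁ d.out₁ d.lk₁ h3, UNIQ_eq c d.comp₂ d.out₂ d.lk₂ h4]
  · intro P hP
    simp only [List.mem_cons, List.not_mem_nil, or_false] at hP
    rcases hP with rfl | rfl
    · exact hside1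
    · exact hside2
  · -- P₁ ∩ P₂ = T
    obtain ⟨-, -, -, hbetween, -⟩ := PSTRUCT d.comp₁ hS1 hK₁L d.norm₁
    rcases hbetween ((K₁ ⊔ T) ⊓ (K₂ ⊔ T)) (le_inf le_sup_right le_sup_right) inf_le_left with h | h
    · exact h
    · exfalso
      apply d.ne
      have h5 : K₁ ⊔ T ≤ K₂ ⊔ T := by rw [← h]; exact inf_le_right
      have h6 : K₁ ⊔ T ≤ L₂ := h5.trans (sup_le hK₂L d.le₂)
      have h7 : IsLK T K₁ L₂ := ⟨d.lk₂.1, sup_le (le_sup_left.trans h6) (hJT.trans (le_sup_right.trans h6))⟩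
      exact UNIQ_eq c d.comp₁ d.out₁ d.lk₁ h7

end Cfsg.Agent.S2951P
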