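import Mathlib
import Cfsg.Agent.Helper7.S5655.Defs
import Cfsg.Agent.Helper7.S5655.MonoLib
import Cfsg.Agent.Helper7.S5655.Defs2
import Cfsg.Agent.Helper17.S5655CT
import Cfsg.Agent.Helper23.S5655N4
import Cfsg.Agent.Helper14.S5655TTSOLVE
import Cfsg.Agent.Helper21.S5655MONOFORM
import Cfsg.Agent.Helper16.S5655SELECT
import Cfsg.Agent.Helper9.S5655MONORANK

/-! # S5655 `k = 1`, piece TTCOL -/

set_option autoImplicit false

namespace Cfsg.Agent.S5655K1

open Matrix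
open Cfsg.Agent.S2644 Cfsg.Agent.Helper2.SUGen Cfsg.Agent.Helper28.SimMax Cfsg.Agent.MonoP

variable {K : Type*} [Field K] {q n : ℕ}

local notation "h" => Cfsg.hermForm n K q
local notation "T" => Cfsg.unitaryTransvection n q

namespace TTCOL

/-- eight distinct indices with prescribed `r 2`, `r' 2` -/
theorem exists_rr (hn : 8 ≤ n) (r₃ r₃' : Fin n) (hr : r₃ ≠ r₃') :
    ∃ r r' : Fin 4 → Fin n, Function.Injective r ∧ Function.Injective r' ∧ (∀ i j, r i ≠ r' j) ∧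
      r 2 = r₃ ∧ r' 2 = r₃' := by
  have hginj : Function.Injective (Fin.castLE hn) := Fin.castLE_injective hn
  have hx : Equiv.swap (Fin.castLE hn ⟨2, by omega⟩) r₃ (Fin.castLE hn ⟨6, by omega⟩) ≠ r₃ := by
    intro hh
    have h1 : Equiv.swap (Fin.castLE hn ⟨2, by omega⟩) r₃ (Fin.castLE hn ⟨6, by omega⟩) =
        Equiv.swap (Fin.castLE hn ⟨2, by omega⟩) r₃ (Fin.castLE hn ⟨2, by omega⟩) := by
      rw [hh, Equiv.swap_apply_left]
    have h2 := hginj ((Equiv.swap (Fin.castLE hn ⟨2, by omega⟩) r₃).injective h1)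
    rw [Fin.mk.injEq] at h2
    omega
  have hfinj : Function.Injective (fun i : Fin 8 =>
      Equiv.swap (Equiv.swap (Fin.castLE hn ⟨2, by omega⟩) r₃ (Fin.castLE hn ⟨6, by omega⟩)) r₃'
        (Equiv.swap (Fin.castLE hn ⟨2, by omega⟩) r₃ (Fin.castLE hn i))) :=
    fun a b hab => hginj ((Equiv.swap _ _).injective ((Equiv.swap _ _).injective hab))
  refine ⟨fun i => Equiv.swap (Equiv.swap (Fin.castLE hn ⟨2, by omega⟩) r₃ (Fin.castLE hn ⟨6, by omega⟩)) r₃'
        (Equiv.swap (Fin.castLE hn ⟨2, by omega⟩) r₃ (Fin.castLE hn ⟨i.val, by omega⟩)),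
    fun i => Equiv.swap (Equiv.swap (Fin.castLE hn ⟨2, by omega⟩) r₃ (Fin.castLE hn ⟨6, by omega⟩)) r₃'
        (Equiv.swap (Fin.castLE hn ⟨2, by omega⟩) r₃ (Fin.castLE hn ⟨i.val + 4, by omega⟩)), ?_, ?_, ?_, ?_, ?_⟩
  · intro i j hij
    have := hfinj hij
    rw [Fin.mk.injEq] at this
    exact Fin.ext this
  · intro i j hij
    have := hfinj hij
    rw [Fin.mk.injEq] at this
    exact Fin.ext (by omega)
  · intro i j hij
    have := hfinj hij
    rw [Fin.mk.injEq] at this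
    omega
  · show Equiv.swap _ r₃' (Equiv.swap (Fin.castLE hn ⟨2, by omega⟩) r₃ (Fin.castLE hn ⟨2, by omega⟩)) = r₃
    rw [Equiv.swap_apply_left, Equiv.swap_apply_of_ne_of_ne (Ne.symm hx) hr]
  · show Equiv.swap _ r₃' (Equiv.swap (Fin.castLE hn ⟨2, by omega⟩) r₃ (Fin.castLE hn ⟨6, by omega⟩)) = r₃'
    rw [Equiv.swap_apply_left]

end TTCOL

open scoped Classical in
theorem TTCOL.card (D : Frob K q) [Fintype K] (hK : Fintype.card K = q ^ 2) (hn : 13 ≤ n)
    (M : Subgroup (Matrix.GeneralLinearGroup (Fin n) K)) (hM : M ≤ SUG n K q) (hN : HasN q M)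
    (hnz : ∀ A ∈ MS M, ¬ IsMono A → ∀ i j : Fin n, A i j ≠ 0)
    (A : Matrix (Fin n) (Fin n) K) (hA : A ∈ MS M) (hnm : ¬ IsMono A) (r₃ r₃' : Fin n) (hr : r₃ ≠ r₃')
    (t₃ : K) (ht₃ : IsU D t₃) :
    n ≤ (Finset.univ.filter (fun k : Fin n => A r₃' k = t₃ * A r₃ k)).card + 8 := by
  obtain ⟨r, r', hrinj, hr'inj, hrr', hr2, hr'2⟩ := TTCOL.exists_rr (by omega : 8 ≤ n) r₃ r₃' hr
  have hcol : ∀ (k i : Fin n), (A *ᵥ Pi.single k 1) i = A i k := by
    intro k i; simp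
  have hu0 : ∀ i, (A *ᵥ Pi.single r₃ 1) i ≠ 0 := fun i => by
    rw [hcol]; exact hnz A hA hnm i r₃
  obtain ⟨t, ht, ht2, hzero⟩ := TTSOLVE.exists D hK r r' hrinj hr'inj hrr' (A *ᵥ Pi.single r₃ 1)
    (fun i => hu0 _) (fun i => hu0 _) t₃ ht₃
  obtain ⟨hn4M, hn4sq, hn4c, hn4fix, a, b, hn4rank⟩ := N4.facts D hN r r' hrinj hr'inj hrr' t ht
  have hPA : Pres (q := q) A := Cfsg.Agent.S5658P.pres_of_MS hM hA
  obtain ⟨hctA1, hctA2⟩ := CT.mul_self D hPA
  have hxM : ct D A * n4 r r' t * A ∈ MS M := CT.conj_mem D hM hA hn4M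
  have hx00 : (ct D A * n4 r r' t * A) r₃ r₃ = 0 := by
    rw [Matrix.mul_assoc, CT.mul_apply, ← Matrix.mulVec_mulVec]
    exact hzero
  have hxmono : IsMono (ct D A * n4 r r' t * A) := by
    by_contra hc
    exact hnz _ hxM hc r₃ r₃ hx00
  have hxx : (ct D A * n4 r r' t * A) * (ct D A * n4 r r' t * A) = 1 := by
    calc (ct D A * n4 r r' t * A) * (ct D A * n4 r r' t * A)
        = ct D A * n4 r r' t * (A * ct D A) * n4 r r' t * A := by simp only [Matrix.mul_assoc]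
      _ = ct D A * (n4 r r' t * n4 r r' t) * A := by
          rw [hctA2, Matrix.mul_one, Matrix.mul_assoc (ct D A)]
      _ = 1 := by rw [hn4sq, Matrix.mul_one, hctA1]
  obtain ⟨s, d, hxsd, hd⟩ := MONOFORM.exists _ _ hxx hxmono
  have hAx : A * mono s d = n4 r r' t * A := by
    rw [← hxsd, ← Matrix.mul_assoc, ← Matrix.mul_assoc, hctA2, Matrix.one_mul]
  have hss : ∀ k, s (s k) = k := by
    intro k
    by_contra hk
    have h1 : (mono s d * mono s d) (s (s k)) k = 0 := by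
      rw [← hxsd, hxx, Matrix.one_apply_ne hk]
    rw [mono_mul, mono_apply, if_pos (Equiv.Perm.mul_apply s s k).symm] at h1
    exact mul_ne_zero (hd _) (hd _) h1
  have hJcard : (Finset.univ.filter (fun k : Fin n => s k ≠ k ∨ d k ≠ 1)).card ≤ 8 := by
    by_contra hc
    push Not at hc
    obtain ⟨ks, hksJ, hks⟩ := SELECT.invol s hss
      (Finset.univ.filter (fun k : Fin n => s k ≠ k ∨ d k ≠ 1)) 5 (by omega)
    refine MONORANK.main A (ct D A) (n4 r r' t) hctA1 s d hd hAx 1 4 a b ?_ ks ?_ hks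
    · rw [one_smul]; exact hn4rank
    · intro i
      have := hksJ i
      rw [Finset.mem_filter] at this
      exact this.2
  have hsub : (Finset.univ.filter (fun k : Fin n => s k ≠ k ∨ d k ≠ 1))ᶜ ⊆
      Finset.univ.filter (fun k : Fin n => A r₃' k = t₃ * A r₃ k) := by
    intro k hk
    rw [Finset.mem_compl, Finset.mem_filter] at hk
    have hk' : s k = k ∧ d k = 1 := by
      constructor
      · by_contra hc
        exact hk ⟨Finset.mem_univ _, Or.inl hc⟩
      · by_contra hc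
        exact hk ⟨Finset.mem_univ _, Or.inr hc⟩
    rw [Finset.mem_filter]
    refine ⟨Finset.mem_univ _, ?_⟩
    have h1 : n4 r r' t *ᵥ (A *ᵥ Pi.single k 1) = A *ᵥ Pi.single k 1 := by
      rw [Matrix.mulVec_mulVec, ← hAx, ← Matrix.mulVec_mulVec, mono_mulVec_single, hk'.1, hk'.2,
        one_smul]
    have h2 := (hn4c (A *ᵥ Pi.single k 1) 2).2
    rw [h1, hr2, hr'2, ht2, hcol, hcol] at h2
    exact h2
  have h3 := Finset.card_le_card hsub
  rw [Finset.card_compl, Fintype.card_fin] at h3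
  omega

end Cfsg.Agent.S5655K1
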