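import Mathlib
import Cfsg.Agent.Helper28.S5658.Defs
import Cfsg.Agent.Helper28.S5658.Lib
import Cfsg.Agent.Helper24.S5658SUMISO

/-! S5658 piece RATSPAN (driver helper28): `b^⊥` is spanned by rational isotropic vectors orthogonal to `b`
(`b` a non-zero rational isotropic vector), and the two rationality criteria for `w` modulo `K b`. -/

set_option autoImplicit false

namespace Cfsg.Agent.S5658P

open Matrix
open Cfsg.Agent.S2644 Cfsg.Agent.Helper2.SUGen Cfsg.Agent.Helper28.SimMax Cfsg.Agent.S5639P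

variable {K : Type*} [Field K] {q n : ℕ}

local notation "h" => Cfsg.hermForm n K q
local notation "T" => Cfsg.unitaryTransvection n q

namespace RATSPAN

/-- the projection of the `i`-th basis vector to `b^⊥` along the partner `f` -/
def bvec (q : ℕ) (b f : Fin n → K) (i : Fin n) : Fin n → K :=
  Pi.single i 1 - Cfsg.hermForm n K q (Pi.single i 1) b • f

theorem rat_single (F₀ : Subfield K) (i : Fin n) : Rat F₀ (Pi.single i (1 : K) : Fin n → K) := by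
  intro j
  rw [Pi.single_apply]
  split_ifs
  · exact F₀.one_mem
  · exact F₀.zero_mem

theorem rat_bvec (D : Frob K q) (F₀ : Subfield K) {b f : Fin n → K} (hb : Rat F₀ b) (hf : Rat F₀ f)
    (i : Fin n) : Rat F₀ (bvec q b f i) := by
  unfold bvec
  have hc : Cfsg.hermForm n K q (Pi.single i 1) b ∈ F₀ := by
    rw [h_single_left D]
    exact sigma_mem D F₀ (hb i)
  exact (rat_single F₀ i).sub (Cfsg.Agent.S5639P.Rat.smul hc hf)

theorem bvec_perp {b f : Fin n → K} (hfb : h f b = 1) (i : Fin n) : h (bvec q b f i) b = 0 := by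
  unfold bvec
  rw [h_sub_left, h_smul_left, hfb, mul_one, sub_self]

theorem h_bvec (D : Frob K q) (b f w : Fin n → K) (i : Fin n) :
    h w (bvec q b f i) = w i - b i * h w f := by
  unfold bvec
  rw [h_sub_right D, h_smul_right D, h_single_right D, h_conj D, h_single_right D]

theorem sum_bvec (b f w : Fin n → K) :
    ∑ i, w i • bvec q b f i = w - h w b • f := by
  unfold bvec
  simp only [smul_sub, Finset.sum_sub_distrib, smul_smul, ← Finset.sum_smul]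
  congr 1
  · funext k
    simp [Finset.sum_apply, Pi.single_apply]
  · congr 1
    have hw : w = ∑ i, w i • (Pi.single i 1 : Fin n → K) := by
      funext k
      simp [Finset.sum_apply, Pi.single_apply]
    conv_rhs => rw [hw]
    rw [h_sum_left]
    simp only [h_smul_left]

/-- a rational hyperbolic partner (local copy of the statement of HYPB, to stay independent of it) -/
theorem exists_partner_aux (D : Frob K q) (F₀ : Subfield K) (hθ : ∃ θ ∈ F₀, D.σ θ ≠ θ)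
    {b : Fin n → K} (hb : Rat F₀ b) (hb0 : b ≠ 0) (hbb : h b b = 0) :
    ∃ f : Fin n → K, Rat F₀ f ∧ h f b = 1 := by
  obtain ⟨b₀, rfl⟩ := exists_up hb
  have hb0' : b₀ ≠ 0 := by
    rintro rfl
    exact hb0 up_zero
  have hbb' : Cfsg.hermForm n F₀ q b₀ b₀ = 0 := by
    apply Subtype.val_injective
    rw [← herm_up, hbb]
    rfl
  obtain ⟨v, -, -, -, hvb⟩ := exists_partner (frob0 D F₀ hθ) (nonDeg_top (frob0 D F₀ hθ))
    (Submodule.mem_top : b₀ ∈ (⊤ : Submodule F₀ (Fin n → F₀))) hb0' hbb'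
  refine ⟨up F₀ v, rat_up v, ?_⟩
  rw [herm_up, hvb]
  rfl

/-- the common part: the values `h w (bvec i)` are sums of two values at rational isotropic vectors of `b^⊥` -/
theorem h_bvec_eq [Finite K] (hn : 13 ≤ n) (D : Frob K q) (F₀ : Subfield K)
    (hθ : ∃ θ ∈ F₀, D.σ θ ≠ θ) {b f : Fin n → K} (hb : Rat F₀ b) (hf : Rat F₀ f)
    (hfb : h f b = 1) (w : Fin n → K) (i : Fin n) :
    ∃ x₁ x₂ : Fin n → K, Rat F₀ x₁ ∧ Rat F₀ x₂ ∧ h x₁ x₁ = 0 ∧ h x₂ x₂ = 0 ∧ h x₁ b = 0 ∧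
      h x₂ b = 0 ∧ bvec q b f i = x₁ + x₂ ∧ w i - b i * h w f = h w x₁ + h w x₂ := by
  obtain ⟨x₁, x₂, r1, r2, hsum, i1, i2, p1, p2⟩ :=
    SUMISO.exists_sum hn D F₀ hθ hb (rat_bvec D F₀ hb hf i) (bvec_perp hfb i)
  refine ⟨x₁, x₂, r1, r2, i1, i2, p1, p2, hsum, ?_⟩
  rw [← h_bvec D, hsum, h_add_right D]

end RATSPAN

theorem RATSPAN.exists_rat_add [Finite K] (hn : 13 ≤ n) (D : Frob K q) (F₀ : Subfield K)
    (hθ : ∃ θ ∈ F₀, D.σ θ ≠ θ) {b w : Fin n → K} (hb : Rat F₀ b) (hb0 : b ≠ 0) (hbb : h b b = 0)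
    (hall : ∀ x : Fin n → K, Rat F₀ x → h x x = 0 → h x b = 0 → h w x ∈ F₀) :
    ∃ (w₀ : Fin n → K) (s : K), Rat F₀ w₀ ∧ w = w₀ + s • b := by
  obtain ⟨f, hf, hfb⟩ := RATSPAN.exists_partner_aux D F₀ hθ hb hb0 hbb
  refine ⟨w - h w f • b, h w f, ?_, by abel⟩
  intro i
  obtain ⟨x₁, x₂, r1, r2, i1, i2, p1, p2, -, hval⟩ := RATSPAN.h_bvec_eq hn D F₀ hθ hb hf hfb w i
  have : (w - h w f • b) i = w i - b i * h w f := by
    simp only [Pi.sub_apply, Pi.smul_apply, smul_eq_mul]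
    ring
  rw [this, hval]
  exact F₀.add_mem (hall x₁ r1 i1 p1) (hall x₂ r2 i2 p2)

theorem RATSPAN.eq_smul [Finite K] (hn : 13 ≤ n) (D : Frob K q) (F₀ : Subfield K)
    (hθ : ∃ θ ∈ F₀, D.σ θ ≠ θ) {b w : Fin n → K} (hb : Rat F₀ b) (hb0 : b ≠ 0) (hbb : h b b = 0)
    (hall : ∀ x : Fin n → K, Rat F₀ x → h x x = 0 → h x b = 0 → h w x = 0) :
    ∃ s : K, w = s • b := by
  obtain ⟨f, hf, hfb⟩ := RATSPAN.exists_partner_aux D F₀ hθ hb hb0 hbb
  refine ⟨h w f, ?_⟩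
  funext i
  obtain ⟨x₁, x₂, r1, r2, i1, i2, p1, p2, -, hval⟩ := RATSPAN.h_bvec_eq hn D F₀ hθ hb hf hfb w i
  rw [hall x₁ r1 i1 p1, hall x₂ r2 i2 p2, add_zero, sub_eq_zero] at hval
  simp only [Pi.smul_apply, smul_eq_mul]
  rw [hval]
  ring

theorem RATSPAN.mem_closure [Finite K] (hn : 13 ≤ n) (D : Frob K q) (F₀ : Subfield K)
    (hθ : ∃ θ ∈ F₀, D.σ θ ≠ θ) {b w : Fin n → K} (hb : Rat F₀ b) (hb0 : b ≠ 0) (hbb : h b b = 0)
    (hwb : h w b = 0) :
    w ∈ AddSubmonoid.closure {y : Fin n → K | ∃ (a : K) (x : Fin n → K),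
      Rat F₀ x ∧ h x x = 0 ∧ h x b = 0 ∧ y = a • x} := by
  obtain ⟨f, hf, hfb⟩ := RATSPAN.exists_partner_aux D F₀ hθ hb hb0 hbb
  have hw : w = ∑ i, w i • RATSPAN.bvec q b f i := by
    rw [RATSPAN.sum_bvec, hwb, zero_smul, sub_zero]
  rw [hw]
  refine AddSubmonoid.sum_mem _ ?_
  intro i _
  obtain ⟨x₁, x₂, r1, r2, i1, i2, p1, p2, hsum, -⟩ := RATSPAN.h_bvec_eq hn D F₀ hθ hb hf hfb w i
  rw [hsum, smul_add]
  exact AddSubmonoid.add_mem _ (AddSubmonoid.subset_closure ⟨w i, x₁, r1, i1, p1, rfl⟩)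
    (AddSubmonoid.subset_closure ⟨w i, x₂, r2, i2, p2, rfl⟩)

end Cfsg.Agent.S5658P
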