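import Mathlib
import Cfsg.Prelude.Def_Classical
import Cfsg.Agent.Helper28.S3589Defs
import Cfsg.Agent.Helper28.Spin6
import Cfsg.Agent.Helper1.S5973STD
import Cfsg.Agent.Helper22.S3589TRANSP

/-! S3589 piece U6P (driver helper28): an isometry of order 8 of the hyperbolic space `QfPlus 3 F`,
`F` finite of characteristic 2. -/

set_option autoImplicit false

namespace Cfsg.Agent.S3589P

open Module Polynomial
open Cfsg.Agent.S5973P
open scoped Classical

noncomputable section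

namespace U6P

/-- the matrix of `(x, y) ↦ (A y, A⁻ᵀ x)` over any ring (it is an isometry in characteristic 2) -/
def M6 (R : Type*) [Zero R] [One R] : Matrix (Fin 3 ⊕ Fin 3) (Fin 3 ⊕ Fin 3) R :=
  Matrix.fromBlocks 0 !![1, 1, 0; 0, 1, 1; 0, 0, 1] !![1, 0, 0; 1, 1, 0; 1, 1, 1] 0

/-- its square -/
def M6sq (R : Type*) [Zero R] [One R] : Matrix (Fin 3 ⊕ Fin 3) (Fin 3 ⊕ Fin 3) R :=
  Matrix.fromBlocks !![0, 1, 0; 0, 0, 1; 1, 1, 1] 0 0 !![1, 1, 0; 1, 0, 1; 1, 0, 0]

/-- its fourth power -/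
def M6qu (R : Type*) [Zero R] [One R] : Matrix (Fin 3 ⊕ Fin 3) (Fin 3 ⊕ Fin 3) R :=
  Matrix.fromBlocks !![0, 0, 1; 1, 1, 1; 1, 0, 0] 0 0 !![0, 1, 1; 0, 1, 0; 1, 1, 0]

theorem sq : M6 (ZMod 2) * M6 (ZMod 2) = M6sq (ZMod 2) := by
  decide

theorem qu : M6sq (ZMod 2) * M6sq (ZMod 2) = M6qu (ZMod 2) := by
  decide

theorem oc : M6qu (ZMod 2) * M6qu (ZMod 2) = 1 := by
  decide

theorem qu_ne : M6qu (ZMod 2) ≠ 1 := by
  decide

theorem pow_four : M6 (ZMod 2) ^ 4 = M6qu (ZMod 2) := by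
  rw [show (4 : ℕ) = 2 * 2 from rfl, pow_mul, pow_two (M6 (ZMod 2)), sq, pow_two, qu]

theorem pow_eight : M6 (ZMod 2) ^ 8 = 1 := by
  rw [show (8 : ℕ) = 4 * 2 from rfl, pow_mul, pow_four, pow_two, oc]

theorem orderOf_M6 : orderOf (M6 (ZMod 2)) = 8 := by
  have := orderOf_eq_prime_pow (x := M6 (ZMod 2)) (p := 2) (n := 2)
    (by rw [show (2 : ℕ) ^ 2 = 4 from rfl, pow_four]; exact qu_ne)
    (by rw [show (2 : ℕ) ^ (2 + 1) = 8 from rfl]; exact pow_eight)
  simpa using this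

variable {F : Type*} [Field F] [CharP F 2]

theorem map_M6 : (M6 (ZMod 2)).map (ZMod.castHom (dvd_refl 2) F) = M6 F := by
  ext i j
  rcases i with i | i <;> rcases j with j | j <;> fin_cases i <;> fin_cases j <;>
    simp [M6, Matrix.map_apply]

theorem M6_pow_eq_one_iff (j : ℕ) : M6 F ^ j = 1 ↔ 8 ∣ j := by
  have hinj : Function.Injective ((ZMod.castHom (dvd_refl 2) F).mapMatrix
      (m := Fin 3 ⊕ Fin 3)) := by
    intro A B hAB
    ext i k
    have := congrFun (congrFun hAB i) k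
    simp only [RingHom.mapMatrix_apply, Matrix.map_apply] at this
    exact (ZMod.castHom (dvd_refl 2) F).injective this
  have h1 : M6 F ^ j = (ZMod.castHom (dvd_refl 2) F).mapMatrix (M6 (ZMod 2) ^ j) := by
    rw [map_pow, RingHom.mapMatrix_apply, map_M6]
  rw [h1, ← orderOf_M6, orderOf_dvd_iff_pow_eq_one]
  constructor
  · intro h
    apply hinj
    rw [h, map_one]
  · intro h
    rw [h, map_one]

theorem isom (v : Fin 3 ⊕ Fin 3 → F) :
    Cfsg.quadFormPlus 3 F ((M6 F).mulVec v) = Cfsg.quadFormPlus 3 F v := by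
  have h2 : (2 : F) = 0 := CharTwo.two_eq_zero
  simp only [Cfsg.quadFormPlus, M6, Fin.sum_univ_three]
  simp [Matrix.mulVec, dotProduct, Fintype.sum_sum_type, Fin.sum_univ_three, Matrix.fromBlocks]
  linear_combination (v (Sum.inr 1) * v (Sum.inl 0) + v (Sum.inr 2) * v (Sum.inl 0) +
    v (Sum.inr 2) * v (Sum.inl 1)) * h2

end U6P

/-- U6P: an isometry of order 8 of the 6-dimensional hyperbolic space. -/
theorem hasBlock_u6_plus {F : Type*} [Field F] [Fintype F] [CharP F 2] : HasBlock F 3 true 8 := by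
  refine hasBlock_of_space (Cfsg.Agent.Helper28.Spin.QfPlus 3 F) (Matrix.toLin' (U6P.M6 F)) 3 true 8
    (std_plus 3).1 ?_ ?_ ?_ ?_
  · simp
  · simp [(std_plus (F := F) 3).2]
  · intro v
    rw [Cfsg.Agent.Helper28.Spin.QfPlus_coe, Matrix.toLin'_apply]
    exact U6P.isom v
  · intro j
    rw [← U6P.M6_pow_eq_one_iff (F := F) j]
    have : Matrix.toLin' (U6P.M6 F) ^ j = Matrix.toLin' (U6P.M6 F ^ j) := by
      induction j with
      | zero => simp; rfl
      | succ n ih => rw [pow_succ, pow_succ, ih, Matrix.toLin'_mul]; rfl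
    rw [this]
    constructor
    · intro h
      apply Matrix.toLin'.injective
      rw [h, Matrix.toLin'_one]; rfl
    · intro h
      rw [h, Matrix.toLin'_one]; rfl

end

end Cfsg.Agent.S3589P
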