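import Mathlib

set_option autoImplicit false

/-! # S4701 piece QNC: proper quotients of a perfect group are perfect and not cyclic. -/

namespace Cfsg.Agent.S4701P

universe u

variable {G : Type u} [Group G] [Finite G]

/-- QNC -/
theorem quotient_not_cyclic (hperf : commutator G = ⊤) (M : Subgroup G) [M.Normal]
    (hne : M ≠ ⊤) : ¬ IsCyclic (G ⧸ M) ∧ commutator (G ⧸ M) = ⊤ ∧ 3 ≤ Nat.card (G ⧸ M) := by
  have hsurj : Function.Surjective (QuotientGroup.mk' M) := QuotientGroup.mk'_surjective M
  have hperfQ : commutator (G ⧸ M) = ⊤ := by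
    have h2 : commutator (G ⧸ M) = (commutator G).map (QuotientGroup.mk' M) := by
      rw [commutator_def, commutator_def, Subgroup.map_commutator,
        Subgroup.map_top_of_surjective _ hsurj]
    rw [h2, hperf, Subgroup.map_top_of_surjective _ hsurj]
  have hnt : Nontrivial (G ⧸ M) := by
    by_contra h
    rw [not_nontrivial_iff_subsingleton] at h
    apply hne
    rw [eq_top_iff]
    intro g _
    have : (QuotientGroup.mk' M) g = 1 := Subsingleton.elim _ _
    exact (QuotientGroup.eq_one_iff g).mp this
  have hncyc : ¬ IsCyclic (G ⧸ M) := by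
    intro hc
    have hcomm : ∀ a b : G ⧸ M, a * b = b * a := by
      obtain ⟨g, hg⟩ := hc.exists_generator
      intro a b
      obtain ⟨i, rfl⟩ := Subgroup.mem_zpowers_iff.mp (hg a)
      obtain ⟨j, rfl⟩ := Subgroup.mem_zpowers_iff.mp (hg b)
      rw [← zpow_add, ← zpow_add, add_comm]
    have hbot : commutator (G ⧸ M) = ⊥ := by
      rw [commutator_def, Subgroup.commutator_eq_bot_iff_le_centralizer]
      intro x _
      rw [Subgroup.mem_centralizer_iff]
      intro y _
      exact hcomm y x
    rw [hperfQ] at hbot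
    exact top_ne_bot hbot
  refine ⟨hncyc, hperfQ, ?_⟩
  by_contra hlt
  push Not at hlt
  have hpos : 0 < Nat.card (G ⧸ M) := Nat.card_pos
  have h1 : 1 < Nat.card (G ⧸ M) := Finite.one_lt_card
  have h2 : Nat.card (G ⧸ M) = 2 := by omega
  have : Fact (Nat.Prime 2) := ⟨Nat.prime_two⟩
  exact hncyc (isCyclic_of_prime_card h2)

end Cfsg.Agent.S4701P
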