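import Mathlib
import Cfsg.Agent.Helper23.S4701Defs
import Cfsg.Agent.Helper18.PSL27b

set_option autoImplicit false

/-! # S4701 piece SBND: the order of the Brauer–Reynolds groups. -/

namespace Cfsg.Agent.S4701P

universe u

variable {G : Type u} [Group G] [Finite G]

/-- SBND -/
theorem simple_card_bound (p : ℕ) (hp : p.Prime) (h : BRConcl G p) :
    p * (p ^ 2 - 1) ≤ 2 * Nat.card G := by
  rcases h with ⟨F, _, _, hF, h3, ⟨e⟩⟩ | ⟨m, F, _, _, hF, hpm, h3, ⟨e⟩⟩
  · have hcard : Nat.card G = Nat.card (Matrix.ProjectiveSpecialLinearGroup (Fin 2) F) :=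
      Nat.card_congr e.toEquiv
    have h1 := Cfsg.Agent.Helper18.PSL27.card_psl2 (F := F) p hF (by omega)
    -- `p` odd
    have hodd : Odd p := hp.odd_of_ne_two (by omega)
    obtain ⟨k, hk⟩ := hodd
    have hgcd : Nat.gcd 2 (p - 1) = 2 := by
      have : p - 1 = 2 * k := by omega
      rw [this]
      exact Nat.gcd_mul_right_right k 2
    rw [hgcd, ← hcard] at h1
    -- `|G| * 2 * (p-1) = (p^2-1)(p^2-p)`
    have h2 : p ^ 2 - p = p * (p - 1) := by
      obtain ⟨q, rfl⟩ : ∃ q, p = q + 1 := ⟨p - 1, by omega⟩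
      simp only [Nat.add_sub_cancel]
      have : (q + 1) ^ 2 = (q + 1) * q + (q + 1) := by ring
      omega
    rw [h2] at h1
    have hp1 : 0 < p - 1 := by omega
    have h4 : Nat.card G * 2 * (p - 1) = (p * (p ^ 2 - 1)) * (p - 1) := by
      rw [h1]; ring
    have h5 := Nat.eq_of_mul_eq_mul_right hp1 h4
    omega
  · have hcard : Nat.card G = Nat.card (Matrix.ProjectiveSpecialLinearGroup (Fin 2) F) :=
      Nat.card_congr e.toEquiv
    set q := 2 ^ m with hq
    have hm2 : 2 ≤ m := by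
      by_contra hlt
      have : m = 0 ∨ m = 1 := by omega
      rcases this with h0 | h0
      · rw [h0, pow_zero] at hq; omega
      · rw [h0, pow_one] at hq; omega
    have hq4 : 4 ≤ q := by
      rw [hq]
      calc 4 = 2 ^ 2 := by norm_num
        _ ≤ 2 ^ m := Nat.pow_le_pow_right (by norm_num) hm2
    have h1 := Cfsg.Agent.Helper18.PSL27.card_psl2 (F := F) q hF (by omega)
    have hm : 1 ≤ m := by omega
    have hgcd : Nat.gcd 2 (q - 1) = 1 := by
      have heven : 2 ∣ q := by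
        rw [hq]; exact dvd_pow_self 2 (by omega)
      obtain ⟨k, hk⟩ := heven
      have : q - 1 = 2 * (k - 1) + 1 := by omega
      rw [this]
      simp
    rw [hgcd, ← hcard, mul_one] at h1
    -- `|G| (q-1) = (q^2-1)(q^2-q)`
    have h2 : q ^ 2 - q = q * (q - 1) := by
      obtain ⟨r, hr⟩ : ∃ r, q = r + 1 := ⟨q - 1, by omega⟩
      rw [hr]
      simp only [Nat.add_sub_cancel]
      have : (r + 1) ^ 2 = (r + 1) * r + (r + 1) := by ring
      omega
    rw [h2] at h1
    have hq1 : 0 < q - 1 := by omega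
    have h4 : Nat.card G * (q - 1) = (q * (q ^ 2 - 1)) * (q - 1) := by
      rw [h1]; ring
    have h5 := Nat.eq_of_mul_eq_mul_right hq1 h4
    -- `p = q + 1`
    rw [h5, hpm]
    -- `(q+1)((q+1)^2 - 1) ≤ 2 q (q^2-1)`
    obtain ⟨r, hr⟩ : ∃ r, q = r + 4 := ⟨q - 4, by omega⟩
    rw [hr]
    have e1 : (r + 4 + 1) ^ 2 - 1 = (r + 4) * (r + 6) := by
      have : (r + 4 + 1) ^ 2 = (r + 4) * (r + 6) + 1 := by ring
      omega
    have e2 : (r + 4) ^ 2 - 1 = (r + 3) * (r + 5) := by
      have : (r + 4) ^ 2 = (r + 3) * (r + 5) + 1 := by ring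
      omega
    rw [e1, e2]
    nlinarith
end Cfsg.Agent.S4701P
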