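import Mathlib

set_option autoImplicit false

/-! # S4701 piece SIMQ: maximal normal subgroups and simple quotients. -/

namespace Cfsg.Agent.S4701P

universe u

variable {G : Type u} [Group G] [Finite G]

/-- SIMQ (a) -/
theorem exists_max_normal [Nontrivial G] :
    ∃ M : Subgroup G, M.Normal ∧ M ≠ ⊤ ∧
      ∀ L : Subgroup G, L.Normal → M ≤ L → L = M ∨ L = ⊤ := by
  classical
  let S : Set (Subgroup G) := {K | K.Normal ∧ K ≠ ⊤}
  have hfin : S.Finite := Set.toFinite S
  have hne : S.Nonempty := ⟨⊥, inferInstance, bot_ne_top⟩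
  obtain ⟨K, ⟨hKn, hKc⟩, hmax⟩ := hfin.exists_maximal hne
  refine ⟨K, hKn, hKc, ?_⟩
  intro L hLn hKL
  by_cases hL : L = ⊤
  · exact Or.inr hL
  · left
    have := hmax ⟨hLn, hL⟩ hKL
    exact le_antisymm this hKL

/-- SIMQ (b) -/
theorem isSimpleGroup_quotient (M : Subgroup G) [M.Normal] (hne : M ≠ ⊤)
    (hmax : ∀ L : Subgroup G, L.Normal → M ≤ L → L = M ∨ L = ⊤) : IsSimpleGroup (G ⧸ M) := by
  have hsurj : Function.Surjective (QuotientGroup.mk' M) := QuotientGroup.mk'_surjective M
  have hnt : Nontrivial (G ⧸ M) := by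
    by_contra h
    rw [not_nontrivial_iff_subsingleton] at h
    apply hne
    rw [eq_top_iff]
    intro g _
    have : (QuotientGroup.mk' M) g = 1 := Subsingleton.elim _ _
    exact (QuotientGroup.eq_one_iff g).mp this
  refine { exists_pair_ne := hnt.exists_pair_ne, eq_bot_or_eq_top_of_normal := ?_ }
  intro Lb hLn
  set L := Lb.comap (QuotientGroup.mk' M) with hLdef
  have hLnorm : L.Normal := hLn.comap _
  have hKL : M ≤ L := by
    intro k hk
    rw [hLdef, Subgroup.mem_comap]
    have : (QuotientGroup.mk' M) k = 1 := (QuotientGroup.eq_one_iff k).mpr hk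
    rw [this]; exact Lb.one_mem
  have hmap : L.map (QuotientGroup.mk' M) = Lb :=
    Subgroup.map_comap_eq_self_of_surjective hsurj Lb
  rcases hmax L hLnorm hKL with h | h
  · left
    rw [← hmap, h, eq_bot_iff]
    rintro _ ⟨k, hk, rfl⟩
    exact (QuotientGroup.eq_one_iff k).mpr hk
  · right
    rw [← hmap, h]
    exact Subgroup.map_top_of_surjective _ hsurj

end Cfsg.Agent.S4701P
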