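import Mathlib

set_option autoImplicit false

/-! # S4701 piece SYLP: a non-normal Sylow `p`-subgroup of a group of order `< p³` has order `p`. -/

namespace Cfsg.Agent.S4701P

universe u

variable {G : Type u} [Group G] [Finite G]

/-- SYLP -/
theorem card_sylow_eq (p : ℕ) [Fact p.Prime] (hbig : Nat.card G < p ^ 3) (P : Sylow p G)
    (hP : ¬ (P : Subgroup G).Normal) : Nat.card P = p := by
  have hp : p.Prime := Fact.out
  obtain ⟨k, hk⟩ := (IsPGroup.iff_card.mp P.2)
  have hdvd : Nat.card P ∣ Nat.card G := Subgroup.card_subgroup_dvd_card _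
  have hle : Nat.card P ≤ Nat.card G := Nat.le_of_dvd Nat.card_pos hdvd
  have hk3 : k < 3 := by
    by_contra h
    push Not at h
    have : p ^ 3 ≤ p ^ k := Nat.pow_le_pow_right hp.pos h
    omega
  have hk0 : k ≠ 0 := by
    rintro rfl
    rw [pow_zero] at hk
    apply hP
    have : (P : Subgroup G) = ⊥ := Subgroup.card_eq_one.mp hk
    rw [this]
    infer_instance
  have hk2 : k ≠ 2 := by
    rintro rfl
    -- the index is `< p`
    have hidx : (P : Subgroup G).index < p := by
      have h1 := Subgroup.card_mul_index (P : Subgroup G)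
      rw [hk] at h1
      by_contra h
      push Not at h
      have : p ^ 2 * p ≤ p ^ 2 * (P : Subgroup G).index := Nat.mul_le_mul_left _ h
      have e : p ^ 2 * p = p ^ 3 := by ring
      omega
    have h2 : Nat.card (Sylow p G) ∣ (P : Subgroup G).index := Sylow.card_dvd_index P
    have h3 : Nat.card (Sylow p G) ≡ 1 [MOD p] := card_sylow_modEq_one p G
    have hpos : 0 < (P : Subgroup G).index := Nat.pos_of_ne_zero (Subgroup.index_ne_zero_of_finite)
    have h4 : Nat.card (Sylow p G) < p := lt_of_le_of_lt (Nat.le_of_dvd hpos h2) hidx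
    have h5 : Nat.card (Sylow p G) = 1 := by
      have h6 := Nat.mod_eq_of_lt h4
      have h7 : Nat.card (Sylow p G) % p = 1 % p := h3
      rw [h6, Nat.mod_eq_of_lt hp.one_lt] at h7
      exact h7
    have hsub : Subsingleton (Sylow p G) := (Nat.card_eq_one_iff_unique.mp h5).1
    exact hP (Sylow.normal_of_subsingleton P)
  have : k = 1 := by omega
  rw [hk, this, pow_one]

end Cfsg.Agent.S4701P
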