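import Mathlib
import Cfsg.Prelude.Def_Characters
import Cfsg.Agent.Helper24.Ito
import Cfsg.Agent.Helper24.Expansion
import Cfsg.Agent.Helper24.Induced
import Cfsg.Agent.Helper8.IndTrans
import Cfsg.Agent.Helper5.IndFun
import Cfsg.Agent.S1489

set_option autoImplicit false

/-!
Derived length of Sylow subgroups and characters of degree divisible by `p` (p-solvable case),
part A: characters of the inertia group of `θ ∈ Irr(N)` and their induction to `G`.
-/

namespace Cfsg.Agent.Helper5.DLS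

open Cfsg Cfsg.Agent.Helper24

universe u

section Over

variable {G : Type u} [Group G] [Fintype G] (N : Subgroup G) [hN : N.Normal] [Fintype N]
variable (T : Subgroup G) [Fintype T] [Fintype (N.subgroupOf T)] (θ : IrrCharacter N)

/-- If `ξ ∈ Irr(T)` lies over `θ` (with `T` the inertia group), then `ξ^G` is irreducible and
lies over `θ`. -/
theorem ind_over
    (hT : ∀ g : G, g ∈ T ↔ ∀ h : N,
      (θ : N → ℂ) ⟨g * h * g⁻¹, hN.conj_mem h h.2 g⟩ = (θ : N → ℂ) h)
    (hNT : N ≤ T) (ξ : IrrCharacter T)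
    (hξ : classInner (indFun (N.subgroupOf T) (Helper8.toSubgroupOf N T (θ : N → ℂ)))
      (ξ : T → ℂ) ≠ 0) :
    IsIrrCharacter G (indFun T (ξ : T → ℂ)) ∧
      classInner (fun n : N => indFun T (ξ : T → ℂ) n) (θ : N → ℂ) ≠ 0 := by
  classical
  haveI : Fintype (IrrCharacter T) := Fintype.ofFinite _
  have hirr : IsIrrCharacter G (indFun T (ξ : T → ℂ)) :=
    (Cfsg.Agent.S1489.result N T (θ : N → ℂ) θ.2 hT hNT (ξ : T → ℂ) (ξ : T → ℂ) ξ.2 ξ.2
      hξ hξ).1
  refine ⟨hirr, ?_⟩
  have hθ'irr : IsIrrCharacter (N.subgroupOf T) (Helper8.toSubgroupOf N T (θ : N → ℂ)) :=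
    Helper8.isIrrCharacter_comp_surjective (Subgroup.subgroupOfEquivOfLe hNT).toMonoidHom
      (Subgroup.subgroupOfEquivOfLe hNT).surjective θ.2
  set Φ := indFun (N.subgroupOf T) (Helper8.toSubgroupOf N T (θ : N → ℂ)) with hΦ
  have hΦc : IsCharacter T Φ := isCharacter_indFun _ (IsIrrCharacter.isCharacter hθ'irr)
  have hcf : IsClassFunction G (indFun T (ξ : T → ℂ)) :=
    IsCharacter.isClassFunction (IsIrrCharacter.isCharacter hirr)
  -- Frobenius
  have h1 : classInner (indFun N (θ : N → ℂ)) (indFun T (ξ : T → ℂ)) =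
      classInner (θ : N → ℂ) (fun n : N => indFun T (ξ : T → ℂ) n) :=
    Helper8.frobenius_reciprocity N _ _ hcf
  rw [← classInner_conj_symm, ← h1]
  apply (map_ne_zero _).mpr
  rw [← Helper8.indFun_trans N T hNT (θ : N → ℂ), ← hΦ]
  have e1 := IsCharacter.eq_sum_classInner hΦc
  rw [e1, Helper8.indFun_sum, classInner_sum_left, Finset.sum_eq_single ξ]
  · rw [Helper8.indFun_smul, classInner_smul_left, classInner_of_isIrrCharacter hirr hirr,
      if_pos rfl, mul_one]
    exact hξ
  · intro ξ' _ hne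
    rw [Helper8.indFun_smul, classInner_smul_left]
    by_cases h0 : classInner Φ (ξ' : T → ℂ) = 0
    · rw [h0, zero_mul]
    · have hres := Cfsg.Agent.S1489.result N T (θ : N → ℂ) θ.2 hT hNT (ξ' : T → ℂ) (ξ : T → ℂ)
        ξ'.2 ξ.2 h0 hξ
      have hne' : indFun T (ξ' : T → ℂ) ≠ indFun T (ξ : T → ℂ) := by
        intro h
        exact hne (Subtype.ext (hres.2 h))
      rw [classInner_of_isIrrCharacter hres.1 hirr, if_neg hne', mul_zero]
  · intro h
    exact absurd (Finset.mem_univ _) h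

end Over

end Cfsg.Agent.Helper5.DLS
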