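import Mathlib

/-!
# S3789 pieces EIG and MOVE (helper5)
-/

set_option autoImplicit false

namespace Cfsg.Agent.Helper5.HH3

/-- EIG: simultaneous eigenvector for commuting involutions. -/
theorem exists_simultaneous_eigenvector {K : Type*} [Field K] (h2 : (2 : K) ≠ 0) {V : Type*}
    [AddCommGroup V] [Module K V] {Z : Type*} [Group Z] [Finite Z] (σ : Z →* Module.End K V)
    (hsq : ∀ z, σ z * σ z = 1) (hcomm : ∀ z z', Commute (σ z) (σ z')) (z₀ : Z) (hz₀ : σ z₀ ≠ 1) :
    ∃ v : V, v ≠ 0 ∧ σ z₀ v = -v ∧ ∀ z, σ z v = v ∨ σ z v = -v := by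
  classical
  have hsq' : ∀ z (w : V), σ z (σ z w) = w := by
    intro z w
    have := congrArg (fun f : Module.End K V => f w) (hsq z)
    simpa using this
  have hcomm' : ∀ z z' (w : V), σ z (σ z' w) = σ z' (σ z w) := by
    intro z z' w
    have := congrArg (fun f : Module.End K V => f w) (hcomm z z').eq
    simpa using this
  -- the starting vector
  have hu : ∃ u : V, σ z₀ u ≠ u := by
    by_contra h
    push Not at h
    apply hz₀
    ext u
    simpa using h u
  obtain ⟨u, hu⟩ := hu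
  have key : ∀ s : Finset Z, ∃ v : V, v ≠ 0 ∧ σ z₀ v = -v ∧ ∀ z ∈ s, σ z v = v ∨ σ z v = -v := by
    intro s
    induction s using Finset.induction_on with
    | empty =>
      refine ⟨u - σ z₀ u, ?_, ?_, ?_⟩
      · intro h
        exact hu (sub_eq_zero.mp h).symm
      · rw [map_sub, hsq']
        abel
      · intro z hz
        simp at hz
    | insert z s _ ih =>
      obtain ⟨v, hv0, hvz₀, hvs⟩ := ih
      have h2v : v + σ z v + (v - σ z v) ≠ 0 := by
        have : v + σ z v + (v - σ z v) = (2 : K) • v := by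
          rw [two_smul]
          abel
        rw [this]
        exact smul_ne_zero h2 hv0
      by_cases hplus : v + σ z v = 0
      · -- use v - σ z v
        refine ⟨v - σ z v, ?_, ?_, ?_⟩
        · intro h
          apply h2v
          rw [hplus, h, add_zero]
        · rw [map_sub, hcomm' z₀ z, hvz₀, map_neg]
          abel
        · intro z' hz'
          rw [Finset.mem_insert] at hz'
          rcases hz' with rfl | hz'
          · right
            rw [map_sub, hsq']
            abel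
          · rcases hvs z' hz' with h | h
            · left
              rw [map_sub, hcomm' z' z, h]
            · right
              rw [map_sub, hcomm' z' z, h, map_neg]
              abel
      · refine ⟨v + σ z v, hplus, ?_, ?_⟩
        · rw [map_add, hcomm' z₀ z, hvz₀, map_neg]
          abel
        · intro z' hz'
          rw [Finset.mem_insert] at hz'
          rcases hz' with rfl | hz'
          · left
            rw [map_add, hsq']
            abel
          · rcases hvs z' hz' with h | h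
            · left
              rw [map_add, hcomm' z' z, h]
            · right
              rw [map_add, hcomm' z' z, h, map_neg]
              abel
  have : Fintype Z := Fintype.ofFinite Z
  obtain ⟨v, hv0, hvz₀, hvs⟩ := key Finset.univ
  exact ⟨v, hv0, hvz₀, fun z => hvs z (Finset.mem_univ z)⟩


open Subgroup in
/-- MOVE: a moved character forces a fixed vector. -/
theorem fixed_of_moved_character {Γ : Type*} [Group Γ] {V : Type*} [AddCommGroup V]
    [Module (ZMod 3) V] (ρ : Γ →* Module.End (ZMod 3) V) (Z : Subgroup Γ) (b a : Γ) (k : ℕ)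
    (hbk : b ^ 3 ^ k = 1) (hbZ : b ∈ normalizer (Z : Set Γ)) (haZ : ∀ z ∈ Z, a * z = z * a)
    (lam : Γ → ZMod 3) (hlam : ∀ z ∈ Z, lam z = 1 ∨ lam z = -1) (w : V)
    (hw : ∀ z ∈ Z, ρ z w = lam z • w) (z₁ : Γ) (hz₁ : z₁ ∈ Z)
    (hmove : lam (b⁻¹ * z₁ * b) ≠ lam z₁)
    (hfix : ρ a (ρ b (ρ b w - w) - (ρ b w - w)) = ρ b (ρ b w - w) - (ρ b w - w)) :
    ρ a w = w := by
  -- conjugation by `b⁻¹`
  set c : Γ → Γ := fun z => b⁻¹ * z * b with hc
  have hcZ : ∀ z ∈ Z, c z ∈ Z := by
    intro z hz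
    have hb' : b⁻¹ ∈ normalizer (Z : Set Γ) := inv_mem hbZ
    have := (Subgroup.mem_normalizer_iff.mp hb' z).mp hz
    simpa [hc] using this
  have hmulapp : ∀ (g h : Γ) (x : V), ρ (g * h) x = ρ g (ρ h x) := by
    intro g h x
    rw [map_mul]
    rfl
  -- `ρ z ∘ ρ b = ρ b ∘ ρ (c z)`
  have hconj : ∀ (z : Γ) (x : V), ρ z (ρ b x) = ρ b (ρ (c z) x) := by
    intro z x
    rw [← hmulapp, ← hmulapp]
    congr 2
    simp only [hc]
    group
  have hb1 : ∀ z ∈ Z, ρ z (ρ b w) = lam (c z) • ρ b w := by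
    intro z hz
    rw [hconj, hw _ (hcZ z hz), map_smul]
  have hb2 : ∀ z ∈ Z, ρ z (ρ b (ρ b w)) = lam (c (c z)) • ρ b (ρ b w) := by
    intro z hz
    rw [hconj, hconj, hw _ (hcZ _ (hcZ z hz)), map_smul, map_smul]
  -- iterates of `c`
  have hiterZ : ∀ (n : ℕ) (z : Γ), z ∈ Z → c^[n] z ∈ Z := by
    intro n
    induction n with
    | zero => intro z hz; simpa using hz
    | succ n ih =>
      intro z hz
      rw [Function.iterate_succ_apply']
      exact hcZ _ (ih z hz)
  have hiter : ∀ (n : ℕ) (z : Γ), c^[n] z = (b ^ n)⁻¹ * z * b ^ n := by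
    intro n
    induction n with
    | zero => intro z; simp
    | succ n ih =>
      intro z
      rw [Function.iterate_succ_apply', ih]
      simp only [hc]
      rw [pow_succ]
      group
  -- a second moved element, for `b * b`
  have hz₂ : ∃ z₂ ∈ Z, lam (c (c z₂)) ≠ lam z₂ := by
    by_contra hcon
    push Not at hcon
    have hev : ∀ (m : ℕ) (z : Γ), z ∈ Z → lam (c^[2 * m] z) = lam z := by
      intro m
      induction m with
      | zero => intro z _; simp
      | succ m ih =>
        intro z hz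
        have : 2 * (m + 1) = (2 * m + 1) + 1 := by ring
        rw [this, Function.iterate_succ_apply', Function.iterate_succ_apply',
          hcon _ (hiterZ _ z hz), ih z hz]
    obtain ⟨j, hj⟩ : Odd (3 ^ k) := Odd.pow (by decide)
    have h1 := hev (j + 1) z₁ hz₁
    have h2 : c^[2 * (j + 1)] z₁ = c z₁ := by
      rw [hiter]
      have : 2 * (j + 1) = 3 ^ k + 1 := by omega
      rw [this, pow_succ, hbk, one_mul]
    rw [h2] at h1
    exact hmove h1
  obtain ⟨z₂, hz₂Z, hz₂⟩ := hz₂
  -- scalar facts in `ZMod 3`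
  have hsq : ∀ x : ZMod 3, (x = 1 ∨ x = -1) → x * x = 1 := by
    rintro x (rfl | rfl) <;> decide
  have hprod : ∀ x y : ZMod 3, (x = 1 ∨ x = -1) → (y = 1 ∨ y = -1) → y ≠ x → x * y = -1 := by
    rintro x y (rfl | rfl) (rfl | rfl) h <;> first | (exact absurd rfl h) | decide
  have h3 : ∀ x : V, x + x + (x + x) = x := by
    intro x
    have h : (3 : ZMod 3) • x = 0 := by
      have : (3 : ZMod 3) = 0 := by decide
      rw [this, zero_smul]
    have h' : (3 : ZMod 3) • x = x + x + x := by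
      have : (3 : ZMod 3) = 1 + 1 + 1 := by decide
      rw [this, add_smul, add_smul, one_smul]
    rw [h'] at h
    calc x + x + (x + x) = (x + x + x) + x := by abel
      _ = x := by rw [h, zero_add]
  -- the two projectors
  set P₁ : Module.End (ZMod 3) V := 1 + lam z₁ • ρ z₁ with hP₁
  set P₂ : Module.End (ZMod 3) V := 1 + lam z₂ • ρ z₂ with hP₂
  have hP₁app : ∀ x : V, P₁ x = x + lam z₁ • ρ z₁ x := fun x => rfl
  have hP₂app : ∀ x : V, P₂ x = x + lam z₂ • ρ z₂ x := fun x => rfl
  have hP₁w : P₁ w = w + w := by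
    rw [hP₁app, hw z₁ hz₁, smul_smul, hsq _ (hlam z₁ hz₁), one_smul]
  have hP₂w : P₂ w = w + w := by
    rw [hP₂app, hw z₂ hz₂Z, smul_smul, hsq _ (hlam z₂ hz₂Z), one_smul]
  have hP₁b : P₁ (ρ b w) = 0 := by
    rw [hP₁app, hb1 z₁ hz₁, smul_smul,
      hprod _ _ (hlam z₁ hz₁) (hlam _ (hcZ z₁ hz₁)) hmove, neg_one_smul, add_neg_cancel]
  have hP₂bb : P₂ (ρ b (ρ b w)) = 0 := by
    rw [hP₂app, hb2 z₂ hz₂Z, smul_smul,
      hprod _ _ (hlam z₂ hz₂Z) (hlam _ (hcZ _ (hcZ z₂ hz₂Z))) hz₂, neg_one_smul, add_neg_cancel]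
  have hP₁bb : P₁ (ρ b (ρ b w)) = (1 + lam z₁ * lam (c (c z₁))) • ρ b (ρ b w) := by
    rw [hP₁app, hb2 z₁ hz₁, smul_smul, add_smul, one_smul]
  -- the vector `s`
  set s : V := ρ b (ρ b w - w) - (ρ b w - w) with hs
  have hs' : s = ρ b (ρ b w) - ρ b w - (ρ b w - w) := by
    rw [hs, map_sub]
  have hP₁s : P₁ s = (1 + lam z₁ * lam (c (c z₁))) • ρ b (ρ b w) + (w + w) := by
    have e1 : P₁ s = P₁ (ρ b (ρ b w)) - P₁ (ρ b w) - (P₁ (ρ b w) - P₁ w) := by
      rw [hs', map_sub, map_sub, map_sub]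
    rw [e1, hP₁b, hP₁w, hP₁bb, sub_zero, zero_sub, sub_neg_eq_add]
  have hPs : P₂ (P₁ s) = w := by
    rw [hP₁s, map_add, map_smul, hP₂bb, smul_zero, zero_add, map_add, hP₂w]
    exact h3 w
  -- `ρ a` commutes with the projectors
  have hcomm₁ : ∀ x : V, ρ a (P₁ x) = P₁ (ρ a x) := by
    intro x
    rw [hP₁app, hP₁app, map_add, map_smul, ← hmulapp, haZ z₁ hz₁, hmulapp]
  have hcomm₂ : ∀ x : V, ρ a (P₂ x) = P₂ (ρ a x) := by
    intro x
    rw [hP₂app, hP₂app, map_add, map_smul, ← hmulapp, haZ z₂ hz₂Z, hmulapp]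
  calc ρ a w = ρ a (P₂ (P₁ s)) := by rw [hPs]
    _ = P₂ (P₁ (ρ a s)) := by rw [hcomm₂, hcomm₁]
    _ = P₂ (P₁ s) := by rw [hfix]
    _ = w := hPs

end Cfsg.Agent.Helper5.HH3
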