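import Mathlib
import Cfsg.Prelude.Def_Transfer
import Cfsg.Agent.Helper19.Class2
import Cfsg.Agent.Helper1.PGroup

/-!
# S3789 piece SPEC (helper5): the centre of a special `2`-group has exponent `2`
(more generally: the centre of a special `p`-group has exponent `p`)
-/

set_option autoImplicit false

namespace Cfsg.Agent.Helper5.HH3

open Subgroup Cfsg.Agent.Helper19
open scoped commutatorElement

/-- In a finite special `p`-group the centre (= derived subgroup) has exponent `p`. -/
theorem special_center_pow {Q : Type*} [Group Q] [Finite Q] {p : ℕ} [Fact p.Prime]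
    (h : Cfsg.IsSpecial p Q) (z : Q) (hz : z ∈ center Q) : z ^ p = 1 := by
  obtain ⟨hP, hΦZ, hDZ⟩ := h
  have hxp : ∀ x : Q, x ^ p ∈ center Q := fun x => by
    rw [← hΦZ]; exact Cfsg.Agent.Helper1.IsPGroup.pow_mem_frattini hP x
  have hc : ∀ x y : Q, ⁅y, x⁆ ∈ center Q := fun x y => by
    rw [← hDZ, _root_.commutator_def]
    exact commutator_mem_commutator (mem_top _) (mem_top _)
  have hcp : ∀ x y : Q, ⁅y, x⁆ ^ p = 1 := by
    intro x y
    have hy : Commute ⁅y, x⁆ y := (Subgroup.mem_center_iff.mp (hc x y) y).symm
    rw [← commutator_pow_left_of_commute_comm x y hy p, commutatorElement_eq_one_iff_mul_comm]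
    exact (Subgroup.mem_center_iff.mp (hxp y) x).symm
  have hD : ∀ c ∈ _root_.commutator Q, c ^ p = 1 := by
    intro c hcm
    have hcm' := hcm
    rw [_root_.commutator_def, Subgroup.commutator_def] at hcm'
    induction hcm' using Subgroup.closure_induction with
    | mem w hw =>
      obtain ⟨a, _, b, _, rfl⟩ := hw
      exact hcp b a
    | one => exact one_pow _
    | mul a b ha hb iha ihb =>
      have ha' : a ∈ _root_.commutator Q := by
        rw [_root_.commutator_def, Subgroup.commutator_def]; exact ha
      have hb' : b ∈ _root_.commutator Q := by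
        rw [_root_.commutator_def, Subgroup.commutator_def]; exact hb
      have hab : Commute a b := by
        rw [hDZ] at ha'
        exact (Subgroup.mem_center_iff.mp ha' b).symm
      rw [hab.mul_pow, iha ha', ihb hb', one_mul]
    | inv a ha iha =>
      have ha' : a ∈ _root_.commutator Q := by
        rw [_root_.commutator_def, Subgroup.commutator_def]; exact ha
      rw [inv_pow, iha ha', inv_one]
  apply hD
  rw [hDZ]
  exact hz

/-- SPEC: centre of a special 2-group has exponent 2. -/
theorem special_two_center_sq {D : Type*} [Group D] [Finite D] (h : Cfsg.IsSpecial 2 D)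
    (z : D) (hz : z ∈ center D) : z * z = 1 := by
  have : Fact (Nat.Prime 2) := ⟨Nat.prime_two⟩
  have := special_center_pow h z hz
  rwa [pow_two] at this

end Cfsg.Agent.Helper5.HH3
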