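import Mathlib

/-!
# S3789 piece XQ (helper5): from faithful to arbitrary `ρ` via `G ⧸ ker ρ`
-/

set_option autoImplicit false

open Subgroup
open scoped commutatorElement

namespace Cfsg.Agent.Helper5.HH3

universe u v

theorem derived_centralizes_of_quad'
    (hX : ∀ {G : Type u} [Group G] [Finite G] {W : Type v} [AddCommGroup W] [Module (ZMod 3) W] [Finite W]
      (ρ : G →* Module.End (ZMod 3) W) (_ : Function.Injective ρ) (E B : Subgroup G) (_ : IsPGroup 2 E)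
      (_ : IsPGroup 3 B) (_ : B ≤ normalizer (E : Set G))
      (_ : ∀ x ∈ E, ∀ y ∈ E, ρ ⁅x, y⁆ = 1 ∨ ρ ⁅x, y⁆ = -1)
      (_ : ∀ a ∈ ⁅B, B⁆, ∀ a' ∈ ⁅B, B⁆, ∀ w : W, ρ a (ρ a' w - w) = ρ a' w - w),
      ∀ a ∈ ⁅B, B⁆, ∀ x ∈ E, a * x = x * a)
    {G : Type u} [Group G] [Finite G] {W : Type v} [AddCommGroup W]
    [Module (ZMod 3) W] [Finite W] (ρ : G →* Module.End (ZMod 3) W)
    (E B : Subgroup G) (hE : IsPGroup 2 E) (hB : IsPGroup 3 B)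
    (hBE : B ≤ normalizer (E : Set G))
    (hcomm : ∀ x ∈ E, ∀ y ∈ E, ρ ⁅x, y⁆ = 1 ∨ ρ ⁅x, y⁆ = -1)
    (hquad : ∀ a ∈ ⁅B, B⁆, ∀ a' ∈ ⁅B, B⁆, ∀ w : W, ρ a (ρ a' w - w) = ρ a' w - w) :
    ∀ a ∈ ⁅B, B⁆, ∀ x ∈ E, ρ ⁅x, a⁆ = 1 := by
  let π : G →* G ⧸ ρ.ker := QuotientGroup.mk' ρ.ker
  let ρ' : G ⧸ ρ.ker →* Module.End (ZMod 3) W := QuotientGroup.lift ρ.ker ρ le_rfl
  have hρπ : ∀ g : G, ρ' (π g) = ρ g := fun g => rfl
  have hinj : Function.Injective ρ' := by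
    intro a b hab
    obtain ⟨a, rfl⟩ := QuotientGroup.mk_surjective a
    obtain ⟨b, rfl⟩ := QuotientGroup.mk_surjective b
    have h1 : ρ a = ρ b := hab
    apply QuotientGroup.eq.mpr
    rw [MonoidHom.mem_ker, map_mul, ← h1, ← map_mul, inv_mul_cancel, map_one]
  have hE' : IsPGroup 2 (E.map π) := hE.map π
  have hB' : IsPGroup 3 (B.map π) := hB.map π
  have hBE' : B.map π ≤ normalizer ((E.map π : Subgroup (G ⧸ ρ.ker)) : Set (G ⧸ ρ.ker)) :=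
    le_trans (Subgroup.map_mono hBE) (Subgroup.le_normalizer_map π)
  have hcomm' : ∀ x ∈ E.map π, ∀ y ∈ E.map π, ρ' ⁅x, y⁆ = 1 ∨ ρ' ⁅x, y⁆ = -1 := by
    rintro _ ⟨x, hx, rfl⟩ _ ⟨y, hy, rfl⟩
    rw [← map_commutatorElement, hρπ]
    exact hcomm x hx y hy
  have hder : ⁅B.map π, B.map π⁆ = (⁅B, B⁆).map π := (Subgroup.map_commutator B B π).symm
  have hquad' : ∀ a ∈ ⁅B.map π, B.map π⁆, ∀ a' ∈ ⁅B.map π, B.map π⁆, ∀ w : W,
      ρ' a (ρ' a' w - w) = ρ' a' w - w := by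
    rw [hder]
    rintro _ ⟨a, ha, rfl⟩ _ ⟨a', ha', rfl⟩ w
    rw [hρπ, hρπ]
    exact hquad a ha a' ha' w
  have key := hX ρ' hinj (E.map π) (B.map π) hE' hB' hBE' hcomm' hquad'
  intro a ha x hx
  have h1 : π a * π x = π x * π a :=
    key (π a) (by rw [hder]; exact ⟨a, ha, rfl⟩) (π x) ⟨x, hx, rfl⟩
  have h2 : π ⁅x, a⁆ = 1 := by
    rw [map_commutatorElement, commutatorElement_eq_one_iff_mul_comm, h1]
  rw [← hρπ, h2, map_one]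

end Cfsg.Agent.Helper5.HH3
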