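import Mathlib
import Cfsg.Prelude.Def_Blocks
import Cfsg.Agent.Helper5.ThirdMain
import Cfsg.Agent.Helper5.IndFun
import Cfsg.Agent.Helper5.KerDegrees
import Cfsg.Agent.Helper5.DefectOrder
import Cfsg.Agent.Helper24.Induced
import Cfsg.Agent.Helper8.Ind
import Cfsg.Agent.Helper8.CharComp
import Cfsg.Agent.S0964

set_option autoImplicit false
set_option linter.unusedSectionVars false
set_option linter.unusedVariables false

/-!
# Principal blocks of a group and of a normal subgroup
-/

namespace Cfsg.Agent.Helper5.PN

open Cfsg Cfsg.Agent.Helper24 Cfsg.Agent.Helper5 Cfsg.Agent.Helper5.Loc Cfsg.Agent.Helper5.CC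

variable {G : Type*} [Group G] [Fintype G] {M : Ideal AlgInt}

/-- Constituents of the restriction of a character of the principal block lie in the principal
block of the normal subgroup. -/
theorem mem_principalBlock_of_constituent {p : ℕ} [hp : Fact p.Prime] (hM : IsPModular p M)
    (H : Subgroup G) [hH : H.Normal] [Fintype H] (χ : IrrCharacter G)
    (hχ : χ ∈ principalBlock M G) (θ : IrrCharacter H)
    (hθ : classInner (fun n : H => (χ : G → ℂ) n) (θ : H → ℂ) ≠ 0) :
    θ ∈ principalBlock M H := by
  have hMp := isPrime_of_isPModular hM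
  have : Finite G := Finite.of_fintype G
  have hGne : (Nat.card H : ℂ) ≠ 0 := by
    have : 0 < Nat.card H := Nat.card_pos
    exact_mod_cast this.ne'
  have h1 : classInner (fun n : H => ((trivIrr G : IrrCharacter G) : G → ℂ) n)
      ((trivIrr H : IrrCharacter H) : H → ℂ) ≠ 0 := by
    have : classInner (fun n : H => ((trivIrr G : IrrCharacter G) : G → ℂ) n)
        ((trivIrr H : IrrCharacter H) : H → ℂ) = 1 := by
      have := classInner_irr_self (trivIrr H)
      exact this
    rw [this]
    exact one_ne_zero
  obtain ⟨g, θ', hθ', hconj⟩ := Cfsg.Agent.S0964.result p M hM H (principalBlock M G)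
    isPBlock_principalBlock (principalBlock M H) isPBlock_principalBlock (trivIrr G)
    (trivIrr_mem_principalBlock hMp) (trivIrr H) (trivIrr_mem_principalBlock hMp) h1 χ hχ θ hθ
  have e1 : θ = conjIrr H g θ' := by
    apply Subtype.ext
    funext n
    exact hconj n
  have e2 : trivIrr H = conjIrr H g (trivIrr H) := by
    apply Subtype.ext
    funext n
    rfl
  have := sameBlock_conjIrr (M := M) H g (η := trivIrr H) (η' := θ') hθ'
  rw [← e1, ← e2] at this
  exact this

/-- Every member of the principal block of a normal subgroup lies under a member of the principal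
block of the group. -/
theorem exists_mem_principalBlock_over {p : ℕ} [hp : Fact p.Prime] (hM : IsPModular p M)
    (H : Subgroup G) [hH : H.Normal] [Fintype H] (θ : IrrCharacter H)
    (hθ : θ ∈ principalBlock M H) :
    ∃ χ ∈ principalBlock M G, classInner (fun n : H => (χ : G → ℂ) n) (θ : H → ℂ) ≠ 0 := by
  classical
  have hMp := isPrime_of_isPModular hM
  have : Finite G := Finite.of_fintype G
  have : Fintype (IrrCharacter G) := Fintype.ofFinite _
  have : Fintype (IrrCharacter H) := Fintype.ofFinite _
  -- the sum of `θ` over the `p`-regular elements does not vanish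
  have hθ1 : (θ : H → ℂ) 1 ≠ 0 := irr_one_ne_zero θ
  have hact : ¬ MemLocalIdeal M (act (regInd p) θ) := by
    intro h
    have h2 := act_sub_act_memLocalIdeal hMp (isClassFunction_regInd (G := H) p)
      (fun t => lr_regInd hMp p t) (χ := trivIrr H) (ψ := θ) hθ
    have h3 := li_add hMp h2 h
    rw [sub_add_cancel, act_regInd_trivIrr] at h3
    exact not_memLocalIdeal_sum_regInd hM h3
  have hsum : ∑ h : H, regInd p h * (θ : H → ℂ) h ≠ 0 := by
    intro h0
    apply hact
    rw [act, h0, zero_div]
    exact memLocalIdeal_zero hMp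
  -- Frobenius reciprocity
  have hcfr : IsClassFunction G (regInd p) := isClassFunction_regInd p
  have hfrob := Cfsg.Agent.Helper8.frobenius_reciprocity H (θ : H → ℂ) (regInd p) hcfr
  have hreal : ∀ t : G, (starRingEnd ℂ) (regInd p t) = regInd p t := by
    intro t
    unfold regInd; split_ifs <;> simp
  have hrhs : classInner (θ : H → ℂ) (fun h : H => regInd p (h : G)) ≠ 0 := by
    rw [classInner]
    apply mul_ne_zero
    · have : 0 < Nat.card H := Nat.card_pos
      exact inv_ne_zero (by exact_mod_cast this.ne')
    · intro h0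
      apply hsum
      rw [← h0]
      refine Finset.sum_congr rfl fun h _ => ?_
      rw [hreal, regInd_coe, mul_comm]
  rw [← hfrob] at hrhs
  -- expand the induced character
  have hind : IsCharacter G (indFun H (θ : H → ℂ)) :=
    isCharacter_indFun H (IsIrrCharacter.isCharacter θ.2)
  have hexp := IsCharacter.eq_sum_classInner hind
  rw [hexp, classInner_sum_left] at hrhs
  obtain ⟨χ, -, hχ⟩ := Finset.exists_ne_zero_of_sum_ne_zero hrhs
  rw [classInner_smul_left] at hχ
  have hχ1 : classInner (indFun H (θ : H → ℂ)) (χ : G → ℂ) ≠ 0 := left_ne_zero_of_mul hχ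
  have hχ2 : classInner (χ : G → ℂ) (regInd p) ≠ 0 := right_ne_zero_of_mul hχ
  refine ⟨χ, ?_, ?_⟩
  · by_contra hnot
    apply hχ2
    have h0 := act_regInd_eq_zero_of_not_mem hM χ hnot
    rw [act] at h0
    have hχ1' : (χ : G → ℂ) 1 ≠ 0 := irr_one_ne_zero χ
    have h1 : ∑ t : G, regInd p t * (χ : G → ℂ) t = 0 := by
      rcases div_eq_zero_iff.mp h0 with h | h
      · exact h
      · exact absurd h hχ1'
    rw [classInner]
    have : ∑ g : G, (χ : G → ℂ) g * (starRingEnd ℂ) (regInd p g) = 0 := by
      rw [← h1]
      refine Finset.sum_congr rfl fun g _ => ?_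
      rw [hreal, mul_comm]
    rw [this, mul_zero]
  · rw [Cfsg.Agent.Helper8.frobenius_reciprocity H (θ : H → ℂ) (χ : G → ℂ)
      (isClassFunction_irr χ)] at hχ1
    intro h0
    apply hχ1
    rw [← classInner_conj_symm, h0, map_zero]

/-- The sum of squares is at most the square of the sum, for natural numbers. -/
theorem sum_sq_le_sq_sum_nat {ι : Type*} (s : Finset ι) (a : ι → ℕ) :
    ∑ i ∈ s, a i ^ 2 ≤ (∑ i ∈ s, a i) ^ 2 := by
  rw [pow_two, Finset.sum_mul]
  apply Finset.sum_le_sum
  intro i hi
  rw [pow_two]
  exact Nat.mul_le_mul_left _ (Finset.single_le_sum (fun _ _ => Nat.zero_le _) hi)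

open Classical in
/-- **The degree-square sums of the principal blocks** of a group and of a normal subgroup. -/
theorem principal_degree_sums [Fintype (IrrCharacter G)] {p : ℕ} [hp : Fact p.Prime]
    (hM : IsPModular p M) (H : Subgroup G) [hH : H.Normal] [Fintype H]
    [Fintype (IrrCharacter H)] :
    (∑ θ : IrrCharacter H, if θ ∈ principalBlock M H then irrDeg θ ^ 2 else 0) ≤
      (∑ χ : IrrCharacter G, if χ ∈ principalBlock M G then irrDeg χ ^ 2 else 0) ∧
    (∑ χ : IrrCharacter G, if χ ∈ principalBlock M G then irrDeg χ ^ 2 else 0) ≤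
      H.index * ∑ θ : IrrCharacter H, if θ ∈ principalBlock M H then irrDeg θ ^ 2 else 0 := by
  have : Finite G := Finite.of_fintype G
  have hres : ∀ χ : IrrCharacter G, IsCharacter H (fun n : H => (χ : G → ℂ) n) :=
    fun χ => Cfsg.Agent.Helper8.isCharacter_restrict H (IsIrrCharacter.isCharacter χ.2)
  have hm : ∀ (χ : IrrCharacter G) (θ : IrrCharacter H), ∃ m : ℕ,
      classInner (fun n : H => (χ : G → ℂ) n) (θ : H → ℂ) = m :=
    fun χ θ => IsCharacter.classInner_irr_nat (hres χ) θ
  choose m hm using hm
  -- (R1)
  have hR1 : ∀ χ : IrrCharacter G, irrDeg χ = ∑ θ : IrrCharacter H, m χ θ * irrDeg θ := by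
    intro χ
    have hexp := congrFun (IsCharacter.eq_sum_classInner (hres χ)) 1
    rw [Finset.sum_apply] at hexp
    simp only [Pi.smul_apply, smul_eq_mul] at hexp
    have h1 : ((1 : H) : G) = 1 := rfl
    rw [h1, irrDeg_spec] at hexp
    have h2 : (irrDeg χ : ℂ) = ((∑ θ : IrrCharacter H, m χ θ * irrDeg θ : ℕ) : ℂ) := by
      rw [hexp]
      push_cast
      refine Finset.sum_congr rfl fun θ _ => ?_
      rw [hm χ θ, irrDeg_spec]
    exact_mod_cast h2
  -- (R2)
  have hR2 : ∀ θ : IrrCharacter H, ∑ χ : IrrCharacter G, m χ θ * irrDeg χ = H.index * irrDeg θ := by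
    intro θ
    have hind : IsCharacter G (indFun H (θ : H → ℂ)) :=
      isCharacter_indFun H (IsIrrCharacter.isCharacter θ.2)
    have hexp := congrFun (IsCharacter.eq_sum_classInner hind) 1
    rw [Finset.sum_apply, indFun_apply_one] at hexp
    simp only [Pi.smul_apply, smul_eq_mul] at hexp
    have h2 : ((∑ χ : IrrCharacter G, m χ θ * irrDeg χ : ℕ) : ℂ) = ((H.index * irrDeg θ : ℕ) : ℂ) := by
      push_cast
      rw [← irrDeg_spec θ, hexp]
      refine Finset.sum_congr rfl fun χ _ => ?_
      rw [Cfsg.Agent.Helper8.frobenius_reciprocity H (θ : H → ℂ) (χ : G → ℂ)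
        (isClassFunction_irr χ), ← classInner_conj_symm, hm χ θ, Complex.conj_natCast,
        irrDeg_spec]
    exact_mod_cast h2
  -- (a), (b)
  have ha : ∀ (χ : IrrCharacter G) (θ : IrrCharacter H), χ ∈ principalBlock M G → m χ θ ≠ 0 →
      θ ∈ principalBlock M H := by
    intro χ θ hχ hne
    apply mem_principalBlock_of_constituent hM H χ hχ θ
    rw [hm χ θ]
    exact_mod_cast hne
  have hb : ∀ θ : IrrCharacter H, θ ∈ principalBlock M H →
      ∃ χ : IrrCharacter G, χ ∈ principalBlock M G ∧ m χ θ ≠ 0 := by
    intro θ hθ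
    obtain ⟨χ, hχ, hne⟩ := exists_mem_principalBlock_over hM H θ hθ
    refine ⟨χ, hχ, ?_⟩
    rw [hm χ θ] at hne
    exact_mod_cast hne
  constructor
  · -- lower bound
    calc (∑ θ : IrrCharacter H, if θ ∈ principalBlock M H then irrDeg θ ^ 2 else 0)
        ≤ ∑ θ : IrrCharacter H, ∑ χ : IrrCharacter G,
            (if χ ∈ principalBlock M G then (if m χ θ ≠ 0 then irrDeg θ ^ 2 else 0) else 0) := by
          apply Finset.sum_le_sum
          intro θ _
          by_cases hθ : θ ∈ principalBlock M H
          · rw [if_pos hθ]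
            obtain ⟨χ₀, hχ₀, hne⟩ := hb θ hθ
            have := Finset.single_le_sum (s := (Finset.univ : Finset (IrrCharacter G)))
              (f := fun χ : IrrCharacter G => (if χ ∈ principalBlock M G then
                (if m χ θ ≠ 0 then irrDeg θ ^ 2 else 0) else 0 : ℕ))
              (fun _ _ => Nat.zero_le _) (Finset.mem_univ χ₀)
            simpa [if_pos hχ₀, if_pos hne] using this
          · rw [if_neg hθ]; exact Nat.zero_le _
      _ = ∑ χ : IrrCharacter G, (if χ ∈ principalBlock M G then
            ∑ θ : IrrCharacter H, (if m χ θ ≠ 0 then irrDeg θ ^ 2 else 0) else 0) := by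
          rw [Finset.sum_comm]
          refine Finset.sum_congr rfl fun χ _ => ?_
          by_cases hχ : χ ∈ principalBlock M G
          · simp only [if_pos hχ]
          · simp only [if_neg hχ, Finset.sum_const_zero]
      _ ≤ ∑ χ : IrrCharacter G, if χ ∈ principalBlock M G then irrDeg χ ^ 2 else 0 := by
          apply Finset.sum_le_sum
          intro χ _
          by_cases hχ : χ ∈ principalBlock M G
          · rw [if_pos hχ, if_pos hχ]
            calc ∑ θ : IrrCharacter H, (if m χ θ ≠ 0 then irrDeg θ ^ 2 else 0)
                ≤ ∑ θ : IrrCharacter H, (m χ θ * irrDeg θ) ^ 2 := by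
                  apply Finset.sum_le_sum
                  intro θ _
                  by_cases hne : m χ θ ≠ 0
                  · rw [if_pos hne]
                    apply Nat.pow_le_pow_left
                    exact Nat.le_mul_of_pos_left _ (Nat.pos_of_ne_zero hne)
                  · rw [if_neg hne]; exact Nat.zero_le _
              _ ≤ (∑ θ : IrrCharacter H, m χ θ * irrDeg θ) ^ 2 := sum_sq_le_sq_sum_nat _ _
              _ = irrDeg χ ^ 2 := by rw [← hR1 χ]
          · rw [if_neg hχ, if_neg hχ]
  · -- upper bound
    calc (∑ χ : IrrCharacter G, if χ ∈ principalBlock M G then irrDeg χ ^ 2 else 0)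
        = ∑ χ : IrrCharacter G, ∑ θ : IrrCharacter H,
            (if χ ∈ principalBlock M G then irrDeg χ * (m χ θ * irrDeg θ) else 0) := by
          refine Finset.sum_congr rfl fun χ _ => ?_
          by_cases hχ : χ ∈ principalBlock M G
          · simp only [if_pos hχ]
            rw [← Finset.mul_sum, ← hR1 χ, pow_two]
          · simp only [if_neg hχ, Finset.sum_const_zero]
      _ ≤ ∑ χ : IrrCharacter G, ∑ θ : IrrCharacter H,
            (if θ ∈ principalBlock M H then irrDeg θ * (m χ θ * irrDeg χ) else 0) := by
          apply Finset.sum_le_sum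
          intro χ _
          apply Finset.sum_le_sum
          intro θ _
          by_cases hχ : χ ∈ principalBlock M G
          · rw [if_pos hχ]
            by_cases hne : m χ θ = 0
            · rw [hne]; simp
            · rw [if_pos (ha χ θ hχ hne)]
              exact le_of_eq (by ring)
          · rw [if_neg hχ]; exact Nat.zero_le _
      _ = H.index * ∑ θ : IrrCharacter H,
            if θ ∈ principalBlock M H then irrDeg θ ^ 2 else 0 := by
          rw [Finset.sum_comm, Finset.mul_sum]
          refine Finset.sum_congr rfl fun θ _ => ?_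
          by_cases hθ : θ ∈ principalBlock M H
          · simp only [if_pos hθ]
            rw [← Finset.mul_sum, hR2 θ]
            ring
          · simp only [if_neg hθ, Finset.sum_const_zero, mul_zero]

end Cfsg.Agent.Helper5.PN
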