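import Mathlib
import Cfsg.Agent.Helper16.AutCentSylow

set_option autoImplicit false
set_option linter.unusedSectionVars false
set_option linter.unusedVariables false

namespace Cfsg.Agent.S3206P

/-- SE: `N ⊴ E` with `O_{2'}(N) = 1`, `C_E(N) = 1`, `V` an abelian Sylow 2-subgroup of `N`; an element `e` of
`E` of 2-power order centralising `V` lies in `V` (conjugation by `e` on `N` is inner by
`Helper16.AutCentSylow.inner_of_fix_abelian_sylow`, induced by some `v ∈ V`; `v⁻¹ e ∈ C_E(N) = 1`). -/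
theorem SE {E : Type*} [Group E] [Finite E] (N : Subgroup E) [N.Normal]
    (hcore : Cfsg.pPrimeCore 2 ↥N = ⊥) (hNc : Subgroup.centralizer (N : Set E) = ⊥)
    (V : Sylow 2 ↥N)
    (hV : ∀ x ∈ (V : Subgroup ↥N), ∀ y ∈ (V : Subgroup ↥N), x * y = y * x)
    (e : E) (he2 : ∃ j : ℕ, orderOf e = 2 ^ j)
    (hcomm : ∀ v : ↥N, v ∈ (V : Subgroup ↥N) → e * (v : E) = (v : E) * e) :
    ∃ v : ↥N, v ∈ (V : Subgroup ↥N) ∧ e = (v : E) := by
  classical
  obtain ⟨j, hj⟩ := he2
  -- conjugation by `e` on `N`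
  set α : MulAut ↥N := MulAut.conjNormal e with hα
  have hαapp : ∀ x : ↥N, ((α x : ↥N) : E) = e * (x : E) * e⁻¹ := by
    intro x
    rw [hα, MulAut.conjNormal_apply]
  -- the order of `α` is a power of 2
  have hαpow : α ^ (2 ^ j) = 1 := by
    rw [hα, ← map_pow, ← hj, pow_orderOf_eq_one, map_one]
  have hαord : ∃ i : ℕ, orderOf α = 2 ^ i := by
    have hdvd : orderOf α ∣ 2 ^ j := orderOf_dvd_of_pow_eq_one hαpow
    obtain ⟨i, _, hi⟩ := (Nat.dvd_prime_pow Nat.prime_two).1 hdvd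
    exact ⟨i, hi⟩
  -- `α` fixes `V` pointwise
  have hfix : ∀ x ∈ (V : Subgroup ↥N), α x = x := by
    intro x hx
    apply Subtype.ext
    rw [hαapp, hcomm x hx]
    group
  obtain ⟨g, hgV, hg⟩ :=
    Cfsg.Agent.Helper16.AutCentSylow.inner_of_fix_abelian_sylow hcore V hV α hαord hfix
  refine ⟨g, hgV, ?_⟩
  -- `g⁻¹ e` centralises `N`
  have hcent : (g : E)⁻¹ * e ∈ Subgroup.centralizer (N : Set E) := by
    rw [Subgroup.mem_centralizer_iff]
    intro n hn
    have h1 := congrArg (Subtype.val) (hg ⟨n, hn⟩)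
    rw [hαapp] at h1
    simp only [Subgroup.coe_mul, Subgroup.coe_inv] at h1
    -- h1 : e * n * e⁻¹ = g * n * g⁻¹
    have h2 : n * ((g : E)⁻¹ * e) = (g : E)⁻¹ * (↑g * n * (↑g)⁻¹) * e := by group
    rw [h2, ← h1]
    group
  rw [hNc, Subgroup.mem_bot] at hcent
  calc e = (g : E) * ((g : E)⁻¹ * e) := by group
    _ = (g : E) := by rw [hcent, mul_one]

end Cfsg.Agent.S3206P
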