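import Mathlib
import Cfsg.Agent.Helper25.S5165.Defs
import Cfsg.Agent.Helper24.S5165LIBA
import Cfsg.Agent.Helper7.S5165SIGNS
import Cfsg.Agent.Helper4.S5165KER1
import Cfsg.Agent.Helper18.S5165KER2
import Cfsg.Agent.Helper7.S5165KER3

set_option autoImplicit false
set_option linter.unusedSectionVars false
set_option linter.unusedVariables false

/-! S5165 piece KER4 (driver helper25): `base f * torus a * lift σ` with `∏ a = 1`, `σ` even, is a product of
`p`-elements of `N(Bsub) ∩ A`. -/

namespace Cfsg.Agent.S5165P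

open Equiv

section chapB

variable {p : ℕ} [Fact p.Prime] {I : Type} [Fintype I] [DecidableEq I] {r : ℕ}

namespace KER4

/-- the generating set -/
def Sset (p : ℕ) [Fact p.Prime] (I : Type) [Fintype I] [DecidableEq I] (r : ℕ) :
    Set (Perm (X p I r)) :=
  {h : Perm (X p I r) | h ∈ alternatingGroup (X p I r) ∧
    h ∈ Subgroup.normalizer ((Bsub p I r : Subgroup (Perm (X p I r))) : Set (Perm (X p I r))) ∧
    IsPElt p h}

theorem base_mem (hp : p ≠ 2) (f : I → ZMod p) : base (r := r) f ∈ Sset p I r := by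
  have hpe : IsPElt p (base (r := r) f) := by
    have hdvd : orderOf (base (r := r) f) ∣ p := orderOf_dvd_of_pow_eq_one (LIBA.base_pow_p f)
    rcases (Nat.dvd_prime (Fact.out : p.Prime)).1 hdvd with h | h
    · exact ⟨0, by rw [h, pow_zero]⟩
    · exact ⟨1, by rw [h, pow_one]⟩
  refine ⟨?_, ?_, hpe⟩
  · rw [Equiv.Perm.mem_alternatingGroup]
    exact SIGNS.sign_of_isPElt hp _ hpe
  · have := SIGNS.normalizes_Bsub (r := r) f (1 : I → (ZMod p)ˣ) (1 : Perm I)
    rwa [LIBA.torus_one, map_one, mul_one, mul_one] at this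

theorem lift_mem (hp : p ≠ 2) (c : Perm I) (hc : c.cycleType = {p}) :
    lift (p := p) (r := r) c ∈ Sset p I r := by
  have hoc : orderOf c = p := by
    rw [← Equiv.Perm.lcm_cycleType, hc]
    simp
  have hpe : IsPElt p (lift (p := p) (r := r) c) := by
    refine ⟨1, ?_⟩
    rw [pow_one, orderOf_injective (lift (p := p) (r := r)) LIBA.lift_injective c, hoc]
  refine ⟨?_, ?_, hpe⟩
  · rw [Equiv.Perm.mem_alternatingGroup]
    exact SIGNS.sign_of_isPElt hp _ hpe
  · have := SIGNS.normalizes_Bsub (r := r) (0 : I → ZMod p) (1 : I → (ZMod p)ˣ) c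
    rwa [LIBA.base_zero, LIBA.torus_one, one_mul, one_mul] at this

/-- `torus` as a homomorphism -/
def torusHom (p : ℕ) [Fact p.Prime] (I : Type) [Fintype I] [DecidableEq I] (r : ℕ) :
    (I → (ZMod p)ˣ) →* Perm (X p I r) where
  toFun := torus
  map_one' := LIBA.torus_one
  map_mul' := LIBA.torus_mul

theorem torus_mem (hp : p ≠ 2) (hpI : p ≤ Fintype.card I) (a : I → (ZMod p)ˣ)
    (ha : ∏ i, a i = 1) : torus (r := r) a ∈ Subgroup.closure (Sset p I r) := by
  have h := KER2.mem_closure a ha
  have hle : Subgroup.closure {b : I → (ZMod p)ˣ | ∃ (i j : I) (u : (ZMod p)ˣ), i ≠ j ∧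
      b = Pi.mulSingle i u * Pi.mulSingle j u⁻¹} ≤
      (Subgroup.closure (Sset p I r)).comap (torusHom p I r) := by
    rw [Subgroup.closure_le]
    rintro b ⟨i, j, u, hij, rfl⟩
    exact KER3.torus_mem hp hpI hij u
  exact hle h

theorem lift_mem_closure (hp : p ≠ 2) (hpI : p ≤ Fintype.card I) (σ : Perm I)
    (hσ : σ ∈ alternatingGroup I) : lift (p := p) (r := r) σ ∈ Subgroup.closure (Sset p I r) := by
  have h := KER1.alternating_le hp hpI hσ
  have hle : Subgroup.closure {c : Perm I | c.cycleType = {p}} ≤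
      (Subgroup.closure (Sset p I r)).comap (lift (p := p) (r := r)) := by
    rw [Subgroup.closure_le]
    intro c hc
    exact Subgroup.subset_closure (lift_mem hp c hc)
  exact hle h

end KER4

theorem KER4.mem_closure (hp : p ≠ 2) (hpI : p ≤ Fintype.card I) (f : I → ZMod p)
    (a : I → (ZMod p)ˣ) (σ : Perm I) (ha : ∏ i, a i = 1) (hσ : σ ∈ alternatingGroup I) :
    base f * torus a * lift σ ∈
      Subgroup.closure {h : Perm (X p I r) | h ∈ alternatingGroup (X p I r) ∧
        h ∈ Subgroup.normalizer ((Bsub p I r : Subgroup (Perm (X p I r))) : Set (Perm (X p I r))) ∧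
        IsPElt p h} := by
  apply Subgroup.mul_mem
  · apply Subgroup.mul_mem
    · exact Subgroup.subset_closure (KER4.base_mem hp f)
    · exact KER4.torus_mem hp hpI a ha
  · exact KER4.lift_mem_closure hp hpI σ hσ

end chapB

end Cfsg.Agent.S5165P
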