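import Mathlib
import Cfsg.Agent.Helper25.S5165.Defs
import Cfsg.Agent.Helper24.S5165LIBA
import Cfsg.Agent.Helper24.S5165LIBB
import Cfsg.Agent.Helper23.S5165TYPEB
import Cfsg.Agent.Helper7.S5165PCYC

set_option autoImplicit false
set_option linter.unusedSectionVars false
set_option linter.unusedVariables false

/-! S5165 piece NORMBASE (driver helper25): `N(SQ r Q) ≤ N(Bsub)`. -/

namespace Cfsg.Agent.S5165P

open Equiv

section chapB

variable {p : ℕ} [Fact p.Prime] {I : Type} [Fintype I] [DecidableEq I] {r : ℕ}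

namespace NORMBASE

theorem cycleType_cyc (i : I) : (cyc (p := p) (r := r) i).cycleType = {p} := by
  unfold cyc
  rw [TYPEB.cycleType_base]
  have : (Finset.univ.filter (fun j => (Pi.single i (1 : ZMod p) : I → ZMod p) j ≠ 0)) = {i} := by
    ext j
    simp only [Finset.mem_filter, Finset.mem_univ, true_and, Finset.mem_singleton]
    constructor
    · intro h
      by_contra hne
      exact h (Pi.single_eq_of_ne hne _)
    · rintro rfl
      rw [Pi.single_eq_same]
      exact one_ne_zero
  rw [this, Finset.card_singleton, Multiset.replicate_one]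

theorem conj_mem (Q : Subgroup (Perm I)) (g : Perm (X p I r))
    (hg : g ∈ Subgroup.normalizer ((SQ r Q : Subgroup (Perm (X p I r))) : Set (Perm (X p I r))))
    (b : Perm (X p I r)) (hb : b ∈ Bsub p I r) : g * b * g⁻¹ ∈ Bsub p I r := by
  rw [LIBB.Bsub_eq_closure] at hb
  induction hb using Subgroup.closure_induction with
  | mem x hx =>
    obtain ⟨i, rfl⟩ := hx
    have hmem : cyc (p := p) (r := r) i ∈ SQ r Q := by
      apply LIBB.Bsub_le_SQ Q
      exact mem_Bsub.2 ⟨_, rfl⟩
    have h1 : g * cyc i * g⁻¹ ∈ SQ r Q := (Subgroup.mem_normalizer_iff.1 hg _).1 hmem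
    have h2 : (g * cyc (p := p) (r := r) i * g⁻¹).cycleType = {p} := by
      rw [Equiv.Perm.cycleType_conj, cycleType_cyc]
    obtain ⟨j, k, -, hjk⟩ := PCYC.eq_base_single Q _ h1 h2
    rw [hjk]
    exact mem_Bsub.2 ⟨_, rfl⟩
  | one =>
    rw [mul_one, mul_inv_cancel]
    exact Subgroup.one_mem _
  | mul x y _ _ hx hy =>
    have : g * (x * y) * g⁻¹ = (g * x * g⁻¹) * (g * y * g⁻¹) := by group
    rw [this]
    exact Subgroup.mul_mem _ hx hy
  | inv x _ hx =>
    have : g * x⁻¹ * g⁻¹ = (g * x * g⁻¹)⁻¹ := by group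
    rw [this]
    exact Subgroup.inv_mem _ hx

end NORMBASE

theorem NORMBASE.normalizer_le (Q : Subgroup (Perm I)) :
    Subgroup.normalizer ((SQ r Q : Subgroup (Perm (X p I r))) : Set (Perm (X p I r))) ≤
      Subgroup.normalizer ((Bsub p I r : Subgroup (Perm (X p I r))) : Set (Perm (X p I r))) := by
  intro g hg
  rw [Subgroup.mem_normalizer_iff]
  intro h
  constructor
  · intro hh
    exact NORMBASE.conj_mem Q g hg h hh
  · intro hh
    have hg' := Subgroup.inv_mem _ hg
    have := NORMBASE.conj_mem Q g⁻¹ hg' _ hh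
    have e : g⁻¹ * (g * h * g⁻¹) * g⁻¹⁻¹ = h := by group
    rwa [e] at this

end chapB

end Cfsg.Agent.S5165P
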