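import Mathlib
import Cfsg.Prelude.Def_FusionSystem
import Cfsg.Prelude.Def_PLocal

/-!
# S5220 pieces TJ1 + TJ2 (helper5): the abelian-version Thompson subgroup `thompsonSubgroupAOf`

Only the subgroup `T` is assumed finite, never the ambient group.
-/

set_option autoImplicit false

open Cfsg

namespace Cfsg.Agent.Helper5.GenF

variable {Ω : Type*} [Group Ω]

/-- the abelian subgroups of `T` of largest order, as subgroups of the ambient group -/
def famA (T : Subgroup Ω) : Set (Subgroup Ω) :=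
  {A | A ≤ T ∧ (∀ x ∈ A, ∀ y ∈ A, x * y = y * x) ∧
    ∀ B : Subgroup Ω, B ≤ T → (∀ x ∈ B, ∀ y ∈ B, x * y = y * x) → Nat.card B ≤ Nat.card A}

theorem isMulCommutative_iff {H : Type*} [Group H] (A : Subgroup H) :
    IsMulCommutative A ↔ ∀ x ∈ A, ∀ y ∈ A, x * y = y * x := by
  constructor
  · intro h x hx y hy
    have := h.is_comm.comm (⟨x, hx⟩ : A) ⟨y, hy⟩
    exact congrArg Subtype.val this
  · intro h
    exact ⟨⟨fun a b => Subtype.ext (h a.1 a.2 b.1 b.2)⟩⟩

theorem map_thompsonSubgroupA {H : Type*} [Group H] (f : H →* Ω) (hf : Function.Injective f) :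
    (thompsonSubgroupA H).map f = sSup (famA f.range) := by
  unfold thompsonSubgroupA
  rw [(Subgroup.gc_map_comap f).l_sSup, ← sSup_image]
  congr 1
  ext A
  constructor
  · rintro ⟨A', hA', rfl⟩
    obtain ⟨hc, hmax⟩ := hA'
    rw [isMulCommutative_iff] at hc
    refine ⟨?_, ?_, ?_⟩
    · rintro _ ⟨x, _, rfl⟩
      exact ⟨x, rfl⟩
    · rintro _ ⟨x, hx, rfl⟩ _ ⟨y, hy, rfl⟩
      rw [← map_mul, ← map_mul, hc x hx y hy]
    · intro B hB hBc
      have h1 : IsMulCommutative (B.comap f) := by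
        rw [isMulCommutative_iff]
        intro x hx y hy
        apply hf
        rw [map_mul, map_mul]
        exact hBc _ hx _ hy
      have h2 : (B.comap f).map f = B := by
        rw [Subgroup.map_comap_eq]
        exact inf_eq_right.mpr hB
      calc Nat.card B = Nat.card ((B.comap f).map f) := by rw [h2]
        _ = Nat.card (B.comap f) := Subgroup.card_map_of_injective hf
        _ ≤ Nat.card A' := hmax _ h1
        _ = Nat.card (A'.map f) := (Subgroup.card_map_of_injective hf).symm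
  · rintro ⟨hle, hc, hmax⟩
    have h2 : (A.comap f).map f = A := by
      rw [Subgroup.map_comap_eq]
      exact inf_eq_right.mpr hle
    refine ⟨A.comap f, ⟨?_, ?_⟩, h2⟩
    · rw [isMulCommutative_iff]
      intro x hx y hy
      apply hf
      rw [map_mul, map_mul]
      exact hc _ hx _ hy
    · intro B' hB'
      rw [isMulCommutative_iff] at hB'
      have h3 : Nat.card (B'.map f) ≤ Nat.card A := by
        apply hmax
        · rintro _ ⟨x, _, rfl⟩
          exact ⟨x, rfl⟩
        · rintro _ ⟨x, hx, rfl⟩ _ ⟨y, hy, rfl⟩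
          rw [← map_mul, ← map_mul, hB' x hx y hy]
      calc Nat.card B' = Nat.card (B'.map f) := (Subgroup.card_map_of_injective hf).symm
        _ ≤ Nat.card A := h3
        _ = Nat.card ((A.comap f).map f) := by rw [h2]
        _ = Nat.card (A.comap f) := Subgroup.card_map_of_injective hf

theorem JA_eq_sSup (T : Subgroup Ω) : thompsonSubgroupAOf T = sSup (famA T) := by
  unfold thompsonSubgroupAOf
  rw [map_thompsonSubgroupA T.subtype T.subtype_injective, Subgroup.range_subtype]

theorem famA_nonempty (T : Subgroup Ω) [Finite T] : (famA T).Nonempty := by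
  classical
  let S : Set ℕ := {n | ∃ B : Subgroup Ω, B ≤ T ∧ (∀ x ∈ B, ∀ y ∈ B, x * y = y * x) ∧ Nat.card B = n}
  have hne : S.Nonempty := by
    refine ⟨Nat.card (⊥ : Subgroup Ω), ⊥, bot_le, ?_, rfl⟩
    intro x hx y hy
    rw [Subgroup.mem_bot] at hx hy
    rw [hx, hy]
  have hbdd : BddAbove S := by
    refine ⟨Nat.card T, ?_⟩
    rintro n ⟨B, hB, -, rfl⟩
    exact Subgroup.card_le_of_le hB
  obtain ⟨A, hA, hAc, hAn⟩ := Nat.sSup_mem hne hbdd
  refine ⟨A, hA, hAc, ?_⟩
  intro B hB hBc
  rw [hAn]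
  exact le_csSup hbdd ⟨B, hB, hBc, rfl⟩

theorem commute_closure {S : Set Ω} (h : ∀ x ∈ S, ∀ y ∈ S, x * y = y * x) :
    ∀ x ∈ Subgroup.closure S, ∀ y ∈ Subgroup.closure S, x * y = y * x := by
  have h1 : Subgroup.closure S ≤ Subgroup.centralizer S := by
    rw [Subgroup.closure_le]
    intro x hx
    rw [SetLike.mem_coe, Subgroup.mem_centralizer_iff]
    intro y hy
    exact h y hy x hx
  have h2 : Subgroup.closure S ≤ Subgroup.centralizer (Subgroup.closure S : Set Ω) := by
    rw [Subgroup.closure_le]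
    intro x hx
    rw [SetLike.mem_coe, Subgroup.mem_centralizer_iff]
    intro y hy
    have := h1 hy
    rw [Subgroup.mem_centralizer_iff] at this
    exact (this x hx).symm
  intro x hx y hy
  have := h2 hx
  rw [Subgroup.mem_centralizer_iff] at this
  exact (this y hy).symm

/-- TJ1 (a) -/
theorem center_le_JA (T : Subgroup Ω) [Finite T] :
    T ⊓ Subgroup.centralizer (T : Set Ω) ≤ Cfsg.thompsonSubgroupAOf T := by
  intro z hz
  rw [Subgroup.mem_inf] at hz
  obtain ⟨hzT, hzC⟩ := hz
  rw [Subgroup.mem_centralizer_iff] at hzC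
  obtain ⟨A, hA⟩ := famA_nonempty T
  rw [JA_eq_sSup]
  refine (le_sSup hA) ?_
  obtain ⟨hAT, hAc, hAmax⟩ := hA
  let A2 : Subgroup Ω := Subgroup.closure ((A : Set Ω) ∪ {z})
  have hA2T : A2 ≤ T := by
    rw [Subgroup.closure_le]
    rintro x (hx | hx)
    · exact hAT hx
    · rw [Set.mem_singleton_iff] at hx
      rw [hx]
      exact hzT
  have hA2c : ∀ x ∈ A2, ∀ y ∈ A2, x * y = y * x := by
    apply commute_closure
    rintro x (hx | hx) y (hy | hy)
    · exact hAc x hx y hy
    · rw [Set.mem_singleton_iff] at hy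
      rw [hy]
      exact (hzC x (hAT hx))
    · rw [Set.mem_singleton_iff] at hx
      rw [hx]
      exact (hzC y (hAT hy)).symm
    · rw [Set.mem_singleton_iff] at hx hy
      rw [hx, hy]
  have hAA2 : A ≤ A2 := by
    intro x hx
    exact Subgroup.subset_closure (Or.inl hx)
  have : Finite A2 := Finite.of_injective (Subgroup.inclusion hA2T) (Subgroup.inclusion_injective hA2T)
  have heq : A = A2 := Subgroup.eq_of_le_of_card_ge hAA2 (hAmax A2 hA2T hA2c)
  rw [heq]
  exact Subgroup.subset_closure (Or.inr rfl)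

/-- TJ1 (b) -/
theorem JA_le (T : Subgroup Ω) : Cfsg.thompsonSubgroupAOf T ≤ T := by
  unfold thompsonSubgroupAOf
  exact Subgroup.map_subtype_le _

theorem famA_eq_of_le {T R : Subgroup Ω} [Finite T] (hRT : R ≤ T)
    (h : Cfsg.thompsonSubgroupAOf T ≤ R) : famA R = famA T := by
  have key : ∀ A ∈ famA T, A ∈ famA R := by
    rintro A hA
    have hAR : A ≤ R := le_trans (by rw [JA_eq_sSup]; exact le_sSup hA) h
    obtain ⟨hAT, hAc, hAmax⟩ := hA
    exact ⟨hAR, hAc, fun B hB hBc => hAmax B (le_trans hB hRT) hBc⟩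
  ext A
  constructor
  · rintro ⟨hAR, hAc, hAmax⟩
    obtain ⟨A0, hA0⟩ := famA_nonempty T
    have hA0R := key A0 hA0
    refine ⟨le_trans hAR hRT, hAc, ?_⟩
    intro B hB hBc
    exact le_trans (hA0.2.2 B hB hBc) (hAmax A0 hA0R.1 hA0.2.1)
  · exact key A

/-- TJ1 (c) -/
theorem JA_eq_of_le {T R : Subgroup Ω} [Finite T] (hRT : R ≤ T)
    (h : Cfsg.thompsonSubgroupAOf T ≤ R) :
    Cfsg.thompsonSubgroupAOf R = Cfsg.thompsonSubgroupAOf T := by
  rw [JA_eq_sSup, JA_eq_sSup, famA_eq_of_le hRT h]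

/-- TJ2 (a) -/
theorem JA_range {P : Subgroup Ω} [Finite P] (φ : P →* Ω) (hφ : Function.Injective φ) :
    Cfsg.thompsonSubgroupAOf φ.range = ((Cfsg.thompsonSubgroupAOf P).subgroupOf P).map φ := by
  have h1 : (Cfsg.thompsonSubgroupAOf P).subgroupOf P = thompsonSubgroupA P := by
    unfold thompsonSubgroupAOf Subgroup.subgroupOf
    exact Subgroup.comap_map_eq_self_of_injective P.subtype_injective _
  rw [h1, map_thompsonSubgroupA φ hφ, JA_eq_sSup]

/-- TJ2 (b) -/
theorem JA_le_of_equiv {S' P R : Subgroup Ω} [Finite S'] (hP : P ≤ S') (hR : R ≤ S')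
    (e : P ≃* R) (h : Cfsg.thompsonSubgroupAOf S' ≤ R) : Cfsg.thompsonSubgroupAOf S' ≤ P := by
  have : Finite P := Finite.of_injective (Subgroup.inclusion hP) (Subgroup.inclusion_injective hP)
  have : Finite R := Finite.of_injective (Subgroup.inclusion hR) (Subgroup.inclusion_injective hR)
  -- J(R) = J(S')
  have hJR : Cfsg.thompsonSubgroupAOf R = Cfsg.thompsonSubgroupAOf S' := JA_eq_of_le hR h
  -- the injective map P → Ω with range R
  let φ : P →* Ω := R.subtype.comp e.toMonoidHom
  have hφ : Function.Injective φ := by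
    intro x y hxy
    apply e.injective
    exact R.subtype_injective hxy
  have hrange : φ.range = R := by
    ext x
    constructor
    · rintro ⟨y, rfl⟩
      exact (e y).2
    · intro hx
      exact ⟨e.symm ⟨x, hx⟩, by simp [φ]⟩
  have hJφ := JA_range φ hφ
  rw [hrange] at hJφ
  -- card J(R) = card J(P)
  have hcard : Nat.card (Cfsg.thompsonSubgroupAOf R) = Nat.card (Cfsg.thompsonSubgroupAOf P) := by
    rw [hJφ, Subgroup.card_map_of_injective hφ]
    have : ((Cfsg.thompsonSubgroupAOf P).subgroupOf P).map P.subtype = Cfsg.thompsonSubgroupAOf P := by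
      rw [Subgroup.subgroupOf_map_subtype]
      exact inf_eq_left.mpr (JA_le P)
    rw [← this, Subgroup.card_map_of_injective P.subtype_injective]
    rw [this]
  -- famA P ⊆ famA S'
  obtain ⟨A0, hA0⟩ := famA_nonempty S'
  have hA0R : A0 ≤ R := le_trans (by rw [JA_eq_sSup]; exact le_sSup hA0) h
  -- transport A0 to P
  let A0' : Subgroup Ω := ((A0.subgroupOf R).map e.symm.toMonoidHom).map P.subtype
  have hA0'P : A0' ≤ P := Subgroup.map_subtype_le _
  have hA0'card : Nat.card A0' = Nat.card A0 := by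
    show Nat.card (((A0.subgroupOf R).map e.symm.toMonoidHom).map P.subtype) = _
    rw [Subgroup.card_map_of_injective P.subtype_injective,
      Subgroup.card_map_of_injective e.symm.injective]
    have : (A0.subgroupOf R).map R.subtype = A0 := by
      rw [Subgroup.subgroupOf_map_subtype]
      exact inf_eq_left.mpr hA0R
    rw [← Subgroup.card_map_of_injective R.subtype_injective, this]
  have hA0'c : ∀ x ∈ A0', ∀ y ∈ A0', x * y = y * x := by
    rintro _ ⟨_, ⟨x, hx, rfl⟩, rfl⟩ _ ⟨_, ⟨y, hy, rfl⟩, rfl⟩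
    have hxy : x * y = y * x := Subtype.ext (hA0.2.1 x.1 hx y.1 hy)
    rw [← map_mul, ← map_mul, ← map_mul, ← map_mul, hxy]
  have hsub : famA P ⊆ famA S' := by
    rintro A ⟨hAP, hAc, hAmax⟩
    refine ⟨le_trans hAP hP, hAc, ?_⟩
    intro B hB hBc
    calc Nat.card B ≤ Nat.card A0 := hA0.2.2 B hB hBc
      _ = Nat.card A0' := hA0'card.symm
      _ ≤ Nat.card A := hAmax A0' hA0'P hA0'c
  have hJP : Cfsg.thompsonSubgroupAOf P ≤ Cfsg.thompsonSubgroupAOf S' := by
    rw [JA_eq_sSup, JA_eq_sSup]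
    exact sSup_le_sSup hsub
  have : Finite (Cfsg.thompsonSubgroupAOf S') :=
    Finite.of_injective (Subgroup.inclusion (JA_le S')) (Subgroup.inclusion_injective _)
  have heq : Cfsg.thompsonSubgroupAOf P = Cfsg.thompsonSubgroupAOf S' := by
    apply Subgroup.eq_of_le_of_card_ge hJP
    rw [← hJR, hcard]
  rw [← heq]
  exact JA_le P

end Cfsg.Agent.Helper5.GenF
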