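import Mathlib
import Cfsg.Agent.Helper26.S4394Defs
import Cfsg.Agent.Helper18.QuadPS5
import Cfsg.Agent.Helper24.GagolaSolv
import Cfsg.Agent.Helper7.GenOff8
import Cfsg.Agent.Helper14.PCore

/-! # S4394, piece C2b (helper5): `p ≥ 5` is impossible in case (ii) (`p`-stability). -/

set_option autoImplicit false

namespace Cfsg.Agent.S4394P

open Cfsg Subgroup

/-- C2b (M): `p ≥ 5` is impossible in case (ii) (`p`-stability, `Helper18.QuadPS.isPStableOn_of_psolv`). -/
theorem C2b {G : Type*} [Group G] [Finite G] {p : ℕ} [Fact p.Prime] (hp : 3 < p)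
    (hsol : Cfsg.IsPSolvable p G) (T : Sylow p G)
    (hna : ¬ ∀ a b : ↥(T : Subgroup G), a * b = b * a)
    (Z : Subgroup ↥(T : Subgroup G)) (hZ : GoodZ p ↥(T : Subgroup G) Z)
    (hQT : Cfsg.pCore p G ≤ (T : Subgroup G))
    (hZQ : Z.map (T : Subgroup G).subtype ≤ Cfsg.pCore p G)
    (hQel : Cfsg.IsElementaryAbelian p (Cfsg.pCore p G))
    (hCQ : Subgroup.centralizer (Cfsg.pCore p G : Set G) = Cfsg.pCore p G) : False := by
  have hQn : (Cfsg.pCore p G).Normal := Cfsg.Agent.Helper14.pCore_normal p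
  have hp2 : p ≠ 2 := by omega
  have hp3 : p ≠ 3 := by omega
  have hst := Cfsg.Agent.Helper18.QuadPS.isPStableOn_of_psolv hp2 hp3 hsol (Cfsg.pCore p G) hQel
  have hbot : Cfsg.pCore p (G ⧸ Subgroup.centralizer (Cfsg.pCore p G : Set G)) = ⊥ :=
    Cfsg.Agent.Helper7.pCore_quotient_eq_bot_of_eq _ _ hCQ
      (Cfsg.Agent.Helper24.pCore_quotient_pCore p)
  obtain ⟨hZc, hcomm, -, -, -⟩ := hZ
  have key : ∀ a ∈ (T : Subgroup G), a ∈ Cfsg.pCore p G := by
    intro a ha
    have h1 : ⁅Cfsg.pCore p G, Subgroup.zpowers a⁆ ≤ Z.map (T : Subgroup G).subtype := by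
      rw [Subgroup.commutator_le]
      intro v hv g hg
      have hvT : v ∈ (T : Subgroup G) := hQT hv
      have hgT : g ∈ (T : Subgroup G) := by
        have : Subgroup.zpowers a ≤ (T : Subgroup G) := by
          rw [Subgroup.zpowers_le]; exact ha
        exact this hg
      refine Subgroup.mem_map.mpr ⟨_, hcomm ⟨v, hvT⟩ ⟨g, hgT⟩, ?_⟩
      simp [commutatorElement_def]
    have h2 : ⁅Z.map (T : Subgroup G).subtype, Subgroup.zpowers a⁆ = ⊥ := by
      rw [Subgroup.commutator_eq_bot_iff_le_centralizer]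
      intro z hz
      obtain ⟨z0, hz0, rfl⟩ := Subgroup.mem_map.mp hz
      rw [Subgroup.mem_centralizer_iff]
      intro g hg
      have hgT : g ∈ (T : Subgroup G) := by
        have : Subgroup.zpowers a ≤ (T : Subgroup G) := by
          rw [Subgroup.zpowers_le]; exact ha
        exact this hg
      have := Subgroup.mem_center_iff.mp (hZc hz0) ⟨g, hgT⟩
      have h3 := congrArg (Subtype.val) this
      simpa using h3
    have hquad : ⁅⁅Cfsg.pCore p G, Subgroup.zpowers a⁆, Subgroup.zpowers a⁆ = ⊥ := by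
      rw [eq_bot_iff, ← h2]
      exact Subgroup.commutator_mono h1 le_rfl
    have hmem := hst a hquad
    rw [hbot, Subgroup.mem_bot, QuotientGroup.eq_one_iff, hCQ] at hmem
    exact hmem
  apply hna
  intro a b
  have ha := key a.1 a.2
  have hb := key b.1 b.2
  apply Subtype.ext
  simp only [Subgroup.coe_mul]
  have h := hQel.1.is_comm.comm ⟨a.1, ha⟩ ⟨b.1, hb⟩
  exact congrArg Subtype.val h
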