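import Mathlib
import Cfsg.Prelude.Def_GeometricClasses
import Cfsg.Prelude.Def_Classical
import Cfsg.Prelude.Def_LieClassical

/-!
# S5982 piece PAIR (helper5): eigenvalue pairing `α ↔ c / α ^ q₀` for a similitude of a unitary form
-/

set_option autoImplicit false
open scoped MatrixGroups Matrix

namespace Cfsg.Agent.S5982P

namespace PAIR

variable {F : Type*} [Field F] [Fintype F] {q₀ : ℕ}

set_option linter.unusedSectionVars false

/-- the map `a ↦ a ^ q₀` is a ring endomorphism of order two -/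
theorem exists_sigma (hF : Fintype.card F = q₀ ^ 2) :
    ∃ σ : F →+* F, (∀ a, σ a = a ^ q₀) ∧ ∀ a, σ (σ a) = a := by
  let p := ringChar F
  have : CharP F p := ringChar.charP F
  have hp : Fact p.Prime := ⟨CharP.char_is_prime F p⟩
  obtain ⟨k, -, hk⟩ := FiniteField.card F p
  have h1 : q₀ ∣ p ^ (k : ℕ) := by
    rw [← hk, hF]
    exact Dvd.intro_left _ (by ring)
  obtain ⟨j, -, hj⟩ := (Nat.dvd_prime_pow hp.out).1 h1
  refine ⟨iterateFrobenius F p j, fun a => by rw [iterateFrobenius_def, hj], fun a => ?_⟩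
  rw [iterateFrobenius_def, iterateFrobenius_def, ← hj, ← pow_mul, ← sq, ← hF, FiniteField.pow_card]

variable {n : ℕ} {f' : (Fin n → F) → (Fin n → F) → F}

theorem add_right (hf' : Cfsg.Geo.IsUnitaryFormPow q₀ f') (σ : F →+* F) (hσ : ∀ a, σ a = a ^ q₀)
    (u v w : Fin n → F) : f' u (v + w) = f' u v + f' u w := by
  rw [hf'.herm, hf'.add_left, ← hσ, map_add, hσ, hσ, ← hf'.herm, ← hf'.herm]

theorem smul_right (hf' : Cfsg.Geo.IsUnitaryFormPow q₀ f') (σ : F →+* F) (hσ : ∀ a, σ a = a ^ q₀)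
    (a : F) (u v : Fin n → F) : f' u (a • v) = σ a * f' u v := by
  rw [hf'.herm, hf'.smul_left, mul_pow, ← hf'.herm, hσ]

theorem zero_right (hf' : Cfsg.Geo.IsUnitaryFormPow q₀ f') (σ : F →+* F) (hσ : ∀ a, σ a = a ^ q₀)
    (u : Fin n → F) : f' u 0 = 0 := by
  have := smul_right hf' σ hσ 0 u 0
  rwa [zero_smul, map_zero, zero_mul] at this

theorem sum_right (hf' : Cfsg.Geo.IsUnitaryFormPow q₀ f') (σ : F →+* F) (hσ : ∀ a, σ a = a ^ q₀)
    {ι : Type*} (s : Finset ι) (u : Fin n → F) (g : ι → Fin n → F) :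
    f' u (∑ i ∈ s, g i) = ∑ i ∈ s, f' u (g i) := by
  classical
  induction s using Finset.induction_on with
  | empty => simp [zero_right hf' σ hσ]
  | insert a s ha ih => rw [Finset.sum_insert ha, Finset.sum_insert ha, add_right hf' σ hσ, ih]

theorem sub_left (hf' : Cfsg.Geo.IsUnitaryFormPow q₀ f') (u v w : Fin n → F) :
    f' (u - v) w = f' u w - f' v w := by
  have h1 : u - v = u + (-1 : F) • v := by rw [neg_one_smul, sub_eq_add_neg]
  rw [h1, hf'.add_left, hf'.smul_left]
  ring

/-- the key inequality -/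
theorem finrank_le (hf' : Cfsg.Geo.IsUnitaryFormPow q₀ f') (σ : F →+* F) (hσ : ∀ a, σ a = a ^ q₀)
    (x : GL (Fin n) F) (c : F)
    (hc : ∀ u v, f' ((x : Matrix (Fin n) (Fin n) F) *ᵥ u) ((x : Matrix (Fin n) (Fin n) F) *ᵥ v) =
      c * f' u v) (α : F) (hα : α ≠ 0) :
    Module.finrank F (LinearMap.ker (Matrix.toLin' (x : Matrix (Fin n) (Fin n) F) -
        α • (1 : Module.End F (Fin n → F)))) ≤
      Module.finrank F (LinearMap.ker (Matrix.toLin' (x : Matrix (Fin n) (Fin n) F) -
        (c * (σ α)⁻¹) • (1 : Module.End F (Fin n → F)))) := by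
  classical
  set T : Module.End F (Fin n → F) := Matrix.toLin' (x : Matrix (Fin n) (Fin n) F) -
        α • (1 : Module.End F (Fin n → F)) with hT
  set W := LinearMap.range T with hW
  set r := Module.finrank F W with hr
  let b : Module.Basis (Fin r) F W := Module.finBasis F W
  -- the linear map `u ↦ (f' u (b i))_i`
  let Λ : (Fin n → F) →ₗ[F] (Fin r → F) :=
    { toFun := fun u i => f' u (b i : Fin n → F)
      map_add' := fun u v => by funext i; exact hf'.add_left u v _
      map_smul' := fun a u => by funext i; exact hf'.smul_left a u _ }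
  have hΛ : ∀ u i, Λ u i = f' u (b i : Fin n → F) := fun u i => rfl
  have hsub : LinearMap.ker Λ ≤ LinearMap.ker (Matrix.toLin' (x : Matrix (Fin n) (Fin n) F) -
        (c * (σ α)⁻¹) • (1 : Module.End F (Fin n → F))) := by
    intro u hu
    rw [LinearMap.mem_ker] at hu
    have hu' : ∀ i, f' u (b i : Fin n → F) = 0 := fun i => by
      rw [← hΛ, hu]; rfl
    have hW0 : ∀ w ∈ W, f' u w = 0 := by
      intro w hw
      have h1 := b.sum_repr ⟨w, hw⟩
      have h2 : w = ∑ i, (b.repr ⟨w, hw⟩ i) • (b i : Fin n → F) := by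
        have := congrArg (Subtype.val) h1
        simp only [Submodule.coe_sum, Submodule.coe_smul] at this
        exact this.symm
      rw [h2, sum_right hf' σ hσ]
      apply Finset.sum_eq_zero
      intro i _
      rw [smul_right hf' σ hσ, hu' i, mul_zero]
    have hσα : σ α ≠ 0 := by
      rw [hσ]; exact pow_ne_zero _ hα
    -- `f' u (x v) = σ α * f' u v`
    have h3 : ∀ v, f' u ((x : Matrix (Fin n) (Fin n) F) *ᵥ v) = σ α * f' u v := by
      intro v
      have h4 := hW0 (T v) ⟨v, rfl⟩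
      have h5 : (x : Matrix (Fin n) (Fin n) F) *ᵥ v = T v + α • v := by
        rw [hT]
        simp [Matrix.toLin'_apply]
      rw [h5, add_right hf' σ hσ, h4, zero_add, smul_right hf' σ hσ]
    set β := c * (σ α)⁻¹ with hβ
    set y := (x : Matrix (Fin n) (Fin n) F) *ᵥ u - β • u with hy
    have h6 : ∀ v, f' y ((x : Matrix (Fin n) (Fin n) F) *ᵥ v) = 0 := by
      intro v
      rw [hy, sub_left hf', hc, hf'.smul_left, h3, hβ]
      field_simp
      ring
    have h7 : ∀ v', f' y v' = 0 := by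
      intro v'
      have h8 : (x : Matrix (Fin n) (Fin n) F) *ᵥ (((x⁻¹ : GL (Fin n) F) :
          Matrix (Fin n) (Fin n) F) *ᵥ v') = v' := by
        rw [Matrix.mulVec_mulVec, ← Matrix.GeneralLinearGroup.coe_mul, mul_inv_cancel]
        simp
      rw [← h8]
      exact h6 _
    have h9 : y = 0 := by
      by_contra hne
      obtain ⟨-, ⟨v', hv'⟩⟩ := hf'.nondegenerate y hne
      exact hv' (h7 v')
    rw [LinearMap.mem_ker]
    rw [hy, sub_eq_zero] at h9
    simp only [LinearMap.sub_apply, Matrix.toLin'_apply, LinearMap.smul_apply,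
      Module.End.one_apply]
    rw [h9, sub_self]
  have h10 := LinearMap.finrank_range_add_finrank_ker Λ
  have h11 : Module.finrank F (LinearMap.range Λ) ≤ r := by
    have := Submodule.finrank_le (LinearMap.range Λ)
    rwa [Module.finrank_fin_fun] at this
  have h12 := LinearMap.finrank_range_add_finrank_ker T
  have h13 := Submodule.finrank_mono hsub
  rw [Module.finrank_fin_fun] at h10 h12
  have h14 : Module.finrank F (LinearMap.range T) = r := rfl
  omega

end PAIR

/-- PAIR: eigenvalue pairing `α ↔ c / α ^ q₀` for a similitude with factor `c` -/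
theorem finrank_ker_pair {F : Type*} [Field F] [Fintype F] {q₀ : ℕ} (hF : Fintype.card F = q₀ ^ 2)
    (n : ℕ) (f' : (Fin n → F) → (Fin n → F) → F) (hf' : Cfsg.Geo.IsUnitaryFormPow q₀ f')
    (x : GL (Fin n) F) (c : F)
    (hc : ∀ u v, f' ((x : Matrix (Fin n) (Fin n) F) *ᵥ u) ((x : Matrix (Fin n) (Fin n) F) *ᵥ v) =
      c * f' u v) (α : F) (hα : α ≠ 0) :
    Module.finrank F (LinearMap.ker (Matrix.toLin' (x : Matrix (Fin n) (Fin n) F) -
        α • (1 : Module.End F (Fin n → F)))) =
      Module.finrank F (LinearMap.ker (Matrix.toLin' (x : Matrix (Fin n) (Fin n) F) -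
        (c * (α ^ q₀)⁻¹) • (1 : Module.End F (Fin n → F)))) := by
  classical
  obtain ⟨σ, hσ, hσσ⟩ := PAIR.exists_sigma hF
  rcases Nat.eq_zero_or_pos n with hn | hn
  · subst hn
    have h0 : ∀ S : Submodule F (Fin 0 → F), Module.finrank F S = 0 := by
      intro S
      have := Submodule.finrank_le S
      rw [Module.finrank_fin_fun] at this
      omega
    rw [h0, h0]
  -- a pair with nonzero form value
  obtain ⟨v, hv⟩ : ∃ v : Fin n → F, v ≠ 0 := by
    refine ⟨fun _ => 1, fun h => ?_⟩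
    have := congrFun h ⟨0, hn⟩
    simp at this
  obtain ⟨⟨u, huv⟩, -⟩ := hf'.nondegenerate v hv
  have hcσ : σ c = c := by
    have h1 := hc u v
    rw [hf'.herm, hc, mul_pow, ← hf'.herm, ← hσ] at h1
    exact mul_right_cancel₀ huv h1
  have hc0 : c ≠ 0 := by
    intro h0
    apply huv
    have h8 : ∀ w : Fin n → F, (x : Matrix (Fin n) (Fin n) F) *ᵥ (((x⁻¹ : GL (Fin n) F) :
        Matrix (Fin n) (Fin n) F) *ᵥ w) = w := by
      intro w
      rw [Matrix.mulVec_mulVec, ← Matrix.GeneralLinearGroup.coe_mul, mul_inv_cancel]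
      simp
    rw [← h8 u, ← h8 v, hc, h0, zero_mul]
  have hσα : σ α ≠ 0 := by
    rw [hσ]; exact pow_ne_zero _ hα
  have hβ : c * (σ α)⁻¹ ≠ 0 := mul_ne_zero hc0 (inv_ne_zero hσα)
  have h1 := PAIR.finrank_le hf' σ hσ x c hc α hα
  have h2 := PAIR.finrank_le hf' σ hσ x c hc (c * (σ α)⁻¹) hβ
  have h3 : c * (σ (c * (σ α)⁻¹))⁻¹ = α := by
    rw [map_mul, map_inv₀, hσσ, hcσ]
    field_simp
  rw [h3] at h2
  rw [← hσ]
  exact le_antisymm h1 h2

end Cfsg.Agent.S5982P

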