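import Cfsg.Agent.Helper26.WEDefs
import Cfsg.Agent.Helper26.TT8
import Cfsg.Agent.Helper1.PGroup
import Cfsg.Agent.S5092

/-!
# S5271, piece FIN
-/

set_option autoImplicit false

open Cfsg Cfsg.FusionSystem Cfsg.Agent.Helper25 Cfsg.Agent.Helper26.MasterRed

namespace Cfsg.Agent.S5271P

theorem fin {Ω : Type*} [Group Ω] {S : Subgroup Ω} [Finite S] (p : ℕ) [Fact p.Prime]
    (hS : IsPGroup p S) (F : FusionSystem S) (hF : F.IsSaturated p) {X : Subgroup Ω}
    (hhyp : F.hyperfocalSubgroup p ≤ X) (hXfr : X ≤ (frattini ↥S).map S.subtype) :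
    Inner F := by
  rw [inner_iff]
  apply Cfsg.Agent.Helper26.TT.inner_of_focal_le_frattini p hS F hF
  rw [Cfsg.Agent.S5092.result p hS F hF]
  apply sup_le (hhyp.trans hXfr)
  have h1 : commutator ↥S ≤ frattini ↥S := Cfsg.Agent.Helper1.IsPGroup.commutator_le_frattini hS
  have h2 : (commutator ↥S).map S.subtype = ⁅(S : Subgroup Ω), (S : Subgroup Ω)⁆ := by
    rw [commutator_def, Subgroup.map_commutator, ← MonoidHom.range_eq_map, Subgroup.range_subtype]
  rw [← h2]
  exact Subgroup.map_mono h1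

end Cfsg.Agent.S5271P
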