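import Cfsg.Agent.Helper26.WEDefs

/-!
# S5271 piece HYPLE: if the factor system modulo `T` is inner, the hyperfocal subgroup lies in `T`.
-/

open Cfsg Cfsg.FusionSystem Cfsg.Agent.Helper25 Cfsg.Agent.Helper26.MasterRed

namespace Cfsg.Agent.S5271P

theorem hyple {Ω Ω' : Type*} [Group Ω] [Group Ω'] {S : Subgroup Ω} [Finite S]
    (p : ℕ) [Fact p.Prime] (hS : IsPGroup p S)
    (F : FusionSystem S) (hF : F.IsSaturated p) {T : Subgroup Ω} (hT : F.StronglyClosed T)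
    (θ : S →* Ω')
    (hker : ∀ s : S, θ s = 1 ↔ (s : Ω) ∈ T) {S' : Subgroup Ω'} (hrange : θ.range = S')
    (E : FusionSystem S')
    (hiff : ∀ (P' : Subgroup Ω') (φ' : P' →* Ω'),
      φ' ∈ E.Hom P' ↔ P' ≤ S' ∧ ∃ φ ∈ F.Hom (preimageAlong θ P'), InducedAlong θ φ φ')
    (h : Inner E) : F.hyperfocalSubgroup p ≤ T := by
  have h1 := Cfsg.Agent.Helper26.hyperfocal_factor_ge p F hT θ hker hrange E hiff hS hF
  have hS' : IsPGroup p S' := by
    subst hrange
    exact hS.of_surjective θ.rangeRestrict θ.rangeRestrict_surjective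
  have hE : E.hyperfocalSubgroup p = ⊥ := by
    unfold FusionSystem.hyperfocalSubgroup
    rw [Subgroup.closure_eq_bot_iff]
    rintro _ ⟨P, α, x, hPS, hα, rfl⟩
    have hle : E.autGroup P ≤ autInducedBy S' P := by
      intro β hβ
      rw [mem_autGroup_iff _ hPS] at hβ
      obtain ⟨g, hg, hgβ⟩ := h P _ hβ
      rw [mem_autInducedBy_iff]
      exact ⟨g, hg, hgβ⟩
    have hp : IsPGroup p (E.autGroup P) := (autInducedBy_isPGroup hS' P).to_le hle
    rw [Cfsg.Agent.Helper26.TT.pResidual_eq_bot_of_isPGroup p hp, Subgroup.mem_bot] at hα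
    rw [hα]
    simp
  rw [hE] at h1
  intro y hy
  have hyS : y ∈ S := hyperfocalSubgroup_le F p hy
  have h2 : θ ⟨y, hyS⟩ ∈ (⊥ : Subgroup Ω') := h1 ⟨⟨y, hyS⟩, hy, rfl⟩
  rw [Subgroup.mem_bot] at h2
  exact (hker _).mp h2

end Cfsg.Agent.S5271P
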