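import Cfsg.Agent.Helper26.WEDefs

/-!
# S5271 piece IMOD: the factor system of a system inner modulo `T` is inner.
-/

open Cfsg Cfsg.FusionSystem Cfsg.Agent.Helper25 Cfsg.Agent.Helper26.MasterRed

namespace Cfsg.Agent.S5271P

theorem imod {Ω Ω' : Type*} [Group Ω] [Group Ω'] {S : Subgroup Ω} [Finite S]
    (F : FusionSystem S) {T : Subgroup Ω} (hT : F.StronglyClosed T) (θ : S →* Ω')
    (hker : ∀ s : S, θ s = 1 ↔ (s : Ω) ∈ T) {S' : Subgroup Ω'} (hrange : θ.range = S')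
    (E : FusionSystem S')
    (hiff : ∀ (P' : Subgroup Ω') (φ' : P' →* Ω'),
      φ' ∈ E.Hom P' ↔ P' ≤ S' ∧ ∃ φ ∈ F.Hom (preimageAlong θ P'), InducedAlong θ φ φ')
    (h : InnerMod F T) : Inner E := by
  intro P' φ' hφ'
  obtain ⟨hP', φ, hφ, hind⟩ := (hiff P' φ').mp hφ'
  have hTP : T ≤ preimageAlong θ P' := ker_le_preimageAlong θ hT.1 hker P'
  obtain ⟨s, hs, hsx⟩ := h _ hTP φ hφ
  have hsS' : θ ⟨s, hs⟩ ∈ S' := by
    rw [← hrange]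
    exact ⟨_, rfl⟩
  refine ⟨θ ⟨s, hs⟩, hsS', fun y => ?_⟩
  obtain ⟨x, hx⟩ := exists_preimageAlong θ hrange hP' y
  have hφS : ∀ x, φ x ∈ S := (F.le_of_mem hφ).2
  have hxS : (x : Ω) ∈ S := preimageAlong_le θ P' x.2
  have h1 := inducedAlong_apply θ hind x hxS (preimageAlong_map_mem θ P' x) (hφS x)
  have e1 : (⟨θ ⟨x, hxS⟩, preimageAlong_map_mem θ P' x⟩ : ↥P') = y := Subtype.ext hx
  rw [e1] at h1
  rw [h1]
  have hmem := hsx x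
  have hS1 : s * (x : Ω) * s⁻¹ ∈ S := S.mul_mem (S.mul_mem hs hxS) (S.inv_mem hs)
  have h2 : θ (⟨φ x, hφS x⟩ * (⟨s, hs⟩ * ⟨x, hxS⟩ * ⟨s, hs⟩⁻¹)⁻¹) = 1 := by
    rw [hker]
    exact hmem
  rw [map_mul, map_inv, mul_inv_eq_one] at h2
  rw [h2, map_mul, map_mul, map_inv, hx]

end Cfsg.Agent.S5271P
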