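import Mathlib
import Cfsg.Agent.Helper29.EsnDefs

/-!
# S5877 piece NIL: the twist `x ↦ x⁻¹ σ(x)` is nilpotent of index `≤ r` on an abelian group of
exponent `r` when `σ ^ r = 1`.
-/

set_option autoImplicit false

namespace Cfsg.Agent.S5877P

namespace NIL

/-- the abstract version on a commutative group -/
theorem aux {B : Type*} [CommGroup B] (r : ℕ) (hr : r.Prime) (hexp : ∀ u : B, u ^ r = 1)
    (σ : B →* B) (hσ : ∀ u : B, (σ)^[r] u = u) (u : B) :
    (fun x : B => x⁻¹ * σ x)^[r] u = 1 := by
  let s : Module.End ℤ (Additive B) := (MonoidHom.toAdditive σ).toIntLinearMap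
  have hs_apply : ∀ a : Additive B, s a = Additive.ofMul (σ (Additive.toMul a)) := fun a => rfl
  have hr0 : ((r : ℕ) : Module.End ℤ (Additive B)) = 0 := by
    apply LinearMap.ext
    intro a
    rw [Module.End.natCast_apply]
    show Additive.ofMul ((Additive.toMul a) ^ r) = 0
    rw [hexp]
    rfl
  have hs_iter : ∀ (k : ℕ) (a : Additive B),
      (⇑s)^[k] a = Additive.ofMul ((σ)^[k] (Additive.toMul a)) := by
    intro k
    induction k with
    | zero => intro a; rfl
    | succ k ih =>
      intro a
      rw [Function.iterate_succ_apply', Function.iterate_succ_apply', ih, hs_apply]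
      rfl
  have hs : s ^ r = 1 := by
    apply LinearMap.ext
    intro a
    rw [Module.End.pow_apply, hs_iter, hσ]
    rfl
  have hcomm : Commute s (-1) := (Commute.one_right s).neg_right
  have hpow : (s - 1) ^ r = 0 := by
    rw [sub_eq_add_neg, hcomm.add_pow_prime_eq hr, hr0, hs]
    simp only [zero_mul, add_zero]
    rcases hr.eq_two_or_odd' with h2 | hodd
    · subst h2
      have : (1 : Module.End ℤ (Additive B)) + (-1) ^ 2 =
          ((2 : ℕ) : Module.End ℤ (Additive B)) := by
        norm_num
      rw [this, hr0]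
    · have h1 : (-1 : Module.End ℤ (Additive B)) ^ r = -1 := hodd.neg_one_pow
      rw [h1]
      exact add_neg_cancel 1
  have hstep : ∀ x : B, (s - 1) (Additive.ofMul x) = Additive.ofMul (x⁻¹ * σ x) := by
    intro x
    rw [LinearMap.sub_apply, Module.End.one_apply, hs_apply]
    show Additive.ofMul (σ x) - Additive.ofMul x = Additive.ofMul (x⁻¹ * σ x)
    rw [← ofMul_div, div_eq_mul_inv, mul_comm]
  have hiter : ∀ (k : ℕ) (x : B),
      ((s - 1) ^ k) (Additive.ofMul x) = Additive.ofMul ((fun x : B => x⁻¹ * σ x)^[k] x) := by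
    intro k
    induction k with
    | zero => intro x; rfl
    | succ k ih =>
      intro x
      rw [pow_succ', Function.iterate_succ_apply', Module.End.mul_apply, ih, hstep]
  have h := hiter r u
  rw [hpow] at h
  have h2 : Additive.ofMul ((fun x : B => x⁻¹ * σ x)^[r] u) = Additive.ofMul (1 : B) := by
    rw [← h]; rfl
  exact Additive.ofMul.injective h2

end NIL

theorem iterate_twist_eq_one {G : Type*} [Group G] (A : Subgroup G)
    (hab : ∀ u ∈ A, ∀ v ∈ A, u * v = v * u) (r : ℕ) (hr : r.Prime)
    (hexp : ∀ u ∈ A, u ^ r = 1) (g : G) (hgA : ∀ u ∈ A, g * u * g⁻¹ ∈ A) (hgr : g ^ r = 1)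
    (u : G) (hu : u ∈ A) : (fun x => x⁻¹ * (g * x * g⁻¹))^[r] u = 1 := by
  let _ : CommGroup A :=
    { (inferInstance : Group A) with mul_comm := fun a b => Subtype.ext (hab a a.2 b b.2) }
  let σ : A →* A :=
    { toFun := fun x => ⟨g * x * g⁻¹, hgA x x.2⟩
      map_one' := by apply Subtype.ext; simp
      map_mul' := fun x y => by apply Subtype.ext; simp [mul_assoc] }
  have hσk : ∀ (k : ℕ) (x : A), (((σ)^[k] x : A) : G) = g ^ k * x * (g ^ k)⁻¹ := by
    intro k
    induction k with
    | zero => intro x; simp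
    | succ k ih =>
      intro x
      rw [Function.iterate_succ_apply']
      show g * (((σ)^[k] x : A) : G) * g⁻¹ = _
      rw [ih, pow_succ']
      simp [mul_assoc]
  have hσr : ∀ x : A, (σ)^[r] x = x := by
    intro x
    apply Subtype.ext
    rw [hσk, hgr]
    simp
  have hexp' : ∀ x : A, x ^ r = 1 := fun x => Subtype.ext (by simpa using hexp x x.2)
  have hmain := NIL.aux r hr hexp' σ hσr ⟨u, hu⟩
  have hsemi : Function.Semiconj (fun x : A => (x : G)) (fun x : A => x⁻¹ * σ x)
      (fun x : G => x⁻¹ * (g * x * g⁻¹)) := fun x => rfl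
  have h2 := (hsemi.iterate_right r) ⟨u, hu⟩
  simp only at h2
  rw [← h2, hmain]
  rfl

end Cfsg.Agent.S5877P
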