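import Mathlib
import Cfsg.Agent.Helper29.EsnDefs

/-!
# S5877 piece GRP: a coprime automorphism of odd order of a group `Q` with `Q/Z` abelian and
`Z = Z(Q)` central in the ambient group, whose twists `a⁻¹ σ(a)` commute with their `σ`-images, is
trivial modulo `Z`.
-/

set_option autoImplicit false

namespace Cfsg.Agent.S5877P
namespace GRP

/-- Abstract linear version: `β` a biadditive, alternating-type, `σ`-invariant, nondegenerate pairing
on an abelian group `V` killed by `r`; `σ` of odd order `p` prime to `r`; if `β (τ a) (σ (τ a)) = 0`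
for all `a` (`τ = σ - 1`) then `τ = 0`. -/
theorem abs_lemma {V C : Type*} [AddCommGroup V] [AddCommGroup C]
    (β : V → V → C) (σ σ' : V →+ V)
    (hσσ' : ∀ x, σ (σ' x) = x) (hσ'σ : ∀ x, σ' (σ x) = x)
    (hl : ∀ x x' y, β (x + x') y = β x y + β x' y)
    (hr : ∀ x y y', β x (y + y') = β x y + β x y')
    (hinv : ∀ x y, β (σ x) (σ y) = β x y)
    (halt : ∀ x y, β y x = - β x y)
    (hnd : ∀ x, (∀ y, β y x = 0) → x = 0)
    (r p : ℕ) (hrV : ∀ x : V, r • x = 0) (hp : ∀ x, (σ)^[p] x = x)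
    (hodd : Odd p) (hcop : p.Coprime r)
    (hyp : ∀ a, β (σ a - a) (σ (σ a - a)) = 0) : ∀ a, σ a - a = 0 := by
  -- basic consequences of biadditivity
  have hl0 : ∀ y, β 0 y = 0 := by
    intro y
    have := hl 0 0 y
    rw [add_zero] at this
    exact left_eq_add.mp this
  have hr0 : ∀ x, β x 0 = 0 := by
    intro x
    have := hr x 0 0
    rw [add_zero] at this
    exact left_eq_add.mp this
  have hlneg : ∀ x y, β (-x) y = - β x y := by
    intro x y
    have := hl x (-x) y
    rw [add_neg_cancel, hl0] at this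
    exact eq_neg_of_add_eq_zero_right this.symm
  have hrneg : ∀ x y, β x (-y) = - β x y := by
    intro x y
    have := hr x y (-y)
    rw [add_neg_cancel, hr0] at this
    exact eq_neg_of_add_eq_zero_right this.symm
  have hlsub : ∀ x x' y, β (x - x') y = β x y - β x' y := by
    intro x x' y
    rw [sub_eq_add_neg, hl, hlneg, ← sub_eq_add_neg]
  have hrsub : ∀ x y y', β x (y - y') = β x y - β x y' := by
    intro x y y'
    rw [sub_eq_add_neg, hr, hrneg, ← sub_eq_add_neg]
  -- (4) the coprime lemma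
  have hsum : ∀ (y : V) (k : ℕ),
      ∑ i ∈ Finset.range k, (σ)^[i] (σ y - y) = (σ)^[k] y - y := by
    intro y k
    induction k with
    | zero => simp
    | succ k ih =>
      rw [Finset.sum_range_succ, ih, Function.iterate_succ_apply']
      have : (σ)^[k] (σ y - y) = σ ((σ)^[k] y) - (σ)^[k] y := by
        rw [iterate_map_sub, ← Function.iterate_succ_apply, Function.iterate_succ_apply']
      rw [this]
      abel
  have hfix_iter : ∀ (u : V), σ u = u → ∀ i : ℕ, (σ)^[i] u = u := by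
    intro u hu i
    induction i with
    | zero => rfl
    | succ i ih => rw [Function.iterate_succ_apply', ih, hu]
  have hcoprime : ∀ u y : V, u = σ y - y → σ u = u → u = 0 := by
    intro u y huy hu
    have h1 := hsum y p
    rw [hp, sub_self, ← huy] at h1
    have h2 : ∑ i ∈ Finset.range p, (σ)^[i] u = p • u := by
      rw [Finset.sum_congr rfl (fun i _ => hfix_iter u hu i), Finset.sum_const, Finset.card_range]
    rw [h2] at h1
    have d1 : addOrderOf u ∣ p := addOrderOf_dvd_of_nsmul_eq_zero h1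
    have d2 : addOrderOf u ∣ r := addOrderOf_dvd_of_nsmul_eq_zero (hrV u)
    have d3 : addOrderOf u ∣ 1 := by
      have := Nat.dvd_gcd d1 d2
      rwa [hcop.gcd_eq_one] at this
    exact AddMonoid.addOrderOf_eq_one_iff.mp (Nat.dvd_one.mp d3)
  intro b
  set τb := σ b - b with hτb
  -- (2) polarisation
  have hpol : ∀ a : V, β (σ a - a) (σ τb) + β τb (σ (σ a - a)) = 0 := by
    intro a
    have h1 := hyp (a + b)
    have e : σ (a + b) - (a + b) = (σ a - a) + τb := by rw [map_add, hτb]; abel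
    rw [e, map_add, hl, hr, hr, hyp a, hyp b] at h1
    rw [zero_add, add_zero] at h1
    exact h1
  -- hence β (τ a) (σ τb - σ' τb) = 0
  set w := σ τb - σ' τb with hw
  have h2 : ∀ a : V, β (σ a - a) w = 0 := by
    intro a
    have h1 := hpol a
    have h3 : β τb (σ (σ a - a)) = - β (σ a - a) (σ' τb) := by
      rw [halt (σ (σ a - a)) τb]
      congr 1
      have := hinv (σ a - a) (σ' τb)
      rw [hσσ'] at this
      exact this
    rw [h3] at h1
    rw [hw, hrsub]
    exact (add_neg_eq_zero.mp h1) ▸ sub_self _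
  -- (3)
  have h3 : ∀ a : V, β a (σ' w - w) = 0 := by
    intro a
    have h1 := h2 a
    rw [hlsub] at h1
    have h4 : β (σ a) w = β a (σ' w) := by
      have := hinv a (σ' w)
      rw [hσσ'] at this
      exact this
    rw [h4] at h1
    rw [hrsub]
    exact h1
  have hw1 : σ' w - w = 0 := hnd _ h3
  have hw2 : σ w = w := by
    have : σ' w = w := sub_eq_zero.mp hw1
    have h5 := congrArg σ this
    rw [hσσ'] at h5
    exact h5.symm
  -- (5)
  have hw3 : w = σ (σ b - σ' b) - (σ b - σ' b) := by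
    rw [hw, hτb]
    simp only [map_sub, hσσ', hσ'σ]
    abel
  have hw0 : w = 0 := hcoprime w _ hw3 hw2
  have h6 : σ (σ τb) = τb := by
    have : σ τb = σ' τb := sub_eq_zero.mp (hw0 ▸ hw.symm ▸ rfl)
    rw [this, hσσ']
  have h7 : ∀ k : ℕ, (σ)^[2 * k] τb = τb := by
    intro k
    induction k with
    | zero => rfl
    | succ k ih =>
      rw [show 2 * (k + 1) = (2 * k) + 1 + 1 from by ring, Function.iterate_succ_apply',
        Function.iterate_succ_apply', ih, h6]
  have h8 : σ τb = τb := by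
    obtain ⟨m, hm⟩ := hodd
    have h9 := h7 (m + 1)
    rw [show 2 * (m + 1) = p + 1 from by omega, Function.iterate_succ_apply', hp] at h9
    exact h9
  exact hcoprime τb b hτb h8

open scoped IsMulCommutative in
theorem grp_version {H : Type*} [Group H] (N : Subgroup H) (hNc : N ≤ Subgroup.center H)
    (hab : ∀ a b : H, a * b * a⁻¹ * b⁻¹ ∈ N)
    (hcent : ∀ a : H, (∀ b, a * b = b * a) → a ∈ N)
    (r : ℕ) (hpow : ∀ a : H, a ^ r ∈ N)
    (σ : H ≃* H) (hσN : ∀ n ∈ N, σ n = n)
    (p : ℕ) (hodd : Odd p) (hcop : p.Coprime r) (hσp : ∀ x, (σ)^[p] x = x)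
    (hcomm : ∀ a : H, (a⁻¹ * σ a) * σ (a⁻¹ * σ a) = σ (a⁻¹ * σ a) * (a⁻¹ * σ a)) :
    ∀ a : H, a⁻¹ * σ a ∈ N := by
  have hcen : ∀ n ∈ N, ∀ h : H, h * n = n * h := fun n hn h =>
    Subgroup.mem_center_iff.mp (hNc hn) h
  have hNn : N.Normal := ⟨fun n hn h => by rw [hcen n hn h, mul_assoc, mul_inv_cancel, mul_one]; exact hn⟩
  -- commutativity of the quotient
  let _ : CommGroup (H ⧸ N) :=
    { (inferInstance : Group (H ⧸ N)) with
      mul_comm := by
        intro u v
        induction u using QuotientGroup.induction_on with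
        | H a =>
          induction v using QuotientGroup.induction_on with
          | H b =>
            rw [← QuotientGroup.mk_mul, ← QuotientGroup.mk_mul, QuotientGroup.eq]
            have := hab b⁻¹ a⁻¹
            simpa [mul_assoc] using this }
  -- the commutator pairing
  have hc_mul_right : ∀ x y y' : H, x * (y * y') * x⁻¹ * (y * y')⁻¹ =
      (x * y * x⁻¹ * y⁻¹) * (x * y' * x⁻¹ * y'⁻¹) := by
    intro x y y'
    have h1 := hcen _ (hab x y') y⁻¹
    calc x * (y * y') * x⁻¹ * (y * y')⁻¹ = x * y * x⁻¹ * ((x * y' * x⁻¹ * y'⁻¹) * y⁻¹) := by group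
      _ = x * y * x⁻¹ * (y⁻¹ * (x * y' * x⁻¹ * y'⁻¹)) := by rw [h1]
      _ = _ := by group
  have hc_mul_left : ∀ x x' y : H, (x * x') * y * (x * x')⁻¹ * y⁻¹ =
      (x * y * x⁻¹ * y⁻¹) * (x' * y * x'⁻¹ * y⁻¹) := by
    intro x x' y
    have h1 := hcen _ (hab x' y) x
    calc (x * x') * y * (x * x')⁻¹ * y⁻¹ = (x * (x' * y * x'⁻¹ * y⁻¹)) * y * x⁻¹ * y⁻¹ := by group
      _ = ((x' * y * x'⁻¹ * y⁻¹) * x) * y * x⁻¹ * y⁻¹ := by rw [h1]
      _ = (x' * y * x'⁻¹ * y⁻¹) * (x * y * x⁻¹ * y⁻¹) := by group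
      _ = _ := (hcen _ (hab x' y) _).symm
  let c : H → H →* Subgroup.center H := fun x =>
    { toFun := fun y => ⟨x * y * x⁻¹ * y⁻¹, hNc (hab x y)⟩
      map_one' := Subtype.ext (by simp)
      map_mul' := fun y y' => Subtype.ext (hc_mul_right x y y') }
  have hcN : ∀ x : H, N ≤ (c x).ker := by
    intro x n hn
    rw [MonoidHom.mem_ker]
    apply Subtype.ext
    show x * n * x⁻¹ * n⁻¹ = 1
    rw [hcen n hn x, mul_assoc n, mul_inv_cancel, mul_one, mul_inv_cancel]
  let B₁ : H → (H ⧸ N →* Subgroup.center H) := fun x => QuotientGroup.lift N (c x) (hcN x)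
  let B₂ : H →* (H ⧸ N →* Subgroup.center H) :=
    { toFun := B₁
      map_one' := by
        apply MonoidHom.ext
        intro v
        induction v using QuotientGroup.induction_on with
        | H y =>
          show QuotientGroup.lift N (c 1) (hcN 1) (y : H ⧸ N) = 1
          rw [QuotientGroup.lift_mk]
          apply Subtype.ext
          show 1 * y * 1⁻¹ * y⁻¹ = 1
          group
      map_mul' := by
        intro x x'
        apply MonoidHom.ext
        intro v
        induction v using QuotientGroup.induction_on with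
        | H y =>
          show QuotientGroup.lift N (c (x * x')) (hcN _) (y : H ⧸ N) =
            QuotientGroup.lift N (c x) (hcN _) (y : H ⧸ N) * QuotientGroup.lift N (c x') (hcN _) (y : H ⧸ N)
          rw [QuotientGroup.lift_mk, QuotientGroup.lift_mk, QuotientGroup.lift_mk]
          apply Subtype.ext
          exact hc_mul_left x x' y }
  have hB₂N : N ≤ B₂.ker := by
    intro n hn
    rw [MonoidHom.mem_ker]
    apply MonoidHom.ext
    intro v
    induction v using QuotientGroup.induction_on with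
    | H y =>
      show QuotientGroup.lift N (c n) (hcN n) (y : H ⧸ N) = 1
      rw [QuotientGroup.lift_mk]
      apply Subtype.ext
      show n * y * n⁻¹ * y⁻¹ = 1
      rw [← hcen n hn y, mul_assoc y, mul_inv_cancel, mul_one, mul_inv_cancel]
  let B : H ⧸ N →* (H ⧸ N →* Subgroup.center H) := QuotientGroup.lift N B₂ hB₂N
  have hB : ∀ x y : H, ((B (x : H ⧸ N) (y : H ⧸ N) : Subgroup.center H) : H) = x * y * x⁻¹ * y⁻¹ := by
    intro x y
    show ((QuotientGroup.lift N B₂ hB₂N (x : H ⧸ N)) (y : H ⧸ N) : H) = _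
    rw [QuotientGroup.lift_mk]
    show ((QuotientGroup.lift N (c x) (hcN x)) (y : H ⧸ N) : H) = _
    rw [QuotientGroup.lift_mk]
    rfl
  -- the induced automorphisms
  have hσcomap : N ≤ Subgroup.comap σ.toMonoidHom N := by
    intro n hn
    rw [Subgroup.mem_comap]
    show σ n ∈ N
    rw [hσN n hn]; exact hn
  have hσ'N : ∀ n ∈ N, σ.symm n = n := by
    intro n hn
    have := hσN n hn
    rw [← this, MulEquiv.symm_apply_apply, this]
  have hσ'comap : N ≤ Subgroup.comap σ.symm.toMonoidHom N := by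
    intro n hn
    rw [Subgroup.mem_comap]
    show σ.symm n ∈ N
    rw [hσ'N n hn]; exact hn
  let σV : H ⧸ N →* H ⧸ N := QuotientGroup.map N N σ.toMonoidHom hσcomap
  let σV' : H ⧸ N →* H ⧸ N := QuotientGroup.map N N σ.symm.toMonoidHom hσ'comap
  have hσV : ∀ x : H, σV (x : H ⧸ N) = ((σ x : H) : H ⧸ N) := fun x => QuotientGroup.map_mk N N _ _ x
  have hσV' : ∀ x : H, σV' (x : H ⧸ N) = ((σ.symm x : H) : H ⧸ N) := fun x => QuotientGroup.map_mk N N _ _ x
  have hsurj : ∀ u : Additive (H ⧸ N), ∃ x : H, u = Additive.ofMul (x : H ⧸ N) := by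
    intro u
    obtain ⟨x, hx⟩ := QuotientGroup.mk_surjective (Additive.toMul u)
    exact ⟨x, by rw [hx]; rfl⟩
  have hmain := abs_lemma (V := Additive (H ⧸ N)) (C := Additive (Subgroup.center H))
    (fun u v => Additive.ofMul (B (Additive.toMul u) (Additive.toMul v)))
    (MonoidHom.toAdditive σV) (MonoidHom.toAdditive σV')
    ?_ ?_ ?_ ?_ ?_ ?_ ?_ r p ?_ ?_ hodd hcop ?_
  · intro a
    have h1 := hmain (Additive.ofMul (a : H ⧸ N))
    have h2 : (σV (a : H ⧸ N)) / (a : H ⧸ N) = 1 := Additive.ofMul.injective h1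
    rw [hσV, div_eq_mul_inv, mul_comm, ← QuotientGroup.mk_inv, ← QuotientGroup.mk_mul,
      QuotientGroup.eq_one_iff] at h2
    exact h2
  · -- hσσ'
    intro u
    obtain ⟨x, rfl⟩ := hsurj u
    show Additive.ofMul (σV (σV' (x : H ⧸ N))) = _
    rw [hσV', hσV, MulEquiv.apply_symm_apply]
  · -- hσ'σ
    intro u
    obtain ⟨x, rfl⟩ := hsurj u
    show Additive.ofMul (σV' (σV (x : H ⧸ N))) = _
    rw [hσV, hσV', MulEquiv.symm_apply_apply]
  · -- hl
    intro u u' v
    show Additive.ofMul (B (Additive.toMul u * Additive.toMul u') (Additive.toMul v)) = _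
    rw [map_mul, MonoidHom.mul_apply]
    rfl
  · -- hr
    intro u v v'
    show Additive.ofMul (B (Additive.toMul u) (Additive.toMul v * Additive.toMul v')) = _
    rw [map_mul]
    rfl
  · -- hinv
    intro u v
    obtain ⟨x, rfl⟩ := hsurj u
    obtain ⟨y, rfl⟩ := hsurj v
    show Additive.ofMul (B (σV (x : H ⧸ N)) (σV (y : H ⧸ N))) =
      Additive.ofMul (B (x : H ⧸ N) (y : H ⧸ N))
    congr 1
    apply Subtype.ext
    rw [hσV, hσV, hB, hB, ← map_inv, ← map_inv, ← map_mul, ← map_mul, ← map_mul]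
    exact hσN _ (hab x y)
  · -- halt
    intro u v
    obtain ⟨x, rfl⟩ := hsurj u
    obtain ⟨y, rfl⟩ := hsurj v
    show Additive.ofMul (B (y : H ⧸ N) (x : H ⧸ N)) =
      Additive.ofMul ((B (x : H ⧸ N) (y : H ⧸ N))⁻¹)
    congr 1
    apply Subtype.ext
    rw [Subgroup.coe_inv, hB, hB]
    group
  · -- hnd
    intro u hu
    obtain ⟨x, rfl⟩ := hsurj u
    have hx : x ∈ N := by
      apply hcent
      intro b
      have h1 := hu (Additive.ofMul (b : H ⧸ N))
      have h2 : B (b : H ⧸ N) (x : H ⧸ N) = 1 := Additive.ofMul.injective h1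
      have h3 := congrArg (fun z : Subgroup.center H => (z : H)) h2
      simp only [hB] at h3
      have h4 : b * x * b⁻¹ * x⁻¹ = 1 := h3
      have h5 : b * x = x * b := by
        have := congrArg (fun z => z * x * b) h4
        simpa [mul_assoc] using this
      exact h5.symm
    show Additive.ofMul (x : H ⧸ N) = Additive.ofMul (1 : H ⧸ N)
    rw [(QuotientGroup.eq_one_iff x).mpr hx]
  · -- hrV
    intro u
    obtain ⟨x, rfl⟩ := hsurj u
    show Additive.ofMul ((x : H ⧸ N) ^ r) = Additive.ofMul (1 : H ⧸ N)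
    rw [← QuotientGroup.mk_pow, (QuotientGroup.eq_one_iff _).mpr (hpow x)]
  · -- hp
    have hiter : ∀ (k : ℕ) (x : H), (⇑(MonoidHom.toAdditive σV))^[k] (Additive.ofMul (x : H ⧸ N)) =
        Additive.ofMul (((σ)^[k] x : H) : H ⧸ N) := by
      intro k
      induction k with
      | zero => intro x; rfl
      | succ k ih =>
        intro x
        rw [Function.iterate_succ_apply', ih, Function.iterate_succ_apply']
        show Additive.ofMul (σV (((σ)^[k] x : H) : H ⧸ N)) = _
        rw [hσV]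
    intro u
    obtain ⟨x, rfl⟩ := hsurj u
    rw [hiter, hσp]
  · -- hyp
    intro u
    obtain ⟨x, rfl⟩ := hsurj u
    have e1 : (MonoidHom.toAdditive σV) (Additive.ofMul (x : H ⧸ N)) - Additive.ofMul (x : H ⧸ N) =
        Additive.ofMul (((x⁻¹ * σ x : H)) : H ⧸ N) := by
      show Additive.ofMul (σV (x : H ⧸ N) / (x : H ⧸ N)) = _
      rw [hσV, div_eq_mul_inv, mul_comm, ← QuotientGroup.mk_inv, ← QuotientGroup.mk_mul]
    rw [e1]
    show Additive.ofMul (B ((x⁻¹ * σ x : H) : H ⧸ N) (σV ((x⁻¹ * σ x : H) : H ⧸ N))) =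
      Additive.ofMul (1 : Subgroup.center H)
    congr 1
    apply Subtype.ext
    rw [hσV, hB]
    have h1 := hcomm x
    show _ = (1 : H)
    rw [h1]
    group

end GRP

theorem twist_central_of_comm {G : Type*} [Group G] (Z Q : Subgroup G)
    (hZc : Z ≤ Subgroup.center G) (hZQ : Z ≤ Q)
    (hab : ∀ a ∈ Q, ∀ b ∈ Q, a * b * a⁻¹ * b⁻¹ ∈ Z)
    (hcent : ∀ a ∈ Q, (∀ b ∈ Q, a * b = b * a) → a ∈ Z)
    (r : ℕ) (hpow : ∀ a ∈ Q, a ^ r ∈ Z)
    (g : G) (hg : ∀ a, a ∈ Q ↔ g * a * g⁻¹ ∈ Q)
    (p : ℕ) (hodd : Odd p) (hcop : Nat.Coprime p r) (hgp : g ^ p = 1)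
    (hcomm : ∀ a ∈ Q, (a⁻¹ * (g * a * g⁻¹)) * (g * (a⁻¹ * (g * a * g⁻¹)) * g⁻¹)
      = (g * (a⁻¹ * (g * a * g⁻¹)) * g⁻¹) * (a⁻¹ * (g * a * g⁻¹))) :
    ∀ a ∈ Q, a⁻¹ * (g * a * g⁻¹) ∈ Z := by
  have hginv : ∀ a ∈ Q, g⁻¹ * a * g ∈ Q := by
    intro a ha
    rw [hg]
    have : g * (g⁻¹ * a * g) * g⁻¹ = a := by group
    rw [this]; exact ha
  let σ : Q ≃* Q :=
    { toFun := fun x => ⟨g * x * g⁻¹, (hg x).mp x.2⟩
      invFun := fun x => ⟨g⁻¹ * x * g, hginv x x.2⟩
      left_inv := fun x => Subtype.ext (by show g⁻¹ * (g * (x : G) * g⁻¹) * g = x; group)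
      right_inv := fun x => Subtype.ext (by show g * (g⁻¹ * (x : G) * g) * g⁻¹ = x; group)
      map_mul' := fun x y => Subtype.ext (by
        show g * ((x : G) * (y : G)) * g⁻¹ = (g * (x : G) * g⁻¹) * (g * (y : G) * g⁻¹); group) }
  have hσ_apply : ∀ x : Q, ((σ x : Q) : G) = g * (x : G) * g⁻¹ := fun x => rfl
  have hσk : ∀ (k : ℕ) (x : Q), (((σ)^[k] x : Q) : G) = g ^ k * (x : G) * (g ^ k)⁻¹ := by
    intro k
    induction k with
    | zero => intro x; simp
    | succ k ih =>
      intro x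
      rw [Function.iterate_succ_apply', hσ_apply, ih, pow_succ']
      group
  have key := GRP.grp_version (H := Q) (Z.subgroupOf Q) ?_ ?_ ?_ r ?_ σ ?_ p hodd hcop ?_ ?_
  · intro a ha
    have h1 := key ⟨a, ha⟩
    rw [Subgroup.mem_subgroupOf] at h1
    exact h1
  · -- N ≤ center
    intro n hn
    rw [Subgroup.mem_subgroupOf] at hn
    rw [Subgroup.mem_center_iff]
    intro h
    apply Subtype.ext
    exact Subgroup.mem_center_iff.mp (hZc hn) (h : G)
  · intro a b
    rw [Subgroup.mem_subgroupOf]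
    exact hab a a.2 b b.2
  · intro a ha
    rw [Subgroup.mem_subgroupOf]
    apply hcent a a.2
    intro b hb
    exact congrArg Subtype.val (ha ⟨b, hb⟩)
  · intro a
    rw [Subgroup.mem_subgroupOf]
    exact hpow a a.2
  · intro n hn
    rw [Subgroup.mem_subgroupOf] at hn
    apply Subtype.ext
    rw [hσ_apply, Subgroup.mem_center_iff.mp (hZc hn) g, mul_assoc, mul_inv_cancel, mul_one]
  · intro x
    apply Subtype.ext
    rw [hσk, hgp]
    simp
  · intro a
    apply Subtype.ext
    exact hcomm a a.2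

end Cfsg.Agent.S5877P
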