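import Mathlib
import Cfsg.Agent.Helper29.PsfDefs

set_option autoImplicit false

/-! S5876 piece ASSOC. -/

namespace Cfsg.Agent.S5876P

open Matrix Module

/-- ASSOC: a nonzero module over a finite-dimensional commutative algebra has nonzero
`𝔪`-torsion for some maximal ideal `𝔪`. -/
theorem exists_maximal_torsion {F R V : Type*} [Field F] [CommRing R] [Algebra F R]
    [Module.Finite F R] [AddCommGroup V] [Module R V] [Nontrivial V] :
    ∃ 𝔪 : Ideal R, 𝔪.IsMaximal ∧ Submodule.torsionBySet R V (𝔪 : Set R) ≠ ⊥ := by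
  have hart : IsArtinianRing R := IsArtinianRing.of_finite F R
  obtain ⟨P, hP⟩ := associatedPrimes.nonempty R V
  rw [AssociatedPrimes.mem_iff, isAssociatedPrime_iff] at hP
  obtain ⟨hprime, x, hx⟩ := hP
  have hmax : P.IsMaximal := IsArtinianRing.isMaximal_of_isPrime P
  refine ⟨P, hmax, ?_⟩
  intro hbot
  have hxmem : x ∈ Submodule.torsionBySet R V (P : Set R) := by
    rw [Submodule.mem_torsionBySet_iff]
    rintro ⟨r, hr⟩
    have : r ∈ Submodule.colon (⊥ : Submodule R V) {x} := by rw [← hx]; exact hr
    rw [Submodule.mem_colon_singleton] at this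
    simpa using this
  rw [hbot, Submodule.mem_bot] at hxmem
  apply hprime.ne_top
  rw [hx, hxmem]
  ext r
  simp [Submodule.mem_colon_singleton]
end Cfsg.Agent.S5876P
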