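import Mathlib
import Cfsg.Agent.Helper29.PsfDefs

set_option autoImplicit false

/-! S5876 piece CLS2. -/

namespace Cfsg.Agent.Helper5.PsfCLS2

open Matrix Module Cfsg.Agent.S5876P

variable {n : ℕ} {F : Type*} [Field F]

theorem fix_inv (b : GLn n F) : fix b⁻¹ = fix b := by
  ext v
  rw [mem_fix, mem_fix]
  constructor
  · intro h
    have := congrArg (lin b) h
    rw [lin_lin_inv] at this
    exact this.symm
  · intro h
    have := congrArg (lin b⁻¹) h
    rw [lin_inv_lin] at this
    exact this.symm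

theorem fix_conj (a b : GLn n F) :
    fix (a * b * a⁻¹) = (fix b).map ((linEquiv a : (Fin n → F) ≃ₗ[F] (Fin n → F)) :
      (Fin n → F) →ₗ[F] (Fin n → F)) := by
  ext v
  rw [mem_fix, Submodule.mem_map]
  constructor
  · intro h
    refine ⟨lin a⁻¹ v, ?_, ?_⟩
    · rw [mem_fix]
      have := congrArg (lin a⁻¹) h
      rw [lin_mul_apply, lin_mul_apply, lin_inv_lin] at this
      exact this
    · simp
  · rintro ⟨w, hw, rfl⟩
    rw [mem_fix] at hw
    simp only [LinearEquiv.coe_coe, linEquiv_apply]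
    rw [lin_mul_apply, lin_mul_apply, lin_inv_lin, hw]

theorem d_conj (a b : GLn n F) : d (a * b * a⁻¹) = d b := by
  unfold d
  rw [fix_conj]
  exact LinearEquiv.finrank_map_eq (linEquiv a) (fix b)

end Cfsg.Agent.Helper5.PsfCLS2

namespace Cfsg.Agent.S5876P

open Matrix Module

variable {n : ℕ} {F : Type*} [Field F]

/-- CLS2: in a class-two group whose centre acts fixed-point-freely, every nontrivial element
fixes at most half of the space. -/
theorem two_d_le_of_classTwo (Y : Subgroup (GLn n F)) (hcl : ClassTwo Y)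
    (hfpf : ∀ z ∈ Y, (∀ y ∈ Y, z * y = y * z) → z ≠ 1 → fix z = ⊥)
    (y : GLn n F) (hy : y ∈ Y) (hy1 : y ≠ 1) : 2 * d y ≤ n := by
  by_cases hcen : ∀ y' ∈ Y, y * y' = y' * y
  · have h0 : d y = 0 := by
      unfold d
      rw [hfpf y hy hcen hy1]
      exact finrank_bot F (Fin n → F)
    omega
  · push Not at hcen
    obtain ⟨y', hy', hne⟩ := hcen
    set s : GLn n F := y * y' * y⁻¹ * y'⁻¹ with hs
    have hsY : s ∈ Y := Y.mul_mem (Y.mul_mem (Y.mul_mem hy hy') (Y.inv_mem hy)) (Y.inv_mem hy')
    have hs1 : s ≠ 1 := by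
      intro h
      apply hne
      have : s * y' * y = y * y' := by rw [hs]; group
      rw [← this, h, one_mul]
    have hscen : ∀ c ∈ Y, s * c = c * s := fun c hc => hcl y hy y' hy' c hc
    have hfs : fix s = ⊥ := hfpf s hsY hscen hs1
    set t : GLn n F := y' * y⁻¹ * y'⁻¹ with ht
    have hst : s = y * t := by rw [hs, ht]; group
    have hdisj : fix y ⊓ fix t = ⊥ := by
      rw [eq_bot_iff, ← hfs]
      intro v hv
      obtain ⟨h1, h2⟩ := Submodule.mem_inf.mp hv
      rw [mem_fix] at h1 h2 ⊢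
      rw [hst, lin_mul_apply, h2, h1]
    have hdt : finrank F (fix t) = d y := by
      have := Cfsg.Agent.Helper5.PsfCLS2.d_conj y' y⁻¹
      unfold d at this ⊢
      rw [this, Cfsg.Agent.Helper5.PsfCLS2.fix_inv]
    have hsum := Submodule.finrank_sup_add_finrank_inf_eq (fix y) (fix t)
    rw [hdisj, finrank_bot, add_zero, hdt] at hsum
    have hle : finrank F ↥(fix y ⊔ fix t) ≤ n := by
      have := Submodule.finrank_le (fix y ⊔ fix t)
      rwa [Module.finrank_fin_fun] at this
    unfold d at hsum ⊢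
    omega

end Cfsg.Agent.S5876P
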