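import Cfsg.Agent.Helper3.OC2Q2.Defs

set_option autoImplicit false
set_option linter.unusedSectionVars false
set_option linter.unusedVariables false

/-! # S5694 chapter CHAR2, sub-chapter Q2 (driver helper3), piece S1B:
`r_p r_z ∈ M`, `p` pure nonsingular, `h ∈ HS D` ⟹ `r_z r_{hz} ∈ M`. -/

namespace Cfsg.Agent.OC2K

open Matrix Cfsg.Agent.Helper28.Sg Cfsg.Agent.Helper28.Spin Cfsg.Agent.Helper12.OrthGen
  Cfsg.Agent.S2614 Cfsg.Agent.S5683P Cfsg.Agent.Helper28.NDM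

variable {F : Type*} [Field F] {t k : ℕ} {ι : Type} [Fintype ι] [DecidableEq ι] {Q : QuadraticForm F (ι → F)} [QHyp Q] {D : Fin t → Submodule F (ι → F)}
  {M : Subgroup (OGq Q)}

theorem Q2.S1B.main [Fintype F] (hD : HD Q k D) (hHM : HS D ≤ M) {z : ι → F} (hQz : Q z ≠ 0)
    {b : Fin t} {p : ι → F} (hp : p ∈ D b) (hQp : Q p ≠ 0)
    (hpz : reflO Q p hQp * reflO Q z hQz ∈ M) {h : OGq Q} (hh : h ∈ HS D)
    (hQhz : Q (mt Q h *ᵥ z) ≠ 0) :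
    reflO Q z hQz * reflO Q (mt Q h *ᵥ z) hQhz ∈ M := by
  have hhS : h ∈ StabO D := (mem_HS.mp hh).1
  obtain ⟨σ, hσ⟩ := STAB.perm hD hhS
  have hhp : mt Q h *ᵥ p ∈ D (σ b) := (hσ b p).mp hp
  have hQhp : Q (mt Q h *ᵥ p) = Q p := Q_isom h p
  have hQhp' : Q (mt Q h *ᵥ p) ≠ 0 := by rw [hQhp]; exact hQp
  have h1 : reflO Q p hQp * reflO Q (mt Q h *ᵥ p) hQhp' ∈ M :=
    hHM (REFLMEM.mem hD hp hhp hQp hQhp' hQhp.symm)
  have hhM : h ∈ M := hHM hh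
  have e1 : reflO Q (mt Q h *ᵥ p) hQhp' = h * reflO Q p hQp * h⁻¹ := reflO_conj Q h p hQp hQhp'
  have e2 : reflO Q (mt Q h *ᵥ z) hQhz = h * reflO Q z hQz * h⁻¹ := reflO_conj Q h z hQz hQhz
  have h2 : h * (reflO Q p hQp * reflO Q z hQz) * h⁻¹ ∈ M :=
    M.mul_mem (M.mul_mem hhM hpz) (M.inv_mem hhM)
  have h3 : (reflO Q p hQp * reflO Q z hQz)⁻¹ ∈ M := M.inv_mem hpz
  have aux : ∀ (A Z g : OGq Q), A * A = 1 → Z⁻¹ = Z →
      Z * (g * Z * g⁻¹) = (A * Z)⁻¹ * (A * (g * A * g⁻¹)) * (g * (A * Z) * g⁻¹) := by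
    intro A Z g hA hZ
    have e : (A * Z)⁻¹ * (A * (g * A * g⁻¹)) * (g * (A * Z) * g⁻¹)
        = Z⁻¹ * (g * (A * A) * Z * g⁻¹) := by group
    rw [e, hA, mul_one, hZ]
  have key : reflO Q z hQz * reflO Q (mt Q h *ᵥ z) hQhz
      = (reflO Q p hQp * reflO Q z hQz)⁻¹ * (reflO Q p hQp * reflO Q (mt Q h *ᵥ p) hQhp')
        * (h * (reflO Q p hQp * reflO Q z hQz) * h⁻¹) := by
    rw [e1, e2]
    exact aux _ _ _ (reflO_mul_self Q p hQp) (reflO_inv Q z hQz)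
  rw [key]
  exact M.mul_mem (M.mul_mem h3 h1) h2

end Cfsg.Agent.OC2K
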