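import Mathlib
import Cfsg.Prelude.Def_Solvable
import Cfsg.Prelude.Def_CaseTheorems
import Cfsg.Agent.S3224

set_option autoImplicit false
set_option linter.unusedSectionVars false
set_option linter.unusedVariables false

namespace Cfsg.Agent.S3390P

open MulAction

/-- private copy of FIX3 (abstract form): fixity at most 2 in pointwise form. -/
theorem SMALL.aux_fix3 {P Ω : Type*} [Group P] [Fintype Ω] [MulAction P Ω]
    (g : P) (hg : Nat.card (MulAction.fixedBy Ω g) ≤ 2)
    (a b c : Ω) (hab : a ≠ b) (hac : a ≠ c) (hbc : b ≠ c)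
    (ha : g • a = a) (hb : g • b = b) : g • c ≠ c := by
  intro hc
  have hsub : ({a, b, c} : Set Ω) ⊆ MulAction.fixedBy Ω g := by
    intro z hz
    rcases hz with rfl | rfl | rfl
    · exact ha
    · exact hb
    · exact hc
  have h3 : ({a, b, c} : Set Ω).ncard = 3 := Set.ncard_eq_three.2 ⟨a, b, c, hab, hac, hbc, rfl⟩
  have hle : ({a, b, c} : Set Ω).ncard ≤ (MulAction.fixedBy Ω g).ncard :=
    Set.ncard_le_ncard hsub (Set.toFinite _)
  rw [← Nat.card_coe_set_eq (MulAction.fixedBy Ω g)] at hle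
  omega

/-- The abstract 2-group lemma behind SMALL. -/
theorem SMALL.aux_main {P Ω : Type*} [Group P] [Finite P] [MulAction P Ω] (hP : IsPGroup 2 P)
    (hfix3 : ∀ g : P, g ≠ 1 → ∀ a b c : Ω, a ≠ b → a ≠ c → b ≠ c → g • a = a → g • b = b → g • c ≠ c)
    (α : Ω) (hT1 : stabilizer P α ≠ ⊥)
    (x : P) (hxα : x • α ≠ α) (hxx : x • (x • α) = α)
    (hTβ : ∀ t ∈ stabilizer P α, t • (x • α) = x • α)
    (hidx : (stabilizer P α).index ≠ 2) :
    Nat.card ↥(stabilizer P α) = 2 ∧
      ((∃ n : ℕ, Nonempty (P ≃* DihedralGroup n)) ∨ Cfsg.IsQuasiDihedral P) := by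
  classical
  set T : Subgroup P := stabilizer P α with hT
  set β : Ω := x • α with hβ
  have hαβ : α ≠ β := fun h => hxα h.symm
  -- the setwise stabilizer of `{α, β}`
  let N : Subgroup P :=
    { carrier := {s | (s • α = α ∧ s • β = β) ∨ (s • α = β ∧ s • β = α)}
      one_mem' := Or.inl ⟨one_smul _ _, one_smul _ _⟩
      mul_mem' := by
        rintro a b (⟨ha1, ha2⟩ | ⟨ha1, ha2⟩) (⟨hb1, hb2⟩ | ⟨hb1, hb2⟩)
        · left; exact ⟨by rw [mul_smul, hb1, ha1], by rw [mul_smul, hb2, ha2]⟩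
        · right; exact ⟨by rw [mul_smul, hb1, ha2], by rw [mul_smul, hb2, ha1]⟩
        · right; exact ⟨by rw [mul_smul, hb1, ha1], by rw [mul_smul, hb2, ha2]⟩
        · left; exact ⟨by rw [mul_smul, hb1, ha2], by rw [mul_smul, hb2, ha1]⟩
      inv_mem' := by
        rintro a (⟨ha1, ha2⟩ | ⟨ha1, ha2⟩)
        · left; exact ⟨by rw [inv_smul_eq_iff, ha1], by rw [inv_smul_eq_iff, ha2]⟩
        · right; exact ⟨by rw [inv_smul_eq_iff, ha2], by rw [inv_smul_eq_iff, ha1]⟩ }
  have hNmem : ∀ s : P, s ∈ N ↔ (s • α = α ∧ s • β = β) ∨ (s • α = β ∧ s • β = α) := fun s => Iff.rfl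
  have hTN : T ≤ N := by
    intro t ht
    rw [hNmem]
    left
    exact ⟨mem_stabilizer_iff.1 ht, hTβ t ht⟩
  have hxN : x ∈ N := by
    rw [hNmem]
    right
    exact ⟨rfl, hxx⟩
  -- permuting `{α, β}` means lying in `N`
  have hperm : ∀ s : P, (s • α = α ∨ s • α = β) → (s • β = α ∨ s • β = β) → s ∈ N := by
    intro s h1 h2
    rw [hNmem]
    have hinj : s • α ≠ s • β := fun h => hαβ (smul_left_cancel s h)
    rcases h1 with h1 | h1 <;> rcases h2 with h2 | h2
    · exact absurd (h1.trans h2.symm) hinj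
    · left; exact ⟨h1, h2⟩
    · right; exact ⟨h1, h2⟩
    · exact absurd (h1.trans h2.symm) hinj
  -- `T` has index 2 in `N`
  have hTNidx : (T.subgroupOf N).index = 2 := by
    rw [Subgroup.index_eq_two_iff]
    refine ⟨⟨x, hxN⟩, fun b => ?_⟩
    have hb := (hNmem b).1 b.2
    simp only [Subgroup.mem_subgroupOf, Subgroup.coe_mul, hT, mem_stabilizer_iff, mul_smul]
    rcases hb with ⟨h1, h2⟩ | ⟨h1, h2⟩
    · right
      refine ⟨h1, ?_⟩
      rw [← hβ, h2]
      exact fun h => hαβ h.symm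
    · left
      refine ⟨by rw [← hβ, h2], ?_⟩
      rw [h1]
      exact fun h => hαβ h.symm
  have hcardN : Nat.card N = 2 * Nat.card T := by
    have h1 := Subgroup.card_mul_index (T.subgroupOf N)
    rw [hTNidx, Nat.card_congr (Subgroup.subgroupOfEquivOfLe hTN).toEquiv] at h1
    omega
  -- `N ≠ ⊤`
  have hNtop : N ≠ ⊤ := by
    intro h
    apply hidx
    have : (T.subgroupOf N).index = T.index := by
      rw [h]
      exact Subgroup.relIndex_top_right T
    rw [← this, hTNidx]
  -- normalizer condition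
  have hnil : Group.IsNilpotent P := hP.isNilpotent
  have hlt : N < Subgroup.normalizer (N : Set P) :=
    Group.normalizerCondition_of_isNilpotent N (lt_top_iff_ne_top.2 hNtop)
  obtain ⟨y, hyn, hyN⟩ := SetLike.exists_of_lt hlt
  -- the conjugate of `T`
  set Ty : Subgroup P := T.map (MulAut.conj y).toMonoidHom with hTy
  have hTyN : Ty ≤ N := by
    rintro _ ⟨t, ht, rfl⟩
    have := (Subgroup.mem_normalizer_iff.1 hyn t).1 (hTN ht)
    simpa using this
  have hcardTy : Nat.card Ty = Nat.card T := by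
    rw [hTy]
    exact Subgroup.card_map_of_injective (MulAut.conj y).injective
  -- `T ⊓ Ty = ⊥`
  have hinf : T ⊓ Ty = ⊥ := by
    rw [Subgroup.eq_bot_iff_forall]
    rintro g ⟨hgT, ⟨t, ht, rfl⟩⟩
    by_contra hg1
    set g := (MulAut.conj y).toMonoidHom t with hgdef
    have hgy : g = y * t * y⁻¹ := by simp [hgdef]
    have hgα : g • α = α := mem_stabilizer_iff.1 hgT
    have hgβ : g • β = β := hTβ g hgT
    have htα : t • α = α := mem_stabilizer_iff.1 ht
    have htβ : t • β = β := hTβ t ht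
    have hgyα : g • (y • α) = y • α := by
      rw [hgy, mul_smul, mul_smul, inv_smul_smul, htα]
    have hgyβ : g • (y • β) = y • β := by
      rw [hgy, mul_smul, mul_smul, inv_smul_smul, htβ]
    -- `y` does not permute `{α, β}`
    have h3 : ∀ ω : Ω, g • ω = ω → ω = α ∨ ω = β := by
      intro ω hω
      by_contra hcon
      push Not at hcon
      exact hfix3 g hg1 α β ω hαβ (fun h => hcon.1 h.symm) (fun h => hcon.2 h.symm) hgα hgβ hω
    apply hyN
    exact hperm y (h3 _ hgyα) ((h3 _ hgyβ))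
  -- `|N| ≤ 4`
  have hinj : Function.Injective (fun p : T × Ty => ((p.1 : P) * (p.2 : P))) := by
    rintro ⟨a, b⟩ ⟨a', b'⟩ h
    simp only at h
    have h1 : (a' : P)⁻¹ * a = b' * (b : P)⁻¹ := by
      have : (a' : P)⁻¹ * (a * b) * (b : P)⁻¹ = (a' : P)⁻¹ * (a' * b') * (b : P)⁻¹ := by rw [h]
      simpa [mul_assoc] using this
    have h2 : (a' : P)⁻¹ * a ∈ T ⊓ Ty := by
      refine ⟨T.mul_mem (T.inv_mem a'.2) a.2, ?_⟩
      rw [h1]
      exact Ty.mul_mem b'.2 (Ty.inv_mem b.2)
    rw [hinf, Subgroup.mem_bot] at h2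
    have ha : a = a' := by
      apply Subtype.ext
      have := inv_mul_eq_one.1 h2
      exact this.symm
    subst ha
    have hb : (b : P) = b' := mul_left_cancel h
    rw [Subtype.ext hb]
  have hprodle : Nat.card T * Nat.card Ty ≤ Nat.card N := by
    rw [← Nat.card_prod]
    let f : T × Ty → N := fun p => ⟨(p.1 : P) * (p.2 : P), N.mul_mem (hTN p.1.2) (hTyN p.2.2)⟩
    apply Nat.card_le_card_of_injective f
    intro p p' h
    apply hinj
    exact congrArg Subtype.val h
  have hTpos : 0 < Nat.card T := Nat.card_pos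
  have hT2 : 2 ≤ Nat.card T := by
    by_contra hlt'
    have : Nat.card T = 1 := by omega
    exact hT1 (Subgroup.card_eq_one.1 this)
  have hTcard : Nat.card T = 2 := by
    rw [hcardTy, hcardN] at hprodle
    have : Nat.card T * Nat.card T ≤ 2 * Nat.card T := hprodle
    have : Nat.card T ≤ 2 := Nat.le_of_mul_le_mul_right this hTpos
    omega
  have hNcard : Nat.card N = 4 := by rw [hcardN, hTcard]
  refine ⟨hTcard, ?_⟩
  -- the involution `t`
  obtain ⟨t, htT, ht1⟩ : ∃ t ∈ T, t ≠ 1 := by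
    by_contra hcon
    push Not at hcon
    exact hT1 ((Subgroup.eq_bot_iff_forall T).2 hcon)
  have hord : orderOf t = 2 := by
    have h1 : orderOf (⟨t, htT⟩ : T) ∣ Nat.card T := orderOf_dvd_natCard _
    rw [hTcard, Subgroup.orderOf_mk] at h1
    rcases (Nat.dvd_prime Nat.prime_two).1 h1 with h | h
    · exact absurd (orderOf_eq_one_iff.1 h) ht1
    · exact h
  have htα : t • α = α := mem_stabilizer_iff.1 htT
  have htβ : t • β = β := hTβ t htT
  have hfixt : ∀ ω : Ω, t • ω = ω → ω = α ∨ ω = β := by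
    intro ω hω
    by_contra hcon
    push Not at hcon
    exact hfix3 t ht1 α β ω hαβ (fun h => hcon.1 h.symm) (fun h => hcon.2 h.symm) htα htβ hω
  -- `N` is commutative
  have hNcomm : ∀ a ∈ N, ∀ b ∈ N, a * b = b * a := by
    have : Fact (Nat.Prime 2) := ⟨Nat.prime_two⟩
    have hc : Nat.card N = 2 ^ 2 := by rw [hNcard]; norm_num
    have := IsPGroup.commutative_of_card_eq_prime_sq hc
    intro a ha b hb
    have h := this ⟨a, ha⟩ ⟨b, hb⟩
    exact congrArg Subtype.val h
  -- centralizer of `t` is `N`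
  have hcent : Subgroup.centralizer ({t} : Set P) = N := by
    ext c
    rw [Subgroup.mem_centralizer_singleton_iff]
    constructor
    · intro hc
      apply hperm c
      · apply hfixt
        rw [← mul_smul, ← hc, mul_smul, htα]
      · have := hfixt (c • β) (by rw [← mul_smul, ← hc, mul_smul, htβ])
        exact this
    · intro hc
      exact hNcomm c hc t (hTN htT)
  have hC4 : Nat.card ↥(Subgroup.centralizer ({t} : Set P)) = 4 := by rw [hcent, hNcard]
  rcases Cfsg.Agent.S3224.result hP t hord hC4 with h | h | h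
  · left; exact h
  · right; exact h
  · exfalso
    apply hNtop
    apply Subgroup.eq_top_of_card_eq
    rw [hNcard, h]

variable {G : Type*} [Group G] [Finite G] {Ω : Type*} [Fintype Ω] [MulAction G Ω]

/-- SMALL: in the situation of BASIC, if `|S : T| ≠ 2` then `|T| = 2` and `S` is dihedral or quasi-dihedral
(via S3224 applied to the group `↥S`). -/
theorem SMALL (hfix : ∀ g : G, g ≠ 1 → Nat.card (MulAction.fixedBy Ω g) ≤ 2)
    (S : Subgroup G) (hS : IsPGroup 2 S) (α : Ω)
    (hT1 : S ⊓ stabilizer G α ≠ ⊥)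
    (x : G) (hxS : x ∈ S) (hxα : x • α ≠ α) (hxx : x • (x • α) = α)
    (hTβ : ∀ t ∈ S ⊓ stabilizer G α, t • (x • α) = x • α)
    (hidx : (S ⊓ stabilizer G α).relIndex S ≠ 2) :
    Nat.card ↥(S ⊓ stabilizer G α) = 2 ∧
      ((∃ n : ℕ, Nonempty (↥S ≃* DihedralGroup n)) ∨ Cfsg.IsQuasiDihedral ↥S) := by
  classical
  have hstab : stabilizer ↥S α = (S ⊓ stabilizer G α).subgroupOf S := by
    ext g
    rw [mem_stabilizer_iff, Subgroup.mem_subgroupOf, Subgroup.mem_inf, mem_stabilizer_iff]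
    constructor
    · intro h; exact ⟨g.2, h⟩
    · intro h; exact h.2
  have hcard : Nat.card ↥(stabilizer ↥S α) = Nat.card ↥(S ⊓ stabilizer G α) := by
    rw [hstab]
    exact Nat.card_congr (Subgroup.subgroupOfEquivOfLe inf_le_left).toEquiv
  have hfix3 : ∀ g : ↥S, g ≠ 1 → ∀ a b c : Ω, a ≠ b → a ≠ c → b ≠ c → g • a = a → g • b = b →
      g • c ≠ c := by
    intro g hg a b c hab hac hbc ha hb
    have hg' : (g : G) ≠ 1 := fun h => hg (Subtype.ext h)
    exact SMALL.aux_fix3 (g : G) (hfix _ hg') a b c hab hac hbc ha hb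
  have hT1' : stabilizer ↥S α ≠ ⊥ := by
    intro h
    apply hT1
    have : Nat.card ↥(S ⊓ stabilizer G α) = 1 := by
      rw [← hcard, h, Subgroup.card_bot]
    exact Subgroup.card_eq_one.1 this
  have hTβ' : ∀ t ∈ stabilizer ↥S α, t • ((⟨x, hxS⟩ : ↥S) • α) = (⟨x, hxS⟩ : ↥S) • α := by
    intro t ht
    rw [hstab, Subgroup.mem_subgroupOf] at ht
    exact hTβ (t : G) ht
  have hidx' : (stabilizer ↥S α).index ≠ 2 := by
    rw [hstab]
    exact hidx
  have := SMALL.aux_main (P := ↥S) (Ω := Ω) hS hfix3 α hT1' ⟨x, hxS⟩ hxα hxx hTβ' hidx'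
  rw [hcard] at this
  exact this

end Cfsg.Agent.S3390P
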