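import Mathlib

set_option autoImplicit false

/-! S2140 drive, piece TAU: a nonzero additive functional `F → 𝔽_p`. -/

namespace Cfsg.Agent.S2140P

theorem exists_tau (F : Type*) [Field F] [Fintype F] (p : ℕ) [Fact p.Prime] [CharP F p] :
    ∃ τ : F →+ ZMod p, τ ≠ 0 := by
  classical
  let _ : Algebra (ZMod p) F := ZMod.algebra F p
  have h : ¬ ∀ φ : Module.Dual (ZMod p) F, φ (1 : F) = 0 := by
    rw [Module.forall_dual_apply_eq_zero_iff (ZMod p) (1 : F)]
    exact one_ne_zero
  push Not at h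
  obtain ⟨φ, hφ⟩ := h
  refine ⟨φ.toAddMonoidHom, ?_⟩
  intro h0
  apply hφ
  have := DFunLike.congr_fun h0 (1 : F)
  simpa using this
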