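import Mathlib
import Cfsg.Agent.Helper4.RU2Defs

set_option autoImplicit false
set_option linter.unusedSectionVars false

/-! Auxiliary lemmas for the `n = 4` endgames of S2279 (pieces E3, E4). -/

open Matrix Polynomial
open Cfsg.Agent.Helper12.TVG Cfsg.Agent.Helper12.RUN Cfsg.Agent.Helper4.RU2

namespace Cfsg.Agent.Helper5.RU2

variable {F : Type*} [Field F] {m : ℕ}

theorem ev_dot (k : ℕ) (hk : k < m + 4) (t : F) (x : Fin (m + 4) → F) :
    ev m k t ⬝ᵥ x = t * x ⟨k, hk⟩ := by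
  have := sum_ite_val_eq x k t
  rw [dif_pos hk] at this
  simpa only [dotProduct, ev_apply] using this

theorem dot_ev (k : ℕ) (hk : k < m + 4) (t : F) (x : Fin (m + 4) → F) :
    x ⬝ᵥ ev m k t = x ⟨k, hk⟩ * t := by
  rw [dotProduct_comm, ev_dot k hk, mul_comm]

theorem TM_mulVec {ι : Type*} [Fintype ι] [DecidableEq ι] (v φ x : ι → F) :
    TM v φ *ᵥ x = x + (φ ⬝ᵥ x) • v := by
  unfold TM
  rw [add_mulVec, one_mulVec, vecMulVec_mulVec, op_smul_eq_smul]

theorem vecMul_TM {ι : Type*} [Fintype ι] [DecidableEq ι] (v φ x : ι → F) :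
    x ᵥ* TM v φ = x + (x ⬝ᵥ v) • φ := by
  unfold TM
  rw [vecMul_add, vecMul_one, vecMul_vecMulVec]

/-- zsmul closure: if `ev k κ` is in an additive subgroup, so is `ev k (z κ)`. -/
theorem ev_int_mem (S : AddSubgroup (Fin (m + 4) → F)) (k : ℕ) (κ : F)
    (h : ev m k κ ∈ S) (z : ℤ) : ev m k ((z : F) * κ) ∈ S := by
  have := S.zsmul_mem h z
  have e : z • ev m k κ = ev m k ((z : F) * κ) := by
    funext i
    simp only [Pi.smul_apply, ev_apply, zsmul_eq_mul]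
    split_ifs <;> simp
  rwa [e] at this

/-- Final step common to E2/E3/E4: if all multiples of `e_0, e_1, e_3` lie in `Mod H e_2ᵀ`
then `e_2ᵀ ∈ Cov H` (0-based indices, `n = 4`). -/
theorem cov_of_three {H : Subgroup (SpecialLinearGroup (Fin (0 + 4)) F)}
    (h0 : ∀ t : F, ev 0 0 t ∈ Mod H (ev 0 2 (1 : F)))
    (h1 : ∀ t : F, ev 0 1 t ∈ Mod H (ev 0 2 (1 : F)))
    (h3 : ∀ t : F, ev 0 3 t ∈ Mod H (ev 0 2 (1 : F))) :
    ev 0 2 (1 : F) ∈ Cov H := by
  apply mem_Cov_of_Mod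
  intro v hv
  rw [ev_dot 2 (by omega), one_mul] at hv
  have e : v = ev 0 0 (v ⟨0, by omega⟩) + ev 0 1 (v ⟨1, by omega⟩) + ev 0 3 (v ⟨3, by omega⟩) := by
    funext i
    obtain ⟨i, hi⟩ := i
    simp only [Pi.add_apply, ev_apply]
    interval_cases i
    · simp
    · simp
    · simpa using hv
    · simp
  rw [e]
  exact (Mod H _).add_mem ((Mod H _).add_mem (h0 _) (h1 _)) (h3 _)

end Cfsg.Agent.Helper5.RU2
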