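import Mathlib
import Cfsg.Agent.Helper4.RU2Defs
import Cfsg.Agent.Helper5.RU2Aux

set_option autoImplicit false
set_option linter.unusedSectionVars false

/-! Piece E3 of S2279: the `n = 4` endgame in characteristic 2 (`s4 = 1`). -/

open Matrix Polynomial
open Cfsg.Agent.Helper12.TVG Cfsg.Agent.Helper12.RUN Cfsg.Agent.Helper4.RU2

namespace Cfsg.Agent.Helper5.RU2

variable {F : Type*} [Field F] {m : ℕ}

/-- A set of scalars that is an additive subgroup, closed under multiplication by `s`, where `s`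
generates `F` as a ring, and that contains a nonzero element, is everything. -/
theorem scalars_eq_top (Q : AddSubgroup F) (s κ : F) (hs : ∀ t ∈ Q, t * s ∈ Q)
    (hgen : Subring.closure {s} = ⊤) (hκ : κ ≠ 0) (hκQ : κ ∈ Q) : ∀ t : F, t ∈ Q := by
  let R : Subring F :=
    { carrier := {r | ∀ t ∈ Q, t * r ∈ Q}
      mul_mem' := by
        intro a b ha hb t ht
        rw [← mul_assoc]
        exact hb _ (ha t ht)
      one_mem' := by intro t ht; rwa [mul_one]
      add_mem' := by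
        intro a b ha hb t ht
        rw [mul_add]
        exact Q.add_mem (ha t ht) (hb t ht)
      zero_mem' := by intro t _; rw [mul_zero]; exact Q.zero_mem
      neg_mem' := by
        intro a ha t ht
        rw [mul_neg]
        exact Q.neg_mem (ha t ht) }
  have hR : Subring.closure {s} ≤ R := by
    rw [Subring.closure_le]
    intro x hx
    rw [Set.mem_singleton_iff] at hx
    subst hx
    exact hs
  rw [hgen] at hR
  intro t
  have : κ⁻¹ * t ∈ R := hR (Subring.mem_top _)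
  have h2 := this κ hκQ
  rwa [← mul_assoc, mul_inv_cancel₀ hκ, one_mul] at h2

theorem cov3_E3 [CharP F 2] {H : Subgroup (SpecialLinearGroup (Fin (0 + 4)) F)} {s3 κ : F}
    (S : Setup (m := 0) H s3 1 κ) (hκ : κ ≠ 0) (hs3 : s3 ≠ 0)
    (hgen : Subring.closure {s3} = ⊤) : ev 0 2 (1 : F) ∈ Cov H := by
  have h2 : (2 : F) = 0 := CharP.cast_eq_zero F 2 |> fun h => by exact_mod_cast h
  have h11 : (1 : F) + 1 = 0 := by rw [one_add_one_eq_two]; exact h2
  have hu2 : InH H (uM (0 + 4) F * uM (0 + 4) F) := InH_mul S.hu S.hu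
  -- `u²` fixes `e_2ᵀ`
  have hfix : ev 0 2 (1 : F) ᵥ* (uM (0 + 4) F * uM (0 + 4) F) = ev 0 2 (1 : F) := by
    rw [← vecMul_vecMul]
    funext j
    rw [vecMul_uM_apply]
    simp only [vecMul_uM_apply]
    obtain ⟨j, hj⟩ := j
    simp only [ev_apply]
    interval_cases j <;> simp [h11]
  -- action of `u²` on vectors
  have hu2v : ∀ x : Fin (0 + 4) → F, (uM (0 + 4) F * uM (0 + 4) F) *ᵥ x
      = fun i => x i + (if h : i.val + 2 < 0 + 4 then x ⟨i.val + 2, h⟩ else 0) := by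
    intro x
    rw [← mulVec_mulVec]
    funext i
    rw [uM_mulVec_apply]
    simp only [uM_mulVec_apply]
    obtain ⟨i, hi⟩ := i
    interval_cases i
    · simp; linear_combination (x 1) * h11
    · simp; linear_combination (x 2) * h11
    · simp; linear_combination (x 3) * h11
    · simp
  -- `Q = {t | t e_1 ∈ M3}`
  let Q : AddSubgroup F :=
    { carrier := {t | ev 0 1 t ∈ Mod H (ev 0 2 (1 : F))}
      add_mem' := by
        intro a b ha hb
        show ev 0 1 (a + b) ∈ Mod H (ev 0 2 (1 : F))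
        rw [ev_add]; exact (Mod H _).add_mem ha hb
      zero_mem' := by
        show ev 0 1 (0 : F) ∈ Mod H (ev 0 2 (1 : F))
        rw [ev_zero]; exact (Mod H _).zero_mem
      neg_mem' := by
        intro a ha
        show ev 0 1 (-a) ∈ Mod H (ev 0 2 (1 : F))
        rw [ev_neg]; exact (Mod H _).neg_mem ha }
  have hQdef : ∀ t : F, t ∈ Q ↔ ev 0 1 t ∈ Mod H (ev 0 2 (1 : F)) := fun t => Iff.rfl
  -- `t e_3 ∈ M3 ⇒ t ∈ Q`
  have hAQ : ∀ t : F, ev 0 3 t ∈ Mod H (ev 0 2 (1 : F)) → t ∈ Q := by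
    intro t ht
    have := Mod_act' hu2 hfix ht
    have e : (uM (0 + 4) F * uM (0 + 4) F) *ᵥ ev 0 3 t = ev 0 3 t + ev 0 1 t := by
      rw [hu2v]
      funext i
      obtain ⟨i, hi⟩ := i
      simp only [Pi.add_apply, ev_apply]
      interval_cases i <;> simp
    rw [e] at this
    have h2 := (Mod H (ev 0 2 (1 : F))).sub_mem this ht
    rwa [add_sub_cancel_left] at h2
  have hκQ : κ ∈ Q := hAQ κ S.seed
  -- `T'` fixes `e_2ᵀ`
  have hTfix : ev 0 2 (1 : F) ᵥ* TpM 0 s3 1 = ev 0 2 (1 : F) := by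
    funext j
    rw [vecMul_TpM_apply]
    obtain ⟨j, hj⟩ := j
    simp only [ev_apply, j0_val, j1_val, jL_val]
    interval_cases j <;> simp
  -- `t ∈ Q ⇒ t (e_0 + s3 e_3) ∈ M3`
  have hQ03 : ∀ t ∈ Q, ev 0 0 t + ev 0 3 (t * s3) ∈ Mod H (ev 0 2 (1 : F)) := by
    intro t ht
    have := Mod_act' S.hT hTfix ht
    have e : TpM 0 s3 1 *ᵥ ev 0 1 t = ev 0 1 t + (ev 0 1 t + (ev 0 0 t + ev 0 3 (t * s3))) := by
      funext i
      rw [TpM_mulVec_apply]
      obtain ⟨i, hi⟩ := i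
      simp only [Pi.add_apply, ev_apply, j0_val, j1_val, j2_val, Fin.ext_iff, jL_val]
      interval_cases i
      · simp
      · simp
      · simp
      · simp [mul_comm]
    rw [e] at this
    have h2 := (Mod H (ev 0 2 (1 : F))).sub_mem ((Mod H (ev 0 2 (1 : F))).sub_mem this ht) ht
    rwa [add_sub_cancel_left, add_sub_cancel_left] at h2
  -- `Q` closed under `× s3`
  have hQs : ∀ t ∈ Q, t * s3 ∈ Q := by
    intro t ht
    have h1 := hQ03 t ht
    have := Mod_act' hu2 hfix h1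
    have e : (uM (0 + 4) F * uM (0 + 4) F) *ᵥ (ev 0 0 t + ev 0 3 (t * s3))
        = (ev 0 0 t + ev 0 3 (t * s3)) + ev 0 1 (t * s3) := by
      rw [hu2v]
      funext i
      obtain ⟨i, hi⟩ := i
      simp only [Pi.add_apply, ev_apply]
      interval_cases i <;> simp
    rw [e] at this
    have h2 := (Mod H (ev 0 2 (1 : F))).sub_mem this h1
    rw [add_sub_cancel_left] at h2
    exact h2
  have hQtop : ∀ t : F, t ∈ Q := scalars_eq_top Q s3 κ hQs hgen hκ hκQ
  have h1 : ∀ t : F, ev 0 1 t ∈ Mod H (ev 0 2 (1 : F)) := fun t => (hQdef t).1 (hQtop t)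
  -- `t (e_1 - e_0) ∈ Mod φ4`
  have hφ4 : ev 0 2 (1 : F) ᵥ* uM (0 + 4) F = ev 0 2 (1 : F) + ev 0 3 (1 : F) := by
    funext j
    rw [vecMul_uM_apply]
    obtain ⟨j, hj⟩ := j
    simp only [Pi.add_apply, ev_apply]
    interval_cases j <;> simp
  have h10 : ∀ t : F, ev 0 1 t - ev 0 0 t ∈ Mod H (ev 0 2 (1 : F) + ev 0 3 (1 : F)) := by
    intro t
    refine Mod_conj_inv' S.hu hφ4 ?_
    have e : uM (0 + 4) F *ᵥ (ev 0 1 t - ev 0 0 t) = ev 0 1 t := by
      funext i
      rw [uM_mulVec_apply]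
      obtain ⟨i, hi⟩ := i
      simp only [Pi.sub_apply, ev_apply]
      interval_cases i <;> simp
    rw [e]
    exact h1 t
  -- transvect
  have h10' : ∀ t : F, ev 0 1 t - ev 0 0 t ∈ Mod H (ev 0 2 (1 : F)) := by
    intro t
    have hφw : ev 0 2 (1 : F) ⬝ᵥ (ev 0 1 (κ⁻¹ * t) - ev 0 0 (κ⁻¹ * t)) = 0 := by
      rw [ev_dot 2 (by omega)]; simp [ev_apply]
    have := Mod_transvect (h10 (κ⁻¹ * t)) hφw S.seed
    rw [add_dotProduct, ev_dot 2 (by omega), ev_dot 3 (by omega)] at this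
    have e : ((1 : F) * ev 0 (0 + 3) κ ⟨2, by omega⟩ + 1 * ev 0 (0 + 3) κ ⟨3, by omega⟩) •
        (ev 0 1 (κ⁻¹ * t) - ev 0 0 (κ⁻¹ * t)) = ev 0 1 t - ev 0 0 t := by
      funext i
      obtain ⟨i, hi⟩ := i
      simp only [Pi.sub_apply, Pi.smul_apply, ev_apply, smul_eq_mul]
      interval_cases i
      · simp; rw [← mul_assoc, mul_inv_cancel₀ hκ, one_mul]
      · simp; rw [← mul_assoc, mul_inv_cancel₀ hκ, one_mul]
      · simp
      · simp
    rwa [e] at this
  have h0 : ∀ t : F, ev 0 0 t ∈ Mod H (ev 0 2 (1 : F)) := by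
    intro t
    have := (Mod H (ev 0 2 (1 : F))).sub_mem (h1 t) (h10' t)
    rwa [sub_sub_cancel] at this
  have h3 : ∀ t : F, ev 0 3 t ∈ Mod H (ev 0 2 (1 : F)) := by
    intro t
    have := hQ03 (t * s3⁻¹) (hQtop _)
    rw [inv_mul_cancel_right₀ hs3] at this
    have h2 := (Mod H (ev 0 2 (1 : F))).sub_mem this (h0 (t * s3⁻¹))
    rwa [add_sub_cancel_left] at h2
  exact cov_of_three h0 h1 h3

end Cfsg.Agent.Helper5.RU2
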