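import Mathlib
import Cfsg.Agent.Helper4.RU2Defs
import Cfsg.Agent.Helper5.RU2Aux

set_option autoImplicit false
set_option linter.unusedSectionVars false

/-! Piece E4 of S2279: the `n = 4` endgame over a prime field. -/

open Matrix Polynomial
open Cfsg.Agent.Helper12.TVG Cfsg.Agent.Helper12.RUN Cfsg.Agent.Helper4.RU2

namespace Cfsg.Agent.Helper5.RU2

variable {F : Type*} [Field F] {m : ℕ}

/-- `X(-1) Y(-1) X(1) = 1 + e_2 e_3ᵀ` (0-based). -/
theorem E4_C_identity :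
    TM (ev 0 3 (-1 : F)) (ev 0 2 (1 : F)) *
      TM (ev 0 2 (-1 : F) + ev 0 3 (-1 : F)) (ev 0 2 (1 : F) - ev 0 3 (1 : F)) *
      TM (ev 0 3 (1 : F)) (ev 0 2 (1 : F)) = TM (ev 0 2 (1 : F)) (ev 0 3 (1 : F)) := by
  rw [Matrix.ext_iff_mulVec]
  intro x
  rw [← mulVec_mulVec, ← mulVec_mulVec]
  simp only [TM_mulVec, sub_dotProduct, ev_dot 2 (show 2 < 0 + 4 by omega),
    ev_dot 3 (show 3 < 0 + 4 by omega)]
  funext i
  obtain ⟨i, hi⟩ := i
  simp only [Pi.add_apply, Pi.smul_apply, ev_apply, smul_eq_mul]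
  interval_cases i
  · simp
  · simp
  · simp
  · simp

theorem E4_Ca_identity :
    TM (ev 0 2 (1 : F)) (ev 0 3 (1 : F)) *
      (uM (0 + 4) F - vecMulVec (ev 0 2 (1 : F)) (ev 0 3 (1 : F))) = uM (0 + 4) F := by
  rw [Matrix.ext_iff_mulVec]
  intro x
  rw [← mulVec_mulVec, TM_mulVec, sub_mulVec, vecMulVec_mulVec, op_smul_eq_smul]
  simp only [ev_dot 3 (show 3 < 0 + 4 by omega)]
  funext i
  simp only [Pi.add_apply, Pi.sub_apply, Pi.smul_apply, uM_mulVec_apply, ev_apply, smul_eq_mul]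
  obtain ⟨i, hi⟩ := i
  interval_cases i
  · simp
  · simp
  · simp
  · simp

theorem cov3_E4 {H : Subgroup (SpecialLinearGroup (Fin (0 + 4)) F)} {s3 s4 κ : F}
    (S : Setup (m := 0) H s3 s4 κ) (hκ : κ ≠ 0) (hint : ∀ x : F, ∃ k : ℤ, x = (k : F)) :
    ev 0 2 (1 : F) ∈ Cov H := by
  -- all `t e_3 ∈ M3`
  have hA : ∀ t : F, ev 0 3 t ∈ Mod H (ev 0 2 (1 : F)) := by
    intro t
    obtain ⟨z, hz⟩ := hint (t * κ⁻¹)
    have := ev_int_mem (Mod H (ev 0 2 (1 : F))) 3 κ S.seed z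
    rw [← hz, inv_mul_cancel_right₀ hκ] at this
    exact this
  -- `Y(t) ∈ H`
  have hψ : (ev 0 2 (1 : F) - ev 0 3 (1 : F)) ᵥ* uM (0 + 4) F = ev 0 2 (1 : F) := by
    funext j
    rw [vecMul_uM_apply]
    obtain ⟨j, hj⟩ := j
    simp only [Pi.sub_apply, ev_apply]
    interval_cases j <;> simp
  have hY : ∀ t : F, ev 0 2 t + ev 0 3 t ∈ Mod H (ev 0 2 (1 : F) - ev 0 3 (1 : F)) := by
    intro t
    have := Mod_conj' S.hu hψ (hA t)
    have e : uM (0 + 4) F *ᵥ ev 0 3 t = ev 0 2 t + ev 0 3 t := by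
      funext i
      rw [uM_mulVec_apply]
      obtain ⟨i, hi⟩ := i
      simp only [Pi.add_apply, ev_apply]
      interval_cases i <;> simp
    rwa [e] at this
  -- `C ∈ H`
  have hC : InH H (TM (ev 0 2 (1 : F)) (ev 0 3 (1 : F))) := by
    rw [← E4_C_identity]
    refine InH_mul (InH_mul (hA (-1)).2 ?_) (hA 1).2
    have := (hY (-1)).2
    exact this
  have hC1 : ev 0 2 (1 : F) ∈ Mod H (ev 0 3 (1 : F)) := by
    refine ⟨?_, hC⟩
    rw [ev_dot 3 (by omega)]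
    simp [ev_apply]
  have hC' : ∀ t : F, ev 0 2 t ∈ Mod H (ev 0 3 (1 : F)) := by
    intro t
    obtain ⟨z, hz⟩ := hint t
    have := ev_int_mem (Mod H (ev 0 3 (1 : F))) 2 1 hC1 z
    rw [← hz, mul_one] at this
    exact this
  -- `a = C⁻¹ u ∈ H`
  have ha : InH H (uM (0 + 4) F - vecMulVec (ev 0 2 (1 : F)) (ev 0 3 (1 : F))) := by
    refine InH_of_mul_left hC ?_
    rw [E4_Ca_identity]
    exact S.hu
  -- action of `a`
  have ha_vec : ∀ x : Fin (0 + 4) → F,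
      (uM (0 + 4) F - vecMulVec (ev 0 2 (1 : F)) (ev 0 3 (1 : F))) *ᵥ x
        = uM (0 + 4) F *ᵥ x - ev 0 2 (x ⟨3, by omega⟩) := by
    intro x
    rw [sub_mulVec, vecMulVec_mulVec, op_smul_eq_smul, ev_dot 3 (by omega), one_mul, ev_smul,
      mul_one]
  have ha_cov : ∀ φ : Fin (0 + 4) → F,
      φ ᵥ* (uM (0 + 4) F - vecMulVec (ev 0 2 (1 : F)) (ev 0 3 (1 : F)))
        = φ ᵥ* uM (0 + 4) F - ev 0 3 (φ ⟨2, by omega⟩) := by
    intro φ
    rw [vecMul_sub, vecMul_vecMulVec, dot_ev 2 (by omega), mul_one, ev_smul, mul_one]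
  -- `a` fixes `e_3ᵀ` and `e_2ᵀ`
  have hfix3 : ev 0 3 (1 : F) ᵥ* (uM (0 + 4) F - vecMulVec (ev 0 2 (1 : F)) (ev 0 3 (1 : F)))
      = ev 0 3 (1 : F) := by
    rw [ha_cov]
    funext j
    rw [Pi.sub_apply, vecMul_uM_apply]
    obtain ⟨j, hj⟩ := j
    simp only [ev_apply]
    interval_cases j <;> simp
  have hfix2 : ev 0 2 (1 : F) ᵥ* (uM (0 + 4) F - vecMulVec (ev 0 2 (1 : F)) (ev 0 3 (1 : F)))
      = ev 0 2 (1 : F) := by
    rw [ha_cov]
    funext j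
    rw [Pi.sub_apply, vecMul_uM_apply]
    obtain ⟨j, hj⟩ := j
    simp only [ev_apply]
    interval_cases j <;> simp
  -- `t e_1 ∈ Mod H e_3ᵀ`
  have h1' : ∀ t : F, ev 0 1 t ∈ Mod H (ev 0 3 (1 : F)) := by
    intro t
    have := Mod_act' ha hfix3 (hC' t)
    have e : (uM (0 + 4) F - vecMulVec (ev 0 2 (1 : F)) (ev 0 3 (1 : F))) *ᵥ ev 0 2 t
        = ev 0 2 t + ev 0 1 t := by
      rw [ha_vec]
      funext i
      rw [Pi.sub_apply, uM_mulVec_apply]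
      obtain ⟨i, hi⟩ := i
      simp only [Pi.add_apply, ev_apply]
      interval_cases i <;> simp
    rw [e] at this
    have h2 := (Mod H (ev 0 3 (1 : F))).sub_mem this (hC' t)
    rwa [add_sub_cancel_left] at h2
  -- `t e_1 ∈ M3`
  have h1 : ∀ t : F, ev 0 1 t ∈ Mod H (ev 0 2 (1 : F)) := by
    intro t
    have hφw : ev 0 2 (1 : F) ⬝ᵥ ev 0 1 t = 0 := by
      rw [ev_dot 2 (by omega)]; simp [ev_apply]
    have := Mod_transvect (h1' t) hφw (hA 1)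
    rw [ev_dot 3 (by omega)] at this
    simpa [ev_apply] using this
  -- `t e_0 ∈ M3`
  have h0 : ∀ t : F, ev 0 0 t ∈ Mod H (ev 0 2 (1 : F)) := by
    intro t
    have := Mod_act' ha hfix2 (h1 t)
    have e : (uM (0 + 4) F - vecMulVec (ev 0 2 (1 : F)) (ev 0 3 (1 : F))) *ᵥ ev 0 1 t
        = ev 0 1 t + ev 0 0 t := by
      rw [ha_vec]
      funext i
      rw [Pi.sub_apply, uM_mulVec_apply]
      obtain ⟨i, hi⟩ := i
      simp only [Pi.add_apply, ev_apply]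
      interval_cases i <;> simp
    rw [e] at this
    have h2 := (Mod H (ev 0 2 (1 : F))).sub_mem this (h1 t)
    rwa [add_sub_cancel_left] at h2
  exact cov_of_three h0 h1 hA

end Cfsg.Agent.Helper5.RU2
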