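import Mathlib
import Cfsg.Prelude.Def_JComponents
import Cfsg.Agent.Helper5.S2951Defs
import Cfsg.Agent.Helper5.S2951LEMD
import Cfsg.Agent.Helper21.S2951E1
import Cfsg.Agent.Helper3.S2951E4

/-! # S2951 board, piece E5 (Lemma E, blueprint §6) -/

set_option autoImplicit false

universe u

namespace Cfsg.Agent.S2951P

open Cfsg Subgroup Cfsg.Agent.Helper15.JComp

variable {G : Type u} [Group G] [Finite G] {M T K K' L L' : Subgroup G}

/-- E5 (S): Lemma E. -/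
theorem E5 (hA : Amalgam.{u}) {K₁ K₂ L₁ L₂ : Subgroup G} (d : PairData M T K₁ K₂ L₁ L₂) :
    Concl54 T := by
  obtain ⟨-, -, hS1, hS2⟩ := LEMD d
  have hiso := E1 hA d
  have h1 : IsS4Type ↥(K₁ ⊔ T) := by
    rcases hiso with h | h
    · exact Or.inl h.1
    · exact Or.inr h.1
  have h2 : IsS4Type ↥(K₂ ⊔ T) := by
    rcases hiso with h | h
    · exact Or.inl h.2
    · exact Or.inr h.2
  have e1 : L₁ = K₁ ⊔ T := E4 d h1
  have e2 : L₂ = K₂ ⊔ T := E4 d.symm h2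
  refine ⟨L₁, L₂, d.ne, d.lk₁.1, d.lk₂.1, hS1, hS2, ?_⟩
  rw [e1, e2]
  exact hiso

end Cfsg.Agent.S2951P
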