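import Mathlib
import Cfsg.Agent.Helper5.S2951Defs
import Cfsg.Agent.Helper5.S2951LEMA
import Cfsg.Agent.Helper5.S2951LEMD
import Cfsg.Agent.Helper5.S2951E5
import Cfsg.Agent.Helper15.S2951PAIRLT
import Cfsg.Agent.Helper15.S2951PAIREQ
import Cfsg.Agent.Helper25.S2951ZFACTS
import Cfsg.Agent.Helper26.S2951LEMC
import Cfsg.Agent.Helper23.S2951SYLGE
import Cfsg.Agent.S2946
import Cfsg.Agent.S2949
import Cfsg.Agent.S2950

/-! # Assembly of S2951–S2954 (Kurzweil–Stellmacher 12.3.6–12.3.9) modulo the amalgam theorem S2858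

Blueprint: `departures/helper5_KS12_blueprint.md`.  `hA : Amalgam` is the statement of S2858 for the universe `u`. -/

set_option autoImplicit false

universe u

namespace Cfsg.Agent.S2951P

open Cfsg Subgroup Cfsg.Agent.Helper15.JComp Cfsg.Agent.S2951P

variable {G : Type u} [Group G] [Finite G]

/-- MAIN⁻: the theorem for `T < S`. -/
theorem ASM_mainlt (hA : Amalgam.{u}) (g : Glob G) (S : Sylow 2 G) {M : Subgroup G} (hM : IsTwoLocal M)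
    (hMJ : normalizer ((thompsonSubgroupOf 2 (S : Subgroup G) : Subgroup G) : Set G) ≤ M)
    {T : Subgroup G} (hT : T ∈ maxStraddlingTwoSubgroups M) (hTS : T ≤ (S : Subgroup G))
    (hne : T ≠ (S : Subgroup G)) : Concl54 T := by
  obtain ⟨K, hK⟩ := Cfsg.Agent.S2949.result g.hL g.hN g.hZ g.hO S M hM hMJ T hT
  obtain ⟨K₂, L₁, L₂, d⟩ := PAIRLT g S hM hMJ hT hTS hne hK
  exact E5 hA d

theorem ASM_hmain (hA : Amalgam.{u}) (g : Glob G) :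
    ∀ L : Subgroup G, IsTwoLocal L → ∀ S' : Sylow 2 G,
      normalizer ((thompsonSubgroupOf 2 (S' : Subgroup G) : Subgroup G) : Set G) ≤ L →
      ∀ T' : Subgroup G, T' ∈ maxStraddlingTwoSubgroups L → T' ≤ (S' : Subgroup G) →
        T' ≠ (S' : Subgroup G) → Concl54 T' :=
  fun _ hL2 S' hJ _ hT' hle hne => ASM_mainlt hA g S' hL2 hJ hT' hle hne

theorem ASM_omega_le_centralizer (X : Subgroup G) : omegaCenterOf X ≤ centralizer (X : Set G) :=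
  (omegaCenterOf_le X).trans inf_le_right

/-- S2951. -/
theorem ASM_51 (hA : Amalgam.{u}) (hL : IsCharacteristicTwoType G)
    (hN : ∀ N : Subgroup G, IsTwoLocal N → Group.IsSolvable ↥N)
    (hZ : ∀ S : Sylow 2 G, centralizer (omegaCenterOf (S : Subgroup G) : Set G) ≤
      normalizer ((S : Subgroup G) : Set G)) (hO : pCore 2 G = ⊥) (S : Sylow 2 G) (M : Subgroup G)
    (hM : IsTwoLocal M)
    (hMJ : normalizer (thompsonSubgroupOf 2 (S : Subgroup G) : Set G) ≤ M) (T : Subgroup G)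
    (hT : T ∈ maxStraddlingTwoSubgroups M) (hTS : T ≤ (S : Subgroup G)) (K : Subgroup G)
    (hK : K ∈ jComponentsOutside M T) (L : Subgroup G) (hLmax : IsMaximalTwoLocal L)
    (hKL : K ⊔ thompsonSubgroupOf 2 T ≤ L) (Z Z₀ : Subgroup G)
    (hZdef : Z = omegaCenterOf (S : Subgroup G))
    (hZ₀ : Z₀ = omegaCenterOf (thompsonSubgroupOf 2 T)) :
    Z₀ ⊓ wOf K ≠ ⊥ ∧
      ((Z = Z₀ ∧ Nat.card ↥Z₀ = 2) ∨ (Z = Z₀ ∧ Nat.card ↥Z₀ = 4 ∧ T = (S : Subgroup G)) ∨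
        (omegaCenterOf T = Z₀ ∧ Nat.card ↥Z₀ = 4 ∧
          (L ⊓ centralizer (Z₀ : Set G)).relIndex (normalizer (Z₀ : Set G)) = 2)) := by
  have g : Glob G := ⟨hL, hN, hZ, hO⟩
  have c : StraddleCtx M T := straddleCtx_mk hL hN hZ S hMJ hT
  subst hZdef hZ₀
  refine ⟨?_, ?_⟩
  · have h2 := (Cfsg.Agent.S2946.result hL hN hZ T c.hT2 hT.1.2.1 K hK.1.1 _ rfl).1
    intro hbot
    rw [hbot, Subgroup.card_bot] at h2
    norm_num at h2
  · by_cases hTS' : T = (S : Subgroup G)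
    · subst hTS'
      obtain ⟨K₂, L₁, L₂, -, hZZ, hcard⟩ := PAIREQ g S hM hMJ hT hK (ASM_hmain hA g)
      rcases hcard with h2 | h4
      · exact Or.inl ⟨hZZ, h2⟩
      · exact Or.inr (Or.inl ⟨hZZ, h4, rfl⟩)
    · rcases LEMA c S hMJ hTS hTS' hK ⟨hLmax, hKL⟩ with ⟨h1, h2⟩ | ⟨h1, h2, h3⟩
      · exact Or.inl ⟨h1, h2⟩
      · exact Or.inr (Or.inr ⟨h1, h2, h3⟩)

/-- the common part of S2952 – S2954: choose the Sylow subgroup around `T`. -/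
theorem ASM_52_aux (hA : Amalgam.{u}) (g : Glob G) (S : Sylow 2 G) {M : Subgroup G} (hM : IsTwoLocal M)
    (hMJ : normalizer ((thompsonSubgroupOf 2 (S : Subgroup G) : Subgroup G) : Set G) ≤ M)
    {T : Subgroup G} (hT : T ∈ maxStraddlingTwoSubgroups M) (hTS : T ≤ (S : Subgroup G))
    {K : Subgroup G} (hK : K ∈ jComponentsOutside M T) : T ≤ normalizer (K : Set G) := by
  have c : StraddleCtx M T := straddleCtx_mk g.hL g.hN g.hZ S hMJ hT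
  by_cases hTS' : T = (S : Subgroup G)
  · subst hTS'
    obtain ⟨K₂, L₁, L₂, d, -, -⟩ := PAIREQ g S hM hMJ hT hK (ASM_hmain hA g)
    exact d.norm₁
  · obtain ⟨L, hLmax, hKL, -, -, hTL⟩ :=
      Cfsg.Agent.S2950.result g.hL g.hN g.hZ g.hO S M hM hMJ T hT K hK
    have lk : IsLK T K L := ⟨hLmax, hKL⟩
    obtain ⟨-, hZT, hTZ0, -⟩ := ZFACTS c S hMJ hTS
    apply LEMC c hK.1.1 hK.2.1 lk hTL.1
    rcases LEMA c S hMJ hTS hTS' hK lk with ⟨h1, -⟩ | ⟨h1, -, -⟩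
    · rw [← h1]
      exact inf_le_left.trans (hZT.trans (ASM_omega_le_centralizer T))
    · rw [← h1]
      exact inf_le_left.trans (ASM_omega_le_centralizer T)

/-- S2952. -/
theorem ASM_52 (hA : Amalgam.{u}) (hL : IsCharacteristicTwoType G)
    (hN : ∀ N : Subgroup G, IsTwoLocal N → Group.IsSolvable ↥N)
    (hZ : ∀ S : Sylow 2 G, centralizer (omegaCenterOf (S : Subgroup G) : Set G) ≤
      normalizer ((S : Subgroup G) : Set G)) (hO : pCore 2 G = ⊥) (S : Sylow 2 G) (M : Subgroup G)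
    (hM : IsTwoLocal M)
    (hMJ : normalizer (thompsonSubgroupOf 2 (S : Subgroup G) : Set G) ≤ M) (T : Subgroup G)
    (hT : T ∈ maxStraddlingTwoSubgroups M) (K : Subgroup G) (hK : K ∈ jComponentsOutside M T) :
    (K.subgroupOf (K ⊔ T)).Normal := by
  have g : Glob G := ⟨hL, hN, hZ, hO⟩
  obtain ⟨S', hTS', -, hMJ'⟩ := SYLGE S hMJ hT.1.1 hT.1.2.2.1
  have h1 := ASM_52_aux hA g S' hM hMJ' hT hTS' hK
  rw [Subgroup.normal_subgroupOf_iff_le_normalizer le_sup_left]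
  exact sup_le le_normalizer h1

/-- S2953. -/
theorem ASM_53 (hA : Amalgam.{u}) (hL : IsCharacteristicTwoType G)
    (hN : ∀ N : Subgroup G, IsTwoLocal N → Group.IsSolvable ↥N)
    (hZ : ∀ S : Sylow 2 G, centralizer (omegaCenterOf (S : Subgroup G) : Set G) ≤
      normalizer ((S : Subgroup G) : Set G)) (hO : pCore 2 G = ⊥) (S : Sylow 2 G) (M : Subgroup G)
    (hM : IsTwoLocal M)
    (hMJ : normalizer (thompsonSubgroupOf 2 (S : Subgroup G) : Set G) ≤ M) (T : Subgroup G)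
    (hT : T ∈ maxStraddlingTwoSubgroups M) :
    ∃ K₁ K₂ : Subgroup G, K₁ ≠ K₂ ∧ IsJComponent T K₁ ∧ IsJComponent T K₂ ∧
      pCoreOf 2 ((K₁ ⊔ T) ⊔ (K₂ ⊔ T)) = ⊥ ∧
      ∀ P ∈ [K₁ ⊔ T, K₂ ⊔ T],
        centralizer (pCoreOf 2 P : Set G) ≤ pCoreOf 2 P ∧ IsSylowTwoIn T P ∧
        (pCoreOf 2 P).relIndex P = 6 ∧ ¬ ⁅P, P⁆ ≤ pCoreOf 2 P ∧ ⁅omegaCenterOf T, P⁆ ≠ ⊥ ∧
        ∃ L : Subgroup G, IsMaximalTwoLocal L ∧ P ≤ L ∧ IsSylowTwoIn T L ∧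
          ∀ L' : Subgroup G, IsMaximalTwoLocal L' → P ≤ L' → L' = L := by
  have g : Glob G := ⟨hL, hN, hZ, hO⟩
  obtain ⟨S', hTS', -, hMJ'⟩ := SYLGE S hMJ hT.1.1 hT.1.2.2.1
  obtain ⟨K, hK⟩ := Cfsg.Agent.S2949.result hL hN hZ hO S' M hM hMJ' T hT
  by_cases hTS'' : T = (S' : Subgroup G)
  · subst hTS''
    obtain ⟨K₂, L₁, L₂, d, -, -⟩ := PAIREQ g S' hM hMJ' hT hK (ASM_hmain hA g)
    exact ⟨K, K₂, (LEMD d).1⟩
  · obtain ⟨K₂, L₁, L₂, d⟩ := PAIRLT g S' hM hMJ' hT hTS' hTS'' hK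
    exact ⟨K, K₂, (LEMD d).1⟩

/-- S2954. -/
theorem ASM_54 (hA : Amalgam.{u}) (hL : IsCharacteristicTwoType G)
    (hN : ∀ N : Subgroup G, IsTwoLocal N → Group.IsSolvable ↥N)
    (hZ : ∀ S : Sylow 2 G, centralizer (omegaCenterOf (S : Subgroup G) : Set G) ≤
      normalizer ((S : Subgroup G) : Set G)) (hO : pCore 2 G = ⊥) (S : Sylow 2 G) (M : Subgroup G)
    (hM : IsTwoLocal M)
    (hMJ : normalizer (thompsonSubgroupOf 2 (S : Subgroup G) : Set G) ≤ M) (T : Subgroup G)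
    (hT : T ∈ maxStraddlingTwoSubgroups M) :
    ∃ P₁ P₂ : Subgroup G, P₁ ≠ P₂ ∧ IsMaximalTwoLocal P₁ ∧ IsMaximalTwoLocal P₂ ∧
      IsSylowTwoIn T P₁ ∧ IsSylowTwoIn T P₂ ∧
      ((Nonempty (↥P₁ ≃* Equiv.Perm (Fin 4)) ∧ Nonempty (↥P₂ ≃* Equiv.Perm (Fin 4))) ∨
        (Nonempty (↥P₁ ≃* Equiv.Perm (Fin 4) × Multiplicative (ZMod 2)) ∧
          Nonempty (↥P₂ ≃* Equiv.Perm (Fin 4) × Multiplicative (ZMod 2)))) := by
  have g : Glob G := ⟨hL, hN, hZ, hO⟩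
  obtain ⟨S', hTS', -, hMJ'⟩ := SYLGE S hMJ hT.1.1 hT.1.2.2.1
  obtain ⟨K, hK⟩ := Cfsg.Agent.S2949.result hL hN hZ hO S' M hM hMJ' T hT
  by_cases hTS'' : T = (S' : Subgroup G)
  · subst hTS''
    obtain ⟨K₂, L₁, L₂, d, -, -⟩ := PAIREQ g S' hM hMJ' hT hK (ASM_hmain hA g)
    exact E5 hA d
  · exact ASM_mainlt hA g S' hM hMJ' hT hTS' hTS''

end Cfsg.Agent.S2951P
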