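import Mathlib
import Cfsg.Agent.Helper4.S3501DERN

set_option autoImplicit false

namespace Cfsg.Agent.S3501P

open MulAction

section
variable {G : Type*} [Group G] [Finite G]

/-- CENT: a non-abelian unique minimal normal subgroup has trivial centraliser. -/
theorem CENT (N : Subgroup G) [N.Normal]
    (huniq : ∀ L : Subgroup G, L.Normal → L ≠ ⊥ →
      (∀ M : Subgroup G, M.Normal → M ≤ L → M = ⊥ ∨ M = L) → L = N)
    (hnab : ¬ IsMulCommutative N) : Subgroup.centralizer (N : Set G) = ⊥ := by
  by_contra hC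
  have hCn : (Subgroup.centralizer (N : Set G)).Normal := inferInstance
  obtain ⟨M, hMn, hM, hMC, hMmin⟩ := MINNORMAL (Subgroup.centralizer (N : Set G)) hC
  have hMN : M = N := huniq M hMn hM hMmin
  apply hnab
  refine ⟨⟨fun x y => ?_⟩⟩
  have hy : (y : G) ∈ Subgroup.centralizer (N : Set G) := hMC (hMN ▸ y.2)
  have := hy (x : G) x.2
  exact Subtype.ext this

end

end Cfsg.Agent.S3501P
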