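import Mathlib
import Cfsg.Agent.Helper5.ABDefs

set_option autoImplicit false

/-!
# S4463, piece B4: the extensions of a maximal-degree character of the preimage of a
Frobenius complement vanish off the preimage of the kernel and agree on `K`
-/

namespace Cfsg.Agent.Helper5.AB

open Cfsg Cfsg.Agent.Helper24 Cfsg.Agent.Helper29.TwoDeg
open scoped ComplexConjugate commutatorElement

universe u

variable {G : Type u} [Group G] [Finite G]

theorem caseB_extensions {b : ℕ} (K : Subgroup G) [K.Normal]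
    (C : Subgroup (G ⧸ K))
    (hpart : ∀ x : G ⧸ K, x ∉ commutator (G ⧸ K) → ∃ g : G ⧸ K, g * x * g⁻¹ ∈ C)
    (hcore : ∀ c ∈ C, c ≠ 1 → ∃ g : G ⧸ K, g * c * g⁻¹ ∉ C)
    (η : IrrCharacter (C.comap (QuotientGroup.mk' K))) (hη : irrDeg η = b)
    (hcard : Nat.card {χ : IrrCharacter G //
      ∀ x : C.comap (QuotientGroup.mk' K), (χ : G → ℂ) x = (η : _ → ℂ) x} = C.index)
    (hvan : ∀ x : C.comap (QuotientGroup.mk' K), (η : _ → ℂ) x ≠ 0 →
      ∀ g : G, g * (x : G) * g⁻¹ ∈ C.comap (QuotientGroup.mk' K)) :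
    ∃ S : Finset (IrrCharacter G), S.card = C.index ∧
      (∀ ψ ∈ S, irrDeg ψ = b) ∧
      (∀ ψ ∈ S, ∀ g : G, g ∉ preComm K → (ψ : G → ℂ) g = 0) ∧
      (∀ ψ ∈ S, ∀ ψ' ∈ S, ∀ k ∈ K, (ψ : G → ℂ) k = (ψ' : G → ℂ) k) := by
  classical
  have : Fintype (IrrCharacter G) := Fintype.ofFinite _
  -- `η` vanishes off `K`
  have hηvan : ∀ x : C.comap (QuotientGroup.mk' K), (x : G) ∉ K → (η : _ → ℂ) x = 0 := by
    intro x hx
    by_contra hne
    have hconj := hvan x hne
    have hxC : (QuotientGroup.mk' K) (x : G) ∈ C := x.2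
    have hx1 : (QuotientGroup.mk' K) (x : G) ≠ 1 := fun h =>
      hx ((QuotientGroup.eq_one_iff (x : G)).mp h)
    obtain ⟨q, hq⟩ := hcore _ hxC hx1
    obtain ⟨g, rfl⟩ := QuotientGroup.mk'_surjective K q
    apply hq
    have h1 : (QuotientGroup.mk' K) (g * (x : G) * g⁻¹) ∈ C := hconj g
    rw [map_mul, map_mul, map_inv] at h1
    exact h1
  refine ⟨Finset.univ.filter (fun χ : IrrCharacter G =>
    ∀ x : C.comap (QuotientGroup.mk' K), (χ : G → ℂ) x = (η : _ → ℂ) x), ?_, ?_, ?_, ?_⟩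
  · rw [← hcard, Nat.card_eq_fintype_card, Fintype.card_subtype]
  · intro ψ hψ
    have h1 := (Finset.mem_filter.mp hψ).2 1
    rw [Subgroup.coe_one, irrDeg_spec, irrDeg_spec, hη] at h1
    exact_mod_cast h1
  · intro ψ hψ g hg
    have hψη := (Finset.mem_filter.mp hψ).2
    have hg' : (QuotientGroup.mk' K) g ∉ commutator (G ⧸ K) := hg
    obtain ⟨q, hq⟩ := hpart _ hg'
    obtain ⟨h, rfl⟩ := QuotientGroup.mk'_surjective K q
    have hmem : h * g * h⁻¹ ∈ C.comap (QuotientGroup.mk' K) := by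
      show (QuotientGroup.mk' K) (h * g * h⁻¹) ∈ C
      rw [map_mul, map_mul, map_inv]
      exact hq
    have hnK : h * g * h⁻¹ ∉ K := by
      intro hK
      apply hg'
      have h1 : g ∈ K := by
        have h2 := (inferInstance : K.Normal).conj_mem _ hK h⁻¹
        have h3 : h⁻¹ * (h * g * h⁻¹) * h⁻¹⁻¹ = g := by group
        rwa [h3] at h2
      have h4 : (QuotientGroup.mk' K) g = 1 := (QuotientGroup.eq_one_iff g).mpr h1
      rw [h4]
      exact Subgroup.one_mem _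
    have h1 := hψη ⟨h * g * h⁻¹, hmem⟩
    rw [hηvan ⟨h * g * h⁻¹, hmem⟩ hnK] at h1
    rw [← isClassFunction_irr ψ g h]
    exact h1
  · intro ψ hψ ψ' hψ' k hk
    have hkmem : k ∈ C.comap (QuotientGroup.mk' K) := by
      show (QuotientGroup.mk' K) k ∈ C
      have h4 : (QuotientGroup.mk' K) k = 1 := (QuotientGroup.eq_one_iff k).mpr hk
      rw [h4]
      exact Subgroup.one_mem _
    have h1 := (Finset.mem_filter.mp hψ).2 ⟨k, hkmem⟩
    have h2 := (Finset.mem_filter.mp hψ').2 ⟨k, hkmem⟩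
    exact h1.trans h2.symm

end Cfsg.Agent.Helper5.AB
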