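import Mathlib
import Cfsg.Agent.Helper5.ABDefs
import Cfsg.Agent.Helper24.RealChar

set_option autoImplicit false

/-!
# S4463, piece B5: the product trick bounding the number of extensions
-/

namespace Cfsg.Agent.Helper5.AB

open Cfsg Cfsg.Agent.Helper24 Cfsg.Agent.Helper29.TwoDeg
open scoped ComplexConjugate commutatorElement

universe u

variable {G : Type u} [Group G] [Finite G]

theorem caseB_prod {b : ℕ} (hb : DegLe G b) (K N : Subgroup G)
    (χ : IrrCharacter G) (hχ : ∀ g ∈ N, g ∉ K → (χ : G → ℂ) g = 0)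
    (S : Finset (IrrCharacter G)) (hSdeg : ∀ ψ ∈ S, irrDeg ψ = b)
    (hSvan : ∀ ψ ∈ S, ∀ g : G, g ∉ N → (ψ : G → ℂ) g = 0)
    (hSK : ∀ ψ ∈ S, ∀ ψ' ∈ S, ∀ k ∈ K, (ψ : G → ℂ) k = (ψ' : G → ℂ) k) :
    S.card ≤ b := by
  classical
  have : Fintype G := Fintype.ofFinite G
  have : Fintype (IrrCharacter G) := Fintype.ofFinite _
  rcases S.eq_empty_or_nonempty with hS | ⟨ψ₀, hψ₀⟩
  · rw [hS, Finset.card_empty]; exact Nat.zero_le _
  have hbpos : 0 < b := by rw [← hSdeg ψ₀ hψ₀]; exact irrDeg_pos ψ₀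
  -- all the products agree
  have hprod : ∀ ψ ∈ S, ∀ g : G, (χ : G → ℂ) g * (ψ : G → ℂ) g =
      (χ : G → ℂ) g * (ψ₀ : G → ℂ) g := by
    intro ψ hψ g
    by_cases hgK : g ∈ K
    · rw [hSK ψ hψ ψ₀ hψ₀ g hgK]
    · by_cases hgN : g ∈ N
      · rw [hχ g hgN hgK, zero_mul, zero_mul]
      · rw [hSvan ψ hψ g hgN, hSvan ψ₀ hψ₀ g hgN]
  have hΨc : IsCharacter G (fun g => (χ : G → ℂ) g * (ψ₀ : G → ℂ) g) :=
    IsCharacter.mul (IsIrrCharacter.isCharacter χ.2) (IsIrrCharacter.isCharacter ψ₀.2)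
  have hΨ0 : (fun g => (χ : G → ℂ) g * (ψ₀ : G → ℂ) g) ≠ 0 := by
    intro h0
    have h1 := congrFun h0 1
    simp only [Pi.zero_apply] at h1
    rw [irrDeg_spec, irrDeg_spec] at h1
    have h2 : ((irrDeg χ * irrDeg ψ₀ : ℕ) : ℂ) = 0 := by push_cast; exact h1
    have h3 : irrDeg χ * irrDeg ψ₀ = 0 := by exact_mod_cast h2
    have := irrDeg_pos χ
    have := irrDeg_pos ψ₀
    rcases Nat.mul_eq_zero.mp h3 with h | h <;> omega
  obtain ⟨ξ, hξ⟩ := IsCharacter.exists_irr_constituent hΨc hΨ0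
  -- the character `conj χ · ξ`
  have hΦc : IsCharacter G (fun g => (starRingEnd ℂ) ((χ : G → ℂ) g) * (ξ : G → ℂ) g) :=
    IsCharacter.mul (isCharacter_star (IsIrrCharacter.isCharacter χ.2))
      (IsIrrCharacter.isCharacter ξ.2)
  obtain ⟨n, hn⟩ := IsCharacter.exists_nat_coeff hΦc
  have hcoef : ∀ ψ : IrrCharacter G,
      classInner (fun g => (starRingEnd ℂ) ((χ : G → ℂ) g) * (ξ : G → ℂ) g) (ψ : G → ℂ) = n ψ := by
    intro ψ
    rw [hn]; exact classInner_sum_irr _ ψ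
  have hnS : ∀ ψ ∈ S, 1 ≤ n ψ := by
    intro ψ hψ
    rw [Nat.one_le_iff_ne_zero]
    intro h0
    apply hξ
    have h1 : classInner (fun g => (χ : G → ℂ) g * (ψ₀ : G → ℂ) g) (ξ : G → ℂ) =
        classInner (ψ : G → ℂ)
          (fun g => (starRingEnd ℂ) ((χ : G → ℂ) g) * (ξ : G → ℂ) g) := by
      unfold classInner
      congr 1
      refine Finset.sum_congr rfl (fun g _ => ?_)
      show (χ : G → ℂ) g * (ψ₀ : G → ℂ) g * (starRingEnd ℂ) ((ξ : G → ℂ) g) =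
        (ψ : G → ℂ) g * (starRingEnd ℂ) ((starRingEnd ℂ) ((χ : G → ℂ) g) * (ξ : G → ℂ) g)
      rw [← hprod ψ hψ g, map_mul, Complex.conj_conj]
      ring
    rw [h1, ← classInner_conj_symm, hcoef ψ, h0, Nat.cast_zero, map_zero]
  -- degrees
  have hdeg : irrDeg χ * irrDeg ξ = ∑ ψ : IrrCharacter G, n ψ * irrDeg ψ := by
    have h1 := congrFun hn 1
    simp only [Finset.sum_apply, Pi.smul_apply, smul_eq_mul] at h1
    rw [irrDeg_spec, irrDeg_spec, Complex.conj_natCast] at h1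
    have h2 : ((irrDeg χ * irrDeg ξ : ℕ) : ℂ) =
        ((∑ ψ : IrrCharacter G, n ψ * irrDeg ψ : ℕ) : ℂ) := by
      push_cast
      rw [h1]
      refine Finset.sum_congr rfl (fun ψ _ => ?_)
      rw [irrDeg_spec]
    exact_mod_cast h2
  have hge : S.card * b ≤ ∑ ψ : IrrCharacter G, n ψ * irrDeg ψ := by
    calc S.card * b = ∑ ψ ∈ S, b := by rw [Finset.sum_const, smul_eq_mul]
      _ ≤ ∑ ψ ∈ S, n ψ * irrDeg ψ := by
          apply Finset.sum_le_sum
          intro ψ hψ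
          rw [hSdeg ψ hψ]
          exact Nat.le_mul_of_pos_left _ (hnS ψ hψ)
      _ ≤ ∑ ψ : IrrCharacter G, n ψ * irrDeg ψ :=
          Finset.sum_le_sum_of_subset (Finset.subset_univ S)
  have hle : irrDeg χ * irrDeg ξ ≤ irrDeg χ * b := Nat.mul_le_mul_left _ (hb ξ)
  have h3 : S.card * b ≤ irrDeg χ * b := by rw [← hdeg] at hge; exact hge.trans hle
  have h4 : S.card ≤ irrDeg χ := Nat.le_of_mul_le_mul_right h3 hbpos
  exact h4.trans (hb χ)

end Cfsg.Agent.Helper5.AB
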