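import Mathlib
import Cfsg.Agent.Helper5.ABDefs

set_option autoImplicit false

/-!
# S4463, piece C1: structure of a quotient with nonabelian derived subgroup
-/

namespace Cfsg.Agent.Helper5.AB

open Cfsg Cfsg.Agent.Helper24 Cfsg.Agent.Helper29.TwoDeg
open scoped ComplexConjugate commutatorElement

universe u

theorem caseC_struct {X : Type u} [Group X] [Finite X]
    (hmin : ∀ L : Subgroup X, L.Normal → L ≠ ⊥ → commutator X ≤ L)
    (hnab : ¬ ∀ a ∈ commutator X, ∀ c ∈ commutator X, a * c = c * a) :
    ⁅commutator X, commutator X⁆ = commutator X ∧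
    Subgroup.centralizer (commutator X : Set X) = ⊥ ∧
    ¬ Group.IsSolvable X := by
  have hperf : ⁅commutator X, commutator X⁆ = commutator X := by
    apply le_antisymm (Subgroup.commutator_le_left _ _)
    apply hmin _ inferInstance
    intro hbot
    apply hnab
    intro a ha c hc
    have h1 : ⁅a, c⁆ ∈ ⁅commutator X, commutator X⁆ := Subgroup.commutator_mem_commutator ha hc
    rw [hbot, Subgroup.mem_bot, commutatorElement_eq_one_iff_mul_comm] at h1
    exact h1
  refine ⟨hperf, ?_, ?_⟩
  · by_contra hne
    have hle := hmin _ inferInstance hne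
    apply hnab
    intro a ha c hc
    have h1 := hle hc
    rw [Subgroup.mem_centralizer_iff] at h1
    exact h1 a ha
  · intro hsolv
    obtain ⟨n, hn⟩ := hsolv.solvable
    have hle : ∀ k : ℕ, commutator X ≤ derivedSeries X k := by
      intro k
      induction k with
      | zero => rw [derivedSeries_zero]; exact le_top
      | succ k ih =>
        rw [derivedSeries_succ]
        calc commutator X = ⁅commutator X, commutator X⁆ := hperf.symm
          _ ≤ ⁅derivedSeries X k, derivedSeries X k⁆ := Subgroup.commutator_mono ih ih
    have h1 := hle n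
    rw [hn] at h1
    apply hnab
    intro a ha c hc
    have ha1 := h1 ha
    have hc1 := h1 hc
    rw [Subgroup.mem_bot] at ha1 hc1
    rw [ha1, hc1]

end Cfsg.Agent.Helper5.AB
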