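import Mathlib
import Cfsg.Agent.Helper5.ABDefs
import Cfsg.Agent.Helper24.ColumnOrth

set_option autoImplicit false

/-!
# S4463, piece C2: a nontrivial conjugacy class of size at most `b²`
-/

namespace Cfsg.Agent.Helper5.AB

open Cfsg Cfsg.Agent.Helper24 Cfsg.Agent.Helper29.TwoDeg
open scoped ComplexConjugate commutatorElement

universe u

/-- The sum of the centraliser orders is the class number times the group order. -/
theorem sum_card_centralizer {X : Type u} [Group X] [Fintype X] [Fintype (IrrCharacter X)] :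
    ∑ x : X, Nat.card (Subgroup.centralizer ({x} : Set X)) =
      Fintype.card (IrrCharacter X) * Nat.card X := by
  classical
  have h1 : ∀ x : X, (Nat.card (Subgroup.centralizer ({x} : Set X)) : ℂ) =
      ∑ χ : IrrCharacter X, (χ : X → ℂ) x * (starRingEnd ℂ) ((χ : X → ℂ) x) := by
    intro x
    rw [sum_irr_mul_conj x x, if_pos (IsConj.refl x)]
  have hXne : (Nat.card X : ℂ) ≠ 0 := by exact_mod_cast Nat.card_pos.ne'
  have h2 : ∀ χ : IrrCharacter X,
      ∑ x : X, (χ : X → ℂ) x * (starRingEnd ℂ) ((χ : X → ℂ) x) = (Nat.card X : ℂ) := by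
    intro χ
    have h3 := classInner_irr_self χ
    unfold classInner at h3
    have := congrArg (fun z => (Nat.card X : ℂ) * z) h3
    simp only [mul_one] at this
    rw [← this, ← mul_assoc, mul_inv_cancel₀ hXne, one_mul]
  have h4 : ((∑ x : X, Nat.card (Subgroup.centralizer ({x} : Set X)) : ℕ) : ℂ) =
      ((Fintype.card (IrrCharacter X) * Nat.card X : ℕ) : ℂ) := by
    push_cast
    rw [Finset.sum_congr rfl (fun x _ => h1 x), Finset.sum_comm,
      Finset.sum_congr rfl (fun χ _ => h2 χ), Finset.sum_const, Finset.card_univ, nsmul_eq_mul]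
  exact_mod_cast h4

theorem exists_small_class {X : Type u} [Group X] [Finite X] [Nontrivial X] {b : ℕ}
    (hb : DegLe X b) :
    ∃ x : X, x ≠ 1 ∧ (Subgroup.centralizer ({x} : Set X)).index ≤ b ^ 2 := by
  classical
  have : Fintype X := Fintype.ofFinite X
  have : Fintype (IrrCharacter X) := Fintype.ofFinite _
  by_contra hcon
  push Not at hcon
  set n := Nat.card X with hn
  set k := Fintype.card (IrrCharacter X) with hk
  have hn2 : 2 ≤ n := Finite.one_lt_card
  -- Fact C
  have hC : n ≤ 1 + (k - 1) * b ^ 2 := by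
    rw [hn, ← sum_irrDeg_sq]
    rw [← Finset.add_sum_erase Finset.univ _ (Finset.mem_univ (trivIrr X))]
    have h1 : irrDeg (trivIrr X) = 1 := by rw [irrDeg_eq_one_iff]; rfl
    rw [h1, one_pow]
    apply Nat.add_le_add_left
    calc ∑ χ ∈ Finset.univ.erase (trivIrr X), irrDeg χ ^ 2
        ≤ ∑ _χ ∈ Finset.univ.erase (trivIrr X), b ^ 2 :=
          Finset.sum_le_sum (fun χ _ => Nat.pow_le_pow_left (hb χ) 2)
      _ = (k - 1) * b ^ 2 := by
          rw [Finset.sum_const, Finset.card_erase_of_mem (Finset.mem_univ _), Finset.card_univ,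
            smul_eq_mul]
  -- Fact A, B
  have hA := sum_card_centralizer (X := X)
  have hB : ∀ x : X, x ≠ 1 →
      Nat.card (Subgroup.centralizer ({x} : Set X)) * (b ^ 2 + 1) ≤ n := by
    intro x hx
    have h1 := hcon x hx
    have h2 := Subgroup.card_mul_index (Subgroup.centralizer ({x} : Set X))
    rw [← hn] at h2
    calc Nat.card (Subgroup.centralizer ({x} : Set X)) * (b ^ 2 + 1)
        ≤ Nat.card (Subgroup.centralizer ({x} : Set X)) *
          (Subgroup.centralizer ({x} : Set X)).index := Nat.mul_le_mul_left _ h1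
      _ = n := h2
  have h1c : Nat.card (Subgroup.centralizer ({(1 : X)} : Set X)) = n := by
    have : Subgroup.centralizer ({(1 : X)} : Set X) = ⊤ := by
      rw [eq_top_iff]
      intro g _
      rw [Subgroup.mem_centralizer_iff]
      intro h hh
      rw [Set.mem_singleton_iff] at hh
      rw [hh, one_mul, mul_one]
    rw [this, Subgroup.card_top]
  have hsum : k * n * (b ^ 2 + 1) ≤ n * (b ^ 2 + 1) + (n - 1) * n := by
    rw [← hA, Finset.sum_mul]
    rw [← Finset.add_sum_erase Finset.univ _ (Finset.mem_univ (1 : X)), h1c]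
    apply Nat.add_le_add_left
    calc ∑ x ∈ Finset.univ.erase (1 : X),
          Nat.card (Subgroup.centralizer ({x} : Set X)) * (b ^ 2 + 1)
        ≤ ∑ _x ∈ Finset.univ.erase (1 : X), n :=
          Finset.sum_le_sum (fun x hx => hB x (Finset.ne_of_mem_erase hx))
      _ = (n - 1) * n := by
          rw [Finset.sum_const, Finset.card_erase_of_mem (Finset.mem_univ _), Finset.card_univ,
            smul_eq_mul, ← Nat.card_eq_fintype_card]
  have hkpos : 1 ≤ k := Fintype.card_pos_iff.mpr ⟨trivIrr X⟩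
  -- divide by n
  have h5 : k * (b ^ 2 + 1) ≤ (b ^ 2 + 1) + (n - 1) := by
    have h6 : n * (k * (b ^ 2 + 1)) ≤ n * ((b ^ 2 + 1) + (n - 1)) := by
      calc n * (k * (b ^ 2 + 1)) = k * n * (b ^ 2 + 1) := by ring
        _ ≤ n * (b ^ 2 + 1) + (n - 1) * n := hsum
        _ = n * ((b ^ 2 + 1) + (n - 1)) := by ring
    exact Nat.le_of_mul_le_mul_left h6 (by omega)
  -- combine
  obtain ⟨k', hk'⟩ : ∃ k', k = k' + 1 := ⟨k - 1, by omega⟩
  rw [hk'] at hC h5
  simp only [Nat.add_sub_cancel] at hC
  have h7 : (k' + 1) * (b ^ 2 + 1) ≤ (b ^ 2 + 1) + k' * b ^ 2 := by omega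
  have h8 : k' = 0 := by nlinarith
  rw [h8, zero_mul] at hC
  omega

end Cfsg.Agent.Helper5.AB
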