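import Mathlib
import Cfsg.Agent.Helper5.ABDefs

set_option autoImplicit false

/-!
# S4463, piece C3: the preimage of a small centraliser works, or `|G:K| ≤ b⁴`
-/

namespace Cfsg.Agent.Helper5.AB

open Cfsg Cfsg.Agent.Helper24 Cfsg.Agent.Helper29.TwoDeg
open scoped ComplexConjugate commutatorElement

universe u

variable {G : Type u} [Group G] [Finite G]

theorem caseC {b : ℕ} (hb : DegLe G b) (K : Subgroup G) [K.Normal]
    (hmin : ∀ L : Subgroup (G ⧸ K), L.Normal → L ≠ ⊥ → commutator (G ⧸ K) ≤ L)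
    (hcent : Subgroup.centralizer (commutator (G ⧸ K) : Set (G ⧸ K)) = ⊥)
    (x : G ⧸ K) (hx1 : x ≠ 1)
    (hxi : (Subgroup.centralizer ({x} : Set (G ⧸ K))).index ≤ b ^ 2)
    (hext : ∀ (H : Subgroup G) (θ : IrrCharacter H), irrDeg θ = b →
      ∀ y : H, (θ : H → ℂ) y ≠ 0 → ∀ g : G, g * (y : G) * g⁻¹ ∈ H)
    (hVB : ∀ (H : Subgroup G) (θ : IrrCharacter H) (N : Subgroup H),
      (∀ y : H, y ∉ N → (θ : H → ℂ) y = 0) → N.index ≤ irrDeg θ ^ 2) :
    (∃ H : Subgroup G, H.index ≤ b ^ 2 ∧ DegLe H (b - 1)) ∨ K.index ≤ b ^ 4 := by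
  classical
  set H : Subgroup G := (Subgroup.centralizer ({x} : Set (G ⧸ K))).comap (QuotientGroup.mk' K)
    with hH
  have hHi : H.index = (Subgroup.centralizer ({x} : Set (G ⧸ K))).index :=
    Subgroup.index_comap_of_surjective _ (QuotientGroup.mk'_surjective K)
  by_cases hdeg : DegLe H (b - 1)
  · left
    exact ⟨H, by rw [hHi]; exact hxi, hdeg⟩
  right
  -- a character of degree `b` of `H`
  have hθ : ∃ θ : IrrCharacter H, irrDeg θ = b := by
    unfold DegLe at hdeg
    push Not at hdeg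
    obtain ⟨θ, hθ⟩ := hdeg
    have := (hb.subgroup H) θ
    exact ⟨θ, by omega⟩
  obtain ⟨θ, hθ⟩ := hθ
  have hKH : K ≤ H := by
    intro k hk
    show (QuotientGroup.mk' K) k ∈ Subgroup.centralizer ({x} : Set (G ⧸ K))
    have : (QuotientGroup.mk' K) k = 1 := (QuotientGroup.eq_one_iff k).mpr hk
    rw [this]
    exact Subgroup.one_mem _
  -- `θ` vanishes off `K`
  have hvan : ∀ y : H, y ∉ K.subgroupOf H → (θ : H → ℂ) y = 0 := by
    intro y hy
    rw [Subgroup.mem_subgroupOf] at hy
    by_contra hne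
    have hconj := hext H θ hθ y hne
    set yb : G ⧸ K := QuotientGroup.mk' K (y : G) with hyb
    have hyb1 : yb ≠ 1 := fun h => hy ((QuotientGroup.eq_one_iff (y : G)).mp h)
    have hLle : Subgroup.normalClosure ({yb} : Set (G ⧸ K)) ≤
        Subgroup.centralizer ({x} : Set (G ⧸ K)) := by
      unfold Subgroup.normalClosure
      rw [Subgroup.closure_le]
      intro z hz
      rw [Group.mem_conjugatesOfSet_iff] at hz
      obtain ⟨a, ha, hza⟩ := hz
      rw [Set.mem_singleton_iff] at ha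
      subst ha
      rw [isConj_iff] at hza
      obtain ⟨c, hc⟩ := hza
      obtain ⟨g, rfl⟩ := QuotientGroup.mk'_surjective K c
      have h1 : (QuotientGroup.mk' K) (g * (y : G) * g⁻¹) ∈
          Subgroup.centralizer ({x} : Set (G ⧸ K)) := hconj g
      rw [map_mul, map_mul, map_inv] at h1
      rw [← hc]
      exact h1
    have hLne : Subgroup.normalClosure ({yb} : Set (G ⧸ K)) ≠ ⊥ := by
      intro hbot
      have : yb ∈ Subgroup.normalClosure ({yb} : Set (G ⧸ K)) :=
        Subgroup.subset_normalClosure (Set.mem_singleton yb)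
      rw [hbot, Subgroup.mem_bot] at this
      exact hyb1 this
    have hcomm := (hmin _ Subgroup.normalClosure_normal hLne).trans hLle
    have hxc : x ∈ Subgroup.centralizer (commutator (G ⧸ K) : Set (G ⧸ K)) := by
      rw [Subgroup.mem_centralizer_iff]
      intro c hc
      have h2 := hcomm hc
      rw [Subgroup.mem_centralizer_iff] at h2
      exact (h2 x (Set.mem_singleton x)).symm
    rw [hcent, Subgroup.mem_bot] at hxc
    exact hx1 hxc
  have h1 := hVB H θ (K.subgroupOf H) hvan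
  rw [hθ] at h1
  have h2 : (K.subgroupOf H).index = K.relIndex H := rfl
  rw [h2] at h1
  have h3 := Subgroup.relIndex_mul_index hKH
  rw [← h3]
  calc K.relIndex H * H.index ≤ b ^ 2 * b ^ 2 := Nat.mul_le_mul h1 (by rw [hHi]; exact hxi)
    _ = b ^ 4 := by ring

end Cfsg.Agent.Helper5.AB
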