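import Mathlib
import Cfsg.Agent.Helper5.ABDefs

set_option autoImplicit false

/-!
# S4463, piece C4: bridge from the perfect-section bound to `preComm K`
-/

namespace Cfsg.Agent.Helper5.AB

open Cfsg Cfsg.Agent.Helper24 Cfsg.Agent.Helper29.TwoDeg
open scoped ComplexConjugate commutatorElement

universe u

variable {G : Type u} [Group G] [Finite G]

theorem degLe_third_of_perfect {b : ℕ} (hb : DegLe G b) (K : Subgroup G) [K.Normal]
    (hperf : ⁅commutator (G ⧸ K), commutator (G ⧸ K)⁆ = commutator (G ⧸ K))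
    (hne : commutator (G ⧸ K) ≠ ⊥)
    (hP : ∀ (M : Type u) [Group M] [Finite M] (K' : Subgroup M) [K'.Normal],
      commutator (M ⧸ K') = ⊤ → K' ≠ ⊤ → ∀ θ : IrrCharacter K',
      ∃ ψ : IrrCharacter M, 3 * irrDeg θ ≤ irrDeg ψ) :
    DegLe K (b / 3) := by
  classical
  intro θ
  set M : Subgroup G := preComm K with hM
  have hKM : K ≤ M := le_preComm K
  -- the restriction of the quotient map to `M`
  let φ : M →* G ⧸ K := (QuotientGroup.mk' K).comp M.subtype
  have hφrange : φ.range = commutator (G ⧸ K) := by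
    rw [MonoidHom.range_comp, Subgroup.range_subtype, hM]
    unfold preComm
    exact Subgroup.map_comap_eq_self_of_surjective (QuotientGroup.mk'_surjective K) _
  have hφker : φ.ker = K.subgroupOf M := by
    ext x
    rw [MonoidHom.mem_ker, Subgroup.mem_subgroupOf]
    show (QuotientGroup.mk' K) (x : G) = 1 ↔ _
    exact QuotientGroup.eq_one_iff (x : G)
  -- (1) the quotient is perfect
  have h1 : commutator (M ⧸ K.subgroupOf M) = ⊤ := by
    have hmap : (commutator M).map φ = φ.range := by
      rw [commutator_def, Subgroup.map_commutator, ← MonoidHom.range_eq_map, hφrange, hperf]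
    have hcq : commutator (M ⧸ K.subgroupOf M) =
        (commutator M).map (QuotientGroup.mk' (K.subgroupOf M)) := by
      rw [commutator_def, commutator_def, Subgroup.map_commutator,
        Subgroup.map_top_of_surjective _ (QuotientGroup.mk'_surjective _)]
    rw [hcq, eq_top_iff]
    intro q _
    obtain ⟨x, rfl⟩ := QuotientGroup.mk_surjective q
    have hx : φ x ∈ (commutator M).map φ := by rw [hmap]; exact ⟨x, rfl⟩
    obtain ⟨c, hc, hcx⟩ := hx
    refine ⟨c, hc, ?_⟩
    show (QuotientGroup.mk c : M ⧸ K.subgroupOf M) = QuotientGroup.mk x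
    rw [QuotientGroup.eq, ← hφker, MonoidHom.mem_ker, map_mul, map_inv, hcx, inv_mul_cancel]
  -- (2) properness
  have h2 : K.subgroupOf M ≠ ⊤ := by
    intro htop
    rw [Subgroup.subgroupOf_eq_top] at htop
    apply hne
    rw [← hφrange, eq_bot_iff]
    rintro _ ⟨x, rfl⟩
    rw [Subgroup.mem_bot]
    show (QuotientGroup.mk' K) (x : G) = 1
    exact (QuotientGroup.eq_one_iff (x : G)).mpr (htop x.2)
  -- (3) transport `θ`
  let e : K.subgroupOf M ≃* K := Subgroup.subgroupOfEquivOfLe hKM
  let θ' : IrrCharacter (K.subgroupOf M) :=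
    ⟨fun g => (θ : K → ℂ) (e g),
      Cfsg.Agent.Helper8.isIrrCharacter_comp_surjective e.toMonoidHom e.surjective θ.2⟩
  have hθ' : irrDeg θ' = irrDeg θ := by
    have h3 := irrDeg_spec θ'
    have h4 : (θ' : K.subgroupOf M → ℂ) 1 = (θ : K → ℂ) 1 := by
      show (θ : K → ℂ) (e 1) = _
      rw [map_one]
    rw [h4, irrDeg_spec] at h3
    exact_mod_cast h3.symm
  obtain ⟨ψ, hψ⟩ := hP M (K.subgroupOf M) h1 h2 θ'
  have h5 := (hb.subgroup M) ψ
  rw [hθ'] at hψ
  omega

end Cfsg.Agent.Helper5.AB
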