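import Mathlib
import Cfsg.Agent.Helper5.ABDefs

set_option autoImplicit false

/-!
# S4463, piece EXT: a character of `H` of the largest possible degree extends to `G`,
in `|G:H|` ways, and vanishes off the core of `H`.
-/

namespace Cfsg.Agent.Helper5.AB

open Cfsg Cfsg.Agent.Helper24 Cfsg.Agent.Helper29.TwoDeg
open scoped ComplexConjugate commutatorElement

universe u

variable {G : Type u} [Group G] [Finite G]

theorem ext_of_max {b : ℕ} (hb : DegLe G b) (H : Subgroup G) (θ : IrrCharacter H)
    (hθ : irrDeg θ = b) :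
    (∃ χ : IrrCharacter G, ∀ x : H, (χ : G → ℂ) x = (θ : H → ℂ) x) ∧
    Nat.card {χ : IrrCharacter G // ∀ x : H, (χ : G → ℂ) x = (θ : H → ℂ) x} = H.index ∧
    ∀ x : H, (θ : H → ℂ) x ≠ 0 → ∀ g : G, g * (x : G) * g⁻¹ ∈ H := by
  classical
  have : Fintype G := Fintype.ofFinite G
  have : Fintype H := Fintype.ofFinite H
  have : Fintype (IrrCharacter G) := Fintype.ofFinite _
  have : Fintype (IrrCharacter H) := Fintype.ofFinite _
  have hΦc : IsCharacter G (indFun H (θ : H → ℂ)) :=
    isCharacter_indFun H (IsIrrCharacter.isCharacter θ.2)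
  have hbpos : 0 < b := by rw [← hθ]; exact irrDeg_pos θ
  -- multiplicities
  have key : ∀ χ : IrrCharacter G, classInner (indFun H (θ : H → ℂ)) (χ : G → ℂ) =
      if (∀ x : H, (χ : G → ℂ) x = (θ : H → ℂ) x) then 1 else 0 := by
    intro χ
    rw [Cfsg.Agent.Helper8.frobenius_reciprocity H _ _ (isClassFunction_irr χ)]
    split_ifs with hext
    · have h1 : (fun h : H => (χ : G → ℂ) h) = (θ : H → ℂ) := funext hext
      rw [h1, classInner_irr_self]
    · by_contra hne
      apply hext
      have hne' : classInner (fun h : H => (χ : G → ℂ) h) (θ : H → ℂ) ≠ 0 := by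
        intro h0
        apply hne
        rw [← classInner_conj_symm, h0, map_zero]
      have hc : IsCharacter H (fun h : H => (χ : G → ℂ) h) :=
        Cfsg.Agent.Helper8.isCharacter_restrict H (IsIrrCharacter.isCharacter χ.2)
      have h1 := irrDeg_le_of_constituent hc θ hne' (irrDeg χ) (by
        show (χ : G → ℂ) ((1 : H) : G) = _
        rw [Subgroup.coe_one, irrDeg_spec])
      have h2 := hb χ
      have h3 : irrDeg χ = irrDeg θ := by omega
      have hd : (fun h : H => (χ : G → ℂ) h) 1 = (irrDeg θ : ℂ) := by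
        show (χ : G → ℂ) ((1 : H) : G) = _
        rw [Subgroup.coe_one, irrDeg_spec, h3]
      have h4 := Cfsg.Agent.Helper5.PD.eq_of_constituent_of_degree_eq hc θ hne' hd
      intro x
      exact congrFun h4 x
  -- decomposition of the induced character
  have hsum : ∀ g : G, indFun H (θ : H → ℂ) g =
      ∑ χ : IrrCharacter G,
        (if (∀ x : H, (χ : G → ℂ) x = (θ : H → ℂ) x) then (χ : G → ℂ) g else 0) := by
    intro g
    have h1 := congrFun (IsCharacter.eq_sum_classInner hΦc) g
    rw [h1, Finset.sum_apply]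
    refine Finset.sum_congr rfl (fun χ _ => ?_)
    rw [Pi.smul_apply, smul_eq_mul, key χ]
    split_ifs <;> simp
  -- value on `H`
  have hsumH : ∀ x : H, indFun H (θ : H → ℂ) (x : G) =
      ((Finset.univ.filter (fun χ : IrrCharacter G =>
        ∀ x : H, (χ : G → ℂ) x = (θ : H → ℂ) x)).card : ℂ) * (θ : H → ℂ) x := by
    intro x
    rw [hsum, ← Finset.sum_filter]
    have h1 : ∀ χ ∈ Finset.univ.filter (fun χ : IrrCharacter G =>
        ∀ x : H, (χ : G → ℂ) x = (θ : H → ℂ) x), (χ : G → ℂ) (x : G) = (θ : H → ℂ) x :=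
      fun χ hχ => (Finset.mem_filter.mp hχ).2 x
    rw [Finset.sum_congr rfl h1, Finset.sum_const, nsmul_eq_mul]
  -- the count
  have hcount : (Finset.univ.filter (fun χ : IrrCharacter G =>
      ∀ x : H, (χ : G → ℂ) x = (θ : H → ℂ) x)).card = H.index := by
    have h1 := hsumH 1
    rw [Subgroup.coe_one, Cfsg.Agent.Helper5.indFun_apply_one, irrDeg_spec, hθ] at h1
    have hbne : (b : ℂ) ≠ 0 := by exact_mod_cast hbpos.ne'
    have h2 := mul_right_cancel₀ hbne h1
    exact_mod_cast h2.symm
  have hidx_pos : 0 < H.index := Nat.pos_of_ne_zero Subgroup.index_ne_zero_of_finite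
  have hex : ∃ χ : IrrCharacter G, ∀ x : H, (χ : G → ℂ) x = (θ : H → ℂ) x := by
    have h1 : 0 < (Finset.univ.filter (fun χ : IrrCharacter G =>
      ∀ x : H, (χ : G → ℂ) x = (θ : H → ℂ) x)).card := by rw [hcount]; exact hidx_pos
    obtain ⟨χ, hχ⟩ := Finset.card_pos.mp h1
    exact ⟨χ, (Finset.mem_filter.mp hχ).2⟩
  refine ⟨hex, ?_, ?_⟩
  · rw [Nat.card_eq_fintype_card, Fintype.card_subtype, hcount]
  · intro x hx g
    obtain ⟨χ, hχ⟩ := hex
    by_contra hg
    -- compare the two expressions for the induced character at `x`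
    have h1 := hsumH x
    rw [hcount, Cfsg.Agent.Helper8.indFun_def] at h1
    -- every term of the sum is `θ x` or `0`
    have hterm : ∀ y : G, extendByZero H (θ : H → ℂ) (y⁻¹ * (x : G) * y) =
        if y⁻¹ * (x : G) * y ∈ H then (θ : H → ℂ) x else 0 := by
      intro y
      by_cases hy : y⁻¹ * (x : G) * y ∈ H
      · rw [if_pos hy, Cfsg.Agent.Helper5.extendByZero_apply_mem H _ hy]
        have h2 := hχ ⟨y⁻¹ * (x : G) * y, hy⟩
        rw [← h2, ← hχ x]
        have h3 := isClassFunction_irr χ (x : G) y⁻¹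
        rw [inv_inv] at h3
        exact h3
      · rw [if_neg hy, Cfsg.Agent.Helper5.extendByZero_apply_not_mem H _ hy]
    rw [Finset.sum_congr rfl (fun y _ => hterm y), ← Finset.sum_filter, Finset.sum_const,
      nsmul_eq_mul] at h1
    -- so the number of `y` with `y⁻¹ x y ∈ H` is `|G|`
    have hHne : (Nat.card H : ℂ) ≠ 0 := by exact_mod_cast Nat.card_pos.ne'
    have h2 : ((Finset.univ.filter (fun y : G => y⁻¹ * (x : G) * y ∈ H)).card : ℂ) =
        (Nat.card H : ℂ) * (H.index : ℂ) := by
      have h3 : (Nat.card H : ℂ)⁻¹ *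
          ((Finset.univ.filter (fun y : G => y⁻¹ * (x : G) * y ∈ H)).card : ℂ) =
          (H.index : ℂ) := by
        have h4 : ((Nat.card H : ℂ)⁻¹ *
            ((Finset.univ.filter (fun y : G => y⁻¹ * (x : G) * y ∈ H)).card : ℂ)) *
            (θ : H → ℂ) x = (H.index : ℂ) * (θ : H → ℂ) x := by
          rw [mul_assoc]; exact h1
        exact mul_right_cancel₀ hx h4
      rw [← h3, ← mul_assoc, mul_inv_cancel₀ hHne, one_mul]
    have h3 : (Finset.univ.filter (fun y : G => y⁻¹ * (x : G) * y ∈ H)).card = Nat.card G := by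
      have h4 : (Finset.univ.filter (fun y : G => y⁻¹ * (x : G) * y ∈ H)).card =
          Nat.card H * H.index := by exact_mod_cast h2
      rw [h4, Subgroup.card_mul_index]
    have h5 : (Finset.univ.filter (fun y : G => y⁻¹ * (x : G) * y ∈ H)) = Finset.univ := by
      apply Finset.eq_univ_of_card
      rw [h3, Nat.card_eq_fintype_card]
    have h6 : g⁻¹ ∈ (Finset.univ.filter (fun y : G => y⁻¹ * (x : G) * y ∈ H)) := by
      rw [h5]; exact Finset.mem_univ _
    rw [Finset.mem_filter, inv_inv] at h6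
    exact hg h6.2

end Cfsg.Agent.Helper5.AB
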