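import Mathlib
import Cfsg.Agent.Helper5.ABDefs
import Cfsg.Agent.Helper5.PDGAL

set_option autoImplicit false

/-!
# S4463, piece GALL2: if `G/K` is nonabelian then `2 b(K) ≤ b(G)` (Gallagher)
-/

namespace Cfsg.Agent.Helper5.AB

open Cfsg Cfsg.Agent.Helper24 Cfsg.Agent.Helper29.TwoDeg
open scoped ComplexConjugate commutatorElement

universe u

variable {G : Type u} [Group G] [Finite G]

omit [Finite G] in
/-- Degree of a Gallagher twist. -/
theorem irrDeg_gallagherTwist [Fintype G] (K : Subgroup G) [K.Normal] [Fintype K]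
    (χ : IrrCharacter G) (hχK : IsIrrCharacter K (fun k : K => (χ : G → ℂ) k))
    (β : IrrCharacter (G ⧸ K)) :
    irrDeg (⟨gallagherTwist K χ β, isIrrCharacter_gallagherTwist K χ hχK β⟩ : IrrCharacter G) =
      irrDeg β * irrDeg χ := by
  have hξ1 : ((⟨gallagherTwist K χ β, isIrrCharacter_gallagherTwist K χ hχK β⟩ :
      IrrCharacter G) : G → ℂ) 1 = ((irrDeg β * irrDeg χ : ℕ) : ℂ) := by
    show (β : G ⧸ K → ℂ) ((1 : G) : G ⧸ K) * (χ : G → ℂ) 1 = _
    rw [QuotientGroup.mk_one, irrDeg_spec, irrDeg_spec]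
    push_cast
    ring
  have := irrDeg_spec (⟨gallagherTwist K χ β, isIrrCharacter_gallagherTwist K χ hχK β⟩ :
    IrrCharacter G)
  rw [hξ1] at this
  exact_mod_cast this.symm

/-- If `G/K` has an irreducible character of degree `d`, then `d θ(1) ≤ b` for `θ ∈ Irr(K)`
lying under a character that restricts irreducibly; in general `min(2,d) θ(1) ≤ b`. -/
theorem two_mul_irrDeg_le {b : ℕ} (hb : DegLe G b) (K : Subgroup G) [K.Normal]
    (hna : ¬ commutator G ≤ K) (θ : IrrCharacter K) : 2 * irrDeg θ ≤ b := by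
  classical
  have : Fintype G := Fintype.ofFinite G
  have : Fintype K := Fintype.ofFinite K
  have : Fintype (IrrCharacter K) := Fintype.ofFinite _
  have : Fintype (G ⧸ K) := Fintype.ofFinite _
  obtain ⟨χ, hχ⟩ := exists_irr_over K θ
  obtain ⟨e, he, -⟩ := irrDeg_dvd_of_over K χ θ hχ
  have hθpos := irrDeg_pos θ
  have hχpos := irrDeg_pos χ
  have hχb := hb χ
  rcases Nat.lt_or_ge e 2 with he2 | he2
  · have he1 : e = 1 := by
      rcases Nat.eq_zero_or_pos e with h0 | h0
      · rw [h0, zero_mul] at he; omega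
      · omega
    rw [he1, one_mul] at he
    have hres : IsCharacter K (fun k : K => (χ : G → ℂ) k) :=
      Cfsg.Agent.Helper8.isCharacter_restrict K (IsIrrCharacter.isCharacter χ.2)
    have hχK : (fun k : K => (χ : G → ℂ) k) = (θ : K → ℂ) := by
      apply Cfsg.Agent.Helper5.PD.eq_of_constituent_of_degree_eq hres θ hχ
      show (χ : G → ℂ) ((1 : K) : G) = _
      rw [Subgroup.coe_one, irrDeg_spec, he]
    have hχKirr : IsIrrCharacter K (fun k : K => (χ : G → ℂ) k) := by
      rw [hχK]; exact θ.2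
    obtain ⟨β, hβ⟩ := exists_nonlinear (quot_nonabelian K hna)
    have hβ2 : 2 ≤ irrDeg β := by
      have := irrDeg_pos β
      omega
    have h1 := hb ⟨gallagherTwist K χ β, isIrrCharacter_gallagherTwist K χ hχKirr β⟩
    rw [irrDeg_gallagherTwist K χ hχKirr β, he] at h1
    calc 2 * irrDeg θ ≤ irrDeg β * irrDeg θ := Nat.mul_le_mul_right _ hβ2
      _ ≤ b := h1
  · calc 2 * irrDeg θ ≤ e * irrDeg θ := Nat.mul_le_mul_right _ he2
      _ = irrDeg χ := he.symm
      _ ≤ b := hχb

theorem degLe_half_of_nonabelian_quot {b : ℕ} (hb : DegLe G b) (K : Subgroup G) [K.Normal]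
    (hna : ¬ commutator G ≤ K) : DegLe K (b / 2) := by
  intro θ
  have := two_mul_irrDeg_le hb K hna θ
  omega

end Cfsg.Agent.Helper5.AB
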