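import Mathlib

set_option autoImplicit false

/-!
# S4463, piece PERFCOMB: the arithmetic core of the perfect-section bound
-/

namespace Cfsg.Agent.Helper5.AB

/-- A sum of natural numbers which is nonzero has a nonzero term. -/
theorem ab_exists_pos_term {α : Type*} (s : Finset α) (f : α → ℕ) (h : 0 < ∑ x ∈ s, f x) :
    ∃ x ∈ s, 0 < f x := by
  by_contra hcon
  push Not at hcon
  have : ∑ x ∈ s, f x = 0 := Finset.sum_eq_zero (fun x hx => by have := hcon x hx; omega)
  omega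

theorem perf_comb {ι κ : Type*} [Fintype ι] [Fintype κ] [DecidableEq ι] [DecidableEq κ]
    (d : κ → ℕ) (e : ι → ℕ) (a : ι → κ → ι → ℕ) (one : κ)
    (hd : ∀ μ, μ ≠ one → 2 ≤ d μ) (hd1 : d one = 1) (hnt : ∃ μ, μ ≠ one)
    (hE : Nonempty ι) (he : ∀ i, 1 ≤ e i)
    (hID : ∀ i j, ∑ μ, d μ * a i μ j = e i * e j)
    (hDEG : ∀ i μ, ∑ j, a i μ j * e j = d μ * e i)
    (hTRIV : ∀ i j, a i one j = if i = j then 1 else 0) :
    ∃ i, 3 ≤ e i := by
  classical
  by_contra hcon
  push Not at hcon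
  have he2 : ∀ i, e i = 1 ∨ e i = 2 := fun i => by
    have := he i; have := hcon i; omega
  -- Step 1: some `e i = 2`
  have hstep1 : ∃ i, e i = 2 := by
    obtain ⟨i₀⟩ := hE
    rcases he2 i₀ with h1 | h2
    · obtain ⟨μ, hμ⟩ := hnt
      have hdμ := hd μ hμ
      have hsum := hDEG i₀ μ
      rw [h1, mul_one] at hsum
      obtain ⟨j, -, hj⟩ := ab_exists_pos_term Finset.univ (fun j => a i₀ μ j * e j)
        (by rw [hsum]; omega)
      have haj : 1 ≤ a i₀ μ j := by
        by_contra h0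
        have : a i₀ μ j = 0 := by omega
        simp [this] at hj
      have hid := hID i₀ j
      rw [h1, one_mul] at hid
      have hle : d μ * a i₀ μ j ≤ e j := by
        rw [← hid]
        exact Finset.single_le_sum (f := fun μ' => d μ' * a i₀ μ' j)
          (fun _ _ => Nat.zero_le _) (Finset.mem_univ μ)
      have : 2 ≤ d μ * a i₀ μ j := by nlinarith
      refine ⟨j, ?_⟩
      rcases he2 j with h | h
      · omega
      · exact h
    · exact ⟨i₀, h2⟩
  obtain ⟨i, hi⟩ := hstep1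
  -- Step 2: a unique `μ₀` of degree 3 in `ψ ψ̄`
  have hid := hID i i
  rw [hi] at hid
  have hsplit := Finset.add_sum_erase Finset.univ (fun μ => d μ * a i μ i) (Finset.mem_univ one)
  have hone : d one * a i one i = 1 := by rw [hd1, hTRIV, if_pos rfl]
  rw [hone, hid] at hsplit
  have hrest : ∑ μ ∈ Finset.univ.erase one, d μ * a i μ i = 3 := by omega
  obtain ⟨μ₀, hμ₀mem, hμ₀pos⟩ := ab_exists_pos_term _ _ (by rw [hrest]; omega)
  have hμ₀ne : μ₀ ≠ one := Finset.ne_of_mem_erase hμ₀mem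
  have hdμ₀ := hd μ₀ hμ₀ne
  have hsplit2 := Finset.add_sum_erase (Finset.univ.erase one) (fun μ => d μ * a i μ i) hμ₀mem
  rw [hrest] at hsplit2
  have haμ₀ : 1 ≤ a i μ₀ i := by
    by_contra h0
    have : a i μ₀ i = 0 := by omega
    simp [this] at hμ₀pos
  have hkey : d μ₀ = 3 ∧ a i μ₀ i = 1 := by
    have hle3 : d μ₀ * a i μ₀ i ≤ 3 := by omega
    have hge2 : 2 ≤ d μ₀ * a i μ₀ i := by nlinarith
    have ha1 : a i μ₀ i = 1 := by
      by_contra hne
      have : 2 ≤ a i μ₀ i := by omega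
      nlinarith
    rw [ha1, mul_one] at hle3 hge2
    refine ⟨?_, ha1⟩
    by_contra hne3
    have hd2 : d μ₀ = 2 := by omega
    rw [ha1, hd2] at hsplit2
    have hrest2 : ∑ μ ∈ (Finset.univ.erase one).erase μ₀, d μ * a i μ i = 1 := by omega
    obtain ⟨μ₁, hμ₁mem, hμ₁pos⟩ := ab_exists_pos_term _ _ (by rw [hrest2]; omega)
    have hμ₁ne : μ₁ ≠ one := Finset.ne_of_mem_erase (Finset.mem_of_mem_erase hμ₁mem)
    have hdμ₁ := hd μ₁ hμ₁ne
    have hle1 : d μ₁ * a i μ₁ i ≤ 1 := by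
      rw [← hrest2]
      exact Finset.single_le_sum (f := fun μ => d μ * a i μ i)
        (fun _ _ => Nat.zero_le _) hμ₁mem
    have ha1' : 1 ≤ a i μ₁ i := by
      by_contra h0
      have : a i μ₁ i = 0 := by omega
      simp [this] at hμ₁pos
    nlinarith
  obtain ⟨hd3, ha1⟩ := hkey
  -- Step 3: another constituent `ψ'` of `ψ μ₀`
  have hdeg := hDEG i μ₀
  rw [hd3, hi] at hdeg
  have hsplit3 := Finset.add_sum_erase Finset.univ (fun j => a i μ₀ j * e j) (Finset.mem_univ i)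
  rw [ha1, hi, hdeg] at hsplit3
  have hrest3 : ∑ j ∈ Finset.univ.erase i, a i μ₀ j * e j = 4 := by omega
  obtain ⟨j, hjmem, hjpos⟩ := ab_exists_pos_term _ _ (by rw [hrest3]; omega)
  have hji : j ≠ i := Finset.ne_of_mem_erase hjmem
  have haj : 1 ≤ a i μ₀ j := by
    by_contra h0
    have : a i μ₀ j = 0 := by omega
    simp [this] at hjpos
  have hid2 := hID i j
  rw [hi] at hid2
  have hsplit4 := Finset.add_sum_erase Finset.univ (fun μ => d μ * a i μ j) (Finset.mem_univ μ₀)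
  rw [hid2, hd3] at hsplit4
  have hej : e j = 2 := by
    rcases he2 j with h | h
    · rw [h] at hsplit4; omega
    · exact h
  rw [hej] at hsplit4
  have haj1 : a i μ₀ j = 1 := by omega
  rw [haj1] at hsplit4
  have hrest4 : ∑ μ ∈ Finset.univ.erase μ₀, d μ * a i μ j = 1 := by omega
  obtain ⟨μ₂, hμ₂mem, hμ₂pos⟩ := ab_exists_pos_term _ _ (by rw [hrest4]; omega)
  have hle1 : d μ₂ * a i μ₂ j ≤ 1 := by
    rw [← hrest4]
    exact Finset.single_le_sum (f := fun μ => d μ * a i μ j)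
      (fun _ _ => Nat.zero_le _) hμ₂mem
  by_cases hμ₂ : μ₂ = one
  · rw [hμ₂, hTRIV, if_neg (Ne.symm hji)] at hμ₂pos
    simp at hμ₂pos
  · have hdμ₂ := hd μ₂ hμ₂
    have ha2 : 1 ≤ a i μ₂ j := by
      by_contra h0
      have : a i μ₂ j = 0 := by omega
      simp [this] at hμ₂pos
    nlinarith

end Cfsg.Agent.Helper5.AB
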