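import Mathlib
import Cfsg.Agent.Helper5.ABDefs
import Cfsg.Agent.Helper5.ABPERFCOMB

set_option autoImplicit false

/-!
# S4463, piece PERFINV: `M/K` perfect, `θ ∈ Irr(K)` invariant in `M` ⇒ some `ψ ∈ Irr(M|θ)` has
`ψ(1) ≥ 3 θ(1)`.
-/

namespace Cfsg.Agent.Helper5.AB

open Cfsg Cfsg.Agent.Helper24 Cfsg.Agent.Helper29.TwoDeg
open scoped ComplexConjugate commutatorElement

universe u

theorem perf_invariant {M : Type u} [Group M] [Finite M] (K : Subgroup M) [hK : K.Normal]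
    (hperf : commutator (M ⧸ K) = ⊤) (hKtop : K ≠ ⊤) (θ : IrrCharacter K)
    (hinv : ∀ (g : M) (k : K),
      (θ : K → ℂ) ⟨g * k * g⁻¹, hK.conj_mem k k.2 g⟩ = (θ : K → ℂ) k) :
    ∃ ψ : IrrCharacter M, 3 * irrDeg θ ≤ irrDeg ψ := by
  classical
  have : Fintype M := Fintype.ofFinite M
  have : Fintype K := Fintype.ofFinite K
  have : Fintype (M ⧸ K) := Fintype.ofFinite _
  have : Fintype (IrrCharacter M) := Fintype.ofFinite _
  have : Fintype (IrrCharacter K) := Fintype.ofFinite _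
  have : Fintype (IrrCharacter (M ⧸ K)) := Fintype.ofFinite _
  have hθc : IsCharacter K (θ : K → ℂ) := IsIrrCharacter.isCharacter θ.2
  have hθθ : classInner (θ : K → ℂ) (θ : K → ℂ) = 1 := classInner_irr_self θ
  have hθpos := irrDeg_pos θ
  have hresc : ∀ ψ : IrrCharacter M, IsCharacter K (fun k : K => (ψ : M → ℂ) k) := fun ψ =>
    Cfsg.Agent.Helper8.isCharacter_restrict K (IsIrrCharacter.isCharacter ψ.2)
  -- multiplicities of `θ` in the restrictions
  have hm : ∀ ψ : IrrCharacter M, ∃ n : ℕ,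
      classInner (fun k : K => (ψ : M → ℂ) k) (θ : K → ℂ) = n := fun ψ =>
    IsCharacter.classInner_nat (hresc ψ) hθc
  choose m hm using hm
  -- restriction of a character over `θ`
  have hres : ∀ ψ : IrrCharacter M, m ψ ≠ 0 →
      (fun k : K => (ψ : M → ℂ) k) = (m ψ : ℂ) • (θ : K → ℂ) := by
    intro ψ hψ
    have h1 : classInner (indFun K (θ : K → ℂ)) (ψ : M → ℂ) = (m ψ : ℂ) := by
      rw [Cfsg.Agent.Helper8.frobenius_reciprocity K _ _ (isClassFunction_irr ψ),
        ← classInner_conj_symm, hm ψ, Complex.conj_natCast]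
    have h2 := Cfsg.Agent.Helper8.restrict_eq_of_invariant K (θ : K → ℂ) θ.2 hinv (ψ : M → ℂ) ψ.2
      (by rw [h1]; exact_mod_cast hψ)
    rw [h1] at h2
    exact h2
  have hdeg : ∀ ψ : IrrCharacter M, m ψ ≠ 0 → irrDeg ψ = m ψ * irrDeg θ := by
    intro ψ hψ
    have h1 := congrFun (hres ψ hψ) 1
    simp only [Subgroup.coe_one, Pi.smul_apply, smul_eq_mul] at h1
    rw [irrDeg_spec, irrDeg_spec] at h1
    exact_mod_cast h1
  -- the twists
  have hAex : ∀ (ψ : IrrCharacter M) (μ : IrrCharacter (M ⧸ K)) (ψ' : IrrCharacter M), ∃ n : ℕ,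
      classInner (gallagherTwist K ψ μ) (ψ' : M → ℂ) = n := fun ψ μ ψ' =>
    IsCharacter.classInner_irr_nat (isCharacter_gallagherTwist K ψ μ) ψ'
  choose A hA using hAex
  -- (ID)
  have hID : ∀ ψ ψ' : IrrCharacter M, m ψ ≠ 0 → m ψ' ≠ 0 →
      ∑ μ : IrrCharacter (M ⧸ K), irrDeg μ * A ψ μ ψ' = m ψ * m ψ' := by
    intro ψ ψ' hψ hψ'
    have h1 : classInner (indFun K (fun k : K => (ψ : M → ℂ) k)) (ψ' : M → ℂ) =
        ((∑ μ : IrrCharacter (M ⧸ K), irrDeg μ * A ψ μ ψ' : ℕ) : ℂ) := by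
      rw [indFun_restrict_eq_sum_twist K ψ, classInner_sum_left]
      push_cast
      refine Finset.sum_congr rfl (fun μ _ => ?_)
      rw [classInner_smul_left, hA, irrDeg_spec]
    have h2 : classInner (indFun K (fun k : K => (ψ : M → ℂ) k)) (ψ' : M → ℂ) =
        ((m ψ * m ψ' : ℕ) : ℂ) := by
      rw [Cfsg.Agent.Helper8.frobenius_reciprocity K _ _ (isClassFunction_irr ψ'),
        hres ψ hψ, hres ψ' hψ', classInner_smul_left, classInner_smul_right, hθθ,
        Complex.conj_natCast]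
      push_cast
      ring
    rw [h1] at h2
    exact_mod_cast h2
  -- (DEG)
  have hDEG : ∀ (ψ : IrrCharacter M) (μ : IrrCharacter (M ⧸ K)), m ψ ≠ 0 →
      ∑ ψ' : IrrCharacter M, A ψ μ ψ' * m ψ' = irrDeg μ * m ψ := by
    intro ψ μ hψ
    have hdecomp := IsCharacter.eq_sum_classInner (isCharacter_gallagherTwist K ψ μ)
    have h1 : classInner (fun k : K => gallagherTwist K ψ μ (k : M)) (θ : K → ℂ) =
        ((irrDeg μ * m ψ : ℕ) : ℂ) := by
      have h2 : (fun k : K => gallagherTwist K ψ μ (k : M)) =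
          ((irrDeg μ : ℂ) * (m ψ : ℂ)) • (θ : K → ℂ) := by
        funext k
        have h3 := congrFun (hres ψ hψ) k
        simp only [Pi.smul_apply, smul_eq_mul] at h3 ⊢
        unfold gallagherTwist
        rw [h3, (QuotientGroup.eq_one_iff (k : M)).mpr k.2, irrDeg_spec]
        ring
      rw [h2, classInner_smul_left, hθθ]
      push_cast
      ring
    have h4 : classInner (fun k : K => gallagherTwist K ψ μ (k : M)) (θ : K → ℂ) =
        ((∑ ψ' : IrrCharacter M, A ψ μ ψ' * m ψ' : ℕ) : ℂ) := by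
      have h5 : (fun k : K => gallagherTwist K ψ μ (k : M)) =
          ∑ ψ' : IrrCharacter M, (A ψ μ ψ' : ℂ) • (fun k : K => (ψ' : M → ℂ) k) := by
        funext k
        have h6 := congrFun hdecomp (k : M)
        rw [h6, Finset.sum_apply, Finset.sum_apply]
        refine Finset.sum_congr rfl (fun ψ' _ => ?_)
        simp only [Pi.smul_apply, smul_eq_mul]
        rw [hA]
      rw [h5, classInner_sum_left]
      push_cast
      refine Finset.sum_congr rfl (fun ψ' _ => ?_)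
      rw [classInner_smul_left, hm]
    rw [h1] at h4
    exact_mod_cast h4.symm
  -- (TRIV)
  have hTRIV : ∀ ψ ψ' : IrrCharacter M, A ψ (trivIrr (M ⧸ K)) ψ' = if ψ = ψ' then 1 else 0 := by
    intro ψ ψ'
    have h1 : gallagherTwist K ψ (trivIrr (M ⧸ K)) = (ψ : M → ℂ) := by
      funext g
      unfold gallagherTwist
      rw [trivIrr_apply, one_mul]
    have h2 := hA ψ (trivIrr (M ⧸ K)) ψ'
    rw [h1, classInner_irr] at h2
    split_ifs with h
    · rw [if_pos h] at h2; exact_mod_cast h2.symm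
    · rw [if_neg h] at h2; exact_mod_cast h2.symm
  -- (NOLIN)
  have hNOLIN : ∀ μ : IrrCharacter (M ⧸ K), μ ≠ trivIrr (M ⧸ K) → 2 ≤ irrDeg μ := by
    intro μ hμ
    by_contra hlt
    have hμ1 : irrDeg μ = 1 := by
      have := irrDeg_pos μ
      omega
    apply hμ
    apply Subtype.ext
    funext q
    have h1 := Cfsg.Agent.Helper29.TwoDeg.linear_apply_commutator μ hμ1 q (by rw [hperf]; trivial)
    rw [h1, trivIrr_apply]
    exact (irrDeg_eq_one_iff μ).mp hμ1
  -- (NT)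
  have hNT : ∃ μ : IrrCharacter (M ⧸ K), μ ≠ trivIrr (M ⧸ K) := by
    have hna : ¬ commutator (M ⧸ K) ≤ (⊥ : Subgroup (M ⧸ K)) := by
      rw [hperf]
      intro h
      apply hKtop
      rw [eq_top_iff]
      intro g _
      have h1 : (QuotientGroup.mk g : M ⧸ K) ∈ (⊥ : Subgroup (M ⧸ K)) := h trivial
      rw [Subgroup.mem_bot] at h1
      exact (QuotientGroup.eq_one_iff g).mp h1
    obtain ⟨μ, hμ⟩ := exists_nonlinear hna
    refine ⟨μ, ?_⟩
    rintro rfl
    apply hμ
    rw [irrDeg_eq_one_iff]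
    rfl
  -- the index set
  have hEne : Nonempty {ψ : IrrCharacter M // m ψ ≠ 0} := by
    obtain ⟨χ, hχ⟩ := exists_irr_over K θ
    refine ⟨⟨χ, ?_⟩⟩
    intro h0
    apply hχ
    rw [hm χ, h0, Nat.cast_zero]
  obtain ⟨i, hi⟩ := perf_comb (ι := {ψ : IrrCharacter M // m ψ ≠ 0})
    (κ := IrrCharacter (M ⧸ K)) (fun μ => irrDeg μ) (fun i => m i.1)
    (fun i μ j => A i.1 μ j.1) (trivIrr (M ⧸ K)) hNOLIN
    (by rw [irrDeg_eq_one_iff]; rfl) hNT hEne
    (fun i => Nat.one_le_iff_ne_zero.mpr i.2)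
    (fun i j => hID i.1 j.1 i.2 j.2)
    (fun i μ => by
      have h1 := hDEG i.1 μ i.2
      rw [← h1]
      have h2 : ∀ ψ' : IrrCharacter M, ψ' ∉ Finset.univ.filter (fun ψ' => m ψ' ≠ 0) →
          A i.1 μ ψ' * m ψ' = 0 := by
        intro ψ' hψ'
        rw [Finset.mem_filter] at hψ'
        push Not at hψ'
        rw [hψ' (Finset.mem_univ _), mul_zero]
      rw [← Finset.sum_subset (Finset.subset_univ _) (fun ψ' _ h => h2 ψ' h)]
      exact (Finset.sum_subtype (Finset.univ.filter (fun ψ' => m ψ' ≠ 0))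
        (p := fun ψ' => m ψ' ≠ 0) (by intro x; simp)
        (fun ψ' => A i.1 μ ψ' * m ψ')).symm)
    (fun i j => by
      rw [hTRIV i.1 j.1]
      by_cases h : i = j
      · rw [if_pos h, if_pos (congrArg Subtype.val h)]
      · rw [if_neg h, if_neg (fun h' => h (Subtype.ext h'))])
  refine ⟨i.1, ?_⟩
  rw [hdeg i.1 i.2]
  exact Nat.mul_le_mul_right _ hi

end Cfsg.Agent.Helper5.AB
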