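import Mathlib
import Cfsg.Agent.Helper5.ABDefs
import Cfsg.Agent.Helper29.PPrimeKerA

set_option autoImplicit false

/-!
# S4463, piece VB: an irreducible character vanishing off `N` has `|H:N| ≤ θ(1)²`
-/

namespace Cfsg.Agent.Helper5.AB

open Cfsg Cfsg.Agent.Helper24 Cfsg.Agent.Helper29.TwoDeg
open scoped ComplexConjugate commutatorElement

universe u

theorem index_le_sq_of_vanish {H : Type u} [Group H] [Finite H] (θ : IrrCharacter H)
    (N : Subgroup H) (hvan : ∀ x : H, x ∉ N → (θ : H → ℂ) x = 0) :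
    N.index ≤ irrDeg θ ^ 2 := by
  classical
  have : Fintype H := Fintype.ofFinite H
  have h1 := classInner_irr_self θ
  unfold classInner at h1
  have hHpos : (0 : ℝ) < (Nat.card H : ℝ) := by exact_mod_cast Nat.card_pos
  have hHne : (Nat.card H : ℂ) ≠ 0 := by exact_mod_cast Nat.card_pos.ne'
  have h2 : ∑ g : H, (θ : H → ℂ) g * conj ((θ : H → ℂ) g) = (Nat.card H : ℂ) := by
    have := congrArg (fun z => (Nat.card H : ℂ) * z) h1
    simp only [mul_one] at this
    rw [← this, ← mul_assoc, mul_inv_cancel₀ hHne, one_mul]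
  -- real version
  have h3 : ∑ g : H, ‖(θ : H → ℂ) g‖ ^ 2 = (Nat.card H : ℝ) := by
    have h4 : ∀ g : H, (θ : H → ℂ) g * conj ((θ : H → ℂ) g) = ((‖(θ : H → ℂ) g‖ ^ 2 : ℝ) : ℂ) := by
      intro g
      rw [Complex.mul_conj, Complex.normSq_eq_norm_sq]
    simp only [h4] at h2
    rw [← Complex.ofReal_sum] at h2
    exact_mod_cast h2
  have h5 : ∑ g : H, ‖(θ : H → ℂ) g‖ ^ 2 ≤ ∑ g : H, (if g ∈ N then (irrDeg θ : ℝ) ^ 2 else 0) := by
    apply Finset.sum_le_sum
    intro g _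
    by_cases hg : g ∈ N
    · rw [if_pos hg]
      have := Cfsg.Agent.Helper29.PPK.norm_irr_le θ g
      have h0 : 0 ≤ ‖(θ : H → ℂ) g‖ := norm_nonneg _
      nlinarith
    · rw [if_neg hg, hvan g hg]
      simp
  have h6 : ∑ g : H, (if g ∈ N then (irrDeg θ : ℝ) ^ 2 else 0) =
      (Nat.card N : ℝ) * (irrDeg θ : ℝ) ^ 2 := by
    rw [← Finset.sum_filter, Finset.sum_const, nsmul_eq_mul]
    congr 2
    rw [Nat.card_eq_fintype_card, Fintype.card_subtype]
  rw [h3, h6] at h5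
  have h7 := Subgroup.card_mul_index N
  have h8 : (Nat.card N : ℝ) * (N.index : ℝ) = (Nat.card H : ℝ) := by exact_mod_cast h7
  have hNpos : (0 : ℝ) < (Nat.card N : ℝ) := by exact_mod_cast Nat.card_pos
  have h9 : (N.index : ℝ) ≤ (irrDeg θ : ℝ) ^ 2 := by
    rw [← h8] at h5
    exact le_of_mul_le_mul_left h5 hNpos
  exact_mod_cast h9

end Cfsg.Agent.Helper5.AB
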