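import Mathlib
import Cfsg.Agent.Helper5.ABDefs
import Cfsg.Agent.Helper5.ABEXT
import Cfsg.Agent.Helper5.ABVB
import Cfsg.Agent.Helper5.ABGALL2
import Cfsg.Agent.Helper5.ABPERFINV
import Cfsg.Agent.Helper5.ABB4
import Cfsg.Agent.Helper5.ABB5
import Cfsg.Agent.Helper5.ABC1
import Cfsg.Agent.Helper5.ABC2
import Cfsg.Agent.Helper5.ABC3
import Cfsg.Agent.Helper5.ABC4
import Cfsg.Agent.Helper1.ABB3
import Cfsg.Agent.Helper3.ABB1
import Cfsg.Agent.Helper19.ABPERFNI
import Cfsg.Agent.Helper24.ABA1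
import Cfsg.Agent.Helper24.ABA2

set_option autoImplicit false

/-!
# S4463: a finite group with largest irreducible degree `b` has an abelian subgroup of index
at most `(b!)²` (Isaacs, Theorem 12.26) — assembly.
-/

namespace Cfsg.Agent.Helper5.AB

open Cfsg Cfsg.Agent.Helper24 Cfsg.Agent.Helper29.TwoDeg
open Cfsg.Agent.Helper1.AB Cfsg.Agent.Helper3.AB Cfsg.Agent.Helper19.AB Cfsg.Agent.Helper24.AB
open scoped ComplexConjugate commutatorElement

universe u

variable {G : Type u} [Group G] [Finite G]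

/-- A subgroup `H` all of whose degrees are `≤ b` but not all `≤ b - 1` has an irreducible
character of degree exactly `b`. -/
theorem exists_deg_eq_of_not_degLe {H : Type u} [Group H] [Finite H] {b : ℕ} (hb : DegLe H b)
    (h : ¬ DegLe H (b - 1)) : ∃ θ : IrrCharacter H, irrDeg θ = b := by
  unfold DegLe at h
  push Not at h
  obtain ⟨θ, hθ⟩ := h
  have := hb θ
  exact ⟨θ, by omega⟩

/-- Case B: `G/K` has trivial centre and abelian derived subgroup (a Frobenius group). -/
theorem caseB_main {b : ℕ} (hb : DegLe G b) (K : Subgroup G) [K.Normal]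
    (hKna : ¬ commutator G ≤ K)
    (hmin : ∀ L : Subgroup (G ⧸ K), L.Normal → L ≠ ⊥ → commutator (G ⧸ K) ≤ L)
    (hna : ¬ commutator (G ⧸ K) ≤ (⊥ : Subgroup (G ⧸ K)))
    (hab : ∀ a ∈ commutator (G ⧸ K), ∀ c ∈ commutator (G ⧸ K), a * c = c * a)
    (hZ : Subgroup.center (G ⧸ K) = ⊥) :
    ∃ H : Subgroup G, H.index ≤ b ^ 2 ∧ DegLe H (b - 1) := by
  classical
  have hb1 : 1 ≤ b := hb.one_le
  have hfpf := fpf_of_center_eq_bot hmin hab hZ
  obtain ⟨⟨η, hη⟩, hdvd, hf1, hq1⟩ := Cfsg.Agent.Helper5.TD.frob_numerics hna hab hfpf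
  have hf_le : (commutator (G ⧸ K)).index ≤ b := by
    rw [← hη]; exact (hb.quot K) η
  have hcop : ((commutator (G ⧸ K)).index).Coprime (Nat.card (commutator (G ⧸ K))) := by
    obtain ⟨c, hc⟩ := hdvd
    have h1 : Nat.card (commutator (G ⧸ K)) = (commutator (G ⧸ K)).index * c + 1 := by omega
    rw [h1]
    simp
  -- first candidate: the preimage of the derived subgroup
  by_cases hN1 : DegLe (preComm K) (b - 1)
  · refine ⟨preComm K, ?_, hN1⟩
    rw [index_preComm]
    calc (commutator (G ⧸ K)).index ≤ b := hf_le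
      _ ≤ b ^ 2 := by nlinarith
  obtain ⟨θ, hθ⟩ := exists_deg_eq_of_not_degLe (hb.subgroup _) hN1
  have hvanθ := caseB_vanish K hab hZ (fun θ hθ => (ext_of_max hb _ θ hθ).1) θ hθ
  have hq : Nat.card (commutator (G ⧸ K)) ≤ b ^ 2 := by
    have h1 := index_le_sq_of_vanish θ (K.subgroupOf (preComm K)) (fun x hx =>
      hvanθ x (by simpa [Subgroup.mem_subgroupOf] using hx))
    rw [hθ] at h1
    have h2 : (K.subgroupOf (preComm K)).index = K.relIndex (preComm K) := rfl
    rw [h2, relIndex_preComm] at h1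
    exact h1
  obtain ⟨χ, hχ⟩ := (ext_of_max hb _ θ hθ).1
  -- second candidate: the preimage of a complement
  obtain ⟨C, hCi, hpart, hcore⟩ := caseB_complement hfpf hcop hq1
  have hA1i : (C.comap (QuotientGroup.mk' K)).index = Nat.card (commutator (G ⧸ K)) := by
    rw [Subgroup.index_comap_of_surjective _ (QuotientGroup.mk'_surjective K), hCi]
  by_cases hA1 : DegLe (C.comap (QuotientGroup.mk' K)) (b - 1)
  · exact ⟨C.comap (QuotientGroup.mk' K), by rw [hA1i]; exact hq, hA1⟩
  obtain ⟨η', hη'⟩ := exists_deg_eq_of_not_degLe (hb.subgroup _) hA1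
  obtain ⟨-, hcard, hvan⟩ := ext_of_max hb _ η' hη'
  rw [Subgroup.index_comap_of_surjective _ (QuotientGroup.mk'_surjective K)] at hcard
  obtain ⟨S, hScard, hSdeg, hSvan, hSK⟩ :=
    caseB_extensions K C hpart hcore η' hη' hcard hvan
  have hqb : Nat.card (commutator (G ⧸ K)) ≤ b := by
    have h1 := caseB_prod hb K (preComm K) χ (fun g hg hgK => by
      rw [show (χ : G → ℂ) g = (θ : preComm K → ℂ) ⟨g, hg⟩ from hχ ⟨g, hg⟩]
      exact hvanθ ⟨g, hg⟩ hgK) S hSdeg hSvan hSK
    rw [hScard, hCi] at h1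
    exact h1
  -- third candidate: `K` itself
  refine ⟨K, ?_, (degLe_half_of_nonabelian_quot hb K hKna).mono (by omega)⟩
  have h1 : K.index = (commutator (G ⧸ K)).index * Nat.card (commutator (G ⧸ K)) := by
    rw [Subgroup.index_eq_card, mul_comm]
    exact (Subgroup.card_mul_index (commutator (G ⧸ K))).symm
  rw [h1, pow_two]
  exact Nat.mul_le_mul hf_le hqb

/-- The perfect-section bound, assembled from the invariant and non-invariant cases. -/
theorem perf_main (M : Type u) [Group M] [Finite M] (K' : Subgroup M) [hK' : K'.Normal]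
    (hperf : commutator (M ⧸ K') = ⊤) (hK : K' ≠ ⊤) (θ : IrrCharacter K') :
    ∃ ψ : IrrCharacter M, 3 * irrDeg θ ≤ irrDeg ψ := by
  by_cases hinv : ∀ (g : M) (k : K'),
      (θ : K' → ℂ) ⟨g * k * g⁻¹, hK'.conj_mem k k.2 g⟩ = (θ : K' → ℂ) k
  · exact perf_invariant K' hperf hK θ hinv
  · exact perf_not_invariant K' hperf θ hinv

/-- The inductive step. -/
theorem step {b : ℕ} (hb : DegLe G b) (hG : ¬ commutator G ≤ (⊥ : Subgroup G)) :
    (∃ H : Subgroup G, H.index ≤ b ^ 2 ∧ DegLe H (b - 1)) ∨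
    (∃ K : Subgroup G, K.index ≤ b ^ 4 ∧ DegLe K (b / 3) ∧ 4 ≤ b) := by
  classical
  obtain ⟨K, hKn, hKna, hKmax⟩ := exists_max_normal hG
  have := hKn
  have hmin := quot_min K hKmax
  have hna := quot_nonabelian K hKna
  have : Fintype (G ⧸ K) := Fintype.ofFinite _
  by_cases hZ : Subgroup.center (G ⧸ K) = ⊥
  · by_cases hab : ∀ a ∈ commutator (G ⧸ K), ∀ c ∈ commutator (G ⧸ K), a * c = c * a
    · left
      exact caseB_main hb K hKna hmin hna hab hZ
    · obtain ⟨hperf, hcent, hns⟩ := caseC_struct hmin hab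
      have hne : commutator (G ⧸ K) ≠ ⊥ := fun h => hna (le_of_eq h)
      have : Nontrivial (G ⧸ K) := by
        by_contra hnt
        rw [not_nontrivial_iff_subsingleton] at hnt
        exact hne (Subsingleton.elim _ _)
      obtain ⟨x, hx1, hxi⟩ := exists_small_class (hb.quot K)
      rcases caseC hb K hmin hcent x hx1 hxi
        (fun H θ hθ => (ext_of_max hb H θ hθ).2.2)
        (fun H θ N h => index_le_sq_of_vanish θ N h) with h | h
      · left; exact h
      · right
        refine ⟨K, h, degLe_third_of_perfect hb K hperf hne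
          (fun M _ _ K' _ h1 h2 θ => perf_main M K' h1 h2 θ), ?_⟩
        by_contra h4
        push Not at h4
        apply hns
        apply Cfsg.Agent.Helper5.TD.solvable_of_leThree
        apply Cfsg.Agent.Helper5.TD.leThree_of_degrees {1, 2, 3} (by decide)
        intro χ
        have h1 := (hb.quot K) χ
        have h2 := irrDeg_pos χ
        have h3 : irrDeg χ = 1 ∨ irrDeg χ = 2 ∨ irrDeg χ = 3 := by omega
        simp only [Finset.mem_insert, Finset.mem_singleton]
        exact h3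
  · obtain ⟨β, hβ⟩ := exists_nonlinear hna
    obtain ⟨h1, h2, h3⟩ := caseA_struct hmin hZ β hβ
    left
    exact caseA hb K β hβ h1 h2 h3 (fun H θ hθ => (ext_of_max hb H θ hθ).1)

/-- `b⁴ · ((b/3)!)² ≤ (b!)²` for `b ≥ 4`. -/
theorem arith {b : ℕ} (h4 : 4 ≤ b) : b ^ 4 * (Nat.factorial (b / 3)) ^ 2 ≤ (Nat.factorial b) ^ 2 := by
  have h1 : b ^ 2 * Nat.factorial (b / 3) ≤ Nat.factorial b := by
    obtain ⟨c, rfl⟩ : ∃ c, b = c + 3 := ⟨b - 3, by omega⟩
    have h2 : Nat.factorial ((c + 3) / 3) ≤ Nat.factorial c := Nat.factorial_le (by omega)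
    have h3 : Nat.factorial (c + 3) = (c + 3) * ((c + 2) * ((c + 1) * Nat.factorial c)) := by
      rw [Nat.factorial_succ, Nat.factorial_succ, Nat.factorial_succ]
    rw [h3]
    have h5 : (c + 3) ^ 2 ≤ (c + 3) * ((c + 2) * (c + 1)) := by nlinarith
    calc (c + 3) ^ 2 * Nat.factorial ((c + 3) / 3) ≤ (c + 3) ^ 2 * Nat.factorial c :=
          Nat.mul_le_mul_left _ h2
      _ ≤ (c + 3) * ((c + 2) * (c + 1)) * Nat.factorial c := Nat.mul_le_mul_right _ h5
      _ = (c + 3) * ((c + 2) * ((c + 1) * Nat.factorial c)) := by ring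
  calc b ^ 4 * (Nat.factorial (b / 3)) ^ 2 = (b ^ 2 * Nat.factorial (b / 3)) ^ 2 := by ring
    _ ≤ (Nat.factorial b) ^ 2 := Nat.pow_le_pow_left h1 2

/-- Isaacs 12.26 with an upper bound `b` on the degrees. -/
theorem main : ∀ (b : ℕ) (G : Type u) [Group G] [Finite G], DegLe G b →
    ∃ A : Subgroup G, (∀ x ∈ A, ∀ y ∈ A, x * y = y * x) ∧ A.index ≤ (Nat.factorial b) ^ 2 := by
  intro b
  induction b using Nat.strong_induction_on with
  | _ b ih =>
    intro G _ _ hb
    have hb1 : 1 ≤ b := hb.one_le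
    by_cases hG : commutator G ≤ (⊥ : Subgroup G)
    · refine ⟨⊤, ?_, ?_⟩
      · intro x _ y _
        have h1 : ⁅x, y⁆ ∈ commutator G :=
          Subgroup.commutator_mem_commutator (Subgroup.mem_top x) (Subgroup.mem_top y)
        have h2 : ⁅x, y⁆ = 1 := by simpa using hG h1
        rw [commutatorElement_def] at h2
        calc x * y = (x * y * x⁻¹ * y⁻¹) * (y * x) := by group
          _ = y * x := by rw [h2, one_mul]
      · rw [Subgroup.index_top]
        exact Nat.one_le_pow _ _ (Nat.factorial_pos b)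
    · rcases step hb hG with ⟨H, hHi, hHd⟩ | ⟨K, hKi, hKd, h4⟩
      · obtain ⟨A, hA, hAi⟩ := ih (b - 1) (by omega) H hHd
        refine ⟨A.map H.subtype, ?_, ?_⟩
        · rintro _ ⟨x, hx, rfl⟩ _ ⟨y, hy, rfl⟩
          have := hA x hx y hy
          simp only [Subgroup.coe_subtype]
          rw [← Subgroup.coe_mul, this, Subgroup.coe_mul]
        · rw [Subgroup.index_map_subtype]
          have hfac : Nat.factorial b = b * Nat.factorial (b - 1) := by
            obtain ⟨c, rfl⟩ : ∃ c, b = c + 1 := ⟨b - 1, by omega⟩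
            rw [Nat.factorial_succ]; rfl
          calc A.index * H.index ≤ (Nat.factorial (b - 1)) ^ 2 * b ^ 2 :=
                Nat.mul_le_mul hAi hHi
            _ = (Nat.factorial b) ^ 2 := by rw [hfac]; ring
      · obtain ⟨A, hA, hAi⟩ := ih (b / 3) (by omega) K hKd
        refine ⟨A.map K.subtype, ?_, ?_⟩
        · rintro _ ⟨x, hx, rfl⟩ _ ⟨y, hy, rfl⟩
          have := hA x hx y hy
          simp only [Subgroup.coe_subtype]
          rw [← Subgroup.coe_mul, this, Subgroup.coe_mul]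
        · rw [Subgroup.index_map_subtype]
          calc A.index * K.index ≤ (Nat.factorial (b / 3)) ^ 2 * b ^ 4 :=
                Nat.mul_le_mul hAi hKi
            _ = b ^ 4 * (Nat.factorial (b / 3)) ^ 2 := by ring
            _ ≤ (Nat.factorial b) ^ 2 := arith h4

end Cfsg.Agent.Helper5.AB
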