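import Mathlib
import Cfsg.Agent.Helper5.ABDefs
import Cfsg.Agent.Helper24.DegreeRatio

set_option autoImplicit false

/-!
# S4463, piece PERFNI: `M/K` perfect, `θ ∈ Irr(K)` not invariant ⇒ the inertia group has
index at least 3, so every character over `θ` has degree at least `3 θ(1)`.
-/

namespace Cfsg.Agent.Helper5.AB

open Cfsg Cfsg.Agent.Helper24 Cfsg.Agent.Helper29.TwoDeg
open scoped ComplexConjugate commutatorElement

universe u

theorem perf_not_invariant {M : Type u} [Group M] [Finite M] (K : Subgroup M) [hK : K.Normal]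
    (hperf : commutator (M ⧸ K) = ⊤) (θ : IrrCharacter K)
    (hni : ¬ ∀ (g : M) (k : K),
      (θ : K → ℂ) ⟨g * k * g⁻¹, hK.conj_mem k k.2 g⟩ = (θ : K → ℂ) k) :
    ∃ ψ : IrrCharacter M, 3 * irrDeg θ ≤ irrDeg ψ := by
  classical
  have : Fintype M := Fintype.ofFinite M
  have : Fintype K := Fintype.ofFinite K
  have : Fintype (inertiaSubgroup K (θ : K → ℂ)) := Fintype.ofFinite _
  have : Fintype (K.subgroupOf (inertiaSubgroup K (θ : K → ℂ))) := Fintype.ofFinite _
  set T := inertiaSubgroup K (θ : K → ℂ) with hT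
  have hθcf : IsClassFunction K (θ : K → ℂ) := isClassFunction_irr θ
  have hKT : K ≤ T := le_inertiaSubgroup K _ hθcf
  -- `T` is proper
  have hTtop : T ≠ ⊤ := by
    intro htop
    apply hni
    intro g k
    have hg : g ∈ T := by rw [htop]; trivial
    exact (mem_inertiaSubgroup K _ g).mp hg k
  -- `M = M' K`
  have hsup : ∀ g : M, ∃ c ∈ commutator M, c⁻¹ * g ∈ K := by
    intro g
    have hcq : commutator (M ⧸ K) = (commutator M).map (QuotientGroup.mk' K) := by
      rw [commutator_def, commutator_def, Subgroup.map_commutator,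
        Subgroup.map_top_of_surjective _ (QuotientGroup.mk'_surjective _)]
    have h1 : (QuotientGroup.mk' K) g ∈ (commutator M).map (QuotientGroup.mk' K) := by
      rw [← hcq, hperf]; trivial
    obtain ⟨c, hc, hcg⟩ := h1
    refine ⟨c, hc, ?_⟩
    rw [← QuotientGroup.eq]
    exact hcg
  -- the index of `T` is at least 3
  have hidx : 3 ≤ T.index := by
    have h0 : T.index ≠ 0 := Subgroup.index_ne_zero_of_finite
    have h1 : T.index ≠ 1 := fun h => hTtop (Subgroup.index_eq_one.mp h)
    have h2 : T.index ≠ 2 := by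
      intro h2
      have hTn : T.Normal := Subgroup.normal_of_index_eq_two h2
      have hcard : Nat.card (M ⧸ T) = 2 := by rw [← Subgroup.index_eq_card]; exact h2
      have : Fact (Nat.Prime 2) := ⟨Nat.prime_two⟩
      have hcyc : IsCyclic (M ⧸ T) := isCyclic_of_prime_card hcard
      have hcomm : commutator M ≤ T := by
        rw [commutator_def, Subgroup.commutator_le]
        intro a _ b _
        rw [← QuotientGroup.eq_one_iff, commutatorElement_def]
        simp only [QuotientGroup.mk_mul, QuotientGroup.mk_inv]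
        have hab : (a : M ⧸ T) * (b : M ⧸ T) = (b : M ⧸ T) * (a : M ⧸ T) := by
          let _ := hcyc.commGroup
          exact mul_comm _ _
        rw [hab]
        group
      apply hTtop
      rw [eq_top_iff]
      intro g _
      obtain ⟨c, hc, hcg⟩ := hsup g
      have : g = c * (c⁻¹ * g) := by group
      rw [this]
      exact T.mul_mem (hcomm hc) (hKT hcg)
    omega
  -- a character over `θ`
  obtain ⟨χ, hχ⟩ := exists_irr_over K θ
  obtain ⟨ψ, hψ, hind, hover⟩ := exists_irr_inertia_over K (χ : M → ℂ) χ.2 (θ : K → ℂ) θ.2 hχ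
  have hθ'irr : IsIrrCharacter (K.subgroupOf T)
      (Cfsg.Agent.Helper8.toSubgroupOf K T (θ : K → ℂ)) :=
    Cfsg.Agent.Helper8.isIrrCharacter_comp_surjective
      (Subgroup.subgroupOfEquivOfLe hKT).toMonoidHom
      (Subgroup.subgroupOfEquivOfLe hKT).surjective θ.2
  have : (K.subgroupOf T).Normal := Subgroup.normal_subgroupOf
  have hinv : ∀ (t : T) (n : K.subgroupOf T),
      Cfsg.Agent.Helper8.toSubgroupOf K T (θ : K → ℂ)
        ⟨t * n * t⁻¹, Subgroup.Normal.conj_mem inferInstance (n : T) n.2 t⟩ =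
      Cfsg.Agent.Helper8.toSubgroupOf K T (θ : K → ℂ) n := by
    intro t n
    have h1 := (mem_inertiaSubgroup K (θ : K → ℂ) t).mp t.2
      ⟨((n : T) : M), Subgroup.mem_subgroupOf.mp n.2⟩
    exact h1
  obtain ⟨e, he1, -⟩ := degree_ratio_dvd_index_of_invariant
    (K.subgroupOf T) ψ hψ _ hθ'irr hinv hover
  have hχ1 : (χ : M → ℂ) 1 = ((T.index * e * irrDeg θ : ℕ) : ℂ) := by
    rw [← hind, Cfsg.Agent.Helper5.indFun_apply_one, he1]
    have : Cfsg.Agent.Helper8.toSubgroupOf K T (θ : K → ℂ) 1 = (θ : K → ℂ) 1 := rfl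
    rw [this, irrDeg_spec]
    push_cast
    ring
  have hdeg : irrDeg χ = T.index * e * irrDeg θ := by
    rw [irrDeg_spec] at hχ1
    exact_mod_cast hχ1
  have hepos : 1 ≤ e := by
    rcases Nat.eq_zero_or_pos e with h0 | h0
    · rw [h0, mul_zero, zero_mul] at hdeg
      have := irrDeg_pos χ
      omega
    · exact h0
  refine ⟨χ, ?_⟩
  rw [hdeg]
  calc 3 * irrDeg θ ≤ T.index * e * irrDeg θ := by
        apply Nat.mul_le_mul_right
        calc 3 ≤ T.index := hidx
          _ ≤ T.index * e := Nat.le_mul_of_pos_right _ hepos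

end Cfsg.Agent.Helper5.AB
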