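import Mathlib
import Cfsg.Prelude.Def_Blocks
import Cfsg.Agent.Helper5.CentralProduct2

set_option autoImplicit false
set_option linter.unusedSectionVars false
set_option linter.unusedVariables false

/-!
# Blocks of `G = P · C_G(P)` with defect group `P`: character values
-/

namespace Cfsg.Agent.Helper5.CP

open Cfsg Cfsg.Agent.Helper24 Cfsg.Agent.Helper5 Cfsg.Agent.Helper5.Loc Cfsg.Agent.Helper5.CC
open Cfsg.Agent.Helper5.CD Cfsg.Agent.Helper5.BCnt Cfsg.Agent.Helper14 Cfsg.Agent.Helper5.BFC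
open Cfsg.Agent.Helper5.Rob Cfsg.Agent.Helper5.RDZ

variable {G : Type*} [Group G] {P : Subgroup G}

/-- A `p`-regular element of `G = P C_G(P)` lies in `C_G(P)`. -/
theorem mem_cen_of_regular [Finite G] {p : ℕ} [hp : Fact p.Prime] (hP : IsPGroup p P)
    (hG : P ⊔ Cen P = ⊤) (x : G) (hx : ¬ p ∣ orderOf x) : x ∈ Cen P := by
  obtain ⟨u, c, rfl⟩ := exists_mul_eq hG x
  obtain ⟨k, hk⟩ := hP u
  have hk' : (u : G) ^ (p ^ k) = 1 := by
    have := congrArg Subtype.val hk
    simpa using this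
  have hcop : (p ^ k).Coprime (orderOf ((u : G) * (c : G))) :=
    Nat.Coprime.pow_left k ((Nat.Prime.coprime_iff_not_dvd hp.out).mpr hx)
  obtain ⟨m, hm⟩ := exists_pow_eq_self_of_coprime hcop
  rw [(commute_coe P u c).mul_pow, hk', one_mul] at hm
  rw [← hm]
  exact (Cen P).pow_mem ((Cen P).pow_mem c.2 _) _

variable {M : Ideal AlgInt} [Fintype G] {p : ℕ} [hp : Fact p.Prime]

/-- Character values of the members of a block of `G = P C_G(P)` with defect group `P`, in terms
of the canonical character. -/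
theorem values_of_decomp (hM : IsPModular p M) (hP : IsPGroup p P) (hG : P ⊔ Cen P = ⊤)
    {B : Set (IrrCharacter G)} (hB : IsPBlock M B) (hBD : IsDefectGroup p M B P)
    (χ θ : IrrCharacter G) (hχ : χ ∈ B) (hθ : θ ∈ B) (ζ : IrrCharacter P)
    (φ₀ φ : IrrCharacter (Cen P))
    (h₀ : Decomp P (χ : G → ℂ) (trivIrr P : P → ℂ) (φ₀ : Cen P → ℂ))
    (h : Decomp P (θ : G → ℂ) (ζ : P → ℂ) (φ : Cen P → ℂ)) :
    (∀ (y : P) (x : G), ¬ p ∣ orderOf x →
      (θ : G → ℂ) ((y : G) * x) = (ζ : P → ℂ) y * (χ : G → ℂ) x) ∧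
    (∀ z : G, (∀ y : G, IsPPart p z y → y ∉ P) → (θ : G → ℂ) z = 0) := by
  classical
  have hMp := isPrime_of_isPModular hM
  have : Finite G := Finite.of_fintype G
  have : Fintype (Cen P) := Fintype.ofFinite _
  have : Fintype (IrrCharacter (Cen P)) := Fintype.ofFinite _
  have : Fintype (Zc P) := Fintype.ofFinite _
  have hZp : IsPGroup p (Zc P) := zc_isPGroup hP
  have hsame : SameBlock M (φ : Cen P → ℂ) (φ₀ : Cen P → ℂ) :=
    (sameBlock_iff hM hP hG θ χ ζ (trivIrr P) φ φ₀ h h₀).mp (sameBlock_of_mem hMp hB hθ hχ)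
  have hdef := isDefectGroup_cen hM hP hG hB hBD θ hθ ζ φ h
  have hb : IsPBlock M (blockOf M (φ : Cen P → ℂ)) := isPBlock_blockOf φ
  have hdeg := factorization_degree_of_central_defect hM hb hdef zc_le_center φ
    (mem_blockOf_self hMp φ)
  have hdeg' := factorization_degree_of_central_defect hM hb hdef zc_le_center φ₀ hsame
  refine ⟨?_, ?_⟩
  · intro y x hx
    have hxC : x ∈ Cen P := mem_cen_of_regular hP hG x hx
    have hx' : ¬ p ∣ orderOf (⟨x, hxC⟩ : Cen P) := by
      rw [← Subgroup.orderOf_coe]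
      exact hx
    have hreg := eq_on_regular hM (Zc P) hZp zc_le_center φ φ₀ hdeg hdeg' hsame ⟨x, hxC⟩ hx'
    have e1 := h y ⟨x, hxC⟩
    have e2 := h₀ 1 ⟨x, hxC⟩
    simp only [OneMemClass.coe_one, one_mul, trivIrr_apply] at e1 e2
    rw [e1, e2, hreg]
  · intro z hz
    obtain ⟨u, c, rfl⟩ := exists_mul_eq hG z
    have hno : ¬ ∃ z' : Zc P, IsPPart p c ((z' : Cen P)) := by
      rintro ⟨z', w, hzw, hcomm, ⟨k, hk⟩, hw⟩
      have hz'P : ((z' : Cen P) : G) ∈ P := Subgroup.mem_subgroupOf.mp z'.2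
      apply hz ((u : G) * ((z' : Cen P) : G)) ?_ (P.mul_mem u.2 hz'P)
      refine ⟨(w : G), ?_, ?_, ?_, ?_⟩
      · rw [mul_assoc, ← hzw]; rfl
      · have h1 : Commute (u : G) (w : G) := commute_coe P u w
        have h2 : Commute ((z' : Cen P) : G) (w : G) := by
          have := congrArg Subtype.val hcomm.eq
          exact this
        exact h1.mul_left h2
      · obtain ⟨j, hj⟩ := hP (u * ⟨((z' : Cen P) : G), hz'P⟩)
        have hj' : ((u : G) * ((z' : Cen P) : G)) ^ (p ^ j) = 1 := by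
          have := congrArg Subtype.val hj
          simpa using this
        obtain ⟨i, -, hi⟩ := (Nat.dvd_prime_pow hp.out).mp (orderOf_dvd_of_pow_eq_one hj')
        exact ⟨i, hi⟩
      · rw [Subgroup.orderOf_coe]
        exact hw
    rw [h u c, (sum_normSq_and_vanish zc_le_center hZp φ hdeg).2 c hno, mul_zero]

end Cfsg.Agent.Helper5.CP
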