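import Mathlib
import Cfsg.Agent.Helper5.GCb

set_option autoImplicit false

namespace Cfsg.Agent.Helper5.CycTI

open Module Cfsg.Agent.Helper5

section LinAlg

variable {k : Type*} [Field k] {V : Type*} [AddCommGroup V] [Module k V]

theorem conjOp_sub_one (X Y : Module.End k V) (hXY : X * Y = 1) (hYX : Y * X = 1) :
    HHT.conjOp X Y - 1 =
      (LinearMap.mulLeft k (X - 1) + LinearMap.mulRight k (-(X - 1))) * LinearMap.mulRight k Y := by
  refine LinearMap.ext fun μ => ?_
  rw [LinearMap.sub_apply, HHT.conjOp_apply, Module.End.one_apply, Module.End.mul_apply,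
    LinearMap.add_apply, LinearMap.mulLeft_apply, LinearMap.mulRight_apply,
    LinearMap.mulRight_apply]
  have hc : Y * (X - 1) = (X - 1) * Y := by
    rw [mul_sub, sub_mul, hYX, hXY, mul_one, one_mul]
  calc X * μ * Y - μ = X * μ * Y - μ * Y - μ * (1 - Y) := by noncomm_ring
    _ = (X - 1) * (μ * Y) - μ * (X * Y - Y) := by rw [hXY]; noncomm_ring
    _ = (X - 1) * (μ * Y) + μ * Y * (-(X - 1)) := by
        rw [mul_assoc μ Y, mul_neg, hc]; noncomm_ring

/-- The trace from the cyclic group generated by `X` (of order dividing `p ^ n`) kills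
`ker (X - 1) ^ (p ^ n - d)` when `(X - 1) ^ d = 0`. -/
theorem sum_conj_apply_eq_zero (p : ℕ) [Fact p.Prime] [CharP k p] (X Y : Module.End k V)
    (hXY : X * Y = 1) (hYX : Y * X = 1) (n d : ℕ) (hd : (X - 1) ^ d = 0)
    (μ : Module.End k V) (v : V) (hv : ((X - 1) ^ (p ^ n - d)) v = 0) :
    (∑ i ∈ Finset.range (p ^ n), X ^ i * μ * Y ^ i) v = 0 := by
  have hqpos : 0 < p ^ n := pos_of_ne_zero (pow_ne_zero _ (Fact.out : p.Prime).ne_zero)
  set u := X - 1 with hu
  have hc : Y * u = u * Y := by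
    rw [hu, mul_sub, sub_mul, hYX, hXY, mul_one, one_mul]
  set Lu := LinearMap.mulLeft k u with hLu
  set Ru := LinearMap.mulRight k (-u) with hRu
  set RY := LinearMap.mulRight k Y with hRY
  have h1 : HHT.conjOp X Y - 1 = (Lu + Ru) * RY := conjOp_sub_one X Y hXY hYX
  have hLR : Commute Lu Ru := LinearMap.commute_mulLeft_right u (-u)
  have hLRY : Commute Lu RY := LinearMap.commute_mulLeft_right u Y
  have hRR : Commute Ru RY := by
    refine LinearMap.ext fun ν => ?_
    simp only [Module.End.mul_apply, hRu, hRY, LinearMap.mulRight_apply, mul_assoc, mul_neg,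
      neg_mul, hc]
  have hcomm : Commute (Lu + Ru) RY := hLRY.add_left hRR
  have hsum : ∑ i ∈ Finset.range (p ^ n), HHT.conjOp X Y ^ i =
      (Lu + Ru) ^ (p ^ n - 1) * RY ^ (p ^ n - 1) := by
    rw [← HHT.sub_one_pow_eq_geom (K := k) p (HHT.conjOp X Y) n, h1, hcomm.mul_pow]
  have hL : (∑ i ∈ Finset.range (p ^ n), X ^ i * μ * Y ^ i) =
      (∑ i ∈ Finset.range (p ^ n), HHT.conjOp X Y ^ i) μ := by
    rw [LinearMap.sum_apply]
    exact Finset.sum_congr rfl fun i _ => (HHT.conjOp_pow_apply X Y i μ).symm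
  rw [hL, hsum, hLR.add_pow, Module.End.mul_apply, LinearMap.sum_apply, LinearMap.sum_apply]
  refine Finset.sum_eq_zero fun m hm => ?_
  have hm' : m ≤ p ^ n - 1 := Nat.lt_succ_iff.mp (Finset.mem_range.mp hm)
  rw [hLu, hRu, LinearMap.pow_mulLeft, LinearMap.pow_mulRight, Module.End.mul_apply,
    Module.End.mul_apply, LinearMap.mulLeft_apply, LinearMap.mulRight_apply]
  by_cases hmd : d ≤ m
  · have : u ^ m = 0 := by
      rw [← Nat.sub_add_cancel hmd, pow_add, hd, mul_zero]
    rw [this, zero_mul, LinearMap.zero_apply]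
  · push Not at hmd
    have hle : p ^ n - d ≤ p ^ n - 1 - m := by omega
    have hz : ((-u) ^ (p ^ n - 1 - m)) v = 0 := by
      rw [neg_pow, ← Nat.sub_add_cancel hle, pow_add u, Module.End.mul_apply,
        Module.End.mul_apply, hv, map_zero, map_zero]
    rw [Module.End.mul_apply, Module.End.mul_apply, hz, map_zero, map_zero]

end LinAlg

end Cfsg.Agent.Helper5.CycTI
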