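import Mathlib
import Cfsg.Agent.Helper5.GCb

set_option autoImplicit false

namespace Cfsg.Agent.Helper5.CycTI

open Module Cfsg.Agent.Helper5 Polynomial

section Poly

variable {k : Type*} [Field k] {V : Type*} [AddCommGroup V] [Module k V]

theorem natCast_pow_pred_eq_one (p : ℕ) [hp : Fact p.Prime] [CharP k p] (m : ℕ) (hm : ¬ p ∣ m) :
    ((m : k)) ^ (p - 1) = 1 := by
  have h0 : ((m : ZMod p)) ≠ 0 := by
    rw [Ne, ZMod.natCast_eq_zero_iff]; exact hm
  have h1 : ((m : ZMod p)) ^ (p - 1) = 1 := ZMod.pow_card_sub_one_eq_one h0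
  have := congrArg (ZMod.castHom (dvd_refl p) k) h1
  simpa using this

/-- The sum of the `(p-1)`-st powers of `X ^ m - 1`, `m` prime to `p`, is `(X - 1) ^ (p - 1)` times
a unit commuting with `X - 1`, when `X - 1` is nilpotent and the number of summands is prime to
`p`. -/
theorem sum_pow_sub_one_pow (p : ℕ) [hp : Fact p.Prime] [CharP k p] (X : Module.End k V)
    (hnil : IsNilpotent (X - 1)) {ι : Type*} (s : Finset ι) (m : ι → ℕ)
    (hm : ∀ c ∈ s, ¬ p ∣ m c) (hs : (s.card : k) ≠ 0) :
    ∃ w : Module.End k V, IsUnit w ∧ Commute w (X - 1) ∧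
      ∑ c ∈ s, (X ^ m c - 1) ^ (p - 1) = (X - 1) ^ (p - 1) * w := by
  classical
  set G : ℕ → k[X] := fun m => ∑ i ∈ Finset.range m, (Polynomial.X : k[X]) ^ i with hG
  have hGm : ∀ m, ((Polynomial.X : k[X]) - 1) * G m = Polynomial.X ^ m - 1 := fun m =>
    mul_geom_sum _ m
  set W : k[X] := ∑ c ∈ s, G (m c) ^ (p - 1) with hW
  have hΦ : ∑ c ∈ s, ((Polynomial.X : k[X]) ^ m c - 1) ^ (p - 1) =
      ((Polynomial.X : k[X]) - 1) ^ (p - 1) * W := by
    rw [hW, Finset.mul_sum]
    refine Finset.sum_congr rfl fun c _ => ?_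
    rw [← hGm, mul_pow]
  have hev : W.eval 1 = (s.card : k) := by
    rw [hW, Polynomial.eval_finsetSum]
    rw [Finset.card_eq_sum_ones, Nat.cast_sum]
    refine Finset.sum_congr rfl fun c hc => ?_
    rw [Polynomial.eval_pow, hG]
    simp only [Polynomial.eval_finsetSum, Polynomial.eval_pow, Polynomial.eval_X, one_pow,
      Finset.sum_const, Finset.card_range, nsmul_eq_mul, mul_one, Nat.cast_one]
    exact natCast_pow_pred_eq_one p (m c) (hm c hc)
  obtain ⟨R, hR⟩ : ((Polynomial.X : k[X]) - Polynomial.C 1) ∣ W - Polynomial.C (W.eval 1) :=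
    Polynomial.X_sub_C_dvd_sub_C_eval
  have hWeq : W = Polynomial.C (s.card : k) + ((Polynomial.X : k[X]) - 1) * R := by
    rw [← hev, ← Polynomial.C_1 (R := k), ← hR]; ring
  refine ⟨Polynomial.aeval X W, ?_, ?_, ?_⟩
  · rw [hWeq, map_add, map_mul, Polynomial.aeval_C, map_sub, Polynomial.aeval_X, map_one]
    have hcomm : Commute ((X - 1) * Polynomial.aeval X R) (algebraMap k (Module.End k V) s.card) :=
      (Algebra.commutes _ _).symm
    refine IsNilpotent.isUnit_add_left_of_commute ?_ ?_ hcomm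
    · have : Commute (X - 1) (Polynomial.aeval X R) := by
        have h := (Commute.all ((Polynomial.X : k[X]) - 1) R).map (Polynomial.aeval X)
        simpa using h
      exact this.isNilpotent_mul_right hnil
    · exact (IsUnit.mk0 _ hs).map (algebraMap k (Module.End k V))
  · have h := (Commute.all W ((Polynomial.X : k[X]) - 1)).map (Polynomial.aeval X)
    simpa using h
  · have := congrArg (Polynomial.aeval X) hΦ
    simpa only [map_sum, map_pow, map_sub, map_mul, Polynomial.aeval_X, map_one] using this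

end Poly

end Cfsg.Agent.Helper5.CycTI
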