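import Mathlib
import Cfsg.Agent.Helper5.GCr

set_option autoImplicit false

namespace Cfsg.Agent.Helper5.CycTI

open Module Cfsg.Agent.Helper5 Subgroup

section Grp

variable {G : Type*} [Group G] {p : ℕ} [hp : Fact p.Prime]

/-- `p`-elements of the normalizer of a Sylow `p`-subgroup lie in it. -/
theorem mem_sylow_of_mem_normalizer_pow (P : Sylow p G) {y : G}
    (hy : y ∈ normalizer ((P : Subgroup G) : Set G)) (k : ℕ) (hyk : y ^ (p ^ k) = 1) :
    y ∈ (P : Subgroup G) := by
  have hQ : IsPGroup p (zpowers y) := by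
    obtain ⟨l, -, hl⟩ := (Nat.dvd_prime_pow hp.out).mp (orderOf_dvd_of_pow_eq_one hyk)
    apply IsPGroup.of_card (n := l)
    rw [Nat.card_zpowers, hl]
  have hle : zpowers y ≤ normalizer ((P : Subgroup G) : Set G) := by
    rw [zpowers_le]; exact hy
  have hsup := IsPGroup.to_sup_of_normal_right' hQ P.2 hle
  have := P.is_maximal' hsup le_sup_right
  have h2 : zpowers y ≤ (P : Subgroup G) := by
    rw [← this]; exact le_sup_left
  exact h2 (mem_zpowers y)

/-- The trivial intersection hypothesis, in the form used by the Mackey formula. -/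
theorem ti_form (P : Sylow p G) (hTI : ∀ Q : Sylow p G, Q ≠ P → (P : Subgroup G) ⊓ (Q : Subgroup G) = ⊥)
    {x : G} (hxP : x ∈ (P : Subgroup G)) (q k : ℕ) (hq : orderOf x = q) (hqk : q = p ^ k)
    (a : G) (ha : a ∉ normalizer ((P : Subgroup G) : Set G)) (i : ℕ) (hi : 0 < i) (hiq : i < q) :
    a⁻¹ * x ^ i * a ∉ normalizer ((P : Subgroup G) : Set G) := by
  intro hmem
  set y := a⁻¹ * x ^ i * a with hy
  have hy1 : y ≠ 1 := by
    intro h
    have : x ^ i = 1 := by
      have h' : a * y * a⁻¹ = 1 := by rw [h]; group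
      rw [hy] at h'
      have : a * (a⁻¹ * x ^ i * a) * a⁻¹ = x ^ i := by group
      rw [← this]; exact h'
    have hdvd := orderOf_dvd_of_pow_eq_one this
    rw [hq] at hdvd
    exact absurd (Nat.le_of_dvd hi hdvd) (by omega)
  have hyq : y ^ (p ^ k) = 1 := by
    rw [hy, show a⁻¹ * x ^ i * a = a⁻¹ * x ^ i * a⁻¹⁻¹ by rw [inv_inv], conj_pow, ← pow_mul,
      mul_comm, pow_mul, ← hqk, ← hq, pow_orderOf_eq_one, one_pow]
    group
  have hyP : y ∈ (P : Subgroup G) := mem_sylow_of_mem_normalizer_pow P hmem k hyq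
  have hyQ : y ∈ ((a⁻¹ • P : Sylow p G) : Subgroup G) := by
    rw [Sylow.coe_subgroup_smul]
    have := Subgroup.smul_mem_pointwise_smul (x ^ i) (MulAut.conj a⁻¹) (P : Subgroup G)
      ((P : Subgroup G).pow_mem hxP i)
    rw [MulAut.smul_def, MulAut.conj_apply, inv_inv] at this
    exact this
  by_cases hQ : (a⁻¹ • P : Sylow p G) = P
  · rw [Sylow.smul_eq_iff_mem_normalizer] at hQ
    exact ha (by simpa using (normalizer ((P : Subgroup G) : Set G)).inv_mem hQ)
  · have h := hTI _ hQ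
    have : y ∈ (P : Subgroup G) ⊓ ((a⁻¹ • P : Sylow p G) : Subgroup G) := ⟨hyP, hyQ⟩
    rw [h, Subgroup.mem_bot] at this
    exact hy1 this

variable [Finite G]

/-- Elements of the normalizer act on the generator by a power prime to `p`. -/
theorem exists_pow_of_mem_normalizer (P : Sylow p G) {x : G}
    (hPx : (P : Subgroup G) = zpowers x) (k : ℕ) (hk : 1 ≤ k) (hq : orderOf x = p ^ k)
    (h : G) (hh : h ∈ normalizer ((P : Subgroup G) : Set G)) :
    ∃ m : ℕ, h * x * h⁻¹ = x ^ m ∧ ¬ p ∣ m := by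
  have hxP : x ∈ (P : Subgroup G) := by rw [hPx]; exact mem_zpowers x
  have h1 : h * x * h⁻¹ ∈ (P : Subgroup G) := (Subgroup.mem_normalizer_iff.mp hh x).mp hxP
  rw [hPx] at h1
  obtain ⟨m, hm⟩ := GC.exists_pow_of_mem_zpowers h1
  refine ⟨m, hm, ?_⟩
  rintro ⟨t, rfl⟩
  have hord : orderOf (h * x * h⁻¹) = p ^ k := by
    have hs : SemiconjBy h x (h * x * h⁻¹) := by
      unfold SemiconjBy; group
    rw [← SemiconjBy.orderOf_eq h hs, hq]
  have hpow : (h * x * h⁻¹) ^ (p ^ (k - 1)) = 1 := by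
    rw [hm, ← pow_mul, mul_assoc, mul_comm t, ← mul_assoc, ← pow_succ',
      Nat.sub_add_cancel hk, pow_mul, ← hq, pow_orderOf_eq_one, one_pow]
  have hdvd := orderOf_dvd_of_pow_eq_one hpow
  rw [hord] at hdvd
  have hlt : p ^ (k - 1) < p ^ k := Nat.pow_lt_pow_right hp.out.one_lt (by omega)
  exact absurd (Nat.le_of_dvd (pos_of_ne_zero (pow_ne_zero _ hp.out.ne_zero)) hdvd) (by omega)

end Grp

end Cfsg.Agent.Helper5.CycTI
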