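import Mathlib
import Cfsg.Agent.Helper5.CycTIa
import Cfsg.Agent.Helper5.CycTIb
import Cfsg.Agent.Helper5.CycTIc

set_option autoImplicit false

namespace Cfsg.Agent.Helper5.CycTI

open Module Cfsg.Agent.Helper5 Subgroup

section Main

variable {F : Type*} [Field F] {V : Type*} [AddCommGroup V] [Module F V]

theorem conj_pow_end (A B g : Module.End F V) (hAB : A * B = 1) (hBA : B * A = 1) (j : ℕ) :
    A * g ^ j * B = (A * g * B) ^ j := by
  induction j with
  | zero => simp [hAB]
  | succ j ih =>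
    rw [pow_succ, pow_succ, ← ih]
    calc A * (g ^ j * g) * B = A * g ^ j * (1 * (g * B)) := by rw [one_mul]; noncomm_ring
      _ = A * g ^ j * (B * A * (g * B)) := by rw [hBA]
      _ = A * g ^ j * B * (A * g * B) := by noncomm_ring

/-- Schur's lemma in the form needed: an endomorphism commuting with an irreducible
representation and killing a non-zero vector is zero. -/
theorem eq_zero_of_comm_of_ker {G : Type*} [Group G] (ρ : Representation F G V)
    (hirr : ρ.IsIrreducible) (ψ : V →ₗ[F] V) (hψ : ∀ g v, ψ (ρ g v) = ρ g (ψ v))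
    (v : V) (hv : v ≠ 0) (hψv : ψ v = 0) : ψ = 0 := by
  let K : Subrepresentation ρ :=
    { toSubmodule := LinearMap.ker ψ
      apply_mem_toSubmodule := by
        intro g w hw
        rw [LinearMap.mem_ker] at hw ⊢
        rw [hψ, hw, map_zero] }
  have hK : K = ⊥ ∨ K = ⊤ := hirr.eq_bot_or_eq_top K
  rcases hK with h | h
  · exfalso
    have : v ∈ K.toSubmodule := LinearMap.mem_ker.mpr hψv
    rw [h] at this
    exact hv ((Submodule.mem_bot F).mp this)
  · refine LinearMap.ext fun w => ?_
    have : w ∈ K.toSubmodule := by rw [h]; exact Submodule.mem_top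
    exact LinearMap.mem_ker.mp this

/-- The key dichotomy for the nilpotency index `d` of `u = ρ(x) - 1` on an irreducible module of
a group with a cyclic trivial-intersection Sylow `p`-subgroup `⟨x⟩` of order `q = p ^ n`:
`d ≤ p - 1` or `q - (p - 1) ≤ d`. -/
theorem index_dichotomy {G : Type*} [Group G] [Finite G] (p : ℕ) [hp : Fact p.Prime] [CharP F p]
    (P : Sylow p G)
    (hTI : ∀ Q : Sylow p G, Q ≠ P → (P : Subgroup G) ⊓ (Q : Subgroup G) = ⊥)
    (x : G) (hPx : (P : Subgroup G) = zpowers x) (n : ℕ) (hn : 1 ≤ n) (hq : orderOf x = p ^ n)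
    (ρ : Representation F G V) (hirr : ρ.IsIrreducible)
    (d : ℕ) (hd : (ρ x - 1) ^ d = 0) (hdmin : ∀ k < d, (ρ x - 1) ^ k ≠ 0)
    (h1 : p ≤ d) (h2 : d + p ≤ p ^ n) : False := by
  classical
  have hpp := hp.out
  set q := p ^ n with hqdef
  have hqpos : 0 < q := pos_of_ne_zero (pow_ne_zero _ hpp.ne_zero)
  set N := normalizer ((P : Subgroup G) : Set G) with hN
  have hxP : x ∈ (P : Subgroup G) := by rw [hPx]; exact mem_zpowers x
  have hxN : x ∈ N := le_normalizer hxP
  have hxq : x ^ q = 1 := by rw [← hq]; exact pow_orderOf_eq_one x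
  set X := ρ x with hX
  set Y := ρ x⁻¹ with hY
  have hXY : X * Y = 1 := by rw [hX, hY, ← map_mul, mul_inv_cancel, map_one]
  have hYX : Y * X = 1 := by rw [hX, hY, ← map_mul, inv_mul_cancel, map_one]
  set u := X - 1 with hu
  set j := p - 1 with hj
  have hj1 : 1 ≤ j := by have := hpp.two_le; omega
  -- the restricted representation
  set ρN : Representation F N V := ρ.comp N.subtype with hρN
  set PN : Subgroup N := (P : Subgroup G).subgroupOf N with hPN
  have hf0 : GC.IsHomOn ρN ρN PN (u ^ j) := by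
    intro y hy v
    have hyP : (y : G) ∈ (P : Subgroup G) := Subgroup.mem_subgroupOf.mp hy
    rw [hPx] at hyP
    obtain ⟨i, hi⟩ := GC.exists_pow_of_mem_zpowers hyP
    have h1 : ρN y = X ^ i := by
      show ρ (y : G) = X ^ i
      rw [hi, map_pow]
    rw [h1]
    have hc : Commute (u ^ j) (X ^ i) := by
      have : Commute u X := (Commute.refl X).sub_left (Commute.one_left X)
      exact (this.pow_left j).pow_right i
    have := congrArg (fun T : Module.End F V => T v) hc.eq
    simpa [Module.End.mul_apply] using this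
  set f := GC.relTr ρN ρN PN (u ^ j) with hf
  have hfN : GC.IsHomOn ρN ρN ⊤ f := GC.isHomOn_relTr hf0
  have hfN' : GC.IsHomOn ρ ρ N f := fun g hg v => hfN ⟨g, hg⟩ (Subgroup.mem_top _) v
  -- the shape of `f`
  have hterm : ∀ h : N, ∃ m : ℕ, ¬ p ∣ m ∧ GC.cj ρN ρN h (u ^ j) = (X ^ m - 1) ^ j := by
    intro h
    obtain ⟨m, hm, hpm⟩ := exists_pow_of_mem_normalizer P hPx n hn hq (h : G) h.2
    refine ⟨m, hpm, ?_⟩
    have hA : ρ (h : G) * ρ ((h : G)⁻¹) = 1 := by rw [← map_mul, mul_inv_cancel, map_one]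
    have hB : ρ ((h : G)⁻¹) * ρ (h : G) = 1 := by rw [← map_mul, inv_mul_cancel, map_one]
    have h1 : GC.cj ρN ρN h (u ^ j) = ρ (h : G) * u ^ j * ρ ((h : G)⁻¹) := rfl
    rw [h1, conj_pow_end _ _ _ hA hB]
    congr 1
    rw [hu, mul_sub, sub_mul, mul_one, hA, hX, ← map_mul, ← map_mul, hm, map_pow]
  choose m hm1 hm2 using hterm
  let _ : Fintype (N ⧸ PN) := GC.quotFintype PN
  have hfsum : f = ∑ c : N ⧸ PN, (X ^ m (Quotient.out c) - 1) ^ j := by
    rw [hf]
    unfold GC.relTr GC.cosetTerm
    exact Finset.sum_congr rfl fun c _ => hm2 _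
  have hcard : ((Finset.univ : Finset (N ⧸ PN)).card : F) ≠ 0 := by
    rw [Finset.card_univ, ← Nat.card_eq_fintype_card, Ne, CharP.cast_eq_zero_iff F p]
    intro hdvd
    have h1 : Nat.card (N ⧸ PN) = (P : Subgroup G).relIndex N := rfl
    rw [h1] at hdvd
    exact P.not_dvd_index (hdvd.trans (Subgroup.relIndex_dvd_index_of_le le_normalizer))
  obtain ⟨w, hwU, hwC, hfw⟩ := sum_pow_sub_one_pow p X ⟨d, hd⟩ Finset.univ
    (fun c : N ⧸ PN => m (Quotient.out c)) (fun c _ => hm1 _) hcard
  rw [← hfsum] at hfw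
  -- the global trace and the Mackey formula
  set ψ := GC.relTr ρ ρ N f with hψ
  have hψG : GC.IsHomOn ρ ρ ⊤ ψ := GC.isHomOn_relTr hfN'
  obtain ⟨μ, hμ⟩ := GC.relTr_sub_self hfN' x hxN q hqpos hxq
    (fun a ha i hi hiq => ti_form P hTI hxP q n hq rfl a ha i hi hiq)
  -- traces from `⟨x⟩` kill `ker u ^ (q - d)`
  have hkill : ∀ v : V, (u ^ (q - d)) v = 0 → GC.trX ρ ρ x q μ v = 0 := by
    intro v hv
    have h1 : GC.trX ρ ρ x q μ v = (∑ i ∈ Finset.range q, X ^ i * μ * Y ^ i) v := by
      rw [GC.trX_apply, LinearMap.sum_apply]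
      refine Finset.sum_congr rfl fun i _ => ?_
      rw [Module.End.mul_apply, Module.End.mul_apply, hX, hY, ← map_pow, ← map_pow, inv_pow]
    rw [h1]
    exact sum_conj_apply_eq_zero p X Y hXY hYX n d hd μ v hv
  -- a non-zero vector killed by `u`
  have hnt : Nontrivial V := by
    by_contra hV
    rw [not_nontrivial_iff_subsingleton] at hV
    have hbt : (⊥ : Subrepresentation ρ) = ⊤ := by
      apply Subrepresentation.toSubmodule_injective
      exact Subsingleton.elim _ _
    exact (bot_ne_top (α := Subrepresentation ρ)) hbt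
  obtain ⟨v0, hv0⟩ := exists_ne (0 : V)
  have hex : ∃ i, (u ^ i) v0 = 0 := ⟨d, by rw [hd, LinearMap.zero_apply]⟩
  set i0 := Nat.find hex with hi0
  have hi0s : (u ^ i0) v0 = 0 := Nat.find_spec hex
  have hi0pos : 0 < i0 := by
    rcases Nat.eq_zero_or_pos i0 with h | h
    · rw [h, pow_zero, Module.End.one_apply] at hi0s
      exact absurd hi0s hv0
    · exact h
  set v1 := (u ^ (i0 - 1)) v0 with hv1
  have hv1ne : v1 ≠ 0 := Nat.find_min hex (show i0 - 1 < i0 by omega)
  have huv1 : u v1 = 0 := by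
    rw [hv1, ← Module.End.mul_apply, ← pow_succ', Nat.sub_add_cancel hi0pos]
    exact hi0s
  have hupow : ∀ t, 1 ≤ t → (u ^ t) v1 = 0 := by
    intro t ht
    rw [← Nat.sub_add_cancel ht, pow_succ, Module.End.mul_apply, huv1, map_zero]
  have hψv1 : ψ v1 = 0 := by
    have h1 : ψ v1 = f v1 + GC.trX ρ ρ x q μ v1 := by
      rw [← hμ, LinearMap.sub_apply]; abel
    rw [h1, hkill v1 (hupow _ (by omega)), add_zero, hfw, Module.End.mul_apply]
    have hc : Commute (u ^ j) w := (hwC.symm).pow_left j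
    rw [← Module.End.mul_apply, hc.eq, Module.End.mul_apply, hupow j hj1, map_zero]
  have hψ0 : ψ = 0 :=
    eq_zero_of_comm_of_ker ρ hirr ψ (fun g v => hψG g (Subgroup.mem_top g) v) v1 hv1ne hψv1
  have hwinj : Function.Injective w := ((Module.End.isUnit_iff w).mp hwU).1
  have hfker : ∀ v : V, (u ^ (q - d)) v = 0 → (u ^ j) v = 0 := by
    intro v hv
    have h1 : f v = 0 := by
      have h2 : f v = ψ v - GC.trX ρ ρ x q μ v := by
        rw [← hμ, LinearMap.sub_apply]; abel
      rw [h2, hψ0, LinearMap.zero_apply, hkill v hv, sub_zero]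
    have hc : Commute (u ^ j) w := (hwC.symm).pow_left j
    rw [hfw, hc.eq, Module.End.mul_apply] at h1
    apply hwinj
    rw [h1, map_zero]
  -- stabilisation of kernels
  have hstab : ∀ t : ℕ, ∀ v : V, (u ^ (j + t)) v = 0 → (u ^ j) v = 0 := by
    intro t
    induction t with
    | zero => intro v hv; simpa using hv
    | succ t ih =>
      intro v hv
      apply ih
      have h3 : (u ^ (j + 1)) ((u ^ t) v) = 0 := by
        rw [← Module.End.mul_apply, ← pow_add, show j + 1 + t = j + (t + 1) by ring]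
        exact hv
      have h4 : (u ^ (q - d)) ((u ^ t) v) = 0 := by
        have hle : j + 1 ≤ q - d := by omega
        rw [← Nat.sub_add_cancel hle, pow_add, Module.End.mul_apply, h3, map_zero]
      have h5 := hfker _ h4
      rw [← Module.End.mul_apply, ← pow_add] at h5
      exact h5
  have huj : u ^ j = 0 := by
    refine LinearMap.ext fun v => ?_
    rw [LinearMap.zero_apply]
    apply hstab d v
    rw [pow_add, Module.End.mul_apply, hd, LinearMap.zero_apply, map_zero]
  exact hdmin j (by omega) huj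

end Main

end Cfsg.Agent.Helper5.CycTI
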