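import Mathlib
import Cfsg.Prelude.Def_Characters
import Cfsg.Agent.Helper5.DLSylA
import Cfsg.Agent.Helper5.LinChar
import Cfsg.Agent.Helper24.Gallagher
import Cfsg.Agent.Helper24.DetChar
import Cfsg.Agent.Helper24.CharBasic
import Cfsg.Agent.Helper24.Clifford
import Cfsg.Agent.Helper24.Abelian
import Cfsg.Agent.Helper23.PPrimeDeg

set_option autoImplicit false

/-!
Part B: under the hypothesis that all characters of degree divisible by `p` contain the normal
abelian `p`-subgroup `N` in their kernel, the inertia group `T` of a nontrivial `θ ∈ Irr(N)` has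
index prime to `p` and all irreducible characters of `T/N` have degree prime to `p`.
-/

namespace Cfsg.Agent.Helper5.DLS

open Cfsg Cfsg.Agent.Helper24

universe u

/-- all irreducible characters of degree divisible by `p` have `N` in their kernel. -/
def KerHyp {G : Type u} [Group G] [Finite G] (p : ℕ) (N : Subgroup G) : Prop :=
  ∀ χ : IrrCharacter G, p ∣ irrDeg χ → ∀ n ∈ N, (χ : G → ℂ) n = (χ : G → ℂ) 1

section StepA

variable {G : Type u} [Group G] [Fintype G] (p : ℕ) (N : Subgroup G) [hN : N.Normal] [Fintype N]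
variable (T : Subgroup G) [Fintype T] [Fintype (N.subgroupOf T)] (θ : IrrCharacter N)

theorem not_dvd_of_over (hker : KerHyp p N) (hθnt : (θ : N → ℂ) ≠ fun _ => 1)
    (hT : ∀ g : G, g ∈ T ↔ ∀ h : N,
      (θ : N → ℂ) ⟨g * h * g⁻¹, hN.conj_mem h h.2 g⟩ = (θ : N → ℂ) h)
    (hNT : N ≤ T) (ξ : IrrCharacter T)
    (hξ : classInner (indFun (N.subgroupOf T) (Helper8.toSubgroupOf N T (θ : N → ℂ)))
      (ξ : T → ℂ) ≠ 0) :
    ¬ p ∣ T.index * irrDeg ξ := by
  classical
  obtain ⟨hirr, hover⟩ := ind_over N T θ hT hNT ξ hξ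
  intro hdvd
  set χ : IrrCharacter G := ⟨indFun T (ξ : T → ℂ), hirr⟩ with hχ
  have hdeg : irrDeg χ = T.index * irrDeg ξ := by
    have h1 := irrDeg_spec χ
    have h2 : (χ : G → ℂ) 1 = (T.index : ℂ) * (ξ : T → ℂ) 1 :=
      Cfsg.Agent.Helper5.indFun_apply_one T (ξ : T → ℂ)
    rw [h2, irrDeg_spec ξ] at h1
    exact_mod_cast h1.symm
  have hk := hker χ (hdeg ▸ hdvd)
  apply hover
  have hfun : (fun n : N => indFun T (ξ : T → ℂ) n) =
      ((χ : G → ℂ) 1) • (fun _ : N => (1 : ℂ)) := by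
    funext n
    have := hk n n.2
    simp only [Pi.smul_apply, smul_eq_mul, mul_one]
    exact this
  rw [hfun, classInner_smul_left,
    classInner_of_isIrrCharacter (isIrrCharacter_const_one (G := N)) θ.2,
    if_neg (fun h => hθnt h.symm), mul_zero]

end StepA

section StepB

variable {G : Type u} [Group G] [Fintype G] (N : Subgroup G) [hN : N.Normal] [Fintype N]
variable (T : Subgroup G) [Fintype T] [Fintype (N.subgroupOf T)] (θ : IrrCharacter N)

/-- extension of an invariant linear character when some character over it has degree prime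
to `|N|` (determinant trick). -/
theorem exists_extension (hθ1 : (θ : N → ℂ) 1 = 1)
    (hT : ∀ g : G, g ∈ T ↔ ∀ h : N,
      (θ : N → ℂ) ⟨g * h * g⁻¹, hN.conj_mem h h.2 g⟩ = (θ : N → ℂ) h)
    (hNT : N ≤ T) (hN1 : 1 < Nat.card N) (ξ : IrrCharacter T)
    (hξ : classInner (indFun (N.subgroupOf T) (Helper8.toSubgroupOf N T (θ : N → ℂ)))
      (ξ : T → ℂ) ≠ 0)
    (hcop : (irrDeg ξ).Coprime (Nat.card N)) :
    ∃ μ : T →* ℂˣ, ∀ n : N.subgroupOf T,
      ((μ (n : T) : ℂˣ) : ℂ) = Helper8.toSubgroupOf N T (θ : N → ℂ) n := by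
  classical
  have hθc : IsCharacter N (θ : N → ℂ) := IsIrrCharacter.isCharacter θ.2
  have hθ'irr : IsIrrCharacter (N.subgroupOf T) (Helper8.toSubgroupOf N T (θ : N → ℂ)) :=
    Helper8.isIrrCharacter_comp_surjective (Subgroup.subgroupOfEquivOfLe hNT).toMonoidHom
      (Subgroup.subgroupOfEquivOfLe hNT).surjective θ.2
  have hξcf : IsClassFunction T (ξ : T → ℂ) :=
    IsCharacter.isClassFunction (IsIrrCharacter.isCharacter ξ.2)
  have hconst : classInner (fun n : N.subgroupOf T => (ξ : T → ℂ) n)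
      (Helper8.toSubgroupOf N T (θ : N → ℂ)) ≠ 0 := by
    have := hξ
    rw [Helper8.frobenius_reciprocity (N.subgroupOf T) _ (ξ : T → ℂ) hξcf] at this
    rw [← classInner_conj_symm]
    exact (map_ne_zero _).mpr this
  have hcl := clifford_finset (N.subgroupOf T) ξ.2 hθ'irr hconst
  have himg : Finset.univ.image (Cfsg.Agent.Helper24.conjFun (N.subgroupOf T)
      (Helper8.toSubgroupOf N T (θ : N → ℂ))) = {Helper8.toSubgroupOf N T (θ : N → ℂ)} := by
    ext φ
    simp only [Finset.mem_image, Finset.mem_univ, true_and, Finset.mem_singleton]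
    constructor
    · rintro ⟨t, rfl⟩
      funext n
      rw [Cfsg.Agent.Helper24.conjFun_apply]
      exact ((hT (t : G)).mp t.2) ⟨((n : T) : G), Subgroup.mem_subgroupOf.mp n.2⟩
    · rintro rfl
      exact ⟨1, Cfsg.Agent.Helper24.conjFun_one _ _⟩
  rw [himg, Finset.sum_singleton] at hcl
  have hξN : ∀ n : N.subgroupOf T, (ξ : T → ℂ) n =
      classInner (fun n : N.subgroupOf T => (ξ : T → ℂ) n)
        (Helper8.toSubgroupOf N T (θ : N → ℂ)) * Helper8.toSubgroupOf N T (θ : N → ℂ) n :=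
    fun n => congrFun hcl n
  have hθ'1 : Helper8.toSubgroupOf N T (θ : N → ℂ) 1 = 1 := hθ1
  have he1 : classInner (fun n : N.subgroupOf T => (ξ : T → ℂ) n)
      (Helper8.toSubgroupOf N T (θ : N → ℂ)) = (ξ : T → ℂ) 1 := by
    have := hξN 1
    rw [hθ'1, mul_one] at this
    exact this.symm
  obtain ⟨m, σ, hσ, hσξ⟩ := ξ.2
  haveI := hσ
  have hm : (ξ : T → ℂ) 1 = m := by rw [← hσξ, Representation.char_one, Module.finrank_fin_fun]
  have hmdeg : irrDeg ξ = m := by
    have := irrDeg_spec ξ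
    rw [hm] at this
    exact_mod_cast this.symm
  have hm0 : (m : ℂ) ≠ 0 := by
    rw [← hm]
    exact irr_one_ne_zero ξ
  -- scalar action
  have hscal : ∀ b : N.subgroupOf T, σ (b : T) =
      (Helper8.toSubgroupOf N T (θ : N → ℂ) b) • LinearMap.id := by
    intro b
    have h2 := hξN b
    rw [he1, hm] at h2
    have h3 : ‖Helper8.toSubgroupOf N T (θ : N → ℂ) b‖ = 1 :=
      norm_monoidHom_eq_one (Helper5.linCharHom hθc hθ1) _
    obtain ⟨c, hc⟩ := (norm_char_eq_iff σ (b : T)).mp (by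
      rw [hσξ, h2, norm_mul, h3, mul_one, Module.finrank_fin_fun, Complex.norm_natCast])
    have h4 : σ.character (b : T) = c * m := by
      unfold Representation.character
      rw [hc, map_smul, LinearMap.trace_id, Module.finrank_fin_fun, smul_eq_mul]
    rw [hσξ, h2, mul_comm] at h4
    have h5 : Helper8.toSubgroupOf N T (θ : N → ℂ) b = c := mul_right_cancel₀ hm0 h4
    rw [h5, hc]
  -- determinant
  have hdet : ∀ b : N.subgroupOf T, ((detUnits σ (b : T) : ℂˣ) : ℂ) =
      (Helper8.toSubgroupOf N T (θ : N → ℂ) b) ^ m := by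
    intro b
    rw [detUnits_apply, hscal b, LinearMap.det_smul, LinearMap.det_id, mul_one,
      Module.finrank_fin_fun]
  -- the exponent
  rw [hmdeg] at hcop
  obtain ⟨f, -, hf⟩ := Nat.exists_mul_mod_eq_one_of_coprime hcop hN1
  have hpow : ∀ b : N.subgroupOf T,
      (Helper8.toSubgroupOf N T (θ : N → ℂ) b) ^ (Nat.card N) = 1 := by
    intro b
    change (θ : N → ℂ) ⟨((b : T) : G), _⟩ ^ (Nat.card N) = 1
    rw [← Helper5.linChar_pow hθc hθ1, pow_card_eq_one', hθ1]
  refine ⟨(detUnits σ) ^ f, ?_⟩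
  intro b
  rw [MonoidHom.pow_apply, Units.val_pow_eq_pow_val, hdet b, ← pow_mul]
  have hmf : m * f = Nat.card N * (m * f / Nat.card N) + 1 := by
    have := Nat.div_add_mod (m * f) (Nat.card N)
    rw [hf] at this
    exact this.symm
  rw [hmf, pow_succ, pow_mul, hpow b, one_pow, one_mul]

end StepB

end Cfsg.Agent.Helper5.DLS
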