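import Mathlib
import Cfsg.Prelude.Def_Characters
import Cfsg.Prelude.Def_Local
import Cfsg.Agent.Helper5.DLSylB
import Cfsg.Agent.Helper24.ColumnOrth
import Cfsg.Agent.Helper24.Restrict
import Cfsg.Agent.Helper21.PSolv
import Cfsg.Agent.Lead.PSolvHall

set_option autoImplicit false

/-!
Part C: the inertia group argument.  If `G` is `p`-solvable, `N` a nontrivial normal abelian
`p`-subgroup contained in the kernel of every irreducible character of degree divisible by `p`,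
then `P/N` is abelian for a Sylow `p`-subgroup `P`.
-/

namespace Cfsg.Agent.Helper5.DLS

open Cfsg Cfsg.Agent.Helper24 Cfsg.Agent.Helper23

universe u

section Core

variable {G : Type u} [Group G] [Fintype G] (p : ℕ) [hp : Fact p.Prime]
variable (N : Subgroup G) [hN : N.Normal]

theorem core (hNp : IsPGroup p N) (hNab : ∀ a ∈ N, ∀ b ∈ N, a * b = b * a) (hN1 : N ≠ ⊥)
    (hker : KerHyp p N) :
    ∃ T : Subgroup G, N ≤ T ∧ ¬ p ∣ T.index ∧ PPrimeDeg p (↥T ⧸ N.subgroupOf T) := by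
  classical
  haveI : Fintype N := Fintype.ofFinite N
  haveI : Fintype (IrrCharacter N) := Fintype.ofFinite _
  have hcomm : ∀ a b : N, a * b = b * a := fun a b => Subtype.ext (hNab a a.2 b b.2)
  -- a nontrivial linear character of `N`
  have hcardN : 1 < Nat.card N := by
    rw [Subgroup.one_lt_card_iff_ne_bot]
    exact hN1
  have hcardIrr : 1 < Nat.card (IrrCharacter N) := by
    rw [card_irr_eq_card_conjClasses, card_conjClasses_eq_card_of_comm hcomm]
    exact hcardN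
  haveI : Nontrivial (IrrCharacter N) := (Finite.one_lt_card_iff_nontrivial).mp hcardIrr
  obtain ⟨θ, hθ⟩ := exists_ne (trivIrr N)
  have hθ1 : (θ : N → ℂ) 1 = 1 := (comm_iff_forall_irr_one.mp hcomm) θ
  have hθnt : (θ : N → ℂ) ≠ fun _ => 1 := by
    intro h
    apply hθ
    exact Subtype.ext h
  have hθc : IsCharacter N (θ : N → ℂ) := IsIrrCharacter.isCharacter θ.2
  -- the inertia group
  set T := inertiaSubgroup N (θ : N → ℂ) with hTdef
  haveI : Fintype T := Fintype.ofFinite T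
  haveI : Fintype (IrrCharacter T) := Fintype.ofFinite _
  haveI : Fintype (N.subgroupOf T) := Fintype.ofFinite _
  have hT : ∀ g : G, g ∈ T ↔ ∀ h : N,
      (θ : N → ℂ) ⟨g * h * g⁻¹, hN.conj_mem h h.2 g⟩ = (θ : N → ℂ) h :=
    mem_inertiaSubgroup N _
  have hNT : N ≤ T := le_inertiaSubgroup N _ (IsCharacter.isClassFunction hθc)
  have hθ'irr : IsIrrCharacter (N.subgroupOf T) (Helper8.toSubgroupOf N T (θ : N → ℂ)) :=
    Helper8.isIrrCharacter_comp_surjective (Subgroup.subgroupOfEquivOfLe hNT).toMonoidHom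
      (Subgroup.subgroupOfEquivOfLe hNT).surjective θ.2
  set θ' := Helper8.toSubgroupOf N T (θ : N → ℂ) with hθ'
  set Φ := indFun (N.subgroupOf T) θ' with hΦ
  have hΦc : IsCharacter T Φ := isCharacter_indFun _ (IsIrrCharacter.isCharacter hθ'irr)
  have hΦ0 : Φ ≠ 0 := by
    intro h
    have h1 : Φ 1 = 0 := by rw [h]; rfl
    rw [hΦ, Cfsg.Agent.Helper5.indFun_apply_one] at h1
    have h2 : θ' 1 = 1 := hθ1
    rw [h2, mul_one] at h1
    have : ((N.subgroupOf T).index : ℂ) ≠ 0 :=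
      Nat.cast_ne_zero.mpr Subgroup.index_ne_zero_of_finite
    exact this h1
  obtain ⟨ξ₀, hξ₀⟩ := IsCharacter.exists_irr_constituent hΦc hΦ0
  have hnd := not_dvd_of_over p N T θ hker hθnt hT hNT ξ₀ hξ₀
  have hndT : ¬ p ∣ T.index := fun h => hnd (Dvd.dvd.mul_right h _)
  have hndξ : ¬ p ∣ irrDeg ξ₀ := fun h => hnd (Dvd.dvd.mul_left h _)
  obtain ⟨k, hk⟩ := hNp.exists_card_eq
  have hcop : (irrDeg ξ₀).Coprime (Nat.card N) := by
    rw [hk]
    apply Nat.Coprime.pow_right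
    exact ((Nat.Prime.coprime_iff_not_dvd hp.out).mpr hndξ).symm
  obtain ⟨μ, hμ⟩ := exists_extension N T θ hθ1 hT hNT hcardN ξ₀ hξ₀ hcop
  refine ⟨T, hNT, hndT, ?_⟩
  -- Gallagher
  intro β
  set χh : IrrCharacter T :=
    ⟨fun t => ((μ t : ℂˣ) : ℂ), isIrrCharacter_of_monoidHom ((Units.coeHom ℂ).comp μ)⟩ with hχh
  have hχhN : IsIrrCharacter (N.subgroupOf T)
      (fun n : N.subgroupOf T => (χh : T → ℂ) n) := by
    have : (fun n : N.subgroupOf T => (χh : T → ℂ) n) = θ' := by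
      funext n
      exact hμ n
    rw [this]
    exact hθ'irr
  have htw := isIrrCharacter_gallagherTwist (N.subgroupOf T) χh hχhN β
  set ξ : IrrCharacter T := ⟨gallagherTwist (N.subgroupOf T) χh β, htw⟩ with hξdef
  have hξN : (fun n : N.subgroupOf T => (ξ : T → ℂ) n) =
      ((β : ↥T ⧸ N.subgroupOf T → ℂ) 1) • θ' := by
    funext n
    change (β : ↥T ⧸ N.subgroupOf T → ℂ) ((n : T) : ↥T ⧸ N.subgroupOf T) *
      ((μ (n : T) : ℂˣ) : ℂ) = _
    have h1 : (((n : T) : ↥T ⧸ N.subgroupOf T)) = 1 :=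
      (QuotientGroup.eq_one_iff _).mpr n.2
    rw [h1, hμ n]
    rfl
  have hξ : classInner Φ (ξ : T → ℂ) ≠ 0 := by
    rw [hΦ, Helper8.frobenius_reciprocity (N.subgroupOf T) _ (ξ : T → ℂ)
      (IsCharacter.isClassFunction (IsIrrCharacter.isCharacter ξ.2)), hξN,
      classInner_smul_right, classInner_of_isIrrCharacter hθ'irr hθ'irr, if_pos rfl, mul_one]
    exact (map_ne_zero _).mpr (irr_one_ne_zero β)
  have hnd2 := not_dvd_of_over p N T θ hker hθnt hT hNT ξ hξ
  have hdeg : irrDeg ξ = irrDeg β := by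
    apply irrDeg_eq_of_one_eq
    change (β : ↥T ⧸ N.subgroupOf T → ℂ) (((1 : T)) : ↥T ⧸ N.subgroupOf T) *
      ((μ (1 : T) : ℂˣ) : ℂ) = _
    rw [map_one, Units.val_one, mul_one]
    rfl
  rw [hdeg] at hnd2
  exact fun h => hnd2 (Dvd.dvd.mul_left h _)

end Core

section Comm

variable {G : Type u} [Group G] [Finite G] (p : ℕ) [hp : Fact p.Prime]
variable (N : Subgroup G) [hN : N.Normal]

theorem commutator_mem (hsolv : IsPSolvable p G) (hNp : IsPGroup p N)
    (hNab : ∀ a ∈ N, ∀ b ∈ N, a * b = b * a) (hN1 : N ≠ ⊥) (hker : KerHyp p N)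
    (P : Sylow p G) : ∀ a ∈ P, ∀ b ∈ P, a * b * a⁻¹ * b⁻¹ ∈ N := by
  classical
  haveI : Fintype G := Fintype.ofFinite G
  obtain ⟨T, hNT, hndT, hdeg⟩ := core p N hNp hNab hN1 hker
  have hsolvT : IsPSolvable p ↥T := Cfsg.Agent.Helper21.PSolv.isPSolvable_subgroup hp.out hsolv T
  have hsolvQ : IsPSolvable p (↥T ⧸ N.subgroupOf T) :=
    Cfsg.Agent.Lead.isPSolvable_quotient hsolvT _
  have hab := normal_abelian_sylow_aux p _ (↥T ⧸ N.subgroupOf T) rfl hsolvQ hdeg
  -- a Sylow subgroup of `T`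
  obtain ⟨Q₀⟩ : Nonempty (Sylow p ↥T) := inferInstance
  have hQ₀comm : ∀ s ∈ Q₀, ∀ t ∈ Q₀, ((s * t * s⁻¹ * t⁻¹ : ↥T) : G) ∈ N := by
    intro s hs t ht
    have hpg : IsPGroup p ((Q₀ : Subgroup ↥T).map (QuotientGroup.mk' (N.subgroupOf T))) :=
      Q₀.2.map _
    obtain ⟨P', hP'⟩ := hpg.exists_le_sylow
    have hs' : QuotientGroup.mk' (N.subgroupOf T) s ∈ P' :=
      hP' (Subgroup.mem_map_of_mem _ hs)
    have ht' : QuotientGroup.mk' (N.subgroupOf T) t ∈ P' :=
      hP' (Subgroup.mem_map_of_mem _ ht)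
    have hc := (hab P').2 _ hs' _ ht'
    have h1 : QuotientGroup.mk' (N.subgroupOf T) (s * t * s⁻¹ * t⁻¹) = 1 := by
      rw [map_mul, map_mul, map_mul, map_inv, map_inv, hc]
      group
    have h2 : s * t * s⁻¹ * t⁻¹ ∈ N.subgroupOf T := by
      rwa [QuotientGroup.mk'_apply, QuotientGroup.eq_one_iff] at h1
    exact Subgroup.mem_subgroupOf.mp h2
  -- its image is Sylow in `G`
  have hcardQ : Nat.card ((Q₀ : Subgroup ↥T).map T.subtype) =
      p ^ (Nat.card G).factorization p := by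
    rw [Subgroup.card_map_of_injective T.subtype_injective, Sylow.card_eq_multiplicity]
    congr 1
    have h1 : Nat.card G = Nat.card T * T.index := (Subgroup.card_mul_index T).symm
    rw [h1, Nat.factorization_mul Nat.card_pos.ne' Subgroup.index_ne_zero_of_finite]
    simp only [Finsupp.coe_add, Pi.add_apply]
    rw [Nat.factorization_eq_zero_of_not_dvd hndT, add_zero]
  set Q : Sylow p G := Sylow.ofCard _ hcardQ with hQ
  obtain ⟨g, hg⟩ := MulAction.exists_smul_eq G Q P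
  have hmem : ∀ a ∈ P, ∃ s : ↥T, s ∈ Q₀ ∧ g * (s : G) * g⁻¹ = a := by
    intro a ha
    rw [← hg, ← SetLike.mem_coe, ← Sylow.coe_coe, Sylow.coe_subgroup_smul, SetLike.mem_coe,
      Subgroup.mem_smul_pointwise_iff_exists] at ha
    obtain ⟨x, hx, rfl⟩ := ha
    rw [hQ, Sylow.coe_ofCard] at hx
    obtain ⟨s, hs, rfl⟩ := hx
    exact ⟨s, hs, rfl⟩
  intro a ha b hb
  obtain ⟨s, hs, rfl⟩ := hmem a ha
  obtain ⟨t, ht, rfl⟩ := hmem b hb
  have := hN.conj_mem _ (hQ₀comm s hs t ht) g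
  convert this using 1
  simp only [Subgroup.coe_mul, Subgroup.coe_inv]
  group

end Comm

end Cfsg.Agent.Helper5.DLS
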