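import Mathlib
import Cfsg.Prelude.Def_Characters
import Cfsg.Prelude.Def_Blocks
import Cfsg.Prelude.Def_Local
import Cfsg.Agent.Helper5.DLSylC
import Cfsg.Agent.Helper24.GagolaCentral

set_option autoImplicit false

/-!
Part D: counting characters of degree divisible by `p` in quotients, transfer of derived series
bounds, and the main induction:  for `p`-solvable `G` and `P ∈ Syl_p(G)`,
`dl(P) ≤ 1 + #{χ ∈ Irr(G) : p ∣ χ(1)}`.
-/

namespace Cfsg.Agent.Helper5.DLS

open Cfsg Cfsg.Agent.Helper24 Cfsg.Agent.Helper23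

universe u

/-- the number of irreducible characters of degree divisible by `p`. -/
noncomputable def mcount (p : ℕ) (G : Type u) [Group G] : ℕ :=
  Nat.card {χ : IrrCharacter G // p ∣ charDegree (χ : G → ℂ)}

section Count

variable {G : Type u} [Group G] [Finite G] (p : ℕ) (N : Subgroup G) [hN : N.Normal]

/-- inflation on the subtypes of characters of degree divisible by `p`. -/
noncomputable def inflSub :
    {ψ : IrrCharacter (G ⧸ N) // p ∣ charDegree (ψ : G ⧸ N → ℂ)} →
      {χ : IrrCharacter G // p ∣ charDegree (χ : G → ℂ)} := by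
  classical
  haveI : Fintype G := Fintype.ofFinite G
  exact fun ψ => ⟨irrInflate N ψ.1, by
    have h := ψ.2
    have : charDegree ((irrInflate N ψ.1 : IrrCharacter G) : G → ℂ) =
        charDegree (ψ.1 : G ⧸ N → ℂ) := by
      unfold charDegree
      rfl
    rw [this]
    exact h⟩

theorem inflSub_injective : Function.Injective (inflSub p N) := by
  classical
  intro ψ₁ ψ₂ h
  apply Subtype.ext
  have h1 := congrArg Subtype.val h
  unfold inflSub at h1
  exact irrInflate_injective N h1

theorem mcount_quotient_le : mcount p (G ⧸ N) ≤ mcount p G :=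
  Nat.card_le_card_of_injective _ (inflSub_injective p N)

theorem mcount_quotient_lt (χ : IrrCharacter G) (hχ : p ∣ charDegree (χ : G → ℂ))
    (hn : ∃ n ∈ N, (χ : G → ℂ) n ≠ (χ : G → ℂ) 1) : mcount p (G ⧸ N) < mcount p G := by
  classical
  haveI : Fintype {ψ : IrrCharacter (G ⧸ N) // p ∣ charDegree (ψ : G ⧸ N → ℂ)} :=
    Fintype.ofFinite _
  haveI : Fintype {χ : IrrCharacter G // p ∣ charDegree (χ : G → ℂ)} := Fintype.ofFinite _
  unfold mcount
  rw [Nat.card_eq_fintype_card, Nat.card_eq_fintype_card]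
  apply Fintype.card_lt_of_injective_not_surjective _ (inflSub_injective p N)
  intro hsurj
  obtain ⟨ψ, hψ⟩ := hsurj ⟨χ, hχ⟩
  obtain ⟨n, hnN, hne⟩ := hn
  apply hne
  have h1 := congrArg (fun x => (x.1 : G → ℂ)) hψ
  simp only at h1
  rw [← h1]
  unfold inflSub
  change (ψ.1 : G ⧸ N → ℂ) (QuotientGroup.mk n) = (ψ.1 : G ⧸ N → ℂ) (QuotientGroup.mk 1)
  have h2 : (QuotientGroup.mk n : G ⧸ N) = QuotientGroup.mk 1 := by
    rw [QuotientGroup.mk_one, QuotientGroup.eq_one_iff]
    exact hnN
  rw [h2]

end Count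

section Transfer

variable {G : Type u} [Group G] {K : Type*} [Group K] (f : G →* K)

theorem derived_mem_ker (H : Subgroup G) (k : ℕ) (h : derivedSeries ↥(H.map f) k = ⊥)
    (x : ↥H) (hx : x ∈ derivedSeries ↥H k) : f (x : G) = 1 := by
  have hsurj : Function.Surjective (f.subgroupMap H) := f.subgroupMap_surjective H
  have h1 := map_derivedSeries_eq (f := f.subgroupMap H) hsurj k
  rw [h] at h1
  have h2 : f.subgroupMap H x ∈ (derivedSeries ↥H k).map (f.subgroupMap H) :=
    Subgroup.mem_map_of_mem _ hx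
  rw [h1, Subgroup.mem_bot] at h2
  have h3 := congrArg Subtype.val h2
  exact h3

theorem derived_eq_bot_of_eq {K' : Type*} [Group K'] (H₁ H₂ : Subgroup K') (h : H₁ = H₂) (k : ℕ)
    (h1 : derivedSeries ↥H₁ k = ⊥) : derivedSeries ↥H₂ k = ⊥ := by
  subst h
  exact h1

/-- if the kernel meets `H` trivially -/
theorem derived_eq_bot_of_inj (H : Subgroup G) (k : ℕ) (h : derivedSeries ↥(H.map f) k = ⊥)
    (hinj : ∀ x ∈ H, f x = 1 → x = 1) : derivedSeries ↥H k = ⊥ := by
  rw [Subgroup.eq_bot_iff_forall]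
  intro x hx
  apply Subtype.ext
  exact hinj x x.2 (derived_mem_ker f H k h x hx)

/-- if the kernel is abelian -/
theorem derived_succ_eq_bot (H : Subgroup G) (k : ℕ) (h : derivedSeries ↥(H.map f) k = ⊥)
    (hab : ∀ x y : G, f x = 1 → f y = 1 → x * y = y * x) : derivedSeries ↥H (k + 1) = ⊥ := by
  rw [derivedSeries_succ, Subgroup.commutator_eq_bot_iff_le_centralizer]
  intro x hx
  rw [Subgroup.mem_centralizer_iff]
  intro y hy
  apply Subtype.ext
  have h1 := derived_mem_ker f H k h x hx
  have h2 := derived_mem_ker f H k h y hy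
  have := hab y x h2 h1
  simpa using this

end Transfer

end Cfsg.Agent.Helper5.DLS
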