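import Mathlib
import Cfsg.Prelude.Def_Characters
import Cfsg.Prelude.Def_Blocks
import Cfsg.Prelude.Def_Local
import Cfsg.Agent.Helper5.DLSylD

set_option autoImplicit false

/-!
Part E: the main induction: for `p`-solvable `G` and `P ∈ Syl_p(G)`,
`dl(P) ≤ 1 + #{χ ∈ Irr(G) : p ∣ χ(1)}`.
-/

namespace Cfsg.Agent.Helper5.DLS

open Cfsg Cfsg.Agent.Helper24 Cfsg.Agent.Helper23

universe u

theorem derived_one_eq_bot_of_comm {H : Type*} [Group H] (h : ∀ a b : H, a * b = b * a) :
    derivedSeries H 1 = ⊥ := by
  rw [derivedSeries_succ, derivedSeries_zero, Subgroup.commutator_eq_bot_iff_le_centralizer]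
  intro x _
  rw [Subgroup.mem_centralizer_iff]
  intro y _
  exact h y x

theorem main (p : ℕ) [hp : Fact p.Prime] : ∀ n : ℕ, ∀ (G : Type u) [Group G] [Finite G],
    Nat.card G = n → IsPSolvable p G → ∀ P : Sylow p G,
    derivedSeries ↥(P : Subgroup G) (mcount p G + 1) = ⊥ := by
  intro n
  induction n using Nat.strong_induction_on with
  | _ n ih =>
    intro G _ _ hcard hsolv P
    classical
    rcases subsingleton_or_nontrivial G with hsub | hnt
    · exact Subsingleton.elim _ _
    obtain ⟨N, hNn, hN1, hNcase⟩ := Cfsg.Agent.Lead.exists_normal_of_isPSolvable hsolv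
    haveI := hNn
    have hquot : ∀ (M : Subgroup G) [M.Normal], M ≠ ⊥ → ∀ Pb : Sylow p (G ⧸ M),
        derivedSeries ↥(Pb : Subgroup (G ⧸ M)) (mcount p (G ⧸ M) + 1) = ⊥ := by
      intro M _ hM Pb
      have hlt : Nat.card (G ⧸ M) < n := by
        rw [← hcard, Subgroup.card_eq_card_quotient_mul_card_subgroup M]
        have h1 : 1 < Nat.card M := (Subgroup.one_lt_card_iff_ne_bot M).mpr hM
        have hpos : 0 < Nat.card (G ⧸ M) := Nat.card_pos
        nlinarith
      exact ih _ hlt (G ⧸ M) rfl (Cfsg.Agent.Lead.isPSolvable_quotient hsolv M) Pb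
    have himg : ∀ (M : Subgroup G) [M.Normal] (k : ℕ), mcount p (G ⧸ M) + 1 ≤ k → M ≠ ⊥ →
        derivedSeries ↥((P : Subgroup G).map (QuotientGroup.mk' M)) k = ⊥ := by
      intro M _ k hk hM
      have h1 := hquot M hM (P.mapSurjective (QuotientGroup.mk'_surjective M))
      have h2 := derived_eq_bot_of_eq _ _ (Sylow.coe_mapSurjective _ P) _ h1
      exact le_bot_iff.mp ((derivedSeries_antitone _ hk).trans h2.le)
    rcases hNcase with ⟨m, hm⟩ | hcop
    · -- `N` is a `p`-group: pass to `A = Z(N)`
      set A : Subgroup G := N ⊓ Subgroup.centralizer (N : Set G) with hA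
      haveI : A.Normal := inferInstance
      have hNp : IsPGroup p N := IsPGroup.of_card hm
      have hAp : IsPGroup p A := hNp.to_le inf_le_left
      have hAab : ∀ a ∈ A, ∀ b ∈ A, a * b = b * a := by
        intro a ha b hb
        exact (Subgroup.mem_centralizer_iff.mp hb.2 a ha.1)
      have hA1 : A ≠ ⊥ := by
        haveI : Nontrivial N := (Subgroup.nontrivial_iff_ne_bot N).mpr hN1
        haveI := hNp.center_nontrivial
        obtain ⟨z, hz⟩ := exists_ne (1 : Subgroup.center N)
        intro h
        have hzA : ((z : N) : G) ∈ A := by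
          refine Subgroup.mem_inf.mpr ⟨(z : N).2, ?_⟩
          rw [Subgroup.mem_centralizer_iff]
          intro y hy
          have := Subgroup.mem_center_iff.mp z.2 ⟨y, hy⟩
          exact congrArg Subtype.val this
        rw [h, Subgroup.mem_bot] at hzA
        apply hz
        apply Subtype.ext
        apply Subtype.ext
        exact hzA
      by_cases hker : KerHyp p A
      · -- all characters of degree divisible by `p` contain `A` in the kernel
        have hcomm := commutator_mem p A hsolv hAp hAab hA1 hker P
        have hD1 : ∀ x ∈ derivedSeries ↥(P : Subgroup G) 1, ((x : ↥(P : Subgroup G)) : G) ∈ A := by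
          have hle : derivedSeries ↥(P : Subgroup G) 1 ≤ A.subgroupOf (P : Subgroup G) := by
            rw [derivedSeries_succ, derivedSeries_zero, Subgroup.commutator_le]
            intro a _ b _
            rw [Subgroup.mem_subgroupOf, commutatorElement_def]
            simp only [Subgroup.coe_mul, Subgroup.coe_inv]
            exact hcomm a a.2 b b.2
          intro x hx
          exact Subgroup.mem_subgroupOf.mp (hle hx)
        have h2 : derivedSeries ↥(P : Subgroup G) 2 = ⊥ := by
          rw [derivedSeries_succ, Subgroup.commutator_eq_bot_iff_le_centralizer]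
          intro x hx
          rw [Subgroup.mem_centralizer_iff]
          intro y hy
          apply Subtype.ext
          simp only [Subgroup.coe_mul]
          exact hAab _ (hD1 y hy) _ (hD1 x hx)
        by_cases hm0 : mcount p G = 0
        · have hdeg : PPrimeDeg p G := by
            intro χ hχ
            unfold mcount at hm0
            rcases Nat.card_eq_zero.mp hm0 with h | h
            · exact h.false ⟨χ, by rw [charDegree_eq_irrDeg]; exact hχ⟩
            · exact h.false
          have hab := (normal_abelian_sylow_aux p _ G rfl hsolv hdeg P).2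
          rw [hm0]
          apply derived_one_eq_bot_of_comm
          intro a b
          apply Subtype.ext
          exact hab a a.2 b b.2
        · have hk : 2 ≤ mcount p G + 1 := by omega
          exact le_bot_iff.mp ((derivedSeries_antitone _ hk).trans h2.le)
      · -- some character of degree divisible by `p` does not contain `A` in its kernel
        unfold KerHyp at hker
        push Not at hker
        obtain ⟨χ, hχ, a, haA, hne⟩ := hker
        have hlt := mcount_quotient_lt p A χ (by rw [charDegree_eq_irrDeg]; exact hχ)
          ⟨a, haA, hne⟩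
        have h1 := himg A (mcount p G) (by omega) hA1
        exact derived_succ_eq_bot (QuotientGroup.mk' A) (P : Subgroup G) _ h1
          (fun x y hx hy => hAab x ((QuotientGroup.eq_one_iff x).mp hx) y
            ((QuotientGroup.eq_one_iff y).mp hy))
    · -- `N` is a `p'`-group
      apply derived_eq_bot_of_inj (QuotientGroup.mk' N) (P : Subgroup G) _
        (himg N _ (Nat.succ_le_succ (mcount_quotient_le p N)) hN1)
      intro x hxP hx1
      have hxN : x ∈ N := (QuotientGroup.eq_one_iff x).mp hx1
      obtain ⟨k, hk⟩ := P.2 ⟨x, hxP⟩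
      have hk' : x ^ p ^ k = 1 := by
        have := congrArg Subtype.val hk
        simpa using this
      have hd1 : orderOf x ∣ p ^ k := orderOf_dvd_of_pow_eq_one hk'
      have hd2 : orderOf x ∣ Nat.card N := Subgroup.orderOf_dvd_natCard N hxN
      have hc : (orderOf x).Coprime (p ^ k) :=
        (Nat.Coprime.coprime_dvd_left hd2 hcop).pow_right k
      have := Nat.Coprime.eq_one_of_dvd hc hd1
      exact orderOf_eq_one_iff.mp this

end Cfsg.Agent.Helper5.DLS
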