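import Mathlib
import Cfsg.Agent.Helper24.Eigen

/-!
Determinant of an endomorphism of finite order all of whose nontrivial powers have trace zero.
-/

set_option autoImplicit false

namespace Cfsg.Agent.Helper5.DetRoots

open Module DirectSum Cfsg.Agent.Helper24

universe v

variable {V : Type v} [AddCommGroup V] [Module ℂ V] [FiniteDimensional ℂ V]

/-- If `V` is the sum of the eigenspaces of `f` and `h` acts on the `μ`-eigenspace of `f` as the
scalar `φ μ`, then the determinant of `h` is `∏ φ μ ^ dim (eigenspace f μ)`. -/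
theorem det_eq_prod_of_eigen (f h : Module.End ℂ V) (hf : ⨆ μ, f.eigenspace μ = ⊤) (φ : ℂ → ℂ)
    (hh : ∀ μ, ∀ v ∈ f.eigenspace μ, h v = φ μ • v) :
    LinearMap.det h =
      ∏ μ ∈ eigenFinset f, φ μ ^ (Module.finrank ℂ (f.eigenspace μ)) := by
  classical
  have hint : DirectSum.IsInternal f.eigenspace :=
    DirectSum.isInternal_submodule_of_iSupIndep_of_iSup_eq_top f.eigenspaces_iSupIndep hf
  have hN : {μ | f.eigenspace μ ≠ ⊥}.Finite :=
    WellFoundedGT.finite_ne_bot_of_iSupIndep f.eigenspaces_iSupIndep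
  let _ : Fintype {μ // f.eigenspace μ ≠ ⊥} := hN.fintype
  let _ : Fintype {μ | f.eigenspace μ ≠ ⊥} := hN.fintype
  have hint' : DirectSum.IsInternal (fun μ : {μ // f.eigenspace μ ≠ ⊥} => f.eigenspace μ.1) :=
    isInternal_ne_bot_iff.mpr hint
  let b : (μ : {μ // f.eigenspace μ ≠ ⊥}) → Basis _ ℂ (f.eigenspace μ.1) :=
    fun μ => Module.Free.chooseBasis ℂ (f.eigenspace μ.1)
  set B := hint'.collectedBasis b with hB
  have hBj : ∀ j, h (B j) = φ j.1.1 • B j := by
    intro j
    apply hh
    rw [hB, IsInternal.collectedBasis_coe]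
    exact (b j.1 j.2).2
  have hmat : LinearMap.toMatrix B B h = Matrix.diagonal (fun j => φ j.1.1) := by
    ext i j
    rw [LinearMap.toMatrix_apply, hBj, map_smul, Basis.repr_self, Finsupp.smul_apply,
      Finsupp.single_apply, Matrix.diagonal_apply]
    by_cases hij : i = j
    · subst hij; simp
    · rw [if_neg (fun hh => hij hh.symm), if_neg hij, smul_zero]
  rw [← LinearMap.det_toMatrix B, hmat, Matrix.det_diagonal, Fintype.prod_sigma]
  have h1 : ∀ μ : {μ // f.eigenspace μ ≠ ⊥},
      (∏ _k : Module.Free.ChooseBasisIndex ℂ (f.eigenspace μ.1), φ μ.1)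
        = φ μ.1 ^ (Module.finrank ℂ (f.eigenspace μ.1)) := by
    intro μ
    rw [Finset.prod_const, Finset.card_univ, Module.finrank_eq_card_chooseBasisIndex]
  simp_rw [h1]
  unfold eigenFinset
  rw [← Finset.prod_coe_sort hN.toFinset (fun μ => φ μ ^ (Module.finrank ℂ (f.eigenspace μ)))]
  exact Fintype.prod_equiv hN.subtypeEquivToFinset _ _ (fun i ↦ rfl)

/-- the product of all complex `n`-th roots of unity, `n` even -/
theorem prod_nthRootsFinset_of_even {n : ℕ} (hn : 0 < n) (hev : Even n) :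
    ∏ μ ∈ Polynomial.nthRootsFinset n (1 : ℂ), μ = -1 := by
  have hprim := Complex.isPrimitiveRoot_exp n hn.ne'
  have h1 := Polynomial.X_pow_sub_one_eq_prod hn hprim
  have h2 := congrArg (Polynomial.eval 0) h1
  rw [Polynomial.eval_sub, Polynomial.eval_pow, Polynomial.eval_X, Polynomial.eval_one,
    zero_pow hn.ne', zero_sub, Polynomial.eval_prod] at h2
  simp only [Polynomial.eval_sub, Polynomial.eval_X, Polynomial.eval_C, zero_sub] at h2
  rw [Finset.prod_neg, hprim.card_nthRootsFinset, hev.neg_one_pow, one_mul] at h2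
  exact h2.symm

/-- geometric sums of roots of unity -/
theorem geom_sum_root {n : ℕ} {x : ℂ} (hx : x ^ n = 1) (hx1 : x ≠ 1) :
    ∑ i ∈ Finset.range n, x ^ i = 0 := by
  rw [geom_sum_eq hx1, hx, sub_self, zero_div]

/-- an endomorphism of order dividing `n` all of whose proper powers have trace zero has
all `n`-th roots of unity as eigenvalues, with equal multiplicity -/
theorem finrank_eigenspace_of_trace_zero (f : Module.End ℂ V) (n m : ℕ) (hn : 0 < n)
    (hfn : f ^ n = 1)
    (htr : ∀ i, 0 < i → i < n → LinearMap.trace ℂ V (f ^ i) = 0)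
    (hdim : Module.finrank ℂ V = m * n) {ν : ℂ} (hν : ν ^ n = 1) :
    Module.finrank ℂ (f.eigenspace ν) = m := by
  classical
  have hf := iSup_eigenspace_eq_top_of_pow_eq_one f hn hfn
  set S := Polynomial.nthRootsFinset n (1 : ℂ) with hS
  have hsub : eigenFinset f ⊆ S := by
    intro μ hμ
    rw [hS, Polynomial.mem_nthRootsFinset hn]
    exact eigenvalue_pow_eq_one f hfn (mem_eigenFinset.mp hμ)
  have hT : ∀ i : ℕ, LinearMap.trace ℂ V (f ^ i)
      = ∑ μ ∈ S, μ ^ i * (Module.finrank ℂ (f.eigenspace μ) : ℂ) := by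
    intro i
    rw [trace_eq_sum_of_eigen f (f ^ i) hf (fun μ => μ ^ i)]
    · refine Finset.sum_subset hsub ?_
      intro μ _ hμ
      have : f.eigenspace μ = ⊥ := by
        by_contra hne
        exact hμ (mem_eigenFinset.mpr hne)
      rw [this, finrank_bot, Nat.cast_zero, mul_zero]
    · intro μ v hv
      rw [Module.End.mem_eigenspace_iff] at hv
      induction i with
      | zero => simp
      | succ k ih =>
        rw [pow_succ, Module.End.mul_apply, hv, map_smul, ih, smul_smul, pow_succ, mul_comm]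
  have hν0 : ν ≠ 0 := by
    intro h0
    rw [h0, zero_pow hn.ne'] at hν
    exact zero_ne_one hν
  -- Fourier inversion
  have h1 : ∑ i ∈ Finset.range n, (ν⁻¹) ^ i * LinearMap.trace ℂ V (f ^ i)
      = (n : ℂ) * (Module.finrank ℂ (f.eigenspace ν) : ℂ) := by
    simp_rw [hT, Finset.mul_sum]
    rw [Finset.sum_comm]
    have h2 : ∀ μ ∈ S, ∑ i ∈ Finset.range n,
        (ν⁻¹) ^ i * (μ ^ i * (Module.finrank ℂ (f.eigenspace μ) : ℂ))
        = if μ = ν then (n : ℂ) * (Module.finrank ℂ (f.eigenspace ν) : ℂ) else 0 := by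
      intro μ hμ
      have hμn : μ ^ n = 1 := (Polynomial.mem_nthRootsFinset hn 1).mp hμ
      have h3 : ∀ i : ℕ, (ν⁻¹) ^ i * (μ ^ i * (Module.finrank ℂ (f.eigenspace μ) : ℂ))
          = (ν⁻¹ * μ) ^ i * (Module.finrank ℂ (f.eigenspace μ) : ℂ) := by
        intro i; rw [mul_pow]; ring
      simp_rw [h3]
      rw [← Finset.sum_mul]
      by_cases hμν : μ = ν
      · rw [if_pos hμν, hμν, inv_mul_cancel₀ hν0]
        simp
      · rw [if_neg hμν]
        have h4 : (ν⁻¹ * μ) ^ n = 1 := by rw [mul_pow, inv_pow, hν, hμn]; simp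
        have h5 : ν⁻¹ * μ ≠ 1 := by
          intro hh
          apply hμν
          have := congrArg (fun t => ν * t) hh
          simpa [← mul_assoc, mul_inv_cancel₀ hν0] using this
        rw [geom_sum_root h4 h5, zero_mul]
    rw [Finset.sum_congr rfl h2, Finset.sum_ite_eq' S ν,
      if_pos ((Polynomial.mem_nthRootsFinset hn 1).mpr hν)]
  have h6 : ∑ i ∈ Finset.range n, (ν⁻¹) ^ i * LinearMap.trace ℂ V (f ^ i)
      = (Module.finrank ℂ V : ℂ) := by
    rw [Finset.sum_eq_single 0]
    · simp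
    · intro i hi hi0
      rw [htr i (Nat.pos_of_ne_zero hi0) (Finset.mem_range.mp hi), mul_zero]
    · intro h0
      exact absurd (Finset.mem_range.mpr hn) h0
  rw [h6, hdim] at h1
  have hn0 : (n : ℂ) ≠ 0 := by exact_mod_cast hn.ne'
  have h7 : (n : ℂ) * (m : ℂ) = (n : ℂ) * (Module.finrank ℂ (f.eigenspace ν) : ℂ) := by
    rw [← h1]; push_cast; ring
  have h8 := mul_left_cancel₀ hn0 h7
  exact_mod_cast h8.symm

/-- the determinant of such an endomorphism -/
theorem det_of_trace_zero (f : Module.End ℂ V) (n m : ℕ) (hn : 0 < n) (hev : Even n)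
    (hfn : f ^ n = 1)
    (htr : ∀ i, 0 < i → i < n → LinearMap.trace ℂ V (f ^ i) = 0)
    (hdim : Module.finrank ℂ V = m * n) :
    LinearMap.det f = (-1) ^ m := by
  classical
  have hf := iSup_eigenspace_eq_top_of_pow_eq_one f hn hfn
  set S := Polynomial.nthRootsFinset n (1 : ℂ) with hS
  have hsub : eigenFinset f ⊆ S := by
    intro μ hμ
    rw [hS, Polynomial.mem_nthRootsFinset hn]
    exact eigenvalue_pow_eq_one f hfn (mem_eigenFinset.mp hμ)
  rw [det_eq_prod_of_eigen f f hf (fun μ => μ)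
    (fun μ v hv => Module.End.mem_eigenspace_iff.mp hv)]
  have h1 : ∏ μ ∈ eigenFinset f, μ ^ (Module.finrank ℂ (f.eigenspace μ))
      = ∏ μ ∈ S, μ ^ (Module.finrank ℂ (f.eigenspace μ)) := by
    refine Finset.prod_subset hsub ?_
    intro μ _ hμ
    have : f.eigenspace μ = ⊥ := by
      by_contra hne
      exact hμ (mem_eigenFinset.mpr hne)
    rw [this, finrank_bot, pow_zero]
  rw [h1]
  have h2 : ∀ μ ∈ S, μ ^ (Module.finrank ℂ (f.eigenspace μ)) = μ ^ m := by
    intro μ hμ
    rw [finrank_eigenspace_of_trace_zero f n m hn hfn htr hdim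
      ((Polynomial.mem_nthRootsFinset hn 1).mp hμ)]
  rw [Finset.prod_congr rfl h2, Finset.prod_pow, prod_nthRootsFinset_of_even hn hev]

end Cfsg.Agent.Helper5.DetRoots
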