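import Mathlib
import Cfsg.Agent.Lead.TNC4

/-!
# Feit–Thompson–Blichfeldt: the group-theoretic part

A finite group `G` with abelian, non-normal Sylow `p`-subgroups all of whose proper subgroups have
normal Sylow `p`-subgroups.
-/

set_option autoImplicit false
set_option linter.style.haveILetI false

namespace Cfsg.Agent.Helper5.FTB

open Subgroup

/-- all Sylow `p`-subgroups are normal -/
def NS (p : ℕ) (X : Type*) [Group X] : Prop := ∀ Q : Sylow p X, (Q : Subgroup X).Normal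

theorem NS.of_mulEquiv {p : ℕ} {X Y : Type*} [Group X] [Group Y] (e : X ≃* Y) (h : NS p X) :
    NS p Y := by
  intro Q
  have hle : (Q : Subgroup Y) ≤ e.toMonoidHom.range := by
    rw [MonoidHom.range_eq_top.2 e.surjective]; exact le_top
  have h1 : ((Q : Subgroup Y).comap e.toMonoidHom).Normal :=
    h (Q.comapOfInjective e.toMonoidHom e.injective hle)
  have h2 := h1.map e.toMonoidHom e.surjective
  rwa [Subgroup.map_comap_eq_self_of_surjective e.surjective] at h2

variable {G : Type*} [Group G] [Finite G] {p : ℕ} [hp : Fact p.Prime]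

/-- a Sylow subgroup of `G` inside a normal subgroup with normal Sylow subgroups is normal -/
theorem normal_of_le_normal (P : Sylow p G) (M : Subgroup G) [hM : M.Normal]
    (hPM : (P : Subgroup G) ≤ M) (hNS : NS p ↥M) : (P : Subgroup G).Normal := by
  have h1 : ((P.subtype hPM : Sylow p ↥M) : Subgroup ↥M).Normal := hNS _
  haveI : ((P.subtype hPM : Sylow p ↥M) : Subgroup ↥M).Characteristic :=
    Sylow.characteristic_of_normal _ h1
  have h2 : (((P.subtype hPM : Sylow p ↥M) : Subgroup ↥M).map M.subtype).Normal := inferInstance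
  rw [Sylow.coe_subtype, Subgroup.map_subgroupOf_eq_of_le hPM] at h2
  exact h2

theorem eq_top_of_normal_of_le (P : Sylow p G) (hnn : ¬ (P : Subgroup G).Normal)
    (hmin : ∀ K : Subgroup G, K ≠ ⊤ → NS p ↥K) (M : Subgroup G) (hM : M.Normal)
    (hPM : (P : Subgroup G) ≤ M) : M = ⊤ := by
  by_contra h
  exact hnn (normal_of_le_normal P M hPM (hmin M h))

/-- two Sylow subgroups inside a subgroup with normal Sylow subgroups coincide -/
theorem eq_of_le_of_NS (P₁ P₂ : Sylow p G) (C : Subgroup G) (h1 : (P₁ : Subgroup G) ≤ C)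
    (h2 : (P₂ : Subgroup G) ≤ C) (hNS : NS p ↥C) : P₁ = P₂ := by
  have n1 := hNS (P₁.subtype h1)
  haveI := Sylow.unique_of_normal _ n1
  have h3 : P₁.subtype h1 = P₂.subtype h2 := Subsingleton.elim _ _
  have h4 : (P₁ : Subgroup G).subgroupOf C = (P₂ : Subgroup G).subgroupOf C := by
    have := congrArg (fun Q : Sylow p ↥C => (Q : Subgroup ↥C)) h3
    simpa only [Sylow.coe_subtype] using this
  apply Sylow.ext
  rw [← Subgroup.map_subgroupOf_eq_of_le h1, ← Subgroup.map_subgroupOf_eq_of_le h2, h4]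

theorem inf_le_center (hab : ∀ Q : Sylow p G, ∀ a ∈ Q, ∀ b ∈ Q, a * b = b * a)
    (hmin : ∀ K : Subgroup G, K ≠ ⊤ → NS p ↥K) (P₁ P₂ : Sylow p G) (hne : P₁ ≠ P₂) :
    (P₁ : Subgroup G) ⊓ (P₂ : Subgroup G) ≤ center G := by
  set D : Subgroup G := (P₁ : Subgroup G) ⊓ (P₂ : Subgroup G) with hD
  set C : Subgroup G := centralizer (D : Set G) with hC
  have h1 : (P₁ : Subgroup G) ≤ C := by
    intro x hx
    rw [hC, mem_centralizer_iff]
    intro d hd
    exact hab P₁ d hd.1 x hx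
  have h2 : (P₂ : Subgroup G) ≤ C := by
    intro x hx
    rw [hC, mem_centralizer_iff]
    intro d hd
    exact hab P₂ d hd.2 x hx
  have hCtop : C = ⊤ := by
    by_contra hne'
    exact hne (eq_of_le_of_NS P₁ P₂ C h1 h2 (hmin C hne'))
  intro d hd
  rw [mem_center_iff]
  intro g
  have hg : g ∈ C := by rw [hCtop]; exact mem_top g
  rw [hC, mem_centralizer_iff] at hg
  exact (hg d hd).symm

theorem ti (hab : ∀ Q : Sylow p G, ∀ a ∈ Q, ∀ b ∈ Q, a * b = b * a)
    (hmin : ∀ K : Subgroup G, K ≠ ⊤ → NS p ↥K)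
    (hZ : ∀ Q : Sylow p G, (Q : Subgroup G) ⊓ center G = ⊥) (g : G) (hg : g ∉ center G)
    (P₁ P₂ : Sylow p G) (h1 : centralizer ({g} : Set G) ⊓ (P₁ : Subgroup G) ≠ ⊥)
    (h2 : centralizer ({g} : Set G) ⊓ (P₂ : Subgroup G) ≠ ⊥) : P₁ = P₂ := by
  set C : Subgroup G := centralizer ({g} : Set G) with hC
  have hCtop : C ≠ ⊤ := by
    intro h
    apply hg
    rw [mem_center_iff]
    intro x
    have hx : x ∈ C := by rw [h]; exact mem_top x
    rw [hC, mem_centralizer_iff] at hx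
    exact (hx g rfl).symm
  have hNS := hmin C hCtop
  obtain ⟨S₀⟩ : Nonempty (Sylow p ↥C) := inferInstance
  have hS₀n := hNS S₀
  haveI := Sylow.unique_of_normal _ hS₀n
  set S₁ : Subgroup G := (S₀ : Subgroup ↥C).map C.subtype with hS₁
  have hS₁p : IsPGroup p S₁ := S₀.2.map _
  obtain ⟨P₃, hP₃⟩ := hS₁p.exists_le_sylow
  have key : ∀ P' : Sylow p G, C ⊓ (P' : Subgroup G) ≠ ⊥ → P' = P₃ := by
    intro P' hne
    by_contra hP'
    apply hne
    have hDp : IsPGroup p ↥((C ⊓ (P' : Subgroup G)).subgroupOf C) := by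
      have h3 : IsPGroup p ↥(C ⊓ (P' : Subgroup G)) := P'.2.to_le inf_le_right
      exact h3.comap_of_injective C.subtype C.subtype_injective
    obtain ⟨S', hS'⟩ := hDp.exists_le_sylow
    have hS'eq : S' = S₀ := Subsingleton.elim _ _
    rw [hS'eq] at hS'
    have h4 : C ⊓ (P' : Subgroup G) ≤ S₁ := by
      rw [← Subgroup.map_subgroupOf_eq_of_le (inf_le_left : C ⊓ (P' : Subgroup G) ≤ C)]
      exact Subgroup.map_mono hS'
    have h5 : C ⊓ (P' : Subgroup G) ≤ (P' : Subgroup G) ⊓ (P₃ : Subgroup G) :=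
      le_inf inf_le_right (h4.trans hP₃)
    have h6 := h5.trans (inf_le_center hab hmin P' P₃ hP')
    rw [eq_bot_iff, ← hZ P']
    exact le_inf inf_le_right h6
  rw [key P₁ h1, key P₂ h2]

/-- if `P ∩ Z(G) ≠ 1` there is a normal `p`-complement -/
theorem exists_normal_compl (P : Sylow p G)
    (hab : ∀ a ∈ (P : Subgroup G), ∀ b ∈ (P : Subgroup G), a * b = b * a)
    (hnn : ¬ (P : Subgroup G).Normal) (hmin : ∀ K : Subgroup G, K ≠ ⊤ → NS p ↥K)
    (hZ : (P : Subgroup G) ⊓ center G ≠ ⊥) :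
    ∃ K : Subgroup G, K.Normal ∧ (Nat.card K).Coprime p ∧ ∃ k : ℕ, K.index = p ^ k := by
  classical
  have hpp := hp.out
  haveI : IsMulCommutative (P : Subgroup G) := ⟨⟨fun a b => Subtype.ext (hab a a.2 b b.2)⟩⟩
  open scoped IsMulCommutative in
  let V : G →* ↥(P : Subgroup G) := MonoidHom.transfer (MonoidHom.id ↥(P : Subgroup G))
  have hV : ∀ z : G, z ∈ center G → V z = 1 → z ^ (P : Subgroup G).index = 1 := by
    intro z hz hVz
    have key : ∀ (k : ℕ) (g₀ : G), g₀⁻¹ * z ^ k * g₀ ∈ (P : Subgroup G) →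
        g₀⁻¹ * z ^ k * g₀ = z ^ k := by
      intro k g₀ _
      have hzk : z ^ k ∈ center G := (center G).pow_mem hz k
      rw [mem_center_iff] at hzk
      rw [mul_assoc, ← hzk g₀, inv_mul_cancel_left]
    have h1 := MonoidHom.transfer_eq_pow (MonoidHom.id ↥(P : Subgroup G)) z key
    have h2 : (V z : G) = z ^ (P : Subgroup G).index := by
      show ((MonoidHom.transfer (MonoidHom.id ↥(P : Subgroup G)) z : ↥(P : Subgroup G)) : G) = _
      rw [h1]
      rfl
    rw [← h2, hVz]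
    rfl
  set K : Subgroup G := V.ker with hK
  have hKn : K.Normal := MonoidHom.normal_ker V
  have hZK : ((P : Subgroup G) ⊓ center G) ⊓ K = ⊥ := by
    rw [eq_bot_iff]
    rintro z ⟨⟨hzP, hzZ⟩, hzK⟩
    rw [mem_bot]
    have h1 := hV z hzZ (MonoidHom.mem_ker.1 hzK)
    obtain ⟨k, hk⟩ := P.2 ⟨z, hzP⟩
    have hk' : z ^ p ^ k = 1 := congrArg Subtype.val hk
    have h2 : orderOf z ∣ Nat.gcd ((P : Subgroup G).index) (p ^ k) :=
      Nat.dvd_gcd (orderOf_dvd_of_pow_eq_one h1) (orderOf_dvd_of_pow_eq_one hk')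
    have hcop : Nat.Coprime ((P : Subgroup G).index) (p ^ k) :=
      Nat.Coprime.pow_right k ((Nat.Prime.coprime_iff_not_dvd hpp).2 P.not_dvd_index).symm
    rw [hcop.gcd_eq_one, Nat.dvd_one, orderOf_eq_one_iff] at h2
    exact h2
  have hKtop : K ≠ ⊤ := by
    intro h
    apply hZ
    rw [← hZK, h, inf_top_eq]
  have hKidx : ∃ k : ℕ, K.index = p ^ k := by
    have h1 : K.index ∣ Nat.card (P : Subgroup G) := by
      rw [hK, Subgroup.index_ker]
      exact Subgroup.card_subgroup_dvd_card _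
    obtain ⟨a, ha⟩ := IsPGroup.iff_card.1 P.2
    rw [ha] at h1
    obtain ⟨k, -, hk⟩ := (Nat.dvd_prime_pow hpp).1 h1
    exact ⟨k, hk⟩
  refine ⟨K, hKn, ?_, hKidx⟩
  have hNS := hmin K hKtop
  obtain ⟨S₀⟩ : Nonempty (Sylow p ↥K) := inferInstance
  have hS₀n := hNS S₀
  haveI : (S₀ : Subgroup ↥K).Characteristic := Sylow.characteristic_of_normal _ hS₀n
  set S₁ : Subgroup G := (S₀ : Subgroup ↥K).map K.subtype with hS₁
  haveI hS₁n : S₁.Normal := inferInstance
  have hS₁p : IsPGroup p S₁ := S₀.2.map _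
  have hS₁P : S₁ ≤ (P : Subgroup G) := hS₁p.le_sylow_of_normal P
  have hS₁K : S₁ ≤ K := Subgroup.map_subtype_le _
  have hS₁Z : S₁ ≤ center G := by
    set C : Subgroup G := centralizer (S₁ : Set G) with hC
    haveI hCn : C.Normal := inferInstance
    have hPC : (P : Subgroup G) ≤ C := by
      intro x hx
      rw [hC, mem_centralizer_iff]
      intro d hd
      exact hab d (hS₁P hd) x hx
    have hCtop : C = ⊤ := eq_top_of_normal_of_le P hnn hmin C hCn hPC
    intro d hd
    rw [mem_center_iff]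
    intro g
    have hg : g ∈ C := by rw [hCtop]; exact mem_top g
    rw [hC, mem_centralizer_iff] at hg
    exact (hg d hd).symm
  have hS₁bot : S₁ = ⊥ := by
    rw [eq_bot_iff, ← hZK]
    exact le_inf (le_inf hS₁P hS₁Z) hS₁K
  have hS₀bot : (S₀ : Subgroup ↥K) = ⊥ := by
    rw [hS₁] at hS₁bot
    exact (Subgroup.map_eq_bot_iff_of_injective _ K.subtype_injective).1 hS₁bot
  have hnd : ¬ p ∣ Nat.card K := fun h => S₀.ne_bot_of_dvd_card h hS₀bot
  exact ((Nat.Prime.coprime_iff_not_dvd hpp).2 hnd).symm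

theorem isPSolvable_of_normal_compl (K : Subgroup G) (hKn : K.Normal)
    (hK : (Nat.card K).Coprime p) (hidx : ∃ k : ℕ, K.index = p ^ k) : Cfsg.IsPSolvable p G := by
  refine Cfsg.Agent.Lead.TNC.isPSolvable_of_chain3 ⊥ K inferInstance hKn bot_le ⟨0, ?_⟩ ?_ hidx
  · rw [Subgroup.card_bot, pow_zero]
  · rw [Subgroup.relIndex_bot_left]
    exact hK

end Cfsg.Agent.Helper5.FTB
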