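import Mathlib
import Cfsg.Prelude.Def_Characters
import Cfsg.Agent.Helper24.Expansion
import Cfsg.Agent.Helper24.Vanish
import Cfsg.Agent.Helper24.Regular

/-!
Averaging a character over a normal subgroup: the average and the remainder are
orthogonal, and the remainder has norm at least one unless it vanishes.
(Used for the Feit--Thompson lemma S0898.)
-/

namespace Cfsg.Agent.Helper5.FTL

open Cfsg Classical

section A

variable {N : Type*} [Group N] [Fintype N]

/-- Indicator function of a subgroup. -/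
noncomputable def ind (K : Subgroup N) (g : N) : ℂ := if g ∈ K then 1 else 0

/-- Average of a function over left translates by a subgroup. -/
noncomputable def avg (K : Subgroup N) (ψ : N → ℂ) (x : N) : ℂ :=
  (Nat.card K : ℂ)⁻¹ * ∑ g : N, ind K g * ψ (g * x)

theorem sum_ind (K : Subgroup N) : ∑ g : N, ind K g = (Nat.card K : ℂ) := by
  unfold ind
  rw [Finset.sum_ite, Finset.sum_const_zero, add_zero, Finset.sum_const, nsmul_eq_mul, mul_one]
  congr 1
  rw [Nat.card_eq_fintype_card, Fintype.card_subtype]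

theorem card_ne_zero (K : Subgroup N) : (Nat.card K : ℂ) ≠ 0 := by
  have : 0 < Nat.card K := Nat.card_pos
  exact_mod_cast this.ne'

/-- Translating by an element of `K` does not change the `K`-sum. -/
theorem sum_ind_mul_right (K : Subgroup N) (f : N → ℂ) {u : N} (hu : u ∈ K) :
    ∑ g : N, ind K g * f (g * u) = ∑ g : N, ind K g * f g := by
  rw [← Equiv.sum_comp (Equiv.mulRight u) (fun g => ind K g * f g)]
  refine Finset.sum_congr rfl fun g _ => ?_
  have : ind K (g * u) = ind K g := by
    unfold ind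
    have : g * u ∈ K ↔ g ∈ K := ⟨fun h => by simpa using K.mul_mem h (K.inv_mem hu),
      fun h => K.mul_mem h hu⟩
    simp only [this]
  simp only [Equiv.coe_mulRight, this]

theorem avg_mul_left (K : Subgroup N) (ψ : N → ℂ) {u : N} (hu : u ∈ K) (x : N) :
    avg K ψ (u * x) = avg K ψ x := by
  unfold avg
  congr 1
  have := sum_ind_mul_right K (fun g => ψ (g * x)) hu
  simp only [mul_assoc] at this ⊢
  exact this

theorem avg_sum {ι : Type*} (s : Finset ι) (K : Subgroup N) (c : ι → ℂ) (f : ι → N → ℂ) :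
    avg K (∑ i ∈ s, c i • f i) = ∑ i ∈ s, c i • avg K (f i) := by
  funext x
  unfold avg
  simp only [Finset.sum_apply, Pi.smul_apply, smul_eq_mul, Finset.mul_sum]
  rw [Finset.sum_comm]
  refine Finset.sum_congr rfl fun i _ => Finset.sum_congr rfl fun g _ => ?_
  ring

/-- On an irreducible character, averaging over a normal subgroup is multiplication by `0` or
`1`. -/
theorem avg_irr (K : Subgroup N) [K.Normal] (ξ : IrrCharacter N) :
    ∃ t : ℂ, (t = 0 ∨ t = 1) ∧ ∀ x, avg K (ξ : N → ℂ) x = t * (ξ : N → ℂ) x := by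
  obtain ⟨n, ρ, hρ, hξ⟩ := ξ.2
  haveI := hρ
  have hcf : IsClassFunction N (ind K) := Cfsg.Agent.Helper24.isClassFunction_indicator_normal K
  have hgen := Cfsg.Agent.Helper24.irr_sum_mul_char_mul ξ (ind K) hcf
  have h1 : (ξ : N → ℂ) 1 ≠ 0 := Cfsg.Agent.Helper24.irr_one_ne_zero ξ
  by_cases hk : ∃ h ∈ K, ρ h ≠ LinearMap.id
  · refine ⟨0, Or.inl rfl, fun x => ?_⟩
    have h0 := Cfsg.Agent.Helper24.sum_char_normal_eq_zero ρ K hk
    rw [hξ] at h0
    have h2 := hgen x
    have h0' : ∑ g : N, ind K g * (ξ : N → ℂ) g = 0 := h0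
    rw [h0', mul_zero] at h2
    have h3 := (mul_eq_zero.mp h2).resolve_left h1
    unfold avg
    rw [h3, mul_zero, zero_mul]
  · push Not at hk
    refine ⟨1, Or.inr rfl, fun x => ?_⟩
    have hval : ∀ g ∈ K, (ξ : N → ℂ) g = (ξ : N → ℂ) 1 := by
      intro g hg
      rw [← hξ]
      show LinearMap.trace ℂ _ (ρ g) = LinearMap.trace ℂ _ (ρ 1)
      rw [hk g hg, map_one]
      rfl
    have hs : ∑ g : N, ind K g * (ξ : N → ℂ) g = (Nat.card K : ℂ) * (ξ : N → ℂ) 1 := by
      rw [← sum_ind K, Finset.sum_mul]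
      refine Finset.sum_congr rfl fun g _ => ?_
      unfold ind
      by_cases hg : g ∈ K
      · rw [hval g hg]
      · simp [hg]
    have h2 := hgen x
    rw [hs] at h2
    have h3 : ∑ g : N, ind K g * (ξ : N → ℂ) (g * x) = (Nat.card K : ℂ) * (ξ : N → ℂ) x := by
      apply mul_left_cancel₀ h1
      rw [h2]; ring
    unfold avg
    rw [h3, one_mul, ← mul_assoc, inv_mul_cancel₀ (card_ne_zero K), one_mul]

/-- Averaging a character over a normal subgroup: the average is orthogonal to the remainder,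
and the remainder has integral norm, at least one unless it vanishes. -/
theorem avg_orth (K : Subgroup N) [K.Normal] {ψ : N → ℂ} (hψ : IsCharacter N ψ) :
    classInner (avg K ψ) (ψ - avg K ψ) = 0 ∧
    ∃ m : ℕ, classInner (ψ - avg K ψ) (ψ - avg K ψ) = m ∧ (ψ - avg K ψ ≠ 0 → 1 ≤ m) := by
  haveI : Fintype (IrrCharacter N) := Fintype.ofFinite _
  obtain ⟨c, hc⟩ := Cfsg.Agent.Helper24.IsCharacter.exists_nat_coeff hψ
  choose t ht using fun ξ : IrrCharacter N => avg_irr K ξ
  have h0 : avg K ψ = ∑ ξ : IrrCharacter N, ((c ξ : ℂ) * t ξ) • (ξ : N → ℂ) := by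
    rw [hc, avg_sum]
    refine Finset.sum_congr rfl fun ξ _ => ?_
    funext x
    simp only [Pi.smul_apply, smul_eq_mul]
    rw [(ht ξ).2 x]; ring
  have h1 : ψ - avg K ψ = ∑ ξ : IrrCharacter N, ((c ξ : ℂ) * (1 - t ξ)) • (ξ : N → ℂ) := by
    rw [h0]
    nth_rewrite 1 [hc]
    rw [← Finset.sum_sub_distrib]
    refine Finset.sum_congr rfl fun ξ _ => ?_
    funext x
    simp only [Pi.smul_apply, Pi.sub_apply, smul_eq_mul]
    ring
  set d : IrrCharacter N → ℕ := fun ξ => if t ξ = 0 then c ξ else 0 with hd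
  have hdt : ∀ ξ, (c ξ : ℂ) * (1 - t ξ) = (d ξ : ℂ) := by
    intro ξ
    rcases (ht ξ).1 with h | h
    · simp [hd, h]
    · simp [hd, h]
  constructor
  · rw [h1, h0, Cfsg.Agent.Helper24.classInner_sum_sum]
    refine Finset.sum_eq_zero fun ξ _ => ?_
    rcases (ht ξ).1 with h | h
    · rw [h]; simp
    · rw [h]; simp
  · refine ⟨∑ ξ : IrrCharacter N, d ξ ^ 2, ?_, ?_⟩
    · rw [h1, Cfsg.Agent.Helper24.classInner_sum_sum]
      push_cast
      refine Finset.sum_congr rfl fun ξ _ => ?_
      rw [hdt ξ, Complex.conj_natCast]; ring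
    · intro hne
      by_contra hlt
      push Not at hlt
      have hz : ∑ ξ : IrrCharacter N, d ξ ^ 2 = 0 := by omega
      apply hne
      rw [h1]
      refine Finset.sum_eq_zero fun ξ _ => ?_
      have := (Finset.sum_eq_zero_iff.mp hz) ξ (Finset.mem_univ ξ)
      have hd0 : d ξ = 0 := by
        rcases Nat.eq_zero_or_pos (d ξ) with h | h
        · exact h
        · exfalso; have : 0 < d ξ ^ 2 := by positivity
          omega
      rw [hdt ξ, hd0]; simp

end A

end Cfsg.Agent.Helper5.FTL
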