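import Mathlib

/-!
A counting lemma for TI-sets: if `S` is a set whose conjugates `x S x⁻¹` meet `S` only for
`x` in a subgroup `Nn`, then for a nonnegative class function `F` we have
`|G| * ∑_{S} F ≤ |Nn| * ∑_{T} F` for any `T` containing all conjugates of `S`.
-/

namespace Cfsg.Agent.Helper5.FTL

open Classical

theorem card_conj_mem_le {G : Type*} [Group G] [Fintype G] (Nn : Subgroup G) (S : Finset G)
    (hTI : ∀ g ∈ S, ∀ x : G, x * g * x⁻¹ ∈ S → x ∈ Nn) (y : G) :
    (Finset.univ.filter (fun x : G => x⁻¹ * y * x ∈ S)).card ≤ Nat.card Nn := by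
  rcases (Finset.univ.filter (fun x : G => x⁻¹ * y * x ∈ S)).eq_empty_or_nonempty with h | ⟨x₀, hx₀⟩
  · rw [h, Finset.card_empty]; exact Nat.zero_le _
  · rw [Finset.mem_filter] at hx₀
    have hcard : Nat.card Nn = (Finset.univ.filter (fun x : G => x ∈ Nn)).card := by
      rw [Nat.card_eq_fintype_card, Fintype.card_subtype]
    rw [hcard]
    refine Finset.card_le_card_of_injOn (fun x => x⁻¹ * x₀) ?_ ?_
    · intro x hx
      have hx' : x⁻¹ * y * x ∈ S := (Finset.mem_filter.mp hx).2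
      refine Finset.mem_filter.mpr ⟨Finset.mem_univ _, ?_⟩
      refine hTI _ hx₀.2 (x⁻¹ * x₀) ?_
      have : x⁻¹ * x₀ * (x₀⁻¹ * y * x₀) * (x⁻¹ * x₀)⁻¹ = x⁻¹ * y * x := by group
      rw [this]; exact hx'
    · intro a _ b _ hab
      have h1 : a⁻¹ * x₀ = b⁻¹ * x₀ := hab
      have h2 : a⁻¹ = b⁻¹ := mul_right_cancel h1
      exact inv_injective h2

theorem ti_count {G : Type*} [Group G] [Fintype G] (Nn : Subgroup G) (S T : Finset G) (F : G → ℝ)
    (hF0 : ∀ g, 0 ≤ F g) (hFc : ∀ g x : G, F (x * g * x⁻¹) = F g)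
    (hST : ∀ g ∈ S, ∀ x : G, x * g * x⁻¹ ∈ T)
    (hTI : ∀ g ∈ S, ∀ x : G, x * g * x⁻¹ ∈ S → x ∈ Nn) :
    (Nat.card G : ℝ) * ∑ g ∈ S, F g ≤ (Nat.card Nn : ℝ) * ∑ y ∈ T, F y := by
  have h1 : (Nat.card G : ℝ) * ∑ g ∈ S, F g = ∑ x : G, ∑ g ∈ S, F (x * g * x⁻¹) := by
    simp only [hFc]
    rw [Finset.sum_const, Finset.card_univ, nsmul_eq_mul, Nat.card_eq_fintype_card]
  have h2 : ∀ x : G, ∑ g ∈ S, F (x * g * x⁻¹) =
      ∑ y : G, if x⁻¹ * y * x ∈ S then F y else 0 := by
    intro x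
    rw [← Equiv.sum_comp (MulAut.conj x).toEquiv
      (fun y => if x⁻¹ * y * x ∈ S then F y else 0)]
    have : ∀ g : G, x⁻¹ * ((MulAut.conj x).toEquiv g) * x = g := by
      intro g
      show x⁻¹ * (x * g * x⁻¹) * x = g
      group
    simp only [this]
    rw [Finset.sum_ite_mem, Finset.univ_inter]
    rfl
  rw [h1]
  simp only [h2]
  rw [Finset.sum_comm]
  have h3 : ∀ y : G, ∑ x : G, (if x⁻¹ * y * x ∈ S then F y else 0) =
      ((Finset.univ.filter (fun x : G => x⁻¹ * y * x ∈ S)).card : ℝ) * F y := by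
    intro y
    rw [← Finset.sum_filter, Finset.sum_const, nsmul_eq_mul]
  simp only [h3]
  rw [Finset.mul_sum]
  have h4 : ∀ y : G, ((Finset.univ.filter (fun x : G => x⁻¹ * y * x ∈ S)).card : ℝ) * F y ≤
      if y ∈ T then (Nat.card Nn : ℝ) * F y else 0 := by
    intro y
    by_cases hy : y ∈ T
    · rw [if_pos hy]
      refine mul_le_mul_of_nonneg_right ?_ (hF0 y)
      exact_mod_cast card_conj_mem_le Nn S hTI y
    · rw [if_neg hy]
      have : Finset.univ.filter (fun x : G => x⁻¹ * y * x ∈ S) = ∅ := by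
        rw [Finset.filter_eq_empty_iff]
        intro x _ hx
        apply hy
        have := hST _ hx x
        have e : x * (x⁻¹ * y * x) * x⁻¹ = y := by group
        rwa [e] at this
      rw [this, Finset.card_empty]; simp
  calc ∑ y : G, ((Finset.univ.filter (fun x : G => x⁻¹ * y * x ∈ S)).card : ℝ) * F y
      ≤ ∑ y : G, if y ∈ T then (Nat.card Nn : ℝ) * F y else 0 :=
        Finset.sum_le_sum fun y _ => h4 y
    _ = ∑ y ∈ T, (Nat.card Nn : ℝ) * F y := by
        rw [← Finset.sum_filter]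
        congr 1
        ext y; simp

end Cfsg.Agent.Helper5.FTL
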