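import Mathlib
import Cfsg.Prelude.Def_Characters
import Cfsg.Agent.Helper5.FTLemmaA
import Cfsg.Agent.Helper5.FTLemmaB
import Cfsg.Agent.Helper8.CharComp
import Cfsg.Agent.Helper23.CentralChar
import Cfsg.Agent.Helper24.Linear
import Cfsg.Agent.Helper24.Orthogonality

/-!
The Feit--Thompson lemma (first inequality): for an abelian subgroup `H` with `H ∩ Z(G) = 1`
such that the centralizer of every non-central element meets at most one conjugate of `H`
non-trivially, and an irreducible character `χ` with `H ⊄ ker χ`: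
`|H| * |⟨χ_H, 1_H⟩|² < χ(1)²`.
-/

namespace Cfsg.Agent.Helper5.FTL

open Cfsg Classical

variable {G : Type*} [Group G] [Fintype G]

omit [Fintype G] in
theorem mem_normalizer_of_map_eq (H : Subgroup G) (x : G)
    (h : H.map (MulAut.conj (1 : G)).toMonoidHom = H.map (MulAut.conj x⁻¹).toMonoidHom) :
    x ∈ Subgroup.normalizer (H : Set G) := by
  rw [Subgroup.mem_normalizer_iff]
  intro k
  have h1 : H.map (MulAut.conj (1 : G)).toMonoidHom = H := by
    ext y
    simp [Subgroup.mem_map]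
  rw [h1] at h
  constructor
  · intro hk
    have : x⁻¹ * (x * k * x⁻¹) * x ∈ H := by
      have e : x⁻¹ * (x * k * x⁻¹) * x = k := by group
      rw [e]; exact hk
    have hk2 : k ∈ H.map (MulAut.conj x⁻¹).toMonoidHom := by rw [← h]; exact hk
    obtain ⟨y, hy, hyk⟩ := Subgroup.mem_map.mp hk2
    have e : x * k * x⁻¹ = y := by
      rw [← hyk]
      show x * (x⁻¹ * y * x⁻¹⁻¹) * x⁻¹ = y
      group
    rw [e]; exact hy
  · intro hk
    rw [h]
    refine Subgroup.mem_map.mpr ⟨x * k * x⁻¹, hk, ?_⟩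
    show x⁻¹ * (x * k * x⁻¹) * x⁻¹⁻¹ = k
    group

omit [Fintype G] in
/-- The basic consequence of the hypothesis. -/
theorem mem_normalizer_of_commute (H : Subgroup G)
    (hone : ∀ g : G, g ∉ Subgroup.center G → ∀ a b : G,
      Subgroup.centralizer ({g} : Set G) ⊓ H.map (MulAut.conj a).toMonoidHom ≠ ⊥ →
      Subgroup.centralizer ({g} : Set G) ⊓ H.map (MulAut.conj b).toMonoidHom ≠ ⊥ →
      H.map (MulAut.conj a).toMonoidHom = H.map (MulAut.conj b).toMonoidHom)
    {g : G} (hg : g ∉ Subgroup.center G) {u v x : G} (hu : u ∈ H) (hu1 : u ≠ 1)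
    (hug : u * g = g * u) (hv : v ∈ H) (hv1 : v ≠ 1)
    (hvg : (x⁻¹ * v * x) * g = g * (x⁻¹ * v * x)) : x ∈ Subgroup.normalizer (H : Set G) := by
  apply mem_normalizer_of_map_eq
  apply hone g hg
  · intro hbot
    have : u ∈ Subgroup.centralizer ({g} : Set G) ⊓ H.map (MulAut.conj (1 : G)).toMonoidHom := by
      refine Subgroup.mem_inf.mpr ⟨?_, ?_⟩
      · rw [Subgroup.mem_centralizer_iff]
        intro y hy
        rw [Set.mem_singleton_iff] at hy
        rw [hy]; exact hug.symm
      · refine Subgroup.mem_map.mpr ⟨u, hu, ?_⟩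
        simp
    rw [hbot] at this
    exact hu1 (Subgroup.mem_bot.mp this)
  · intro hbot
    have : x⁻¹ * v * x ∈
        Subgroup.centralizer ({g} : Set G) ⊓ H.map (MulAut.conj x⁻¹).toMonoidHom := by
      refine Subgroup.mem_inf.mpr ⟨?_, ?_⟩
      · rw [Subgroup.mem_centralizer_iff]
        intro y hy
        rw [Set.mem_singleton_iff] at hy
        rw [hy]; exact hvg.symm
      · refine Subgroup.mem_map.mpr ⟨v, hv, ?_⟩
        show x⁻¹ * v * x⁻¹⁻¹ = x⁻¹ * v * x
        rw [inv_inv]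
    rw [hbot] at this
    have h1 : x⁻¹ * v * x = 1 := Subgroup.mem_bot.mp this
    apply hv1
    have : v = x * (x⁻¹ * v * x) * x⁻¹ := by group
    rw [this, h1]; group

set_option maxHeartbeats 1600000 in
/-- The Feit--Thompson lemma, first inequality. -/
theorem part1 (H : Subgroup G)
    (hab : ∀ a ∈ H, ∀ b ∈ H, a * b = b * a)
    (hZ : H ⊓ Subgroup.center G = ⊥)
    (hone : ∀ g : G, g ∉ Subgroup.center G → ∀ a b : G,
      Subgroup.centralizer ({g} : Set G) ⊓ H.map (MulAut.conj a).toMonoidHom ≠ ⊥ →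
      Subgroup.centralizer ({g} : Set G) ⊓ H.map (MulAut.conj b).toMonoidHom ≠ ⊥ →
      H.map (MulAut.conj a).toMonoidHom = H.map (MulAut.conj b).toMonoidHom)
    (χ : IrrCharacter G) (hker : ∃ h ∈ H, (χ : G → ℂ) h ≠ (χ : G → ℂ) 1) :
    (Nat.card H : ℝ) *
      Complex.normSq ((Nat.card H : ℂ)⁻¹ * ∑ g : G, ind H g * (χ : G → ℂ) g)
      < Complex.normSq ((χ : G → ℂ) 1) := by
  obtain ⟨h₀, hh₀, hχh₀⟩ := hker
  have hh₀1 : h₀ ≠ 1 := by rintro rfl; exact hχh₀ rfl
  set Nn : Subgroup G := Subgroup.normalizer (H : Set G) with hNn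
  have hHN : H ≤ Nn := Subgroup.le_normalizer
  have hZN : Subgroup.center G ≤ Nn := by
    intro z hz
    rw [hNn, Subgroup.mem_normalizer_iff]
    intro k
    have : z * k * z⁻¹ = k := by
      rw [← (Subgroup.mem_center_iff.mp hz) k]; group
    rw [this]
  -- the sets
  set S : Finset G := Finset.univ.filter
    (fun g => g ∉ Subgroup.center G ∧ ∃ h ∈ H, h ≠ 1 ∧ h * g = g * h) with hS
  set Zf : Finset G := Finset.univ.filter (fun g => g ∈ Subgroup.center G) with hZf
  set T : Finset G := Finset.univ.filter (fun g => g ∉ Subgroup.center G) with hT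
  set F : G → ℝ := fun g => Complex.normSq ((χ : G → ℂ) g) with hF
  have hcf := Cfsg.Agent.Helper24.isClassFunction_irr χ
  have hFc : ∀ g x : G, F (x * g * x⁻¹) = F g := fun g x => by simp only [hF, hcf g x]
  have hF0 : ∀ g, 0 ≤ F g := fun g => Complex.normSq_nonneg _
  have hST : ∀ g ∈ S, ∀ x : G, x * g * x⁻¹ ∈ T := by
    intro g hg x
    rw [hS, Finset.mem_filter] at hg
    rw [hT, Finset.mem_filter]
    refine ⟨Finset.mem_univ _, fun hc => hg.2.1 ?_⟩
    have h1 := (inferInstance : (Subgroup.center G).Normal).conj_mem _ hc x⁻¹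
    have e : x⁻¹ * (x * g * x⁻¹) * x⁻¹⁻¹ = g := by group
    rwa [e] at h1
  have hTI : ∀ g ∈ S, ∀ x : G, x * g * x⁻¹ ∈ S → x ∈ Nn := by
    intro g hg x hx
    rw [hS, Finset.mem_filter] at hg hx
    obtain ⟨_, hgc, u, hu, hu1, hug⟩ := hg
    obtain ⟨_, _, v, hv, hv1, hvg⟩ := hx
    refine mem_normalizer_of_commute H hone hgc hu hu1 hug hv hv1 ?_
    calc x⁻¹ * v * x * g = x⁻¹ * (v * (x * g * x⁻¹)) * x := by group
      _ = x⁻¹ * ((x * g * x⁻¹) * v) * x := by rw [hvg]
      _ = g * (x⁻¹ * v * x) := by group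
  have hSN : ∀ g ∈ S, g ∈ Nn := by
    intro g hg
    exact hTI g hg g (by rw [show g * g * g⁻¹ = g by group]; exact hg)
  have hcount := ti_count Nn S T F hF0 hFc hST hTI
  -- total
  have hGne : (Nat.card G : ℂ) ≠ 0 := by
    have : 0 < Nat.card G := Nat.card_pos
    exact_mod_cast this.ne'
  have htot : ∑ g : G, F g = (Nat.card G : ℝ) := by
    have h1 := Cfsg.Agent.Helper24.classInner_irr_self χ
    unfold classInner at h1
    have h2 : ∑ g : G, (χ : G → ℂ) g * (starRingEnd ℂ) ((χ : G → ℂ) g) =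
        ((∑ g : G, F g : ℝ) : ℂ) := by
      push_cast
      refine Finset.sum_congr rfl fun g _ => ?_
      rw [Complex.mul_conj]
    rw [h2] at h1
    have h3 : ((∑ g : G, F g : ℝ) : ℂ) = (Nat.card G : ℂ) := by
      have := congrArg (fun t => (Nat.card G : ℂ) * t) h1
      simp only [← mul_assoc, mul_inv_cancel₀ hGne, one_mul, mul_one] at this
      exact this
    exact_mod_cast h3
  -- central character
  obtain ⟨ω, hω⟩ := Cfsg.Agent.Helper23.exists_central_character χ
  have hωn : ∀ z, ‖ω z‖ = 1 := fun z => Cfsg.Agent.Helper24.norm_monoidHom_eq_one ω z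
  have hωsq : ∀ z, Complex.normSq (ω z) = 1 := fun z => by
    rw [Complex.normSq_eq_norm_sq, hωn, one_pow]
  have hAZ : ∑ g ∈ Zf, F g = (Nat.card (Subgroup.center G) : ℝ) * F 1 := by
    have h1 : ∀ g ∈ Zf, F g = F 1 := by
      intro g hg
      rw [hZf, Finset.mem_filter] at hg
      have := hω ⟨g, hg.2⟩ 1
      simp only [one_mul] at this
      simp only [hF]
      rw [this, Complex.normSq_mul, hωsq, one_mul]
    rw [Finset.sum_congr rfl h1, Finset.sum_const, nsmul_eq_mul]
    congr 2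
    rw [Nat.card_eq_fintype_card, Fintype.card_subtype]
  have hTsum : ∑ g ∈ T, F g = (Nat.card G : ℝ) - (Nat.card (Subgroup.center G) : ℝ) * F 1 := by
    rw [← htot, ← hAZ]
    have := Finset.sum_filter_add_sum_filter_not Finset.univ (fun g => g ∈ Subgroup.center G) F
    rw [← this]; ring
  -- the normalizer level
  set K : Subgroup Nn := H.subgroupOf Nn with hK
  have hKn : K.Normal := Subgroup.normal_in_normalizer
  set ψ : Nn → ℂ := fun g => (χ : G → ℂ) g with hψ
  have hψc : IsCharacter Nn ψ := Cfsg.Agent.Helper8.isCharacter_restrict Nn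
    (Cfsg.Agent.Helper24.IsIrrCharacter.isCharacter χ.2)
  obtain ⟨horth, m, hm, hm1⟩ := avg_orth K hψc
  have hvan : ∀ g : Nn, (∀ h ∈ H, h * (g : G) = (g : G) * h → h = 1) →
      ψ g - avg K ψ g = 0 := by
    intro g hg
    have hgK : ∀ k ∈ K, k * g = g * k → k = 1 := by
      intro k hk hkg
      have h1 : (k : G) * (g : G) = (g : G) * (k : G) := by
        have := congrArg Subtype.val hkg
        simpa using this
      have := hg (k : G) (Subgroup.mem_subgroupOf.mp hk) h1
      exact Subtype.ext this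
    have hconst : ∀ k : Nn, ind K k * ψ (k * g) = ind K k * ψ g := by
      intro k
      by_cases hk : k ∈ K
      · obtain ⟨u, hu⟩ := Cfsg.Agent.Helper24.exists_conj_of_fixedPointFree K g hgK k hk
        rw [hu]
        congr 1
        show (χ : G → ℂ) ((u * g * u⁻¹ : Nn) : G) = (χ : G → ℂ) (g : G)
        rw [Subgroup.coe_mul, Subgroup.coe_mul, Subgroup.coe_inv]
        exact hcf _ _
      · simp [ind, hk]
    unfold avg
    simp only [hconst]
    rw [← Finset.sum_mul, sum_ind, ← mul_assoc, inv_mul_cancel₀ (card_ne_zero K), one_mul,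
      sub_self]
  have hψ1ne : ψ - avg K ψ ≠ 0 := by
    intro h0
    have hψeq : ∀ g, ψ g = avg K ψ g := fun g => by
      have := congrFun h0 g
      simpa [sub_eq_zero] using this
    apply hχh₀
    have e1 : ψ ⟨h₀, hHN hh₀⟩ = ψ 1 := by
      rw [hψeq, hψeq 1]
      have := avg_mul_left K ψ (u := ⟨h₀, hHN hh₀⟩) (Subgroup.mem_subgroupOf.mpr hh₀) 1
      rwa [mul_one] at this
    exact e1
  have hm1' : 1 ≤ m := hm1 hψ1ne
  have hHZ : ∀ (h : H) (z : Subgroup.center G),
      avg K ψ (⟨(h : G) * z, Nn.mul_mem (hHN h.2) (hZN z.2)⟩ : Nn) = ω z * avg K ψ 1 := by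
    intro h z
    have e : (⟨(h : G) * z, Nn.mul_mem (hHN h.2) (hZN z.2)⟩ : Nn) =
        ⟨h, hHN h.2⟩ * ⟨z, hZN z.2⟩ := rfl
    rw [e, avg_mul_left K ψ (Subgroup.mem_subgroupOf.mpr h.2)]
    unfold avg
    have h1 : ∀ k : Nn, ind K k * ψ (k * ⟨z, hZN z.2⟩) = ω z * (ind K k * ψ (k * 1)) := by
      intro k
      have : ψ (k * ⟨z, hZN z.2⟩) = ω z * ψ (k * 1) := by
        rw [mul_one]
        exact hω z (k : G)
      rw [this]; ring
    simp only [h1]
    rw [← Finset.mul_sum]; ring
  -- sums over the normalizer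
  have hNne : (Nat.card Nn : ℂ) ≠ 0 := by
    have : 0 < Nat.card Nn := Nat.card_pos
    exact_mod_cast this.ne'
  have horth' : ∑ g : Nn, avg K ψ g * (starRingEnd ℂ) (ψ g - avg K ψ g) = 0 := by
    unfold classInner at horth
    rcases mul_eq_zero.mp horth with h | h
    · exact absurd (inv_eq_zero.mp h) hNne
    · exact h
  have hnorm1 : ∑ g : Nn, Complex.normSq (ψ g - avg K ψ g) = (Nat.card Nn : ℝ) * m := by
    unfold classInner at hm
    have h2 : ∑ g : Nn, (ψ - avg K ψ) g * (starRingEnd ℂ) ((ψ - avg K ψ) g) =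
        ((∑ g : Nn, Complex.normSq (ψ g - avg K ψ g) : ℝ) : ℂ) := by
      push_cast
      refine Finset.sum_congr rfl fun g _ => ?_
      rw [Complex.mul_conj]; rfl
    rw [h2] at hm
    have h3 : ((∑ g : Nn, Complex.normSq (ψ g - avg K ψ g) : ℝ) : ℂ) =
        (Nat.card Nn : ℂ) * m := by
      have := congrArg (fun t => (Nat.card Nn : ℂ) * t) hm
      simp only [← mul_assoc, mul_inv_cancel₀ hNne, one_mul] at this
      exact this
    exact_mod_cast h3
  set D : Finset Nn := Finset.univ.filter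
    (fun g : Nn => ¬ ∀ h ∈ H, h * (g : G) = (g : G) * h → h = 1) with hD
  have hnotD : ∀ g : Nn, g ∉ D → ψ g - avg K ψ g = 0 := by
    intro g hg
    apply hvan g
    by_contra hc
    exact hg (Finset.mem_filter.mpr ⟨Finset.mem_univ _, hc⟩)
  have hsplit : ∀ g : Nn, F (g : G) = Complex.normSq (avg K ψ g) +
      Complex.normSq (ψ g - avg K ψ g) +
      2 * (avg K ψ g * (starRingEnd ℂ) (ψ g - avg K ψ g)).re := by
    intro g
    have : (χ : G → ℂ) g = avg K ψ g + (ψ g - avg K ψ g) := by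
      simp only [hψ]; ring
    simp only [hF]
    rw [this, Complex.normSq_add]
  have hD1 : ∑ g ∈ D, Complex.normSq (ψ g - avg K ψ g) = (Nat.card Nn : ℝ) * m := by
    rw [← hnorm1]
    apply Finset.sum_subset (Finset.subset_univ _)
    intro g _ hg
    rw [hnotD g hg, map_zero]
  have hD2 : ∑ g ∈ D, (avg K ψ g * (starRingEnd ℂ) (ψ g - avg K ψ g)).re = 0 := by
    have : ∑ g ∈ D, (avg K ψ g * (starRingEnd ℂ) (ψ g - avg K ψ g)).re =
        ∑ g : Nn, (avg K ψ g * (starRingEnd ℂ) (ψ g - avg K ψ g)).re := by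
      apply Finset.sum_subset (Finset.subset_univ _)
      intro g _ hg
      rw [hnotD g hg, map_zero, mul_zero, Complex.zero_re]
    rw [this, ← Complex.re_sum, horth', Complex.zero_re]
  have hDF : ∑ g ∈ D, F (g : G) =
      ∑ g ∈ D, Complex.normSq (avg K ψ g) + (Nat.card Nn : ℝ) * m := by
    simp only [hsplit]
    rw [Finset.sum_add_distrib, Finset.sum_add_distrib, hD1, ← Finset.mul_sum, hD2]; ring
  have hD3 : (Nat.card H : ℝ) * (Nat.card (Subgroup.center G) : ℝ) *
      Complex.normSq (avg K ψ 1) ≤ ∑ g ∈ D, Complex.normSq (avg K ψ g) := by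
    set φ : H × Subgroup.center G → Nn :=
      fun p => ⟨(p.1 : G) * p.2, Nn.mul_mem (hHN p.1.2) (hZN p.2.2)⟩ with hφ
    have hinj : Function.Injective φ := by
      rintro ⟨h, z⟩ ⟨h', z'⟩ hp
      have e : (h : G) * z = (h' : G) * z' := congrArg Subtype.val hp
      have e2 : (h' : G)⁻¹ * h = z' * (z : G)⁻¹ := by
        calc (h' : G)⁻¹ * h = (h' : G)⁻¹ * (h * z) * (z : G)⁻¹ := by group
          _ = (h' : G)⁻¹ * (h' * z') * (z : G)⁻¹ := by rw [e]
          _ = z' * (z : G)⁻¹ := by group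
      have hmem : (h' : G)⁻¹ * h ∈ H ⊓ Subgroup.center G :=
        Subgroup.mem_inf.mpr ⟨H.mul_mem (H.inv_mem h'.2) h.2, by
          rw [e2]
          exact (Subgroup.center G).mul_mem z'.2 ((Subgroup.center G).inv_mem z.2)⟩
      rw [hZ, Subgroup.mem_bot] at hmem
      have hh : (h : G) = h' := (inv_mul_eq_one.mp hmem).symm
      have hz : (z : G) = z' := by
        rw [hh] at e; exact mul_left_cancel e
      exact Prod.ext (Subtype.ext hh) (Subtype.ext hz)
    have himg : Finset.univ.image φ ⊆ D := by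
      intro g hg
      obtain ⟨⟨h, z⟩, _, rfl⟩ := Finset.mem_image.mp hg
      rw [hD, Finset.mem_filter]
      refine ⟨Finset.mem_univ _, fun hc => hh₀1 (hc h₀ hh₀ ?_)⟩
      show h₀ * ((h : G) * z) = (h : G) * z * h₀
      calc h₀ * ((h : G) * z) = (h₀ * h) * z := by rw [mul_assoc]
        _ = (h * h₀) * z := by rw [hab h₀ hh₀ h h.2]
        _ = h * (h₀ * z) := by rw [mul_assoc]
        _ = h * (z * h₀) := by rw [(Subgroup.mem_center_iff.mp z.2) h₀]
        _ = h * z * h₀ := by rw [mul_assoc]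
    have hterm : ∀ p ∈ (Finset.univ : Finset (H × Subgroup.center G)),
        Complex.normSq (avg K ψ (φ p)) = Complex.normSq (avg K ψ 1) := by
      intro p _
      have : avg K ψ (φ p) = ω p.2 * avg K ψ 1 := hHZ p.1 p.2
      rw [this, Complex.normSq_mul, hωsq, one_mul]
    calc (Nat.card H : ℝ) * (Nat.card (Subgroup.center G) : ℝ) * Complex.normSq (avg K ψ 1)
        = ∑ p : H × Subgroup.center G, Complex.normSq (avg K ψ (φ p)) := by
          rw [Finset.sum_congr rfl hterm, Finset.sum_const, Finset.card_univ, nsmul_eq_mul,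
            ← Nat.card_eq_fintype_card, Nat.card_prod]
          push_cast; ring
      _ = ∑ g ∈ Finset.univ.image φ, Complex.normSq (avg K ψ g) :=
          (Finset.sum_image (f := fun g => Complex.normSq (avg K ψ g))
            (fun a _ b _ h => hinj h)).symm
      _ ≤ ∑ g ∈ D, Complex.normSq (avg K ψ g) :=
          Finset.sum_le_sum_of_subset_of_nonneg himg (fun _ _ _ => Complex.normSq_nonneg _)
  have hD4 : ∑ g ∈ D, F (g : G) = ∑ g ∈ Zf, F g + ∑ g ∈ S, F g := by
    have hdisj : Disjoint Zf S := by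
      rw [Finset.disjoint_left]; intro g hg hg'
      exact (Finset.mem_filter.mp hg').2.1 (Finset.mem_filter.mp hg).2
    rw [← Finset.sum_union hdisj]
    have hmap : D.map ⟨Subtype.val, Subtype.val_injective⟩ = Zf ∪ S := by
      ext y
      simp only [Finset.mem_map, Function.Embedding.coeFn_mk, Finset.mem_union, hD, hZf, hS,
        Finset.mem_filter, Finset.mem_univ, true_and]
      constructor
      · rintro ⟨g, hg, rfl⟩
        by_cases hc : (g : G) ∈ Subgroup.center G
        · left; exact hc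
        · right
          refine ⟨hc, ?_⟩
          push Not at hg
          obtain ⟨h, hh, hcomm, h1⟩ := hg
          exact ⟨h, hh, h1, hcomm⟩
      · rintro (hy | ⟨hyc, h, hh, h1, hcomm⟩)
        · refine ⟨⟨y, hZN hy⟩, ?_, rfl⟩
          intro hc
          exact hh₀1 (hc h₀ hh₀ ((Subgroup.mem_center_iff.mp hy) h₀))
        · refine ⟨⟨y, hSN y (Finset.mem_filter.mpr
            ⟨Finset.mem_univ _, hyc, h, hh, h1, hcomm⟩)⟩, ?_, rfl⟩
          intro hc; exact h1 (hc h hh hcomm)
    rw [← hmap, Finset.sum_map]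
    rfl
  -- identify the average at one
  have hacard : Nat.card K = Nat.card H :=
    Nat.card_congr (Subgroup.subgroupOfEquivOfLe hHN).toEquiv
  have hasum : ∑ k : Nn, ind K k * ψ (k * 1) = ∑ g : G, ind H g * (χ : G → ℂ) g := by
    have h1 : ∑ g : G, ind H g * (χ : G → ℂ) g =
        ∑ g ∈ Finset.univ.filter (fun g => g ∈ Nn), ind H g * (χ : G → ℂ) g := by
      symm
      apply Finset.sum_subset (Finset.subset_univ _)
      intro g _ hg
      have : g ∉ H := fun h => hg (Finset.mem_filter.mpr ⟨Finset.mem_univ _, hHN h⟩)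
      simp [ind, this]
    rw [h1, Finset.sum_subtype (p := fun g => g ∈ Nn)
      (Finset.univ.filter (fun g => g ∈ Nn)) (by simp)
      (fun g => ind H g * (χ : G → ℂ) g)]
    refine Finset.sum_congr rfl fun k _ => ?_
    rw [mul_one]
    have : ind K k = ind H (k : G) := by simp [ind, hK, Subgroup.mem_subgroupOf]
    rw [this]
  have ha : avg K ψ 1 = (Nat.card H : ℂ)⁻¹ * ∑ g : G, ind H g * (χ : G → ℂ) g := by
    unfold avg; rw [hasum, hacard]
  rw [← ha]
  -- arithmetic
  have hcH : (0 : ℝ) < Nat.card H := by exact_mod_cast Nat.card_pos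
  have hcZ : (0 : ℝ) < Nat.card (Subgroup.center G) := by exact_mod_cast Nat.card_pos
  have hcN : (0 : ℝ) < Nat.card Nn := by exact_mod_cast Nat.card_pos
  have hcG : (0 : ℝ) < Nat.card G := by exact_mod_cast Nat.card_pos
  have hF1 : 0 < F 1 := Complex.normSq_pos.mpr (Cfsg.Agent.Helper24.irr_one_ne_zero χ)
  have hm' : (1 : ℝ) ≤ m := by exact_mod_cast hm1'
  have key1 : (Nat.card H : ℝ) * (Nat.card (Subgroup.center G) : ℝ) *
      Complex.normSq (avg K ψ 1) + (Nat.card Nn : ℝ) * m ≤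
      (Nat.card (Subgroup.center G) : ℝ) * F 1 + ∑ g ∈ S, F g := by
    have := hDF
    rw [hD4, hAZ] at this
    linarith [hD3]
  have key2 : (Nat.card G : ℝ) * ∑ g ∈ S, F g ≤
      (Nat.card Nn : ℝ) * ((Nat.card G : ℝ) - (Nat.card (Subgroup.center G) : ℝ) * F 1) := by
    rw [hTsum] at hcount; exact hcount
  by_contra hcon
  push Not at hcon
  have hcon' : F 1 ≤ (Nat.card H : ℝ) * Complex.normSq (avg K ψ 1) := hcon
  have h1 := mul_le_mul_of_nonneg_left key1 hcG.le
  have h2 : (Nat.card G : ℝ) * (Nat.card Nn : ℝ) ≤ (Nat.card G : ℝ) * ((Nat.card Nn : ℝ) * m) := by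
    apply mul_le_mul_of_nonneg_left _ hcG.le
    exact le_mul_of_one_le_right hcN.le hm'
  have h3 : (Nat.card G : ℝ) * (Nat.card (Subgroup.center G) : ℝ) * F 1 ≤
      (Nat.card G : ℝ) * (Nat.card (Subgroup.center G) : ℝ) *
        ((Nat.card H : ℝ) * Complex.normSq (avg K ψ 1)) :=
    mul_le_mul_of_nonneg_left hcon' (by positivity)
  have h4 : 0 < (Nat.card Nn : ℝ) * (Nat.card (Subgroup.center G) : ℝ) * F 1 := by positivity
  nlinarith [h1, h2, h3, h4, key2]

end Cfsg.Agent.Helper5.FTL
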