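import Mathlib
import Cfsg.Prelude.Def_Characters
import Cfsg.Agent.Helper5.FTLemmaC
import Cfsg.Agent.Helper5.CharKer
import Cfsg.Agent.Helper24.Abelian
import Cfsg.Agent.Helper24.RealChar
import Cfsg.Agent.Helper24.Product

/-!
The Feit--Thompson lemma, second inequality: `(1 + χ(1))² > |H|`.
-/

namespace Cfsg.Agent.Helper5.FTL

open Cfsg Classical

variable {G : Type*} [Group G] [Fintype G]

/-- The `H`-average functional `f ↦ ⟨f_H, 1_H⟩`. -/
noncomputable def aH (H : Subgroup G) (f : G → ℂ) : ℂ :=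
  (Nat.card H : ℂ)⁻¹ * ∑ g : G, ind H g * f g

theorem aH_sum {ι : Type*} (s : Finset ι) (H : Subgroup G) (c : ι → ℂ) (f : ι → G → ℂ) :
    aH H (∑ i ∈ s, c i • f i) = ∑ i ∈ s, c i * aH H (f i) := by
  unfold aH
  simp only [Finset.sum_apply, Pi.smul_apply, smul_eq_mul, Finset.mul_sum]
  rw [Finset.sum_comm]
  refine Finset.sum_congr rfl fun i _ => Finset.sum_congr rfl fun g _ => ?_
  ring

theorem sum_ind_eq (H : Subgroup G) [Fintype H] (f : G → ℂ) :
    ∑ g : G, ind H g * f g = ∑ h : H, f h := by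
  have h1 : ∀ g : G, ind H g * f g = if g ∈ H then f g else 0 := by
    intro g
    unfold ind
    by_cases hg : g ∈ H <;> simp [hg]
  simp only [h1]
  rw [← Finset.sum_filter]
  exact Finset.sum_subtype (p := fun g => g ∈ H) (Finset.univ.filter (fun g => g ∈ H))
    (by simp) f

/-- For abelian `H`, `‖χ_H‖² ≥ χ(1)`. -/
theorem aH_normSq_ge (H : Subgroup G) (hab : ∀ a ∈ H, ∀ b ∈ H, a * b = b * a) {χ : G → ℂ}
    (hχ : IsCharacter G χ) :
    ∃ k n : ℕ, aH H (fun g => χ g * (starRingEnd ℂ) (χ g)) = k ∧ χ 1 = n ∧ n ≤ k := by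
  haveI : Fintype (IrrCharacter H) := Fintype.ofFinite _
  have hres : IsCharacter H (fun h : H => χ h) := Cfsg.Agent.Helper8.isCharacter_restrict H hχ
  obtain ⟨b, hb⟩ := Cfsg.Agent.Helper24.IsCharacter.exists_nat_coeff hres
  have hcomm : ∀ x y : H, x * y = y * x := fun x y =>
    Subtype.ext (hab x x.2 y y.2)
  have hlin := (Cfsg.Agent.Helper24.comm_iff_forall_irr_one (G := H)).mp hcomm
  refine ⟨∑ l : IrrCharacter H, b l ^ 2, ∑ l : IrrCharacter H, b l, ?_, ?_, ?_⟩
  · have h1 : classInner (fun h : H => χ h) (fun h : H => χ h) =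
        ((∑ l : IrrCharacter H, b l ^ 2 : ℕ) : ℂ) := by
      rw [hb, Cfsg.Agent.Helper24.classInner_sum_sum]
      push_cast
      refine Finset.sum_congr rfl fun l _ => ?_
      rw [Complex.conj_natCast]; ring
    rw [← h1]
    unfold classInner aH
    rw [sum_ind_eq H (fun g => χ g * (starRingEnd ℂ) (χ g))]
  · have h1 := congrFun hb 1
    simp only [Finset.sum_apply, Pi.smul_apply, smul_eq_mul, hlin, mul_one] at h1
    have h2 : χ ((1 : H) : G) = χ 1 := rfl
    rw [← h2, h1]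
    push_cast; rfl
  · refine Finset.sum_le_sum fun l _ => ?_
    exact Nat.le_self_pow (by norm_num) _

theorem aH_triv (H : Subgroup G) : aH H (fun _ => (1 : ℂ)) = 1 := by
  unfold aH
  simp only [mul_one]
  rw [sum_ind, inv_mul_cancel₀ (card_ne_zero H)]

set_option maxHeartbeats 1600000 in
/-- The Feit--Thompson lemma, second inequality. -/
theorem part2 (H : Subgroup G)
    (hab : ∀ a ∈ H, ∀ b ∈ H, a * b = b * a)
    (hZ : H ⊓ Subgroup.center G = ⊥)
    (hone : ∀ g : G, g ∉ Subgroup.center G → ∀ a b : G,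
      Subgroup.centralizer ({g} : Set G) ⊓ H.map (MulAut.conj a).toMonoidHom ≠ ⊥ →
      Subgroup.centralizer ({g} : Set G) ⊓ H.map (MulAut.conj b).toMonoidHom ≠ ⊥ →
      H.map (MulAut.conj a).toMonoidHom = H.map (MulAut.conj b).toMonoidHom)
    (χ : IrrCharacter G) (hne : (χ : G → ℂ) 1 ≠ 1)
    (hgen : ∀ M : Subgroup G, M.Normal → H ≤ M → M = ⊤) :
    (Nat.card H : ℝ) < (1 + ((χ : G → ℂ) 1).re) ^ 2 := by
  haveI : Fintype (IrrCharacter G) := Fintype.ofFinite _
  obtain ⟨n, hn1⟩ : ∃ n : ℕ, (χ : G → ℂ) 1 = (n : ℂ) :=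
    ⟨_, Cfsg.Agent.Helper24.irrDeg_spec χ⟩
  have hn2 : 2 ≤ n := by
    have hpos := Cfsg.Agent.Helper24.irrDeg_pos χ
    have h1 : n = Cfsg.Agent.Helper24.irrDeg χ := by
      have := Cfsg.Agent.Helper24.irrDeg_spec χ
      rw [hn1] at this
      exact_mod_cast this
    have : n ≠ 1 := fun h => hne (by rw [hn1, h]; simp)
    omega
  have hχc := Cfsg.Agent.Helper24.IsIrrCharacter.isCharacter χ.2
  have hθc : IsCharacter G
      (fun g => (χ : G → ℂ) g * (starRingEnd ℂ) ((χ : G → ℂ) g)) :=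
    Cfsg.Agent.Helper24.IsCharacter.mul hχc (Cfsg.Agent.Helper24.isCharacter_star hχc)
  obtain ⟨c, hc⟩ := Cfsg.Agent.Helper24.IsCharacter.exists_nat_coeff hθc
  set tr := Cfsg.Agent.Helper24.trivIrr G with htr
  -- coefficient of the trivial character
  have hc1 : c tr = 1 := by
    have h1 : classInner (fun g => (χ : G → ℂ) g * (starRingEnd ℂ) ((χ : G → ℂ) g))
        (tr : G → ℂ) = c tr := by
      rw [hc]; exact Cfsg.Agent.Helper24.classInner_sum_irr _ _
    have h2 : classInner (fun g => (χ : G → ℂ) g * (starRingEnd ℂ) ((χ : G → ℂ) g))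
        (tr : G → ℂ) = 1 := by
      have := Cfsg.Agent.Helper24.classInner_irr_self χ
      unfold classInner at this ⊢
      simp only [htr, Cfsg.Agent.Helper24.trivIrr_apply, map_one, mul_one]
      exact this
    rw [h2] at h1
    exact_mod_cast h1.symm
  obtain ⟨k, n', hk, hn', hnk⟩ := aH_normSq_ge H hab hχc
  have hnn : n' = n := by
    rw [hn1] at hn'; exact_mod_cast hn'.symm
  rw [hnn] at hnk
  have hsum : (k : ℂ) = ∑ ψ : IrrCharacter G, (c ψ : ℂ) * aH H (ψ : G → ℂ) := by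
    rw [← hk, hc, aH_sum]
  have hdeg : ((n : ℂ)) ^ 2 = ∑ ψ : IrrCharacter G, (c ψ : ℂ) * (ψ : G → ℂ) 1 := by
    have := congrFun hc 1
    simp only [Finset.sum_apply, Pi.smul_apply, smul_eq_mul, hn1, Complex.conj_natCast] at this
    rw [← this]; ring
  -- nonprincipal constituents
  have hψ : ∀ ψ : IrrCharacter G, ψ ≠ tr →
      (Nat.card H : ℝ) * Complex.normSq (aH H (ψ : G → ℂ)) < Complex.normSq ((ψ : G → ℂ) 1) := by
    intro ψ hψne
    apply part1 H hab hZ hone ψ
    by_contra hcon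
    push Not at hcon
    have hle : H ≤ charKer ψ := fun h hh => (mem_charKer ψ h).mpr (hcon h hh)
    have htop := hgen (charKer ψ) inferInstance hle
    have hall : ∀ g, (ψ : G → ℂ) g = (ψ : G → ℂ) 1 := fun g =>
      (mem_charKer ψ g).mp (htop ▸ Subgroup.mem_top g)
    apply hψne
    by_contra hne2
    have h0 := Cfsg.Agent.Helper24.classInner_irr_ne hne2
    unfold classInner at h0
    simp only [hall, htr, Cfsg.Agent.Helper24.trivIrr_apply, map_one, mul_one, Finset.sum_const,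
      Finset.card_univ, nsmul_eq_mul] at h0
    have hG : (Nat.card G : ℂ) ≠ 0 := by
      have : 0 < Nat.card G := Nat.card_pos
      exact_mod_cast this.ne'
    rw [← Nat.card_eq_fintype_card, ← mul_assoc, inv_mul_cancel₀ hG, one_mul] at h0
    exact Cfsg.Agent.Helper24.irr_one_ne_zero ψ h0
  -- real numbers
  set s : ℝ := Real.sqrt (Nat.card H) with hs
  have hs0 : 0 ≤ s := Real.sqrt_nonneg _
  have hss : s * s = (Nat.card H : ℝ) := Real.mul_self_sqrt (Nat.cast_nonneg _)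
  have hψr : ∀ ψ : IrrCharacter G, ψ ≠ tr →
      s * (aH H (ψ : G → ℂ)).re < ((ψ : G → ℂ) 1).re := by
    intro ψ hne'
    have h1 := hψ ψ hne'
    have hd := Cfsg.Agent.Helper24.irrDeg_spec ψ
    have hpos := Cfsg.Agent.Helper24.irrDeg_pos ψ
    have h2 : Complex.normSq ((ψ : G → ℂ) 1) = (((ψ : G → ℂ) 1).re) ^ 2 := by
      rw [hd]; simp [Complex.normSq_apply]; ring
    have h3 : 0 ≤ ((ψ : G → ℂ) 1).re := by rw [hd]; simp
    have h4 : (aH H (ψ : G → ℂ)).re ^ 2 ≤ Complex.normSq (aH H (ψ : G → ℂ)) := by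
      rw [Complex.normSq_apply]; nlinarith [mul_self_nonneg (aH H (ψ : G → ℂ)).im]
    have h5 : (s * (aH H (ψ : G → ℂ)).re) ^ 2 < (((ψ : G → ℂ) 1).re) ^ 2 := by
      rw [← h2, mul_pow, sq s, hss]
      have : (0 : ℝ) ≤ Nat.card H := Nat.cast_nonneg _
      nlinarith
    exact lt_of_le_of_lt (le_abs_self _) (abs_lt_of_sq_lt_sq h5 h3)
  -- the sums
  have hk' : (k : ℝ) = ∑ ψ : IrrCharacter G, (c ψ : ℝ) * (aH H (ψ : G → ℂ)).re := by
    have := congrArg Complex.re hsum
    simp only [Complex.natCast_re, Complex.re_sum, Complex.mul_re, Complex.natCast_im, zero_mul,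
      sub_zero] at this
    exact this
  have hnsq : ((n : ℝ)) ^ 2 = ∑ ψ : IrrCharacter G, (c ψ : ℝ) * ((ψ : G → ℂ) 1).re := by
    have := congrArg Complex.re hdeg
    simp only [Complex.re_sum, Complex.mul_re, Complex.natCast_im, zero_mul,
      sub_zero, Complex.natCast_re] at this
    rw [← this]
    norm_cast
  rw [← Finset.add_sum_erase Finset.univ _ (Finset.mem_univ tr)] at hk' hnsq
  have htr1 : ((tr : G → ℂ) 1).re = 1 := by simp [htr]
  have htrA : (aH H (tr : G → ℂ)).re = 1 := by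
    have : (tr : G → ℂ) = fun _ => (1 : ℂ) := rfl
    rw [this, aH_triv]; simp
  rw [hc1, htrA, Nat.cast_one, one_mul] at hk'
  rw [hc1, htr1, Nat.cast_one, one_mul] at hnsq
  have hlt : s * ∑ ψ ∈ Finset.univ.erase tr, (c ψ : ℝ) * (aH H (ψ : G → ℂ)).re <
      ∑ ψ ∈ Finset.univ.erase tr, (c ψ : ℝ) * ((ψ : G → ℂ) 1).re := by
    rw [Finset.mul_sum]
    apply Finset.sum_lt_sum
    · intro ψ hψm
      have hne' : ψ ≠ tr := Finset.ne_of_mem_erase hψm
      have := hψr ψ hne'
      have hc0 : (0 : ℝ) ≤ c ψ := Nat.cast_nonneg _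
      nlinarith
    · -- existence of a nonprincipal constituent
      by_contra hcon
      push Not at hcon
      have hzero : ∀ ψ ∈ Finset.univ.erase tr, (c ψ : ℝ) * ((ψ : G → ℂ) 1).re = 0 := by
        intro ψ hψm
        have hne' : ψ ≠ tr := Finset.ne_of_mem_erase hψm
        have h1 := hcon ψ hψm
        have h2 := hψr ψ hne'
        have hc0 : (0 : ℝ) ≤ c ψ := Nat.cast_nonneg _
        rcases hc0.eq_or_lt with h | h
        · rw [← h, zero_mul]
        · exfalso
          have : (c ψ : ℝ) * (s * (aH H (ψ : G → ℂ)).re) < (c ψ : ℝ) * ((ψ : G → ℂ) 1).re :=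
            mul_lt_mul_of_pos_left h2 h
          nlinarith
      rw [Finset.sum_eq_zero hzero] at hnsq
      have hn2' : (2 : ℝ) ≤ n := by exact_mod_cast hn2
      nlinarith
  have hnk' : (n : ℝ) ≤ k := by exact_mod_cast hnk
  have hn2' : (2 : ℝ) ≤ n := by exact_mod_cast hn2
  have hre : ((χ : G → ℂ) 1).re = n := by rw [hn1]; simp
  rw [hre, ← hss]
  -- n² - 1 > s (k - 1) ≥ s (n - 1)
  have hA : ∑ ψ ∈ Finset.univ.erase tr, (c ψ : ℝ) * (aH H (ψ : G → ℂ)).re = k - 1 := by
    linarith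
  have hB : ∑ ψ ∈ Finset.univ.erase tr, (c ψ : ℝ) * ((ψ : G → ℂ) 1).re = (n : ℝ) ^ 2 - 1 := by
    linarith
  rw [hA, hB] at hlt
  have h6 : s * ((n : ℝ) - 1) ≤ s * ((k : ℝ) - 1) :=
    mul_le_mul_of_nonneg_left (by linarith) hs0
  have h7 : s < n + 1 := by
    by_contra hcon
    push Not at hcon
    nlinarith
  nlinarith

end Cfsg.Agent.Helper5.FTL
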