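import Mathlib
import Cfsg.Prelude.Def_Characters
import Cfsg.Prelude.Def_Blocks
import Cfsg.Agent.Helper5.FTBa
import Cfsg.Agent.Helper5.CharKer
import Cfsg.Agent.S0898
import Cfsg.Agent.S4472
import Cfsg.Agent.Helper24.SmallDegree
import Cfsg.Agent.Helper24.Orthogonality
import Cfsg.Agent.Helper14.PCore

/-!
# Feit–Thompson–Blichfeldt: the character-theoretic part and the induction
-/

set_option autoImplicit false
set_option linter.style.haveILetI false

namespace Cfsg.Agent.Helper5.FTB

open Subgroup Cfsg Cfsg.Agent.Helper24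
open scoped Pointwise

universe u

section

variable {G : Type u} [Group G] [Finite G] {n p : ℕ} [hp : Fact p.Prime]

theorem comm_of_sylow (ρ : Representation ℂ G (Fin n → ℂ)) (hρ : Function.Injective ρ)
    (hnp : n < p) (Q : Sylow p G) :
    ∀ a ∈ (Q : Subgroup G), ∀ b ∈ (Q : Subgroup G), a * b = b * a := by
  intro a ha b hb
  have hinj : Function.Injective (ρ.comp (Q : Subgroup G).subtype) := by
    intro x y hxy
    exact Subtype.ext (hρ hxy)
  have hdeg : ∀ q : ℕ, q.Prime → q ∣ Nat.card ↥(Q : Subgroup G) →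
      Module.finrank ℂ (Fin n → ℂ) < q := by
    intro q hq hqd
    obtain ⟨k, hk⟩ := IsPGroup.iff_card.1 Q.2
    rw [hk] at hqd
    have h1 := (Nat.prime_dvd_prime_iff_eq hq hp.out).1 (hq.dvd_of_dvd_pow hqd)
    rw [Module.finrank_fin_fun, h1]
    exact hnp
  have h := comm_of_faithful_small_degree (G := ↥(Q : Subgroup G))
    (ρ.comp (Q : Subgroup G).subtype) hinj hdeg ⟨a, ha⟩ ⟨b, hb⟩
  exact congrArg Subtype.val h

theorem faithful_char (ρ : Representation ℂ G (Fin n → ℂ)) (hρ : Function.Injective ρ) :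
    ∀ g : G, ρ.character g = ρ.character 1 → g = 1 := by
  intro g hg
  rw [Representation.char_one, char_eq_finrank_iff] at hg
  apply hρ
  rw [hg, map_one]
  rfl

/-- Ito: a `p`-solvable group with a faithful representation of degree `n < p - 1` has a normal
Sylow `p`-subgroup (from the bound S4472). -/
theorem NS_of_isPSolvable (ρ : Representation ℂ G (Fin n → ℂ)) (hρ : Function.Injective ρ)
    (hnp : n + 1 < p) (hsol : IsPSolvable p G) : NS p G := by
  have hpp := hp.out
  have hdeg : Cfsg.charDegree ρ.character = n := by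
    unfold Cfsg.charDegree
    rw [Representation.char_one, Module.finrank_fin_fun]
    simp
  have h := Cfsg.Agent.S4472.result ρ.character ⟨n, ρ, rfl⟩ (faithful_char ρ hρ) n hdeg p hpp hsol
  have hsum : ∑ i ∈ Finset.range (n + 1), n / ((p - 1) * p ^ i) = 0 := by
    apply Finset.sum_eq_zero
    intro i _
    apply Nat.div_eq_of_lt
    calc n < p - 1 := by omega
      _ = (p - 1) * 1 := (mul_one _).symm
      _ ≤ (p - 1) * p ^ i := Nat.mul_le_mul_left _ (Nat.one_le_pow _ _ hpp.pos)
  rw [hsum, Nat.le_zero] at h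
  have hnd : ¬ p ∣ (pCore p G).index := by
    rcases (Nat.factorization_eq_zero_iff _ _).1 h with h1 | h1 | h1
    · exact absurd hpp h1
    · exact h1
    · exact absurd h1 (Subgroup.index_ne_zero_of_finite)
  intro Q
  have hle : pCore p G ≤ (Q : Subgroup G) := Cfsg.Agent.Helper14.pCore_le_sylow p Q
  have h1 : (pCore p G).relIndex (Q : Subgroup G) ∣ (pCore p G).index :=
    Subgroup.relIndex_dvd_index_of_le hle
  have h2 : (pCore p G).relIndex (Q : Subgroup G) ∣ Nat.card (Q : Subgroup G) := by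
    rw [Subgroup.relIndex]
    exact Subgroup.index_dvd_card _
  obtain ⟨a, ha⟩ := IsPGroup.iff_card.1 Q.2
  rw [ha] at h2
  obtain ⟨j, -, hj⟩ := (Nat.dvd_prime_pow hpp).1 h2
  have hj0 : j = 0 := by
    by_contra hne
    apply hnd
    refine dvd_trans ?_ h1
    rw [hj]
    exact dvd_pow_self p hne
  rw [hj0, pow_zero, Subgroup.relIndex_eq_one] at hj
  have heq : (Q : Subgroup G) = pCore p G := le_antisymm hj hle
  rw [heq]
  infer_instance

theorem inf_center_eq_bot_of_conj (P : Sylow p G) (hZ : (P : Subgroup G) ⊓ center G = ⊥)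
    (Q : Sylow p G) : (Q : Subgroup G) ⊓ center G = ⊥ := by
  obtain ⟨g, rfl⟩ := MulAction.exists_smul_eq G P Q
  rw [eq_bot_iff]
  rintro z ⟨hzQ, hzZ'⟩
  have hzZ : z ∈ center G := hzZ'
  rw [mem_bot]
  have h1 : z ∈ MulAut.conj g • (P : Subgroup G) := hzQ
  rw [Subgroup.mem_pointwise_smul_iff_inv_smul_mem] at h1
  have h2 : (MulAut.conj g)⁻¹ • z = z := by
    show (MulAut.conj g)⁻¹ z = z
    rw [← map_inv, MulAut.conj_apply, inv_inv]
    have hc := mem_center_iff.1 hzZ
    rw [hc g⁻¹, inv_mul_cancel_right]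
  rw [h2] at h1
  have h3 : z ∈ (P : Subgroup G) ⊓ center G := ⟨h1, hzZ⟩
  rwa [hZ, mem_bot] at h3

theorem irrDeg_eq_one_of_const (ψ : IrrCharacter G) (h : ∀ g : G, (ψ : G → ℂ) g = (ψ : G → ℂ) 1) :
    irrDeg ψ = 1 := by
  classical
  haveI : Fintype G := Fintype.ofFinite G
  have h1 := classInner_irr_self ψ
  unfold classInner at h1
  have h2 : ∑ g : G, (ψ : G → ℂ) g * (starRingEnd ℂ) ((ψ : G → ℂ) g) =
      (Nat.card G : ℂ) * ((irrDeg ψ : ℂ) * (irrDeg ψ : ℂ)) := by
    rw [Finset.sum_congr rfl (fun g _ => by rw [h g, irrDeg_spec, Complex.conj_natCast])]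
    rw [Finset.sum_const, Finset.card_univ, nsmul_eq_mul, Nat.card_eq_fintype_card]
  rw [h2] at h1
  have hcard : (Nat.card G : ℂ) ≠ 0 := by
    have : 0 < Nat.card G := Nat.card_pos
    exact_mod_cast this.ne'
  rw [← mul_assoc, inv_mul_cancel₀ hcard, one_mul] at h1
  have h3 : irrDeg ψ * irrDeg ψ = 1 := by exact_mod_cast h1
  exact Nat.eq_one_of_mul_eq_one_right h3

/-- the Feit–Thompson inequality in the minimal situation with `P ∩ Z(G) = 1` -/
theorem card_lt_of_center_bot (ρ : Representation ℂ G (Fin n → ℂ)) (hρ : Function.Injective ρ)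
    (P : Sylow p G) (hab : ∀ Q : Sylow p G, ∀ a ∈ Q, ∀ b ∈ Q, a * b = b * a)
    (hnn : ¬ (P : Subgroup G).Normal) (hmin : ∀ K : Subgroup G, K ≠ ⊤ → NS p ↥K)
    (hZ : (P : Subgroup G) ⊓ center G = ⊥) :
    (Nat.card (P : Subgroup G) : ℝ) < ((n : ℝ) + 1) ^ 2 := by
  classical
  haveI : Fintype G := Fintype.ofFinite G
  haveI : Fintype ↥(P : Subgroup G) := Fintype.ofFinite _
  have hZall := inf_center_eq_bot_of_conj P hZ
  obtain ⟨m, hm⟩ := exists_multiset_irr ρ
  have hsum := multiset_map_irr_sum_apply m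
  have hone' : n = (m.map (fun χ : IrrCharacter G => irrDeg χ)).sum := by
    have hone : ((n : ℕ) : ℂ) = ((m.map (fun χ : IrrCharacter G => irrDeg χ)).sum : ℕ) := by
      have h0 := Representation.char_one ρ
      rw [Module.finrank_fin_fun] at h0
      rw [← h0, hm, hsum]
      push_cast
      rw [Multiset.map_map]
      congr 1
      refine Multiset.map_congr rfl ?_
      intro ψ _
      simp [irrDeg_spec]
    exact_mod_cast hone
  have hnormal : ∀ M : Subgroup G, M.Normal → (P : Subgroup G) ≤ M → M = ⊤ :=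
    fun M hM hPM => eq_top_of_normal_of_le P hnn hmin M hM hPM
  -- a nonlinear constituent nontrivial on `P`
  obtain ⟨ψ, hψm, hψ1, h, hhP, hne⟩ : ∃ ψ ∈ m, irrDeg ψ ≠ 1 ∧
      ∃ h ∈ (P : Subgroup G), (ψ : G → ℂ) h ≠ (ψ : G → ℂ) 1 := by
    by_contra hall
    push Not at hall
    have hlin : ∀ ψ ∈ m, (ψ : G → ℂ) 1 = 1 := by
      intro ψ hψ
      rw [← irrDeg_eq_one_iff]
      by_contra hnl
      have h1 := hall ψ hψ hnl
      have h2 : (P : Subgroup G) ≤ charKer ψ := fun x hx => (mem_charKer ψ x).2 (h1 x hx)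
      have h3 := hnormal (charKer ψ) inferInstance h2
      apply hnl
      apply irrDeg_eq_one_of_const
      intro g
      have : g ∈ charKer ψ := by rw [h3]; exact mem_top g
      exact (mem_charKer ψ g).1 this
    apply hnn
    refine ⟨fun x hx g => ?_⟩
    have hid := rho_commutator_eq_id_of_linear ρ m hm hlin g x
    have h1 : ρ (g * x * g⁻¹ * x⁻¹) = ρ 1 := by rw [hid, map_one]; rfl
    have h2 := hρ h1
    have h3 : g * x * g⁻¹ = x := by
      calc g * x * g⁻¹ = (g * x * g⁻¹ * x⁻¹) * x := by group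
        _ = x := by rw [h2, one_mul]
    rw [h3]
    exact hx
  have hdle : irrDeg ψ ≤ n := by
    rw [hone']
    exact Multiset.single_le_sum (fun _ _ => Nat.zero_le _) _ (Multiset.mem_map_of_mem _ hψm)
  have hone : ∀ g : G, g ∉ center G → ∀ a b : G,
      centralizer ({g} : Set G) ⊓ (P : Subgroup G).map (MulAut.conj a).toMonoidHom ≠ ⊥ →
      centralizer ({g} : Set G) ⊓ (P : Subgroup G).map (MulAut.conj b).toMonoidHom ≠ ⊥ →
      (P : Subgroup G).map (MulAut.conj a).toMonoidHom =
        (P : Subgroup G).map (MulAut.conj b).toMonoidHom := by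
    intro g hg a b ha hb
    have e1 : ((a • P : Sylow p G) : Subgroup G) =
        (P : Subgroup G).map (MulAut.conj a).toMonoidHom := rfl
    have e2 : ((b • P : Sylow p G) : Subgroup G) =
        (P : Subgroup G).map (MulAut.conj b).toMonoidHom := rfl
    rw [← e1] at ha ⊢
    rw [← e2] at hb ⊢
    rw [ti hab hmin hZall g hg (a • P) (b • P) ha hb]
  have hres := (Cfsg.Agent.S0898.result (P : Subgroup G) (hab P) hZ hone (ψ : G → ℂ) ψ.2
    ⟨h, hhP, hne⟩).2
  have hψ1' : (ψ : G → ℂ) 1 ≠ 1 := by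
    rw [Ne, ← irrDeg_eq_one_iff]
    exact hψ1
  have hfin := hres hψ1' hnormal
  rw [irrDeg_spec] at hfin
  have hre : ((irrDeg ψ : ℂ)).re = (irrDeg ψ : ℝ) := Complex.natCast_re _
  rw [hre] at hfin
  have hle : (1 + (irrDeg ψ : ℝ)) ^ 2 ≤ ((n : ℝ) + 1) ^ 2 := by
    have : (irrDeg ψ : ℝ) ≤ (n : ℝ) := by exact_mod_cast hdle
    nlinarith [Nat.cast_nonneg (α := ℝ) (irrDeg ψ)]
  exact lt_of_lt_of_le hfin hle

end

/-- the hypothesis of the Feit–Thompson–Blichfeldt theorem -/
def Hyp (n p : ℕ) (G : Type*) [Group G] : Prop :=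
  (n + 1) ^ 2 ≤ p ∨ (n + 1 < p ∧ ∀ K : Subgroup G, ¬ p ^ 2 ∣ Nat.card K → NS p ↥K)

theorem Hyp.subgroup {n p : ℕ} {G : Type*} [Group G] [Finite G] (h : Hyp n p G) (K : Subgroup G) :
    Hyp n p ↥K := by
  rcases h with h | ⟨h1, h2⟩
  · exact Or.inl h
  · refine Or.inr ⟨h1, ?_⟩
    intro L hL
    have hcard : Nat.card ↥(L.map K.subtype) = Nat.card ↥L :=
      Subgroup.card_map_of_injective K.subtype_injective
    have h3 := h2 (L.map K.subtype) (by rw [hcard]; exact hL)
    exact h3.of_mulEquiv (L.equivMapOfInjective K.subtype K.subtype_injective).symm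

theorem main (n p : ℕ) [hp : Fact p.Prime] : ∀ (N : ℕ) (G : Type u) [Group G] [Finite G],
    Nat.card G = N → ∀ ρ : Representation ℂ G (Fin n → ℂ), Function.Injective ρ →
    Hyp n p G → NS p G := by
  intro N
  induction N using Nat.strong_induction_on with
  | _ N ih =>
    intro G _ _ hN ρ hρ hyp
    have hpp := hp.out
    -- degree zero
    rcases Nat.eq_zero_or_pos n with hn0 | hn0
    · subst hn0
      haveI : Subsingleton G := by
        refine ⟨fun a b => hρ ?_⟩
        apply LinearMap.ext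
        intro v
        exact Subsingleton.elim _ _
      intro Q
      refine ⟨fun x hx g => ?_⟩
      rw [Subsingleton.elim (g * x * g⁻¹) x]
      exact hx
    have hn1 : n + 1 < p := by
      rcases hyp with h | ⟨h, -⟩
      · have : n + 1 < (n + 1) ^ 2 := by nlinarith
        omega
      · exact h
    have hmin : ∀ K : Subgroup G, K ≠ ⊤ → NS p ↥K := by
      intro K hK
      have hlt : Nat.card ↥K < N := by
        rw [← hN]
        rcases lt_or_eq_of_le (Subgroup.card_le_card_group K) with h | h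
        · exact h
        · exact absurd (Subgroup.eq_top_of_card_eq K h) hK
      have hinj : Function.Injective (ρ.comp K.subtype) := by
        intro x y hxy
        exact Subtype.ext (hρ hxy)
      exact ih (Nat.card ↥K) hlt ↥K rfl (ρ.comp K.subtype) hinj (hyp.subgroup K)
    by_contra hNS
    unfold NS at hNS
    push Not at hNS
    obtain ⟨P, hnn⟩ := hNS
    have hab : ∀ Q : Sylow p G, ∀ a ∈ Q, ∀ b ∈ Q, a * b = b * a :=
      fun Q => comm_of_sylow ρ hρ (by omega) Q
    by_cases hZ : (P : Subgroup G) ⊓ center G = ⊥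
    · have hlt := card_lt_of_center_bot ρ hρ P hab hnn hmin hZ
      have hPne : (P : Subgroup G) ≠ ⊥ := by
        intro h
        apply hnn
        rw [h]
        infer_instance
      obtain ⟨a, ha⟩ := IsPGroup.iff_card.1 P.2
      have ha0 : a ≠ 0 := by
        intro h0
        rw [h0, pow_zero] at ha
        exact hPne ((Subgroup.card_eq_one).1 ha)
      rcases hyp with h | ⟨-, h⟩
      · have h1 : p ≤ Nat.card (P : Subgroup G) := by
          rw [ha]
          calc p = p ^ 1 := (pow_one p).symm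
            _ ≤ p ^ a := Nat.pow_le_pow_right hpp.pos (Nat.one_le_iff_ne_zero.2 ha0)
        have h2 : ((n + 1) ^ 2 : ℕ) ≤ Nat.card (P : Subgroup G) := h.trans h1
        have h3 : (((n + 1) ^ 2 : ℕ) : ℝ) ≤ (Nat.card (P : Subgroup G) : ℝ) := by exact_mod_cast h2
        push_cast at h3
        linarith
      · have hp2 : p ^ 2 ∣ Nat.card G := by
          by_contra hnd
          have h1 : ¬ p ^ 2 ∣ Nat.card ↥(⊤ : Subgroup G) := by
            rw [Subgroup.card_top]; exact hnd
          have h2 := (h ⊤ h1).of_mulEquiv Subgroup.topEquiv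
          exact hnn (h2 P)
        have ha2 : 2 ≤ a := by
          have h1 : p ^ 2 ∣ Nat.card (P : Subgroup G) := by
            rw [P.card_eq_multiplicity]
            exact pow_dvd_pow p
              ((Nat.Prime.pow_dvd_iff_le_factorization hpp Nat.card_pos.ne').1 hp2)
          rw [ha] at h1
          exact (Nat.pow_dvd_pow_iff_le_right hpp.one_lt).1 h1
        have h1 : p ^ 2 ≤ Nat.card (P : Subgroup G) := by
          rw [ha]
          exact Nat.pow_le_pow_right hpp.pos ha2
        have h2 : (n + 1) ^ 2 < p ^ 2 := Nat.pow_lt_pow_left hn1 (by norm_num)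
        have h3 : (((n + 1) ^ 2 : ℕ) : ℝ) < (Nat.card (P : Subgroup G) : ℝ) := by
          exact_mod_cast lt_of_lt_of_le h2 h1
        push_cast at h3
        linarith
    · obtain ⟨K, hKn, hKc, hKi⟩ := exists_normal_compl P (hab P) hnn hmin hZ
      have hsol := isPSolvable_of_normal_compl K hKn hKc hKi
      exact hnn (NS_of_isPSolvable ρ hρ hn1 hsol P)

end Cfsg.Agent.Helper5.FTB
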