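import Mathlib
import Cfsg.Prelude.Def_Blocks
import Cfsg.Agent.Helper5.FongReynolds3
import Cfsg.Agent.Helper5.DefectOrder
import Cfsg.Agent.S0917

set_option autoImplicit false
set_option linter.unusedSectionVars false
set_option linter.unusedVariables false

/-!
# Fong–Reynolds, part D: defect groups and heights
-/

namespace Cfsg.Agent.Helper5.FR

open Cfsg Cfsg.Agent.Helper24 Cfsg.Agent.Helper5 Cfsg.Agent.Helper5.Loc Cfsg.Agent.Helper5.CC
open Cfsg.Agent.Helper8

variable {G : Type*} [Group G] [Fintype G] {M : Ideal AlgInt}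

theorem sInf_image_add (S : Set ℕ) (hS : S.Nonempty) (c : ℕ) :
    sInf ((fun k => k + c) '' S) = sInf S + c := by
  have hS' : ((fun k => k + c) '' S).Nonempty := hS.image _
  apply le_antisymm
  · exact Nat.sInf_le ⟨sInf S, Nat.sInf_mem hS, rfl⟩
  · obtain ⟨k, hk, hk'⟩ := Nat.sInf_mem hS'
    rw [← hk']
    exact Nat.add_le_add_right (Nat.sInf_le hk) c

theorem charDegree_indIrr (T : Subgroup G) [Fintype T] (ψ : IrrCharacter T)
    (h : IsIrrCharacter G (indFun T (ψ : T → ℂ))) :
    charDegree (indIrr T ψ : G → ℂ) = T.index * charDegree (ψ : T → ℂ) := by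
  have : Finite G := Finite.of_fintype G
  have : Finite T := Finite.of_fintype T
  rw [charDegree_eq_irrDeg, charDegree_eq_irrDeg]
  have h1 : ((irrDeg (indIrr T ψ) : ℕ) : ℂ) = ((T.index * irrDeg ψ : ℕ) : ℂ) := by
    rw [← irrDeg_spec, indIrr_coe T ψ h, indFun_apply_one, irrDeg_spec]
    push_cast
    rfl
  exact_mod_cast h1

theorem factorization_charDegree_indIrr (p : ℕ) (T : Subgroup G) [Fintype T] (ψ : IrrCharacter T)
    (h : IsIrrCharacter G (indFun T (ψ : T → ℂ))) :
    (charDegree (indIrr T ψ : G → ℂ)).factorization p =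
      (charDegree (ψ : T → ℂ)).factorization p + T.index.factorization p := by
  have : Finite T := Finite.of_fintype T
  rw [charDegree_indIrr T ψ h, Nat.factorization_mul Subgroup.index_ne_zero_of_finite
    (by rw [charDegree_eq_irrDeg]; exact (irrDeg_pos ψ).ne'), Finsupp.add_apply, add_comm]

theorem image_factorization (p : ℕ) (T : Subgroup G) [Fintype T] (B' : Set (IrrCharacter T))
    (hirr : ∀ ψ ∈ B', IsIrrCharacter G (indFun T (ψ : T → ℂ))) :
    (fun χ : IrrCharacter G => (charDegree (χ : G → ℂ)).factorization p) '' (indIrr T '' B') =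
      (fun k => k + T.index.factorization p) ''
        ((fun ψ : IrrCharacter T => (charDegree (ψ : T → ℂ)).factorization p) '' B') := by
  rw [Set.image_image, Set.image_image]
  apply Set.image_congr
  intro ψ hψ
  exact factorization_charDegree_indIrr p T ψ (hirr ψ hψ)

/-- Heights are preserved. -/
theorem blockHeight_indIrr (p : ℕ) (T : Subgroup G) [Fintype T] (B' : Set (IrrCharacter T))
    (hirr : ∀ ψ ∈ B', IsIrrCharacter G (indFun T (ψ : T → ℂ))) (ψ : IrrCharacter T)
    (hψ : ψ ∈ B') :
    blockHeight p (indIrr T '' B') (indIrr T ψ : G → ℂ) = blockHeight p B' (ψ : T → ℂ) := by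
  unfold blockHeight
  have hne : ((fun ψ : IrrCharacter T => (charDegree (ψ : T → ℂ)).factorization p) '' B').Nonempty :=
    ⟨_, ψ, hψ, rfl⟩
  rw [image_factorization p T B' hirr, sInf_image_add _ hne,
    factorization_charDegree_indIrr p T ψ (hirr ψ hψ), Nat.add_sub_add_right]

/-- Defects are preserved. -/
theorem blockDefect_image (p : ℕ) (T : Subgroup G) [Fintype T] (B' : Set (IrrCharacter T))
    (hirr : ∀ ψ ∈ B', IsIrrCharacter G (indFun T (ψ : T → ℂ))) (hne : B'.Nonempty) :
    blockDefect p (indIrr T '' B') = blockDefect p B' := by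
  have : Finite T := Finite.of_fintype T
  unfold blockDefect
  obtain ⟨ψ, hψ⟩ := hne
  have hne : ((fun ψ : IrrCharacter T => (charDegree (ψ : T → ℂ)).factorization p) '' B').Nonempty :=
    ⟨_, ψ, hψ, rfl⟩
  rw [image_factorization p T B' hirr, sInf_image_add _ hne]
  have : (Nat.card G).factorization p = (Nat.card T).factorization p + T.index.factorization p := by
    rw [← T.card_mul_index, Nat.factorization_mul (Nat.card_pos (α := T)).ne'
      Subgroup.index_ne_zero_of_finite, Finsupp.add_apply]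
  rw [this, Nat.add_sub_add_right]

variable (N : Subgroup G) [hN : N.Normal] [Fintype N] (T : Subgroup G) [Fintype T]
variable (b : Set (IrrCharacter N))

/-- **Fong–Reynolds: defect groups.** -/
theorem isDefectGroup_map {p : ℕ} [Fact p.Prime] (hM : IsPModular p M) (hb : IsPBlock M b)
    (hNT : N ≤ T) (hstab : ∀ x ∈ T, ∀ θ ∈ b, conjIrr N x θ ∈ b)
    (hdisj : ∀ x, x ∉ T → ∀ θ ∈ b, conjIrr N x θ ∉ b)
    (B' : Set (IrrCharacter T)) (hB' : IsPBlock M B') (ψ₀ : IrrCharacter T) (hψ₀ : ψ₀ ∈ B')
    (hover : Over N T b hNT (ψ₀ : T → ℂ)) (B : Set (IrrCharacter G))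
    (hind : IsInducedBlock M T B' B) (D : Subgroup T) (hD : IsDefectGroup p M B' D) :
    IsDefectGroup p M B (D.map T.subtype) := by
  classical
  have hMp := isPrime_of_isPModular hM
  have : Finite G := Finite.of_fintype G
  have : Fintype (IrrCharacter T) := Fintype.ofFinite _
  have : Fintype (IrrCharacter G) := Fintype.ofFinite _
  obtain ⟨hall, hind', himg⟩ := image_block N T b hM hb hNT hstab hdisj B' hB' ψ₀ hψ₀ hover
  have hBe := Cfsg.Agent.Helper23.IC.induced_unique hMp T hind hind'
  have hirr : ∀ ψ ∈ B', IsIrrCharacter G (indFun T (ψ : T → ℂ)) := fun ψ hψ =>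
    isIrrCharacter_indFun N T b hNT hstab hdisj ψ (hall ψ hψ)
  obtain ⟨E, hE, hDE⟩ := Cfsg.Agent.S0917.result p M hM T B' hB' B hind.2.1 hind D hD
  have hcE := card_defectGroup hM hind.2.1 hE
  have hcD := card_defectGroup hM hB' hD
  have hdef : blockDefect p B = blockDefect p B' := by
    rw [hBe, ← himg]
    exact blockDefect_image p T B' hirr ⟨ψ₀, hψ₀⟩
  have hcard : Nat.card (D.map T.subtype) = Nat.card D :=
    Subgroup.card_map_of_injective (Subgroup.subtype_injective _)
  have hEq : D.map T.subtype = E :=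
    Subgroup.eq_of_le_of_card_ge hDE (by rw [hcard, hcE, hcD, hdef])
  rw [hEq]
  exact hE

end Cfsg.Agent.Helper5.FR
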