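import Mathlib
import Cfsg.Prelude.Def_Blocks
import Cfsg.Agent.Helper5.FongReynolds4
import Cfsg.Agent.Helper5.BlockDegSq
import Cfsg.Agent.Helper5.FirstMain

set_option autoImplicit false
set_option linter.unusedSectionVars false
set_option linter.unusedVariables false

/-!
# Fong's theorem on blocks covering an invariant block, part 1
-/

namespace Cfsg.Agent.Helper5.Fong

open Cfsg Cfsg.Agent.Helper24 Cfsg.Agent.Helper5 Cfsg.Agent.Helper5.Loc Cfsg.Agent.Helper5.CC
open Cfsg.Agent.Helper8 Cfsg.Agent.Helper5.FR Cfsg.Agent.Helper5.RS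

variable {G : Type*} [Group G] [Fintype G] {M : Ideal AlgInt}
variable (N : Subgroup G) [hN : N.Normal] [Fintype N] (b : Set (IrrCharacter N))

/-- The irreducible characters of `G` lying over `b`. -/
def OverSet : Set (IrrCharacter G) :=
  {χ | ∃ θ ∈ b, classInner (fun n : N => (χ : G → ℂ) n) (θ : N → ℂ) ≠ 0}

/-- The idempotent of `b`, extended by zero to `G`. -/
noncomputable def ext : G → ℂ := extendByZero N (blockCoeff b)

theorem ext_coe (n : N) : ext N b (n : G) = blockCoeff b n := ebz_coe N _ n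

theorem ext_of_not_mem {g : G} (hg : g ∉ N) : ext N b g = 0 := ebz_not_mem N _ hg

theorem ext_of_mem {g : G} (hg : g ∈ N) : ext N b g = blockCoeff b ⟨g, hg⟩ := ebz_mem N _ hg

theorem isClassFunction_ext (hinv : ∀ x : G, ∀ θ ∈ b, conjIrr N x θ ∈ b) :
    IsClassFunction G (ext N b) := by
  intro g x
  have hiff : x * g * x⁻¹ ∈ N ↔ g ∈ N := by
    constructor
    · intro hx
      have := hN.conj_mem _ hx x⁻¹
      simpa [mul_assoc] using this
    · intro hg
      exact hN.conj_mem g hg x
  by_cases hg : g ∈ N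
  · rw [ext_of_mem N b hg, ext_of_mem N b (hiff.mpr hg)]
    have hT : Fintype (⊤ : Subgroup G) := Fintype.ofFinite _
    have h1 := blockCoeff_conj_image N b x ⟨g, hg⟩
    rw [image_conjIrr_eq_of_stab N ⊤ b (fun x _ => hinv x) x (Subgroup.mem_top x)] at h1
    rw [h1]
  · rw [ext_of_not_mem N b hg, ext_of_not_mem N b (fun h => hg (hiff.mp h))]

theorem lr_ext (hM : M.IsPrime) (hb : IsPBlock M b) (g : G) : MemLocalRing M (ext N b g) := by
  classical
  have : Fintype (IrrCharacter N) := Fintype.ofFinite _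
  by_cases hg : g ∈ N
  · rw [ext_of_mem N b hg]
    exact osima hM b hb _
  · rw [ext_of_not_mem N b hg]
    exact memLocalRing_zero hM

/-- Every irreducible character of `G` has a constituent on `N`. -/
theorem exists_constituent (χ : IrrCharacter G) :
    ∃ θ : IrrCharacter N, classInner (fun n : N => (χ : G → ℂ) n) (θ : N → ℂ) ≠ 0 := by
  classical
  have : Fintype (IrrCharacter N) := Fintype.ofFinite _
  by_contra hcon
  push Not at hcon
  have hcf : IsClassFunction N (fun n : N => (χ : G → ℂ) n) := by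
    intro g x
    simp only [Subgroup.coe_mul, Subgroup.coe_inv]
    exact isClassFunction_irr χ (g : G) (x : G)
  have hexp := IsClassFunction.eq_sum_classInner hcf
  have h0 : (fun n : N => (χ : G → ℂ) n) = 0 := by
    rw [hexp]
    apply Finset.sum_eq_zero
    intro η _
    rw [hcon η, zero_smul]
  have := congrFun h0 1
  simp only [Subgroup.coe_one, Pi.zero_apply] at this
  exact irr_one_ne_zero χ this

/-- The idempotent of `b` acts on `χ` according to any constituent of `χ_N`. -/
theorem act_ext_of_constituent (hinv : ∀ x : G, ∀ θ ∈ b, conjIrr N x θ ∈ b)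
    (χ : IrrCharacter G) (θ : IrrCharacter N)
    (hθ : classInner (fun n : N => (χ : G → ℂ) n) (θ : N → ℂ) ≠ 0) [Decidable (θ ∈ b)] :
    act (ext N b) χ = if θ ∈ b then 1 else 0 := by
  classical
  have : Fintype (IrrCharacter N) := Fintype.ofFinite _
  have ha := isClassFunction_ext N b hinv
  have hsum : act (ext N b) χ = (∑ t : N, ext N b t * (χ : G → ℂ) t) / (χ : G → ℂ) 1 := by
    rw [act]
    congr 1
    symm
    apply sum_subgroup_eq_sum' N (fun t => ext N b t * (χ : G → ℂ) t)
    intro t ht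
    rw [ext_of_not_mem N b ht, zero_mul]
  rw [hsum, ← restrict_scalar_eq N χ θ hθ (ext N b) ha]
  simp_rw [ext_coe]
  have := act_blockCoeff b θ
  rw [act] at this
  convert this

theorem act_ext (hinv : ∀ x : G, ∀ θ ∈ b, conjIrr N x θ ∈ b) (χ : IrrCharacter G)
    [Decidable (χ ∈ OverSet N b)] :
    act (ext N b) χ = if χ ∈ OverSet N b then 1 else 0 := by
  classical
  by_cases hχ : χ ∈ OverSet N b
  · obtain ⟨θ, hθb, hθ⟩ := hχ
    rw [act_ext_of_constituent N b hinv χ θ hθ, if_pos hθb, if_pos ⟨θ, hθb, hθ⟩]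
  · obtain ⟨θ, hθ⟩ := exists_constituent N χ
    have : θ ∉ b := fun h => hχ ⟨θ, h, hθ⟩
    rw [act_ext_of_constituent N b hinv χ θ hθ, if_neg this, if_neg hχ]

/-- Over an invariant block, every constituent lies in the block. -/
theorem mem_of_constituent (hinv : ∀ x : G, ∀ θ ∈ b, conjIrr N x θ ∈ b) (χ : IrrCharacter G)
    (hχ : χ ∈ OverSet N b) (θ : IrrCharacter N)
    (hθ : classInner (fun n : N => (χ : G → ℂ) n) (θ : N → ℂ) ≠ 0) : θ ∈ b := by
  classical
  by_contra hcon
  have h1 := act_ext N b hinv χ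
  rw [if_pos hχ, act_ext_of_constituent N b hinv χ θ hθ, if_neg hcon] at h1
  exact zero_ne_one h1

/-- The characters over an invariant block form a union of blocks. -/
theorem overSet_union (hM : M.IsPrime) (hb : IsPBlock M b)
    (hinv : ∀ x : G, ∀ θ ∈ b, conjIrr N x θ ∈ b) (χ χ' : IrrCharacter G)
    (hχ : χ ∈ OverSet N b) (h : SameBlock M (χ : G → ℂ) (χ' : G → ℂ)) : χ' ∈ OverSet N b := by
  classical
  have h1 := act_sub_act_memLocalIdeal hM (isClassFunction_ext N b hinv) (lr_ext N b hM hb) h
  rw [act_ext N b hinv χ, act_ext N b hinv χ', if_pos hχ] at h1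
  by_contra hcon
  rw [if_neg hcon, sub_zero] at h1
  exact not_memLocalIdeal_one hM h1

theorem blockCoeff_overSet (hinv : ∀ x : G, ∀ θ ∈ b, conjIrr N x θ ∈ b) :
    blockCoeff (OverSet N b) = ext N b := by
  classical
  have : Fintype (IrrCharacter G) := Fintype.ofFinite _
  apply eq_of_act_eq (isClassFunction_blockCoeff _) (isClassFunction_ext N b hinv)
  intro χ
  rw [act_blockCoeff, act_ext N b hinv χ]

/-- The idempotent of a union of blocks is the sum of the block idempotents. -/
theorem blockCoeff_union_eq_sum [Fintype (IrrCharacter G)] (hM : M.IsPrime)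
    (A : Set (IrrCharacter G))
    (hA : ∀ χ χ' : IrrCharacter G, χ ∈ A → SameBlock M (χ : G → ℂ) (χ' : G → ℂ) → χ' ∈ A)
    [DecidablePred fun B : Set (IrrCharacter G) => B ⊆ A] :
    blockCoeff A = ∑ B ∈ (Finset.univ.image
      (fun ξ : IrrCharacter G => blockOf M (ξ : G → ℂ))).filter (fun B => B ⊆ A),
        blockCoeff B := by
  classical
  apply eq_of_act_eq (isClassFunction_blockCoeff _)
  · apply isClassFunction_sum
    intro B _
    exact isClassFunction_blockCoeff B
  intro χ
  rw [act_sum, act_blockCoeff]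
  simp_rw [act_blockCoeff]
  by_cases hχ : χ ∈ A
  · rw [if_pos hχ, Finset.sum_eq_single (blockOf M (χ : G → ℂ))]
    · rw [if_pos (mem_blockOf_self hM χ)]
    · intro B hB hne
      rw [if_neg]
      intro hχB
      apply hne
      obtain ⟨ξ, -, rfl⟩ := Finset.mem_image.mp (Finset.mem_filter.mp hB).1
      exact blockOf_eq_of_sameBlock hM hχB
    · intro h
      exfalso
      apply h
      rw [Finset.mem_filter]
      refine ⟨Finset.mem_image_of_mem _ (Finset.mem_univ χ), ?_⟩
      intro χ' hχ'
      exact hA χ χ' hχ hχ'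
  · rw [if_neg hχ]
    symm
    apply Finset.sum_eq_zero
    intro B hB
    rw [if_neg]
    intro hχB
    exact hχ ((Finset.mem_filter.mp hB).2 hχB)


/-- **Some block covering an invariant block `b` has defect at least `d(b) + ν_p [G:N]`.** -/
theorem exists_cover_large_defect {p : ℕ} [hp : Fact p.Prime] (hM : IsPModular p M)
    (hb : IsPBlock M b) (hinv : ∀ x : G, ∀ θ ∈ b, conjIrr N x θ ∈ b) :
    ∃ B : Set (IrrCharacter G), IsPBlock M B ∧ B ⊆ OverSet N b ∧
      blockDefect p b + N.index.factorization p ≤ blockDefect p B := by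
  classical
  have hMp := isPrime_of_isPModular hM
  have : Fintype (IrrCharacter G) := Fintype.ofFinite _
  have : Fintype (IrrCharacter N) := Fintype.ofFinite _
  have : Finite G := Finite.of_fintype G
  by_contra hcon
  push Not at hcon
  obtain ⟨ρ, hρR, hρI, hdb, hone⟩ := BDS.blockCoeff_one_eq hM hb
  set aN := (Nat.card N).factorization p with haN
  set aG := (Nat.card G).factorization p with haG
  set c := N.index.factorization p with hc
  have haGN : aG = aN + c := by
    rw [haG, ← N.card_mul_index, Nat.factorization_mul (Nat.card_pos (α := N)).ne'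
      Subgroup.index_ne_zero_of_finite, Finsupp.add_apply]
  set k := aN - blockDefect p b with hk
  have hA := overSet_union N b hMp hb hinv
  have hsum := congrFun (blockCoeff_union_eq_sum hMp (OverSet N b) hA) 1
  rw [blockCoeff_overSet N b hinv, Finset.sum_apply] at hsum
  have h1 : ext N b 1 = blockCoeff b 1 := ext_coe N b 1
  rw [h1, hone] at hsum
  -- each term is divisible by `p ^ (k + 1)`
  have hterm : ∀ B ∈ (Finset.univ.image
      (fun ξ : IrrCharacter G => blockOf M (ξ : G → ℂ))).filter (fun B => B ⊆ OverSet N b),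
      ∃ σ : ℂ, MemLocalRing M σ ∧ blockCoeff B 1 = ((p ^ (k + 1) : ℕ) : ℂ) * σ := by
    intro B hB
    rw [Finset.mem_filter] at hB
    obtain ⟨ξ, -, rfl⟩ := Finset.mem_image.mp hB.1
    have hBl : IsPBlock M (blockOf M (ξ : G → ℂ)) := isPBlock_blockOf ξ
    obtain ⟨ρ', hρ'R, -, hdB, hone'⟩ := BDS.blockCoeff_one_eq hM hBl
    have hlt := hcon _ hBl hB.2
    have hle : k + 1 ≤ aG - blockDefect p (blockOf M (ξ : G → ℂ)) := by omega
    refine ⟨((p ^ (aG - blockDefect p (blockOf M (ξ : G → ℂ)) - (k + 1)) : ℕ) : ℂ) * ρ',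
      lr_mul hMp (memLocalRing_natCast hMp _) hρ'R, ?_⟩
    rw [hone', ← mul_assoc, ← Nat.cast_mul, ← pow_add, Nat.add_sub_cancel' hle]
  choose! σ hσR hσ using hterm
  rw [Finset.sum_congr rfl (fun B hB => hσ B hB), ← Finset.mul_sum] at hsum
  have hpk : ((p ^ k : ℕ) : ℂ) ≠ 0 := by
    exact_mod_cast (pow_pos hp.out.pos k).ne'
  have h2 : ρ = (p : ℂ) * ∑ B ∈ (Finset.univ.image
      (fun ξ : IrrCharacter G => blockOf M (ξ : G → ℂ))).filter (fun B => B ⊆ OverSet N b),
      σ B := by
    apply mul_left_cancel₀ hpk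
    rw [hsum]
    push_cast
    ring
  apply hρI
  rw [h2]
  apply li_mul_right hMp ((memLocalIdeal_natCast_iff hM p).mpr dvd_rfl)
  exact lr_sum hMp _ _ hσR

end Cfsg.Agent.Helper5.Fong
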