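import Mathlib
import Cfsg.Prelude.Def_Blocks
import Cfsg.Agent.Helper5.Fong
import Cfsg.Agent.Helper5.DefectGroups2
import Cfsg.Agent.Helper14.PReduced4
import Cfsg.Agent.S0906

set_option autoImplicit false
set_option linter.unusedSectionVars false
set_option linter.unusedVariables false

/-!
# Fong's theorem on blocks covering an invariant block, part 2
-/

namespace Cfsg.Agent.Helper5.Fong

open Cfsg Cfsg.Agent.Helper24 Cfsg.Agent.Helper5 Cfsg.Agent.Helper5.Loc Cfsg.Agent.Helper5.CC
open Cfsg.Agent.Helper8 Cfsg.Agent.Helper5.FR Cfsg.Agent.Helper5.RS Cfsg.Agent.Helper14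

variable {G : Type*} [Group G] [Fintype G] {M : Ideal AlgInt}

omit [Fintype G] in
theorem IsSylowIn.card_eq [Finite G] {p : ℕ} [Fact p.Prime] {U H : Subgroup G}
    (h : IsSylowIn p U H) : Nat.card U = p ^ (Nat.card H).factorization p := by
  rw [← h.toSylow_map, card_map_subtype]
  exact (h.toSylow).card_eq_multiplicity

variable (N : Subgroup G) [hN : N.Normal] [Fintype N] (b : Set (IrrCharacter N))

/-- A class of `N` on which both the idempotent of `b` and the central characters of a covering
block are units. -/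
theorem exists_class (hM : M.IsPrime) (hb : IsPBlock M b)
    (hinv : ∀ x : G, ∀ θ ∈ b, conjIrr N x θ ∈ b) (B : Set (IrrCharacter G)) (hB : IsPBlock M B)
    (hcov : ∃ χ ∈ B, χ ∈ OverSet N b) :
    ∃ x : N, ¬ MemLocalIdeal M (blockCoeff b x) ∧
      ∀ χ ∈ B, ¬ MemLocalIdeal M (centralChar (χ : G → ℂ) (x : G)) := by
  classical
  have : Fintype (ConjClasses G) := Fintype.ofFinite _
  have : Finite G := Finite.of_fintype G
  obtain ⟨χ, hχB, hχ⟩ := hcov
  have h1 := act_ext N b hinv χ
  rw [if_pos hχ, act_eq_sum_centralChar (isClassFunction_ext N b hinv)] at h1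
  by_contra hcon
  push Not at hcon
  apply not_memLocalIdeal_one hM
  rw [← h1]
  apply li_sum hM
  intro K _
  by_cases hK : rep K ∈ N
  · by_cases h2 : MemLocalIdeal M (blockCoeff b ⟨rep K, hK⟩)
    · rw [ext_of_mem N b hK]
      exact li_mul_right hM h2 (memLocalRing_centralChar hM χ _)
    · obtain ⟨χ', hχ', h3⟩ := hcon ⟨rep K, hK⟩ h2
      have h4 : MemLocalIdeal M (centralChar (χ : G → ℂ) (rep K)) := by
        by_contra h5
        exact not_memLocalIdeal_centralChar_of_mem hM hB ⟨χ, hχB, h5⟩ χ' hχ' h3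
      exact li_mul_left hM (lr_ext N b hM hb _) h4
  · rw [ext_of_not_mem N b hK, zero_mul]
    exact memLocalIdeal_zero hM

/-- A class of `N` on which the idempotent of `b` is a unit, with a Sylow subgroup of its
centralizer containing a given defect group of the covering block. -/
theorem exists_good_class {p : ℕ} [Fact p.Prime] (hM : IsPModular p M) (hb : IsPBlock M b)
    (hinv : ∀ x : G, ∀ θ ∈ b, conjIrr N x θ ∈ b) (B : Set (IrrCharacter G)) (hB : IsPBlock M B)
    (hcov : ∃ χ ∈ B, χ ∈ OverSet N b) (P : Subgroup G) (hP : IsDefectGroup p M B P) :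
    ∃ x : N, ¬ MemLocalIdeal M (blockCoeff b x) ∧
      ∃ S : Subgroup G, IsSylowIn p S (Subgroup.centralizer ({(x : G)} : Set G)) ∧ P ≤ S := by
  classical
  have hMp := isPrime_of_isPModular hM
  have : Fintype (IrrCharacter G) := Fintype.ofFinite _
  obtain ⟨x₀, hx₀b, hx₀B⟩ := exists_class N b hMp hb hinv B hB hcov
  obtain ⟨g, hg, hPS⟩ := isDefectGroup_iff.mp hP
  obtain ⟨S₀, hS₀⟩ := exists_isSylowIn (p := p) (Subgroup.centralizer ({(x₀ : G)} : Set G))
  obtain ⟨y, hy⟩ := minmax_sylow hM B hB (x₀ : G) g hx₀B hg.2.1 S₀ P hS₀ hPS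
  have hmem : y * (x₀ : G) * y⁻¹ ∈ N := hN.conj_mem _ x₀.2 y
  refine ⟨⟨y * (x₀ : G) * y⁻¹, hmem⟩, ?_, S₀.map (cj y), ?_, hy⟩
  · have h1 := isClassFunction_ext N b hinv (x₀ : G) y
    rw [ext_of_mem N b hmem, ext_coe] at h1
    rw [h1]
    exact hx₀b
  · have := hS₀.map_cj y
    rwa [map_cj_centralizer_singleton] at this

/-- The order of the centralizer in `G` of an element of `N`, compared with its centralizer in
`N`. -/
theorem factorization_card_centralizer (p : ℕ) (x : N) :
    (Nat.card (Subgroup.centralizer ({(x : G)} : Set G))).factorization p =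
      (Nat.card (Subgroup.centralizer ({x} : Set N))).factorization p +
        (N.relIndex (Subgroup.centralizer ({(x : G)} : Set G))).factorization p ∧
    N.relIndex (Subgroup.centralizer ({(x : G)} : Set G)) ∣ N.index := by
  have : Finite G := Finite.of_fintype G
  set C := Subgroup.centralizer ({(x : G)} : Set G) with hC
  have h1 : Nat.card C = Nat.card (N.subgroupOf C) * (N.subgroupOf C).index :=
    (Subgroup.card_mul_index _).symm
  have h2 : Nat.card (N.subgroupOf C) = Nat.card (Subgroup.centralizer ({x} : Set N)) := by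
    rw [← Subgroup.card_map_of_injective (Subgroup.subtype_injective C),
      Subgroup.subgroupOf_map_subtype,
      ← Subgroup.card_map_of_injective (Subgroup.subtype_injective N),
      map_subtype_centralizer_singleton, inf_comm]
  refine ⟨?_, Subgroup.relIndex_dvd_index_of_normal N C⟩
  rw [h1, h2, Nat.factorization_mul (Nat.card_pos).ne' Subgroup.index_ne_zero_of_finite,
    Finsupp.add_apply]
  rfl

end Cfsg.Agent.Helper5.Fong
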