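import Mathlib
import Cfsg.Prelude.Def_Blocks
import Cfsg.Agent.Helper5.Fong2

set_option autoImplicit false
set_option linter.unusedSectionVars false
set_option linter.unusedVariables false

/-!
# Fong's theorem on blocks covering an invariant block, part 3
-/

namespace Cfsg.Agent.Helper5.Fong

open Cfsg Cfsg.Agent.Helper24 Cfsg.Agent.Helper5 Cfsg.Agent.Helper5.Loc Cfsg.Agent.Helper5.CC
open Cfsg.Agent.Helper8 Cfsg.Agent.Helper5.FR Cfsg.Agent.Helper5.RS Cfsg.Agent.Helper14

variable {G : Type*} [Group G] [Fintype G] {M : Ideal AlgInt}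
variable (N : Subgroup G) [hN : N.Normal] [Fintype N] (b : Set (IrrCharacter N))

/-- **Fong's theorem.** -/
theorem fong_main {p : ℕ} [hp : Fact p.Prime] (hM : IsPModular p M) (hb : IsPBlock M b)
    (hinv : ∀ x : G, ∀ θ ∈ b, conjIrr N x θ ∈ b) (B : Set (IrrCharacter G)) (hB : IsPBlock M B)
    (hcov : ∃ χ ∈ B, χ ∈ OverSet N b)
    (hmax : ∀ B' : Set (IrrCharacter G), IsPBlock M B' → (∃ χ ∈ B', χ ∈ OverSet N b) →
      blockDefect p B' ≤ blockDefect p B)
    (P : Subgroup G) (hP : IsDefectGroup p M B P) :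
    ¬ p ∣ (P ⊔ N).index ∧ IsDefectGroup p M b ((P ⊓ N).subgroupOf N) ∧
      blockDefect p B = blockDefect p b + N.index.factorization p := by
  classical
  have hMp := isPrime_of_isPModular hM
  have : Finite G := Finite.of_fintype G
  have : Fintype (IrrCharacter G) := Fintype.ofFinite _
  have : Fintype (IrrCharacter N) := Fintype.ofFinite _
  have hp1 : 1 < p := hp.out.one_lt
  obtain ⟨x, hxb, S, hS, hPS⟩ := exists_good_class N b hM hb hinv B hB hcov P hP
  set C := Subgroup.centralizer ({(x : G)} : Set G) with hC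
  set CN := Subgroup.centralizer ({x} : Set N) with hCN
  obtain ⟨hfac, hdvd⟩ := factorization_card_centralizer N p x
  set dB := blockDefect p B with hdB
  set db := blockDefect p b with hdb
  set c := N.index.factorization p with hc
  set vC := (Nat.card C).factorization p with hvC
  set vCN := (Nat.card CN).factorization p with hvCN
  set r := (N.relIndex C).factorization p with hr
  have hcP : Nat.card P = p ^ dB := card_defectGroup hM hB hP
  have hcS : Nat.card S = p ^ vC := IsSylowIn.card_eq hS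
  have h1 : dB ≤ vC := by
    have := Subgroup.card_le_of_le hPS
    rw [hcP, hcS] at this
    exact (Nat.pow_le_pow_iff_right hp1).mp this
  -- the defect group of `b`
  obtain ⟨y₀, hy₀⟩ := Cfsg.Agent.S0906.result p M hM b hb
  obtain ⟨Q, hQ⟩ := exists_isSylowIn (p := p) (Subgroup.centralizer ({y₀} : Set N))
  have hQd : IsDefectGroup p M b Q := isDefectGroup_iff.mpr ⟨y₀, hy₀, hQ⟩
  have hcQ : Nat.card Q = p ^ db := card_defectGroup hM hb hQd
  -- `P ⊓ N`
  have hPp : IsPGroup p P := by
    obtain ⟨g, hg, hPg⟩ := isDefectGroup_iff.mp hP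
    exact hPg.2.1
  set W' : Subgroup N := (P ⊓ N).subgroupOf N with hW'
  have hW'p : IsPGroup p W' := (hPp.to_le inf_le_left).comap_subtype
  have hPC : P ≤ C := hPS.trans hS.1
  have hW'le : W' ≤ CN := by
    intro w hw
    rw [hW', Subgroup.mem_subgroupOf] at hw
    have h2 := hPC hw.1
    rw [hC, mem_centralizer_singleton_iff'] at h2
    rw [hCN, mem_centralizer_singleton_iff']
    exact Subtype.ext h2
  obtain ⟨W, hW, hW'W⟩ := exists_isSylowIn_ge hW'le hW'p
  have hcW : Nat.card W = p ^ vCN := IsSylowIn.card_eq hW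
  obtain ⟨n, hn⟩ := minmax_sylow hM b hb y₀ x hy₀.2.2 hxb Q W hQ hW
  have hcQn : Nat.card (Q.map (cj n)) = p ^ db := by
    rw [Subgroup.card_map_of_injective (cj_injective n), hcQ]
  have h2 : vCN ≤ db := by
    have := Subgroup.card_le_of_le hn
    rw [hcW, hcQn] at this
    exact (Nat.pow_le_pow_iff_right hp1).mp this
  have h3 : r ≤ c := by
    have hidx : N.index ≠ 0 := Subgroup.index_ne_zero_of_finite
    have hrel : N.relIndex C ≠ 0 := fun h0 => hidx (Nat.eq_zero_of_zero_dvd (h0 ▸ hdvd))
    exact (Nat.factorization_le_iff_dvd hrel hidx).mpr hdvd p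
  -- existence of a covering block of large defect
  obtain ⟨B₁, hB₁, hB₁sub, hB₁d⟩ := exists_cover_large_defect N b hM hb hinv
  obtain ⟨χ₁, hχ₁⟩ := IsPBlock.nonempty hMp hB₁
  have h4 := hmax B₁ hB₁ ⟨χ₁, hχ₁, hB₁sub hχ₁⟩
  have e1 : dB = db + c := by omega
  have e2 : vC = dB := by omega
  have e3 : vCN = db := by omega
  -- `P` is a Sylow subgroup of `C`
  have hPeqS : P = S := Subgroup.eq_of_le_of_card_ge hPS (by rw [hcP, hcS, e2])
  have hPsyl : IsSylowIn p P C := hPeqS ▸ hS
  have hnorm : C ≤ Subgroup.normalizer ((C ⊓ N : Subgroup G) : Set G) := by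
    intro g hg
    rw [Subgroup.mem_normalizer_iff]
    intro h
    rw [Subgroup.mem_inf, Subgroup.mem_inf]
    constructor
    · rintro ⟨h1, h2⟩
      exact ⟨C.mul_mem (C.mul_mem hg h1) (C.inv_mem hg), hN.conj_mem h h2 g⟩
    · rintro ⟨h1, h2⟩
      constructor
      · have := C.mul_mem (C.mul_mem (C.inv_mem hg) h1) hg
        simpa [mul_assoc] using this
      · have := hN.conj_mem _ h2 g⁻¹
        simpa [mul_assoc] using this
  have hPN : IsSylowIn p (P ⊓ (C ⊓ N)) (C ⊓ N) := sylow_inf_isSylowIn hPsyl inf_le_left hnorm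
  have hPNeq : P ⊓ (C ⊓ N) = P ⊓ N := by rw [← inf_assoc, inf_eq_left.mpr hPC]
  rw [hPNeq] at hPN
  have hcCN : Nat.card (C ⊓ N : Subgroup G) = Nat.card CN := by
    rw [hC, ← map_subtype_centralizer_singleton N x,
      Subgroup.card_map_of_injective (Subgroup.subtype_injective N)]
  have hcPN : Nat.card (P ⊓ N : Subgroup G) = p ^ db := by
    rw [IsSylowIn.card_eq hPN, hcCN, ← hvCN, e3]
  have hcW' : Nat.card W' = p ^ db := by
    rw [← Subgroup.card_map_of_injective (Subgroup.subtype_injective N), hW',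
      Subgroup.subgroupOf_map_subtype, inf_assoc, inf_idem, hcPN]
  refine ⟨?_, ?_, e1⟩
  · -- the index of `P ⊔ N`
    have hcard1 : Nat.card (N.subgroupOf P) = p ^ db := by
      rw [← Subgroup.card_map_of_injective (Subgroup.subtype_injective P),
        Subgroup.subgroupOf_map_subtype, inf_comm, hcPN]
    have hrel : N.relIndex P = p ^ c := by
      have h5 := Subgroup.card_mul_index (N.subgroupOf P)
      rw [hcard1, hcP, e1, pow_add] at h5
      exact Nat.eq_of_mul_eq_mul_left (pow_pos hp.out.pos db) h5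
    have h6 := Subgroup.relIndex_mul_index (le_sup_right : N ≤ P ⊔ N)
    rw [Subgroup.relIndex_sup_right, hrel] at h6
    have hidx' : (P ⊔ N).index ≠ 0 := Subgroup.index_ne_zero_of_finite
    have h7 : (p ^ c * (P ⊔ N).index).factorization p = c := by rw [h6]
    rw [Nat.factorization_mul (pow_pos hp.out.pos c).ne' hidx', Finsupp.add_apply,
      Nat.Prime.factorization_pow hp.out, Finsupp.single_eq_same] at h7
    intro hdiv
    have := Nat.Prime.factorization_pos_of_dvd hp.out hidx' hdiv
    omega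
  · have hEq : W' = Q.map (cj n) :=
      Subgroup.eq_of_le_of_card_ge (hW'W.trans hn) (by rw [hcW', hcQn])
    rw [hEq]
    exact isDefectGroup_map_cj hQd n

end Cfsg.Agent.Helper5.Fong
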