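import Mathlib
import Cfsg.Prelude.Def_Blocks
import Cfsg.Agent.Helper18.QuadPS1

set_option autoImplicit false

/-!
# Fong covering, part A: general lemmas

* central characters along a surjective homomorphism with central kernel;
* the normal Sylow `p`-subgroup of a normal subgroup `W` that is a central `p'`-subgroup extended
  by a `p`-group.
-/

namespace Cfsg.Agent.Helper5.FongCover

open Cfsg Subgroup

section Hom

variable {Γ G : Type*} [Group Γ] [Group G]

theorem centralizer_le_comap (f : Γ →* G) (γ : Γ) :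
    centralizer ({γ} : Set Γ) ≤ (centralizer ({f γ} : Set G)).comap f := by
  intro δ hδ
  rw [mem_comap, mem_centralizer_iff]
  intro y hy
  rw [Set.mem_singleton_iff] at hy
  subst hy
  rw [mem_centralizer_iff] at hδ
  have := hδ γ (Set.mem_singleton γ)
  rw [← map_mul, ← map_mul, this]

theorem index_centralizer_eq_mul (f : Γ →* G) (hf : Function.Surjective f) (γ : Γ) :
    (centralizer ({γ} : Set Γ)).index =
      (centralizer ({γ} : Set Γ)).relIndex ((centralizer ({f γ} : Set G)).comap f) *
        (centralizer ({f γ} : Set G)).index := by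
  rw [← Subgroup.index_comap_of_surjective _ hf]
  exact (Subgroup.relIndex_mul_index (centralizer_le_comap f γ)).symm

/-- Central characters along a surjective homomorphism. -/
theorem centralChar_comp (f : Γ →* G) (hf : Function.Surjective f) (χ : G → ℂ) (γ : Γ) :
    centralChar (fun δ : Γ => χ (f δ)) γ =
      ((centralizer ({γ} : Set Γ)).relIndex ((centralizer ({f γ} : Set G)).comap f) : ℂ) *
        centralChar χ (f γ) := by
  rw [centralChar, centralChar, index_centralizer_eq_mul f hf γ, map_one]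
  push_cast
  ring

/-- With central kernel, the relative index divides the order of the kernel. -/
theorem relIndex_dvd_card_ker [Finite Γ] (f : Γ →* G) (hker : f.ker ≤ center Γ) (γ : Γ) :
    (centralizer ({γ} : Set Γ)).relIndex ((centralizer ({f γ} : Set G)).comap f) ∣
      Nat.card f.ker := by
  classical
  set K := (centralizer ({f γ} : Set G)).comap f with hK
  -- the commutator homomorphism `K → ker f`
  have hmem : ∀ δ : K, (δ : Γ) * γ * (δ : Γ)⁻¹ * γ⁻¹ ∈ f.ker := by
    intro δ
    have hδ : (δ : Γ) ∈ (centralizer ({f γ} : Set G)).comap f := δ.2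
    rw [mem_comap, mem_centralizer_iff] at hδ
    have h1 := hδ (f γ) (Set.mem_singleton _)
    rw [MonoidHom.mem_ker, map_mul, map_mul, map_mul, map_inv, map_inv, ← h1]
    group
  let φ : K →* f.ker :=
    { toFun := fun δ => ⟨(δ : Γ) * γ * (δ : Γ)⁻¹ * γ⁻¹, hmem δ⟩
      map_one' := by
        apply Subtype.ext
        simp
      map_mul' := by
        intro a b
        apply Subtype.ext
        have hb := hker (hmem b)
        rw [mem_center_iff] at hb
        show ((a * b : K) : Γ) * γ * ((a * b : K) : Γ)⁻¹ * γ⁻¹ =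
          ((a : Γ) * γ * (a : Γ)⁻¹ * γ⁻¹) * ((b : Γ) * γ * (b : Γ)⁻¹ * γ⁻¹)
        rw [Subgroup.coe_mul]
        have h2 := hb ((a : Γ) * γ * (a : Γ)⁻¹ * γ⁻¹)
        -- a b γ b⁻¹ a⁻¹ γ⁻¹ = a (b γ b⁻¹ γ⁻¹) γ a⁻¹ γ⁻¹ = (bγb⁻¹γ⁻¹) a γ a⁻¹ γ⁻¹
        have h3 := hb (a : Γ)
        calc (a : Γ) * (b : Γ) * γ * ((a : Γ) * (b : Γ))⁻¹ * γ⁻¹
            = (a : Γ) * ((b : Γ) * γ * (b : Γ)⁻¹ * γ⁻¹) * (γ * (a : Γ)⁻¹ * γ⁻¹) := by group
          _ = ((b : Γ) * γ * (b : Γ)⁻¹ * γ⁻¹) * (a : Γ) * (γ * (a : Γ)⁻¹ * γ⁻¹) := by rw [h3]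
          _ = ((b : Γ) * γ * (b : Γ)⁻¹ * γ⁻¹) * ((a : Γ) * γ * (a : Γ)⁻¹ * γ⁻¹) := by group
          _ = _ := h2.symm }
  have hkerφ : φ.ker = (centralizer ({γ} : Set Γ)).subgroupOf K := by
    ext δ
    rw [MonoidHom.mem_ker, mem_subgroupOf, mem_centralizer_iff]
    constructor
    · intro h y hy
      rw [Set.mem_singleton_iff] at hy
      subst hy
      have h1 : (δ : Γ) * y * (δ : Γ)⁻¹ * y⁻¹ = 1 := congrArg Subtype.val h
      have h2 : (δ : Γ) * y = y * (δ : Γ) := by
        have := congrArg (fun t => t * y * (δ : Γ)) h1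
        simpa [mul_assoc] using this
      exact h2.symm
    · intro h
      apply Subtype.ext
      have h1 := h γ (Set.mem_singleton γ)
      show (δ : Γ) * γ * (δ : Γ)⁻¹ * γ⁻¹ = 1
      rw [← h1]
      group
  have h1 : (centralizer ({γ} : Set Γ)).relIndex K = Nat.card φ.range := by
    rw [relIndex, ← hkerφ, Subgroup.index_ker]
  rw [h1]
  exact Subgroup.card_subgroup_dvd_card _

omit [Group Γ] in
theorem centralChar_mul_right (a b : G → ℂ) (g : G) :
    centralChar (fun t => a t * b t) g = centralChar a g * (b g / b 1) := by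
  rw [centralChar, centralChar]
  by_cases ha : a 1 = 0
  · simp [ha]
  by_cases hb : b 1 = 0
  · simp [hb]
  field_simp

end Hom

section NormalSylow

variable {X : Type*} [Group X] [Finite X]

/-- A normal subgroup `W` of `X` with a central `p'`-subgroup `Z ≤ W` of `p`-power index in `W`
contains a `p`-subgroup `Q`, normal in `X`, with `W = Z Q`. -/
theorem exists_normal_pSubgroup {p : ℕ} [hp : Fact p.Prime] (W Z : Subgroup X) [hW : W.Normal]
    (hZW : Z ≤ W) (hZc : Z ≤ center X) (hZ : (Nat.card Z).Coprime p) (s : ℕ)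
    (hcard : Nat.card W = Nat.card Z * p ^ s) :
    ∃ Q : Subgroup X, Q.Normal ∧ IsPGroup p Q ∧ Q ≤ W ∧
      ∀ w ∈ W, ∃ z ∈ Z, ∃ u ∈ Q, w = z * u := by
  classical
  -- work inside `W`
  let Z' : Subgroup W := Z.subgroupOf W
  have hZ'c : Z' ≤ center W := by
    intro z hz
    rw [mem_center_iff]
    intro w
    apply Subtype.ext
    have := hZc (mem_subgroupOf.mp hz)
    rw [mem_center_iff] at this
    exact this (w : X)
  have hZ'card : Nat.card Z' = Nat.card Z :=
    Nat.card_congr (Subgroup.subgroupOfEquivOfLe hZW).toEquiv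
  obtain ⟨S⟩ : Nonempty (Sylow p W) := inferInstance
  have hSn : (S : Subgroup W).Normal :=
    Cfsg.Agent.Helper18.QuadPS.sylow_normal_of_central_coprime Z' hZ'c (by rw [hZ'card]; exact hZ) s
      (by rw [hZ'card]; exact hcard) S
  have hSchar : (S : Subgroup W).Characteristic := Sylow.characteristic_of_normal S hSn
  have hQn : ((S : Subgroup W).map W.subtype).Normal :=
    ConjAct.normal_of_characteristic_of_normal
  refine ⟨(S : Subgroup W).map W.subtype, hQn, ?_, ?_, ?_⟩
  · exact S.2.map W.subtype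
  · exact Subgroup.map_subtype_le _
  · -- decomposition
    have hScard : Nat.card (S : Subgroup W) = p ^ s := by
      rw [Sylow.card_eq_multiplicity, hcard,
        Nat.factorization_mul (Nat.card_pos.ne') (pow_ne_zero _ hp.out.ne_zero)]
      simp only [Finsupp.coe_add, Pi.add_apply]
      rw [Nat.factorization_eq_zero_of_not_dvd
        ((Nat.Prime.coprime_iff_not_dvd hp.out).mp hZ.symm), zero_add,
        hp.out.factorization_pow]
      simp
    have hcompl : IsComplement' Z' (S : Subgroup W) := by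
      apply Subgroup.isComplement'_of_coprime
      · rw [hZ'card, hScard, hcard]
      · rw [hZ'card, hScard]
        exact Nat.Coprime.pow_right s hZ
    intro w hw
    obtain ⟨⟨z, u⟩, hzu, -⟩ := hcompl.existsUnique ⟨w, hw⟩
    refine ⟨(z : W), mem_subgroupOf.mp z.2, ((u : W) : X), ⟨(u : W), u.2, rfl⟩, ?_⟩
    have := congrArg Subtype.val hzu
    exact this.symm

end NormalSylow

end Cfsg.Agent.Helper5.FongCover
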