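import Mathlib
import Cfsg.Prelude.Def_Blocks
import Cfsg.Agent.Helper24.ProjLift
import Cfsg.Agent.Helper24.Integrality
import Cfsg.Agent.Helper24.CharBasic
import Cfsg.Agent.Helper5.ClaimN
import Cfsg.Agent.Helper5.FongCoverA

set_option autoImplicit false

/-!
# Fong covering, part B: the key vanishing of central characters

`N ⊴ G` a `p'`-group, `ϑ ∈ Irr(N)` invariant in `G`, `L ⊴ G` with `L/N` a `p`-group.  If `χ ∈ Irr(G)`
lies over `ϑ` and `x` does not centralize `L/N`, then the central character of `χ` at `x` lies in the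
local ideal.  The proof passes to the finite central extension of `Helper24.ProjLift`, where `ϑ`
extends, uses Gallagher there and Claim N in the quotient by the image of `N`.
-/

namespace Cfsg.Agent.Helper5.FongCover

open Cfsg Subgroup Cfsg.Agent.Helper24 Cfsg.Agent.Helper5.Loc Cfsg.Agent.Helper5.CC

section Card

variable {A B : Type*} [Group A] [Group B]

theorem card_eq_card_ker_mul [Finite A] (f : A →* B) (hf : Function.Surjective f) :
    Nat.card A = Nat.card f.ker * Nat.card B := by
  rw [Subgroup.card_eq_card_quotient_mul_card_subgroup f.ker,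
    Nat.card_congr (QuotientGroup.quotientKerEquivOfSurjective f hf).toEquiv, mul_comm]

theorem card_comap_eq [Finite A] (f : A →* B) (hf : Function.Surjective f) (H : Subgroup B) :
    Nat.card (H.comap f) = Nat.card f.ker * Nat.card H := by
  haveI : Finite B := Finite.of_surjective f hf
  have h1 : Nat.card (H.comap f) * (H.comap f).index = Nat.card A := Subgroup.card_mul_index _
  rw [Subgroup.index_comap_of_surjective _ hf, card_eq_card_ker_mul f hf,
    ← Subgroup.card_mul_index H, ← mul_assoc] at h1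
  exact Nat.eq_of_mul_eq_mul_right (Nat.pos_of_ne_zero Subgroup.index_ne_zero_of_finite) h1

end Card

universe u

variable {G : Type u} [Group G] [Fintype G] (N : Subgroup G) [hN : N.Normal] [Fintype N]

/-- **Key vanishing.** -/
theorem centralChar_li_of_not_centralize {p : ℕ} [hp : Fact p.Prime] {M : Ideal AlgInt}
    (hM : IsPModular p M) (hpN : ¬ p ∣ Nat.card N) (ϑ : N → ℂ) (hϑ : IsIrrCharacter N ϑ)
    (hinv : ∀ (g : G) (n : N), ϑ ⟨g * n * g⁻¹, hN.conj_mem (n : G) n.2 g⟩ = ϑ n)
    (χ : IrrCharacter G) (hcon : classInner (fun n : N => (χ : G → ℂ) n) ϑ ≠ 0)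
    (L : Subgroup G) [hL : L.Normal] (hNL : N ≤ L) (s : ℕ)
    (hLs : Nat.card L = Nat.card N * p ^ s)
    (x m : G) (hm : m ∈ L) (hxm : x * m * x⁻¹ * m⁻¹ ∉ N) :
    MemLocalIdeal M (centralChar (χ : G → ℂ) x) := by
  classical
  have hMp := isPrime_of_isPModular hM
  obtain ⟨d, Y, hY, hYϑ⟩ := hϑ
  haveI := hY
  subst hYϑ
  obtain ⟨k, hkdef⟩ : ∃ k : ℕ, k = Nat.card N := ⟨_, rfl⟩
  have hk : ∀ n : N, n ^ k = 1 := fun n => by rw [hkdef]; exact pow_card_eq_one'
  have hkpos : 0 < k := by rw [hkdef]; exact Nat.card_pos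
  haveI : Finite (liftGroup N (MonoidHom.toHomUnits Y) k) := finite_liftGroup N Y k hkpos
  haveI : Fintype (liftGroup N (MonoidHom.toHomUnits Y) k) := Fintype.ofFinite _
  have hp' : Function.Surjective (liftProj N (MonoidHom.toHomUnits Y) k) :=
    liftProj_surjective N Y k hinv
  haveI hNn : (liftIncl N Y k hk).range.Normal := liftIncl_range_normal N Y k hk
  haveI : Fintype (liftIncl N Y k hk).range := Fintype.ofFinite _
  -- the isomorphism of `N` with its image
  let e : N ≃* (liftIncl N Y k hk).range := MonoidHom.ofInjective (liftIncl_injective N Y k hk)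
  have he : ∀ n : N, ((e n : (liftIncl N Y k hk).range) :
      liftGroup N (MonoidHom.toHomUnits Y) k) = liftIncl N Y k hk n := fun n => rfl
  -- the characters of the extension
  have hπirr : IsIrrCharacter (liftGroup N (MonoidHom.toHomUnits Y) k)
      (liftRep N Y k).character := by
    refine isIrrCharacter_of_comp_irr (liftIncl N Y k hk) ⟨d, liftRep N Y k, rfl⟩ ?_
    exact ⟨d, Y, hY, rfl⟩
  have hχ'irr : IsIrrCharacter (liftGroup N (MonoidHom.toHomUnits Y) k)
      (fun γ => (χ : G → ℂ) (liftProj N (MonoidHom.toHomUnits Y) k γ)) :=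
    Helper8.isIrrCharacter_comp_surjective _ hp' χ.2
  have hπN : IsIrrCharacter (liftIncl N Y k hk).range
      (fun n : (liftIncl N Y k hk).range => (liftRep N Y k).character n) := by
    have h1 := Helper8.isIrrCharacter_comp_surjective e.symm.toMonoidHom e.symm.surjective
      (⟨d, Y, hY, rfl⟩ : IsIrrCharacter N Y.character)
    convert h1 using 1
    funext n
    obtain ⟨m, rfl⟩ := e.surjective n
    show (liftRep N Y k).character (liftIncl N Y k hk m) = Y.character (e.symm (e m))
    rw [MulEquiv.symm_apply_apply]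
    rfl
  have hcon' : classInner
      (fun n : (liftIncl N Y k hk).range =>
        (χ : G → ℂ) (liftProj N (MonoidHom.toHomUnits Y) k n))
      (fun n : (liftIncl N Y k hk).range => (liftRep N Y k).character n) ≠ 0 := by
    rw [← classInner_comp_mulEquiv e]
    exact hcon
  obtain ⟨β, hβ⟩ := exists_gallagherTwist_eq (liftIncl N Y k hk).range
    ⟨(liftRep N Y k).character, hπirr⟩ hπN
    ⟨fun γ => (χ : G → ℂ) (liftProj N (MonoidHom.toHomUnits Y) k γ), hχ'irr⟩ hcon'
  -- abbreviations
  set Γ := liftGroup N (MonoidHom.toHomUnits Y) k with hΓ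
  set π : Γ →* G := liftProj N (MonoidHom.toHomUnits Y) k with hπ
  set N₀ : Subgroup Γ := (liftIncl N Y k hk).range with hN₀
  -- arithmetic: `p ∤ d k`
  have hd : d ∣ Nat.card N := by
    have := finrank_dvd_card Y
    rwa [Module.finrank_fin_fun] at this
  have hpd : ¬ p ∣ d := fun h => hpN (h.trans hd)
  have hpdk : ¬ p ∣ d * k := by
    intro h
    rcases (Nat.Prime.dvd_mul hp.out).mp h with h | h
    · exact hpd h
    · rw [hkdef] at h; exact hpN h
  -- kernel elements have order dividing `d k`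
  have hkerpow : ∀ γ : Γ, γ ∈ π.ker → γ ^ (d * k) = 1 := by
    intro γ hγ
    obtain ⟨c, hc, hck⟩ := exists_scalar_of_mem_ker N Y k γ hγ
    apply Subtype.ext
    rw [Subgroup.coe_pow, hc]
    apply Prod.ext
    · simp
    · show (scalarHom d c) ^ (d * k) = 1
      rw [← map_pow, hck, map_one]
  have hpker : ¬ p ∣ Nat.card π.ker := by
    intro h
    obtain ⟨z, hz⟩ := exists_prime_orderOf_dvd_card' p h
    have h1 : (z : Γ) ^ (d * k) = 1 := hkerpow z z.2
    have h2 : z ^ (d * k) = 1 := Subtype.ext (by rw [Subgroup.coe_pow, h1]; rfl)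
    have := orderOf_dvd_of_pow_eq_one h2
    rw [hz] at this
    exact hpdk this
  -- lifts
  obtain ⟨x', hx'⟩ := hp' x
  obtain ⟨m', hm'⟩ := hp' m
  -- the quotient
  haveI : Fintype (Γ ⧸ N₀) := Fintype.ofFinite _
  have hπN₀ : ∀ n : N, π (liftIncl N Y k hk n) = (n : G) := fun n => rfl
  have hN₀le : N₀ ≤ N.comap π := by
    rintro _ ⟨n, rfl⟩
    rw [mem_comap, hπN₀]
    exact n.2
  let πbar : Γ ⧸ N₀ →* G ⧸ N := QuotientGroup.map N₀ N π hN₀le
  have hπbar : ∀ γ : Γ, πbar (QuotientGroup.mk' N₀ γ) = QuotientGroup.mk' N (π γ) := fun γ => rfl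
  have hπbarsurj : Function.Surjective πbar := by
    intro q
    obtain ⟨g, rfl⟩ := QuotientGroup.mk'_surjective N q
    obtain ⟨γ, rfl⟩ := hp' g
    exact ⟨QuotientGroup.mk' N₀ γ, rfl⟩
  -- the kernel of `πbar` is central
  have hZc : πbar.ker ≤ center (Γ ⧸ N₀) := by
    intro q hq
    obtain ⟨γ, rfl⟩ := QuotientGroup.mk'_surjective N₀ q
    rw [MonoidHom.mem_ker, hπbar, QuotientGroup.mk'_apply, QuotientGroup.eq_one_iff] at hq
    obtain ⟨z, hz, n, rfl⟩ := exists_ker_mul_liftIncl N Y k hk γ hq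
    have hzc := ker_liftProj_le_center N Y k hz
    have hmk : QuotientGroup.mk' N₀ (z * liftIncl N Y k hk n) = QuotientGroup.mk' N₀ z := by
      rw [map_mul]
      have : QuotientGroup.mk' N₀ (liftIncl N Y k hk n) = 1 := by
        rw [QuotientGroup.mk'_apply, QuotientGroup.eq_one_iff]
        exact ⟨n, rfl⟩
      rw [this, mul_one]
    rw [hmk, mem_center_iff]
    intro y
    obtain ⟨y', rfl⟩ := QuotientGroup.mk'_surjective N₀ y
    rw [← map_mul, ← map_mul, (mem_center_iff.mp hzc) y']
  -- cardinalities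
  have hcN₀ : Nat.card N₀ = Nat.card N := (Nat.card_congr e.toEquiv).symm
  have hcZ : Nat.card πbar.ker = Nat.card π.ker := by
    have h1 : Nat.card Γ = Nat.card π.ker * Nat.card G := card_eq_card_ker_mul π hp'
    have h2 : Nat.card Γ = Nat.card N₀ * Nat.card (Γ ⧸ N₀) := by
      have := card_eq_card_ker_mul (QuotientGroup.mk' N₀) (QuotientGroup.mk'_surjective N₀)
      rwa [QuotientGroup.ker_mk'] at this
    have h3 : Nat.card (Γ ⧸ N₀) = Nat.card πbar.ker * Nat.card (G ⧸ N) :=
      card_eq_card_ker_mul πbar hπbarsurj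
    have h4 : Nat.card G = Nat.card N * Nat.card (G ⧸ N) := by
      have := card_eq_card_ker_mul (QuotientGroup.mk' N) (QuotientGroup.mk'_surjective N)
      rwa [QuotientGroup.ker_mk'] at this
    have h5 : Nat.card π.ker * (Nat.card N * Nat.card (G ⧸ N)) =
        Nat.card πbar.ker * (Nat.card N * Nat.card (G ⧸ N)) := by
      have h6 : Nat.card π.ker * (Nat.card N * Nat.card (G ⧸ N)) = Nat.card Γ := by rw [h1, h4]
      rw [h6, h2, h3, hcN₀]; ring
    have hpos : 0 < Nat.card N * Nat.card (G ⧸ N) := Nat.mul_pos Nat.card_pos Nat.card_pos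
    exact (Nat.eq_of_mul_eq_mul_right hpos h5).symm
  have hcLbar : Nat.card (L.map (QuotientGroup.mk' N)) = p ^ s := by
    have h1 := card_comap_eq (QuotientGroup.mk' N) (QuotientGroup.mk'_surjective N)
      (L.map (QuotientGroup.mk' N))
    rw [QuotientGroup.ker_mk', Subgroup.comap_map_eq_self (by rw [QuotientGroup.ker_mk']; exact hNL),
      hLs] at h1
    exact (Nat.eq_of_mul_eq_mul_left Nat.card_pos h1).symm
  haveI hLbarN : (L.map (QuotientGroup.mk' N)).Normal :=
    Subgroup.Normal.map hL _ (QuotientGroup.mk'_surjective N)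
  set W : Subgroup (Γ ⧸ N₀) := (L.map (QuotientGroup.mk' N)).comap πbar with hW
  haveI hWn : W.Normal := Subgroup.Normal.comap hLbarN πbar
  have hcW : Nat.card W = Nat.card πbar.ker * p ^ s := by
    rw [hW, card_comap_eq πbar hπbarsurj, hcLbar]
  have hZW : πbar.ker ≤ W := MonoidHom.ker_le_comap πbar _
  have hZcop : (Nat.card πbar.ker).Coprime p := by
    rw [hcZ]
    exact (Nat.Prime.coprime_iff_not_dvd hp.out).mpr hpker |>.symm
  obtain ⟨Q, hQn, hQp, hQW, hdec⟩ := exists_normal_pSubgroup W πbar.ker hZW hZc hZcop s hcW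
  haveI := hQn
  -- `x'` does not centralize `Q`
  have hnot : QuotientGroup.mk' N₀ x' ∉ centralizer (Q : Set (Γ ⧸ N₀)) := by
    intro hcen
    apply hxm
    have hw : QuotientGroup.mk' N₀ m' ∈ W := by
      rw [hW, mem_comap, hπbar, hm']
      exact ⟨m, hm, rfl⟩
    obtain ⟨z, hz, u, hu, hzu⟩ := hdec _ hw
    have h1 : QuotientGroup.mk' N₀ x' * z = z * QuotientGroup.mk' N₀ x' :=
      (mem_center_iff.mp (hZc hz)) _
    have h2 : u * QuotientGroup.mk' N₀ x' = QuotientGroup.mk' N₀ x' * u :=
      (mem_centralizer_iff.mp hcen) u hu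
    have h3 : QuotientGroup.mk' N₀ x' * QuotientGroup.mk' N₀ m' =
        QuotientGroup.mk' N₀ m' * QuotientGroup.mk' N₀ x' := by
      rw [hzu, ← mul_assoc, h1, mul_assoc, ← h2, mul_assoc]
    have h4 : QuotientGroup.mk' N₀ (x' * m' * x'⁻¹ * m'⁻¹) = 1 := by
      rw [map_mul, map_mul, map_mul, h3, map_inv, map_inv]
      group
    rw [QuotientGroup.mk'_apply, QuotientGroup.eq_one_iff] at h4
    obtain ⟨n, hn⟩ := h4
    have h5 := congrArg π hn
    rw [hπN₀, map_mul, map_mul, map_mul, map_inv, map_inv, hx', hm'] at h5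
    rw [← h5]
    exact n.2
  have hclaim : MemLocalIdeal M (centralChar (β : Γ ⧸ N₀ → ℂ) (QuotientGroup.mk' N₀ x')) :=
    centralChar_memLocalIdeal_of_not_mem_centralizer hM Q hQp β _ hnot
  -- assemble
  have e1 := centralChar_comp π hp' (χ : G → ℂ) x'
  rw [hx'] at e1
  have e2 : centralChar (fun γ : Γ => (χ : G → ℂ) (π γ)) x' =
      centralChar (fun γ : Γ => (β : Γ ⧸ N₀ → ℂ) (QuotientGroup.mk' N₀ γ)) x' *
        ((liftRep N Y k).character x' / (liftRep N Y k).character 1) := by
    have h1 : (fun γ : Γ => (χ : G → ℂ) (π γ)) =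
        fun γ : Γ => (β : Γ ⧸ N₀ → ℂ) (QuotientGroup.mk' N₀ γ) * (liftRep N Y k).character γ := hβ
    rw [h1]
    exact centralChar_mul_right _ _ x'
  have e3 := centralChar_comp (QuotientGroup.mk' N₀) (QuotientGroup.mk'_surjective N₀)
    (β : Γ ⧸ N₀ → ℂ) x'
  set r := (centralizer ({x'} : Set Γ)).relIndex ((centralizer ({x} : Set G)).comap π) with hr
  have hrdvd : r ∣ Nat.card π.ker := by
    have := relIndex_dvd_card_ker π (ker_liftProj_le_center N Y k) x'
    rwa [hx'] at this
  have hpr : ¬ p ∣ r := fun h => hpker (h.trans hrdvd)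
  have hθ1 : (liftRep N Y k).character 1 = (d : ℂ) := by
    rw [Representation.char_one, Module.finrank_fin_fun]
  have hli : MemLocalIdeal M ((r : ℂ) * centralChar (χ : G → ℂ) x) := by
    rw [← e1, e2, e3, hθ1]
    have hint : MemLocalRing M ((liftRep N Y k).character x' / (d : ℂ)) := by
      rw [div_eq_mul_inv]
      exact lr_mul hMp (memLocalRing_of_isIntegral hMp (char_isIntegral _ _))
        (memLocalRing_inv_natCast hM hpd)
    apply li_mul_right hMp _ hint
    exact li_mul_left hMp (memLocalRing_natCast hMp _) hclaim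
  rcases li_of_mul hMp (memLocalRing_natCast hMp r) (memLocalRing_centralChar hMp χ x) hli with h | h
  · exact absurd ((memLocalIdeal_natCast_iff hM r).mp h) hpr
  · exact h

end Cfsg.Agent.Helper5.FongCover
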