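import Mathlib
import Cfsg.Prelude.Def_Blocks
import Cfsg.Agent.Helper5.FongCoverB
import Cfsg.Agent.Helper5.PPrimeNormal
import Cfsg.Agent.Helper5.BlockSupport
import Cfsg.Agent.Helper5.DefectGroups2
import Cfsg.Agent.Helper5.Fong2
import Cfsg.Agent.Helper24.FullyRamified
import Cfsg.Agent.Helper24.SmallDegree
import Cfsg.Agent.S0963
import Cfsg.Agent.S0931

set_option autoImplicit false

/-!
# Fong covering, part C: one block with Sylow defect groups

`N ⊴ G` a `p'`-group, `L ⊴ G` with `L/N` a `p`-group such that every `p`-regular element outside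
`N` acts nontrivially on `L/N`, and `θ ∈ Irr(N)` invariant in `G`.  Then `Irr(G | θ)` is a single
`p`-block whose defect groups are the Sylow `p`-subgroups.
-/

namespace Cfsg.Agent.Helper5.FongCover

open Cfsg Subgroup Cfsg.Agent.Helper24 Cfsg.Agent.Helper5.Loc Cfsg.Agent.Helper5.CC
  Cfsg.Agent.Helper14

universe u

variable {G : Type u} [Group G] [Fintype G] (N : Subgroup G) [hN : N.Normal] [Fintype N]

theorem fong_cover {p : ℕ} [hp : Fact p.Prime] {M : Ideal AlgInt} (hM : IsPModular p M)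
    (hpN : ¬ p ∣ Nat.card N) (L : Subgroup G) [hL : L.Normal] (hNL : N ≤ L) (s : ℕ)
    (hLs : Nat.card L = Nat.card N * p ^ s)
    (hHH : ∀ x : G, ¬ p ∣ orderOf x → x ∉ N → ∃ m ∈ L, x * m * x⁻¹ * m⁻¹ ∉ N)
    (θ : IrrCharacter N)
    (hinv : ∀ (g : G) (n : N), (θ : N → ℂ) ⟨g * n * g⁻¹, hN.conj_mem n n.2 g⟩ = (θ : N → ℂ) n) :
    ∃ B : Set (IrrCharacter G), IsPBlock M B ∧
      (∀ χ : IrrCharacter G, χ ∈ B ↔
        classInner (fun n : N => (χ : G → ℂ) n) (θ : N → ℂ) ≠ 0) ∧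
      (∀ P : Sylow p G, IsDefectGroup p M B (P : Subgroup G)) ∧
      ∀ D : Subgroup G, IsDefectGroup p M B D → ∃ P : Sylow p G, D = (P : Subgroup G) := by
  classical
  have hMp := isPrime_of_isPModular hM
  haveI : Fintype (IrrCharacter G) := Fintype.ofFinite _
  obtain ⟨χ₀, hχ₀⟩ := Cfsg.Agent.S0963.exists_irr_over N θ
  -- key vanishing
  have hkey : ∀ χ : IrrCharacter G,
      classInner (fun n : N => (χ : G → ℂ) n) (θ : N → ℂ) ≠ 0 → ∀ x : G, ¬ p ∣ orderOf x → x ∉ N →
      MemLocalIdeal M (centralChar (χ : G → ℂ) x) := by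
    intro χ hχ x hx hxN
    obtain ⟨m, hm, hxm⟩ := hHH x hx hxN
    exact centralChar_li_of_not_centralize N hM hpN (θ : N → ℂ) θ.2 hinv χ hχ L hNL s hLs x m hm hxm
  have hsame : ∀ χ : IrrCharacter G,
      classInner (fun n : N => (χ : G → ℂ) n) (θ : N → ℂ) ≠ 0 →
      SameBlock M (χ₀ : G → ℂ) (χ : G → ℂ) := by
    intro χ hχ
    apply sameBlock_of_regular hM
    intro g hg
    by_cases hgN : g ∈ N
    · have h1 := Cfsg.Agent.S0963.centralChar_eq_of_constituent N χ₀ θ hχ₀ ⟨g, hgN⟩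
      have h2 := Cfsg.Agent.S0963.centralChar_eq_of_constituent N χ θ hχ ⟨g, hgN⟩
      simp only at h1 h2
      rw [h1, h2, sub_self]
      exact memLocalIdeal_zero hMp
    · exact li_sub hMp (hkey χ₀ hχ₀ g hg hgN) (hkey χ hχ g hg hgN)
  set B : Set (IrrCharacter G) := blockOf M (χ₀ : G → ℂ) with hBdef
  have hB : IsPBlock M B := isPBlock_blockOf χ₀
  have hmem : ∀ χ : IrrCharacter G, χ ∈ B ↔
      classInner (fun n : N => (χ : G → ℂ) n) (θ : N → ℂ) ≠ 0 := by
    intro χ
    constructor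
    · intro h
      exact constituent_of_sameBlock hM N hpN χ₀ χ (mem_blockOf_iff.mp h) θ hχ₀
    · intro h
      exact mem_blockOf_iff.mpr (hsame χ h)
  have hχ₀B : χ₀ ∈ B := mem_blockOf_self hMp χ₀
  -- defect groups are Sylow
  have hsyl : ∀ D : Subgroup G, IsDefectGroup p M B D →
      Nat.card D = p ^ (Nat.card G).factorization p := by
    intro D hD
    obtain ⟨g, hg, hS⟩ := isDefectGroup_iff.mp hD
    have hgreg : ¬ p ∣ orderOf g := by
      intro h
      apply hg.2.1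
      rw [blockCoeff_eq_zero_of_singular hM hB g h]
      exact memLocalIdeal_zero hMp
    have hgN : g ∈ N := by
      by_contra hgN
      exact hg.2.2 χ₀ hχ₀B (hkey χ₀ hχ₀ g hgreg hgN)
    have hidx : ¬ p ∣ (centralizer ({g} : Set G)).index := by
      intro hdvd
      apply hg.2.2 χ₀ hχ₀B
      obtain ⟨e, he0, hres, -⟩ := exists_restrict_eq_smul_of_invariant N (χ₀ : G → ℂ) (θ : N → ℂ) χ₀.2 θ.2 hχ₀ hinv
      have hg' : (χ₀ : G → ℂ) g = (e : ℂ) * (θ : N → ℂ) ⟨g, hgN⟩ := by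
        have := congrFun hres ⟨g, hgN⟩
        simpa using this
      have h1' : (χ₀ : G → ℂ) 1 = (e : ℂ) * (θ : N → ℂ) 1 := by
        have := congrFun hres 1
        simpa using this
      have he0' : (e : ℂ) ≠ 0 := by exact_mod_cast he0
      have hθ1 : (θ : N → ℂ) 1 = (irrDeg θ : ℂ) := irrDeg_spec θ
      have hpθ : ¬ p ∣ irrDeg θ := fun h => hpN (h.trans (irrDeg_dvd_card θ))
      have hcc : centralChar (χ₀ : G → ℂ) g =
          ((centralizer ({g} : Set G)).index : ℂ) *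
            ((θ : N → ℂ) ⟨g, hgN⟩ * ((irrDeg θ : ℂ))⁻¹) := by
        rw [centralChar, hg', h1', hθ1]
        have hd0 : (irrDeg θ : ℂ) ≠ 0 := by exact_mod_cast (irrDeg_pos θ).ne'
        field_simp
      rw [hcc]
      apply li_mul_right hMp ((memLocalIdeal_natCast_iff hM _).mpr hdvd)
      obtain ⟨d, Y, hY, hYθ⟩ := θ.2
      rw [← hYθ]
      exact lr_mul hMp (memLocalRing_of_isIntegral hMp (char_isIntegral _ _))
        (memLocalRing_inv_natCast hM hpθ)
    rw [Cfsg.Agent.Helper5.Fong.IsSylowIn.card_eq hS]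
    congr 1
    have hGC : Nat.card (centralizer ({g} : Set G)) * (centralizer ({g} : Set G)).index =
        Nat.card G := Subgroup.card_mul_index _
    rw [← hGC, Nat.factorization_mul (Nat.card_pos).ne' Subgroup.index_ne_zero_of_finite,
      Finsupp.add_apply, Nat.factorization_eq_zero_of_not_dvd hidx, add_zero]
  refine ⟨B, hB, hmem, ?_, ?_⟩
  · intro P
    obtain ⟨D₀, hD₀⟩ := Cfsg.Agent.S0931.exists_defectGroup p M hM B hB
    set P₀ : Sylow p G := Sylow.ofCard D₀ (hsyl D₀ hD₀) with hP₀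
    obtain ⟨y, hy⟩ := MulAction.exists_smul_eq G P₀ P
    have h1 := isDefectGroup_map_cj hD₀ y
    have h2 : D₀.map (cj y) = (P : Subgroup G) := by
      rw [← hy, Sylow.coe_subgroup_smul, hP₀, Sylow.coe_ofCard]
      ext z
      rw [Subgroup.mem_smul_pointwise_iff_exists]
      constructor
      · rintro ⟨w, hw, rfl⟩
        exact ⟨w, hw, rfl⟩
      · rintro ⟨w, hw, rfl⟩
        exact ⟨w, hw, rfl⟩
    rwa [h2] at h1
  · intro D hD
    exact ⟨Sylow.ofCard D (hsyl D hD), (Sylow.coe_ofCard D _).symm⟩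

end Cfsg.Agent.Helper5.FongCover
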