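import Mathlib
import Cfsg.Prelude.Def_Blocks
import Cfsg.Agent.Helper24.Ito
import Cfsg.Agent.Helper24.Abelian
import Cfsg.Agent.Helper5.FongCoverB

set_option autoImplicit false

/-!
# Fong covering, part D: an Ito-type degree bound in central extensions

`f : X → Y` surjective with central kernel of order prime to `p`, `Q ⊴ Y` a `p`-subgroup with
`C_Y(Q) ≤ Q`.  Then every irreducible character `β` of `X` satisfies
`ν_p(β(1)) + ν_p|Z(S)| ≤ ν_p|X|` for a Sylow `p`-subgroup `S` of `X`.
-/

namespace Cfsg.Agent.Helper5.FongCover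

open Cfsg Subgroup Cfsg.Agent.Helper24

section Iso

variable {H K : Type*} [Group H] [Group K]

theorem card_center_eq_of_mulEquiv (e : H ≃* K) :
    Nat.card (center H) = Nat.card (center K) :=
  Nat.card_congr (Subgroup.centerCongr e).toEquiv

/-- A subgroup meeting the kernel trivially is isomorphic to its image. -/
noncomputable def equivMapOfInfKer (f : H →* K) (S : Subgroup H) (h : S ⊓ f.ker = ⊥) :
    S ≃* S.map f := by
  have hinj : Function.Injective (f.comp S.subtype) := by
    rw [injective_iff_map_eq_one]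
    intro s hs
    have h1 : (s : H) ∈ S ⊓ f.ker := ⟨s.2, hs⟩
    rw [h] at h1
    exact Subtype.ext (Subgroup.mem_bot.mp h1)
  exact (MonoidHom.ofInjective hinj).trans
    (MulEquiv.subgroupCongr (by rw [MonoidHom.range_comp, Subgroup.range_subtype]))

theorem inf_ker_eq_bot_of_coprime {p : ℕ} [hp : Fact p.Prime] [Finite H] (f : H →* K)
    (hker : ¬ p ∣ Nat.card f.ker) (S : Subgroup H) (hS : IsPGroup p S) : S ⊓ f.ker = ⊥ := by
  rw [eq_bot_iff]
  intro x hx
  rw [Subgroup.mem_bot]
  obtain ⟨k, hk⟩ := hS ⟨x, hx.1⟩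
  have h1 : x ^ p ^ k = 1 := by
    have := congrArg Subtype.val hk
    simpa using this
  have h2 : x ^ Nat.card f.ker = 1 := by
    have : (⟨x, hx.2⟩ : f.ker) ^ Nat.card f.ker = 1 := pow_card_eq_one'
    have := congrArg Subtype.val this
    simpa using this
  have hcop : Nat.Coprime (p ^ k) (Nat.card f.ker) :=
    Nat.Coprime.pow_left k ((Nat.Prime.coprime_iff_not_dvd hp.out).mpr hker)
  have h3 : orderOf x ∣ 1 := by
    rw [← Nat.Coprime.gcd_eq_one hcop]
    exact Nat.dvd_gcd (orderOf_dvd_of_pow_eq_one h1) (orderOf_dvd_of_pow_eq_one h2)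
  exact orderOf_eq_one_iff.mp (Nat.dvd_one.mp h3)

end Iso

section Bound

variable {X : Type*} [Group X] [Fintype X] {Y : Type*} [Group Y]

/-- **Ito-type bound.** -/
theorem sylow_bound {p : ℕ} [hp : Fact p.Prime] (f : X →* Y) (hf : Function.Surjective f)
    (hkerc : f.ker ≤ center X) (hker : ¬ p ∣ Nat.card f.ker)
    (Q : Subgroup Y) [hQn : Q.Normal] (hQ : IsPGroup p Q)
    (hcen : centralizer (Q : Set Y) ≤ Q) (β : IrrCharacter X) (S : Sylow p X) :
    (irrDeg β).factorization p + (Nat.card (center (S : Subgroup X))).factorization p ≤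
      (Nat.card X).factorization p := by
  classical
  haveI : Finite Y := Finite.of_surjective f hf
  obtain ⟨s, hs⟩ := (IsPGroup.iff_card).mp hQ
  set W : Subgroup X := Q.comap f with hW
  haveI hWn : W.Normal := Subgroup.Normal.comap hQn f
  have hcW : Nat.card W = Nat.card f.ker * p ^ s := by
    rw [hW, card_comap_eq f hf, hs]
  have hZW : f.ker ≤ W := MonoidHom.ker_le_comap f _
  have hZcop : (Nat.card f.ker).Coprime p :=
    ((Nat.Prime.coprime_iff_not_dvd hp.out).mpr hker).symm
  obtain ⟨Q', hQ'n, hQ'p, hQ'W, hdec⟩ := exists_normal_pSubgroup W f.ker hZW hkerc hZcop s hcW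
  haveI := hQ'n
  -- the abelian normal subgroup
  set A : Subgroup X := Q' ⊓ centralizer (Q' : Set X) with hA
  haveI hAn : A.Normal := Subgroup.normal_inf_normal _ _
  have hAab : ∀ a ∈ A, ∀ b ∈ A, a * b = b * a := by
    intro a ha b hb
    have h1 := (mem_centralizer_iff.mp ha.2) b hb.1
    exact h1.symm
  obtain ⟨d, hd1, hd2⟩ := ito_character A hAab (β : X → ℂ) β.2
  have hdeg : irrDeg β = d := by
    have h1 := irrDeg_spec β
    rw [hd1] at h1
    exact_mod_cast h1.symm
  -- the centre of the Sylow subgroup lies in `A`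
  have hQ'S : Q' ≤ (S : Subgroup X) := hQ'p.le_sylow_of_normal S
  have hZS : (center (S : Subgroup X)).map (S : Subgroup X).subtype ≤ A := by
    rintro _ ⟨z, hz, rfl⟩
    have hzc : ∀ u ∈ Q', u * (z : X) = (z : X) * u := by
      intro u hu
      have := (mem_center_iff.mp hz) ⟨u, hQ'S hu⟩
      exact congrArg Subtype.val this
    have hzcen : (z : X) ∈ centralizer (Q' : Set X) := by
      rw [mem_centralizer_iff]
      exact hzc
    refine ⟨?_, hzcen⟩
    -- `f z` centralizes `Q`
    have hfz : f (z : X) ∈ centralizer (Q : Set Y) := by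
      rw [mem_centralizer_iff]
      intro q hq
      obtain ⟨w, rfl⟩ := hf q
      have hw : w ∈ W := hq
      obtain ⟨z₀, hz₀, u, hu, rfl⟩ := hdec w hw
      have h1 : f (z₀ * u) = f u := by
        rw [map_mul, MonoidHom.mem_ker.mp hz₀, one_mul]
      rw [h1, ← map_mul, ← map_mul, hzc u hu]
    have hzW : (z : X) ∈ W := hcen hfz
    obtain ⟨z₀, hz₀, u, hu, hzu⟩ := hdec _ hzW
    -- `z₀ = z u⁻¹` is a `p`-element of the `p'`-group `ker f`
    have hz₀' : z₀ = (z : X) * u⁻¹ := by rw [hzu, mul_inv_cancel_right]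
    have hcomm : Commute (z : X) u⁻¹ := by
      have := hzc u hu
      exact (Commute.inv_right this.symm)
    obtain ⟨k1, hk1⟩ := S.isPGroup' z
    obtain ⟨k2, hk2⟩ := hQ'p ⟨u, hu⟩
    have hk1' : (z : X) ^ p ^ k1 = 1 := by
      have := congrArg Subtype.val hk1
      simpa using this
    have hk2' : u ^ p ^ k2 = 1 := by
      have := congrArg Subtype.val hk2
      simpa using this
    have hpow : z₀ ^ p ^ (k1 + k2) = 1 := by
      rw [hz₀', hcomm.mul_pow, pow_add, pow_mul, hk1', one_pow, one_mul, inv_pow, mul_comm (p ^ k1),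
        pow_mul, hk2', one_pow, inv_one]
    have hz₀1 : z₀ = 1 := by
      have h2 : z₀ ^ Nat.card f.ker = 1 := by
        have : (⟨z₀, hz₀⟩ : f.ker) ^ Nat.card f.ker = 1 := pow_card_eq_one'
        have := congrArg Subtype.val this
        simpa using this
      have hcop : Nat.Coprime (p ^ (k1 + k2)) (Nat.card f.ker) :=
        Nat.Coprime.pow_left _ ((Nat.Prime.coprime_iff_not_dvd hp.out).mpr hker)
      have h3 : orderOf z₀ ∣ 1 := by
        rw [← Nat.Coprime.gcd_eq_one hcop]
        exact Nat.dvd_gcd (orderOf_dvd_of_pow_eq_one hpow) (orderOf_dvd_of_pow_eq_one h2)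
      exact orderOf_eq_one_iff.mp (Nat.dvd_one.mp h3)
    show (z : X) ∈ Q'
    rw [hzu, hz₀1, one_mul]
    exact hu
  -- arithmetic
  have hcZ : Nat.card (center (S : Subgroup X)) ∣ Nat.card A := by
    have h1 : Nat.card ((center (S : Subgroup X)).map (S : Subgroup X).subtype) =
        Nat.card (center (S : Subgroup X)) :=
      Subgroup.card_map_of_injective (Subgroup.subtype_injective _)
    rw [← h1]
    exact Subgroup.card_dvd_of_le hZS
  have hXA : Nat.card A * A.index = Nat.card X := Subgroup.card_mul_index A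
  have hidx0 : A.index ≠ 0 := Subgroup.index_ne_zero_of_finite
  have hA0 : Nat.card A ≠ 0 := Nat.card_pos.ne'
  have h1 : (irrDeg β).factorization p ≤ A.index.factorization p := by
    rw [hdeg]
    exact (Nat.factorization_le_iff_dvd (by
      intro h0; rw [h0] at hd2; exact hidx0 (Nat.eq_zero_of_zero_dvd hd2)) hidx0).mpr hd2 p
  have h2 : (Nat.card (center (S : Subgroup X))).factorization p ≤
      (Nat.card A).factorization p :=
    (Nat.factorization_le_iff_dvd Nat.card_pos.ne' hA0).mpr hcZ p
  have h3 : (Nat.card X).factorization p =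
      (Nat.card A).factorization p + A.index.factorization p := by
    rw [← hXA, Nat.factorization_mul hA0 hidx0, Finsupp.add_apply]
  omega

end Bound

end Cfsg.Agent.Helper5.FongCover
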