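import Mathlib
import Cfsg.Prelude.Def_Blocks
import Cfsg.Agent.Helper5.FongCoverD

set_option autoImplicit false

/-!
# Fong covering, part E: the lift package and the degree bound

For `N ⊴ G` a `p'`-group and `ϑ ∈ Irr(N)` invariant in `G` we package the central extension of
`G/N` attached to `ϑ` (`Helper24.ProjLift`) abstractly: a finite group `Γb` with a surjection onto
`G/N` whose kernel is a central `p'`-group, and for every `χ ∈ Irr(G | ϑ)` a `β ∈ Irr(Γb)` with
`χ(1) = ϑ(1) β(1)`.  Sylow subgroups of `G` and `Γb` are isomorphic.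
-/

namespace Cfsg.Agent.Helper5.FongCover

open Cfsg Subgroup Cfsg.Agent.Helper24 Cfsg.Agent.Helper5.Loc Cfsg.Agent.Helper5.CC

universe u

variable {G : Type u} [Group G] [Fintype G] (N : Subgroup G) [hN : N.Normal] [Fintype N]

/-- **The lift package.** -/
theorem exists_lift_package {p : ℕ} [hp : Fact p.Prime]
    (hpN : ¬ p ∣ Nat.card N) (ϑ : N → ℂ) (hϑ : IsIrrCharacter N ϑ)
    (hinv : ∀ (g : G) (n : N), ϑ ⟨g * n * g⁻¹, hN.conj_mem (n : G) n.2 g⟩ = ϑ n) :
    ∃ (Γb : Type u) (_ : Group Γb) (_ : Fintype Γb) (πb : Γb →* G ⧸ N) (d : ℕ),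
      Function.Surjective πb ∧ πb.ker ≤ center Γb ∧ ¬ p ∣ Nat.card πb.ker ∧ ¬ p ∣ d ∧ 0 < d ∧
      (∀ P : Sylow p G, ∃ S : Sylow p Γb,
        Nat.card (center (S : Subgroup Γb)) = Nat.card (center (P : Subgroup G))) ∧
      ∀ χ : IrrCharacter G, classInner (fun n : N => (χ : G → ℂ) n) ϑ ≠ 0 →
        ∃ β : IrrCharacter Γb, irrDeg χ = d * irrDeg β := by
  classical
  obtain ⟨d, Y, hY, hYϑ⟩ := hϑ
  haveI instY := hY
  subst hYϑ
  obtain ⟨k, hkdef⟩ : ∃ k : ℕ, k = Nat.card N := ⟨_, rfl⟩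
  have hk : ∀ n : N, n ^ k = 1 := fun n => by rw [hkdef]; exact pow_card_eq_one'
  have hkpos : 0 < k := by rw [hkdef]; exact Nat.card_pos
  haveI instFinΓ : Finite (liftGroup N (MonoidHom.toHomUnits Y) k) := finite_liftGroup N Y k hkpos
  haveI instFtΓ : Fintype (liftGroup N (MonoidHom.toHomUnits Y) k) := Fintype.ofFinite _
  have hp' : Function.Surjective (liftProj N (MonoidHom.toHomUnits Y) k) :=
    liftProj_surjective N Y k hinv
  haveI hNn : (liftIncl N Y k hk).range.Normal := liftIncl_range_normal N Y k hk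
  haveI instFtR : Fintype (liftIncl N Y k hk).range := Fintype.ofFinite _
  let e : N ≃* (liftIncl N Y k hk).range := MonoidHom.ofInjective (liftIncl_injective N Y k hk)
  have he : ∀ n : N, ((e n : (liftIncl N Y k hk).range) :
      liftGroup N (MonoidHom.toHomUnits Y) k) = liftIncl N Y k hk n := fun n => rfl
  have hπirr : IsIrrCharacter (liftGroup N (MonoidHom.toHomUnits Y) k)
      (liftRep N Y k).character := by
    refine isIrrCharacter_of_comp_irr (liftIncl N Y k hk) ⟨d, liftRep N Y k, rfl⟩ ?_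
    exact ⟨d, Y, hY, rfl⟩
  have hπN : IsIrrCharacter (liftIncl N Y k hk).range
      (fun n : (liftIncl N Y k hk).range => (liftRep N Y k).character n) := by
    have h1 := Helper8.isIrrCharacter_comp_surjective e.symm.toMonoidHom e.symm.surjective
      (⟨d, Y, hY, rfl⟩ : IsIrrCharacter N Y.character)
    convert h1 using 1
    funext n
    obtain ⟨m, rfl⟩ := e.surjective n
    show (liftRep N Y k).character (liftIncl N Y k hk m) = Y.character (e.symm (e m))
    rw [MulEquiv.symm_apply_apply]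
    rfl
  have hconAll : ∀ χ : IrrCharacter G, classInner (fun n : N => (χ : G → ℂ) n) Y.character ≠ 0 →
      classInner
        (fun n : (liftIncl N Y k hk).range =>
          (χ : G → ℂ) (liftProj N (MonoidHom.toHomUnits Y) k n))
        (fun n : (liftIncl N Y k hk).range => (liftRep N Y k).character n) ≠ 0 := by
    intro χ hcon
    rw [← classInner_comp_mulEquiv e]
    exact hcon
  set Γ := liftGroup N (MonoidHom.toHomUnits Y) k with hΓ
  set π : Γ →* G := liftProj N (MonoidHom.toHomUnits Y) k with hπ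
  set N₀ : Subgroup Γ := (liftIncl N Y k hk).range with hN₀
  have hd : d ∣ Nat.card N := by
    have := finrank_dvd_card Y
    rwa [Module.finrank_fin_fun] at this
  have hdpos : 0 < d := by
    have := finrank_pos_of_isIrreducible Y
    rwa [Module.finrank_fin_fun] at this
  have hpd : ¬ p ∣ d := fun h => hpN (h.trans hd)
  have hpdk : ¬ p ∣ d * k := by
    intro h
    rcases (Nat.Prime.dvd_mul hp.out).mp h with h | h
    · exact hpd h
    · rw [hkdef] at h; exact hpN h
  have hkerpow : ∀ γ : Γ, γ ∈ π.ker → γ ^ (d * k) = 1 := by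
    intro γ hγ
    obtain ⟨c, hc, hck⟩ := exists_scalar_of_mem_ker N Y k γ hγ
    apply Subtype.ext
    rw [Subgroup.coe_pow, hc]
    apply Prod.ext
    · simp
    · show (scalarHom d c) ^ (d * k) = 1
      rw [← map_pow, hck, map_one]
  have hpker : ¬ p ∣ Nat.card π.ker := by
    intro h
    obtain ⟨z, hz⟩ := exists_prime_orderOf_dvd_card' p h
    have h1 : (z : Γ) ^ (d * k) = 1 := hkerpow z z.2
    have h2 : z ^ (d * k) = 1 := Subtype.ext (by rw [Subgroup.coe_pow, h1]; rfl)
    have := orderOf_dvd_of_pow_eq_one h2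
    rw [hz] at this
    exact hpdk this
  haveI instFtQ : Fintype (Γ ⧸ N₀) := Fintype.ofFinite _
  have hπN₀ : ∀ n : N, π (liftIncl N Y k hk n) = (n : G) := fun n => rfl
  have hN₀le : N₀ ≤ N.comap π := by
    rintro _ ⟨n, rfl⟩
    rw [mem_comap, hπN₀]
    exact n.2
  let πbar : Γ ⧸ N₀ →* G ⧸ N := QuotientGroup.map N₀ N π hN₀le
  have hπbar : ∀ γ : Γ, πbar (QuotientGroup.mk' N₀ γ) = QuotientGroup.mk' N (π γ) := fun γ => rfl
  have hπbarsurj : Function.Surjective πbar := by
    intro q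
    obtain ⟨g, rfl⟩ := QuotientGroup.mk'_surjective N q
    obtain ⟨γ, rfl⟩ := hp' g
    exact ⟨QuotientGroup.mk' N₀ γ, rfl⟩
  have hZc : πbar.ker ≤ center (Γ ⧸ N₀) := by
    intro q hq
    obtain ⟨γ, rfl⟩ := QuotientGroup.mk'_surjective N₀ q
    rw [MonoidHom.mem_ker, hπbar, QuotientGroup.mk'_apply, QuotientGroup.eq_one_iff] at hq
    obtain ⟨z, hz, n, rfl⟩ := exists_ker_mul_liftIncl N Y k hk γ hq
    have hzc := ker_liftProj_le_center N Y k hz
    have hmk : QuotientGroup.mk' N₀ (z * liftIncl N Y k hk n) = QuotientGroup.mk' N₀ z := by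
      rw [map_mul]
      have : QuotientGroup.mk' N₀ (liftIncl N Y k hk n) = 1 := by
        rw [QuotientGroup.mk'_apply, QuotientGroup.eq_one_iff]
        exact ⟨n, rfl⟩
      rw [this, mul_one]
    rw [hmk, mem_center_iff]
    intro y
    obtain ⟨y', rfl⟩ := QuotientGroup.mk'_surjective N₀ y
    rw [← map_mul, ← map_mul, (mem_center_iff.mp hzc) y']
  have hcN₀ : Nat.card N₀ = Nat.card N := (Nat.card_congr e.toEquiv).symm
  have h1c : Nat.card Γ = Nat.card π.ker * Nat.card G := card_eq_card_ker_mul π hp'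
  have h2c : Nat.card Γ = Nat.card N₀ * Nat.card (Γ ⧸ N₀) := by
    have := card_eq_card_ker_mul (QuotientGroup.mk' N₀) (QuotientGroup.mk'_surjective N₀)
    rwa [QuotientGroup.ker_mk'] at this
  have hcZ : Nat.card πbar.ker = Nat.card π.ker := by
    have h3 : Nat.card (Γ ⧸ N₀) = Nat.card πbar.ker * Nat.card (G ⧸ N) :=
      card_eq_card_ker_mul πbar hπbarsurj
    have h4 : Nat.card G = Nat.card N * Nat.card (G ⧸ N) := by
      have := card_eq_card_ker_mul (QuotientGroup.mk' N) (QuotientGroup.mk'_surjective N)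
      rwa [QuotientGroup.ker_mk'] at this
    have h5 : Nat.card π.ker * (Nat.card N * Nat.card (G ⧸ N)) =
        Nat.card πbar.ker * (Nat.card N * Nat.card (G ⧸ N)) := by
      have h6 : Nat.card π.ker * (Nat.card N * Nat.card (G ⧸ N)) = Nat.card Γ := by rw [h1c, h4]
      rw [h6, h2c, h3, hcN₀]; ring
    have hpos : 0 < Nat.card N * Nat.card (G ⧸ N) := Nat.mul_pos Nat.card_pos Nat.card_pos
    exact (Nat.eq_of_mul_eq_mul_right hpos h5).symm
  have hpN₀ : ¬ p ∣ Nat.card (QuotientGroup.mk' N₀).ker := by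
    rw [QuotientGroup.ker_mk', hcN₀]; exact hpN
  -- valuations of the group orders
  have hvΓG : (Nat.card Γ).factorization p = (Nat.card G).factorization p := by
    rw [h1c, Nat.factorization_mul Nat.card_pos.ne' Nat.card_pos.ne', Finsupp.add_apply,
      Nat.factorization_eq_zero_of_not_dvd hpker, zero_add]
  have hvΓΓb : (Nat.card Γ).factorization p = (Nat.card (Γ ⧸ N₀)).factorization p := by
    rw [h2c, Nat.factorization_mul Nat.card_pos.ne' Nat.card_pos.ne', Finsupp.add_apply, hcN₀,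
      Nat.factorization_eq_zero_of_not_dvd hpN, zero_add]
  refine ⟨Γ ⧸ N₀, inferInstance, inferInstance, πbar, d, hπbarsurj, hZc, by rw [hcZ]; exact hpker,
    hpd, hdpos, ?_, ?_⟩
  · -- Sylow subgroups
    intro P
    obtain ⟨P₁⟩ : Nonempty (Sylow p Γ) := inferInstance
    have hP₁card : Nat.card (P₁ : Subgroup Γ) = p ^ (Nat.card Γ).factorization p :=
      P₁.card_eq_multiplicity
    -- image in `G`
    have hi1 := inf_ker_eq_bot_of_coprime π hpker (P₁ : Subgroup Γ) P₁.isPGroup'
    let e1 := equivMapOfInfKer π (P₁ : Subgroup Γ) hi1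
    have hc1 : Nat.card ((P₁ : Subgroup Γ).map π) = p ^ (Nat.card G).factorization p := by
      rw [← Nat.card_congr e1.toEquiv, hP₁card, hvΓG]
    set P' : Sylow p G := Sylow.ofCard ((P₁ : Subgroup Γ).map π) hc1 with hP'
    -- image in the quotient
    have hi2 := inf_ker_eq_bot_of_coprime (QuotientGroup.mk' N₀) hpN₀ (P₁ : Subgroup Γ)
      P₁.isPGroup'
    let e2 := equivMapOfInfKer (QuotientGroup.mk' N₀) (P₁ : Subgroup Γ) hi2
    have hc2 : Nat.card ((P₁ : Subgroup Γ).map (QuotientGroup.mk' N₀)) =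
        p ^ (Nat.card (Γ ⧸ N₀)).factorization p := by
      rw [← Nat.card_congr e2.toEquiv, hP₁card, hvΓΓb]
    refine ⟨Sylow.ofCard ((P₁ : Subgroup Γ).map (QuotientGroup.mk' N₀)) hc2, ?_⟩
    obtain ⟨g, hg⟩ := MulAction.exists_smul_eq G P' P
    have e3 : (P' : Subgroup G) ≃* (P : Subgroup G) := by
      rw [← hg]
      exact P'.equivSMul g
    have e4 : ((P₁ : Subgroup Γ).map π) ≃* (P' : Subgroup G) :=
      MulEquiv.subgroupCongr (by rw [hP', Sylow.coe_ofCard])
    have e5 : ((P₁ : Subgroup Γ).map (QuotientGroup.mk' N₀)) ≃*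
        ((Sylow.ofCard ((P₁ : Subgroup Γ).map (QuotientGroup.mk' N₀)) hc2 : Sylow p (Γ ⧸ N₀)) :
          Subgroup (Γ ⧸ N₀)) :=
      MulEquiv.subgroupCongr (by rw [Sylow.coe_ofCard])
    rw [← card_center_eq_of_mulEquiv e5, ← card_center_eq_of_mulEquiv e2,
      card_center_eq_of_mulEquiv e1, card_center_eq_of_mulEquiv e4, card_center_eq_of_mulEquiv e3]
  · intro χ hcon
    have hχ'irr : IsIrrCharacter Γ (fun γ => (χ : G → ℂ) (π γ)) :=
      Helper8.isIrrCharacter_comp_surjective _ hp' χ.2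
    have hcon' : classInner
        (fun n : N₀ => (χ : G → ℂ) (π n))
        (fun n : N₀ => (liftRep N Y k).character n) ≠ 0 := by
      convert hconAll χ hcon
    obtain ⟨β, hβ⟩ := exists_gallagherTwist_eq N₀
      ⟨(liftRep N Y k).character, hπirr⟩ hπN
      ⟨fun γ => (χ : G → ℂ) (π γ), hχ'irr⟩ hcon'
    refine ⟨β, ?_⟩
    have h1 := congrFun hβ 1
    simp only [gallagherTwist] at h1
    rw [map_one] at h1
    have hθ1 : (liftRep N Y k).character 1 = (d : ℂ) := by
      rw [Representation.char_one, Module.finrank_fin_fun]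
    rw [hθ1, irrDeg_spec χ, QuotientGroup.mk_one, irrDeg_spec β] at h1
    have h2 : ((irrDeg χ : ℕ) : ℂ) = ((d * irrDeg β : ℕ) : ℂ) := by
      rw [h1]; push_cast; ring
    exact_mod_cast h2

end Cfsg.Agent.Helper5.FongCover
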