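import Mathlib
import Cfsg.Prelude.Def_Blocks
import Cfsg.Agent.Helper5.FongCoverE
import Cfsg.Agent.Helper5.PPrimeNormal
import Cfsg.Agent.Helper23.HallHigman

set_option autoImplicit false

/-!
# Fong covering, part F: blocks of `p'`-groups, the degree bound for `p`-solvable groups
-/

namespace Cfsg.Agent.Helper5.FongCover

open Cfsg Subgroup Cfsg.Agent.Helper24 Cfsg.Agent.Helper5.Loc Cfsg.Agent.Helper5.CC

universe u

section Singleton

variable {N : Type*} [Group N] [Fintype N]

/-- Blocks of a `p'`-group are singletons. -/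
theorem eq_of_sameBlock_of_not_dvd {p : ℕ} [hp : Fact p.Prime] {M : Ideal AlgInt}
    (hM : IsPModular p M) (hpN : ¬ p ∣ Nat.card N) (θ θ' : IrrCharacter N)
    (h : SameBlock M (θ : N → ℂ) (θ' : N → ℂ)) : θ = θ' := by
  classical
  have hMp := isPrime_of_isPModular hM
  haveI : Fintype (IrrCharacter N) := Fintype.ofFinite _
  by_contra hne
  have h1 := act_sub_act_memLocalIdeal hMp (isClassFunction_blockCoeff ({θ} : Set (IrrCharacter N)))
    (fun t => memLocalRing_blockCoeff_of_not_dvd hM hpN _ t) h
  rw [act_blockCoeff, act_blockCoeff, if_pos (Set.mem_singleton θ),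
    if_neg (fun h' => hne (Set.mem_singleton_iff.mp h').symm), sub_zero] at h1
  exact not_memLocalIdeal_one hMp h1

end Singleton

section Index

variable {H K : Type*} [Group H] [Group K]

theorem index_center_eq_of_mulEquiv [Finite H] (e : H ≃* K) :
    (center H).index = (center K).index := by
  haveI : Finite K := Finite.of_equiv H e.toEquiv
  have h1 : Nat.card (center H) * (center H).index = Nat.card H := Subgroup.card_mul_index _
  have h2 : Nat.card (center K) * (center K).index = Nat.card K := Subgroup.card_mul_index _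
  rw [card_center_eq_of_mulEquiv e, Nat.card_congr e.toEquiv, ← h2] at h1
  exact Nat.eq_of_mul_eq_mul_left Nat.card_pos h1

end Index

variable {G : Type u} [Group G] [Fintype G]

/-- **Degree bound** for characters of a `p`-solvable group lying over an invariant character of
`O_{p'}(G)`. -/
theorem degree_bound {p : ℕ} [hp : Fact p.Prime] (hsolv : IsPSolvable p G)
    [Fintype (pPrimeCore p G)] (θ : IrrCharacter (pPrimeCore p G))
    (hinv : ∀ (g : G) (n : pPrimeCore p G),
      (θ : pPrimeCore p G → ℂ)
        ⟨g * n * g⁻¹, (inferInstance : (pPrimeCore p G).Normal).conj_mem n n.2 g⟩ =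
        (θ : pPrimeCore p G → ℂ) n)
    (χ : IrrCharacter G)
    (hcon : classInner (fun n : pPrimeCore p G => (χ : G → ℂ) n) (θ : pPrimeCore p G → ℂ) ≠ 0)
    (P : Sylow p G) :
    (irrDeg χ).factorization p + (Nat.card (center (P : Subgroup G))).factorization p ≤
      (Nat.card G).factorization p := by
  classical
  have hpN : ¬ p ∣ Nat.card (pPrimeCore p G) := by
    have := Cfsg.Agent.Helper23.pPrimeCore_card_coprime p G
    rw [Nat.coprime_comm, Nat.Prime.coprime_iff_not_dvd hp.out] at this
    exact this
  obtain ⟨Γb, iG, iF, πb, d, hsurj, hkerc, hker, hpd, hdpos, hsyl, hdeg⟩ :=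
    exists_lift_package (pPrimeCore p G) hpN (θ : pPrimeCore p G → ℂ) θ.2 hinv
  obtain ⟨S, hS⟩ := hsyl P
  obtain ⟨β, hβ⟩ := hdeg χ hcon
  set Q : Subgroup (G ⧸ pPrimeCore p G) := pCore p (G ⧸ pPrimeCore p G) with hQ
  haveI hQn : Q.Normal := pCore_normal p _
  have hQp : IsPGroup p Q := Cfsg.Agent.Helper14.pCore_isPGroup p
  have hcen : centralizer (Q : Set (G ⧸ pPrimeCore p G)) ≤ Q :=
    Cfsg.Agent.Helper23.centralizer_pCore_quotient_le_of_isPSolvable hsolv
  have hb := sylow_bound πb hsurj hkerc hker Q hQp hcen β S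
  -- orders
  have h1 : Nat.card Γb = Nat.card πb.ker * Nat.card (G ⧸ pPrimeCore p G) :=
    card_eq_card_ker_mul πb hsurj
  have h2 : Nat.card G = Nat.card (pPrimeCore p G) * Nat.card (G ⧸ pPrimeCore p G) := by
    have := card_eq_card_ker_mul (QuotientGroup.mk' (pPrimeCore p G))
      (QuotientGroup.mk'_surjective _)
    rwa [QuotientGroup.ker_mk'] at this
  have hv : (Nat.card Γb).factorization p = (Nat.card G).factorization p := by
    rw [h1, h2, Nat.factorization_mul Nat.card_pos.ne' Nat.card_pos.ne',
      Nat.factorization_mul Nat.card_pos.ne' Nat.card_pos.ne', Finsupp.add_apply,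
      Finsupp.add_apply, Nat.factorization_eq_zero_of_not_dvd hker,
      Nat.factorization_eq_zero_of_not_dvd hpN]
  have hvd : (irrDeg χ).factorization p = (irrDeg β).factorization p := by
    rw [hβ, Nat.factorization_mul hdpos.ne' (irrDeg_pos β).ne', Finsupp.add_apply,
      Nat.factorization_eq_zero_of_not_dvd hpd, zero_add]
  rw [hvd, ← hS, ← hv]
  exact hb

end Cfsg.Agent.Helper5.FongCover
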