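import Mathlib
import Cfsg.Agent.Helper6.FrobSemidirect

/-!
# Reduction modulo a prime: fixed-point-free lattices give Frobenius complements

Adapted from helper6's proof of S4293 (finite subgroups of division rings).
-/

set_option autoImplicit false
set_option linter.unusedSectionVars false

namespace Cfsg.Agent.Helper5.Fpf

section Lattice

variable {S : Type*} [Group S] {E : Type*} [AddCommGroup E] [DistribMulAction S E]

/-- The action on a stable additive subgroup. -/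
@[reducible] def latAct (Λ : AddSubgroup E) (hst : ∀ s : S, ∀ v ∈ Λ, s • v ∈ Λ) :
    DistribMulAction S Λ where
  smul s v := ⟨s • (v : E), hst s v v.2⟩
  one_smul v := Subtype.ext (one_smul S (v : E))
  mul_smul s t v := Subtype.ext (mul_smul s t (v : E))
  smul_zero s := Subtype.ext (smul_zero s)
  smul_add s v w := Subtype.ext (smul_add s (v : E) (w : E))

variable (Λ : AddSubgroup E)

/-- The subgroup `ℓΛ`. -/
def mulSubL (ℓ : ℕ) : AddSubgroup Λ := (nsmulAddMonoidHom ℓ : Λ →+ Λ).range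

variable {Λ}

theorem mem_mulSubL {ℓ : ℕ} {x : Λ} : x ∈ mulSubL Λ ℓ ↔ ∃ r : Λ, ℓ • r = x := Iff.rfl

variable (hst : ∀ s : S, ∀ v ∈ Λ, s • v ∈ Λ)

/-- The action of one element on the quotient. -/
def quoFun (ℓ : ℕ) (s : S) : (Λ ⧸ mulSubL Λ ℓ) →+ (Λ ⧸ mulSubL Λ ℓ) :=
  letI := latAct Λ hst
  QuotientAddGroup.map _ _ (DistribSMul.toAddMonoidHom Λ s) (by
    rintro x ⟨r, rfl⟩
    refine ⟨s • r, ?_⟩
    show ℓ • (s • r) = s • (ℓ • r)
    rw [smul_comm])

theorem quoFun_mk (ℓ : ℕ) (s : S) (r : Λ) :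
    quoFun hst ℓ s (r : Λ ⧸ mulSubL Λ ℓ) =
      (((⟨s • (r : E), hst s r r.2⟩ : Λ)) : Λ ⧸ mulSubL Λ ℓ) := rfl

/-- The action on the quotient. -/
@[reducible] def quoAct (ℓ : ℕ) : DistribMulAction S (Λ ⧸ mulSubL Λ ℓ) where
  smul s x := quoFun hst ℓ s x
  one_smul x := by
    induction x using QuotientAddGroup.induction_on with
    | H r =>
      show quoFun hst ℓ 1 (r : Λ ⧸ mulSubL Λ ℓ) = _
      rw [quoFun_mk]
      congr 1
      exact Subtype.ext (one_smul S (r : E))
  mul_smul s t x := by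
    induction x using QuotientAddGroup.induction_on with
    | H r =>
      show quoFun hst ℓ (s * t) (r : Λ ⧸ mulSubL Λ ℓ) =
        quoFun hst ℓ s (quoFun hst ℓ t (r : Λ ⧸ mulSubL Λ ℓ))
      rw [quoFun_mk, quoFun_mk, quoFun_mk]
      congr 1
      exact Subtype.ext (mul_smul s t (r : E))
  smul_zero s := map_zero (quoFun hst ℓ s)
  smul_add s x y := map_add (quoFun hst ℓ s) x y

theorem finite_quo (hfg : Λ.FG) (ℓ : ℕ) (hℓ : 0 < ℓ) : Finite (Λ ⧸ mulSubL Λ ℓ) := by
  have : AddGroup.FG Λ := (AddGroup.fg_iff_addSubgroup_fg Λ).mpr hfg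
  apply AddCommGroup.finite_of_fg_isAddTorsion
  intro v
  induction v using QuotientAddGroup.induction_on with
  | H r =>
    rw [isOfFinAddOrder_iff_nsmul_eq_zero]
    refine ⟨ℓ, hℓ, ?_⟩
    show ((ℓ • r : Λ) : Λ ⧸ mulSubL Λ ℓ) = 0
    rw [QuotientAddGroup.eq_zero_iff]
    exact ⟨r, rfl⟩

/-- Nakayama: a finitely generated torsion-free nonzero lattice is not `ℓ`-divisible. -/
theorem mulSubL_ne_top (htf : ∀ (n : ℤ) (v : E), n ≠ 0 → n • v = 0 → v = 0) (hfg : Λ.FG)
    (hne : Λ ≠ ⊥) (ℓ : ℕ) (hℓ : ℓ.Prime) : mulSubL Λ ℓ ≠ ⊤ := by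
  intro htop
  let N' : Submodule ℤ E := AddSubgroup.toIntSubmodule Λ
  have hfg' : N'.FG := by
    obtain ⟨T, hT⟩ := hfg
    refine ⟨T, ?_⟩
    apply Submodule.toAddSubgroup_injective
    rw [Submodule.span_int_eq_addSubgroupClosure, hT]
    rfl
  have hle : N' ≤ (Ideal.span {(ℓ : ℤ)}) • N' := by
    intro x hx
    have hx' : (⟨x, hx⟩ : Λ) ∈ mulSubL Λ ℓ := by rw [htop]; trivial
    obtain ⟨r, hr⟩ := hx'
    have e : x = (ℓ : ℤ) • (r : E) := by
      have := congrArg (fun y : Λ => (y : E)) hr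
      simp only [nsmulAddMonoidHom_apply, AddSubgroup.coe_nsmul] at this
      rw [← this, natCast_zsmul]
    rw [e]
    exact Submodule.smul_mem_smul (Ideal.mem_span_singleton_self _) r.2
  obtain ⟨a, ha1, ha2⟩ :=
    Submodule.exists_sub_one_mem_and_smul_eq_zero_of_fg_of_le_smul _ N' hfg' hle
  obtain ⟨v, hv, hv0⟩ : ∃ v ∈ Λ, v ≠ 0 := by
    by_contra hcon
    push Not at hcon
    apply hne
    rw [eq_bot_iff]
    intro v hv
    rw [AddSubgroup.mem_bot]
    exact hcon v hv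
  have h2 := ha2 v hv
  have ha0 : a = 0 := by
    by_contra hane
    exact hv0 (htf a v hane h2)
  rw [ha0, Ideal.mem_span_singleton] at ha1
  have h3 : (ℓ : ℤ) ∣ 1 := by
    have : (0 : ℤ) - 1 = -1 := by norm_num
    rw [this] at ha1
    exact (dvd_neg.mp ha1)
  have h4 : ℓ ∣ 1 := by exact_mod_cast h3
  exact hℓ.one_lt.ne' (Nat.dvd_one.mp h4)

/-- **Reduction modulo a prime.** A nontrivial finite group acting on a torsion-free abelian group,
stabilizing a nonzero finitely generated subgroup on which all the cyclic norms vanish, is a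
Frobenius complement. -/
theorem frobenius_of_lattice [Finite S] [Nontrivial S]
    (hst : ∀ s : S, ∀ v ∈ Λ, s • v ∈ Λ)
    (htf : ∀ (n : ℤ) (v : E), n ≠ 0 → n • v = 0 → v = 0) (hfg : Λ.FG) (hne : Λ ≠ ⊥)
    (hnorm : ∀ s : S, s ≠ 1 → ∀ v ∈ Λ, ∑ i ∈ Finset.range (orderOf s), (s ^ i) • v = 0) :
    ∃ (L : Type) (_ : Group L) (_ : Finite L) (H : Subgroup L),
      Cfsg.IsFrobeniusComplement H ∧ Nonempty (S ≃* H) := by
  obtain ⟨ℓ, hℓ1, hℓ⟩ := Nat.exists_infinite_primes (Nat.card S + 1)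
  have hdvd : ¬ ℓ ∣ Nat.card S := by
    intro hd
    have := Nat.le_of_dvd Nat.card_pos hd
    omega
  let _ := latAct Λ hst
  let _ := quoAct hst ℓ
  have : Finite (Λ ⧸ mulSubL Λ ℓ) := finite_quo hfg ℓ hℓ.pos
  have : Nontrivial (Λ ⧸ mulSubL Λ ℓ) := by
    have h1 := mulSubL_ne_top htf hfg hne ℓ hℓ
    obtain ⟨x, hx⟩ : ∃ x : Λ, x ∉ mulSubL Λ ℓ := by
      by_contra hcon
      push Not at hcon
      exact h1 (eq_top_iff.mpr fun x _ => hcon x)
    refine ⟨⟨(x : Λ ⧸ mulSubL Λ ℓ), 0, ?_⟩⟩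
    rw [Ne, QuotientAddGroup.eq_zero_iff]
    exact hx
  apply Cfsg.Agent.Helper6.exists_frobenius_of_fpf' (S := S) (V := Λ ⧸ mulSubL Λ ℓ)
  intro s hs v hv
  set m := orderOf s with hm
  have hmdvd : m ∣ Nat.card S := orderOf_dvd_natCard s
  have hcop : Nat.Coprime m ℓ := by
    rw [Nat.coprime_comm]
    exact (Nat.Prime.coprime_iff_not_dvd hℓ).mpr (fun h => hdvd (h.trans hmdvd))
  have hpow : ∀ i : ℕ, (s ^ i) • v = v := by
    intro i
    induction i with
    | zero => rw [pow_zero, one_smul]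
    | succ i ih => rw [pow_succ, mul_smul, hv, ih]
  have hsum : ∑ i ∈ Finset.range m, (s ^ i) • v = m • v := by
    rw [Finset.sum_congr rfl (fun i _ => hpow i), Finset.sum_const, Finset.card_range]
  have hsum0 : ∑ i ∈ Finset.range m, (s ^ i) • v = 0 := by
    induction v using QuotientAddGroup.induction_on with
    | H r =>
      have e1 : ∀ i : ℕ, (s ^ i) • (r : Λ ⧸ mulSubL Λ ℓ) =
          (((s ^ i) • r : Λ) : Λ ⧸ mulSubL Λ ℓ) := fun i => rfl
      rw [Finset.sum_congr rfl (fun i _ => e1 i)]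
      have e2 : ∑ i ∈ Finset.range m, ((((s ^ i) • r : Λ)) : Λ ⧸ mulSubL Λ ℓ) =
          ((∑ i ∈ Finset.range m, (s ^ i) • r : Λ) : Λ ⧸ mulSubL Λ ℓ) := by
        rw [← QuotientAddGroup.mk'_apply, map_sum]
        rfl
      rw [e2]
      have e3 : (∑ i ∈ Finset.range m, (s ^ i) • r : Λ) = 0 := by
        apply Subtype.ext
        show Λ.subtype (∑ i ∈ Finset.range m, (s ^ i) • r) = 0
        rw [map_sum]
        exact hnorm s hs r r.2
      rw [e3]; rfl
  have hmv : m • v = 0 := by rw [← hsum, hsum0]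
  have hℓv : ℓ • v = 0 := by
    induction v using QuotientAddGroup.induction_on with
    | H r =>
      show ((ℓ • r : Λ) : Λ ⧸ mulSubL Λ ℓ) = 0
      rw [QuotientAddGroup.eq_zero_iff]
      exact ⟨r, rfl⟩
  have hb : ((Nat.gcd m ℓ : ℕ) : ℤ) = (m : ℤ) * Nat.gcdA m ℓ + (ℓ : ℤ) * Nat.gcdB m ℓ :=
    Nat.gcd_eq_gcd_ab _ _
  rw [hcop] at hb
  have h6 : ((m : ℤ) * Nat.gcdA m ℓ) • v = 0 := by
    rw [mul_zsmul', natCast_zsmul, hmv, zsmul_zero]
  have h7 : ((ℓ : ℤ) * Nat.gcdB m ℓ) • v = 0 := by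
    rw [mul_zsmul', natCast_zsmul, hℓv, zsmul_zero]
  have h8 : v = ((1 : ℕ) : ℤ) • v := by simp
  rw [h8, hb, add_zsmul, h6, h7, add_zero]

end Lattice

end Cfsg.Agent.Helper5.Fpf

namespace Cfsg.Agent.Helper5.Fpf

section MatrixRep

variable {S : Type*} [Group S] {F : Type*} [Field F] {ι : Type*} [Fintype ι] [DecidableEq ι]

/-- The action on column vectors attached to a matrix representation. -/
@[reducible] def matAct (ρ : S →* Matrix ι ι F) : DistribMulAction S (ι → F) where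
  smul s v := (ρ s).mulVec v
  one_smul v := by
    show (ρ 1).mulVec v = v
    rw [map_one, Matrix.one_mulVec]
  mul_smul s t v := by
    show (ρ (s * t)).mulVec v = (ρ s).mulVec ((ρ t).mulVec v)
    rw [map_mul, Matrix.mulVec_mulVec]
  smul_zero s := Matrix.mulVec_zero _
  smul_add s v w := Matrix.mulVec_add _ v w

/-- **A nontrivial finite group with a fixed-point-free matrix representation in characteristic
`0` is a Frobenius complement.** -/
theorem frobenius_of_fpf_matrix_rep [Finite S] [Nontrivial S] [CharZero F] [Nonempty ι]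
    (ρ : S →* Matrix ι ι F)
    (hfpf : ∀ s : S, s ≠ 1 → ∀ v : ι → F, (ρ s).mulVec v = v → v = 0) :
    ∃ (L : Type) (_ : Group L) (_ : Finite L) (H : Subgroup L),
      Cfsg.IsFrobeniusComplement H ∧ Nonempty (S ≃* H) := by
  let _ := matAct ρ
  have hsmul : ∀ (s : S) (v : ι → F), s • v = (ρ s).mulVec v := fun s v => rfl
  set Λ : AddSubgroup (ι → F) :=
    AddSubgroup.closure (Set.range fun p : S × ι => (ρ p.1).mulVec (Pi.single p.2 1)) with hΛ
  have hst : ∀ s : S, ∀ v ∈ Λ, s • v ∈ Λ := by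
    intro s v hv
    rw [hΛ] at hv
    induction hv using AddSubgroup.closure_induction with
    | mem x hx =>
      obtain ⟨⟨t, i⟩, rfl⟩ := hx
      apply AddSubgroup.subset_closure
      refine ⟨(s * t, i), ?_⟩
      show (ρ (s * t)).mulVec (Pi.single i 1) = (ρ s).mulVec ((ρ t).mulVec (Pi.single i 1))
      rw [map_mul, Matrix.mulVec_mulVec]
    | zero => rw [smul_zero]; exact zero_mem _
    | add x y _ _ hx hy => rw [smul_add]; exact add_mem hx hy
    | neg x _ hx => rw [smul_neg]; exact neg_mem hx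
  have hfg : Λ.FG := by
    rw [AddSubgroup.fg_iff]
    exact ⟨_, rfl, Set.finite_range _⟩
  have hne : Λ ≠ ⊥ := by
    obtain ⟨i⟩ := ‹Nonempty ι›
    intro h
    have h1 : (Pi.single i 1 : ι → F) ∈ Λ := by
      apply AddSubgroup.subset_closure
      refine ⟨(1, i), ?_⟩
      show (ρ 1).mulVec (Pi.single i 1) = Pi.single i 1
      rw [map_one, Matrix.one_mulVec]
    rw [h, AddSubgroup.mem_bot] at h1
    have := congrFun h1 i
    simp at this
  have htf : ∀ (n : ℤ) (v : ι → F), n ≠ 0 → n • v = 0 → v = 0 := by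
    intro n v hn hv
    funext j
    have := congrFun hv j
    rw [Pi.smul_apply, zsmul_eq_mul, Pi.zero_apply] at this
    rcases mul_eq_zero.mp this with h | h
    · exact absurd (by exact_mod_cast h) hn
    · exact h
  have hnorm : ∀ s : S, s ≠ 1 → ∀ v ∈ Λ,
      ∑ i ∈ Finset.range (orderOf s), (s ^ i) • v = 0 := by
    intro s hs v _
    apply hfpf s hs
    rw [← hsmul, Finset.smul_sum]
    have h1 : ∀ i : ℕ, s • (s ^ i) • v = (s ^ (i + 1)) • v := by
      intro i
      rw [← mul_smul, ← pow_succ']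
    simp_rw [h1]
    have h2 := Finset.sum_range_succ' (fun i => (s ^ i) • v) (orderOf s)
    have h3 := Finset.sum_range_succ (fun i => (s ^ i) • v) (orderOf s)
    rw [h3] at h2
    simp only [pow_orderOf_eq_one, pow_zero] at h2
    exact (add_right_cancel h2).symm
  exact frobenius_of_lattice hst htf hfg hne hnorm

end MatrixRep

end Cfsg.Agent.Helper5.Fpf
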