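import Mathlib
import Cfsg.Agent.Helper5.FpfK

/-!
# The Kronecker product of two fixed-point-free representations of groups of coprime orders
-/

set_option autoImplicit false
set_option linter.unusedSectionVars false

namespace Cfsg.Agent.Helper5.Fpf

open scoped Kronecker

section Kron

variable {F : Type*} [Field F] {n m : Type*} [Fintype n] [DecidableEq n] [Fintype m]
  [DecidableEq m]

theorem kronecker_one_mulVec (X : Matrix n n F) (v : n × m → F) (i : n) (j : m) :
    ((X ⊗ₖ (1 : Matrix m m F)).mulVec v) (i, j) = (X.mulVec fun i' => v (i', j)) i := by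
  rw [Matrix.mulVec, Matrix.mulVec]
  simp only [dotProduct]
  rw [Fintype.sum_prod_type]
  refine Finset.sum_congr rfl fun i' _ => ?_
  simp only [Matrix.kroneckerMap_apply, Matrix.one_apply]
  rw [Finset.sum_eq_single j]
  · rw [if_pos rfl, mul_one]
  · intro j' _ hj'
    rw [if_neg (Ne.symm hj'), mul_zero, zero_mul]
  · intro h; exact absurd (Finset.mem_univ _) h

theorem one_kronecker_mulVec (Y : Matrix m m F) (v : n × m → F) (i : n) (j : m) :
    (((1 : Matrix n n F) ⊗ₖ Y).mulVec v) (i, j) = (Y.mulVec fun j' => v (i, j')) j := by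
  rw [Matrix.mulVec, Matrix.mulVec]
  simp only [dotProduct]
  rw [Fintype.sum_prod_type, Finset.sum_eq_single i]
  · refine Finset.sum_congr rfl fun j' _ => ?_
    simp only [Matrix.kroneckerMap_apply, Matrix.one_apply]
    rw [if_pos trivial, one_mul]
  · intro i' _ hi'
    apply Finset.sum_eq_zero
    intro j' _
    simp only [Matrix.kroneckerMap_apply, Matrix.one_apply]
    rw [if_neg (Ne.symm hi'), zero_mul, zero_mul]
  · intro h; exact absurd (Finset.mem_univ _) h

variable {A B : Type*} [Group A] [Group B]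

/-- The Kronecker product representation. -/
def kronRep (ρA : A →* Matrix n n F) (ρB : B →* Matrix m m F) :
    A × B →* Matrix (n × m) (n × m) F where
  toFun g := ρA g.1 ⊗ₖ ρB g.2
  map_one' := by
    show ρA 1 ⊗ₖ ρB 1 = 1
    rw [map_one, map_one, Matrix.one_kronecker_one]
  map_mul' g h := by
    show ρA (g.1 * h.1) ⊗ₖ ρB (g.2 * h.2) = (ρA g.1 ⊗ₖ ρB g.2) * (ρA h.1 ⊗ₖ ρB h.2)
    rw [map_mul, map_mul, Matrix.mul_kronecker_mul]

theorem kronRep_apply (ρA : A →* Matrix n n F) (ρB : B →* Matrix m m F) (a : A) (b : B) :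
    kronRep ρA ρB (a, b) = ρA a ⊗ₖ ρB b := rfl

/-- The Kronecker product of fixed-point-free representations of groups of coprime orders is
fixed-point-free. -/
theorem kronRep_fpf [Finite A] [Finite B] (hcop : (Nat.card A).Coprime (Nat.card B))
    (ρA : A →* Matrix n n F) (ρB : B →* Matrix m m F)
    (hA : ∀ a : A, a ≠ 1 → ∀ v : n → F, (ρA a).mulVec v = v → v = 0)
    (hB : ∀ b : B, b ≠ 1 → ∀ v : m → F, (ρB b).mulVec v = v → v = 0) :
    ∀ g : A × B, g ≠ 1 → ∀ v : n × m → F, (kronRep ρA ρB g).mulVec v = v → v = 0 := by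
  intro g hg v hv
  have hpow : ∀ k : ℕ, (kronRep ρA ρB (g ^ k)).mulVec v = v := by
    intro k
    induction k with
    | zero => rw [pow_zero, map_one, Matrix.one_mulVec]
    | succ k ih => rw [pow_succ, map_mul, ← Matrix.mulVec_mulVec, hv, ih]
  obtain ⟨a, b⟩ := g
  by_cases ha : a = 1
  · subst ha
    have hb : b ≠ 1 := fun h => hg (by rw [h]; rfl)
    funext ⟨i, j⟩
    have h1 : (ρB b).mulVec (fun j' => v (i, j')) = fun j' => v (i, j') := by
      funext j'
      have := congrFun hv (i, j')
      rw [kronRep_apply, map_one, one_kronecker_mulVec] at this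
      exact this
    have := hB b hb _ h1
    exact congrFun this j
  · -- raise to the power `|B|`
    set t := Nat.card B with ht
    have hbt : b ^ t = 1 := pow_card_eq_one'
    have hat : a ^ t ≠ 1 := by
      intro h
      apply ha
      have h1 : orderOf a ∣ t := orderOf_dvd_of_pow_eq_one h
      have h2 : orderOf a ∣ Nat.card A := orderOf_dvd_natCard a
      have h3 : orderOf a ∣ 1 := by
        have := Nat.dvd_gcd h2 h1
        rwa [hcop] at this
      exact orderOf_eq_one_iff.mp (Nat.dvd_one.mp h3)
    have h0 := hpow t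
    have hgt : ((a, b) : A × B) ^ t = (a ^ t, 1) := by
      rw [Prod.pow_mk, hbt]
    rw [hgt] at h0
    funext ⟨i, j⟩
    have h1 : (ρA (a ^ t)).mulVec (fun i' => v (i', j)) = fun i' => v (i', j) := by
      funext i'
      have := congrFun h0 (i', j)
      rw [kronRep_apply, map_one, kronecker_one_mulVec] at this
      exact this
    have := hA (a ^ t) hat _ h1
    exact congrFun this i

end Kron

end Cfsg.Agent.Helper5.Fpf
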