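import Mathlib
import Cfsg.Agent.Helper5.FpfL
import Cfsg.Agent.Helper5.FpfJ
import Cfsg.Agent.Helper1.FrobeniusCompl

/-!
# Direct products of Frobenius complements
-/

set_option autoImplicit false
set_option linter.unusedSectionVars false

namespace Cfsg.Agent.Helper5.Fpf

open Cfsg

section Sub

variable {L : Type*} [Group L] [Finite L]

/-- A nontrivial group embedding into a Frobenius complement is a Frobenius complement. -/
theorem fc_of_embedding {S : Type*} [Group S] [Finite S] [Nontrivial S] (H : Subgroup L)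
    (hH : IsFrobeniusComplement H) (φ : S →* L) (hφ : Function.Injective φ)
    (hφH : ∀ s, φ s ∈ H) :
    ∃ (L' : Type) (_ : Group L') (_ : Finite L') (H' : Subgroup L'),
      Cfsg.IsFrobeniusComplement H' ∧ Nonempty (S ≃* H') := by
  obtain ⟨N, hNn, -, hNne, -, hfix⟩ := frobenius_kernel_data H hH
  haveI := hNn
  letI : MulDistribMulAction S N :=
    MulDistribMulAction.compHom N ((MulAut.conjNormal (H := N)).comp φ)
  have hsmul : ∀ (s : S) (v : N), ((s • v : N) : L) = φ s * v * (φ s)⁻¹ := by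
    intro s v
    rfl
  haveI : Nontrivial N := by
    rw [← Subgroup.nontrivial_iff_ne_bot] at hNne
    exact hNne
  apply Cfsg.Agent.Helper6.exists_frobenius_of_fpf_mul' (S := S) (V := N)
  intro s hs v hv
  have h1 : φ s ≠ 1 := by
    intro h
    apply hs
    apply hφ
    rw [h, map_one]
  have h2 : φ s * v * (φ s)⁻¹ = v := by
    rw [← hsmul, hv]
  have h3 : φ s * (v : L) = v * φ s := by
    calc φ s * (v : L) = φ s * v * (φ s)⁻¹ * φ s := by group
      _ = v * φ s := by rw [h2]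
  have := hfix (φ s) (hφH s) h1 v v.2 h3
  exact Subtype.ext this

/-- If `A × B` embeds in a Frobenius complement then `|A|` and `|B|` are coprime. -/
theorem coprime_of_prod_embedding {A B : Type*} [Group A] [Group B] [Finite A] [Finite B]
    (H : Subgroup L) (hH : IsFrobeniusComplement H) (φ : A × B →* L)
    (hφ : Function.Injective φ) (hφH : ∀ s, φ s ∈ H) :
    (Nat.card A).Coprime (Nat.card B) := by
  obtain ⟨N, hNk, hNn, -⟩ := Cfsg.Agent.S0042.result H hH
  haveI := hNn
  rw [Nat.coprime_iff_gcd_eq_one]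
  by_contra hne
  obtain ⟨r, hr, hrd⟩ := Nat.exists_prime_and_dvd hne
  haveI : Fact r.Prime := ⟨hr⟩
  obtain ⟨a, ha⟩ := exists_prime_orderOf_dvd_card' (G := A) r
    (hrd.trans (Nat.gcd_dvd_left _ _))
  obtain ⟨b, hb⟩ := exists_prime_orderOf_dvd_card' (G := B) r
    (hrd.trans (Nat.gcd_dvd_right _ _))
  set E : Subgroup (A × B) := (Subgroup.zpowers a).prod (Subgroup.zpowers b) with hE
  have hEcard : Nat.card E = r * r := by
    rw [hE, Nat.card_congr (Subgroup.prodEquiv _ _).toEquiv, Nat.card_prod, Nat.card_zpowers,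
      Nat.card_zpowers, ha, hb]
  have hEpow : ∀ x ∈ E, x ^ r = 1 := by
    intro x hx
    rw [hE, Subgroup.mem_prod] at hx
    obtain ⟨⟨i, hi⟩, ⟨j, hj⟩⟩ := hx
    apply Prod.ext
    · show (x ^ r).1 = 1
      rw [Prod.pow_fst, ← hi]
      show (a ^ i) ^ r = 1
      rw [← zpow_natCast, ← zpow_mul, mul_comm, zpow_mul, zpow_natCast, ← ha,
        pow_orderOf_eq_one, one_zpow]
    · show (x ^ r).2 = 1
      rw [Prod.pow_snd, ← hj]
      show (b ^ j) ^ r = 1
      rw [← zpow_natCast, ← zpow_mul, mul_comm, zpow_mul, zpow_natCast, ← hb,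
        pow_orderOf_eq_one, one_zpow]
  have hEcomm : ∀ x ∈ E, ∀ y ∈ E, x * y = y * x := by
    intro x hx y hy
    rw [hE, Subgroup.mem_prod] at hx hy
    obtain ⟨⟨i, hi⟩, ⟨j, hj⟩⟩ := hx
    obtain ⟨⟨i', hi'⟩, ⟨j', hj'⟩⟩ := hy
    apply Prod.ext
    · show x.1 * y.1 = y.1 * x.1
      rw [← hi, ← hi']
      show a ^ i * a ^ i' = a ^ i' * a ^ i
      rw [← zpow_add, ← zpow_add, add_comm]
    · show x.2 * y.2 = y.2 * x.2
      rw [← hj, ← hj']
      show b ^ j * b ^ j' = b ^ j' * b ^ j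
      rw [← zpow_add, ← zpow_add, add_comm]
  set E' : Subgroup L := E.map φ with hE'
  have hE'H : E' ≤ H := by
    rintro _ ⟨x, -, rfl⟩
    exact hφH x
  have hE'comm : IsMulCommutative E' := by
    refine ⟨⟨?_⟩⟩
    rintro ⟨_, ⟨x, hx, rfl⟩⟩ ⟨_, ⟨y, hy, rfl⟩⟩
    apply Subtype.ext
    show φ x * φ y = φ y * φ x
    rw [← map_mul, ← map_mul, hEcomm x hx y hy]
  haveI hcyc : IsCyclic E' :=
    Cfsg.Agent.Helper1.frob_compl_subgroup_cyclic hH hNk E' hE'H (Or.inl hE'comm)
  have hE'card : Nat.card E' = r * r := by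
    rw [hE', Subgroup.card_map_of_injective hφ, hEcard]
  have hexp : Monoid.exponent E' ∣ r := by
    apply Monoid.exponent_dvd_of_forall_pow_eq_one
    rintro ⟨_, ⟨x, hx, rfl⟩⟩
    apply Subtype.ext
    show φ x ^ r = 1
    rw [← map_pow, hEpow x hx, map_one]
  rw [IsCyclic.exponent_eq_card, hE'card] at hexp
  have : r * r ≤ r := Nat.le_of_dvd hr.pos hexp
  have h2 := hr.two_le
  nlinarith

end Sub

section Prod

variable {A B : Type*} [Group A] [Finite A] [Nontrivial A] [Group B] [Finite B] [Nontrivial B]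

/-- The product of two Frobenius complements of coprime orders is a Frobenius complement. -/
theorem fc_prod
    (hA : ∃ (L : Type) (_ : Group L) (_ : Finite L) (H : Subgroup L),
      Cfsg.IsFrobeniusComplement H ∧ Nonempty (A ≃* H))
    (hB : ∃ (L : Type) (_ : Group L) (_ : Finite L) (H : Subgroup L),
      Cfsg.IsFrobeniusComplement H ∧ Nonempty (B ≃* H))
    (hcop : (Nat.card A).Coprime (Nat.card B)) :
    ∃ (L : Type) (_ : Group L) (_ : Finite L) (H : Subgroup L),
      Cfsg.IsFrobeniusComplement H ∧ Nonempty ((A × B) ≃* H) := by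
  obtain ⟨LA, iGA, iFA, HA, hHA, ⟨eA⟩⟩ := hA
  obtain ⟨LB, iGB, iFB, HB, hHB, ⟨eB⟩⟩ := hB
  obtain ⟨n, ρA, hn, -, -, hfA⟩ := frobenius_complement_fpf_rep HA hHA
  obtain ⟨m, ρB, hm, -, -, hfB⟩ := frobenius_complement_fpf_rep HB hHB
  set σA : A →* Matrix (Fin n) (Fin n) (AlgebraicClosure ℚ) :=
    ((Units.coeHom _).comp ρA).comp eA.toMonoidHom with hσA
  set σB : B →* Matrix (Fin m) (Fin m) (AlgebraicClosure ℚ) :=
    ((Units.coeHom _).comp ρB).comp eB.toMonoidHom with hσB
  have hA' : ∀ a : A, a ≠ 1 → ∀ v : Fin n → AlgebraicClosure ℚ, (σA a).mulVec v = v → v = 0 := by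
    intro a ha v hv
    apply hfA (eA a) _ v hv
    intro h
    apply ha
    apply eA.injective
    rw [h, map_one]
  have hB' : ∀ b : B, b ≠ 1 → ∀ v : Fin m → AlgebraicClosure ℚ, (σB b).mulVec v = v → v = 0 := by
    intro b hb v hv
    apply hfB (eB b) _ v hv
    intro h
    apply hb
    apply eB.injective
    rw [h, map_one]
  haveI : Nonempty (Fin n × Fin m) := ⟨(⟨0, hn⟩, ⟨0, hm⟩)⟩
  exact frobenius_of_fpf_matrix_rep (S := A × B) (kronRep σA σB)
    (kronRep_fpf hcop σA σB hA' hB')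

end Prod

end Cfsg.Agent.Helper5.Fpf
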