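import Mathlib
import Cfsg.Prelude.Def_Characters
import Cfsg.Agent.Helper24.Expansion
import Cfsg.Agent.Helper24.Linear
import Cfsg.Agent.Helper8.GaloisChar
import Cfsg.Agent.Helper8.PosDef

/-!
# Products of Galois conjugate characters: the key character-theoretic lemma

If `χ` is irreducible and `g ↦ χ g * χ (g ^ k)` is irreducible (`k` coprime to `|G|`), then any
character `Ψ` contained in `χ χ̄`, invariant under `g ↦ g ^ k` and containing the trivial
character is the trivial character.
-/

namespace Cfsg.Agent.Helper5.GalProd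

open Cfsg Cfsg.Agent.Helper24

universe u

variable {G : Type u} [Group G] [Fintype G]

theorem key (χ : G → ℂ) (k : ℕ) (hk : k.Coprime (Nat.card G))
    (hirr : IsIrrCharacter G (fun g => χ g * χ (g ^ k)))
    (Ψ : G → ℂ) (hΨ : IsCharacter G Ψ)
    (hR : IsCharacter G (fun g => χ g * (starRingEnd ℂ) (χ g) - Ψ g))
    (hpow : ∀ g, Ψ (g ^ k) = Ψ g) (h1 : classInner Ψ (fun _ => (1 : ℂ)) ≠ 0) :
    Ψ = fun _ => 1 := by
  classical
  haveI : Fintype (IrrCharacter G) := Fintype.ofFinite _
  set R : G → ℂ := fun g => χ g * (starRingEnd ℂ) (χ g) - Ψ g with hRdef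
  set R' : G → ℂ := fun g => R (g ^ k) with hR'def
  have hR' : IsCharacter G R' := Helper8.isCharacter_pow_of_coprime k hk hR
  set f : G → ℂ := fun g => χ g * (starRingEnd ℂ) (χ g) with hfdef
  set f' : G → ℂ := fun g => f (g ^ k) with hf'def
  have hf : f = Ψ + R := by
    funext g
    simp only [hfdef, hRdef, Pi.add_apply]
    ring
  have hf' : f' = Ψ + R' := by
    funext g
    simp only [hf'def, hfdef, hR'def, hRdef, Pi.add_apply, hpow]
    ring
  have hinner : classInner f f' = 1 := by
    have h := classInner_irr_self (⟨_, hirr⟩ : IrrCharacter G)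
    rw [← h]
    unfold classInner
    congr 1
    refine Finset.sum_congr rfl ?_
    intro g _
    simp only [hf'def, hfdef, map_mul, Complex.conj_conj]
    ring
  rw [hf, hf', classInner_add_left, classInner_add_right, classInner_add_right] at hinner
  obtain ⟨a, ha⟩ := IsCharacter.classInner_nat hΨ hΨ
  obtain ⟨b, hb⟩ := IsCharacter.classInner_nat hΨ hR'
  obtain ⟨c, hc⟩ := IsCharacter.classInner_nat hR hΨ
  obtain ⟨d, hd⟩ := IsCharacter.classInner_nat hR hR'
  rw [ha, hb, hc, hd] at hinner
  have hnat : a + b + (c + d) = 1 := by exact_mod_cast hinner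
  have hΨ0 : Ψ ≠ 0 := by
    intro h0
    apply h1
    rw [h0]
    simp [classInner]
  have ha0 : a ≠ 0 := by
    intro h0
    apply hΨ0
    apply Helper8.eq_zero_of_classInner_self_eq_zero
    rw [ha, h0]
    simp
  have ha1 : a = 1 := by omega
  have hΨirr : IsIrrCharacter G Ψ := by
    rw [isIrrCharacter_iff_classInner_self]
    exact ⟨hΨ, by rw [ha, ha1]; simp⟩
  have := classInner_of_isIrrCharacter hΨirr (isIrrCharacter_const_one (G := G))
  by_contra hne
  rw [if_neg hne] at this
  exact h1 this

end Cfsg.Agent.Helper5.GalProd
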