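import Mathlib
import Cfsg.Prelude.Def_Characters
import Cfsg.Agent.Helper24.Rep
import Cfsg.Agent.Helper24.CharBasic
import Cfsg.Agent.Helper8.SchurCommute

/-!
# A sub-character of `χ χ̄` attached to a normal subgroup

For an irreducible complex representation `ρ` with character `χ` and a normal subgroup `E`, the
span of `ρ(E)` inside `End V` is a subrepresentation of the conjugation representation; its
character is `g ↦ c ∑_{x ∈ E} χ(x⁻¹ g x g⁻¹)` with `c = χ(1) / ∑_{b ∈ E} |χ(b)|²`.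
-/

namespace Cfsg.Agent.Helper5.GalProd

open Cfsg Cfsg.Agent.Helper24

universe u v

theorem isCharacter_trace_comp_proj {G : Type u} [Group G] {M : Type v} [AddCommGroup M]
    [Module ℂ M] [FiniteDimensional ℂ M]
    (L : Representation ℂ G M) (π : M →ₗ[ℂ] M) (hπ : π ∘ₗ π = π)
    (hcomm : ∀ g, L g ∘ₗ π = π ∘ₗ L g) :
    IsCharacter G (fun g => LinearMap.trace ℂ M (L g ∘ₗ π)) := by
  let W : Subrepresentation L := ⟨LinearMap.range π, by
    rintro g v ⟨w, rfl⟩
    exact ⟨L g w, by rw [← LinearMap.comp_apply, ← hcomm g]; rfl⟩⟩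
  have key : W.toRepresentation.character = fun g => LinearMap.trace ℂ M (L g ∘ₗ π) := by
    funext g
    let ι : ↥(LinearMap.range π) →ₗ[ℂ] M := (LinearMap.range π).subtype
    let π' : M →ₗ[ℂ] ↥(LinearMap.range π) := π.rangeRestrict
    have h1 : W.toRepresentation g = π' ∘ₗ (L g ∘ₗ ι) := by
      ext ⟨v, w, rfl⟩
      have e1 : π (L g (π w)) = L g (π w) := by
        have := LinearMap.congr_fun (hcomm g) (π w)
        simp only [LinearMap.comp_apply] at this
        rw [← this]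
        have h2 := LinearMap.congr_fun hπ w
        simp only [LinearMap.comp_apply] at h2
        rw [h2]
      simp [Subrepresentation.toRepresentation, ι, π', e1]
    show LinearMap.trace ℂ _ (W.toRepresentation g) = _
    rw [h1, LinearMap.trace_comp_comm']
    congr 1
  rw [← key]
  exact isCharacter_character _

section Op

variable {G : Type u} [Group G] {V : Type v} [AddCommGroup V] [Module ℂ V]
  [FiniteDimensional ℂ V] (ρ : Representation ℂ G V) (E : Subgroup G) [Fintype E]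

/-- The functional `T ↦ tr (ρ x⁻¹ ∘ T)`. -/
noncomputable def trFun (x : G) : (V →ₗ[ℂ] V) →ₗ[ℂ] ℂ :=
  (LinearMap.trace ℂ V) ∘ₗ (LinearMap.mulLeft ℂ (ρ x⁻¹))

omit [FiniteDimensional ℂ V] in
theorem trFun_apply (x : G) (T : V →ₗ[ℂ] V) :
    trFun ρ x T = LinearMap.trace ℂ V (ρ x⁻¹ * T) := rfl

/-- The operator `T ↦ c ∑_{x ∈ E} tr (ρ x⁻¹ T) ρ x` on `End V`. -/
noncomputable def projOp (c : ℂ) : (V →ₗ[ℂ] V) →ₗ[ℂ] (V →ₗ[ℂ] V) :=
  c • ∑ x : E, (trFun ρ (x : G)).smulRight (ρ (x : G))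

omit [FiniteDimensional ℂ V] in
theorem projOp_apply (c : ℂ) (T : V →ₗ[ℂ] V) :
    projOp ρ E c T = c • ∑ x : E, (LinearMap.trace ℂ V (ρ (x : G)⁻¹ * T)) • ρ (x : G) := by
  simp [projOp, LinearMap.sum_apply, trFun_apply]

theorem linHom_comp_projOp (c : ℂ) (g : G) :
    (Representation.linHom ρ ρ g) ∘ₗ projOp ρ E c =
      c • ∑ x : E, (trFun ρ (x : G)).smulRight (Representation.linHom ρ ρ g (ρ (x : G))) := by
  ext T : 1
  simp only [LinearMap.comp_apply, projOp_apply, map_smul, map_sum, LinearMap.smul_apply,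
    LinearMap.sum_apply, LinearMap.smulRight_apply, trFun_apply]

theorem trace_linHom_comp_projOp (c : ℂ) (g : G) :
    LinearMap.trace ℂ (V →ₗ[ℂ] V) ((Representation.linHom ρ ρ g) ∘ₗ projOp ρ E c) =
      c * ∑ x : E, ρ.character ((x : G)⁻¹ * g * x * g⁻¹) := by
  rw [linHom_comp_projOp, map_smul, map_sum, smul_eq_mul]
  congr 1
  refine Finset.sum_congr rfl ?_
  intro x _
  rw [LinearMap.trace_smulRight, trFun_apply, Representation.linHom_apply]
  unfold Representation.character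
  congr 1
  rw [map_mul, map_mul, map_mul]
  rfl

omit [FiniteDimensional ℂ V] in
theorem projOp_comm [hE : E.Normal] (c : ℂ) (g : G) :
    (Representation.linHom ρ ρ g) ∘ₗ projOp ρ E c =
      projOp ρ E c ∘ₗ (Representation.linHom ρ ρ g) := by
  ext T : 1
  simp only [LinearMap.comp_apply, projOp_apply, map_smul, map_sum]
  congr 1
  symm
  refine Fintype.sum_equiv (MulAut.conjNormal g⁻¹ : E ≃* E).toEquiv _ _ ?_
  intro x
  have hy : (((MulAut.conjNormal g⁻¹ : E ≃* E).toEquiv x : E) : G) = g⁻¹ * x * g := by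
    simp [MulAut.conjNormal_apply]
  rw [hy, Representation.linHom_apply, Representation.linHom_apply]
  have e1 : ρ g ∘ₗ ρ (g⁻¹ * (x : G) * g) ∘ₗ ρ g⁻¹ = ρ (x : G) := by
    have h : ρ (x : G) = ρ (g * (g⁻¹ * (x : G) * g) * g⁻¹) := by
      congr 1
      group
    rw [h, map_mul ρ (g * (g⁻¹ * (x : G) * g)) g⁻¹, map_mul ρ g]
    rfl
  rw [e1]
  congr 1
  have e2 : ρ (x : G)⁻¹ * (ρ g ∘ₗ T ∘ₗ ρ g⁻¹) = ρ g * (ρ (g⁻¹ * (x : G) * g)⁻¹ * T) * ρ g⁻¹ := by
    have h3 : ρ (x : G)⁻¹ = ρ g * ρ (g⁻¹ * (x : G) * g)⁻¹ * ρ g⁻¹ := by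
      rw [← map_mul, ← map_mul]
      congr 1
      group
    rw [h3]
    simp only [Module.End.mul_eq_comp, LinearMap.comp_assoc]
    congr 2
    rw [← LinearMap.comp_assoc, ← Module.End.mul_eq_comp (ρ g⁻¹), ← map_mul]
    simp [Module.End.one_eq_id]
  rw [e2, LinearMap.trace_mul_comm, ← mul_assoc, ← map_mul]
  simp

/-- The operator `∑_{b ∈ E} χ(b⁻¹) ρ b`. -/
noncomputable def qOp : V →ₗ[ℂ] V := ∑ b : E, ρ.character ((b : G)⁻¹) • ρ (b : G)

omit [FiniteDimensional ℂ V] in
theorem qOp_comm [hE : E.Normal] (g : G) : qOp ρ E ∘ₗ ρ g = ρ g ∘ₗ qOp ρ E := by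
  show qOp ρ E * ρ g = ρ g * qOp ρ E
  unfold qOp
  rw [Finset.sum_mul, Finset.mul_sum]
  refine Fintype.sum_equiv (MulAut.conjNormal g⁻¹ : E ≃* E).toEquiv _ _ ?_
  intro x
  have hy : (((MulAut.conjNormal g⁻¹ : E ≃* E).toEquiv x : E) : G) = g⁻¹ * x * g := by
    simp
  rw [hy, smul_mul_assoc, mul_smul_comm]
  congr 1
  · have : (g⁻¹ * (x : G) * g)⁻¹ = g⁻¹ * (x : G)⁻¹ * g⁻¹⁻¹ := by group
    rw [this]
    exact (Representation.char_conj ρ _ _).symm
  · rw [← map_mul, ← map_mul]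
    congr 1
    group

omit [FiniteDimensional ℂ V] in
theorem projOp_rho (c : ℂ) (y : E) :
    projOp ρ E c (ρ (y : G)) = c • (ρ (y : G) * qOp ρ E) := by
  rw [projOp_apply]
  congr 1
  unfold qOp
  rw [Finset.mul_sum]
  refine Fintype.sum_equiv (Equiv.mulLeft y⁻¹) _ _ ?_
  intro x
  simp only [Equiv.coe_mulLeft, Subgroup.coe_mul, Subgroup.coe_inv, mul_inv_rev, inv_inv,
    mul_smul_comm]
  congr 1
  · rw [← map_mul]
    rfl
  · rw [← map_mul]
    congr 1
    group

theorem exists_qOp_eq [ρ.IsIrreducible] [hE : E.Normal] :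
    ∃ q : ℂ, qOp ρ E = q • (LinearMap.id : V →ₗ[ℂ] V) ∧
      q * (Module.finrank ℂ V : ℂ) = ∑ b : E, ρ.character ((b : G)⁻¹) * ρ.character (b : G) := by
  obtain ⟨q, hq⟩ := Helper8.exists_scalar_of_commute ρ (qOp ρ E) (qOp_comm ρ E)
  refine ⟨q, hq, ?_⟩
  have h1 : LinearMap.trace ℂ V (qOp ρ E) = q * (Module.finrank ℂ V : ℂ) := by
    rw [hq, map_smul, LinearMap.trace_id, smul_eq_mul]
  rw [← h1]
  unfold qOp
  rw [map_sum]
  refine Finset.sum_congr rfl ?_
  intro b _
  rw [map_smul, smul_eq_mul]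
  rfl

omit [FiniteDimensional ℂ V] in
theorem projOp_idem (c q : ℂ) (hq : qOp ρ E = q • (LinearMap.id : V →ₗ[ℂ] V)) (hcq : c * q = 1) :
    projOp ρ E c ∘ₗ projOp ρ E c = projOp ρ E c := by
  have h1 : ∀ y : E, projOp ρ E c (ρ (y : G)) = ρ (y : G) := by
    intro y
    rw [projOp_rho, hq, mul_smul_comm, smul_smul, hcq, one_smul]
    rfl
  ext T : 1
  rw [LinearMap.comp_apply]
  conv_lhs => rw [projOp_apply ρ E c T]
  rw [map_smul, map_sum]
  conv_rhs => rw [projOp_apply ρ E c T]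
  congr 1
  refine Finset.sum_congr rfl ?_
  intro x _
  rw [map_smul, h1]

theorem one_sub_idem {M : Type*} [AddCommGroup M] [Module ℂ M] (π : M →ₗ[ℂ] M)
    (hπ : π ∘ₗ π = π) :
    (LinearMap.id - π) ∘ₗ (LinearMap.id - π) = LinearMap.id - π := by
  ext v
  have h := LinearMap.congr_fun hπ v
  simp only [LinearMap.comp_apply] at h
  simp only [LinearMap.comp_apply, LinearMap.sub_apply, LinearMap.id_coe, id_eq, map_sub, h]
  abel

/-- The sub-character of `χ χ̄` attached to the normal subgroup `E`. -/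
theorem exists_subchar [Finite G] [hirr : ρ.IsIrreducible] [hE : E.Normal] :
    ∃ c : ℂ, c * (∑ b : E, ρ.character ((b : G)⁻¹) * ρ.character (b : G)) =
        (Module.finrank ℂ V : ℂ) ∧
      IsCharacter G (fun g => c * ∑ x : E, ρ.character ((x : G)⁻¹ * g * x * g⁻¹)) ∧
      IsCharacter G (fun g => ρ.character g * (starRingEnd ℂ) (ρ.character g) -
        c * ∑ x : E, ρ.character ((x : G)⁻¹ * g * x * g⁻¹)) := by
  obtain ⟨q, hq, hqn⟩ := exists_qOp_eq ρ E
  have hV : Nontrivial V := by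
    by_contra hnt
    rw [not_nontrivial_iff_subsingleton] at hnt
    have h1 : (⊥ : Subrepresentation ρ) = ⊤ := by
      apply Subrepresentation.toSubmodule_injective
      exact Subsingleton.elim _ _
    exact bot_ne_top h1
  have hn : (Module.finrank ℂ V : ℂ) ≠ 0 := by
    have : 0 < Module.finrank ℂ V := Module.finrank_pos
    exact_mod_cast this.ne'
  have hsum : (∑ b : E, ρ.character ((b : G)⁻¹) * ρ.character (b : G)) ≠ 0 := by
    have h1 : ∀ b : E, ρ.character ((b : G)⁻¹) * ρ.character (b : G) =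
        ((‖ρ.character (b : G)‖ ^ 2 : ℝ) : ℂ) := by
      intro b
      rw [char_inv, mul_comm, Complex.mul_conj, Complex.normSq_eq_norm_sq]
    simp_rw [h1]
    rw [← Complex.ofReal_sum]
    have h2 : 0 < ∑ b : E, ‖ρ.character (b : G)‖ ^ 2 := by
      refine Finset.sum_pos' (fun b _ => by positivity) ⟨1, Finset.mem_univ _, ?_⟩
      have : ρ.character ((1 : E) : G) = (Module.finrank ℂ V : ℂ) := by
        rw [Subgroup.coe_one]; exact Representation.char_one ρ
      rw [this]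
      have : ‖(Module.finrank ℂ V : ℂ)‖ ≠ 0 := by
        rw [norm_ne_zero_iff]; exact hn
      positivity
    exact_mod_cast h2.ne'
  have hq0 : q ≠ 0 := by
    intro h0
    rw [h0, zero_mul] at hqn
    exact hsum hqn.symm
  have hcq : q⁻¹ * q = 1 := inv_mul_cancel₀ hq0
  refine ⟨q⁻¹, ?_, ?_, ?_⟩
  · rw [← hqn, ← mul_assoc, hcq, one_mul]
  · have h := isCharacter_trace_comp_proj (Representation.linHom ρ ρ) (projOp ρ E q⁻¹)
      (projOp_idem ρ E q⁻¹ q hq hcq) (projOp_comm ρ E q⁻¹)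
    simp_rw [trace_linHom_comp_projOp] at h
    exact h
  · have h := isCharacter_trace_comp_proj (Representation.linHom ρ ρ)
      (LinearMap.id - projOp ρ E q⁻¹)
      (one_sub_idem _ (projOp_idem ρ E q⁻¹ q hq hcq)) (by
        intro g
        rw [LinearMap.comp_sub, LinearMap.sub_comp, projOp_comm ρ E q⁻¹ g,
          LinearMap.comp_id, LinearMap.id_comp])
    have e : (fun g => LinearMap.trace ℂ (V →ₗ[ℂ] V)
        ((Representation.linHom ρ ρ g) ∘ₗ (LinearMap.id - projOp ρ E q⁻¹))) =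
        fun g => ρ.character g * (starRingEnd ℂ) (ρ.character g) -
        q⁻¹ * ∑ x : E, ρ.character ((x : G)⁻¹ * g * x * g⁻¹) := by
      funext g
      rw [LinearMap.comp_sub, map_sub, trace_linHom_comp_projOp, LinearMap.comp_id]
      congr 1
      have := Representation.char_linHom ρ ρ g
      unfold Representation.character at this
      rw [this]
      have h2 := char_inv ρ g
      unfold Representation.character at h2
      rw [h2, mul_comm]
      rfl
    rw [e] at h
    exact h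

end Op

end Cfsg.Agent.Helper5.GalProd
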