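import Mathlib
import Cfsg.Prelude.Def_Characters
import Cfsg.Agent.Helper5.GalProdA
import Cfsg.Agent.Helper5.GalProdB
import Cfsg.Agent.Helper8.CharComp
import Cfsg.Agent.Helper24.Commutator

/-!
# Products of Galois conjugate characters: normal subgroups with central commutators are central

If `χ` is a faithful irreducible character with `χ χ^σ` irreducible, then every normal subgroup
`E` of `G` with `[E, E] ≤ Z(G)` is central.
-/

namespace Cfsg.Agent.Helper5.GalProd

open Cfsg Cfsg.Agent.Helper24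

universe u v

section SGrp

variable {G : Type u} [Group G]

/-- `u_g(x) = x⁻¹ g x g⁻¹`. -/
def uMap (g x : G) : G := x⁻¹ * g * x * g⁻¹

theorem uMap_mul (g x x' : G) (h : uMap g x * x' = x' * uMap g x) :
    uMap g (x * x') = uMap g x * uMap g x' := by
  have h1 : uMap g (x * x') = x'⁻¹ * (uMap g x * x') * uMap g x' := by
    unfold uMap; group
  rw [h1, h]
  group

theorem uMap_one (g : G) : uMap g 1 = 1 := by unfold uMap; group

theorem uMap_inv (g x : G) (h : uMap g x * x = x * uMap g x) :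
    uMap g x⁻¹ = (uMap g x)⁻¹ := by
  have h1 : uMap g x⁻¹ = x * (uMap g x)⁻¹ * x⁻¹ := by unfold uMap; group
  rw [h1]
  have h2 : x * (uMap g x)⁻¹ = (uMap g x)⁻¹ * x := by
    have := congrArg (fun t => (uMap g x)⁻¹ * t * (uMap g x)⁻¹) h
    beta_reduce at this
    rw [show (uMap g x)⁻¹ * (uMap g x * x) * (uMap g x)⁻¹ = x * (uMap g x)⁻¹ by group,
      show (uMap g x)⁻¹ * (x * uMap g x) * (uMap g x)⁻¹ = (uMap g x)⁻¹ * x by group] at this
    exact this
  rw [h2]
  group

theorem uMap_mem (E : Subgroup G) [hE : E.Normal] (g x : G) (hx : x ∈ E) : uMap g x ∈ E := by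
  unfold uMap
  have : x⁻¹ * g * x * g⁻¹ = x⁻¹ * (g * x * g⁻¹) := by group
  rw [this]
  exact E.mul_mem (E.inv_mem hx) (hE.conj_mem x hx g)

/-- The subgroup of those `x ∈ E` with `u_g(x)` centralizing `E`. -/
def sGrp (E : Subgroup G) (g : G) : Subgroup G where
  carrier := {x | x ∈ E ∧ ∀ y ∈ E, uMap g x * y = y * uMap g x}
  one_mem' := ⟨E.one_mem, fun y _ => by rw [uMap_one]; simp⟩
  mul_mem' := by
    rintro a b ⟨ha, ha'⟩ ⟨hb, hb'⟩
    refine ⟨E.mul_mem ha hb, fun y hy => ?_⟩
    rw [uMap_mul g a b (ha' b hb), mul_assoc, hb' y hy, ← mul_assoc, ha' y hy, mul_assoc]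
  inv_mem' := by
    rintro a ⟨ha, ha'⟩
    refine ⟨E.inv_mem ha, fun y hy => ?_⟩
    rw [uMap_inv g a (ha' a ha)]
    have := ha' y hy
    have h2 := congrArg (fun t => (uMap g a)⁻¹ * t * (uMap g a)⁻¹) this
    beta_reduce at h2
    rw [show (uMap g a)⁻¹ * (uMap g a * y) * (uMap g a)⁻¹ = y * (uMap g a)⁻¹ by group,
      show (uMap g a)⁻¹ * (y * uMap g a) * (uMap g a)⁻¹ = (uMap g a)⁻¹ * y by group] at h2
    exact h2.symm

theorem mem_sGrp (E : Subgroup G) (g x : G) :
    x ∈ sGrp E g ↔ x ∈ E ∧ ∀ y ∈ E, uMap g x * y = y * uMap g x := Iff.rfl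

/-- `u_g` as a homomorphism on `sGrp E g`. -/
def uHom (E : Subgroup G) (g : G) : sGrp E g →* G where
  toFun x := uMap g (x : G)
  map_one' := uMap_one g
  map_mul' a b := uMap_mul g a b (a.2.2 b b.2.1)

end SGrp
section Core

variable {G : Type u} [Group G] [Finite G] {V : Type v} [AddCommGroup V] [Module ℂ V]
  [FiniteDimensional ℂ V] (ρ : Representation ℂ G V)

theorem rho_eq_id_of_faithful (hfaith : ∀ g : G, ρ.character g = ρ.character 1 → g = 1)
    (g : G) (hg : ρ g = LinearMap.id) : g = 1 := by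
  apply hfaith
  rw [Representation.char_one]
  exact (char_eq_finrank_iff ρ g).mpr hg

theorem rho_injective (hfaith : ∀ g : G, ρ.character g = ρ.character 1 → g = 1)
    (a b : G) (h : ρ a = ρ b) : a = b := by
  have h1 : ρ (a * b⁻¹) = LinearMap.id := by
    rw [map_mul, h, ← map_mul, mul_inv_cancel, map_one]
    rfl
  have := rho_eq_id_of_faithful ρ hfaith _ h1
  exact mul_inv_eq_one.mp this

theorem exists_scalar_of_mem_center [ρ.IsIrreducible] (z : G) (hz : z ∈ Subgroup.center G) :
    ∃ μ : ℂ, ρ z = μ • (LinearMap.id : V →ₗ[ℂ] V) := by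
  apply Helper8.exists_scalar_of_commute ρ (ρ z)
  intro g
  show ρ z * ρ g = ρ g * ρ z
  rw [← map_mul, ← map_mul, Subgroup.mem_center_iff.mp hz g]

/-- `χ` vanishes on elements of `E` that are not central in `E`, when `[E,E]` is central. -/
theorem char_eq_zero_of_not_comm [ρ.IsIrreducible]
    (hfaith : ∀ g : G, ρ.character g = ρ.character 1 → g = 1)
    (E : Subgroup G) (hE : ∀ x ∈ E, ∀ y ∈ E, x * y * x⁻¹ * y⁻¹ ∈ Subgroup.center G)
    (y : G) (hy : y ∈ E) (x : G) (hx : x ∈ E) (hxy : x * y ≠ y * x) : ρ.character y = 0 := by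
  set z := x * y * x⁻¹ * y⁻¹ with hz
  have hzc : z ∈ Subgroup.center G := hE x hx y hy
  obtain ⟨μ, hμ⟩ := exists_scalar_of_mem_center ρ z hzc
  have hz1 : z ≠ 1 := by
    intro h1
    apply hxy
    have : x * y * x⁻¹ * y⁻¹ = 1 := h1
    calc x * y = (x * y * x⁻¹ * y⁻¹) * (y * x) := by group
      _ = y * x := by rw [this, one_mul]
  have hμ1 : μ ≠ 1 := by
    intro h1
    apply hz1
    apply rho_eq_id_of_faithful ρ hfaith
    rw [hμ, h1, one_smul]
  have h1 : ρ.character (x * y * x⁻¹) = ρ.character y := Representation.char_conj ρ y x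
  have h2 : x * y * x⁻¹ = z * y := by rw [hz]; group
  have h3 : ρ.character (z * y) = μ * ρ.character y := by
    unfold Representation.character
    rw [map_mul, hμ, smul_mul_assoc, map_smul, smul_eq_mul]
    congr 2
  rw [h2, h3] at h1
  have h4 : (μ - 1) * ρ.character y = 0 := by rw [sub_mul, h1, one_mul, sub_self]
  rcases mul_eq_zero.mp h4 with h | h
  · exact absurd (sub_eq_zero.mp h) hμ1
  · exact h


/-- The sum `∑_{x ∈ E} χ(x⁻¹ g x g⁻¹)` is a natural number when `[E,E]` is central. -/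
theorem exists_nat_sum [ρ.IsIrreducible]
    (hfaith : ∀ g : G, ρ.character g = ρ.character 1 → g = 1)
    (E : Subgroup G) [hEn : E.Normal] [Fintype E]
    (hE : ∀ x ∈ E, ∀ y ∈ E, x * y * x⁻¹ * y⁻¹ ∈ Subgroup.center G) (g : G) :
    ∃ m : ℕ, ∑ x : E, ρ.character ((x : G)⁻¹ * g * x * g⁻¹) = m := by
  classical
  haveI : Fintype G := Fintype.ofFinite G
  set S := sGrp E g with hS
  haveI : Fintype S := Fintype.ofFinite _
  have step1 : ∑ x : E, ρ.character ((x : G)⁻¹ * g * x * g⁻¹) =
      ∑ s : S, ρ.character (uMap g (s : G)) := by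
    have hl : ∑ x : E, ρ.character ((x : G)⁻¹ * g * x * g⁻¹) =
        ∑ x ∈ Finset.univ.filter (fun x : G => x ∈ E), ρ.character (uMap g x) := by
      rw [Finset.sum_subtype (Finset.univ.filter (fun x : G => x ∈ E)) (p := fun x => x ∈ E)
        (by intro x; simp) (fun x => ρ.character (uMap g x))]
      rfl
    have hr : ∑ s : S, ρ.character (uMap g (s : G)) =
        ∑ x ∈ Finset.univ.filter (fun x : G => x ∈ S), ρ.character (uMap g x) := by
      rw [Finset.sum_subtype (Finset.univ.filter (fun x : G => x ∈ S)) (p := fun x => x ∈ S)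
        (by intro x; simp) (fun x => ρ.character (uMap g x))]
    rw [hl, hr]
    symm
    refine Finset.sum_subset ?_ ?_
    · intro x hx
      rw [Finset.mem_filter] at hx ⊢
      exact ⟨hx.1, hx.2.1⟩
    · intro x hx hnx
      rw [Finset.mem_filter] at hx hnx
      have hxE : x ∈ E := hx.2
      have hnS : ¬ x ∈ S := fun h => hnx ⟨Finset.mem_univ _, h⟩
      rw [hS, mem_sGrp] at hnS
      push Not at hnS
      obtain ⟨y, hy, hne⟩ := hnS hxE
      exact char_eq_zero_of_not_comm ρ hfaith E hE (uMap g x) (uMap_mem E g x hxE) y hy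
        (fun h => hne h.symm)
  have hα : IsCharacter S (fun s : S => ρ.character (uHom E g s)) :=
    Helper8.isCharacter_comp (uHom E g) (isCharacter_character ρ)
  have h1 : IsCharacter S (fun _ : S => (1 : ℂ)) :=
    IsIrrCharacter.isCharacter isIrrCharacter_const_one
  haveI : Fintype (IrrCharacter S) := Fintype.ofFinite _
  obtain ⟨m, hm⟩ := IsCharacter.classInner_nat hα h1
  refine ⟨Nat.card S * m, ?_⟩
  rw [step1]
  unfold classInner at hm
  have hc : (Nat.card S : ℂ) ≠ 0 := by
    have : 0 < Nat.card S := Nat.card_pos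
    exact_mod_cast this.ne'
  have : ∑ s : S, ρ.character (uHom E g s) = (Nat.card S : ℂ) * m := by
    rw [← hm, ← mul_assoc, mul_inv_cancel₀ hc, one_mul]
    refine Finset.sum_congr rfl ?_
    intro s _
    simp
  push_cast
  rw [← this]
  rfl


/-- **Core lemma**: a normal subgroup with central commutator subgroup is central, when `χ` is
faithful irreducible and `χ χ^σ` is irreducible. -/
theorem normal_le_center [hρ : ρ.IsIrreducible]
    (hfaith : ∀ g : G, ρ.character g = ρ.character 1 → g = 1)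
    (k : ℕ) (hk : k.Coprime (Nat.card G))
    (hirr : IsIrrCharacter G (fun g => ρ.character g * ρ.character (g ^ k)))
    (E : Subgroup G) [hEn : E.Normal]
    (hE : ∀ x ∈ E, ∀ y ∈ E, x * y * x⁻¹ * y⁻¹ ∈ Subgroup.center G) :
    E ≤ Subgroup.center G := by
  classical
  haveI : Fintype G := Fintype.ofFinite G
  haveI : Fintype E := Fintype.ofFinite _
  obtain ⟨c, hc, hΨ, hR⟩ := exists_subchar ρ E
  have hn0 : (Module.finrank ℂ V : ℂ) ≠ 0 := by
    intro h0
    have h1 : ρ.character 1 = 0 := by rw [Representation.char_one, h0]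
    have h2 : ∀ g : G, g = 1 := by
      intro g
      apply hfaith
      rw [h1]
      have := norm_char_le ρ g
      have h3 : (Module.finrank ℂ V : ℝ) = 0 := by exact_mod_cast h0
      rw [h3] at this
      exact norm_le_zero_iff.mp this
    -- then everything is trivial; but irreducible forces nontrivial `V`
    have hV : Nontrivial V := by
      by_contra hnt
      rw [not_nontrivial_iff_subsingleton] at hnt
      have h1 : (⊥ : Subrepresentation ρ) = ⊤ := by
        apply Subrepresentation.toSubmodule_injective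
        exact Subsingleton.elim _ _
      exact bot_ne_top h1
    have : 0 < Module.finrank ℂ V := Module.finrank_pos
    have h4 : (Module.finrank ℂ V : ℂ) ≠ 0 := by exact_mod_cast this.ne'
    exact h4 h0
  -- `N'` is a natural number
  have hχE : IsCharacter E (fun b : E => ρ.character (b : G)) :=
    Helper8.isCharacter_restrict E (isCharacter_character ρ)
  haveI : Fintype (IrrCharacter E) := Fintype.ofFinite _
  obtain ⟨mE, hmE⟩ := IsCharacter.classInner_nat hχE hχE
  have hcE : (Nat.card E : ℂ) ≠ 0 := by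
    have : 0 < Nat.card E := Nat.card_pos
    exact_mod_cast this.ne'
  have hN'nat : (∑ b : E, ρ.character ((b : G)⁻¹) * ρ.character (b : G)) =
      ((Nat.card E * mE : ℕ) : ℂ) := by
    unfold classInner at hmE
    push_cast
    rw [← hmE, ← mul_assoc, mul_inv_cancel₀ hcE, one_mul]
    refine Finset.sum_congr rfl ?_
    intro b _
    rw [char_inv, mul_comm]
  have hN'0 : ((Nat.card E * mE : ℕ) : ℂ) ≠ 0 := by
    intro h
    rw [hN'nat, h, mul_zero] at hc
    exact hn0 hc.symm
  have hceq : c = (Module.finrank ℂ V : ℂ) / ((Nat.card E * mE : ℕ) : ℂ) := by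
    rw [eq_div_iff hN'0, ← hN'nat]
    exact hc
  set Ψ : G → ℂ := fun g => c * ∑ x : E, ρ.character ((x : G)⁻¹ * g * x * g⁻¹) with hΨdef
  have hpow : ∀ g, Ψ (g ^ k) = Ψ g := by
    intro g
    obtain ⟨τ, -, hτ⟩ := Helper8.exists_complex_aut_char G k hk
    have h1 := hτ Ψ hΨ g
    rw [← h1]
    obtain ⟨m, hm⟩ := exists_nat_sum ρ hfaith E hE g
    show τ (c * ∑ x : E, ρ.character ((x : G)⁻¹ * g * x * g⁻¹)) =
      c * ∑ x : E, ρ.character ((x : G)⁻¹ * g * x * g⁻¹)
    rw [hm, hceq, map_mul, map_div₀, map_natCast, map_natCast, map_natCast]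
  have hχ1 : ρ.character 1 = (Module.finrank ℂ V : ℂ) := Representation.char_one ρ
  have hsum : ∑ g : G, Ψ g = (Nat.card G : ℂ) := by
    simp only [hΨdef]
    rw [← Finset.mul_sum, Finset.sum_comm]
    have hx : ∀ x : E, ∑ g : G, ρ.character ((x : G)⁻¹ * g * x * g⁻¹) =
        (Nat.card G : ℂ) * (ρ.character ((x : G)⁻¹) * ρ.character (x : G)) /
          (Module.finrank ℂ V : ℂ) := by
      intro x
      have h2 := irr_sum_conj_mul
        (⟨ρ.character, isIrrCharacter_character ρ hρ⟩ : IrrCharacter G) (x : G) ((x : G)⁻¹)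
      have h3 : ∀ g : G, ρ.character ((x : G)⁻¹ * g * x * g⁻¹) =
          ρ.character (g * x * g⁻¹ * (x : G)⁻¹) := by
        intro g
        have : (x : G)⁻¹ * g * x * g⁻¹ = (x : G)⁻¹ * (g * x * g⁻¹) := by group
        rw [this]
        exact Representation.char_mul_comm ρ _ _
      simp_rw [h3]
      rw [eq_div_iff hn0]
      simp only at h2
      rw [hχ1] at h2
      rw [mul_comm, h2]
      ring
    simp_rw [hx]
    rw [← Finset.sum_div, ← Finset.mul_sum, mul_div_assoc, ← mul_assoc, mul_comm c, mul_assoc]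
    rw [mul_div_assoc', hc, div_self hn0, mul_one]
  have h1 : classInner Ψ (fun _ => (1 : ℂ)) ≠ 0 := by
    have : classInner Ψ (fun _ => (1 : ℂ)) = 1 := by
      unfold classInner
      simp only [map_one, mul_one]
      rw [hsum]
      have : (Nat.card G : ℂ) ≠ 0 := by
        have : 0 < Nat.card G := Nat.card_pos
        exact_mod_cast this.ne'
      exact inv_mul_cancel₀ this
    rw [this]
    exact one_ne_zero
  have hΨ1 := congrFun (key ρ.character k hk hirr Ψ hΨ hR hpow h1) 1
  -- `Ψ 1 = c * |E| * n = 1`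
  have hΨ1' : c * ((Nat.card E : ℂ) * (Module.finrank ℂ V : ℂ)) = 1 := by
    rw [← hΨ1]
    simp only [hΨdef]
    congr 1
    have : ∀ x : E, ρ.character ((x : G)⁻¹ * 1 * x * 1⁻¹) = (Module.finrank ℂ V : ℂ) := by
      intro x
      have : (x : G)⁻¹ * 1 * x * 1⁻¹ = 1 := by group
      rw [this, hχ1]
    simp_rw [this]
    rw [Finset.sum_const, Finset.card_univ, nsmul_eq_mul, Nat.card_eq_fintype_card]
  -- hence `∑_{b ∈ E} |χ b|² = |E| n²`
  have hc0 : c ≠ 0 := by
    intro h0
    rw [h0, zero_mul] at hΨ1'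
    exact zero_ne_one hΨ1'
  have hNsq : (∑ b : E, ρ.character ((b : G)⁻¹) * ρ.character (b : G)) =
      (Nat.card E : ℂ) * (Module.finrank ℂ V : ℂ) ^ 2 := by
    have h2 : c * (∑ b : E, ρ.character ((b : G)⁻¹) * ρ.character (b : G)) =
        c * ((Nat.card E : ℂ) * (Module.finrank ℂ V : ℂ) ^ 2) := by
      rw [hc]
      have : c * ((Nat.card E : ℂ) * (Module.finrank ℂ V : ℂ) ^ 2) =
          (c * ((Nat.card E : ℂ) * (Module.finrank ℂ V : ℂ))) * (Module.finrank ℂ V : ℂ) := by
        ring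
      rw [this, hΨ1', one_mul]
    exact mul_left_cancel₀ hc0 h2
  have hreal : ∑ b : E, ((Module.finrank ℂ V : ℝ) ^ 2 - ‖ρ.character (b : G)‖ ^ 2) = 0 := by
    rw [Finset.sum_sub_distrib, Finset.sum_const, Finset.card_univ, nsmul_eq_mul, sub_eq_zero]
    have h1 : ∀ b : E, ρ.character ((b : G)⁻¹) * ρ.character (b : G) =
        ((‖ρ.character (b : G)‖ ^ 2 : ℝ) : ℂ) := by
      intro b
      rw [char_inv, mul_comm, Complex.mul_conj, Complex.normSq_eq_norm_sq]
    simp_rw [h1] at hNsq
    rw [← Complex.ofReal_sum] at hNsq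
    have : ((∑ b : E, ‖ρ.character (b : G)‖ ^ 2 : ℝ) : ℂ) =
        (((Fintype.card E : ℝ) * (Module.finrank ℂ V : ℝ) ^ 2 : ℝ) : ℂ) := by
      rw [hNsq, Nat.card_eq_fintype_card]
      push_cast
      ring
    exact (Complex.ofReal_injective this).symm
  have hterm : ∀ b : E, ‖ρ.character (b : G)‖ = (Module.finrank ℂ V : ℝ) := by
    intro b
    have hnonneg : ∀ b ∈ (Finset.univ : Finset E),
        0 ≤ (Module.finrank ℂ V : ℝ) ^ 2 - ‖ρ.character (b : G)‖ ^ 2 := by
      intro b _
      have := norm_char_le ρ (b : G)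
      have h0 : 0 ≤ ‖ρ.character (b : G)‖ := norm_nonneg _
      nlinarith
    have := (Finset.sum_eq_zero_iff_of_nonneg hnonneg).mp hreal b (Finset.mem_univ b)
    have h0 : 0 ≤ ‖ρ.character (b : G)‖ := norm_nonneg _
    have hle := norm_char_le ρ (b : G)
    nlinarith
  intro b hb
  obtain ⟨ω, hω⟩ := (norm_char_eq_iff ρ b).mp (hterm ⟨b, hb⟩)
  rw [Subgroup.mem_center_iff]
  intro g
  apply rho_injective ρ hfaith
  rw [map_mul, map_mul, hω]
  ext v
  simp

end Core

end Cfsg.Agent.Helper5.GalProd
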