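import Mathlib

/-!
# Cyclic modules of a nilpotent operator (for the wreath-section theorem)
-/

set_option autoImplicit false

namespace Cfsg.Agent.Helper5.HHW

open Module

variable {K : Type*} [Field K] {M : Type*} [AddCommGroup M] [Module K M]

/-- key computation: coefficients of a combination of `N^j v₀` killed by `N^k` vanish below `p-k` -/
theorem key_coeff (N : Module.End K M) (p : ℕ) (hNp : N ^ p = 0) (v₀ : M)
    (he : (N ^ (p - 1)) v₀ ≠ 0) (c : ℕ → K) (k : ℕ)
    (hk : (N ^ k) (∑ j ∈ Finset.range p, c j • (N ^ j) v₀) = 0) :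
    ∀ i, i + k < p → c i = 0 := by
  intro i
  induction i using Nat.strong_induction_on with
  | _ i ih =>
    intro hik
    have h1 : (N ^ (p - 1 - i)) (∑ j ∈ Finset.range p, c j • (N ^ j) v₀) = 0 := by
      have : p - 1 - i = (p - 1 - i - k) + k := by omega
      rw [this, pow_add, Module.End.mul_apply, hk, map_zero]
    rw [map_sum] at h1
    rw [Finset.sum_eq_single i] at h1
    · rw [map_smul, ← Module.End.mul_apply, ← pow_add] at h1
      have : p - 1 - i + i = p - 1 := by omega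
      rw [this] at h1
      exact (smul_eq_zero.1 h1).resolve_right he
    · intro j hj hji
      rw [map_smul]
      rcases Nat.lt_or_gt_of_ne hji with h | h
      · rw [ih j h (by omega), zero_smul]
      · rw [← Module.End.mul_apply, ← pow_add]
        have : p - 1 - i + j = p + (j - i - 1) := by omega
        rw [this, pow_add, hNp, zero_mul, LinearMap.zero_apply, smul_zero]
    · intro hi
      exact absurd (Finset.mem_range.2 (by omega)) hi

/-- the cyclic submodule spanned by `v₀, N v₀, …, N^(p-1) v₀` -/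
def cyc (N : Module.End K M) (p : ℕ) (v₀ : M) : Submodule K M :=
  Submodule.span K (Set.range fun i : Fin p => (N ^ (i : ℕ)) v₀)

theorem mem_cyc_iff (N : Module.End K M) (p : ℕ) (v₀ : M) (u : M) :
    u ∈ cyc N p v₀ ↔ ∃ c : ℕ → K, u = ∑ j ∈ Finset.range p, c j • (N ^ j) v₀ := by
  rw [cyc, Submodule.mem_span_range_iff_exists_fun]
  constructor
  · rintro ⟨c, rfl⟩
    refine ⟨fun j => if h : j < p then c ⟨j, h⟩ else 0, ?_⟩
    rw [← Fin.sum_univ_eq_sum_range (fun j => (if h : j < p then c ⟨j, h⟩ else 0) • (N ^ j) v₀) p]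
    refine Finset.sum_congr rfl ?_
    intro i _
    rw [dif_pos i.2]
  · rintro ⟨c, rfl⟩
    refine ⟨fun i => c i, ?_⟩
    rw [← Fin.sum_univ_eq_sum_range (fun j => c j • (N ^ j) v₀) p]

theorem pow_mem_cyc (N : Module.End K M) (p : ℕ) (v₀ : M) (i : ℕ) (hi : i < p) :
    (N ^ i) v₀ ∈ cyc N p v₀ :=
  Submodule.subset_span ⟨⟨i, hi⟩, rfl⟩

theorem linearIndependent_cyc (N : Module.End K M) (p : ℕ) (hNp : N ^ p = 0) (v₀ : M)
    (he : (N ^ (p - 1)) v₀ ≠ 0) :
    LinearIndependent K (fun i : Fin p => (N ^ (i : ℕ)) v₀) := by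
  rw [Fintype.linearIndependent_iff]
  intro g hg i
  have h1 : ∑ j ∈ Finset.range p, (if h : j < p then g ⟨j, h⟩ else 0) • (N ^ j) v₀ = 0 := by
    rw [← Fin.sum_univ_eq_sum_range
      (fun j => (if h : j < p then g ⟨j, h⟩ else 0) • (N ^ j) v₀) p, ← hg]
    refine Finset.sum_congr rfl ?_
    intro i _
    rw [dif_pos i.2]
  have h2 := key_coeff N p hNp v₀ he (fun j => if h : j < p then g ⟨j, h⟩ else 0) 0
    (by rw [h1, map_zero]) i (by have := i.2; omega)
  simpa [dif_pos i.2] using h2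

theorem finrank_cyc (N : Module.End K M) (p : ℕ) (hNp : N ^ p = 0) (v₀ : M)
    (he : (N ^ (p - 1)) v₀ ≠ 0) : finrank K (cyc N p v₀) = p := by
  rw [cyc, finrank_span_eq_card (linearIndependent_cyc N p hNp v₀ he), Fintype.card_fin]

theorem map_mem_cyc (N : Module.End K M) (p : ℕ) (hNp : N ^ p = 0) (v₀ : M) (u : M)
    (hu : u ∈ cyc N p v₀) : N u ∈ cyc N p v₀ := by
  have hle : cyc N p v₀ ≤ (cyc N p v₀).comap N := by
    rw [cyc, Submodule.span_le]
    rintro _ ⟨i, rfl⟩
    show N ((N ^ (i : ℕ)) v₀) ∈ cyc N p v₀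
    rw [← Module.End.mul_apply, ← pow_succ']
    by_cases h : (i : ℕ) + 1 < p
    · exact pow_mem_cyc N p v₀ _ h
    · have : (i : ℕ) + 1 = p := by have := i.2; omega
      rw [this, hNp, LinearMap.zero_apply]
      exact Submodule.zero_mem _
  exact hle hu

theorem cyc_inf_ker (N : Module.End K M) (p : ℕ) (hp : 1 ≤ p) (hNp : N ^ p = 0) (v₀ : M)
    (he : (N ^ (p - 1)) v₀ ≠ 0) :
    cyc N p v₀ ⊓ LinearMap.ker N = Submodule.span K {(N ^ (p - 1)) v₀} := by
  apply le_antisymm
  · rintro u ⟨hu, hNu⟩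
    have hNu' : N u = 0 := hNu
    obtain ⟨c, rfl⟩ := (mem_cyc_iff N p v₀ u).1 hu
    have h2 := key_coeff N p hNp v₀ he c 1 (by rw [pow_one]; exact hNu')
    rw [Submodule.mem_span_singleton]
    refine ⟨c (p - 1), ?_⟩
    rw [Finset.sum_eq_single (p - 1)]
    · intro j hj hne
      rw [h2 j (by have := Finset.mem_range.1 hj; omega), zero_smul]
    · intro h
      exact absurd (Finset.mem_range.2 (by omega)) h
  · rw [Submodule.span_le, Set.singleton_subset_iff]
    refine ⟨pow_mem_cyc N p v₀ _ (by omega), ?_⟩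
    show N ((N ^ (p - 1)) v₀) = 0
    rw [← Module.End.mul_apply, ← pow_succ', Nat.sub_add_cancel hp, hNp, LinearMap.zero_apply]

theorem card_cyc (p : ℕ) [Fact p.Prime] {M : Type*} [AddCommGroup M] [Module (ZMod p) M]
    [Finite M] (N : Module.End (ZMod p) M) (hNp : N ^ p = 0) (v₀ : M)
    (he : (N ^ (p - 1)) v₀ ≠ 0) : Nat.card (cyc N p v₀) = p ^ p := by
  have h := Module.natCard_eq_pow_finrank (K := ZMod p) (V := cyc N p v₀)
  rw [h, finrank_cyc N p hNp v₀ he, Nat.card_zmod]

theorem card_cyc_inf_ker (p : ℕ) [hp : Fact p.Prime] {M : Type*} [AddCommGroup M]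
    [Module (ZMod p) M] [Finite M] (N : Module.End (ZMod p) M) (hNp : N ^ p = 0) (v₀ : M)
    (he : (N ^ (p - 1)) v₀ ≠ 0) :
    Nat.card (cyc N p v₀ ⊓ LinearMap.ker N : Submodule (ZMod p) M) = p := by
  rw [cyc_inf_ker N p hp.out.one_le hNp v₀ he]
  have h := Module.natCard_eq_pow_finrank (K := ZMod p)
    (V := Submodule.span (ZMod p) {(N ^ (p - 1)) v₀})
  rw [h, finrank_span_singleton he, pow_one, Nat.card_zmod]

end Cfsg.Agent.Helper5.HHW
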