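import Mathlib

/-!
# The wreath-like section `U⟨x⟩ / ⟨x^p⟩` (for the wreath-section theorem)
-/

set_option autoImplicit false

namespace Cfsg.Agent.Helper5.HHW

open Subgroup
open scoped Pointwise

/-- the "wreath-like" property in the hypothesis of S3787 -/
def WProp (p : ℕ) (W : Type*) [Group W] : Prop :=
  ∃ (B : Subgroup W) (t : W), B.Normal ∧ IsMulCommutative B ∧ (∀ b ∈ B, b ^ p = 1) ∧
    Nat.card B = p ^ p ∧ orderOf t = p ∧ t ∉ B ∧ Nat.card W = p ^ (p + 1) ∧
    Nat.card ↥(B ⊓ Subgroup.centralizer ({t} : Set W)) = p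

theorem inf_zpowers_eq_bot {G : Type*} [Group G] (p : ℕ) [hp : Fact p.Prime] (H : Subgroup G)
    (g : G) (hg : g ^ p = 1) (hgH : g ∉ H) : H ⊓ Subgroup.zpowers g = ⊥ := by
  rw [eq_bot_iff]
  rintro y ⟨hyH, hyg⟩
  rw [Subgroup.mem_bot]
  obtain ⟨k, rfl⟩ := Subgroup.mem_zpowers_iff.1 hyg
  by_contra hne
  apply hgH
  have hndvd : ¬ (p : ℤ) ∣ k := by
    rintro ⟨m, rfl⟩
    apply hne
    rw [zpow_mul, zpow_natCast, hg, one_zpow]
  have hcop : IsCoprime (p : ℤ) k :=
    (Nat.prime_iff_prime_int.1 hp.out).coprime_iff_not_dvd.2 hndvd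
  obtain ⟨a, b, hab⟩ := hcop
  have : g = (g ^ k) ^ b := by
    calc g = g ^ (a * (p : ℤ) + b * k) := by rw [hab, zpow_one]
      _ = (g ^ k) ^ b := by
        rw [zpow_add, mul_comm a (p : ℤ), zpow_mul, zpow_natCast, hg, one_zpow, one_mul,
          mul_comm b k, zpow_mul]
  rw [this]
  exact H.zpow_mem hyH b

theorem sec {Y : Type*} [Group Y] (p : ℕ) [hp : Fact p.Prime] (V U : Subgroup Y) (x : Y)
    (hVc : ∀ a ∈ V, ∀ b ∈ V, a * b = b * a) (hVp : ∀ a ∈ V, a ^ p = 1)
    (hUV : U ≤ V) (hxV : x ∉ V) (hxp : x ^ p ∈ V)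
    (hxU : ∀ u ∈ U, x * u * x⁻¹ ∈ U) (hxU' : ∀ u ∈ U, x⁻¹ * u * x ∈ U)
    (hcard : Nat.card U = p ^ p)
    (hcent : Nat.card ↥(U ⊓ Subgroup.centralizer ({x} : Set Y)) = p)
    (hz : U ⊓ Subgroup.zpowers (x ^ p) = ⊥) :
    ∃ (E R₁ : Subgroup Y) (_ : (R₁.subgroupOf E).Normal), E ≤ V ⊔ Subgroup.zpowers x ∧
      WProp p (↥E ⧸ R₁.subgroupOf E) := by
  classical
  set E : Subgroup Y := U ⊔ zpowers x with hE
  set R₁ : Subgroup Y := zpowers (x ^ p) with hR₁
  have hUE : U ≤ E := le_sup_left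
  have hxE : x ∈ E := (le_sup_right : zpowers x ≤ E) (mem_zpowers x)
  have hR₁V : R₁ ≤ V := by
    rw [hR₁, zpowers_le]; exact hxp
  have hR₁E : R₁ ≤ E := by
    rw [hR₁, zpowers_le]; exact E.pow_mem hxE p
  -- `R₁` is central in `E`
  have hcentral : ∀ e ∈ E, ∀ r ∈ R₁, e * r = r * e := by
    have h1 : E ≤ centralizer ({x ^ p} : Set Y) := by
      rw [hE]
      refine sup_le ?_ ?_
      · intro u hu
        rw [mem_centralizer_iff]
        intro h hh
        rw [Set.mem_singleton_iff] at hh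
        subst hh
        exact hVc _ hxp _ (hUV hu)
      · rw [zpowers_le, mem_centralizer_iff]
        intro h hh
        rw [Set.mem_singleton_iff] at hh
        subst hh
        rw [← pow_succ, ← pow_succ']
    intro e he r hr
    obtain ⟨k, rfl⟩ := mem_zpowers_iff.1 hr
    have h2 := h1 he
    rw [mem_centralizer_iff] at h2
    have h3 : Commute e (x ^ p) := (h2 (x ^ p) rfl).symm
    exact (h3.zpow_right k).eq
  have hn : (R₁.subgroupOf E).Normal := by
    refine ⟨fun n hn g => ?_⟩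
    rw [mem_subgroupOf] at hn ⊢
    have h1 : ((g * n * g⁻¹ : ↥E) : Y) = (n : Y) := by
      rw [Subgroup.coe_mul, Subgroup.coe_mul, Subgroup.coe_inv, hcentral g g.2 n hn, mul_assoc,
        mul_inv_cancel, mul_one]
    rw [h1]
    exact hn
  refine ⟨E, R₁, hn, sup_le_sup_right hUV _, ?_⟩
  set π : ↥E →* (↥E ⧸ R₁.subgroupOf E) := QuotientGroup.mk' (R₁.subgroupOf E) with hπ
  have hπs : Function.Surjective π := QuotientGroup.mk'_surjective _
  have hπ1 : ∀ a : ↥E, π a = 1 ↔ (a : Y) ∈ R₁ := by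
    intro a
    rw [hπ, QuotientGroup.mk'_apply, QuotientGroup.eq_one_iff, mem_subgroupOf]
  have hπeq : ∀ a b : ↥E, π a = π b ↔ (a : Y)⁻¹ * (b : Y) ∈ R₁ := by
    intro a b
    rw [hπ, QuotientGroup.mk'_apply, QuotientGroup.mk'_apply, QuotientGroup.eq, mem_subgroupOf,
      Subgroup.coe_mul, Subgroup.coe_inv]
  set xE : ↥E := ⟨x, hxE⟩ with hxEdef
  set t := π xE with ht
  set B : Subgroup (↥E ⧸ R₁.subgroupOf E) := (U.subgroupOf E).map π with hB
  have hxnorm : x ∈ normalizer (U : Set Y) := by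
    rw [mem_normalizer_iff]
    intro h
    constructor
    · exact hxU h
    · intro hh
      have := hxU' _ hh
      have e : x⁻¹ * (x * h * x⁻¹) * x = h := by group
      rwa [e] at this
  have hUn : (U.subgroupOf E).Normal := by
    rw [normal_subgroupOf_iff_le_normalizer hUE, hE]
    refine sup_le le_normalizer ?_
    rw [zpowers_le]
    exact hxnorm
  have hBn : B.Normal := hUn.map π hπs
  -- injectivity on `U`
  have hinj : ∀ a b : ↥E, (a : Y) ∈ U → (b : Y) ∈ U → π a = π b → a = b := by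
    intro a b ha hb hab
    rw [hπeq] at hab
    have h1 : (a : Y)⁻¹ * (b : Y) ∈ U ⊓ R₁ := ⟨U.mul_mem (U.inv_mem ha) hb, hab⟩
    rw [hz, mem_bot] at h1
    apply Subtype.ext
    exact inv_mul_eq_one.1 h1
  have hcardmap : ∀ D : Subgroup Y, D ≤ U →
      Nat.card ↥((D.subgroupOf E).map π) = Nat.card ↥D := by
    intro D hD
    have e1 : Nat.card ↥((D.subgroupOf E).map π) = Nat.card ↥(D.subgroupOf E) := by
      symm
      refine Nat.card_congr (Equiv.ofBijective
        (fun u : ↥(D.subgroupOf E) => (⟨π u, mem_map_of_mem π u.2⟩ : ↥((D.subgroupOf E).map π)))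
        ⟨?_, ?_⟩)
      · intro a b hab
        have h1 : π a = π b := congrArg Subtype.val hab
        apply Subtype.ext
        exact hinj _ _ (hD (mem_subgroupOf.1 a.2)) (hD (mem_subgroupOf.1 b.2)) h1
      · rintro ⟨_, u, hu, rfl⟩
        exact ⟨⟨u, hu⟩, rfl⟩
    rw [e1]
    exact Nat.card_congr (subgroupOfEquivOfLe (hD.trans hUE)).toEquiv
  have hxR₁ : x ∉ R₁ := fun h => hxV (hR₁V h)
  have htp : t ^ p = 1 := by
    rw [ht, ← map_pow, hπ1, Subgroup.coe_pow]
    exact mem_zpowers _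
  have ht1 : t ≠ 1 := by
    rw [ht, Ne, hπ1]
    exact hxR₁
  have htB : t ∉ B := by
    rintro ⟨u, hu, hut⟩
    rw [ht, hπeq] at hut
    apply hxV
    have h1 : (u : Y) ∈ V := hUV (mem_subgroupOf.1 hu)
    have h2 := V.mul_mem h1 (hR₁V hut)
    rwa [mul_inv_cancel_left] at h2
  have htop : B ⊔ zpowers t = ⊤ := by
    have h1 : U.subgroupOf E ⊔ zpowers xE = ⊤ := by
      rw [eq_top_iff]
      have h2 : (⊤ : Subgroup ↥E) = (U ⊔ zpowers x).subgroupOf E := by
        rw [← hE, subgroupOf_self]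
      rw [h2, subgroupOf_sup hUE le_sup_right]
      refine sup_le_sup_left ?_ _
      intro a ha
      rw [mem_subgroupOf] at ha
      obtain ⟨k, hk⟩ := mem_zpowers_iff.1 ha
      rw [mem_zpowers_iff]
      refine ⟨k, ?_⟩
      apply Subtype.ext
      rw [Subgroup.coe_zpow]
      exact hk
    rw [hB, ht, ← MonoidHom.map_zpowers, ← Subgroup.map_sup, h1, ← MonoidHom.range_eq_map,
      MonoidHom.range_eq_top]
    exact hπs
  refine ⟨B, t, hBn, ?_, ?_, ?_, orderOf_eq_prime htp ht1, htB, ?_, ?_⟩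
  · -- commutative
    refine ⟨⟨?_⟩⟩
    rintro ⟨_, a, ha, rfl⟩ ⟨_, b, hb, rfl⟩
    apply Subtype.ext
    show π a * π b = π b * π a
    rw [← map_mul, ← map_mul]
    congr 1
    apply Subtype.ext
    rw [Subgroup.coe_mul, Subgroup.coe_mul]
    exact hVc _ (hUV (mem_subgroupOf.1 ha)) _ (hUV (mem_subgroupOf.1 hb))
  · rintro _ ⟨u, hu, rfl⟩
    rw [← map_pow]
    have : u ^ p = 1 := by
      apply Subtype.ext
      rw [Subgroup.coe_pow, Subgroup.coe_one]
      exact hVp _ (hUV (mem_subgroupOf.1 hu))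
    rw [this, map_one]
  · rw [hB, hcardmap U le_rfl, hcard]
  · have hdisj : Disjoint B (zpowers t) := by
      rw [disjoint_iff]
      exact inf_zpowers_eq_bot p B t htp htB
    have hmul : (B : Set (↥E ⧸ R₁.subgroupOf E)) * (zpowers t : Set _) = Set.univ := by
      rw [← normal_mul, htop, coe_top]
    have hcomp := isComplement'_of_disjoint_and_mul_eq_univ hdisj hmul
    rw [← hcomp.card_mul_card, Nat.card_zpowers, orderOf_eq_prime htp ht1, hB,
      hcardmap U le_rfl, hcard, pow_succ]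
  · have hCeq : B ⊓ centralizer ({t} : Set (↥E ⧸ R₁.subgroupOf E)) =
        ((U ⊓ centralizer ({x} : Set Y)).subgroupOf E).map π := by
      apply le_antisymm
      · rintro y ⟨⟨u, hu, rfl⟩, hyc⟩
        refine ⟨u, ?_, rfl⟩
        rw [SetLike.mem_coe, mem_subgroupOf] at hu ⊢
        refine ⟨hu, ?_⟩
        have hyc' : π u ∈ centralizer ({t} : Set (↥E ⧸ R₁.subgroupOf E)) := hyc
        rw [mem_centralizer_iff] at hyc'
        have h1 := hyc' t rfl
        rw [ht, ← map_mul, ← map_mul, hπeq] at h1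
        rw [Subgroup.coe_mul, Subgroup.coe_mul] at h1
        have h2 : ((x * (u : Y))⁻¹ * ((u : Y) * x)) ∈ U ⊓ R₁ := by
          refine ⟨?_, h1⟩
          have e : (x * (u : Y))⁻¹ * ((u : Y) * x) = (u : Y)⁻¹ * (x⁻¹ * (u : Y) * x) := by group
          rw [e]
          exact U.mul_mem (U.inv_mem hu) (hxU' _ hu)
        rw [hz, mem_bot] at h2
        show (u : Y) ∈ centralizer ({x} : Set Y)
        rw [mem_centralizer_iff]
        intro h hh
        rw [Set.mem_singleton_iff] at hh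
        subst hh
        exact inv_mul_eq_one.1 h2
      · rintro _ ⟨c, hc, rfl⟩
        rw [SetLike.mem_coe, mem_subgroupOf] at hc
        refine ⟨⟨c, mem_subgroupOf.2 hc.1, rfl⟩, ?_⟩
        show π c ∈ centralizer ({t} : Set (↥E ⧸ R₁.subgroupOf E))
        rw [mem_centralizer_iff]
        intro h hh
        rw [Set.mem_singleton_iff] at hh
        subst hh
        rw [ht, ← map_mul, ← map_mul]
        congr 1
        apply Subtype.ext
        rw [Subgroup.coe_mul, Subgroup.coe_mul]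
        have h3 : (c : Y) ∈ centralizer ({x} : Set Y) := hc.2
        rw [mem_centralizer_iff] at h3
        exact h3 x rfl
    rw [hCeq, hcardmap _ inf_le_left, hcent]

theorem WProp.of_mulEquiv {p : ℕ} {W W' : Type*} [Group W] [Group W'] (e : W ≃* W')
    (h : WProp p W) : WProp p W' := by
  obtain ⟨B, t, hBn, hBc, hBp, hBcard, ht, htB, hW, hC⟩ := h
  refine ⟨B.map e.toMonoidHom, e t, hBn.map _ e.surjective, inferInstance, ?_, ?_, ?_, ?_, ?_, ?_⟩
  · rintro _ ⟨b, hb, rfl⟩
    show (e b) ^ p = 1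
    rw [← map_pow, hBp b hb, map_one]
  · rw [Subgroup.card_map_of_injective (f := e.toMonoidHom) e.injective]
    exact hBcard
  · rw [← ht]
    exact e.orderOf_eq t
  · rintro ⟨b, hb, hbt⟩
    have : b = t := e.injective hbt
    exact htB (this ▸ hb)
  · rw [← hW]
    exact Nat.card_congr e.symm.toEquiv
  · have hCeq : B.map e.toMonoidHom ⊓ centralizer ({e t} : Set W') =
        (B ⊓ centralizer ({t} : Set W)).map e.toMonoidHom := by
      ext y
      rw [mem_inf, mem_map_equiv, mem_map_equiv, mem_inf, mem_centralizer_iff,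
        mem_centralizer_iff]
      refine and_congr Iff.rfl ?_
      constructor
      · intro h1 h hh
        rw [Set.mem_singleton_iff] at hh
        subst hh
        apply e.injective
        rw [map_mul, map_mul, e.apply_symm_apply]
        exact h1 _ rfl
      · intro h1 h hh
        rw [Set.mem_singleton_iff] at hh
        subst hh
        have := congrArg e (h1 t rfl)
        rwa [map_mul, map_mul, e.apply_symm_apply] at this
    rw [hCeq, Subgroup.card_map_of_injective (f := e.toMonoidHom) e.injective]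
    exact hC

end Cfsg.Agent.Helper5.HHW
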