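import Mathlib
import Cfsg.Prelude.Def_Local
import Cfsg.Agent.Helper5.HHTn
import Cfsg.Agent.Helper5.HHWa
import Cfsg.Agent.Helper5.HHWb
import Cfsg.Agent.Helper5.FrobModF

/-!
# The wreath-like section from a faithful action on an elementary abelian normal subgroup
-/

set_option autoImplicit false
set_option linter.style.haveILetI false

namespace Cfsg.Agent.Helper5.HHW

open Subgroup Module

theorem conj_inv_mem {Y : Type*} [Group Y] (U : Subgroup Y) [Finite U] (x : Y)
    (hxU : ∀ u ∈ U, x * u * x⁻¹ ∈ U) : ∀ u ∈ U, x⁻¹ * u * x ∈ U := by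
  intro u hu
  let f : ↥U → ↥U := fun u => ⟨x * u * x⁻¹, hxU u u.2⟩
  have hf : Function.Injective f := by
    intro a b hab
    have h1 : x * (a : Y) * x⁻¹ = x * (b : Y) * x⁻¹ := congrArg Subtype.val hab
    apply Subtype.ext
    exact mul_left_cancel (mul_right_cancel h1)
  obtain ⟨u', hu'⟩ := (Finite.injective_iff_surjective.1 hf) ⟨u, hu⟩
  have h1 : x * (u' : Y) * x⁻¹ = u := congrArg Subtype.val hu'
  have h2 : x⁻¹ * u * x = u' := by rw [← h1]; group
  rw [h2]
  exact u'.2

theorem yv {Y : Type*} [Group Y] [Finite Y] (p : ℕ) [hp : Fact p.Prime] (hp2 : p ≠ 2)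
    (hnf : ¬ ∃ k : ℕ, p = 2 ^ k + 1) (V : Subgroup Y) [hVn : V.Normal]
    (hVc : ∀ a ∈ V, ∀ b ∈ V, a * b = b * a) (hVp : ∀ a ∈ V, a ^ p = 1)
    (hsol : Cfsg.IsPSolvable p (Y ⧸ V)) (hOp : Cfsg.pCore p (Y ⧸ V) = ⊥)
    (hfaith : Subgroup.centralizer (V : Set Y) ≤ V) (x : Y) (hxV : x ∉ V) (hxp : x ^ p ∈ V) :
    ∃ (E R₁ : Subgroup Y) (_ : (R₁.subgroupOf E).Normal), E ≤ V ⊔ Subgroup.zpowers x ∧
      WProp p (↥E ⧸ R₁.subgroupOf E) := by
  classical
  have hpp := hp.out
  letI cg : CommGroup ↥V :=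
    { (inferInstance : Group ↥V) with
      mul_comm := fun a b => Subtype.ext (hVc a a.2 b b.2) }
  have hexp : ∀ v : ↥V, v ^ p = 1 := fun v => Subtype.ext (by simpa using hVp v v.2)
  have hexp' : ∀ v : Additive ↥V, p • v = 0 := fun v => by
    induction v using Additive.rec with
    | ofMul v => rw [← ofMul_pow, hexp]; rfl
  letI md : Module (ZMod p) (Additive ↥V) := AddCommGroup.zmodModule (n := p) hexp'
  let φ : Y →* Monoid.End ↥V :=
    { toFun := fun y => (MulAut.conjNormal y : MulAut ↥V).toMonoidHom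
      map_one' := by rw [map_one]; rfl
      map_mul' := fun a b => by rw [map_mul]; rfl }
  have hφ : ∀ (y : Y) (v : ↥V), ((φ y v : ↥V) : Y) = y * v * y⁻¹ := fun y v => rfl
  have hcoe_mul : ∀ a b : ↥V, ((a * b : ↥V) : Y) = (a : Y) * (b : Y) := fun a b => rfl
  set ρ : Representation (ZMod p) Y (Additive ↥V) := FrobMod.endRep p φ with hρ
  have hρa : ∀ (y : Y) (v : ↥V), ρ y (Additive.ofMul v) = Additive.ofMul (φ y v) :=
    fun y v => rfl
  -- the kernel
  have hker : ∀ y ∈ V, ρ y = 1 := by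
    intro y hy
    refine LinearMap.ext fun v => ?_
    induction v using Additive.rec with
    | ofMul v =>
      rw [hρa, Module.End.one_apply]
      congr 1
      apply Subtype.ext
      rw [hφ, hVc y hy v v.2, mul_inv_cancel_right]
  have hker' : ∀ y : Y, ρ y = 1 → y ∈ V := by
    intro y hy
    apply hfaith
    rw [mem_centralizer_iff]
    intro h hh
    have h1 : ρ y (Additive.ofMul (⟨h, hh⟩ : ↥V)) = Additive.ofMul (⟨h, hh⟩ : ↥V) := by
      rw [hy, Module.End.one_apply]
    rw [hρa] at h1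
    have h2 : (φ y ⟨h, hh⟩ : ↥V) = ⟨h, hh⟩ := Additive.ofMul.injective h1
    have h3 : y * h * y⁻¹ = h := by
      have := congrArg Subtype.val h2
      rwa [hφ] at this
    calc h * y = (y * h * y⁻¹) * y := by rw [h3]
      _ = y * h := by group
  let ρb : Representation (ZMod p) (Y ⧸ V) (Additive ↥V) :=
    QuotientGroup.lift V ρ (fun y hy => MonoidHom.mem_ker.2 (hker y hy))
  have hρb : ∀ y : Y, ρb (QuotientGroup.mk' V y) = ρ y := fun y => rfl
  have hinj : Function.Injective ρb := by
    rw [injective_iff_map_eq_one]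
    intro q hq
    obtain ⟨y, rfl⟩ := QuotientGroup.mk'_surjective V q
    rw [hρb] at hq
    rw [QuotientGroup.mk'_apply, QuotientGroup.eq_one_iff]
    exact hker' y hq
  haveI : Finite (Additive ↥V) := inferInstanceAs (Finite ↥V)
  haveI : Module.Finite (ZMod p) (Additive ↥V) := Module.Finite.of_finite
  haveI : Nontrivial (Additive ↥V) := by
    have hne : V ≠ ⊥ := by
      intro h
      apply hxV
      apply hfaith
      rw [mem_centralizer_iff]
      intro g hg
      have : g = 1 := by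
        have hg' : g ∈ V := hg
        rwa [h, mem_bot] at hg'
      rw [this, one_mul, mul_one]
    haveI : Nontrivial ↥V := (Subgroup.nontrivial_iff_ne_bot V).2 hne
    exact inferInstanceAs (Nontrivial ↥V)
  set xH : Y ⧸ V := QuotientGroup.mk' V x with hxH
  have hord : orderOf xH = p := by
    apply orderOf_eq_prime
    · rw [hxH, ← map_pow, QuotientGroup.mk'_apply, QuotientGroup.eq_one_iff]
      exact hxp
    · rw [hxH, QuotientGroup.mk'_apply, Ne, QuotientGroup.eq_one_iff]
      exact hxV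
  set T : Module.End (ZMod p) (Additive ↥V) := ρ x with hT
  have hTp : T ^ p = 1 := by
    rw [hT, ← map_pow]
    exact hker _ hxp
  have hNp : (T - 1) ^ p = 0 := by
    have := HHT.sub_one_pow_char_pow (K := ZMod p) p T 1
    rw [pow_one] at this
    rw [this, hTp, sub_self]
  have hne : (T - 1) ^ (p - 1) ≠ 0 := by
    intro h0
    rcases HHT.thmB_rep ρb hinj hsol hOp xH 1 le_rfl (by rw [pow_one]; exact hord) (p - 1)
      (by rw [hxH, hρb]; exact h0) with h | ⟨n₀, q, m, hn₀, hn₀', hq, hm, heq, -, -⟩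
    · rw [pow_one] at h
      have := hpp.one_lt
      omega
    · have h1 : n₀ = 1 := by omega
      subst h1
      rw [pow_one] at heq
      apply hnf
      have hodd : Odd p := hpp.odd_of_ne_two hp2
      have heven : Even (p - 1) := by
        obtain ⟨k, hk⟩ := hodd
        exact ⟨k, by omega⟩
      have hq2 : q = 2 := by
        have h2 : 2 ∣ q ^ m := by rw [← heq]; exact heven.two_dvd
        have h3 := Nat.prime_two.dvd_of_dvd_pow h2
        exact ((Nat.prime_dvd_prime_iff_eq Nat.prime_two hq).1 h3).symm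
      subst hq2
      refine ⟨m, ?_⟩
      have := hpp.one_lt
      omega
  obtain ⟨v₀, hv₀⟩ : ∃ v₀, ((T - 1) ^ (p - 1)) v₀ ≠ 0 := by
    by_contra h
    push Not at h
    exact hne (LinearMap.ext h)
  set N : Module.End (ZMod p) (Additive ↥V) := T - 1 with hN
  set Ub : Submodule (ZMod p) (Additive ↥V) := cyc N p v₀ with hUb
  set e : Additive ↥V := (N ^ (p - 1)) v₀ with he
  -- `N` on elements
  have hNker : ∀ v : ↥V, N (Additive.ofMul v) = 0 ↔ x * (v : Y) * x⁻¹ = v := by
    intro v
    rw [hN, LinearMap.sub_apply, Module.End.one_apply, sub_eq_zero, hT, hρa]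
    constructor
    · intro h
      have h2 : (φ x v : ↥V) = v := Additive.ofMul.injective h
      have := congrArg Subtype.val h2
      rwa [hφ] at this
    · intro h
      congr 1
      apply Subtype.ext
      rw [hφ]
      exact h
  -- the subgroup `U`
  set U₀ : Subgroup ↥V := AddSubgroup.toSubgroup' Ub.toAddSubgroup with hU₀
  have hmemU₀ : ∀ v : ↥V, v ∈ U₀ ↔ Additive.ofMul v ∈ Ub := fun v => Iff.rfl
  set U : Subgroup Y := U₀.map V.subtype with hU
  have hUV : U ≤ V := by
    rintro _ ⟨v, -, rfl⟩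
    exact v.2
  have hmemU : ∀ v : ↥V, (v : Y) ∈ U ↔ Additive.ofMul v ∈ Ub := by
    intro v
    constructor
    · rintro ⟨v', hv', hvv⟩
      have : v' = v := Subtype.ext hvv
      rw [← this]
      exact hv'
    · intro h
      exact ⟨v, h, rfl⟩
  have hxU : ∀ u ∈ U, x * u * x⁻¹ ∈ U := by
    rintro _ ⟨v, hv, rfl⟩
    have h1 : x * (V.subtype v) * x⁻¹ = ((φ x v : ↥V) : Y) := rfl
    rw [h1, hmemU, ← hρa]
    have h2 : ρ x (Additive.ofMul v) = N (Additive.ofMul v) + Additive.ofMul v := by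
      rw [hN, LinearMap.sub_apply, Module.End.one_apply, sub_add_cancel]
    rw [h2]
    exact Ub.add_mem (map_mem_cyc N p hNp v₀ _ hv) hv
  have hcardU : Nat.card U = p ^ p := by
    rw [hU, Subgroup.card_map_of_injective V.subtype_injective,
      ← card_cyc p N hNp v₀ hv₀]
    exact Nat.card_congr (Equiv.subtypeEquiv Additive.ofMul (fun v => Iff.rfl))
  -- the centralizer of an element acting like `x`
  have hcentU : ∀ x' : Y, (∀ v ∈ V, x' * v * x'⁻¹ = x * v * x⁻¹) →
      Nat.card ↥(U ⊓ centralizer ({x'} : Set Y)) = p := by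
    intro x' hx'
    set C₀ : Subgroup ↥V :=
      AddSubgroup.toSubgroup' (Ub ⊓ LinearMap.ker N : Submodule (ZMod p) (Additive ↥V)).toAddSubgroup
      with hC₀
    have hCeq : U ⊓ centralizer ({x'} : Set Y) = C₀.map V.subtype := by
      ext y
      constructor
      · rintro ⟨hyU, hyc⟩
        have hyc' : y ∈ centralizer ({x'} : Set Y) := hyc
        rw [mem_centralizer_iff] at hyc'
        have h1 := hyc' x' rfl
        refine ⟨⟨y, hUV hyU⟩, ⟨(hmemU ⟨y, hUV hyU⟩).1 hyU, ?_⟩, rfl⟩
        show N (Additive.ofMul (⟨y, hUV hyU⟩ : ↥V)) = 0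
        rw [hNker, ← hx' y (hUV hyU), h1, mul_inv_cancel_right]
      · rintro ⟨v, ⟨hv1, hv2⟩, rfl⟩
        refine ⟨(hmemU v).2 hv1, ?_⟩
        show (v : Y) ∈ centralizer ({x'} : Set Y)
        rw [mem_centralizer_iff]
        intro h hh
        rw [Set.mem_singleton_iff] at hh
        subst hh
        have h3 : N (Additive.ofMul v) = 0 := hv2
        rw [hNker, ← hx' v v.2] at h3
        calc h * (v : Y) = (h * v * h⁻¹) * h := by group
          _ = v * h := by rw [h3]
    rw [hCeq, Subgroup.card_map_of_injective V.subtype_injective,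
      ← card_cyc_inf_ker p N hNp v₀ hv₀]
    exact Nat.card_congr (Equiv.subtypeEquiv Additive.ofMul (fun v => Iff.rfl))
  -- the product formula
  have hpowconj : ∀ (w : ↥V) (n : ℕ),
      ((w : Y) * x) ^ n = ((∏ i ∈ Finset.range n, φ (x ^ i) w : ↥V) : Y) * x ^ n := by
    intro w n
    induction n with
    | zero => simp
    | succ n ih =>
      rw [pow_succ, ih, Finset.prod_range_succ, hcoe_mul, hφ, pow_succ]
      group
  -- choice of `x'`
  obtain ⟨x', hx'V, hx'p, hx'mem, hx'conj, hx'z⟩ : ∃ x' : Y, x' ∉ V ∧ x' ^ p ∈ V ∧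
      x' ∈ V ⊔ zpowers x ∧ (∀ v ∈ V, x' * v * x'⁻¹ = x * v * x⁻¹) ∧
      U ⊓ zpowers (x' ^ p) = ⊥ := by
    set zV : ↥V := ⟨x ^ p, hxp⟩ with hzV
    by_cases hz : Additive.ofMul zV ∈ Ub
    · -- adjust
      have hNz : N (Additive.ofMul zV) = 0 := by
        rw [hNker]
        show x * x ^ p * x⁻¹ = x ^ p
        rw [← pow_succ', pow_succ, mul_inv_cancel_right]
      have hzspan : Additive.ofMul zV ∈ Submodule.span (ZMod p) {e} := by
        rw [he, ← cyc_inf_ker N p hpp.one_le hNp v₀ hv₀]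
        exact ⟨hz, hNz⟩
      obtain ⟨c, hc⟩ := Submodule.mem_span_singleton.1 hzspan
      set wb : Additive ↥V := -(c • v₀) with hwb
      set w : ↥V := Additive.toMul wb with hw
      have hsum : Additive.ofMul (∏ i ∈ Finset.range p, φ (x ^ i) w : ↥V) = -(c • e) := by
        rw [ofMul_prod]
        have h1 : ∀ i ∈ Finset.range p, Additive.ofMul (φ (x ^ i) w) = (T ^ i) wb := by
          intro i _
          rw [← hρa, map_pow]
          rfl
        rw [Finset.sum_congr rfl h1, ← LinearMap.sum_apply]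
        have h2 := HHT.sub_one_pow_eq_geom (K := ZMod p) p T 1
        rw [pow_one] at h2
        rw [← h2, hwb, map_neg, map_smul]
      have hprod : (∏ i ∈ Finset.range p, φ (x ^ i) w : ↥V) * zV = 1 := by
        apply Additive.ofMul.injective
        rw [ofMul_mul, hsum, ← hc, neg_add_cancel]
        rfl
      have hx'p : ((w : Y) * x) ^ p = 1 := by
        rw [hpowconj]
        have := congrArg Subtype.val hprod
        rw [hcoe_mul] at this
        exact this
      refine ⟨(w : Y) * x, ?_, ?_, ?_, ?_, ?_⟩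
      · intro h
        apply hxV
        have := V.mul_mem (V.inv_mem w.2) h
        rwa [inv_mul_cancel_left] at this
      · rw [hx'p]; exact V.one_mem
      · exact (V ⊔ zpowers x).mul_mem ((le_sup_left : V ≤ V ⊔ zpowers x) w.2)
          ((le_sup_right : zpowers x ≤ V ⊔ zpowers x) (mem_zpowers x))
      · intro v hv
        have h1 : x * v * x⁻¹ ∈ V := hVn.conj_mem v hv x
        have h2 := hVc _ w.2 _ h1
        calc (w : Y) * x * v * ((w : Y) * x)⁻¹ = (w : Y) * (x * v * x⁻¹) * (w : Y)⁻¹ := by group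
          _ = x * v * x⁻¹ := by rw [h2, mul_inv_cancel_right]
      · rw [hx'p, zpowers_one_eq_bot, inf_bot_eq]
    · refine ⟨x, hxV, hxp, (le_sup_right : zpowers x ≤ V ⊔ zpowers x) (mem_zpowers x),
        fun v _ => rfl, ?_⟩
      apply inf_zpowers_eq_bot p U (x ^ p) (hVp _ hxp)
      intro h
      exact hz ((hmemU zV).1 h)
  haveI : Finite U := inferInstance
  have hxU2 : ∀ u ∈ U, x' * u * x'⁻¹ ∈ U := by
    intro u hu
    rw [hx'conj u (hUV hu)]
    exact hxU u hu
  obtain ⟨E, R₁, hn, hE, hW⟩ := sec p V U x' hVc hVp hUV hx'V hx'p hxU2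
    (conj_inv_mem U x' hxU2) hcardU (hcentU x' hx'conj) hx'z
  refine ⟨E, R₁, hn, hE.trans ?_, hW⟩
  refine sup_le le_sup_left ?_
  rw [zpowers_le]
  exact hx'mem

end Cfsg.Agent.Helper5.HHW
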