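import Mathlib
import Cfsg.Prelude.Def_Local
import Cfsg.Prelude.Def_LocalEven
import Cfsg.Agent.Helper5.HHWc
import Cfsg.Agent.Helper1.PGroup
import Cfsg.Agent.Helper14.PCore
import Cfsg.Agent.Helper21.FrattiniAut
import Cfsg.Agent.Helper23.HallHigman
import Cfsg.Agent.Lead.PSolvHall
import Cfsg.Agent.Helper15.SL2Free1

/-!
# The wreath-like section in a `p`-solvable group with `O_{p'} = 1` and `p`-length at least 2
-/

set_option autoImplicit false
set_option linter.style.haveILetI false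

namespace Cfsg.Agent.Helper5.HHW

open Subgroup
open scoped commutatorElement

theorem core_X {X : Type*} [Group X] [Finite X] (p : ℕ) [hp : Fact p.Prime] (hp2 : p ≠ 2)
    (hnf : ¬ ∃ k : ℕ, p = 2 ^ k + 1) (hsol : Cfsg.IsPSolvable p X)
    (hO : Cfsg.pPrimeCore p X = ⊥) (S : Sylow p X) (hidx : p ∣ (Cfsg.pCore p X).index) :
    ∃ (W : Type) (_ : Group W) (_ : Finite W), WProp p W ∧
      Cfsg.Involves W ↥(S : Subgroup X) := by
  classical
  have hpp := hp.out
  set R := Cfsg.pCore p X with hR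
  have hRn : R.Normal := inferInstance
  have hRp : IsPGroup p R := Cfsg.Agent.Helper14.pCore_isPGroup p
  have hC : centralizer (R : Set X) ≤ R :=
    Cfsg.Agent.Helper23.centralizer_pCore_le_of_isPSolvable hsol hO
  have hRS : R ≤ S := Cfsg.Agent.Helper14.pCore_le_sylow p S
  set Φ : Subgroup X := (frattini ↥R).map R.subtype with hΦ
  have hΦn : Φ.Normal := inferInstance
  have hΦR : Φ ≤ R := map_subtype_le _
  set f : X →* X ⧸ Φ := QuotientGroup.mk' Φ with hf
  have hfs : Function.Surjective f := QuotientGroup.mk'_surjective Φ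
  have hf1 : ∀ z : X, f z = 1 ↔ z ∈ Φ := fun z => by
    rw [hf, QuotientGroup.mk'_apply, QuotientGroup.eq_one_iff]
  set V : Subgroup (X ⧸ Φ) := R.map f with hV
  haveI hVn : V.Normal := hRn.map f hfs
  have hmemV : ∀ z : X, f z ∈ V ↔ z ∈ R := by
    intro z
    constructor
    · rintro ⟨r, hr, hrz⟩
      have h1 : f (r⁻¹ * z) = 1 := by rw [map_mul, map_inv, hrz, inv_mul_cancel]
      rw [hf1] at h1
      have := R.mul_mem hr (hΦR h1)
      rwa [mul_inv_cancel_left] at this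
    · intro hz
      exact ⟨z, hz, rfl⟩
  have hVc : ∀ a ∈ V, ∀ b ∈ V, a * b = b * a := by
    rintro _ ⟨r, hr, rfl⟩ _ ⟨s, hs, rfl⟩
    have h1 : ⁅(⟨r, hr⟩ : ↥R), ⟨s, hs⟩⁆ ∈ frattini ↥R :=
      Cfsg.Agent.Helper1.IsPGroup.commutator_le_frattini hRp
        (commutator_mem_commutator (mem_top _) (mem_top _))
    have h2 : r * s * r⁻¹ * s⁻¹ ∈ Φ := ⟨_, h1, by simp [commutatorElement_def]⟩
    rw [← hf1, map_mul, map_mul, map_mul, map_inv, map_inv] at h2
    calc f r * f s = (f r * f s * (f r)⁻¹ * (f s)⁻¹) * (f s * f r) := by group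
      _ = f s * f r := by rw [h2, one_mul]
  have hVp : ∀ a ∈ V, a ^ p = 1 := by
    rintro _ ⟨r, hr, rfl⟩
    rw [← map_pow, hf1]
    exact ⟨_, Cfsg.Agent.Helper1.IsPGroup.pow_mem_frattini hRp ⟨r, hr⟩, by simp⟩
  -- the composite onto `Y ⧸ V`
  set g : X →* (X ⧸ Φ) ⧸ V := (QuotientGroup.mk' V).comp f with hg
  have hgs : Function.Surjective g := (QuotientGroup.mk'_surjective V).comp hfs
  have hg1 : ∀ z : X, g z = 1 ↔ z ∈ R := by
    intro z
    rw [hg, MonoidHom.comp_apply, QuotientGroup.mk'_apply, QuotientGroup.eq_one_iff, hmemV]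
  have hpow_of_g : ∀ (z : X) (a : ℕ), (g z) ^ (p ^ a) = 1 → ∃ b : ℕ, z ^ (p ^ b) = 1 := by
    intro z a ha
    rw [← map_pow, hg1] at ha
    obtain ⟨b, hb⟩ := hRp ⟨_, ha⟩
    have hb' : (z ^ p ^ a) ^ p ^ b = 1 := congrArg Subtype.val hb
    refine ⟨a + b, ?_⟩
    rw [pow_add, pow_mul]
    exact hb'
  have hsolYV : Cfsg.IsPSolvable p ((X ⧸ Φ) ⧸ V) :=
    Cfsg.Agent.Lead.isPSolvable_quotient (Cfsg.Agent.Lead.isPSolvable_quotient hsol Φ) V
  have hOpYV : Cfsg.pCore p ((X ⧸ Φ) ⧸ V) = ⊥ := by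
    set K : Subgroup X := (Cfsg.pCore p ((X ⧸ Φ) ⧸ V)).comap g with hK
    have hKn : K.Normal := (inferInstance : (Cfsg.pCore p ((X ⧸ Φ) ⧸ V)).Normal).comap g
    have hKp : IsPGroup p K := by
      rintro ⟨k, hk⟩
      have hk' : g k ∈ Cfsg.pCore p ((X ⧸ Φ) ⧸ V) := hk
      obtain ⟨a, ha⟩ := (Cfsg.Agent.Helper14.pCore_isPGroup (G := (X ⧸ Φ) ⧸ V) p) ⟨g k, hk'⟩
      have ha' : (g k) ^ p ^ a = 1 := congrArg Subtype.val ha
      obtain ⟨b, hb⟩ := hpow_of_g k a ha'
      exact ⟨b, Subtype.ext hb⟩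
    have hKR : K ≤ R := Cfsg.Agent.Helper14.le_pCore p hKn hKp
    rw [eq_bot_iff]
    intro q hq
    obtain ⟨z, rfl⟩ := hgs q
    rw [mem_bot, hg1]
    exact hKR hq
  have hfaithY : centralizer (V : Set (X ⧸ Φ)) ≤ V := by
    -- every element of the centralizer has a `p`-power in `R`
    have hclaim : ∀ z : X, f z ∈ centralizer (V : Set (X ⧸ Φ)) → ∃ k : ℕ, z ^ p ^ k ∈ R := by
      intro z hz
      rw [mem_centralizer_iff] at hz
      set α : MulAut ↥R := MulAut.conjNormal z with hα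
      have hαfr : ∀ r : ↥R, α r * r⁻¹ ∈ frattini ↥R := by
        intro r
        have h1 : f (z * r * z⁻¹ * (r : X)⁻¹) = 1 := by
          have h2 := hz (f r) ⟨r, r.2, rfl⟩
          rw [map_mul, map_mul, map_mul, map_inv, map_inv, ← h2]
          group
        rw [hf1] at h1
        obtain ⟨c, hc, hcr⟩ := h1
        have : α r * r⁻¹ = c := by
          apply Subtype.ext
          have hcr' : (c : X) = z * r * z⁻¹ * (r : X)⁻¹ := hcr
          rw [hcr', Subgroup.coe_mul, hα, MulAut.conjNormal_apply]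
          rfl
        rw [this]
        exact hc
      obtain ⟨k, hk⟩ :=
        Cfsg.Agent.Helper21.FrattiniAut.exists_pow_eq_one_of_mem_ker ↥R hRp α hαfr
      refine ⟨k, hC ?_⟩
      rw [mem_centralizer_iff]
      intro r hr
      have h1 : (α ^ p ^ k) ⟨r, hr⟩ = ⟨r, hr⟩ := by rw [hk]; rfl
      rw [hα, ← map_pow] at h1
      have h2 : z ^ p ^ k * r * (z ^ p ^ k)⁻¹ = r := by
        have := congrArg Subtype.val h1
        rwa [MulAut.conjNormal_apply] at this
      calc r * z ^ p ^ k = z ^ p ^ k * r * (z ^ p ^ k)⁻¹ * z ^ p ^ k := by rw [h2]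
        _ = z ^ p ^ k * r := by group
    set D : Subgroup ((X ⧸ Φ) ⧸ V) :=
      (centralizer (V : Set (X ⧸ Φ))).map (QuotientGroup.mk' V) with hD
    have hDn : D.Normal :=
      (inferInstance : (centralizer (V : Set (X ⧸ Φ))).Normal).map _
        (QuotientGroup.mk'_surjective V)
    have hDp : IsPGroup p D := by
      rintro ⟨_, y, hy, rfl⟩
      obtain ⟨z, rfl⟩ := hfs y
      obtain ⟨k, hk⟩ := hclaim z hy
      refine ⟨k, Subtype.ext ?_⟩
      show (g z) ^ p ^ k = 1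
      rw [← map_pow, hg1]
      exact hk
    have hD1 : D ≤ ⊥ := by
      rw [← hOpYV]
      exact Cfsg.Agent.Helper14.le_pCore p hDn hDp
    intro y hy
    have h1 : (QuotientGroup.mk' V) y ∈ D := ⟨y, hy, rfl⟩
    have h2 := hD1 h1
    rw [mem_bot, QuotientGroup.mk'_apply, QuotientGroup.eq_one_iff] at h2
    exact h2
  -- an element of `S` of order `p` modulo `R`
  obtain ⟨x₀, hx₀S, hx₀R, hx₀p⟩ : ∃ x₀ : X, x₀ ∈ S ∧ x₀ ∉ R ∧ x₀ ^ p ∈ R := by
    have hne : R ≠ (S : Subgroup X) := by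
      intro h
      apply S.not_dvd_index
      rw [← h]
      exact hidx
    obtain ⟨y, hyS, hyR⟩ := SetLike.exists_of_lt (lt_of_le_of_ne hRS hne)
    have hex : ∃ k : ℕ, y ^ p ^ k ∈ R := by
      obtain ⟨k, hk⟩ := S.2 ⟨y, hyS⟩
      have hk' : y ^ p ^ k = 1 := congrArg Subtype.val hk
      exact ⟨k, by rw [hk']; exact R.one_mem⟩
    have hk0 : Nat.find hex ≠ 0 := by
      intro h0
      have := Nat.find_spec hex
      rw [h0, pow_zero, pow_one] at this
      exact hyR this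
    obtain ⟨k, hk⟩ := Nat.exists_eq_succ_of_ne_zero hk0
    refine ⟨y ^ p ^ k, (S : Subgroup X).pow_mem hyS _, ?_, ?_⟩
    · exact Nat.find_min hex (by omega : k < Nat.find hex)
    · have := Nat.find_spec hex
      rw [hk, Nat.succ_eq_add_one, pow_succ, pow_mul] at this
      exact this
  set x : X ⧸ Φ := f x₀ with hx
  have hxV : x ∉ V := by rw [hx, hmemV]; exact hx₀R
  have hxp : x ^ p ∈ V := by rw [hx, ← map_pow, hmemV]; exact hx₀p
  obtain ⟨E, R₁, hn, hE, hW⟩ := yv p hp2 hnf V hVc hVp hsolYV hOpYV hfaithY x hxV hxp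
  set SY : Subgroup (X ⧸ Φ) := (S : Subgroup X).map f with hSY
  have hESY : E ≤ SY := by
    refine hE.trans (sup_le ?_ ?_)
    · exact Subgroup.map_mono hRS
    · rw [zpowers_le]
      exact ⟨x₀, hx₀S, rfl⟩
  -- transport to universe zero
  haveI : Small.{0} (↥E ⧸ R₁.subgroupOf E) := Countable.toSmall _
  let me : Shrink.{0} (↥E ⧸ R₁.subgroupOf E) ≃* (↥E ⧸ R₁.subgroupOf E) := Shrink.mulEquiv
  haveI : Finite (Shrink.{0} (↥E ⧸ R₁.subgroupOf E)) := Finite.of_equiv _ (equivShrink _)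
  refine ⟨Shrink.{0} (↥E ⧸ R₁.subgroupOf E), inferInstance, inferInstance,
    hW.of_mulEquiv me.symm, ?_⟩
  have h1 : Cfsg.Involves (Shrink.{0} (↥E ⧸ R₁.subgroupOf E)) ↥SY :=
    Cfsg.Agent.Helper15.SL2Free.involves_subgroup_of_le SY E R₁ hn hESY me.symm
  exact Cfsg.Agent.Helper15.SL2Free.involves_of_surjective_hom (f.subgroupMap (S : Subgroup X))
    (f.subgroupMap_surjective (S : Subgroup X)) h1

end Cfsg.Agent.Helper5.HHW
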