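import Mathlib
import Cfsg.Agent.Helper14.SylowIn
import Cfsg.Agent.Lead.CoprimeSylow

set_option autoImplicit false
set_option linter.unusedSectionVars false
set_option linter.unusedVariables false

/-!
# An involution inverting a `p`-element, when `p`-elements have centralizers of odd order

If the centralizers of the nonidentity `p`-elements of `G` have odd order and the involution `t`
inverts a nonidentity `p`-element, then `t` inverts a whole Sylow `p`-subgroup of `G`.
-/

namespace Cfsg.Agent.Helper5.InvSyl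

open Cfsg Cfsg.Agent.Helper14

variable {G : Type*} [Group G] [Finite G]

theorem orderOf_eq_two {t : G} (ht2 : t * t = 1) (ht1 : t ≠ 1) : orderOf t = 2 := by
  apply orderOf_eq_prime
  · rw [pow_two]; exact ht2
  · exact ht1

theorem inv_eq_self {t : G} (ht2 : t * t = 1) : t⁻¹ = t := inv_eq_of_mul_eq_one_right ht2

/-- An involution does not centralize an element with centralizer of odd order. -/
theorem not_commute_of_odd {t : G} (ht2 : t * t = 1) (ht1 : t ≠ 1) {v : G}
    (hodd : Odd (Nat.card (Subgroup.centralizer ({v} : Set G)))) : t * v ≠ v * t := by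
  intro hcomm
  have hmem : t ∈ Subgroup.centralizer ({v} : Set G) := by
    rw [Subgroup.mem_centralizer_singleton_iff]
    exact hcomm
  have h2 : orderOf t ∣ Nat.card (Subgroup.centralizer ({v} : Set G)) := by
    have := orderOf_dvd_natCard (⟨t, hmem⟩ : Subgroup.centralizer ({v} : Set G))
    rwa [← Subgroup.orderOf_coe] at this
  rw [orderOf_eq_two ht2 ht1] at h2
  exact (Nat.not_even_iff_odd.mpr hodd) (even_iff_two_dvd.mpr h2)

/-- A fixed-point-free involution inverts. -/
theorem inverts_of_invariant {p : ℕ} [Fact p.Prime] {t : G} (ht2 : t * t = 1)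
    (hfree : ∀ v : G, v ≠ 1 → (∃ k : ℕ, orderOf v = p ^ k) → t * v ≠ v * t)
    (S : Subgroup G) (hS : IsPGroup p S) (hinv : ∀ x ∈ S, t * x * t⁻¹ ∈ S) :
    ∀ x ∈ S, t * x * t⁻¹ = x⁻¹ := by
  let φ : S →* S :=
    { toFun := fun x => ⟨t * x * t⁻¹, hinv x x.2⟩
      map_one' := by
        apply Subtype.ext
        simp
      map_mul' := by
        intro x y
        apply Subtype.ext
        simp only [Subgroup.coe_mul]
        group }
  have hfp : MonoidHom.FixedPointFree φ := by
    intro x hx
    have hx' : t * (x : G) * t⁻¹ = x := congrArg Subtype.val hx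
    by_contra hne
    have hx1 : (x : G) ≠ 1 := fun h => hne (Subtype.ext h)
    obtain ⟨k, hk⟩ := (IsPGroup.iff_orderOf.mp hS) x
    rw [← Subgroup.orderOf_coe] at hk
    apply hfree x hx1 ⟨k, hk⟩
    calc t * (x : G) = t * x * t⁻¹ * t := by group
      _ = x * t := by rw [hx']
  have hinvol : Function.Involutive φ := by
    intro x
    apply Subtype.ext
    show t * (t * (x : G) * t⁻¹) * t⁻¹ = x
    rw [inv_eq_self ht2]
    calc t * (t * (x : G) * t) * t = (t * t) * x * (t * t) := by group
      _ = x := by rw [ht2, one_mul, mul_one]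
  have hcoe := MonoidHom.FixedPointFree.coe_eq_inv_of_involutive hfp hinvol
  intro x hx
  have := congrFun hcoe ⟨x, hx⟩
  exact congrArg Subtype.val this

/-- `t` normalizes the centralizer of an element it inverts. -/
theorem mem_normalizer_centralizer {t w : G} (ht2 : t * t = 1) (hw : t * w * t⁻¹ = w⁻¹) :
    t ∈ Subgroup.normalizer ((Subgroup.centralizer ({w} : Set G) : Subgroup G) : Set G) := by
  rw [Subgroup.mem_normalizer_iff]
  intro h
  rw [Subgroup.mem_centralizer_singleton_iff, Subgroup.mem_centralizer_singleton_iff]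
  have hti := inv_eq_self ht2
  have hw2 : t⁻¹ * w * t = w⁻¹ := by
    rw [hti]
    rw [hti] at hw
    exact hw
  have key : t * h * t⁻¹ * w = w * (t * h * t⁻¹) ↔
      h * (t⁻¹ * w * t) = (t⁻¹ * w * t) * h := by
    constructor
    · intro e
      calc h * (t⁻¹ * w * t) = t⁻¹ * (t * h * t⁻¹ * w) * t := by group
        _ = t⁻¹ * (w * (t * h * t⁻¹)) * t := by rw [e]
        _ = (t⁻¹ * w * t) * h := by group
    · intro e
      calc t * h * t⁻¹ * w = t * (h * (t⁻¹ * w * t)) * t⁻¹ := by group
        _ = t * ((t⁻¹ * w * t) * h) * t⁻¹ := by rw [e]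
        _ = w * (t * h * t⁻¹) := by group
  rw [key, hw2]
  constructor
  · intro e
    calc h * w⁻¹ = w⁻¹ * (w * h) * w⁻¹ := by group
      _ = w⁻¹ * (h * w) * w⁻¹ := by rw [e]
      _ = w⁻¹ * h := by group
  · intro e
    calc h * w = w * (w⁻¹ * h) * w := by group
      _ = w * (h * w⁻¹) * w := by rw [e]
      _ = w * h := by group

/-- A `t`-invariant Sylow subgroup of the centralizer of an inverted element. -/
theorem exists_invariant_sylowIn {p : ℕ} [Fact p.Prime] {t : G} (ht2 : t * t = 1)
    (ht1 : t ≠ 1) {w : G} (hw : t * w * t⁻¹ = w⁻¹)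
    (hodd : Odd (Nat.card (Subgroup.centralizer ({w} : Set G)))) :
    ∃ S : Subgroup G, IsSylowIn p S (Subgroup.centralizer ({w} : Set G)) ∧
      ∀ x ∈ S, t * x * t⁻¹ ∈ S := by
  have hA : Subgroup.zpowers t ≤
      Subgroup.normalizer ((Subgroup.centralizer ({w} : Set G) : Subgroup G) : Set G) := by
    rw [Subgroup.zpowers_le]
    exact mem_normalizer_centralizer ht2 hw
  have hcop : (Nat.card (Subgroup.zpowers t)).Coprime
      (Nat.card (Subgroup.centralizer ({w} : Set G))) := by
    rw [Nat.card_zpowers, orderOf_eq_two ht2 ht1, Nat.coprime_two_left]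
    exact hodd
  have hsol : Group.IsSolvable (Subgroup.zpowers t) := by
    apply Group.isSolvable_of_comm
    intro a b
    obtain ⟨i, hi⟩ := Subgroup.mem_zpowers_iff.mp a.2
    obtain ⟨j, hj⟩ := Subgroup.mem_zpowers_iff.mp b.2
    apply Subtype.ext
    simp only [Subgroup.coe_mul]
    rw [← hi, ← hj, ← zpow_add, ← zpow_add, add_comm]
  obtain ⟨P, hP⟩ := Cfsg.Agent.Lead.coprime_exists_invariant_sylow (Subgroup.zpowers t)
    (Subgroup.centralizer ({w} : Set G)) hA hcop (Or.inl hsol) p
  refine ⟨_, isSylowIn_of_sylow P, ?_⟩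
  intro x hx
  have := hP (Subgroup.mem_zpowers t)
  rw [Subgroup.mem_normalizer_iff] at this
  exact (this x).mp hx

/-- A `p`-element of `K` centralizing a Sylow `p`-subgroup of `K` lies in it. -/
theorem mem_of_isSylowIn_of_commute {p : ℕ} [Fact p.Prime] {S K : Subgroup G}
    (h : IsSylowIn p S K) {v : G} (hvK : v ∈ K) (hv : ∃ k : ℕ, orderOf v = p ^ k)
    (hc : ∀ x ∈ S, v * x = x * v) : v ∈ S := by
  have hZ : IsPGroup p (Subgroup.zpowers v) := by
    obtain ⟨k, hk⟩ := hv
    apply IsPGroup.of_card (n := k)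
    rw [Nat.card_zpowers, hk]
  have hnorm : Subgroup.zpowers v ≤ Subgroup.normalizer (S : Set G) := by
    rw [Subgroup.zpowers_le, Subgroup.mem_normalizer_iff]
    intro x
    constructor
    · intro hx
      have : v * x * v⁻¹ = x := by rw [hc x hx]; group
      rw [this]; exact hx
    · intro hx
      have h2 := hc _ hx
      have : x = v * x * v⁻¹ := by
        calc x = v⁻¹ * (v * x * v⁻¹ * v) := by group
          _ = v⁻¹ * (v * (v * x * v⁻¹)) := by rw [h2]
          _ = v * x * v⁻¹ := by group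
      rw [this]; exact hx
  have hsup : IsPGroup p ↥(Subgroup.zpowers v ⊔ S) :=
    IsPGroup.to_sup_of_normal_right' hZ h.2.1 hnorm
  have hle : Subgroup.zpowers v ⊔ S ≤ K := by
    apply sup_le
    · rw [Subgroup.zpowers_le]; exact hvK
    · exact h.1
  have := h.2.2 _ hle hsup le_sup_right
  rw [← this]
  exact (le_sup_left : Subgroup.zpowers v ≤ _) (Subgroup.mem_zpowers v)

/-- **An involution inverting a nonidentity `p`-element inverts a Sylow `p`-subgroup**, when the
nonidentity `p`-elements have centralizers of odd order. -/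
theorem exists_sylow_inverted {p : ℕ} [hp : Fact p.Prime]
    (hC : ∀ g : G, g ≠ 1 → (∃ k : ℕ, orderOf g = p ^ k) →
      Odd (Nat.card (Subgroup.centralizer ({g} : Set G))))
    {t u : G} (ht2 : t * t = 1) (ht1 : t ≠ 1) (hu1 : u ≠ 1) (hu : ∃ k : ℕ, orderOf u = p ^ k)
    (htu : t * u * t⁻¹ = u⁻¹) : ∃ P : Sylow p G, ∀ x ∈ P, t * x * t⁻¹ = x⁻¹ := by
  have hfree : ∀ v : G, v ≠ 1 → (∃ k : ℕ, orderOf v = p ^ k) → t * v ≠ v * t :=
    fun v hv1 hv => not_commute_of_odd ht2 ht1 (hC v hv1 hv)
  -- a `t`-invariant Sylow subgroup of `C(u)`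
  obtain ⟨S₁, hS₁, hS₁inv⟩ := exists_invariant_sylowIn (p := p) ht2 ht1 htu (hC u hu1 hu)
  have hS₁C : ∀ x ∈ S₁, u * x = x * u := by
    intro x hx
    have := hS₁.1 hx
    rw [Subgroup.mem_centralizer_singleton_iff] at this
    exact this.symm
  have huS : u ∈ S₁ := by
    apply mem_of_isSylowIn_of_commute hS₁ _ hu hS₁C
    rw [Subgroup.mem_centralizer_singleton_iff]
  have hS₁t := inverts_of_invariant ht2 hfree S₁ hS₁.2.1 hS₁inv
  -- a Sylow subgroup of `G` above it, and an element of its centre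
  obtain ⟨P, hP⟩ := hS₁.2.1.exists_le_sylow
  have hnt : Nontrivial (P : Subgroup G) := by
    refine ⟨⟨⟨u, hP huS⟩, 1, ?_⟩⟩
    intro h
    exact hu1 (congrArg Subtype.val h)
  have hcnt := IsPGroup.center_nontrivial P.isPGroup'
  obtain ⟨w', hw'⟩ := exists_ne (1 : Subgroup.center (P : Subgroup G))
  have hw1 : ((w' : (P : Subgroup G)) : G) ≠ 1 := by
    intro h
    apply hw'
    apply Subtype.ext
    apply Subtype.ext
    exact h
  have hwP : ((w' : (P : Subgroup G)) : G) ∈ (P : Subgroup G) := (w' : (P : Subgroup G)).2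
  have hwp : ∃ k : ℕ, orderOf ((w' : (P : Subgroup G)) : G) = p ^ k := by
    obtain ⟨k, hk⟩ := (IsPGroup.iff_orderOf.mp P.isPGroup') (w' : (P : Subgroup G))
    rw [← Subgroup.orderOf_coe] at hk
    exact ⟨k, hk⟩
  have hwc : ∀ x ∈ (P : Subgroup G), ((w' : (P : Subgroup G)) : G) * x =
      x * ((w' : (P : Subgroup G)) : G) := by
    intro x hx
    have := Subgroup.mem_center_iff.mp w'.2 ⟨x, hx⟩
    have h2 := congrArg Subtype.val this
    simp only [Subgroup.coe_mul] at h2
    exact h2.symm
  have hwS : ((w' : (P : Subgroup G)) : G) ∈ S₁ := by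
    apply mem_of_isSylowIn_of_commute hS₁ _ hwp (fun x hx => hwc x (hP hx))
    rw [Subgroup.mem_centralizer_singleton_iff]
    exact hwc u (hP huS)
  have htw := hS₁t _ hwS
  -- a `t`-invariant Sylow subgroup of `C(w)`
  obtain ⟨S₂, hS₂, hS₂inv⟩ := exists_invariant_sylowIn (p := p) ht2 ht1 htw (hC _ hw1 hwp)
  have hS₂t := inverts_of_invariant ht2 hfree S₂ hS₂.2.1 hS₂inv
  have hPC : (P : Subgroup G) ≤
      Subgroup.centralizer ({((w' : (P : Subgroup G)) : G)} : Set G) := by
    intro x hx
    rw [Subgroup.mem_centralizer_singleton_iff]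
    exact (hwc x hx).symm
  obtain ⟨U, hU, hPU⟩ := exists_isSylowIn_ge hPC P.isPGroup'
  have hUP : U = (P : Subgroup G) := P.is_maximal' hU.2.1 hPU
  rw [hUP] at hU
  obtain ⟨g, _, hg⟩ := IsSylowIn.exists_conj hU hS₂
  have hcard : Nat.card S₂ = p ^ (Nat.card G).factorization p := by
    rw [hg, Subgroup.card_map_of_injective (cj_injective g)]
    exact P.card_eq_multiplicity
  refine ⟨Sylow.ofCard S₂ hcard, ?_⟩
  intro x hx
  exact hS₂t x hx

end Cfsg.Agent.Helper5.InvSyl
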