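import Mathlib
import Cfsg.Agent.S3736
import Cfsg.Agent.Helper23.HallHigman
import Cfsg.Agent.Helper23.PLengthOne
import Cfsg.Agent.Helper23.PSeries
import Cfsg.Agent.Lead.PiClosed3
import Cfsg.Agent.Helper17.Basic

/-!
# Ito's theorem for `p`-solvable linear groups of degree `≤ p - 1`: group-theoretic part

`PEl p x` : `x` is a `p`-element.  `PCl p H` : the `p`-elements of the subgroup `H` are closed under
multiplication (`H` is `p`-closed).  Structure of a `p`-solvable group with abelian Sylow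
`p`-subgroups which is not `p`-closed but all of whose proper subgroups are.
-/

set_option autoImplicit false
open Cfsg

namespace Cfsg.Agent.Helper5.Ito

open Subgroup
open scoped commutatorElement

variable {G : Type*} [Group G]

/-- `x` is a `p`-element -/
def PEl (p : ℕ) (x : G) : Prop := ∃ k : ℕ, x ^ p ^ k = 1

/-- the `p`-elements of `H` are closed under multiplication -/
def PCl (p : ℕ) (H : Subgroup G) : Prop :=
  ∀ x ∈ H, ∀ y ∈ H, PEl p x → PEl p y → PEl p (x * y)

theorem PEl.one (p : ℕ) : PEl p (1 : G) := ⟨0, by simp⟩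

theorem PEl.inv {p : ℕ} {x : G} (h : PEl p x) : PEl p x⁻¹ := by
  obtain ⟨k, hk⟩ := h
  exact ⟨k, by rw [inv_pow, hk, inv_one]⟩

theorem PEl.conj {p : ℕ} {x : G} (h : PEl p x) (g : G) : PEl p (g * x * g⁻¹) := by
  obtain ⟨k, hk⟩ := h
  exact ⟨k, by rw [conj_pow, hk, mul_one, mul_inv_cancel]⟩

theorem PEl.pow {p : ℕ} {x : G} (h : PEl p x) (n : ℕ) : PEl p (x ^ n) := by
  obtain ⟨k, hk⟩ := h
  exact ⟨k, by rw [← pow_mul, mul_comm, pow_mul, hk, one_pow]⟩

theorem PEl.of_mem_isPGroup {p : ℕ} {P : Subgroup G} (hP : IsPGroup p P) {x : G} (hx : x ∈ P) :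
    PEl p x := by
  obtain ⟨k, hk⟩ := hP ⟨x, hx⟩
  exact ⟨k, by simpa using congrArg Subtype.val hk⟩

theorem PEl.eq_one_of_coprime [Finite G] {p : ℕ} {U : Subgroup G} (hU : (Nat.card U).Coprime p)
    {c : G} (hc : PEl p c) (hcU : c ∈ U) : c = 1 := by
  obtain ⟨k, hk⟩ := hc
  have h1 : orderOf c ∣ p ^ k := orderOf_dvd_of_pow_eq_one hk
  have h2 : orderOf c ∣ Nat.card U := by
    have := Subgroup.orderOf_dvd_natCard U hcU
    exact this
  have h3 : (Nat.card U).Coprime (p ^ k) := Nat.Coprime.pow_right k hU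
  have h4 : orderOf c = 1 := Nat.eq_one_of_dvd_coprimes h3 h2 h1
  exact orderOf_eq_one_iff.mp h4

/-- the key consequence of `p`-closedness -/
theorem commute_of_pCl [Finite G] {p : ℕ} {H U : Subgroup G} (hH : PCl p H) (hUH : U ≤ H)
    (hU : (Nat.card U).Coprime p) {x : G} (hxH : x ∈ H) (hx : PEl p x)
    (hxU : x ∈ normalizer (U : Set G)) {u : G} (hu : u ∈ U) : x * u = u * x := by
  have hc : PEl p (u * x * u⁻¹ * x⁻¹) :=
    hH _ (H.mul_mem (H.mul_mem (hUH hu) hxH) (H.inv_mem (hUH hu))) _ (H.inv_mem hxH) (hx.conj u) hx.inv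
  have hcU : u * x * u⁻¹ * x⁻¹ ∈ U := by
    have h1 : x * u⁻¹ * x⁻¹ ∈ U := (mem_normalizer_iff.mp hxU u⁻¹).mp (U.inv_mem hu)
    have : u * x * u⁻¹ * x⁻¹ = u * (x * u⁻¹ * x⁻¹) := by group
    rw [this]
    exact U.mul_mem hu h1
  have h1 := PEl.eq_one_of_coprime hU hc hcU
  have : x * u = (u * x * u⁻¹ * x⁻¹)⁻¹ * (u * x) := by group
  rw [this, h1, inv_one, one_mul]

/-- if the `p`-elements are closed under multiplication, Sylow `p`-subgroups are normal -/
theorem sylow_normal_of_pCl [Finite G] {p : ℕ} [Fact p.Prime] (h : PCl p (⊤ : Subgroup G))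
    (P : Sylow p G) : (P : Subgroup G).Normal := by
  let T : Subgroup G :=
    { carrier := {x | PEl p x}
      mul_mem' := fun {a b} ha hb => h a (mem_top a) b (mem_top b) ha hb
      one_mem' := PEl.one p
      inv_mem' := fun {a} ha => ha.inv }
  have hT : IsPGroup p T := by
    rintro ⟨x, k, hk⟩
    exact ⟨k, Subtype.ext (by simpa using hk)⟩
  have hPT : (P : Subgroup G) ≤ T := fun x hx => PEl.of_mem_isPGroup P.isPGroup' hx
  have hTP : T = P := P.is_maximal' hT hPT
  have hTn : T.Normal := ⟨fun x hx g => hx.conj g⟩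
  rw [← hTP]
  exact hTn

/-- conversely, a normal Sylow `p`-subgroup contains all `p`-elements -/
theorem pCl_of_sylow_normal [Finite G] {p : ℕ} [Fact p.Prime] (P : Sylow p G)
    (hP : (P : Subgroup G).Normal) : PCl p (⊤ : Subgroup G) := by
  have key : ∀ x : G, PEl p x → x ∈ (P : Subgroup G) := by
    intro x hx
    have hz : IsPGroup p (zpowers x) := by
      obtain ⟨k, hk⟩ := hx
      rw [IsPGroup.iff_orderOf]
      rintro ⟨y, hy⟩
      obtain ⟨i, rfl⟩ := mem_zpowers_iff.mp hy
      have h1 : (x ^ i) ^ p ^ k = 1 := by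
        rw [← zpow_natCast, ← zpow_mul, mul_comm, zpow_mul, zpow_natCast, hk, one_zpow]
      have h2 : orderOf (⟨x ^ i, hy⟩ : zpowers x) ∣ p ^ k := by
        apply orderOf_dvd_of_pow_eq_one
        exact Subtype.ext (by simpa using h1)
      obtain ⟨j, _, hj⟩ := (Nat.dvd_prime_pow (Fact.out : p.Prime)).mp h2
      exact ⟨j, hj⟩
    obtain ⟨S, hS⟩ := hz.exists_le_sylow
    obtain ⟨g, hg⟩ := MulAction.exists_smul_eq G P S
    have hSP : S = P := by
      rw [← hg]
      exact Sylow.smul_eq_of_normal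
    rw [← hSP]
    exact hS (mem_zpowers x)
  intro x _ y _ hx hy
  exact PEl.of_mem_isPGroup P.isPGroup' ((P : Subgroup G).mul_mem (key x hx) (key y hy))

/-- Structure of a minimal non-`p`-closed `p`-solvable group with abelian Sylow `p`-subgroups. -/
theorem minimal_structure [Finite G] (p : ℕ) [hp : Fact p.Prime] (hsolv : Cfsg.IsPSolvable p G)
    (hab : ∀ P : Sylow p G, ∀ a ∈ (P : Subgroup G), ∀ b ∈ (P : Subgroup G), a * b = b * a)
    (hnc : ¬ PCl p (⊤ : Subgroup G))
    (hmin : ∀ H : Subgroup G, H ≠ ⊤ → PCl p H) :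
    ∃ (q : ℕ) (_ : Fact q.Prime) (Q : Subgroup G) (x : G), q ≠ p ∧ Q.Normal ∧ IsPGroup q Q ∧ PEl p x ∧
      Q ⊔ zpowers x = ⊤ ∧ x ^ p ∈ center G ∧ x ∉ centralizer (Q : Set G) ∧
      ⁅Q, zpowers x⁆ = Q ∧ (Cfsg.IsElementaryAbelian q Q ∨ Cfsg.IsSpecial q ↥Q) ∧
      (∀ U : Subgroup G, U < Q → zpowers x ≤ normalizer (U : Set G) → ⁅U, zpowers x⁆ = ⊥) ∧
      (∀ U : Subgroup G, (frattini ↥Q).map Q.subtype ≤ U → U ≤ Q →
        zpowers x ≤ normalizer (U : Set G) → U = (frattini ↥Q).map Q.subtype ∨ U = Q) := by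
  classical
  obtain ⟨P⟩ : Nonempty (Sylow p G) := inferInstance
  have hPnn : ¬ (P : Subgroup G).Normal := fun h => hnc (pCl_of_sylow_normal P h)
  set K := Cfsg.pPrimeCore p G with hK
  have hKn : K.Normal := inferInstance
  have hKcop : (Nat.card K).Coprime p := Cfsg.Agent.Helper23.pPrimeCore_card_coprime p G
  -- K ⊔ P is normal
  have hNn : (K ⊔ (P : Subgroup G)).Normal := by
    set π := QuotientGroup.mk' K with hπ
    set R := Cfsg.pCore p (G ⧸ K) with hR
    have hRp : IsPGroup p R := Cfsg.Agent.Helper23.pCore_isPGroup p (G ⧸ K)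
    have hRn : R.Normal := inferInstance
    have hHH : centralizer (R : Set (G ⧸ K)) ≤ R :=
      Cfsg.Agent.Helper23.centralizer_pCore_quotient_le_of_isPSolvable hsolv
    have hsurj : Function.Surjective π := QuotientGroup.mk'_surjective K
    have hPbp : IsPGroup p ((P : Subgroup G).map π) := P.isPGroup'.map π
    have hPbidx : ¬ p ∣ ((P : Subgroup G).map π).index := by
      intro h
      exact P.not_dvd_index (h.trans (Subgroup.index_map_dvd _ hsurj))
    have hRP : R ≤ (P : Subgroup G).map π := hRp.le_sylow_of_normal (hPbp.toSylow hPbidx)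
    have hPC : (P : Subgroup G).map π ≤ centralizer (R : Set (G ⧸ K)) := by
      intro y hy
      rw [mem_centralizer_iff]
      intro r hr
      obtain ⟨a, ha, rfl⟩ := hy
      obtain ⟨b, hb, rfl⟩ := hRP hr
      rw [← map_mul, ← map_mul, hab P b hb a ha]
    have hPR : (P : Subgroup G).map π = R := le_antisymm (hPC.trans hHH) hRP
    have hcomap : K ⊔ (P : Subgroup G) = R.comap π := by
      rw [← hPR, Subgroup.comap_map_eq, QuotientGroup.ker_mk', sup_comm]
    rw [hcomap]
    infer_instance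
  -- hence K ⊔ P = ⊤
  have hPK : (P : Subgroup G) ≤ normalizer (K : Set G) := by
    rw [normalizer_eq_top]; exact le_top
  have hNtop : K ⊔ (P : Subgroup G) = ⊤ := by
    by_contra hne
    have hcl := hmin _ hne
    have hKC : ∀ u ∈ K, ∀ x ∈ (P : Subgroup G), x * u = u * x := by
      intro u hu x hx
      exact commute_of_pCl hcl le_sup_left hKcop (le_sup_right (a := K) hx)
        (PEl.of_mem_isPGroup P.isPGroup' hx) (hPK hx) hu
    have hNP : K ⊔ (P : Subgroup G) ≤ normalizer ((P : Subgroup G) : Set G) := by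
      refine sup_le ?_ le_normalizer
      intro u hu
      rw [mem_normalizer_iff]
      intro x
      constructor
      · intro hx
        have : u * x * u⁻¹ = x := by rw [← hKC u hu x hx, mul_inv_cancel_right]
        rw [this]; exact hx
      · intro hx
        have h1 := hKC u hu _ hx
        have : x = u * x * u⁻¹ := by
          have h2 : u * x * u⁻¹ * u = u * (u * x * u⁻¹) := h1
          have h3 : u * x = u * (u * x * u⁻¹) := by rw [← h2]; group
          exact mul_left_cancel h3
        rw [this]; exact hx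
    have hfr := Sylow.normalizer_sup_eq_top (P.subtype (le_sup_right (a := K)))
    rw [Sylow.coe_subtype, Subgroup.map_subgroupOf_eq_of_le le_sup_right] at hfr
    have : normalizer ((P : Subgroup G) : Set G) = ⊤ := by
      rw [← hfr]; exact (sup_eq_left.mpr hNP).symm
    exact hPnn (normalizer_eq_top_iff.mp this)
  -- P does not centralize K
  have hnc' : ¬ (P : Subgroup G) ≤ centralizer (K : Set G) := by
    intro hPC
    have hNP : K ⊔ (P : Subgroup G) ≤ normalizer ((P : Subgroup G) : Set G) := by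
      refine sup_le ?_ le_normalizer
      intro u hu
      rw [mem_normalizer_iff]
      have hcomm : ∀ x ∈ (P : Subgroup G), u * x = x * u := fun x hx =>
        ((mem_centralizer_iff.mp (hPC hx)) u hu)
      intro x
      constructor
      · intro hx
        have : u * x * u⁻¹ = x := by rw [hcomm x hx, mul_inv_cancel_right]
        rw [this]; exact hx
      · intro hx
        have h1 := hcomm _ hx
        have : x = u * x * u⁻¹ := by
          have h3 : u * x = u * (u * x * u⁻¹) := by rw [h1]; group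
          exact mul_left_cancel h3
        rw [this]; exact hx
    rw [hNtop] at hNP
    exact hPnn (normalizer_eq_top_iff.mp (top_le_iff.mp hNP))
  have hcopPK : (Nat.card (P : Subgroup G)).Coprime (Nat.card K) := by
    obtain ⟨a, ha⟩ := IsPGroup.iff_card.mp P.isPGroup'
    rw [ha]
    exact (Nat.Coprime.pow_right a hKcop).symm
  have hPsolv : Group.IsSolvable (P : Subgroup G) := by
    have : Group.IsNilpotent (P : Subgroup G) := P.isPGroup'.isNilpotent
    infer_instance
  obtain ⟨q, hq, R, hRK, hRq, hPR, hPRc⟩ :=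
    Cfsg.Agent.Lead.exists_invariant_sylow_not_centralized (P : Subgroup G) K hPK hcopPK
      (Or.inl hPsolv) hnc'
  haveI : Fact q.Prime := ⟨hq⟩
  have hRcop : (Nat.card R).Coprime p :=
    Nat.Coprime.coprime_dvd_left (Subgroup.card_dvd_of_le hRK) hKcop
  -- choose x ∈ P not centralizing R of minimal order
  have hex : ∃ n : ℕ, ∃ x ∈ (P : Subgroup G), x ∉ centralizer (R : Set G) ∧ orderOf x = n := by
    obtain ⟨x, hx, hxc⟩ := Set.not_subset.mp hPRc
    exact ⟨_, x, hx, hxc, rfl⟩
  obtain ⟨x, hxP, hxc, hxord⟩ := Nat.find_spec hex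
  have hxmin : ∀ y ∈ (P : Subgroup G), orderOf y < orderOf x → y ∈ centralizer (R : Set G) := by
    intro y hy hlt
    by_contra hyc
    have := Nat.find_min' hex ⟨y, hy, hyc, rfl⟩
    omega
  have hxpel : PEl p x := PEl.of_mem_isPGroup P.isPGroup' hxP
  have hxR : x ∈ normalizer (R : Set G) := hPR hxP
  have hzR : zpowers x ≤ normalizer (R : Set G) := (zpowers_le).mpr hxR
  have hx1 : x ≠ 1 := by
    rintro rfl
    exact hxc (one_mem _)
  -- R ⊔ ⟨x⟩ = ⊤
  have hgen : R ⊔ zpowers x = ⊤ := by
    by_contra hne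
    have hcl := hmin _ hne
    apply hxc
    rw [mem_centralizer_iff]
    intro u hu
    exact (commute_of_pCl hcl le_sup_left hRcop (le_sup_right (a := R) (mem_zpowers x)) hxpel hxR hu).symm
  have hRn : R.Normal := by
    have : R ⊔ zpowers x ≤ normalizer (R : Set G) := sup_le le_normalizer hzR
    rw [hgen] at this
    exact normalizer_eq_top_iff.mp (top_le_iff.mp this)
  -- q ≠ p
  have hR1 : R ≠ ⊥ := by
    rintro rfl
    apply hxc
    rw [mem_centralizer_iff]
    intro u hu
    rw [Subgroup.coe_bot, Set.mem_singleton_iff] at hu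
    rw [hu, one_mul, mul_one]
  have hqp : q ≠ p := by
    rintro rfl
    obtain ⟨a, ha⟩ := IsPGroup.iff_card.mp hRq
    rw [ha] at hRcop
    rcases Nat.eq_zero_or_pos a with h0 | hpos
    · rw [h0, pow_zero] at ha
      exact hR1 ((Subgroup.card_eq_one).mp ha)
    · have : q ∣ q ^ a := dvd_pow_self q hpos.ne'
      have h2 := Nat.Coprime.eq_one_of_dvd hRcop.symm ?_
      · exact hq.one_lt.ne' h2
      · exact this
  -- orders
  have hordx : ∃ k, orderOf x = p ^ k := by
    obtain ⟨k, hk⟩ := hxpel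
    obtain ⟨j, _, hj⟩ := (Nat.dvd_prime_pow hp.out).mp (orderOf_dvd_of_pow_eq_one hk)
    exact ⟨j, hj⟩
  obtain ⟨k, hk⟩ := hordx
  have hk0 : k ≠ 0 := by
    rintro rfl
    rw [pow_zero, orderOf_eq_one_iff] at hk
    exact hx1 hk
  have hpdvd : p ∣ orderOf x := by rw [hk]; exact dvd_pow_self p hk0
  -- x^p centralizes R, hence is central
  have hxpc : x ^ p ∈ centralizer (R : Set G) := by
    apply hxmin _ ((P : Subgroup G).pow_mem hxP p)
    rw [orderOf_pow' x hp.out.ne_zero, Nat.gcd_eq_right hpdvd]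
    exact Nat.div_lt_self (orderOf_pos x) hp.out.one_lt
  have hxpZ : x ^ p ∈ center G := by
    have h1 : R ⊔ zpowers x ≤ centralizer ({x ^ p} : Set G) := by
      refine sup_le ?_ ?_
      · intro u hu
        rw [mem_centralizer_iff]
        intro y hy
        rw [Set.mem_singleton_iff] at hy
        rw [hy]
        exact (mem_centralizer_iff.mp hxpc u hu).symm
      · rw [zpowers_le, mem_centralizer_iff]
        intro y hy
        rw [Set.mem_singleton_iff] at hy
        rw [hy, ← pow_succ, ← pow_succ']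
    rw [hgen] at h1
    rw [mem_center_iff]
    intro g
    have := mem_centralizer_iff.mp (h1 (mem_top g)) (x ^ p) rfl
    exact this.symm
  -- cardinalities
  have hzcard : Nat.card (zpowers x) = p ^ k := by rw [Nat.card_zpowers, hk]
  have hdisj : ∀ U : Subgroup G, U ≤ R → U ⊓ zpowers x = ⊥ := by
    intro U hU
    rw [eq_bot_iff]
    intro c hc
    rw [mem_bot]
    have hcz : PEl p c := by
      obtain ⟨i, rfl⟩ := mem_zpowers_iff.mp hc.2
      obtain ⟨j, hj⟩ := hxpel
      exact ⟨j, by rw [← zpow_natCast, ← zpow_mul, mul_comm, zpow_mul, zpow_natCast, hj, one_zpow]⟩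
    exact PEl.eq_one_of_coprime hRcop hcz (hU hc.1)
  have hcardsup : ∀ U : Subgroup G, U ≤ R → zpowers x ≤ normalizer (U : Set G) →
      Nat.card (U ⊔ zpowers x : Subgroup G) = Nat.card U * p ^ k := by
    intro U hU hUx
    have := Cfsg.Agent.Helper17.card_sup_mul_card_inf U (zpowers x) hUx
    rw [hdisj U hU, Subgroup.card_bot, mul_one, hzcard] at this
    exact this
  -- minimality hypothesis of S3736
  have hmin' : ∀ U : Subgroup G, U < R → zpowers x ≤ normalizer (U : Set G) → ⁅U, zpowers x⁆ = ⊥ := by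
    intro U hUR hUx
    have hne : U ⊔ zpowers x ≠ ⊤ := by
      intro htop
      have h1 := hcardsup U hUR.le hUx
      have h2 := hcardsup R le_rfl hzR
      rw [htop] at h1
      rw [hgen] at h2
      have h3 : Nat.card U * p ^ k = Nat.card R * p ^ k := by rw [← h1, ← h2]
      have h4 : Nat.card U = Nat.card R :=
        Nat.eq_of_mul_eq_mul_right (pow_pos hp.out.pos k) h3
      have h5 : U = R := Subgroup.eq_of_le_of_card_ge hUR.le h4.ge
      exact hUR.ne h5
    have hcl := hmin _ hne
    have hUcop : (Nat.card U).Coprime p :=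
      Nat.Coprime.coprime_dvd_left (Subgroup.card_dvd_of_le hUR.le) hRcop
    rw [eq_bot_iff, Subgroup.commutator_le]
    intro u hu y hy
    rw [mem_bot]
    obtain ⟨i, rfl⟩ := mem_zpowers_iff.mp hy
    have hcomm : Commute x u :=
      commute_of_pCl hcl le_sup_left hUcop (le_sup_right (a := U) (mem_zpowers x)) hxpel
        (hUx (mem_zpowers x)) hu
    have hcomm' : Commute u (x ^ i) := (hcomm.zpow_left i).symm
    rw [commutatorElement_def, hcomm'.eq, mul_inv_cancel_right, mul_inv_cancel]
  have hnt : ⁅R, zpowers x⁆ ≠ ⊥ := by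
    intro h
    apply hxc
    rw [mem_centralizer_iff]
    intro u hu
    have h1 : ⁅u, x⁆ ∈ ⁅R, zpowers x⁆ := Subgroup.commutator_mem_commutator hu (mem_zpowers x)
    rw [h, mem_bot, commutatorElement_eq_one_iff_mul_comm] at h1
    exact h1
  have hAcop : (Nat.card (zpowers x)).Coprime q := by
    rw [hzcard]
    exact Nat.Coprime.pow_left k ((Nat.coprime_primes hp.out hq).mpr (Ne.symm hqp))
  obtain ⟨h1, h2, h3, _⟩ := Cfsg.Agent.S3736.result (zpowers x) (zpowers x) R hRq hzR le_rfl le_normalizer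
    hAcop hnt hmin'
  exact ⟨q, ⟨hq⟩, R, x, hqp, hRn, hRq, hxpel, hgen, hxpZ, hxc, h1, h2, hmin', h3⟩

end Cfsg.Agent.Helper5.Ito
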