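import Mathlib
import Cfsg.Agent.Helper5.ItoA
import Cfsg.Agent.Helper5.HHModE
import Cfsg.Agent.Helper5.Central
import Cfsg.Agent.Helper8.SchurCommute
import Cfsg.Agent.Helper23.Schur

set_option autoImplicit false

namespace Cfsg.Agent.Helper5.Ito

open Subgroup Module Cfsg.Agent.Helper5.HHMod
open scoped commutatorElement

universe u v w

theorem heis_prime_eq {Y : Type v} [AddCommGroup Y] [Module ℂ Y] [FiniteDimensional ℂ Y] [Nontrivial Y]
    {Q : Type w} [Group Q] [Finite Q] {ρ : Representation ℂ Q Y} {Z : Subgroup Q}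
    (H : Heis ρ Z) (hZtop : Z ≠ ⊤) (σ : MulAut Q) (r : ℕ) (hr : r.Prime) (hσr : σ ^ r = 1)
    (hσZ : ∀ z ∈ Z, σ z = z) (hfpf : ∀ k, σ k * k⁻¹ ∈ Z → k ∈ Z)
    (T : Module.End ℂ Y) (hT : ∀ g, T * ρ g = ρ (σ g) * T) (hTr : T ^ r = 1)
    (hlt : finrank ℂ Y < r) : r = finrank ℂ Y + 1 := by
  by_contra hne
  have hrC : (r : ℂ) ≠ 0 := by exact_mod_cast hr.ne_zero
  have hall : ∀ β : ℂ, β ^ r = 1 → ∃ y : Y, y ≠ 0 ∧ T y = β • y := by
    intro β hβ
    rcases eigen_or_eq H hZtop σ r hr hrC hσr hσZ hfpf T hT hTr β hβ with h | h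
    · exact h
    · exact absurd h hne
  have hζ : IsPrimitiveRoot (Complex.exp (2 * Real.pi * Complex.I / r)) r :=
    Complex.isPrimitiveRoot_exp r hr.ne_zero
  set ζ := Complex.exp (2 * Real.pi * Complex.I / r) with hζdef
  let μ : Fin r → ℂ := fun i => ζ ^ (i : ℕ)
  have hμinj : Function.Injective μ := by
    intro i j hij
    exact Fin.ext (hζ.pow_inj i.2 j.2 hij)
  have hμ : ∀ i, (μ i) ^ r = 1 := by
    intro i
    show (ζ ^ (i : ℕ)) ^ r = 1
    rw [← pow_mul, mul_comm, pow_mul, hζ.pow_eq_one, one_pow]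
  choose v hv0 hv using fun i => hall (μ i) (hμ i)
  have hev : ∀ i, T.HasEigenvector (μ i) (v i) := by
    intro i
    exact ⟨Module.End.mem_eigenspace_iff.mpr (hv i), hv0 i⟩
  have hli := Module.End.eigenvectors_linearIndependent' T μ hμinj v hev
  have := hli.fintype_card_le_finrank
  rw [Fintype.card_fin] at this
  omega

theorem pow_two_of_sq (n p q b : ℕ) (hp : p.Prime) (hq : q.Prime) (hnp : n + 1 = p)
    (hsq : n ^ 2 = q ^ b) (hn1 : n ≠ 1) : ∃ k : ℕ, n = 2 ^ k := by
  rcases hq.eq_two_or_odd' with h2 | hodd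
  · subst h2
    have hdvd : n ∣ 2 ^ b := by rw [← hsq]; exact dvd_pow_self n two_ne_zero
    obtain ⟨k, _, hk⟩ := (Nat.dvd_prime_pow Nat.prime_two).mp hdvd
    exact ⟨k, hk⟩
  · exfalso
    have h1 : Odd (n ^ 2) := by rw [hsq]; exact hodd.pow
    have h2 : Odd n := Nat.Odd.of_mul_right (by rwa [pow_two] at h1)
    have h3 : Even p := by rw [← hnp]; exact h2.add_one
    have h4 : p = 2 := (Nat.Prime.even_iff hp).mp h3
    omega

section core

variable {G : Type u} [Group G] {V : Type v} [AddCommGroup V] [Module ℂ V]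

/-- restriction of a representation to a subgroup -/
abbrev resRep (ρ : Representation ℂ G V) (Q : Subgroup G) : Representation ℂ ↥Q V :=
  MonoidHom.comp ρ Q.subtype

theorem irr_submodule {Q : Type*} [Group Q] (τ : Representation ℂ Q V) [hτ : τ.IsIrreducible]
    (W : Submodule ℂ V) (hW : ∀ u : Q, ∀ y ∈ W, τ u y ∈ W) : W = ⊥ ∨ W = ⊤ := by
  let S : Subrepresentation τ := ⟨W, fun g v hv => hW g v hv⟩
  rcases eq_bot_or_eq_top S with h | h
  · left; exact congrArg Subrepresentation.toSubmodule h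
  · right; exact congrArg Subrepresentation.toSubmodule h

theorem rho_conj (ρ : Representation ℂ G V) (t g : G) : ρ (t * g * t⁻¹) = ρ t * ρ g * ρ t⁻¹ := by
  rw [map_mul, map_mul]

/-- the image of the centre of a normal subgroup is normal -/
theorem map_center_normal (Q : Subgroup G) [hQn : Q.Normal] : ((center ↥Q).map Q.subtype).Normal := by
  constructor
  intro g hg t
  rw [Cfsg.Agent.S3736.mem_map_center_iff] at hg ⊢
  refine ⟨hQn.conj_mem g hg.1 t, fun y hy => ?_⟩
  have h1 : t⁻¹ * y * t ∈ Q := by simpa using hQn.conj_mem y hy t⁻¹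
  have h2 := hg.2 _ h1
  have e1 : y * (t * g * t⁻¹) = t * ((t⁻¹ * y * t) * g) * t⁻¹ := by group
  have e2 : t * g * t⁻¹ * y = t * (g * (t⁻¹ * y * t)) * t⁻¹ := by group
  rw [e1, e2, h2]

variable [Finite G] [FiniteDimensional ℂ V]

theorem core (p q : ℕ) [hp : Fact p.Prime] [hq : Fact q.Prime]
    (Q : Subgroup G) [hQn : Q.Normal] (hQ : IsPGroup q Q) (x : G)
    (hxp : x ^ p ∈ center G)
    (hcomm : ⁅Q, zpowers x⁆ = Q) (hstr : Cfsg.IsElementaryAbelian q Q ∨ Cfsg.IsSpecial q ↥Q)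
    (hmin : ∀ U : Subgroup G, U < Q → zpowers x ≤ normalizer (U : Set G) → ⁅U, zpowers x⁆ = ⊥)
    (hirr : ∀ U : Subgroup G, (frattini ↥Q).map Q.subtype ≤ U → U ≤ Q →
        zpowers x ≤ normalizer (U : Set G) → U = (frattini ↥Q).map Q.subtype ∨ U = Q)
    (ρ : Representation ℂ G V) [hρ : ρ.IsIrreducible] [hρQ : (resRep ρ Q).IsIrreducible]
    (k0 : G) (hk0 : k0 ∈ Q) (hne : ρ (x * k0 * x⁻¹ * k0⁻¹) ≠ 1)
    (hlt : finrank ℂ V < p) :
    p = finrank ℂ V + 1 ∧ finrank ℂ V ≠ 1 ∧ ∃ b : ℕ, finrank ℂ V ^ 2 = q ^ b := by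
  classical
  have hVpos : 0 < finrank ℂ V := Cfsg.Agent.Helper5.finrank_pos_of_isIrreducible ρ
  haveI : Nontrivial V := Module.nontrivial_of_finrank_pos hVpos
  -- (*) the image of Q is not commutative
  have hstar : ¬ ∀ g ∈ Q, ∀ h ∈ Q, ρ g * ρ h = ρ h * ρ g := by
    intro hall
    obtain ⟨c, hc⟩ := Cfsg.Agent.Helper8.exists_scalar_of_commute (resRep ρ Q) (ρ k0) (by
      intro g
      exact hall k0 hk0 g g.2)
    apply hne
    have h1 : ρ (x * k0 * x⁻¹) = ρ k0 := by
      rw [rho_conj, hc, ← Module.End.one_eq_id, mul_smul_comm, mul_one, smul_mul_assoc, rho_mul_inv]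
    rw [map_mul, h1, rho_mul_inv]
  have hQnc : ¬ ∀ g ∈ Q, ∀ h ∈ Q, g * h = h * g := fun h =>
    hstar (fun g hg k hk => by rw [← map_mul, ← map_mul, h g hg k hk])
  have hsp : Cfsg.IsSpecial q ↥Q := by
    rcases hstr with h | h
    · exfalso
      apply hQnc
      intro g hg k hk
      have := h.1.is_comm.comm (⟨g, hg⟩ : ↥Q) ⟨k, hk⟩
      exact congrArg Subtype.val this
    · exact h
  set Zm := (center ↥Q).map Q.subtype with hZm
  have hZmn : Zm.Normal := map_center_normal Q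
  have hZmQ : Zm ≤ Q := map_subtype_le _
  have hΦ : (frattini ↥Q).map Q.subtype = Zm := by rw [hsp.2.1]
  have hZmne : Zm ≠ Q := by
    intro h
    apply hQnc
    intro g hg k hk
    have h1 : g ∈ Zm := by rw [h]; exact hg
    rw [Cfsg.Agent.S3736.mem_map_center_iff] at h1
    exact (h1.2 k hk).symm
  have hZmlt : Zm < Q := lt_of_le_of_ne hZmQ hZmne
  have hxZm : ∀ z ∈ Zm, x * z = z * x := by
    have h := hmin Zm hZmlt (by rw [normalizer_eq_top]; exact le_top)
    intro z hz
    have h1 : ⁅z, x⁆ ∈ ⁅Zm, zpowers x⁆ := commutator_mem_commutator hz (mem_zpowers x)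
    rw [h, mem_bot, commutatorElement_eq_one_iff_mul_comm] at h1
    exact h1.symm
  have hZtop : center ↥Q ≠ ⊤ := by
    intro h
    apply hZmne
    rw [hZm, h, ← MonoidHom.range_eq_map, Subgroup.range_subtype]
  -- first use of irreducibility: nondegeneracy
  have hnondeg : ∀ g : ↥Q, g ∉ center ↥Q → ∃ h : ↥Q, resRep ρ Q (g * h * g⁻¹ * h⁻¹) ≠ 1 := by
    let U1 : Subgroup G :=
      Q ⊓ (centralizer ((Q.map ρ.asGroupHom : Subgroup (V →ₗ[ℂ] V)ˣ) : Set (V →ₗ[ℂ] V)ˣ)).comap
        ρ.asGroupHom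
    have hU1mem : ∀ g : G, g ∈ U1 ↔ g ∈ Q ∧ ∀ h ∈ Q, ρ h * ρ g = ρ g * ρ h := by
      intro g
      show g ∈ Q ⊓ _ ↔ _
      rw [mem_inf, mem_comap, mem_centralizer_iff]
      constructor
      · rintro ⟨hg, hc⟩
        refine ⟨hg, fun h hh => ?_⟩
        have := hc (ρ.asGroupHom h) (mem_map_of_mem _ hh)
        have h2 := congrArg Units.val this
        simpa [Units.val_mul, Representation.asGroupHom_apply] using h2
      · rintro ⟨hg, hc⟩
        refine ⟨hg, ?_⟩
        rintro u ⟨h, hh, rfl⟩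
        apply Units.ext
        simpa [Units.val_mul, Representation.asGroupHom_apply] using hc h hh
    have hU1n : U1.Normal := by
      constructor
      intro g hg t
      rw [hU1mem] at hg ⊢
      refine ⟨hQn.conj_mem g hg.1 t, fun h hh => ?_⟩
      have h1 : t⁻¹ * h * t ∈ Q := by simpa using hQn.conj_mem h hh t⁻¹
      have h2 := hg.2 _ h1
      have e1 : h * (t * g * t⁻¹) = t * ((t⁻¹ * h * t) * g) * t⁻¹ := by group
      have e2 : t * g * t⁻¹ * h = t * (g * (t⁻¹ * h * t)) * t⁻¹ := by group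
      have e3 : ρ ((t⁻¹ * h * t) * g) = ρ (g * (t⁻¹ * h * t)) := by
        rw [map_mul ρ (t⁻¹ * h * t) g, map_mul ρ g (t⁻¹ * h * t), h2]
      rw [← map_mul, ← map_mul, e1, e2, rho_conj, rho_conj, e3]
    have hZU1 : (frattini ↥Q).map Q.subtype ≤ U1 := by
      rw [hΦ]
      intro z hz
      rw [hU1mem]
      rw [Cfsg.Agent.S3736.mem_map_center_iff] at hz
      refine ⟨hz.1, fun h hh => ?_⟩
      rw [← map_mul, ← map_mul, hz.2 h hh]
    rcases hirr U1 hZU1 inf_le_left (by rw [normalizer_eq_top]; exact le_top) with h | h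
    · intro g hg
      have hgU : (g : G) ∉ U1 := by
        rw [h, hΦ]
        intro hmem
        obtain ⟨z, hz, hzg⟩ := hmem
        have : z = g := Subtype.ext hzg
        rw [this] at hz
        exact hg hz
      rw [hU1mem] at hgU
      push Not at hgU
      obtain ⟨h', hh', hcne⟩ := hgU g.2
      refine ⟨⟨h', hh'⟩, fun h1 => hcne ?_⟩
      have h2 : ρ ((g : G) * h' * (g : G)⁻¹ * h'⁻¹) = 1 := h1
      have e : (g : G) * h' = ((g : G) * h' * (g : G)⁻¹ * h'⁻¹) * (h' * (g : G)) := by group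
      have h3 : ρ ((g : G) * h') = ρ (h' * (g : G)) := by
        rw [e, map_mul, h2, one_mul]
      rw [map_mul, map_mul] at h3
      exact h3.symm
    · exfalso
      apply hstar
      intro g hg k hk
      have : g ∈ U1 := by rw [h]; exact hg
      exact (((hU1mem g).mp this).2 k hk).symm
  -- second use: fixed-point-freeness
  let σ : MulAut ↥Q := MulAut.conjNormal x
  have hσval : ∀ k : ↥Q, ((σ k : ↥Q) : G) = x * k * x⁻¹ := fun k => MulAut.conjNormal_apply x k
  have hfpf : ∀ k : ↥Q, σ k * k⁻¹ ∈ center ↥Q → k ∈ center ↥Q := by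
    set π := QuotientGroup.mk' Zm with hπ
    let U2 : Subgroup G := Q ⊓ (centralizer ({π x} : Set (G ⧸ Zm))).comap π
    have hU2mem : ∀ k : G, k ∈ U2 ↔ k ∈ Q ∧ x * k * x⁻¹ * k⁻¹ ∈ Zm := by
      intro k
      show k ∈ Q ⊓ _ ↔ _
      rw [mem_inf, mem_comap, mem_centralizer_iff]
      have hiff : (∀ h ∈ ({π x} : Set (G ⧸ Zm)), h * π k = π k * h) ↔ x * k * x⁻¹ * k⁻¹ ∈ Zm := by
        rw [← QuotientGroup.eq_one_iff, ← commutatorElement_def]
        constructor
        · intro hc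
          have h1 := hc (π x) rfl
          have h2 : (↑(⁅x, k⁆) : G ⧸ Zm) = ⁅π x, π k⁆ := map_commutatorElement π x k
          rw [h2, commutatorElement_eq_one_iff_mul_comm]
          exact h1
        · intro h1 h hh
          rw [Set.mem_singleton_iff] at hh
          rw [hh]
          have h2 : (↑(⁅x, k⁆) : G ⧸ Zm) = ⁅π x, π k⁆ := map_commutatorElement π x k
          rw [h2, commutatorElement_eq_one_iff_mul_comm] at h1
          exact h1
      rw [hiff]
    have hxU2 : zpowers x ≤ normalizer (U2 : Set G) := by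
      rw [zpowers_le, mem_normalizer_iff]
      intro g
      rw [hU2mem, hU2mem]
      have hQg : g ∈ Q ↔ x * g * x⁻¹ ∈ Q := by
        constructor
        · intro h; exact hQn.conj_mem g h x
        · intro h
          have := hQn.conj_mem _ h x⁻¹
          simpa [mul_assoc] using this
      have e : x * (x * g * x⁻¹) * x⁻¹ * (x * g * x⁻¹)⁻¹ = x * (x * g * x⁻¹ * g⁻¹) * x⁻¹ := by group
      have hZg : x * g * x⁻¹ * g⁻¹ ∈ Zm ↔ x * (x * g * x⁻¹ * g⁻¹) * x⁻¹ ∈ Zm := by
        constructor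
        · intro h; exact hZmn.conj_mem _ h x
        · intro h
          have := hZmn.conj_mem _ h x⁻¹
          simpa [mul_assoc] using this
      rw [e, ← hQg, ← hZg]
    have hZU2 : (frattini ↥Q).map Q.subtype ≤ U2 := by
      rw [hΦ]
      intro z hz
      rw [hU2mem]
      refine ⟨hZmQ hz, ?_⟩
      rw [hxZm z hz, mul_inv_cancel_right, mul_inv_cancel]
      exact one_mem _
    rcases hirr U2 hZU2 inf_le_left hxU2 with h | h
    · intro k hk
      have hkU : (k : G) ∈ U2 := by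
        rw [hU2mem]
        refine ⟨k.2, ?_⟩
        refine ⟨σ k * k⁻¹, hk, ?_⟩
        simp [hσval]
      rw [h, hΦ] at hkU
      obtain ⟨z, hz, hzk⟩ := hkU
      have : z = k := Subtype.ext hzk
      rw [← this]
      exact hz
    · exfalso
      apply hZmne
      apply le_antisymm hZmQ
      rw [← hcomm, commutator_le]
      intro k hk y hy
      obtain ⟨i, rfl⟩ := mem_zpowers_iff.mp hy
      have hkU : k ∈ U2 := by rw [h]; exact hk
      have h1 := ((hU2mem k).mp hkU).2
      rw [← QuotientGroup.eq_one_iff, ← commutatorElement_def] at h1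
      have h2 : (↑(⁅x, k⁆) : G ⧸ Zm) = ⁅π x, π k⁆ := map_commutatorElement π x k
      rw [h2, commutatorElement_eq_one_iff_mul_comm] at h1
      have hc : Commute (π k) (π x) := h1.symm
      have hc' : Commute (π k) (π (x ^ i)) := by
        rw [map_zpow]
        exact hc.zpow_right i
      rw [← QuotientGroup.eq_one_iff]
      have h3 : (↑(⁅k, x ^ i⁆) : G ⧸ Zm) = ⁅π k, π (x ^ i)⁆ := map_commutatorElement π k (x ^ i)
      rw [h3, commutatorElement_eq_one_iff_mul_comm]
      exact hc'.eq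
  have hσr : σ ^ p = 1 := by
    have h1 : σ ^ p = MulAut.conjNormal (x ^ p) := (map_pow MulAut.conjNormal x p).symm
    rw [h1]
    ext k
    rw [MulAut.conjNormal_apply, MulAut.one_apply]
    have := (mem_center_iff.mp hxp) (k : G)
    rw [← this, mul_inv_cancel_right]
  have hσZ : ∀ z ∈ center ↥Q, σ z = z := by
    intro z hz
    apply Subtype.ext
    rw [hσval]
    have hzm : (z : G) ∈ Zm := ⟨z, hz, rfl⟩
    rw [hxZm _ hzm, mul_inv_cancel_right]
  have hheis : Heis (resRep ρ Q) (center ↥Q) :=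
    { irr := fun W hW => irr_submodule (resRep ρ Q) W hW
      central := le_rfl
      comm := by
        intro g h
        rw [← hsp.2.2, ← commutatorElement_def, _root_.commutator_def]
        exact commutator_mem_commutator (mem_top g) (mem_top h)
      nondeg := hnondeg
      card_ne := by
        have : 0 < Nat.card ↥Q := Nat.card_pos
        exact_mod_cast this.ne' }
  -- the twisting operator
  obtain ⟨c, hc⟩ := Cfsg.Agent.Helper23.exists_scalar_of_mem_center ρ (x ^ p) hxp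
  have hc0 : c ≠ 0 := by
    intro h0
    have := rho_ne_zero ρ (x ^ p)
    rw [hc, h0, zero_smul] at this
    exact this rfl
  obtain ⟨l, hl⟩ := IsAlgClosed.exists_pow_nat_eq c hp.out.pos
  have hl0 : l ≠ 0 := by
    rintro rfl
    rw [zero_pow hp.out.ne_zero] at hl
    exact hc0 hl.symm
  let T : Module.End ℂ V := l⁻¹ • ρ x
  have hT : ∀ g : ↥Q, T * resRep ρ Q g = resRep ρ Q (σ g) * T := by
    intro g
    show (l⁻¹ • ρ x) * ρ (g : G) = ρ ((σ g : ↥Q) : G) * (l⁻¹ • ρ x)
    rw [hσval, smul_mul_assoc, mul_smul_comm, ← map_mul, ← map_mul]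
    congr 2
    group
  have hTr : T ^ p = 1 := by
    show (l⁻¹ • ρ x) ^ p = 1
    rw [smul_pow, ← map_pow, hc, inv_pow, hl, ← Module.End.one_eq_id, smul_smul, inv_mul_cancel₀ hc0,
      one_smul]
  have hmain := heis_prime_eq hheis hZtop σ p hp.out hσr hσZ hfpf T hT hTr hlt
  have hsq := hheis.finrank_sq
  refine ⟨hmain, ?_, ?_⟩
  · intro h1
    rw [h1, one_pow] at hsq
    exact hZtop (Subgroup.index_eq_one.mp hsq.symm)
  · obtain ⟨a, ha⟩ := IsPGroup.iff_card.mp hQ
    have hdvd : (center ↥Q).index ∣ q ^ a := by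
      rw [← ha]; exact Subgroup.index_dvd_card _
    obtain ⟨b, _, hb⟩ := (Nat.dvd_prime_pow hq.out).mp hdvd
    exact ⟨b, by rw [hsq, hb]⟩

end core

end Cfsg.Agent.Helper5.Ito
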