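import Mathlib
import Cfsg.Agent.Helper5.ItoB
import Cfsg.Agent.Helper24.DegreeRatio
import Cfsg.Agent.Helper24.CoprimeDegCount
import Cfsg.Agent.Helper24.DetChar
import Cfsg.Agent.Helper24.SylowInduced
import Cfsg.Agent.Helper24.MinNormalLinear
import Cfsg.Agent.Helper24.Restrict

set_option autoImplicit false

namespace Cfsg.Agent.Helper5.Ito

open Subgroup Module Cfsg Cfsg.Agent.Helper24
open scoped commutatorElement

universe u

theorem minimal_conclusion {G : Type u} [Group G] [Finite G] (p q : ℕ) [hp : Fact p.Prime]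
    [hq : Fact q.Prime]
    (Q : Subgroup G) [hQn : Q.Normal] (hQ : IsPGroup q Q) (x : G) (hxpel : PEl p x)
    (hgen : Q ⊔ zpowers x = ⊤) (hxp : x ^ p ∈ center G) (hxc : x ∉ centralizer (Q : Set G))
    (hcomm : ⁅Q, zpowers x⁆ = Q) (hstr : Cfsg.IsElementaryAbelian q Q ∨ Cfsg.IsSpecial q ↥Q)
    (hmin : ∀ U : Subgroup G, U < Q → zpowers x ≤ normalizer (U : Set G) → ⁅U, zpowers x⁆ = ⊥)
    (hirr : ∀ U : Subgroup G, (frattini ↥Q).map Q.subtype ≤ U → U ≤ Q →
        zpowers x ≤ normalizer (U : Set G) → U = (frattini ↥Q).map Q.subtype ∨ U = Q)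
    (χ : G → ℂ) (hχ : IsCharacter G χ) (hfaith : ∀ g : G, χ g = χ 1 → g = 1) (n : ℕ)
    (hn : χ 1 = n) (hnp : n + 1 ≤ p) :
    n + 1 = p ∧ (∃ k : ℕ, n = 2 ^ k) ∧ IsIrrCharacter G χ := by
  classical
  have : Fintype G := Fintype.ofFinite G
  have : Fintype (IrrCharacter G) := Fintype.ofFinite _
  have : Fintype ↥Q := Fintype.ofFinite _
  have : Fintype (IrrCharacter ↥Q) := Fintype.ofFinite _
  obtain ⟨k0, hk0, hk0x⟩ : ∃ k0 ∈ Q, k0 * x ≠ x * k0 := by
    by_contra hcon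
    push Not at hcon
    apply hxc
    rw [mem_centralizer_iff]
    intro k hk
    exact hcon k hk
  have hc0 : x * k0 * x⁻¹ * k0⁻¹ ≠ 1 := by
    intro h
    apply hk0x
    have e : x * k0 = (x * k0 * x⁻¹ * k0⁻¹) * (k0 * x) := by group
    rw [e, h, one_mul]
  have hχc0 : χ (x * k0 * x⁻¹ * k0⁻¹) ≠ χ 1 := fun h => hc0 (hfaith _ h)
  obtain ⟨a, ha⟩ := IsCharacter.exists_nat_coeff hχ
  obtain ⟨ψ, hψa, hψc0⟩ : ∃ ψ : IrrCharacter G, a ψ ≠ 0 ∧
      (ψ : G → ℂ) (x * k0 * x⁻¹ * k0⁻¹) ≠ (ψ : G → ℂ) 1 := by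
    by_contra hcon
    push Not at hcon
    apply hχc0
    rw [ha]
    simp only [Finset.sum_apply, Pi.smul_apply, smul_eq_mul]
    refine Finset.sum_congr rfl fun ψ _ => ?_
    by_cases h : a ψ = 0
    · simp [h]
    · rw [hcon ψ h]
  have hψinner : classInner χ (ψ : G → ℂ) ≠ 0 := by
    have h1 := classInner_sum_irr (fun ψ => (a ψ : ℂ)) ψ
    rw [← ha] at h1
    rw [h1]
    exact_mod_cast hψa
  have hdeg : irrDeg ψ ≤ n := irrDeg_le_of_constituent hχ ψ hψinner n hn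
  obtain ⟨d, ρ, hρirr, hρchar⟩ := ψ.2
  have hd : d = irrDeg ψ := by
    have h1 : (ψ : G → ℂ) 1 = (d : ℂ) := by
      rw [← hρchar, Representation.char_one]
      simp
    rw [irrDeg_spec] at h1
    exact_mod_cast h1.symm
  have hfin : finrank ℂ (Fin d → ℂ) = d := by simp
  -- restriction to Q
  have hψQc : IsCharacter ↥Q (fun k : ↥Q => (ψ : G → ℂ) k) :=
    Cfsg.Agent.Helper8.isCharacter_restrict Q (IsIrrCharacter.isCharacter ψ.2)
  have hψQ0 : (fun k : ↥Q => (ψ : G → ℂ) k) ≠ 0 := by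
    intro h
    have h1 := congrFun h 1
    simp only [OneMemClass.coe_one, Pi.zero_apply] at h1
    rw [irrDeg_spec] at h1
    have := irrDeg_pos ψ
    have h2 : irrDeg ψ = 0 := by exact_mod_cast h1
    omega
  obtain ⟨θ, hθ⟩ := IsCharacter.exists_irr_constituent hψQc hψQ0
  obtain ⟨e, he, hedvd⟩ := degree_ratio_dvd_index Q ψ ψ.2 θ θ.2 hθ
  have he' : irrDeg ψ = e * irrDeg θ := by
    rw [irrDeg_spec, irrDeg_spec] at he
    exact_mod_cast he
  -- index of Q is a power of p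
  obtain ⟨j, hj⟩ := hxpel
  have hidx : Q.index ∣ p ^ j := by
    have h1 : Q.index = Q.relIndex (zpowers x) := by
      rw [← relIndex_top_right, ← hgen, relIndex_sup_left]
    rw [h1]
    refine (relIndex_dvd_card Q (zpowers x)).trans ?_
    rw [Nat.card_zpowers]
    exact orderOf_dvd_of_pow_eq_one hj
  have he1 : e = 1 := by
    obtain ⟨i, _, hi⟩ := (Nat.dvd_prime_pow hp.out).mp (hedvd.trans hidx)
    rcases Nat.eq_zero_or_pos i with h0 | hpos
    · rw [hi, h0, pow_zero]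
    · exfalso
      have h1 : p ≤ e := by
        rw [hi]
        calc p = p ^ 1 := (pow_one p).symm
          _ ≤ p ^ i := Nat.pow_le_pow_right hp.out.pos hpos
      have h2 : e ≤ irrDeg ψ := by
        rw [he']
        exact Nat.le_mul_of_pos_right e (irrDeg_pos θ)
      omega
  have hψQ : (fun k : ↥Q => (ψ : G → ℂ) k) = (θ : ↥Q → ℂ) :=
    restrict_eq_of_degree_eq Q ψ θ hθ (by rw [he, he1]; simp)
  have hρirr' : ρ.IsIrreducible := hρirr
  have hρQirr : (resRep ρ Q).IsIrreducible := by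
    apply isIrreducible_of_isIrrCharacter
    have h1 : (resRep ρ Q).character = fun k : ↥Q => (ψ : G → ℂ) k := by
      ext k
      rw [← hρchar]
      rfl
    rw [h1, hψQ]
    exact θ.2
  have hne : ρ (x * k0 * x⁻¹ * k0⁻¹) ≠ 1 := by
    intro h
    apply hψc0
    rw [← hρchar]
    have h5 : ρ (x * k0 * x⁻¹ * k0⁻¹) = ρ 1 := by rw [h, map_one]
    show LinearMap.trace ℂ _ (ρ (x * k0 * x⁻¹ * k0⁻¹)) = LinearMap.trace ℂ _ (ρ 1)
    rw [h5]
  have hlt : finrank ℂ (Fin d → ℂ) < p := by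
    rw [hfin, hd]; omega
  obtain ⟨h1, h2, b, h3⟩ := core p q Q hQ x hxp hcomm hstr hmin hirr ρ k0 hk0 hne hlt
  rw [hfin] at h1 h2 h3
  have hdn : d = n := by omega
  subst hdn
  refine ⟨h1.symm, pow_two_of_sq d p q b hp.out hq.out h1.symm h3 h2, ?_⟩
  have h4 : χ = (ψ : G → ℂ) := by
    apply IsCharacter.eq_irr_of_constituent_of_deg hχ ψ hψinner
    rw [hn, irrDeg_spec, ← hd]
  rw [h4]
  exact ψ.2

end Cfsg.Agent.Helper5.Ito
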