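import Mathlib
import Cfsg.Agent.Helper5.ItoC
import Cfsg.Agent.Helper21.PSolv
import Cfsg.Agent.Helper24.CharBasic
import Cfsg.Agent.Helper24.SmallDegree

set_option autoImplicit false

namespace Cfsg.Agent.Helper5.Ito

open Subgroup Module Cfsg Cfsg.Agent.Helper24

universe u

theorem pEl_coe_iff {G : Type*} [Group G] (p : ℕ) (H : Subgroup G) (h : ↥H) :
    PEl p h ↔ PEl p (h : G) := by
  constructor
  · rintro ⟨k, hk⟩
    exact ⟨k, by simpa using congrArg Subtype.val hk⟩
  · rintro ⟨k, hk⟩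
    exact ⟨k, Subtype.ext (by simpa using hk)⟩

theorem pCl_map_iff {G : Type*} [Group G] (p : ℕ) (H : Subgroup G) (H' : Subgroup ↥H) :
    PCl p H' ↔ PCl p (H'.map H.subtype) := by
  constructor
  · intro h x hx y hy hxp hyp
    obtain ⟨x', hx', rfl⟩ := hx
    obtain ⟨y', hy', rfl⟩ := hy
    have := h x' hx' y' hy' ((pEl_coe_iff p H x').mpr hxp) ((pEl_coe_iff p H y').mpr hyp)
    exact (pEl_coe_iff p H (x' * y')).mp this
  · intro h x hx y hy hxp hyp
    have := h x (mem_map_of_mem _ hx) y (mem_map_of_mem _ hy) ((pEl_coe_iff p H x).mp hxp)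
      ((pEl_coe_iff p H y).mp hyp)
    exact (pEl_coe_iff p H (x * y)).mpr this

/-- **Ito's theorem** for `p`-solvable groups with a faithful character of degree `≤ p - 1`. -/
theorem ito_char {G : Type u} [Group G] [Finite G] (p : ℕ) [hp : Fact p.Prime]
    (hsolv : Cfsg.IsPSolvable p G) (χ : G → ℂ) (hχ : IsCharacter G χ)
    (hfaith : ∀ g : G, χ g = χ 1 → g = 1) (n : ℕ) (hn : χ 1 = n) (hnp : n + 1 ≤ p)
    (P : Sylow p G) (hP : ¬ (P : Subgroup G).Normal) :
    n + 1 = p ∧ (∃ k : ℕ, n = 2 ^ k) ∧ IsIrrCharacter G χ := by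
  classical
  have : Fintype G := Fintype.ofFinite G
  have hnc : ¬ PCl p (⊤ : Subgroup G) := fun h => hP (sylow_normal_of_pCl h P)
  obtain ⟨H, hH, hHmin⟩ := (wellFounded_lt (α := Subgroup G)).has_min {H | ¬ PCl p H} ⟨⊤, hnc⟩
  have hHmin' : ∀ H' : Subgroup G, H' < H → PCl p H' := by
    intro H' hlt
    by_contra hcon
    exact hHmin H' hcon hlt
  -- the group ↥H
  have : Fintype ↥H := Fintype.ofFinite _
  have hsolvH : Cfsg.IsPSolvable p ↥H := Cfsg.Agent.Helper21.PSolv.isPSolvable_subgroup hp.out hsolv H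
  have hχH : IsCharacter ↥H (fun h : ↥H => χ h) := Cfsg.Agent.Helper8.isCharacter_restrict H hχ
  have hfaithH : ∀ g : ↥H, (fun h : ↥H => χ h) g = (fun h : ↥H => χ h) 1 → g = 1 := by
    intro g hg
    apply Subtype.ext
    exact hfaith g hg
  have hnH : (fun h : ↥H => χ h) 1 = n := hn
  have hncH : ¬ PCl p (⊤ : Subgroup ↥H) := by
    intro h
    apply hH
    have := (pCl_map_iff p H ⊤).mp h
    rwa [← MonoidHom.range_eq_map, Subgroup.range_subtype] at this
  have hminH : ∀ H' : Subgroup ↥H, H' ≠ ⊤ → PCl p H' := by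
    intro H' hne
    rw [pCl_map_iff]
    apply hHmin'
    refine lt_of_le_of_ne (map_subtype_le H') ?_
    intro heq
    apply hne
    rw [eq_top_iff]
    intro y _
    have hy : (y : G) ∈ H'.map H.subtype := by rw [heq]; exact y.2
    obtain ⟨z, hz, hzy⟩ := hy
    have : z = y := Subtype.ext hzy
    rwa [← this]
  -- abelian Sylow subgroups
  obtain ⟨m, ρ, hρ⟩ := hχ
  have hm : m = n := by
    have h1 : χ 1 = (m : ℂ) := by
      rw [← hρ, Representation.char_one]; simp
    rw [hn] at h1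
    exact_mod_cast h1.symm
  have hρinj : Function.Injective ρ := by
    intro g g' hgg
    have h1 : ρ (g * g'⁻¹) = LinearMap.id := by
      rw [map_mul, hgg, ← map_mul, mul_inv_cancel, map_one]; rfl
    have h2 := (char_eq_finrank_iff ρ (g * g'⁻¹)).mpr h1
    have h3 : χ (g * g'⁻¹) = χ 1 := by
      rw [← hρ, h2, Representation.char_one]
    have h4 := hfaith _ h3
    exact mul_inv_eq_one.mp h4
  have habH : ∀ P' : Sylow p ↥H, ∀ a ∈ (P' : Subgroup ↥H), ∀ b ∈ (P' : Subgroup ↥H),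
      a * b = b * a := by
    intro P' a ha b hb
    let τ : Representation ℂ ↥(P' : Subgroup ↥H) (Fin m → ℂ) :=
      MonoidHom.comp ρ (MonoidHom.comp H.subtype (P' : Subgroup ↥H).subtype)
    have hτinj : Function.Injective τ := by
      intro u v huv
      have := hρinj huv
      exact Subtype.ext (Subtype.ext this)
    have hdeg : ∀ r : ℕ, r.Prime → r ∣ Nat.card ↥(P' : Subgroup ↥H) → finrank ℂ (Fin m → ℂ) < r := by
      intro r hr hdvd
      obtain ⟨k, hk⟩ := IsPGroup.iff_card.mp P'.isPGroup'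
      rw [hk] at hdvd
      have : r = p := (Nat.prime_dvd_prime_iff_eq hr hp.out).mp (hr.dvd_of_dvd_pow hdvd)
      rw [this]
      simp only [finrank_fintype_fun_eq_card, Fintype.card_fin]
      omega
    have := comm_of_faithful_small_degree τ hτinj hdeg ⟨a, ha⟩ ⟨b, hb⟩
    exact congrArg Subtype.val this
  obtain ⟨q, hq, Q, x, _, hQn, hQ, hxpel, hgen, hxp, hxc, hcomm, hstr, hmin, hirr⟩ :=
    minimal_structure p hsolvH habH hncH hminH
  obtain ⟨h1, h2, h3⟩ := minimal_conclusion p q Q hQ x hxpel hgen hxp hxc hcomm hstr hmin hirr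
    (fun h : ↥H => χ h) hχH hfaithH n hnH hnp
  exact ⟨h1, h2, isIrrCharacter_of_comp_irr H.subtype ⟨m, ρ, hρ⟩ h3⟩

end Cfsg.Agent.Helper5.Ito
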