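import Mathlib
import Cfsg.Prelude.Def_Blocks
import Cfsg.Agent.Helper5.ThirdMain
import Cfsg.Agent.Helper5.BrauerMap2
import Cfsg.Agent.Helper5.DefectOrder
import Cfsg.Agent.Helper5.BlockBasic
import Cfsg.Agent.Helper24.GlaubCyc
import Cfsg.Agent.Helper24.DefectZero
import Cfsg.Agent.Helper24.SmallDegree
import Cfsg.Agent.Helper24.Codegree
import Cfsg.Agent.Helper23.PrincipalBlock

/-!
# Characters vanishing on all elements of order `p` (Knörr): the local computation
-/

set_option autoImplicit false

namespace Cfsg.Agent.Helper5.KV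

open Cfsg Cfsg.Agent.Helper24 Cfsg.Agent.Helper5 Cfsg.Agent.Helper5.Loc Cfsg.Agent.Helper5.CC

/-- Summing a function of the coset over the whole group. -/
theorem sum_comp_mk {H : Type*} [Group H] [Fintype H] (N : Subgroup H) [N.Normal]
    [Fintype (H ⧸ N)] (f : H ⧸ N → ℂ) :
    ∑ x : H, f (QuotientGroup.mk' N x) = (Nat.card N : ℂ) * ∑ y : H ⧸ N, f y := by
  classical
  rw [← Finset.sum_fiberwise (s := Finset.univ) (g := fun x : H => QuotientGroup.mk' N x)
    (f := fun x => f (QuotientGroup.mk' N x)), Finset.mul_sum]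
  refine Finset.sum_congr rfl fun y _ => ?_
  have h1 : ∑ x ∈ Finset.univ.filter (fun x : H => QuotientGroup.mk' N x = y),
      f (QuotientGroup.mk' N x) =
      ∑ x ∈ Finset.univ.filter (fun x : H => QuotientGroup.mk' N x = y), f y := by
    refine Finset.sum_congr rfl fun x hx => ?_
    rw [(Finset.mem_filter.mp hx).2]
  rw [h1, Finset.sum_const, nsmul_eq_mul]
  congr 1
  have h := QuotientGroup.card_preimage_mk N ({y} : Set (H ⧸ N))
  rw [Nat.card_eq_fintype_card (α := (({y} : Set (H ⧸ N)) : Type _))] at h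
  simp only [Fintype.card_unique, mul_one] at h
  rw [← h, ← Fintype.card_subtype, ← Nat.card_eq_fintype_card]
  rfl

/-- **Local computation.** If `z` is a central element of order `p` of `H`, then the sum of an
irreducible character over the elements with `x ^ p = 1`, divided by the degree, lies in the
local ideal. -/
theorem act_omega_li {H : Type*} [Group H] [Fintype H] {p : ℕ} [hp : Fact p.Prime]
    {M : Ideal AlgInt} (hM : IsPModular p M) (z : H) (hz : ∀ d : H, d * z = z * d)
    (hzo : orderOf z = p) (ξ : IrrCharacter H) [DecidablePred fun x : H => x ^ p = 1] :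
    MemLocalIdeal M (act (fun x : H => if x ^ p = 1 then (1 : ℂ) else 0) ξ) := by
  classical
  have hMp := isPrime_of_isPModular hM
  obtain ⟨ω, hω, hξ⟩ := exists_central_scalar ξ z hz
  rw [hzo] at hω
  set c : H → ℂ := fun x => if x ^ p = 1 then 1 else 0 with hc
  have hzp : z ^ p = 1 := by rw [← hzo]; exact pow_orderOf_eq_one z
  have hcz : ∀ x, c (x * z) = c x := by
    intro x
    have hcomm : Commute x z := hz x
    have : (x * z) ^ p = x ^ p := by rw [hcomm.mul_pow, hzp, mul_one]
    simp only [hc, this]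
  by_cases h1 : ω = 1
  · -- `ξ` is trivial on `⟨z⟩`: pass to the quotient
    set N : Subgroup H := Subgroup.zpowers z with hN
    have hNc : ∀ n ∈ N, ∀ g : H, g * n = n * g := by
      intro n hn g
      obtain ⟨k, rfl⟩ := Subgroup.mem_zpowers_iff.mp hn
      exact ((show Commute g z from hz g).zpow_right k)
    have hNp : ∀ n ∈ N, n ^ p = 1 := by
      intro n hn
      obtain ⟨k, rfl⟩ := Subgroup.mem_zpowers_iff.mp hn
      rw [← zpow_natCast, ← zpow_mul, mul_comm, zpow_mul, zpow_natCast, hzp, one_zpow]
    haveI hNn : N.Normal := ⟨fun n hn g => by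
      have := hNc n hn g
      rw [this, mul_inv_cancel_right]
      exact hn⟩
    have hfin : IsOfFinOrder z := isOfFinOrder_of_finite z
    have hker : ∀ n ∈ N, (ξ : H → ℂ) n = (ξ : H → ℂ) 1 := by
      intro n hn
      rw [hN, ← mem_powers_iff_mem_zpowers] at hn
      obtain ⟨j, rfl⟩ := (Submonoid.mem_powers_iff _ _).mp hn
      have := hξ 1 j
      rw [one_mul, h1, one_pow, one_mul] at this
      exact this
    obtain ⟨ψ, hψ⟩ := Cfsg.Agent.Helper23.PB.exists_irr_quotient N ξ hker
    haveI : Fintype (H ⧸ N) := Fintype.ofFinite _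
    set cb : H ⧸ N → ℂ := fun y => if ∃ x : H, x ^ p = 1 ∧ QuotientGroup.mk' N x = y then 1 else 0
      with hcb
    have hccb : ∀ x, c x = cb (QuotientGroup.mk' N x) := by
      intro x
      by_cases hx : x ^ p = 1
      · have : ∃ x' : H, x' ^ p = 1 ∧ QuotientGroup.mk' N x' = QuotientGroup.mk' N x :=
          ⟨x, hx, rfl⟩
        simp only [hc, hcb, if_pos hx, if_pos this]
      · have : ¬ ∃ x' : H, x' ^ p = 1 ∧ QuotientGroup.mk' N x' = QuotientGroup.mk' N x := by
          rintro ⟨x', hx', he⟩
          apply hx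
          have hmem : x'⁻¹ * x ∈ N := QuotientGroup.eq.mp he
          have hxe : x = x' * (x'⁻¹ * x) := by group
          have hcomm : Commute x' (x'⁻¹ * x) := hNc _ hmem x'
          rw [hxe, hcomm.mul_pow, hx', hNp _ hmem, one_mul]
        simp only [hc, hcb, if_neg hx, if_neg this]
    have hcbcf : IsClassFunction (H ⧸ N) cb := by
      intro g h
      have key : ∀ g h : H ⧸ N, (∃ x : H, x ^ p = 1 ∧ QuotientGroup.mk' N x = g) →
          ∃ x : H, x ^ p = 1 ∧ QuotientGroup.mk' N x = h * g * h⁻¹ := by
        rintro g h ⟨x, hx, rfl⟩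
        obtain ⟨v, rfl⟩ := QuotientGroup.mk'_surjective N h
        refine ⟨v * x * v⁻¹, ?_, ?_⟩
        · rw [conj_pow, hx, mul_one, mul_inv_cancel]
        · simp
      have hiff : (∃ x : H, x ^ p = 1 ∧ QuotientGroup.mk' N x = h * g * h⁻¹) ↔
          ∃ x : H, x ^ p = 1 ∧ QuotientGroup.mk' N x = g := by
        constructor
        · intro hh
          have := key (h * g * h⁻¹) h⁻¹ hh
          simpa [mul_assoc] using this
        · exact key g h
      simp only [hcb, hiff]
    have hcbM : ∀ t, MemLocalRing M (cb t) := by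
      intro t
      simp only [hcb]
      split_ifs
      · exact memLocalRing_one hMp
      · exact memLocalRing_zero hMp
    have hlr := act_lr hMp hcbcf hcbM ψ
    have hcard : Nat.card N = p := by rw [hN, Nat.card_zpowers, hzo]
    have hact : act c ξ = (p : ℂ) * act cb ψ := by
      rw [act, act]
      have e1 : ∑ t : H, c t * (ξ : H → ℂ) t =
          ∑ t : H, (fun y => cb y * (ψ : H ⧸ N → ℂ) y) (QuotientGroup.mk' N t) := by
        refine Finset.sum_congr rfl fun t _ => ?_
        show c t * (ξ : H → ℂ) t = cb (QuotientGroup.mk' N t) * (ψ : H ⧸ N → ℂ) (QuotientGroup.mk' N t)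
        rw [hccb t, hψ t]
      rw [e1, sum_comp_mk N (fun y => cb y * (ψ : H ⧸ N → ℂ) y), hcard]
      have e2 : (ψ : H ⧸ N → ℂ) 1 = (ξ : H → ℂ) 1 := by
        rw [← hψ 1]; simp
      rw [e2, mul_div_assoc]
    rw [hact]
    exact li_mul_right hMp ((memLocalIdeal_natCast_iff hM p).mpr dvd_rfl) hlr
  · have hS : ∑ t : H, c t * (ξ : H → ℂ) t = 0 := by
      have e : ∑ t : H, c t * (ξ : H → ℂ) t = ω * ∑ t : H, c t * (ξ : H → ℂ) t := by
        calc ∑ t : H, c t * (ξ : H → ℂ) t
            = ∑ t : H, c (t * z) * (ξ : H → ℂ) (t * z) :=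
              (Fintype.sum_equiv (Equiv.mulRight z) _ _ (fun t => rfl)).symm
          _ = ∑ t : H, ω * (c t * (ξ : H → ℂ) t) := by
              refine Finset.sum_congr rfl fun t _ => ?_
              have := hξ t 1
              rw [pow_one, pow_one] at this
              rw [hcz, this]
              ring
          _ = ω * ∑ t : H, c t * (ξ : H → ℂ) t := by rw [Finset.mul_sum]
      have h2 : (1 - ω) * ∑ t : H, c t * (ξ : H → ℂ) t = 0 := by linear_combination e
      rcases mul_eq_zero.mp h2 with h | h
      · exact absurd (sub_eq_zero.mp h).symm h1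
      · exact h
    rw [act, hS, zero_div]
    exact memLocalIdeal_zero hMp

end Cfsg.Agent.Helper5.KV
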