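import Mathlib
import Cfsg.Prelude.Def_Blocks
import Cfsg.Agent.Helper5.KVa
import Cfsg.Agent.Helper24.Regular

/-!
# Characters vanishing on all elements of order `p` (Knörr): the global argument
-/

set_option autoImplicit false

namespace Cfsg.Agent.Helper5.KV

open Cfsg Cfsg.Agent.Helper24 Cfsg.Agent.Helper5 Cfsg.Agent.Helper5.Loc Cfsg.Agent.Helper5.CC

/-- If `χ` vanishes on all elements of order `p`, then a defect class of its block has a
`p'`-centralizer. -/
theorem not_dvd_card_centralizer {G : Type*} [Group G] [Finite G] {p : ℕ} [hp : Fact p.Prime]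
    {M : Ideal AlgInt} (hM : IsPModular p M) (χ : IrrCharacter G)
    (hvan : ∀ g : G, orderOf g = p → (χ : G → ℂ) g = 0) (g : G)
    (hg : IsDefectClass M (blockOf M (χ : G → ℂ)) g) :
    ¬ p ∣ Nat.card (Subgroup.centralizer ({g} : Set G)) := by
  classical
  haveI : Fintype G := Fintype.ofFinite G
  haveI : Fintype (IrrCharacter G) := Fintype.ofFinite _
  haveI : Fintype (ConjClasses G) := Fintype.ofFinite _
  have hMp := isPrime_of_isPModular hM
  intro hdvd
  obtain ⟨z, hzo⟩ := exists_prime_orderOf_dvd_card' p hdvd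
  have hz'o : orderOf (z : G) = p := by rw [Subgroup.orderOf_coe]; exact hzo
  have hzg : Commute g (z : G) := by
    have := z.2
    rw [Subgroup.mem_centralizer_iff] at this
    exact this g rfl
  set z' : G := (z : G) with hz'
  set P : Subgroup G := Subgroup.zpowers z' with hPdef
  set H : Subgroup G := Subgroup.centralizer (P : Set G) with hHdef
  haveI : Fintype H := Fintype.ofFinite _
  haveI : Fintype (IrrCharacter H) := Fintype.ofFinite _
  have hP : IsPGroup p P := IsPGroup.of_card (n := 1) (by rw [Nat.card_zpowers, hz'o, pow_one])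
  have hPH : P ≤ H := by
    intro x hx
    rw [hHdef, Subgroup.mem_centralizer_iff]
    intro y hy
    obtain ⟨k, rfl⟩ := Subgroup.mem_zpowers_iff.mp hx
    obtain ⟨l, rfl⟩ := Subgroup.mem_zpowers_iff.mp hy
    exact ((Commute.refl z').zpow_zpow l k)
  have hCH : Subgroup.centralizer (P : Set G) ≤ H := le_rfl
  have hHN : H ≤ Subgroup.normalizer (P : Set G) := Subgroup.centralizer_le_normalizer _
  have hgH : g ∈ H := by
    rw [hHdef, Subgroup.mem_centralizer_iff]
    intro y hy
    obtain ⟨l, rfl⟩ := Subgroup.mem_zpowers_iff.mp hy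
    exact (hzg.zpow_right l).symm
  obtain ⟨ξ, hind, -⟩ := exists_block_induced_of_coeff hM P H hP hPH hCH hHN
    (blockOf M (χ : G → ℂ)) (isPBlock_blockOf χ) ⟨g, hgH⟩ hgH hg.2.1
  set a : G → ℂ := fun x => if x ^ p = 1 then 1 else 0 with ha_def
  have ha : IsClassFunction G a := by
    intro x h
    have : (h * x * h⁻¹) ^ p = 1 ↔ x ^ p = 1 := by
      rw [conj_pow]
      constructor
      · intro hh
        have := congrArg (fun y => h⁻¹ * y * h) hh
        simpa [mul_assoc] using this
      · intro hh
        rw [hh, mul_one, mul_inv_cancel]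
    simp only [ha_def, this]
  have haM : ∀ t, MemLocalRing M (a t) := by
    intro t
    simp only [ha_def]
    split_ifs
    · exact memLocalRing_one hMp
    · exact memLocalRing_zero hMp
  have h3 := act_restrict_sub_act hMp H hind ha haM ξ (mem_blockOf_self hMp ξ) χ
    (mem_blockOf_self hMp χ)
  have hzH : z' ∈ H := hPH (Subgroup.mem_zpowers z')
  have hA : MemLocalIdeal M (act (fun k : H => a (k : G)) ξ) := by
    have hcen : ∀ d : H, d * (⟨z', hzH⟩ : H) = ⟨z', hzH⟩ * d := by
      intro d
      apply Subtype.ext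
      have := Subgroup.mem_centralizer_iff.mp d.2
      exact (this z' (Subgroup.mem_zpowers z')).symm
    have hord : orderOf (⟨z', hzH⟩ : H) = p := by
      rw [← hz'o, ← Subgroup.orderOf_coe]
    have := act_omega_li hM (⟨z', hzH⟩ : H) hcen hord ξ
    have hfun : (fun k : H => a (k : G)) = fun x : H => if x ^ p = 1 then (1 : ℂ) else 0 := by
      funext k
      have : (k : G) ^ p = 1 ↔ k ^ p = 1 := by
        rw [← Subgroup.coe_pow, OneMemClass.coe_eq_one]
      simp only [ha_def, this]
    rw [hfun]
    exact this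
  have h1 : act a χ = 1 := by
    rw [act]
    have hs : ∑ t : G, a t * (χ : G → ℂ) t = (χ : G → ℂ) 1 := by
      rw [Finset.sum_eq_single (1 : G)]
      · simp [ha_def]
      · intro t _ ht
        by_cases htp : t ^ p = 1
        · rw [hvan t (orderOf_eq_prime htp ht), mul_zero]
        · simp [ha_def, htp]
      · intro h; exact absurd (Finset.mem_univ _) h
    rw [hs, div_self (irr_one_ne_zero χ)]
  rw [h1] at h3
  have := li_sub hMp hA h3
  rw [sub_sub_cancel] at this
  exact not_memLocalIdeal_one hMp this

end Cfsg.Agent.Helper5.KV
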