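import Cfsg.Agent.Helper22.Frames

set_option autoImplicit false

/-!
# S0406 piece Q0a: a frame of 24 orthogonal norm-8 vectors from a class of 48
-/

namespace Cfsg.Agent.Helper5.LCh

open Cfsg Matrix

/-- sign predicate: the vector is positive in the lexicographic order -/
def lexPos (y : Fin 24 → ℤ) : Prop := 0 < toLex y

theorem lexPos_neg_iff {y : Fin 24 → ℤ} (hy : y ≠ 0) : lexPos (-y) ↔ ¬ lexPos y := by
  unfold lexPos
  have h1 : toLex (-y) = - toLex y := rfl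
  rw [h1, neg_pos]
  constructor
  · intro h; exact not_lt.2 h.le
  · intro h
    refine lt_of_le_of_ne (not_lt.1 h) ?_
    intro h0
    apply hy
    have : toLex y = toLex 0 := h0
    exact toLex.injective this

theorem exists_frame (B : Matrix (Fin 24) (Fin 24) ℤ) (hsymm : B.IsSymm)
    (hpos : ∀ x : Fin 24 → ℤ, x ≠ 0 → 0 < x ⬝ᵥ (B *ᵥ x))
    (heven : ∀ x : Fin 24 → ℤ, (2 : ℤ) ∣ x ⬝ᵥ (B *ᵥ x)) (h2 : ∀ x : Fin 24 → ℤ, x ⬝ᵥ (B *ᵥ x) ≠ 2)
    (x₀ : Fin 24 → ℤ) (_hx₀ : x₀ ⬝ᵥ (B *ᵥ x₀) = 8)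
    (h48 : {y : Fin 24 → ℤ | y ⬝ᵥ (B *ᵥ y) = 8 ∧ ∀ i, (2 : ℤ) ∣ (x₀ - y) i}.ncard = 48) :
    ∃ e : Fin 24 → (Fin 24 → ℤ), (∀ i, e i ⬝ᵥ (B *ᵥ e i) = 8) ∧
      (∀ i j, i ≠ j → e i ⬝ᵥ (B *ᵥ e j) = 0) ∧ ∀ i j k, (2 : ℤ) ∣ (e i - e j) k := by
  classical
  have hb : ∀ u v : Fin 24 → ℤ, Matrix.toBilin' B u v = u ⬝ᵥ (B *ᵥ v) := Matrix.toBilin'_apply' B
  have hsym : ∀ u v : Fin 24 → ℤ, Matrix.toBilin' B u v = Matrix.toBilin' B v u := by
    intro u v
    rw [hb, hb, Matrix.dotProduct_mulVec, ← Matrix.mulVec_transpose, hsymm.eq, dotProduct_comm]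
  have hmin : ∀ u ∈ (⊤ : AddSubgroup (Fin 24 → ℤ)), u ≠ 0 → 4 * 1 ≤ Matrix.toBilin' B u u := by
    intro u _ hu
    rw [hb]
    have h1 := hpos u hu
    obtain ⟨k, hk⟩ := heven u
    have h3 := h2 u
    omega
  set F : Set (Fin 24 → ℤ) := {y | y ⬝ᵥ (B *ᵥ y) = 8 ∧ ∀ i, (2 : ℤ) ∣ (x₀ - y) i} with hF
  have hfin : F.Finite := Set.finite_of_ncard_ne_zero (by rw [h48]; norm_num)
  have hnegnorm : ∀ y : Fin 24 → ℤ, (-y) ⬝ᵥ (B *ᵥ (-y)) = y ⬝ᵥ (B *ᵥ y) := by
    intro y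
    rw [Matrix.mulVec_neg, neg_dotProduct_neg]
  have hnegF : ∀ y ∈ F, -y ∈ F := by
    intro y hy
    refine ⟨by rw [hnegnorm]; exact hy.1, fun i => ?_⟩
    have := hy.2 i
    simp only [Pi.sub_apply, Pi.neg_apply] at this ⊢
    omega
  have hne0 : ∀ y ∈ F, y ≠ 0 := by
    rintro y hy rfl
    have := hy.1
    simp at this
  set Ff : Finset (Fin 24 → ℤ) := hfin.toFinset with hFf
  have hFfcard : Ff.card = 48 := by
    rw [← h48, Set.ncard_eq_toFinset_card F hfin]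
  have hmemFf : ∀ y, y ∈ Ff ↔ y ∈ F := fun y => hfin.mem_toFinset
  set P : Finset (Fin 24 → ℤ) := Ff.filter lexPos with hP
  set N : Finset (Fin 24 → ℤ) := Ff.filter (fun y => ¬ lexPos y) with hN
  have hPN : P.card + N.card = 48 := by
    rw [← hFfcard]
    exact Finset.card_filter_add_card_filter_not lexPos
  have hPNeq : P.card = N.card := by
    refine Finset.card_bij' (fun y _ => -y) (fun y _ => -y) ?_ ?_ ?_ ?_
    · intro y hy
      rw [hP, Finset.mem_filter] at hy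
      rw [hN, Finset.mem_filter]
      have hyF := (hmemFf y).1 hy.1
      refine ⟨(hmemFf _).2 (hnegF y hyF), ?_⟩
      rw [lexPos_neg_iff (hne0 y hyF)]
      exact not_not.2 hy.2
    · intro y hy
      rw [hN, Finset.mem_filter] at hy
      rw [hP, Finset.mem_filter]
      have hyF := (hmemFf y).1 hy.1
      refine ⟨(hmemFf _).2 (hnegF y hyF), ?_⟩
      rw [lexPos_neg_iff (hne0 y hyF)]
      exact hy.2
    · intro y _; exact neg_neg y
    · intro y _; exact neg_neg y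
  have hPcard : P.card = 24 := by omega
  let eq : Fin 24 ≃ P := (Finset.equivFinOfCardEq hPcard).symm
  have hPF : ∀ i, (eq i : Fin 24 → ℤ) ∈ F := by
    intro i
    have := Finset.mem_filter.1 (eq i).2
    exact (hmemFf _).1 this.1
  have hPpos : ∀ i, lexPos (eq i : Fin 24 → ℤ) := by
    intro i
    have := Finset.mem_filter.1 (eq i).2
    exact this.2
  refine ⟨fun i => (eq i : Fin 24 → ℤ), fun i => (hPF i).1, ?_, ?_⟩
  · intro i j hij
    have hcong : ∀ k, (2 : ℤ) ∣ ((eq i : Fin 24 → ℤ) - (eq j : Fin 24 → ℤ)) k := by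
      intro k
      have h1 := (hPF i).2 k
      have h2 := (hPF j).2 k
      simp only [Pi.sub_apply] at h1 h2 ⊢
      omega
    have huv : (eq i : Fin 24 → ℤ) - (eq j : Fin 24 → ℤ)
        = (2 : ℕ) • (fun k => ((eq i : Fin 24 → ℤ) k - (eq j : Fin 24 → ℤ) k) / 2) := by
      funext k
      have := hcong k
      simp only [Pi.sub_apply, Pi.smul_apply, nsmul_eq_mul, Nat.cast_ofNat] at this ⊢
      omega
    have h := Cfsg.Agent.Helper22.Frames.short_congr (Matrix.toBilin' B) hsym hmin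
      (AddSubgroup.mem_top (eq j : Fin 24 → ℤ))
      (AddSubgroup.mem_top (fun k => ((eq i : Fin 24 → ℤ) k - (eq j : Fin 24 → ℤ) k) / 2))
      (by rw [hb, (hPF i).1]; norm_num) (by rw [hb, (hPF j).1]; norm_num) huv
    rcases h with h | h | h
    · exfalso
      apply hij
      exact eq.injective (Subtype.ext h)
    · exfalso
      have h1 := hPpos i
      rw [h, lexPos_neg_iff (hne0 _ (hPF j))] at h1
      exact h1 (hPpos j)
    · rw [← hb]; exact h.2.2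
  · intro i j k
    have h1 := (hPF i).2 k
    have h2 := (hPF j).2 k
    simp only [Pi.sub_apply] at h1 h2 ⊢
    omega

end Cfsg.Agent.Helper5.LCh
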