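import Cfsg.Agent.Helper5.PDDefs
import Cfsg.Agent.Helper29.TwoDegMain
import Cfsg.Agent.Helper3.PDRED
import Cfsg.Agent.Helper5.PDGAL
import Cfsg.Prelude.Def_DegreeGraph

set_option autoImplicit false

/-!
# S4813 piece CNT: at most three character degrees
-/



namespace Cfsg.Agent.Helper5.PD

open Cfsg Cfsg.Agent.Helper24 Cfsg.Agent.Helper29.TwoDeg Cfsg.Agent.Helper3.PD
open scoped commutatorElement

universe u

theorem card_charDegrees_le
    (card_two_primes : ∀ {X : Type u} [Group X] [Finite X], Group.IsSolvable X → PrimeDeg X →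
      (∀ L : Subgroup X, L.Normal → L ≠ ⊥ → commutator X ≤ L) →
      ¬ commutator X ≤ (⊥ : Subgroup X) → (Nat.card X).primeFactors.card ≤ 2)
    {G : Type u} [Group G] [Finite G] (hsol : Group.IsSolvable G)
    (hprime : ∀ d ∈ Cfsg.charDegrees G, d = 1 ∨ d.Prime) : Nat.card ↥(Cfsg.charDegrees G) ≤ 3 := by
  classical
  have hPD : PrimeDeg G := fun χ h1 => (hprime _ ⟨χ, rfl⟩).resolve_left h1
  by_cases hG : commutator G ≤ (⊥ : Subgroup G)
  · -- abelian
    have hcomm : ∀ a b : G, a * b = b * a := by
      intro a b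
      have : ⁅a, b⁆ ∈ commutator G :=
        Subgroup.commutator_mem_commutator (Subgroup.mem_top _) (Subgroup.mem_top _)
      have := hG this
      rw [Subgroup.mem_bot, commutatorElement_eq_one_iff_commute] at this
      exact this
    have hsub : Cfsg.charDegrees G ⊆ ({1} : Set ℕ) := by
      rintro d ⟨χ, rfl⟩
      have h1 := (comm_iff_forall_irr_one (G := G)).mp hcomm χ
      have h2 : irrDeg χ = 1 := (irrDeg_eq_one_iff χ).mpr h1
      rw [Set.mem_singleton_iff, charDegree_irr, h2]
    rw [Nat.card_coe_set_eq]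
    calc (Cfsg.charDegrees G).ncard ≤ ({1} : Set ℕ).ncard := Set.ncard_le_ncard hsub (Set.finite_singleton 1)
      _ = 1 := Set.ncard_singleton 1
      _ ≤ 3 := by norm_num
  · obtain ⟨K, hKn, hKc, hKmax⟩ := exists_max_normal hG
    have hmin := quot_min K hKmax
    have hna := quot_nonabelian K hKc
    have hsolX : Group.IsSolvable (G ⧸ K) := inferInstance
    have h2 := card_two_primes hsolX (primeDeg_quot hPD K) hmin hna
    rw [← Subgroup.index_eq_card] at h2
    have hidx : K.index ≠ 0 := Subgroup.index_ne_zero_of_finite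
    have hsub : Cfsg.charDegrees G ⊆ ((insert 1 K.index.primeFactors : Finset ℕ) : Set ℕ) := by
      rintro d ⟨χ, rfl⟩
      rw [Finset.mem_coe, Finset.mem_insert]
      by_cases h1 : charDegree (χ : G → ℂ) = 1
      · left; exact h1
      · right
        rw [Nat.mem_primeFactors]
        exact ⟨hPD χ h1, degree_dvd_index hPD K hKc χ h1, hidx⟩
    rw [Nat.card_coe_set_eq]
    calc (Cfsg.charDegrees G).ncard ≤ ((insert 1 K.index.primeFactors : Finset ℕ) : Set ℕ).ncard :=
          Set.ncard_le_ncard hsub (Finset.finite_toSet _)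
      _ = (insert 1 K.index.primeFactors : Finset ℕ).card := Set.ncard_coe_finset _
      _ ≤ K.index.primeFactors.card + 1 := Finset.card_insert_le _ _
      _ ≤ 3 := by omega

end Cfsg.Agent.Helper5.PD
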