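import Cfsg.Agent.Helper5.PDDefs
import Cfsg.Agent.Helper5.PDD1APP
import Cfsg.Agent.Helper29.TwoDegMain
import Cfsg.Agent.Helper18.PDDEG2
import Cfsg.Agent.Helper18.PDPERF
import Cfsg.Agent.Helper18.PDSYLB
import Cfsg.Agent.Helper8.PDSYLA

set_option autoImplicit false

/-!
# S4466 piece FIN: a nonabelian simple group has an irreducible character of composite degree
-/



namespace Cfsg.Agent.Helper5.PD

open Cfsg Cfsg.Agent.Helper24 Cfsg.Agent.Helper18.PD Cfsg.Agent.Helper8.PD

universe u

theorem simple_false {G : Type u} [Group G] [Finite G] [IsSimpleGroup G]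
    (hna : ¬ ∀ a b : G, a * b = b * a) (h : PrimeDeg G) : False := by
  classical
  obtain ⟨χ, ψ, hψ1, hψlt, hmax⟩ := exists_two_degrees hna
  set r := charDegree (χ : G → ℂ) with hr
  have hψpos : 0 < charDegree (ψ : G → ℂ) := by
    rw [charDegree_irr]; exact irrDeg_pos ψ
  have hr1 : r ≠ 1 := by omega
  have hrp : r.Prime := h χ hr1
  have : Fact r.Prime := ⟨hrp⟩
  have hψp : (charDegree (ψ : G → ℂ)).Prime := h ψ hψ1
  have hψ2 : charDegree (ψ : G → ℂ) ≠ 2 := no_degree_two hna ψ
  have hψ3 : 3 ≤ charDegree (ψ : G → ℂ) := by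
    have := hψp.two_le
    omega
  have hr4 : 4 ≤ r := by omega
  have hrodd : Odd r := hrp.odd_of_ne_two (by omega)
  have R : Sylow r G := default
  have hab := sylow_comm_of_small_degree hna r ψ hψ1 hψlt R
  obtain ⟨hRcard, hC⟩ := sylow_of_degree_eq hna r χ rfl R hab
  obtain ⟨X, hXcard, hX⟩ := exists_pm_one_degrees r (by omega) R hRcard hC
  -- every element of `X` is the trivial character
  have hXtriv : ∀ φ ∈ X, ∀ g, (φ : G → ℂ) g = 1 := by
    intro φ hφ
    apply eq_one_of_degree_one hna φ
    set d := charDegree (φ : G → ℂ) with hd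
    have hdpos : 0 < d := by
      rw [hd, charDegree_irr]; exact irrDeg_pos φ
    have hdle : d ≤ r := hmax φ
    by_contra hd1
    have hdp : d.Prime := h φ hd1
    have hd2 : d ≠ 2 := no_degree_two hna φ
    rcases hX φ hφ with hc | hc
    · -- `r ∣ d - 1`
      have h1 : (r : ℤ) ∣ (d : ℤ) - 1 := (Int.modEq_iff_dvd.mp hc.symm)
      obtain ⟨k, hk⟩ := h1
      have hk0 : 0 < k := by
        by_contra hk0
        have : k ≤ 0 := by omega
        have : (r : ℤ) * k ≤ 0 := mul_nonpos_of_nonneg_of_nonpos (by positivity) this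
        omega
      have : (r : ℤ) * 1 ≤ (r : ℤ) * k := by
        apply mul_le_mul_of_nonneg_left _ (by positivity)
        omega
      omega
    · -- `r ∣ d + 1`
      have h1 : (r : ℤ) ∣ (d : ℤ) - (-1) := (Int.modEq_iff_dvd.mp hc.symm)
      obtain ⟨k, hk⟩ := h1
      have hk0 : 0 < k := by
        by_contra hk0
        have : k ≤ 0 := by omega
        have : (r : ℤ) * k ≤ 0 := mul_nonpos_of_nonneg_of_nonpos (by positivity) this
        omega
      have hk1 : k < 2 := by
        by_contra hk2
        have : 2 ≤ k := by omega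
        have : (r : ℤ) * 2 ≤ (r : ℤ) * k := by
          apply mul_le_mul_of_nonneg_left _ (by positivity)
          omega
        omega
      have hk' : k = 1 := by omega
      rw [hk', mul_one] at hk
      have hdr : d + 1 = r := by omega
      -- `d = r - 1` is even and at least `3`
      obtain ⟨m, hm⟩ := hrodd
      have hdeven : d = 2 * m := by omega
      have hm2 : 2 ≤ m := by omega
      have : ¬ d.Prime := by
        rw [hdeven]
        exact Nat.not_prime_mul (by norm_num) (by omega)
      exact this hdp
  have hXsub : (X : Set (IrrCharacter G)).Subsingleton := by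
    intro φ hφ φ' hφ'
    apply Subtype.ext
    funext g
    rw [hXtriv φ hφ g, hXtriv φ' hφ' g]
  have hXle : Nat.card X ≤ 1 := by
    have : Subsingleton X := (Set.subsingleton_coe X).mpr hXsub
    exact Finite.card_le_one_iff_subsingleton.mpr this
  have hrel : (R : Subgroup G).relIndex (Subgroup.normalizer ((R : Subgroup G) : Set G)) = 1 := by
    have h0 : (R : Subgroup G).relIndex (Subgroup.normalizer ((R : Subgroup G) : Set G)) ≠ 0 := by
      unfold Subgroup.relIndex
      exact Subgroup.index_ne_zero_of_finite
    omega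
  have hNR : Subgroup.normalizer ((R : Subgroup G) : Set G) ≤ (R : Subgroup G) :=
    Subgroup.relIndex_eq_one.mp hrel
  have hNC : Subgroup.normalizer ((R : Subgroup G) : Set G) ≤
      Subgroup.centralizer ((R : Subgroup G) : Set G) := by
    rw [hC]; exact hNR
  have hcompl := MonoidHom.ker_transferSylow_isComplement' R hNC
  have hcard := hcompl.card_mul_card
  rcases IsSimpleGroup.eq_bot_or_eq_top_of_normal (MonoidHom.transferSylow R hNC).ker inferInstance
    with hk | hk
  · rw [hk, Subgroup.card_bot, one_mul] at hcard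
    have htop : (R : Subgroup G) = ⊤ := Subgroup.eq_top_of_card_eq _ hcard
    apply hna
    intro a b
    exact hab a (by rw [htop]; trivial) b (by rw [htop]; trivial)
  · rw [hk, Subgroup.card_top] at hcard
    have hG : 0 < Nat.card G := Nat.card_pos
    have h1 : Nat.card (R : Subgroup G) = 1 := by
      have := Nat.eq_of_mul_eq_mul_left hG (hcard.trans (mul_one _).symm)
      exact this
    have h2 : Nat.card R = r := hRcard
    have h3 : Nat.card (R : Subgroup G) = r := h2
    omega

end Cfsg.Agent.Helper5.PD
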