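import Mathlib
import Cfsg.Prelude.Def_Blocks
import Cfsg.Prelude.Def_Local
import Cfsg.Agent.Helper5.BlockOrth
import Cfsg.Agent.Helper5.BlockSupport
import Cfsg.Agent.Helper5.ThirdMain
import Cfsg.Agent.Helper5.IndFun
import Cfsg.Agent.Helper5.CharKer
import Cfsg.Agent.Helper8.Ind
import Cfsg.Agent.Helper8.CharComp

set_option autoImplicit false

/-!
# The block component of `(1_P)^G` on `p`-regular elements

For a block `B`, a `p`-regular `x` and a function `w` vanishing on the `p`-regular elements, weak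
block orthogonality gives `∑_{χ ∈ B} χ(x) ⟨w, χ⟩ = 0`.  Applied to `w = (1_P)^G - ρ_G / |P|` this
compares the `B`-component of the permutation character on a Sylow `p`-subgroup with that of the
regular character.
-/

namespace Cfsg.Agent.Helper5.PLB

open Cfsg Cfsg.Agent.Helper24 Cfsg.Agent.Helper5 Cfsg.Agent.Helper5.Loc Cfsg.Agent.Helper5.CC
open scoped ComplexConjugate

variable {G : Type*} [Group G] [Fintype G] {M : Ideal AlgInt}

/-- The block component at a `p`-regular element only sees the `p`-regular values. -/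
theorem sum_block_mul_sum_eq_zero [Fintype (IrrCharacter G)] {p : ℕ} [hp : Fact p.Prime]
    (hM : IsPModular p M) {B : Set (IrrCharacter G)} (hB : IsPBlock M B) [DecidablePred (· ∈ B)]
    (w : G → ℂ) (hw : ∀ y : G, ¬ p ∣ orderOf y → w y = 0) (x : G) (hx : ¬ p ∣ orderOf x) :
    ∑ χ : IrrCharacter G, (if χ ∈ B then (1 : ℂ) else 0) *
      ((χ : G → ℂ) x * ∑ y : G, w y * conj ((χ : G → ℂ) y)) = 0 := by
  have h1 : ∀ χ : IrrCharacter G, (if χ ∈ B then (1 : ℂ) else 0) *
      ((χ : G → ℂ) x * ∑ y : G, w y * conj ((χ : G → ℂ) y)) =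
      ∑ y : G, w y * ((if χ ∈ B then (1 : ℂ) else 0) *
        ((χ : G → ℂ) x * conj ((χ : G → ℂ) y))) := by
    intro χ
    rw [Finset.mul_sum, Finset.mul_sum]
    apply Finset.sum_congr rfl
    intro y _
    ring
  rw [Finset.sum_congr rfl (fun χ _ => h1 χ), Finset.sum_comm]
  apply Finset.sum_eq_zero
  intro y _
  rw [← Finset.mul_sum]
  by_cases hy : p ∣ orderOf y
  · rw [block_orthogonality hM hB x y hx hy, mul_zero]
  · rw [hw y hy, zero_mul]

/-- `(1_P)^G` vanishes at the nontrivial `p`-regular elements. -/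
theorem indFun_one_eq_zero_of_regular {p : ℕ} [hp : Fact p.Prime] (P : Subgroup G)
    (hP : IsPGroup p P) (y : G) (hy : ¬ p ∣ orderOf y) (hy1 : y ≠ 1) :
    indFun P (fun _ : P => (1 : ℂ)) y = 0 := by
  unfold indFun
  rw [Finset.sum_eq_zero, mul_zero]
  intro x _
  apply Cfsg.Agent.Helper8.ebz_not_mem
  intro hmem
  obtain ⟨k, hk⟩ := hP ⟨x⁻¹ * y * x, hmem⟩
  have hk' : (x⁻¹ * y * x) ^ p ^ k = 1 := by
    have := congrArg Subtype.val hk
    simpa using this
  have hord : orderOf (x⁻¹ * y * x) = orderOf y := by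
    have h := MulEquiv.orderOf_eq (MulAut.conj x⁻¹) y
    rw [MulAut.conj_apply, inv_inv] at h
    exact h
  have hdvd : orderOf y ∣ p ^ k := by
    rw [← hord]
    exact orderOf_dvd_of_pow_eq_one hk'
  obtain ⟨j, _, hj⟩ := (Nat.dvd_prime_pow hp.out).mp hdvd
  rcases Nat.eq_zero_or_pos j with h0 | hpos
  · rw [h0, pow_zero] at hj
    exact hy1 (orderOf_eq_one_iff.mp hj)
  · apply hy
    rw [hj]
    exact dvd_pow_self p hpos.ne'

/-- The key identity: for `p`-regular `x`, the `B`-components of `(1_P)^G` and of `ρ_G / |P|`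
agree at `x`. -/
theorem sum_block_mul_sylow_sum [Fintype (IrrCharacter G)] {p : ℕ} [hp : Fact p.Prime]
    (hM : IsPModular p M) {B : Set (IrrCharacter G)} (hB : IsPBlock M B) [DecidablePred (· ∈ B)]
    (P : Subgroup G) [Fintype P] (hP : IsPGroup p P) (x : G) (hx : ¬ p ∣ orderOf x) :
    ∑ χ : IrrCharacter G, (if χ ∈ B then (1 : ℂ) else 0) *
      ((χ : G → ℂ) x * (∑ h : P, conj ((χ : G → ℂ) h) - conj ((χ : G → ℂ) 1))) = 0 := by
  classical
  set w : G → ℂ := fun y => indFun P (fun _ : P => (1 : ℂ)) y -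
    (if y = 1 then (P.index : ℂ) else 0) with hw
  have hw0 : ∀ y : G, ¬ p ∣ orderOf y → w y = 0 := by
    intro y hy
    simp only [hw]
    by_cases hy1 : y = 1
    · subst hy1
      rw [indFun_apply_one, if_pos rfl, mul_one, sub_self]
    · rw [indFun_one_eq_zero_of_regular P hP y hy hy1, if_neg hy1, sub_self]
  have h0 := sum_block_mul_sum_eq_zero hM hB w hw0 x hx
  have hidx : (P.index : ℂ) ≠ 0 := by
    have : 0 < P.index := Nat.pos_of_ne_zero P.index_ne_zero_of_finite
    exact_mod_cast this.ne'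
  have hcard : (Nat.card P : ℂ) ≠ 0 := by exact_mod_cast Nat.card_pos.ne'
  have hG : (Nat.card G : ℂ) ≠ 0 := by exact_mod_cast Nat.card_pos.ne'
  have hmul : (Nat.card G : ℂ) = (Nat.card P : ℂ) * (P.index : ℂ) := by
    rw [← P.card_mul_index]; push_cast; ring
  have h1 : ∀ χ : IrrCharacter G, ∑ y : G, w y * conj ((χ : G → ℂ) y) =
      (P.index : ℂ) * (∑ h : P, conj ((χ : G → ℂ) h) - conj ((χ : G → ℂ) 1)) := by
    intro χ
    have hfr := Cfsg.Agent.Helper8.frobenius_reciprocity P (fun _ : P => (1 : ℂ)) (χ : G → ℂ)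
      (isClassFunction_irr χ)
    unfold classInner at hfr
    have hs1 : ∑ y : G, indFun P (fun _ : P => (1 : ℂ)) y * conj ((χ : G → ℂ) y) =
        (P.index : ℂ) * ∑ h : P, conj ((χ : G → ℂ) h) := by
      have h2 : ∑ y : G, indFun P (fun _ : P => (1 : ℂ)) y * conj ((χ : G → ℂ) y) =
          (Nat.card G : ℂ) * ((Nat.card P : ℂ)⁻¹ * ∑ h : P, (1 : ℂ) * conj ((χ : G → ℂ) h)) := by
        rw [← hfr, ← mul_assoc, mul_inv_cancel₀ hG, one_mul]
      rw [h2, hmul]
      simp only [one_mul]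
      field_simp
    have hs2 : ∑ y : G, (if y = 1 then (P.index : ℂ) else 0) * conj ((χ : G → ℂ) y) =
        (P.index : ℂ) * conj ((χ : G → ℂ) 1) := by
      rw [Finset.sum_eq_single (1 : G)]
      · rw [if_pos rfl]
      · intro y _ hy
        rw [if_neg hy, zero_mul]
      · intro h; exact absurd (Finset.mem_univ _) h
    simp only [hw, sub_mul, Finset.sum_sub_distrib]
    rw [hs1, hs2, mul_sub]
  have h2 : ∑ χ : IrrCharacter G, (if χ ∈ B then (1 : ℂ) else 0) *
      ((χ : G → ℂ) x * ∑ y : G, w y * conj ((χ : G → ℂ) y)) =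
      (P.index : ℂ) * ∑ χ : IrrCharacter G, (if χ ∈ B then (1 : ℂ) else 0) *
      ((χ : G → ℂ) x * (∑ h : P, conj ((χ : G → ℂ) h) - conj ((χ : G → ℂ) 1))) := by
    rw [Finset.mul_sum]
    apply Finset.sum_congr rfl
    intro χ _
    rw [h1 χ]
    ring
  rw [h2] at h0
  exact (mul_eq_zero.mp h0).resolve_left hidx

end Cfsg.Agent.Helper5.PLB
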