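import Mathlib
import Cfsg.Prelude.Def_Blocks
import Cfsg.Prelude.Def_Local
import Cfsg.Agent.Helper5.PLenBlockA
import Cfsg.Agent.Helper29.PPrimeKerA

set_option autoImplicit false

/-!
# Principal block characters restricting irreducibly to a Sylow normalizer

If every character of the principal block restricts irreducibly to `N_G(P)`, then every
`p`-regular element of the normal closure of `P` lies in the kernel of the principal block.
-/

namespace Cfsg.Agent.Helper5.PLB

open Cfsg Cfsg.Agent.Helper24 Cfsg.Agent.Helper5 Cfsg.Agent.Helper5.Loc Cfsg.Agent.Helper5.CC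
open scoped ComplexConjugate

variable {G : Type*} [Group G] [Fintype G] {M : Ideal AlgInt}

/-- Clifford, in the form needed: a function whose restriction to `N_G(P)` is an irreducible
character and whose sum over `P` does not vanish is constant on `P`. -/
theorem const_on_of_sum_ne_zero (P : Subgroup G) [Fintype P] (χ : G → ℂ)
    (hirr : IsIrrCharacter ↥(Subgroup.normalizer (P : Set G))
      (fun n : ↥(Subgroup.normalizer (P : Set G)) => χ n))
    (hsum : ∑ h : P, χ h ≠ 0) : ∀ z ∈ P, χ z = χ 1 := by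
  classical
  intro z hz
  set NP := Subgroup.normalizer (P : Set G) with hNP
  have hle : P ≤ NP := Subgroup.le_normalizer
  haveI : Fintype NP := Fintype.ofFinite _
  haveI : Fintype (P.subgroupOf NP) := Fintype.ofFinite _
  haveI hnorm : (P.subgroupOf NP).Normal := Subgroup.normal_in_normalizer
  let ψ : IrrCharacter NP := ⟨fun n : NP => χ n, hirr⟩
  have h : classInner (fun n : P.subgroupOf NP => (ψ : NP → ℂ) n) (fun _ : P.subgroupOf NP => (1 : ℂ))
      ≠ 0 := by
    unfold classInner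
    have hc : (Nat.card (P.subgroupOf NP) : ℂ)⁻¹ ≠ 0 := by
      apply inv_ne_zero
      exact_mod_cast Nat.card_pos.ne'
    apply mul_ne_zero hc
    have e : ∑ g : P.subgroupOf NP, (ψ : NP → ℂ) g * conj (1 : ℂ) = ∑ h : P, χ h := by
      rw [← Equiv.sum_comp (Subgroup.subgroupOfEquivOfLe hle).toEquiv]
      apply Finset.sum_congr rfl
      intro g _
      rw [map_one, mul_one]
      rfl
    rw [e]
    exact hsum
  have := eq_one_of_trivial_constituent (P.subgroupOf NP) ψ h ⟨z, hle hz⟩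
    (by rw [Subgroup.mem_subgroupOf]; exact hz)
  exact this

/-- The main step. -/
theorem apply_eq_of_mem_normalClosure [Fintype (IrrCharacter G)] {p : ℕ} [hp : Fact p.Prime]
    (hM : IsPModular p M) (P : Subgroup G) (hP : IsPGroup p P)
    (hirr : ∀ χ ∈ principalBlock M G, IsIrrCharacter ↥(Subgroup.normalizer (P : Set G))
      (fun n : ↥(Subgroup.normalizer (P : Set G)) => (χ : G → ℂ) n))
    (x : G) (hxL : x ∈ Subgroup.normalClosure (P : Set G)) (hx : ¬ p ∣ orderOf x)
    (χ : IrrCharacter G) (hχ : χ ∈ principalBlock M G) : (χ : G → ℂ) x = (χ : G → ℂ) 1 := by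
  classical
  haveI : Fintype P := Fintype.ofFinite _
  have hMp := isPrime_of_isPModular hM
  set B := principalBlock M G with hB
  have hBblock : IsPBlock M B := isPBlock_principalBlock
  -- the two instances of the key identity
  have hE := sum_block_mul_sylow_sum hM hBblock P hP x hx
  have hE1 := sum_block_mul_sylow_sum hM hBblock P hP (1 : G) (by rw [orderOf_one]; exact hp.out.not_dvd_one)
  -- `S χ`
  set S : IrrCharacter G → ℂ := fun ψ => ∑ h : P, conj ((ψ : G → ℂ) h) with hS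
  have hSconj : ∀ ψ : IrrCharacter G, S ψ = conj (∑ h : P, (ψ : G → ℂ) h) := by
    intro ψ
    simp only [hS]
    rw [map_sum]
  -- characters with `S ≠ 0` are trivial on the normal closure
  have hker : ∀ ψ ∈ B, S ψ ≠ 0 → ∀ y ∈ Subgroup.normalClosure (P : Set G),
      (ψ : G → ℂ) y = (ψ : G → ℂ) 1 := by
    intro ψ hψ hne y hy
    have hsum : ∑ h : P, (ψ : G → ℂ) h ≠ 0 := by
      intro h0
      apply hne
      rw [hSconj, h0, map_zero]
    have hconst := const_on_of_sum_ne_zero P (ψ : G → ℂ) (hirr ψ hψ) hsum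
    have hle : Subgroup.normalClosure (P : Set G) ≤ charKer ψ := by
      apply Subgroup.normalClosure_le_normal
      intro z hz
      rw [SetLike.mem_coe, mem_charKer]
      exact hconst z hz
    have := hle hy
    rwa [mem_charKer] at this
  have hdeg : ∀ ψ : IrrCharacter G, conj ((ψ : G → ℂ) 1) = (ψ : G → ℂ) 1 := by
    intro ψ
    rw [irrDeg_spec, Complex.conj_natCast]
  -- subtract the two identities
  have hsub : ∑ ψ : IrrCharacter G, (if ψ ∈ B then (1 : ℂ) else 0) *
      (((ψ : G → ℂ) x - (ψ : G → ℂ) 1) * (S ψ - conj ((ψ : G → ℂ) 1))) = 0 := by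
    have : ∀ ψ : IrrCharacter G, (if ψ ∈ B then (1 : ℂ) else 0) *
        (((ψ : G → ℂ) x - (ψ : G → ℂ) 1) * (S ψ - conj ((ψ : G → ℂ) 1))) =
        (if ψ ∈ B then (1 : ℂ) else 0) * ((ψ : G → ℂ) x * (S ψ - conj ((ψ : G → ℂ) 1))) -
        (if ψ ∈ B then (1 : ℂ) else 0) * ((ψ : G → ℂ) 1 * (S ψ - conj ((ψ : G → ℂ) 1))) := by
      intro ψ; ring
    rw [Finset.sum_congr rfl (fun ψ _ => this ψ), Finset.sum_sub_distrib, hE, hE1, sub_zero]
  -- each term is `(deg ψ) * (deg ψ - ψ x)` or zero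
  have hterm : ∀ ψ : IrrCharacter G, (if ψ ∈ B then (1 : ℂ) else 0) *
      (((ψ : G → ℂ) x - (ψ : G → ℂ) 1) * (S ψ - conj ((ψ : G → ℂ) 1))) =
      (if ψ ∈ B ∧ S ψ = 0 then (irrDeg ψ : ℂ) * ((irrDeg ψ : ℂ) - (ψ : G → ℂ) x) else 0) := by
    intro ψ
    by_cases hψ : ψ ∈ B
    · by_cases hS0 : S ψ = 0
      · rw [if_pos hψ, if_pos ⟨hψ, hS0⟩, hS0, hdeg, irrDeg_spec]
        ring
      · rw [if_pos hψ, if_neg (fun h => hS0 h.2), hker ψ hψ hS0 x hxL, sub_self, zero_mul, mul_zero]
    · rw [if_neg hψ, if_neg (fun h => hψ h.1), zero_mul]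
  rw [Finset.sum_congr rfl (fun ψ _ => hterm ψ)] at hsub
  -- take real parts
  have hre := congrArg Complex.re hsub
  rw [Complex.re_sum, Complex.zero_re] at hre
  have hnonneg : ∀ ψ ∈ (Finset.univ : Finset (IrrCharacter G)), 0 ≤
      (if ψ ∈ B ∧ S ψ = 0 then (irrDeg ψ : ℂ) * ((irrDeg ψ : ℂ) - (ψ : G → ℂ) x) else 0).re := by
    intro ψ _
    split_ifs with h
    · have hle : ((ψ : G → ℂ) x).re ≤ (irrDeg ψ : ℝ) :=
        le_trans (Complex.re_le_norm _) (Cfsg.Agent.Helper29.PPK.norm_irr_le ψ x)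
      have : ((irrDeg ψ : ℂ) * ((irrDeg ψ : ℂ) - (ψ : G → ℂ) x)).re =
          (irrDeg ψ : ℝ) * ((irrDeg ψ : ℝ) - ((ψ : G → ℂ) x).re) := by
        simp [Complex.mul_re]
      rw [this]
      apply mul_nonneg (Nat.cast_nonneg _)
      linarith
    · simp
  have hall := (Finset.sum_eq_zero_iff_of_nonneg hnonneg).mp hre
  -- conclude for `χ`
  by_cases hS0 : S χ = 0
  · have h1 := hall χ (Finset.mem_univ χ)
    rw [if_pos ⟨hχ, hS0⟩] at h1
    have h2 : ((irrDeg χ : ℂ) * ((irrDeg χ : ℂ) - (χ : G → ℂ) x)).re =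
        (irrDeg χ : ℝ) * ((irrDeg χ : ℝ) - ((χ : G → ℂ) x).re) := by
      simp [Complex.mul_re]
    rw [h2] at h1
    have hpos : (0 : ℝ) < (irrDeg χ : ℝ) := by exact_mod_cast irrDeg_pos χ
    have hre_eq : ((χ : G → ℂ) x).re = (irrDeg χ : ℝ) := by
      rcases mul_eq_zero.mp h1 with h | h
      · exact absurd h hpos.ne'
      · linarith
    have hnorm := Cfsg.Agent.Helper29.PPK.norm_irr_le χ x
    -- `re = norm bound` forces `im = 0`
    have him : ((χ : G → ℂ) x).im = 0 := by
      have hsq : ‖(χ : G → ℂ) x‖ ^ 2 = ((χ : G → ℂ) x).re ^ 2 + ((χ : G → ℂ) x).im ^ 2 := by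
        rw [Complex.sq_norm, Complex.normSq_apply]; ring
      have h3 : ‖(χ : G → ℂ) x‖ ^ 2 ≤ (irrDeg χ : ℝ) ^ 2 :=
        pow_le_pow_left₀ (norm_nonneg _) hnorm 2
      rw [hsq, hre_eq] at h3
      have : ((χ : G → ℂ) x).im ^ 2 ≤ 0 := by linarith
      have h4 : ((χ : G → ℂ) x).im ^ 2 = 0 := le_antisymm this (sq_nonneg _)
      exact pow_eq_zero_iff (two_ne_zero) |>.mp h4
    rw [irrDeg_spec]
    apply Complex.ext
    · rw [hre_eq]; simp
    · rw [him]; simp
  · exact hker χ hχ hS0 x hxL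

end Cfsg.Agent.Helper5.PLB
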