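import Mathlib
import Cfsg.Prelude.Def_KGroupFacts
import Cfsg.Agent.Helper2.PSLM.Defs
import Cfsg.Agent.Helper5.PSLMCUBES
import Cfsg.Agent.Helper5.PSLMNUMB

/-! S2086 piece BAL: the commutator pairing `F(s,t) = cl (T (i,j) s) (T (j,l) t)` satisfies `F(s,t) = F(st,1)`. -/

set_option autoImplicit false

namespace Cfsg.Agent.S2086P

open scoped commutatorElement
open Cfsg.Agent.Helper2.Stb

variable {n : ℕ} {K : Type*} [Field K] {G : Type*} [Group G] {E : Type*} [Group E]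


namespace BAL

/-- own copy of the TORCL statement (so that this file does not depend on that piece) -/
theorem cl_tor' (S : StD n K G) (ψ : E →* G) (hψ : Function.Surjective ψ)
    (hc : ψ.ker ≤ Subgroup.center E) (hn : 3 ≤ n) (c : Kˣ) (hc1 : c ≠ 1) (h : Tor n K)
    (a : Root n) (hr : rat h a = 1) (u : K) : CL ψ (S.D h) (S.T a u) := by
  obtain ⟨k, hk1, hk2⟩ := exists_third hn a
  set h' : Tor n K := tor2 a.1.1 k hk1 c with hh'
  have hrat : rat h' a = (c : K) := by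
    unfold rat
    rw [hh', tor2_apply, tor2_apply, if_pos rfl, if_neg (Ne.symm a.2), if_neg (Ne.symm hk2)]
    simp
  have hc0 : (c : K) - 1 ≠ 0 := by
    intro h0
    apply hc1
    apply Units.ext
    rw [Units.val_one]
    exact sub_eq_zero.mp h0
  have hT : S.T a u = ⁅S.D h', S.T a (((c : K) - 1)⁻¹ * u)⁆ := by
    rw [S.comm_D, hrat, mul_inv_cancel_left₀ hc0]
  rw [hT]
  apply CL_of_comm ψ hψ hc
  · exact S.dcomm h h'
  · have h1 := S.conj h a (((c : K) - 1)⁻¹ * u)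
    rw [hr, one_mul] at h1
    show S.D h * S.T a (((c : K) - 1)⁻¹ * u) = S.T a (((c : K) - 1)⁻¹ * u) * S.D h
    calc S.D h * S.T a (((c : K) - 1)⁻¹ * u)
        = (S.D h * S.T a (((c : K) - 1)⁻¹ * u) * (S.D h)⁻¹) * S.D h := by group
      _ = _ := by rw [h1]

/-- the torus element with `h_i = h_l = β`, `h_j = β⁻²` -/
def tor3 (i j l : Fin n) (hij : i ≠ j) (hjl : j ≠ l) (β : Kˣ) : Tor n K :=
  tor2 i j hij β * tor2 l j hjl.symm β

theorem tor3_i (i j l : Fin n) (hij : i ≠ j) (hjl : j ≠ l) (hil : i ≠ l) (β : Kˣ) :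
    (tor3 i j l hij hjl β).1 i = β := by
  unfold tor3
  rw [tor_mul_apply, tor2_apply, tor2_apply, if_pos rfl, if_neg hil, if_neg hij, mul_one]

theorem tor3_j (i j l : Fin n) (hij : i ≠ j) (hjl : j ≠ l) (β : Kˣ) :
    (tor3 i j l hij hjl β).1 j = β⁻¹ * β⁻¹ := by
  unfold tor3
  rw [tor_mul_apply, tor2_apply, tor2_apply, if_neg (Ne.symm hij), if_pos rfl, if_neg hjl]

theorem tor3_l (i j l : Fin n) (hij : i ≠ j) (hjl : j ≠ l) (hil : i ≠ l) (β : Kˣ) :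
    (tor3 i j l hij hjl β).1 l = β := by
  unfold tor3
  rw [tor_mul_apply, tor2_apply, tor2_apply, if_neg (Ne.symm hil), if_neg (Ne.symm hjl),
    if_pos rfl, one_mul]

theorem rat_ij (i j l : Fin n) (hij : i ≠ j) (hjl : j ≠ l) (hil : i ≠ l) (β : Kˣ) :
    rat (tor3 i j l hij hjl β) (rt i j hij) = ((β : K)) ^ 3 := by
  unfold rat
  rw [rt_fst, rt_snd, tor3_i i j l hij hjl hil, tor3_j]
  push_cast
  field_simp

theorem rat_jl (i j l : Fin n) (hij : i ≠ j) (hjl : j ≠ l) (hil : i ≠ l) (β : Kˣ) :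
    rat (tor3 i j l hij hjl β) (rt j l hjl) = (((β : K)) ^ 3)⁻¹ := by
  unfold rat
  rw [rt_fst, rt_snd, tor3_l i j l hij hjl hil, tor3_j]
  push_cast
  field_simp

theorem rat_il (i j l : Fin n) (hij : i ≠ j) (hjl : j ≠ l) (hil : i ≠ l) (β : Kˣ) :
    rat (tor3 i j l hij hjl β) (rt i l hil) = 1 := by
  unfold rat
  rw [rt_fst, rt_snd, tor3_l i j l hij hjl hil, tor3_i i j l hij hjl hil]
  exact mul_inv_cancel₀ (Units.ne_zero β)


section
variable (S : StD n K G) (ψ : E →* G) (hψ : Function.Surjective ψ)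
  (hc : ψ.ker ≤ Subgroup.center E)
  (hC2 : ∀ (a b : Root n) (t u : K), a.1.1 ≠ b.1.2 → a.1.2 ≠ b.1.1 → CL ψ (S.T a t) (S.T b u))
  (i j l : Fin n) (hij : i ≠ j) (hjl : j ≠ l) (hil : i ≠ l)

/-- the commutator pairing `F s t = cl (T (i,j) s) (T (j,l) t)` -/
noncomputable def F (s t : K) : E := cl ψ hψ (S.T (rt i j hij) s) (S.T (rt j l hjl) t)

theorem map_F (s t : K) : ψ (F S ψ hψ i j l hij hjl s t) = S.T (rt i l hil) (s * t) := by
  unfold F
  rw [map_cl, S.chev' i j l hij hjl hil]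

include hc in
theorem F_eq {e e' : E} {s t : K} (he : ψ e = S.T (rt i j hij) s) (he' : ψ e' = S.T (rt j l hjl) t) :
    ⁅e, e'⁆ = F S ψ hψ i j l hij hjl s t := cl_eq ψ hψ hc he he'

include hc hC2 hil in
theorem F_add_left (s s' t : K) :
    F S ψ hψ i j l hij hjl (s + s') t =
      F S ψ hψ i j l hij hjl s t * F S ψ hψ i j l hij hjl s' t := by
  obtain ⟨x, hx⟩ := hψ (S.T (rt i j hij) s)
  obtain ⟨x', hx'⟩ := hψ (S.T (rt i j hij) s')
  obtain ⟨y, hy⟩ := hψ (S.T (rt j l hjl) t)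
  have hxx' : ψ (x * x') = S.T (rt i j hij) (s + s') := by rw [map_mul, hx, hx', S.add]
  rw [← F_eq S ψ hψ hc i j l hij hjl hxx' hy, ← F_eq S ψ hψ hc i j l hij hjl hx hy,
    ← F_eq S ψ hψ hc i j l hij hjl hx' hy]
  have e : ⁅x * x', y⁆ = (x * ⁅x', y⁆ * x⁻¹) * ⁅x, y⁆ := by
    simp only [commutatorElement_def]; group
  have hmap' : ψ ⁅x', y⁆ = S.T (rt i l hil) (s' * t) := by
    rw [F_eq S ψ hψ hc i j l hij hjl hx' hy, map_F S ψ hψ i j l hij hjl hil]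
  have hmap : ψ ⁅x, y⁆ = S.T (rt i l hil) (s * t) := by
    rw [F_eq S ψ hψ hc i j l hij hjl hx hy, map_F S ψ hψ i j l hij hjl hil]
  have hcomm1 : Commute x ⁅x', y⁆ :=
    hC2 (rt i j hij) (rt i l hil) s (s' * t) hil (Ne.symm hij) x ⁅x', y⁆ hx hmap'
  have hcomm2 : Commute ⁅x', y⁆ ⁅x, y⁆ :=
    hC2 (rt i l hil) (rt i l hil) (s' * t) (s * t) hil (Ne.symm hil) _ _ hmap' hmap
  rw [e, hcomm1.eq, mul_inv_cancel_right, hcomm2.eq]

include hc hC2 hil in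
theorem F_add_right (s t t' : K) :
    F S ψ hψ i j l hij hjl s (t + t') =
      F S ψ hψ i j l hij hjl s t * F S ψ hψ i j l hij hjl s t' := by
  obtain ⟨x, hx⟩ := hψ (S.T (rt i j hij) s)
  obtain ⟨y, hy⟩ := hψ (S.T (rt j l hjl) t)
  obtain ⟨y', hy'⟩ := hψ (S.T (rt j l hjl) t')
  have hyy' : ψ (y * y') = S.T (rt j l hjl) (t + t') := by rw [map_mul, hy, hy', S.add]
  rw [← F_eq S ψ hψ hc i j l hij hjl hx hyy', ← F_eq S ψ hψ hc i j l hij hjl hx hy,
    ← F_eq S ψ hψ hc i j l hij hjl hx hy']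
  have e : ⁅x, y * y'⁆ = ⁅x, y⁆ * (y * ⁅x, y'⁆ * y⁻¹) := by
    simp only [commutatorElement_def]; group
  have hmap' : ψ ⁅x, y'⁆ = S.T (rt i l hil) (s * t') := by
    rw [F_eq S ψ hψ hc i j l hij hjl hx hy', map_F S ψ hψ i j l hij hjl hil]
  have hcomm1 : Commute y ⁅x, y'⁆ :=
    hC2 (rt j l hjl) (rt i l hil) t (s * t') hjl (Ne.symm hil) y ⁅x, y'⁆ hy hmap'
  rw [e, hcomm1.eq, mul_inv_cancel_right]

include hc in
theorem F_zero_left (t : K) : F S ψ hψ i j l hij hjl 0 t = 1 := by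
  obtain ⟨y, hy⟩ := hψ (S.T (rt j l hjl) t)
  have h1 : ψ (1 : E) = S.T (rt i j hij) 0 := by rw [map_one, S.T_zero]
  rw [← F_eq S ψ hψ hc i j l hij hjl h1 hy]
  simp [commutatorElement_def]

include hc in
theorem F_zero_right (s : K) : F S ψ hψ i j l hij hjl s 0 = 1 := by
  obtain ⟨x, hx⟩ := hψ (S.T (rt i j hij) s)
  have h1 : ψ (1 : E) = S.T (rt j l hjl) 0 := by rw [map_one, S.T_zero]
  rw [← F_eq S ψ hψ hc i j l hij hjl hx h1]
  simp [commutatorElement_def]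

include hc hil in
theorem F_scale (hn : 3 ≤ n) (c : Kˣ) (hc1 : c ≠ 1) (β : Kˣ) (s t : K) :
    F S ψ hψ i j l hij hjl (((β : K)) ^ 3 * s) ((((β : K)) ^ 3)⁻¹ * t) =
      F S ψ hψ i j l hij hjl s t := by
  obtain ⟨x, hx⟩ := hψ (S.T (rt i j hij) s)
  obtain ⟨y, hy⟩ := hψ (S.T (rt j l hjl) t)
  obtain ⟨d, hd⟩ := hψ (S.D (tor3 i j l hij hjl β))
  have hx' : ψ (d * x * d⁻¹) = S.T (rt i j hij) (((β : K)) ^ 3 * s) := by
    rw [map_mul, map_mul, map_inv, hd, hx, S.conj, rat_ij i j l hij hjl hil]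
  have hy' : ψ (d * y * d⁻¹) = S.T (rt j l hjl) ((((β : K)) ^ 3)⁻¹ * t) := by
    rw [map_mul, map_mul, map_inv, hd, hy, S.conj, rat_jl i j l hij hjl hil]
  rw [← F_eq S ψ hψ hc i j l hij hjl hx' hy', ← F_eq S ψ hψ hc i j l hij hjl hx hy]
  have e : ⁅d * x * d⁻¹, d * y * d⁻¹⁆ = d * ⁅x, y⁆ * d⁻¹ := by
    simp only [commutatorElement_def]; group
  have hmap : ψ ⁅x, y⁆ = S.T (rt i l hil) (s * t) := by
    rw [F_eq S ψ hψ hc i j l hij hjl hx hy, map_F S ψ hψ i j l hij hjl hil]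
  have hcomm : Commute d ⁅x, y⁆ :=
    cl_tor' S ψ hψ hc hn c hc1 (tor3 i j l hij hjl β) (rt i l hil) (rat_il i j l hij hjl hil β)
      (s * t) d ⁅x, y⁆ hd hmap
  rw [e, hcomm.eq, mul_inv_cancel_right]

end

end BAL

open BAL in
theorem cl_balanced [Fintype K] (S : StD n K G) (ψ : E →* G) (hψ : Function.Surjective ψ)
    (hc : ψ.ker ≤ Subgroup.center E) (hn : 3 ≤ n) (h2 : Fintype.card K ≠ 2)
    (h4 : Fintype.card K ≠ 4)
    (hC2 : ∀ (a b : Root n) (t u : K), a.1.1 ≠ b.1.2 → a.1.2 ≠ b.1.1 →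
      CL ψ (S.T a t) (S.T b u))
    (i j l : Fin n) (hij : i ≠ j) (hjl : j ≠ l) (hil : i ≠ l) (s t : K) :
    cl ψ hψ (S.T (rt i j hij) s) (S.T (rt j l hjl) t) =
      cl ψ hψ (S.T (rt i j hij) (s * t)) (S.T (rt j l hjl) 1) := by
  obtain ⟨c, hc1⟩ := exists_unit_ne_one (K := K) h2
  have key : ∀ lam : K, ∀ s t : K, F S ψ hψ i j l hij hjl (lam * s) t =
      F S ψ hψ i j l hij hjl s (lam * t) := by
    apply cube_induction h4
    · intro s t
      rw [zero_mul, zero_mul, F_zero_left S ψ hψ hc, F_zero_right S ψ hψ hc]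
    · intro x y hx hy s t
      rw [add_mul, add_mul, F_add_left S ψ hψ hc hC2 i j l hij hjl hil,
        F_add_right S ψ hψ hc hC2 i j l hij hjl hil, hx, hy]
    · intro z s t
      have h := F_scale S ψ hψ hc i j l hij hjl hil hn c hc1 z s (((z : K)) ^ 3 * t)
      rw [inv_mul_cancel_left₀ (pow_ne_zero 3 (Units.ne_zero z))] at h
      exact h
  have h := key t s 1
  rw [mul_one, mul_comm] at h
  show F S ψ hψ i j l hij hjl s t = F S ψ hψ i j l hij hjl (s * t) 1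
  exact h.symm

end Cfsg.Agent.S2086P
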