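import Mathlib
import Cfsg.Agent.Lead.ThompsonPQ
import Cfsg.Agent.Helper23.PSeries

set_option autoImplicit false

/-!
# Principal type, part A: group theory

`K ⊴ G` a `p'`-group, `L ⊴ G` with `L/K` a `p`-group, such that every `p`-regular element
outside `K` acts nontrivially on `L/K`.  The same then holds inside the centralizer of any
`p`-subgroup `R` (Thompson's `P × Q` lemma).
-/

namespace Cfsg.Agent.Helper5.PrinType

open Subgroup

variable {G : Type*} [Group G]

/-- Coprime action: a coset of a normal `p'`-subgroup that is stable under a `p`-group contains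
a fixed point. -/
theorem exists_mul_mem_centralizer [Finite G] {p : ℕ} [hp : Fact p.Prime] (K : Subgroup G)
    [hK : K.Normal] (hpK : ¬ p ∣ Nat.card K) (R : Subgroup G) (hR : IsPGroup p R) (l : G)
    (hl : ∀ r ∈ R, r * l * r⁻¹ * l⁻¹ ∈ K) :
    ∃ k ∈ K, l * k ∈ centralizer (R : Set G) := by
  classical
  have hmem : ∀ (r : R) (k : K), l⁻¹ * (r : G) * l * (k : G) * (r : G)⁻¹ ∈ K := by
    intro r k
    have h1 : l⁻¹ * (r : G) * l * (r : G)⁻¹ ∈ K := by
      have := hK.conj_mem _ (hl r r.2) l⁻¹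
      convert this using 1
      group
    have h2 : (r : G) * (k : G) * (r : G)⁻¹ ∈ K := hK.conj_mem _ k.2 _
    have := K.mul_mem h1 h2
    convert this using 1
    group
  let act : MulAction R K :=
    { smul := fun r k => ⟨l⁻¹ * (r : G) * l * (k : G) * (r : G)⁻¹, hmem r k⟩
      one_smul := by
        intro k
        apply Subtype.ext
        show l⁻¹ * ((1 : R) : G) * l * (k : G) * ((1 : R) : G)⁻¹ = k
        simp
      mul_smul := by
        intro r s k
        apply Subtype.ext
        show l⁻¹ * ((r * s : R) : G) * l * (k : G) * ((r * s : R) : G)⁻¹ =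
          l⁻¹ * (r : G) * l * (l⁻¹ * (s : G) * l * (k : G) * (s : G)⁻¹) * (r : G)⁻¹
        rw [Subgroup.coe_mul]
        group }
  obtain ⟨k, hk⟩ := hR.nonempty_fixed_point_of_prime_not_dvd_card (K : Type _) hpK
  refine ⟨k, k.2, ?_⟩
  rw [mem_centralizer_iff]
  intro r hr
  have := hk ⟨r, hr⟩
  have h2 : l⁻¹ * r * l * (k : G) * r⁻¹ = k := congrArg Subtype.val this
  calc r * (l * k) = l * (l⁻¹ * r * l * (k : G) * r⁻¹) * r := by group
    _ = l * k * r := by rw [h2]

/-- If `x` centralizes `L/K` and `C_G(Q) ≤ L` for a `p`-subgroup `Q` of `L`, then a `p`-regular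
`x` lies in `K`. -/
theorem hHH_of_centralizer_le [Finite G] {p : ℕ} [hp : Fact p.Prime] (K L Q : Subgroup G)
    [hK : K.Normal] (hKL : K ≤ L) (hpK : ¬ p ∣ Nat.card K) (s : ℕ)
    (hLs : Nat.card L = Nat.card K * p ^ s) (hQL : Q ≤ L) (hQp : IsPGroup p Q)
    (hCQ : centralizer (Q : Set G) ≤ L) :
    ∀ x : G, ¬ p ∣ orderOf x → x ∉ K → ∃ m ∈ L, x * m * x⁻¹ * m⁻¹ ∉ K := by
  intro x hx hxK
  by_contra hcon
  push Not at hcon
  apply hxK
  have h1 : ∀ q ∈ Q, q * x * q⁻¹ * x⁻¹ ∈ K := by
    intro q hq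
    have := K.inv_mem (hcon q (hQL hq))
    convert this using 1
    group
  obtain ⟨k, hk, hxk⟩ := exists_mul_mem_centralizer K hpK Q hQp x h1
  have hxL : x ∈ L := by
    have := L.mul_mem (hCQ hxk) (L.inv_mem (hKL hk))
    simpa using this
  -- the image of `x` in `L/K` has `p`-power order and `p'`-order
  have hcard : Nat.card (L.map (QuotientGroup.mk' K)) = p ^ s := by
    have h2 : (L.map (QuotientGroup.mk' K)).comap (QuotientGroup.mk' K) = L := by
      apply Subgroup.comap_map_eq_self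
      rw [QuotientGroup.ker_mk']
      exact hKL
    have h3 := Cfsg.Agent.Helper23.card_comap_mk' K (L.map (QuotientGroup.mk' K))
    rw [h2, hLs] at h3
    exact (Nat.eq_of_mul_eq_mul_left Nat.card_pos h3).symm
  have hmem : QuotientGroup.mk' K x ∈ L.map (QuotientGroup.mk' K) := Subgroup.mem_map_of_mem _ hxL
  have hpow : (QuotientGroup.mk' K x) ^ p ^ s = 1 := by
    have : (⟨_, hmem⟩ : L.map (QuotientGroup.mk' K)) ^ p ^ s = 1 := by
      rw [← hcard]
      exact pow_card_eq_one'
    exact congrArg Subtype.val this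
  have hord : orderOf (QuotientGroup.mk' K x) ∣ orderOf x :=
    orderOf_dvd_of_pow_eq_one (by rw [← map_pow, pow_orderOf_eq_one, map_one])
  have hord2 : orderOf (QuotientGroup.mk' K x) ∣ p ^ s := orderOf_dvd_of_pow_eq_one hpow
  have hcop : Nat.Coprime (orderOf x) (p ^ s) :=
    Nat.Coprime.pow_right s ((Nat.Prime.coprime_iff_not_dvd hp.out).mpr hx).symm
  have h1 : orderOf (QuotientGroup.mk' K x) = 1 := Nat.eq_one_of_dvd_coprimes hcop hord hord2
  rw [orderOf_eq_one_iff, QuotientGroup.mk'_apply, QuotientGroup.eq_one_iff] at h1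
  exact h1

/-- **The Hall–Higman type hypothesis passes to centralizers of `p`-subgroups.** -/
theorem hHH_centralizer [Finite G] {p : ℕ} [hp : Fact p.Prime] (K L : Subgroup G)
    [hK : K.Normal] [hL : L.Normal] (hKL : K ≤ L) (hpK : ¬ p ∣ Nat.card K) (s : ℕ)
    (hLs : Nat.card L = Nat.card K * p ^ s)
    (hHH : ∀ x : G, ¬ p ∣ orderOf x → x ∉ K → ∃ m ∈ L, x * m * x⁻¹ * m⁻¹ ∉ K)
    (R : Subgroup G) (hR : IsPGroup p R) :
    ∀ x ∈ centralizer (R : Set G), ¬ p ∣ orderOf x → x ∉ K →
      ∃ m ∈ L ⊓ centralizer (R : Set G), x * m * x⁻¹ * m⁻¹ ∉ K := by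
  intro x hxR hx hxK
  by_contra hcon
  push Not at hcon
  obtain ⟨m, hm, hxm⟩ := hHH x hx hxK
  apply hxm
  set π := QuotientGroup.mk' K with hπ
  have hπs : Function.Surjective π := QuotientGroup.mk'_surjective K
  have hcard : Nat.card (L.map π) = p ^ s := by
    have h2 : (L.map π).comap π = L := by
      apply Subgroup.comap_map_eq_self
      rw [hπ, QuotientGroup.ker_mk']
      exact hKL
    have h3 := Cfsg.Agent.Helper23.card_comap_mk' K (L.map π)
    rw [← hπ, h2, hLs] at h3
    exact (Nat.eq_of_mul_eq_mul_left Nat.card_pos h3).symm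
  have hU : IsPGroup p (L.map π) := IsPGroup.of_card hcard
  have hP : IsPGroup p (R.map π) := hR.map π
  have hQ : (Nat.card (zpowers (π x))).Coprime p := by
    rw [Nat.card_zpowers]
    have hord : orderOf (π x) ∣ orderOf x :=
      orderOf_dvd_of_pow_eq_one (by rw [← map_pow, pow_orderOf_eq_one, map_one])
    exact Nat.Coprime.coprime_dvd_left hord ((Nat.Prime.coprime_iff_not_dvd hp.out).mpr hx).symm
  haveI hUn : (L.map π).Normal := hL.map π hπs
  have hnorm : normalizer ((L.map π : Subgroup (G ⧸ K)) : Set (G ⧸ K)) = ⊤ :=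
    normalizer_eq_top_iff.mpr hUn
  have hPQ : R.map π ≤ centralizer ((zpowers (π x) : Subgroup (G ⧸ K)) : Set (G ⧸ K)) := by
    rintro _ ⟨r, hr, rfl⟩
    rw [mem_centralizer_iff]
    intro y hy
    obtain ⟨n, rfl⟩ := mem_zpowers_iff.mp hy
    have hc : r * x = x * r := by
      have := mem_centralizer_iff.mp hxR r hr
      exact this
    have hc' : Commute (π x) (π r) := by
      show π x * π r = π r * π x
      rw [← map_mul, ← map_mul, hc]
    exact (hc'.zpow_left n).eq
  have hC : L.map π ⊓ centralizer ((R.map π : Subgroup (G ⧸ K)) : Set (G ⧸ K)) ≤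
      centralizer ((zpowers (π x) : Subgroup (G ⧸ K)) : Set (G ⧸ K)) := by
    rintro u ⟨hu1, hu2⟩
    obtain ⟨l, hl, rfl⟩ := hu1
    have hl' : ∀ r ∈ R, r * l * r⁻¹ * l⁻¹ ∈ K := by
      intro r hr
      have h1 := mem_centralizer_iff.mp hu2 (π r) (mem_map_of_mem π hr)
      have h2 : π (r * l * r⁻¹ * l⁻¹) = 1 := by
        rw [map_mul, map_mul, map_mul, map_inv, map_inv, h1]
        group
      rw [hπ, QuotientGroup.mk'_apply, QuotientGroup.eq_one_iff] at h2
      exact h2
    obtain ⟨k, hk, hlk⟩ := exists_mul_mem_centralizer K hpK R hR l hl'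
    have hlkL : l * k ∈ L := L.mul_mem hl (hKL hk)
    have h3 := hcon (l * k) ⟨hlkL, hlk⟩
    have hπk : π k = 1 := by
      rw [hπ, QuotientGroup.mk'_apply, QuotientGroup.eq_one_iff]
      exact hk
    have h4 : π (x * (l * k) * x⁻¹ * (l * k)⁻¹) = 1 := by
      rw [hπ, QuotientGroup.mk'_apply, QuotientGroup.eq_one_iff]
      exact h3
    have h5 : π x * π l = π l * π x := by
      rw [map_mul, map_mul, map_mul, map_mul, map_inv, map_inv, map_mul, hπk, mul_one] at h4
      calc π x * π l = (π x * π l * (π x)⁻¹ * (π l)⁻¹) * π l * π x := by group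
        _ = π l * π x := by rw [h4, one_mul]
    rw [mem_centralizer_iff]
    intro y hy
    obtain ⟨n, rfl⟩ := mem_zpowers_iff.mp hy
    have hc' : Commute (π x) (π l) := h5
    exact (hc'.zpow_left n).eq
  have key := Cfsg.Agent.Lead.thompson_PQ p (R.map π) (zpowers (π x)) (L.map π) hP hQ hU hPQ
    (by rw [hnorm]; exact le_top) (by rw [hnorm]; exact le_top) hC
  have h6 := mem_centralizer_iff.mp (key (mem_zpowers (π x))) (π m) (mem_map_of_mem π hm)
  have h7 : π (x * m * x⁻¹ * m⁻¹) = 1 := by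
    rw [map_mul, map_mul, map_mul, map_inv, map_inv, ← h6]
    group
  rw [hπ, QuotientGroup.mk'_apply, QuotientGroup.eq_one_iff] at h7
  exact h7

end Cfsg.Agent.Helper5.PrinType
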