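import Mathlib
import Cfsg.Prelude.Def_Blocks
import Cfsg.Agent.Helper5.RestrictScalar
import Cfsg.Agent.Helper5.BlockBasic
import Cfsg.Agent.Helper5.MinMax
import Cfsg.Agent.S0963

set_option autoImplicit false

/-!
# Principal type, part B: the idempotent of `Irr(G | θ)` for an invariant `θ`
-/

namespace Cfsg.Agent.Helper5.PrinType

open Cfsg Cfsg.Agent.Helper24 Cfsg.Agent.Helper5 Cfsg.Agent.Helper5.CC Cfsg.Agent.Helper5.RS

variable {G : Type*} [Group G] [Fintype G] (N : Subgroup G) [hN : N.Normal] [Fintype N]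

/-- A class function supported on the normal subgroup `N` acts on `χ` as on any constituent of
`χ_N`. -/
theorem act_of_support (χ : IrrCharacter G) (θ : IrrCharacter N)
    (h : classInner (fun n : N => (χ : G → ℂ) n) (θ : N → ℂ) ≠ 0)
    (c : G → ℂ) (hc : IsClassFunction G c) (hsupp : ∀ t, t ∉ N → c t = 0) :
    act c χ = (∑ t : N, c t * (θ : N → ℂ) t) / (θ : N → ℂ) 1 := by
  rw [restrict_scalar_eq N χ θ h c hc, act]
  congr 1
  symm
  apply sum_subgroup_eq_sum' N (fun t => c t * (χ : G → ℂ) t)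
  intro t ht
  rw [hsupp t ht, zero_mul]

/-- The candidate idempotent: `θ(1) conj θ / |N|` extended by zero. -/
noncomputable def idem (θ : IrrCharacter N) : G → ℂ := fun g =>
  @dite ℂ (g ∈ N) (Classical.propDecidable _)
    (fun hg => (Nat.card N : ℂ)⁻¹ * ((θ : N → ℂ) 1 * (starRingEnd ℂ) ((θ : N → ℂ) ⟨g, hg⟩)))
    (fun _ => 0)

omit [Fintype G] [Fintype N] in
theorem idem_of_mem (θ : IrrCharacter N) {g : G} (hg : g ∈ N) :
    idem N θ g = (Nat.card N : ℂ)⁻¹ * ((θ : N → ℂ) 1 * (starRingEnd ℂ) ((θ : N → ℂ) ⟨g, hg⟩)) :=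
  dif_pos hg

omit [Fintype G] [Fintype N] in
theorem idem_of_not_mem (θ : IrrCharacter N) {g : G} (hg : g ∉ N) : idem N θ g = 0 :=
  dif_neg hg

omit [Fintype G] [Fintype N] in
theorem isClassFunction_idem (θ : IrrCharacter N)
    (hinv : ∀ (g : G) (n : N), (θ : N → ℂ) ⟨g * n * g⁻¹, hN.conj_mem n n.2 g⟩ = (θ : N → ℂ) n) :
    IsClassFunction G (idem N θ) := by
  intro g x
  by_cases hg : g ∈ N
  · have hg' : x * g * x⁻¹ ∈ N := hN.conj_mem g hg x
    rw [idem_of_mem N θ hg, idem_of_mem N θ hg']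
    have := hinv x ⟨g, hg⟩
    simp only at this
    rw [this]
  · have hg' : x * g * x⁻¹ ∉ N := by
      intro h
      apply hg
      have := hN.conj_mem _ h x⁻¹
      convert this using 1
      group
    rw [idem_of_not_mem N θ hg, idem_of_not_mem N θ hg']

/-- **The block idempotent of `Irr(G | θ)`.** -/
theorem blockCoeff_eq_idem [Fintype (IrrCharacter G)] (θ : IrrCharacter N)
    (hinv : ∀ (g : G) (n : N), (θ : N → ℂ) ⟨g * n * g⁻¹, hN.conj_mem n n.2 g⟩ = (θ : N → ℂ) n)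
    (B : Set (IrrCharacter G))
    (hB : ∀ χ : IrrCharacter G, χ ∈ B ↔
      classInner (fun n : N => (χ : G → ℂ) n) (θ : N → ℂ) ≠ 0) :
    blockCoeff B = idem N θ := by
  classical
  have hcf := isClassFunction_idem N θ hinv
  symm
  apply eq_of_act_eq hcf (isClassFunction_blockCoeff B)
  intro χ
  rw [act_blockCoeff]
  have hθ1 : (θ : N → ℂ) 1 ≠ 0 := irr_one_ne_zero θ
  have hcard : (Nat.card N : ℂ) ≠ 0 := by
    have : Nat.card N ≠ 0 := Nat.card_pos.ne'
    exact_mod_cast this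
  by_cases hχ : χ ∈ B
  · rw [if_pos hχ, act_of_support N χ θ ((hB χ).mp hχ) _ hcf (fun t ht => idem_of_not_mem N θ ht)]
    have h1 : ∀ t : N, idem N θ (t : G) * (θ : N → ℂ) t =
        (θ : N → ℂ) 1 * ((Nat.card N : ℂ)⁻¹ * ((θ : N → ℂ) t * (starRingEnd ℂ) ((θ : N → ℂ) t))) := by
      intro t
      rw [idem_of_mem N θ t.2]
      ring
    simp_rw [h1]
    rw [← Finset.mul_sum, ← Finset.mul_sum]
    have h2 : (Nat.card N : ℂ)⁻¹ * ∑ t : N, (θ : N → ℂ) t * (starRingEnd ℂ) ((θ : N → ℂ) t) =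
        classInner (θ : N → ℂ) (θ : N → ℂ) := rfl
    rw [h2, classInner_irr, if_pos rfl, mul_one, div_self hθ1]
  · rw [if_neg hχ, act]
    have h0 : classInner (fun n : N => (χ : G → ℂ) n) (θ : N → ℂ) = 0 := by
      by_contra h
      exact hχ ((hB χ).mpr h)
    have h1 : ∑ t : G, idem N θ t * (χ : G → ℂ) t =
        ∑ t : N, idem N θ (t : G) * (χ : G → ℂ) t := by
      symm
      apply sum_subgroup_eq_sum' N (fun t => idem N θ t * (χ : G → ℂ) t)
      intro t ht
      rw [idem_of_not_mem N θ ht, zero_mul]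
    have h2 : ∀ t : N, idem N θ (t : G) * (χ : G → ℂ) t =
        (θ : N → ℂ) 1 * ((Nat.card N : ℂ)⁻¹ * ((χ : G → ℂ) t * (starRingEnd ℂ) ((θ : N → ℂ) t))) := by
      intro t
      rw [idem_of_mem N θ t.2]
      ring
    rw [h1]
    simp_rw [h2]
    rw [← Finset.mul_sum, ← Finset.mul_sum]
    have h3 : (Nat.card N : ℂ)⁻¹ * ∑ t : N, (χ : G → ℂ) t * (starRingEnd ℂ) ((θ : N → ℂ) t) =
        classInner (fun n : N => (χ : G → ℂ) n) (θ : N → ℂ) := rfl
    rw [h3, h0, mul_zero, zero_div]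

end Cfsg.Agent.Helper5.PrinType
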