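import Mathlib
import Cfsg.Prelude.Def_Blocks
import Cfsg.Agent.Helper5.BrauerMap2

set_option autoImplicit false

/-!
# Principal type, part C: blocks of `C_G(P)` inducing to `G`
-/

namespace Cfsg.Agent.Helper5.PrinType

open Cfsg Cfsg.Agent.Helper24 Cfsg.Agent.Helper5 Cfsg.Agent.Helper5.CC Cfsg.Agent.Helper5.Loc

variable {G : Type*} [Group G] {M : Ideal AlgInt}

/-- A block of a subgroup induces at most one block. -/
theorem induced_target_unique (hM : M.IsPrime) (H : Subgroup G) {b : Set (IrrCharacter H)}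
    {B₁ B₂ : Set (IrrCharacter G)} (h₁ : IsInducedBlock M H b B₁) (h₂ : IsInducedBlock M H b B₂) :
    B₁ = B₂ := by
  obtain ⟨hb, hB₁, hc₁⟩ := h₁
  obtain ⟨_, hB₂, hc₂⟩ := h₂
  obtain ⟨ξ, hξ⟩ := IsPBlock.nonempty hM hb
  obtain ⟨χ₁, hχ₁⟩ := IsPBlock.nonempty hM hB₁
  obtain ⟨χ₂, hχ₂⟩ := IsPBlock.nonempty hM hB₂
  rw [IsPBlock_eq_blockOf hM hB₁ hχ₁, IsPBlock_eq_blockOf hM hB₂ hχ₂]
  apply blockOf_eq_of_sameBlock hM
  intro g
  have e1 := hc₁ ξ hξ χ₁ hχ₁ g
  have e2 := hc₂ ξ hξ χ₂ hχ₂ g
  have := li_sub hM e2 e1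
  convert this using 1
  ring

variable [Fintype G]

omit [Fintype G] in
theorem brRes_eq_of_le_centralizer (P H : Subgroup G) (hHC : H ≤ Subgroup.centralizer (P : Set G))
    (c : G → ℂ) : brRes P H c = fun h : H => c (h : G) := by
  funext h
  rw [brRes, cut_of_mem _ (hHC h.2)]

/-- For `H ≤ C_G(P)`: if Brauer's functional for `ξ` is the central character of `χ` modulo `M`,
then the block of `ξ` induces the block of `χ`. -/
theorem isInducedBlock_of_brauer_cent (hM : M.IsPrime) (P H : Subgroup G) [Fintype H]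
    (hHC : H ≤ Subgroup.centralizer (P : Set G)) (ξ : IrrCharacter H) (χ : IrrCharacter G)
    (hχ : ∀ c, IsClassFunction G c → (∀ t, MemLocalRing M (c t)) →
      MemLocalIdeal M (act (brRes P H c) ξ - act c χ)) :
    IsInducedBlock M H (blockOf M (ξ : H → ℂ)) (blockOf M (χ : G → ℂ)) := by
  refine ⟨isPBlock_blockOf ξ, isPBlock_blockOf χ, ?_⟩
  intro ξ' hξ' χ' hχ' g
  have h1 : MemLocalIdeal M (inducedCentralChar H (ξ' : H → ℂ) g -
      inducedCentralChar H (ξ : H → ℂ) g) := by
    rw [Cfsg.Agent.S0933.inducedCentralChar_eq_act, Cfsg.Agent.S0933.inducedCentralChar_eq_act]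
    apply act_sub_act_memLocalIdeal hM (Cfsg.Agent.S0933.isClassFunction_fusionIndicator H g) _
      (sameBlock_symm hξ')
    intro t
    exact memLocalRing_classIndicator hM g _
  have h3 : MemLocalIdeal M (inducedCentralChar H (ξ : H → ℂ) g - centralChar (χ : G → ℂ) g) := by
    rw [Cfsg.Agent.S0933.inducedCentralChar_eq_act, ← act_classIndicator]
    have := hχ _ (isClassFunction_classIndicator g) (memLocalRing_classIndicator hM g)
    rw [brRes_eq_of_le_centralizer P H hHC] at this
    exact this
  have h4 : MemLocalIdeal M (centralChar (χ : G → ℂ) g - centralChar (χ' : G → ℂ) g) := hχ' g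
  have := li_add hM (li_add hM h1 h3) h4
  convert this using 1
  ring

/-- **Blocks of `C_G(P)` inducing a given block `B`**: the block of `ξ` induces `B` iff the
restriction of the block idempotent of `B` does not act as zero on `ξ` modulo `M`. -/
theorem isInducedBlock_iff_act [Fintype (IrrCharacter G)] {p : ℕ} [Fact p.Prime]
    (hM : IsPModular p M) (P : Subgroup G) (hP : IsPGroup p P) (H : Subgroup G)
    (hHC : H ≤ Subgroup.centralizer (P : Set G)) (hCH : Subgroup.centralizer (P : Set G) ≤ H)
    [Fintype H] (B : Set (IrrCharacter G)) (hB : IsPBlock M B) (ξ : IrrCharacter H) :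
    IsInducedBlock M H (blockOf M (ξ : H → ℂ)) B ↔
      ¬ MemLocalIdeal M (act (fun h : H => blockCoeff B (h : G)) ξ) := by
  classical
  have hMp := isPrime_of_isPModular hM
  have hHN : H ≤ Subgroup.normalizer (P : Set G) := by
    intro h hh
    have hh' := hHC hh
    rw [Subgroup.mem_normalizer_iff]
    intro q
    have key : ∀ q ∈ P, h * q * h⁻¹ = q := by
      intro q hq
      have := Subgroup.mem_centralizer_iff.mp hh' q hq
      rw [← this]
      group
    have key' : ∀ q ∈ P, h⁻¹ * q * h = q := by
      intro q hq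
      have := Subgroup.mem_centralizer_iff.mp (Subgroup.inv_mem _ hh') q hq
      rw [← this]
      group
    constructor
    · intro hq
      rw [key q hq]
      exact hq
    · intro hq
      have := key' _ hq
      have h2 : h⁻¹ * (h * q * h⁻¹) * h = q := by group
      rw [h2] at this
      rw [this]
      exact hq
  obtain ⟨χ, hχ⟩ := exists_irr_brauer hM P H hP hCH hHN ξ
  have hind := isInducedBlock_of_brauer_cent hMp P H hHC ξ χ hχ
  have he := isClassFunction_blockCoeff B
  have heM : ∀ t, MemLocalRing M (blockCoeff B t) := osima hMp B hB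
  have hact := hχ _ he heM
  rw [brRes_eq_of_le_centralizer P H hHC, act_blockCoeff] at hact
  constructor
  · intro h
    have hBeq : B = blockOf M (χ : G → ℂ) := induced_target_unique hMp H h hind
    have hχB : χ ∈ B := by
      rw [hBeq]
      exact mem_blockOf_self hMp χ
    rw [if_pos hχB] at hact
    intro hcon
    have := li_sub hMp hcon hact
    rw [sub_sub_cancel] at this
    exact not_memLocalIdeal_one hMp this
  · intro h
    have hχB : χ ∈ B := by
      by_contra hcon
      rw [if_neg hcon, sub_zero] at hact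
      exact h hact
    rw [IsPBlock_eq_blockOf hMp hB hχB]
    exact hind

end Cfsg.Agent.Helper5.PrinType
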