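import Mathlib
import Cfsg.Prelude.Def_Blocks
import Cfsg.Prelude.Def_BlockLocal
import Cfsg.Agent.Helper24.GlaubP
import Cfsg.Agent.Helper5.PPrimeNormal

set_option autoImplicit false

/-!
# Principal type, part D: the Glauberman correspondent inside `C_G(R)`
-/

namespace Cfsg.Agent.Helper5.PrinType

open Cfsg Cfsg.Agent.Helper24 Cfsg.Agent.Helper5.CC

universe u

variable {G : Type u} [Group G]

/-- The restriction of a function on `K` to `K ∩ H`, viewed on the subgroup `K.subgroupOf H`
of `H`. -/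
def resFun (K H : Subgroup G) (θ : K → ℂ) : K.subgroupOf H → ℂ :=
  fun n => θ ⟨((n : H) : G), n.2⟩

theorem resFun_apply (K H : Subgroup G) (θ : K → ℂ) (n : K.subgroupOf H) :
    resFun K H θ n = θ ⟨((n : H) : G), n.2⟩ := rfl

/-- The identification of `K.subgroupOf H` with `K ⊓ H`. -/
def infEquiv (K H : Subgroup G) : K.subgroupOf H ≃* (K ⊓ H : Subgroup G) where
  toFun n := ⟨((n : H) : G), ⟨n.2, (n : H).2⟩⟩
  invFun c := ⟨⟨(c : G), c.2.2⟩, c.2.1⟩
  left_inv _ := rfl
  right_inv _ := rfl
  map_mul' _ _ := rfl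

theorem infEquiv_apply (K H : Subgroup G) (n : K.subgroupOf H) :
    ((infEquiv K H n : (K ⊓ H : Subgroup G)) : G) = ((n : H) : G) := rfl

variable [Finite G]

/-- **The Glauberman correspondent of an invariant `θ ∈ Irr(K)` in `C_K(R)`**, as a character of
the subgroup `K.subgroupOf H` of `H = C_G(R)`: the unique irreducible constituent of the
restriction of `θ` with multiplicity prime to `p`. -/
theorem exists_glauberman (p : ℕ) [hp : Fact p.Prime] (K R : Subgroup G) [hK : K.Normal]
    (hpK : ¬ p ∣ Nat.card K) (hR : IsPGroup p R) (θ : IrrCharacter K)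
    (hθ : ∀ g : G, IsConjCharOf K g (θ : K → ℂ) (θ : K → ℂ))
    (H : Subgroup G) (hH : H = Subgroup.centralizer (R : Set G))
    [Fintype (K.subgroupOf H)] :
    ∃ β : IrrCharacter (K.subgroupOf H),
    ∃ m : IrrCharacter (K.subgroupOf H) → ℕ,
      (∀ β' : IrrCharacter (K.subgroupOf H),
        classInner (resFun K H (θ : K → ℂ)) (β' : K.subgroupOf H → ℂ) = (m β' : ℂ)) ∧
      ¬ p ∣ m β ∧ ∀ β', ¬ p ∣ m β' → β' = β := by
  classical
  have hCK : K ⊓ H ≤ K := inf_le_left
  have hRN : R ≤ Subgroup.normalizer (K : Set G) := by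
    rw [Subgroup.normalizer_eq_top_iff.mpr hK]
    exact le_top
  have hcop : (Nat.card K).Coprime (Nat.card R) := by
    obtain ⟨k, hk⟩ := hR.exists_card_eq
    rw [hk]
    exact Nat.Coprime.pow_right k ((Nat.Prime.coprime_iff_not_dvd hp.out).mpr hpK).symm
  have pc := pcorr_pgroup p hp.out (Nat.card R) K R (K ⊓ H) rfl hRN hR hcop (by rw [hH]) hCK
  have hθmem : θ ∈ {χ : IrrCharacter K | ∀ s ∈ R, InvAt K (χ : K → ℂ) s} := by
    intro s _
    exact hθ s
  obtain ⟨β₀, hβ₀, huniq⟩ := pc.exU θ hθmem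
  let e := infEquiv K H
  haveI : Fintype (K ⊓ H : Subgroup G) := Fintype.ofFinite _
  refine ⟨pullIrr e β₀, fun β' => mult (Subgroup.inclusion hCK) θ (pullIrr e.symm β'), ?_, ?_, ?_⟩
  · intro β'
    rw [← mult_spec (Subgroup.inclusion hCK) θ (pullIrr e.symm β')]
    unfold classInner
    rw [Nat.card_congr e.toEquiv]
    congr 1
    refine Fintype.sum_equiv e.toEquiv
      (fun n => resFun K H (θ : K → ℂ) n * (starRingEnd ℂ) ((β' : K.subgroupOf H → ℂ) n))
      (fun c => (θ : K → ℂ) (Subgroup.inclusion hCK c) *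
        (starRingEnd ℂ) ((pullIrr e.symm β' : (K ⊓ H : Subgroup G) → ℂ) c)) ?_
    intro n
    have h1 : (pullIrr e.symm β' : (K ⊓ H : Subgroup G) → ℂ) (e.toEquiv n) =
        (β' : K.subgroupOf H → ℂ) n := by
      rw [pullIrr_apply]
      exact congrArg _ (e.symm_apply_apply n)
    beta_reduce
    rw [h1]
    rfl
  · beta_reduce
    rw [pullIrr_symm']
    exact hβ₀
  · intro β' hβ'
    have := huniq _ hβ'
    rw [← this, pullIrr_symm]

/-- The unique constituent with multiplicity prime to `p` is invariant under `C_G(R)`. -/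
theorem glauberman_invariant (p : ℕ) (K H : Subgroup G) [hK : K.Normal]
    (θ : IrrCharacter K) (hθ : ∀ g : G, IsConjCharOf K g (θ : K → ℂ) (θ : K → ℂ))
    [Fintype (K.subgroupOf H)] [hN : (K.subgroupOf H).Normal]
    (β : IrrCharacter (K.subgroupOf H)) (m : IrrCharacter (K.subgroupOf H) → ℕ)
    (hm : ∀ β' : IrrCharacter (K.subgroupOf H),
      classInner (resFun K H (θ : K → ℂ)) (β' : K.subgroupOf H → ℂ) = (m β' : ℂ))
    (hβ : ¬ p ∣ m β) (huniq : ∀ β', ¬ p ∣ m β' → β' = β) (h : H) (n : K.subgroupOf H) :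
    (β : K.subgroupOf H → ℂ) ⟨h * n * h⁻¹, hN.conj_mem n n.2 h⟩ = (β : K.subgroupOf H → ℂ) n := by
  classical
  haveI : Fintype H := Fintype.ofFinite _
  have hconj : m (conjIrr (K.subgroupOf H) h β) = m β := by
    have h1 := hm (conjIrr (K.subgroupOf H) h β)
    have h2 := hm β
    have h3 : classInner (resFun K H (θ : K → ℂ))
        ((conjIrr (K.subgroupOf H) h β : IrrCharacter (K.subgroupOf H)) : K.subgroupOf H → ℂ) =
        classInner (resFun K H (θ : K → ℂ)) (β : K.subgroupOf H → ℂ) := by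
      unfold classInner
      congr 1
      -- reindex by conjugation with `h`
      let σ : K.subgroupOf H ≃ K.subgroupOf H :=
        { toFun := fun n => ⟨h * n * h⁻¹, hN.conj_mem n n.2 h⟩
          invFun := fun n => ⟨h⁻¹ * n * h, by
            have := hN.conj_mem n n.2 h⁻¹
            rwa [inv_inv] at this⟩
          left_inv := fun n => by
            apply Subtype.ext
            show h⁻¹ * (h * (n : H) * h⁻¹) * h = n
            group
          right_inv := fun n => by
            apply Subtype.ext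
            show h * (h⁻¹ * (n : H) * h) * h⁻¹ = n
            group }
      refine Fintype.sum_equiv σ _ _ ?_
      intro n
      have e1 : ((conjIrr (K.subgroupOf H) h β : IrrCharacter (K.subgroupOf H)) :
          K.subgroupOf H → ℂ) n = (β : K.subgroupOf H → ℂ) (σ n) := rfl
      have e2 : resFun K H (θ : K → ℂ) (σ n) = resFun K H (θ : K → ℂ) n := by
        rw [resFun_apply, resFun_apply]
        apply hθ (h : G)
        rfl
      rw [e1, e2]
    rw [h3, h2] at h1
    exact_mod_cast h1.symm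
  have := huniq (conjIrr (K.subgroupOf H) h β) (by rw [hconj]; exact hβ)
  have h4 := congrArg (fun ψ : IrrCharacter (K.subgroupOf H) => (ψ : K.subgroupOf H → ℂ) n) this
  exact h4

end Cfsg.Agent.Helper5.PrinType
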