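import Mathlib
import Cfsg.Prelude.Def_Blocks
import Cfsg.Prelude.Def_BlockLocal
import Cfsg.Agent.Helper5.PrinTypeA
import Cfsg.Agent.Helper5.PrinTypeB
import Cfsg.Agent.Helper5.PrinTypeC
import Cfsg.Agent.Helper5.PrinTypeD
import Cfsg.Agent.Helper5.FongCoverC

set_option autoImplicit false

/-!
# Principal type, part E: assembly
-/

namespace Cfsg.Agent.Helper5.PrinType

open Cfsg Subgroup Cfsg.Agent.Helper24 Cfsg.Agent.Helper5 Cfsg.Agent.Helper5.CC
  Cfsg.Agent.Helper5.Loc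

universe u

variable {G : Type u} [Group G]

/-- Cardinality bookkeeping: `|L ∩ H| = |K ∩ H| p^{s'}`. -/
theorem card_subgroupOf_eq [Finite G] {p : ℕ} [hp : Fact p.Prime] (K L H : Subgroup G)
    [hK : K.Normal] (hKL : K ≤ L) (s : ℕ) (hLs : Nat.card L = Nat.card K * p ^ s) :
    ∃ s' : ℕ, Nat.card (L.subgroupOf H) = Nat.card (K.subgroupOf H) * p ^ s' := by
  have hNL : K.subgroupOf H ≤ L.subgroupOf H := fun n hn => hKL hn
  have h1 : Nat.card (K.subgroupOf H) * (K.subgroupOf H).relIndex (L.subgroupOf H) =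
      Nat.card (L.subgroupOf H) := by
    have := relIndex_mul_relIndex (⊥ : Subgroup H) (K.subgroupOf H) (L.subgroupOf H) bot_le hNL
    rwa [relIndex_bot_left, relIndex_bot_left] at this
  have h2 : (K.subgroupOf H).relIndex (L.subgroupOf H) = K.relIndex (L ⊓ H) := by
    rw [← inf_subgroupOf_right L H, relIndex_subgroupOf inf_le_right]
  have h3 : K.relIndex (L ⊓ H) ∣ K.relIndex L := by
    rw [← relIndex_sup_right (L ⊓ H) K]
    have hA : K ≤ (L ⊓ H) ⊔ K := le_sup_right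
    have hAL : (L ⊓ H) ⊔ K ≤ L := sup_le inf_le_left hKL
    exact Dvd.intro _ (relIndex_mul_relIndex K ((L ⊓ H) ⊔ K) L hA hAL)
  have h4 : K.relIndex L = p ^ s := by
    have := relIndex_mul_relIndex (⊥ : Subgroup G) K L bot_le hKL
    rw [relIndex_bot_left, relIndex_bot_left, hLs] at this
    exact Nat.eq_of_mul_eq_mul_left Nat.card_pos this
  rw [h4] at h3
  obtain ⟨s', _, hs'⟩ := (Nat.dvd_prime_pow hp.out).mp h3
  refine ⟨s', ?_⟩
  rw [← h1, h2, hs']


/-- The restricted idempotent of `Irr(G | θ)` acts on `ξ ∈ Irr(H)` through the multiplicity of a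
constituent of `ξ` on `K ∩ H` in the restriction of `θ`. -/
theorem act_res_idem [Fintype G] (K H : Subgroup G) [hK : K.Normal] [Fintype K] [Fintype H]
    [hN : (K.subgroupOf H).Normal] [Fintype (K.subgroupOf H)] (θ : IrrCharacter K)
    (hinv : ∀ (g : G) (n : K), (θ : K → ℂ) ⟨g * n * g⁻¹, hK.conj_mem n n.2 g⟩ = (θ : K → ℂ) n)
    (ξ : IrrCharacter H) (β' : IrrCharacter (K.subgroupOf H))
    (hcon : classInner (fun n : K.subgroupOf H => (ξ : H → ℂ) n)
      (β' : K.subgroupOf H → ℂ) ≠ 0) (m : ℕ)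
    (hm : classInner (resFun K H (θ : K → ℂ)) (β' : K.subgroupOf H → ℂ) = (m : ℂ)) :
    act (fun h : H => idem K θ (h : G)) ξ =
      (Nat.card K : ℂ)⁻¹ * (θ : K → ℂ) 1 * (Nat.card (K.subgroupOf H) : ℂ) * (m : ℂ) /
        (β' : K.subgroupOf H → ℂ) 1 := by
  classical
  have hcf := isClassFunction_idem K θ hinv
  have hc : IsClassFunction H (fun h : H => idem K θ (h : G)) := by
    intro h x
    simp only [Subgroup.coe_mul, Subgroup.coe_inv]
    exact hcf (h : G) (x : G)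
  have hsupp : ∀ t : H, t ∉ K.subgroupOf H → (fun h : H => idem K θ (h : G)) t = 0 := by
    intro t ht
    exact idem_of_not_mem K θ ht
  rw [act_of_support (K.subgroupOf H) ξ β' hcon _ hc hsupp]
  congr 1
  have hcard : (Nat.card (K.subgroupOf H) : ℂ) ≠ 0 := by
    have : Nat.card (K.subgroupOf H) ≠ 0 := Nat.card_pos.ne'
    exact_mod_cast this
  have h1 : ∀ t : K.subgroupOf H, idem K θ (((t : H) : G)) * (β' : K.subgroupOf H → ℂ) t =
      (Nat.card K : ℂ)⁻¹ * (θ : K → ℂ) 1 *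
        ((starRingEnd ℂ) (resFun K H (θ : K → ℂ) t) * (β' : K.subgroupOf H → ℂ) t) := by
    intro t
    have ht : ((t : H) : G) ∈ K := t.2
    rw [idem_of_mem K θ ht, resFun_apply]
    ring
  simp_rw [h1]
  rw [← Finset.mul_sum]
  have h2 : ∑ t : K.subgroupOf H, resFun K H (θ : K → ℂ) t *
      (starRingEnd ℂ) ((β' : K.subgroupOf H → ℂ) t) = (Nat.card (K.subgroupOf H) : ℂ) * (m : ℂ) := by
    rw [← hm, classInner, ← mul_assoc, mul_inv_cancel₀ hcard, one_mul]
  have h3 : ∑ t : K.subgroupOf H, (starRingEnd ℂ) (resFun K H (θ : K → ℂ) t) *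
      (β' : K.subgroupOf H → ℂ) t = (Nat.card (K.subgroupOf H) : ℂ) * (m : ℂ) := by
    have := congrArg (starRingEnd ℂ) h2
    rw [map_sum, map_mul, map_natCast, map_natCast] at this
    rw [← this]
    refine Finset.sum_congr rfl fun t _ => ?_
    rw [map_mul, Complex.conj_conj]
  rw [h3]
  ring

/-- The scalar of `act_res_idem` lies in the local ideal iff `p` divides the multiplicity. -/
theorem li_scalar_iff {p : ℕ} [hp : Fact p.Prime] {M : Ideal AlgInt} (hM : IsPModular p M)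
    {a b c d m : ℕ} (ha : ¬ p ∣ a) (hb : ¬ p ∣ b) (hc : ¬ p ∣ c) (hd : ¬ p ∣ d) :
    MemLocalIdeal M ((a : ℂ)⁻¹ * (b : ℂ) * (c : ℂ) * (m : ℂ) / (d : ℂ)) ↔ p ∣ m := by
  have hMp := isPrime_of_isPModular hM
  have hne : ∀ {n : ℕ}, ¬ p ∣ n → (n : ℂ) ≠ 0 := by
    intro n hn h0
    apply hn
    have : n = 0 := by exact_mod_cast h0
    rw [this]
    exact dvd_zero p
  have ha0 := hne ha
  have hb0 := hne hb
  have hc0 := hne hc
  have hd0 := hne hd
  set u : ℂ := (a : ℂ)⁻¹ * (b : ℂ) * (c : ℂ) * (d : ℂ)⁻¹ with hu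
  set v : ℂ := (a : ℂ) * (b : ℂ)⁻¹ * (c : ℂ)⁻¹ * (d : ℂ) with hv
  have huv : v * u = 1 := by
    rw [hu, hv]
    field_simp
  have hulr : MemLocalRing M u :=
    lr_mul hMp (lr_mul hMp (lr_mul hMp (memLocalRing_inv_natCast hM ha) (memLocalRing_natCast hMp b))
      (memLocalRing_natCast hMp c)) (memLocalRing_inv_natCast hM hd)
  have hvlr : MemLocalRing M v :=
    lr_mul hMp (lr_mul hMp (lr_mul hMp (memLocalRing_natCast hMp a) (memLocalRing_inv_natCast hM hb))
      (memLocalRing_inv_natCast hM hc)) (memLocalRing_natCast hMp d)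
  have hexpr : (a : ℂ)⁻¹ * (b : ℂ) * (c : ℂ) * (m : ℂ) / (d : ℂ) = u * (m : ℂ) := by
    rw [hu]
    field_simp
  rw [hexpr, ← memLocalIdeal_natCast_iff hM m]
  constructor
  · intro h
    have := li_mul_left hMp hvlr h
    rwa [← mul_assoc, huv, one_mul] at this
  · intro h
    exact li_mul_left hMp hulr h


/-- **Blocks of principal type.** In the situation of `fong_cover`, for every `p`-subgroup `R`
exactly one block of `C_G(R)` induces the block `Irr(G | θ)`. -/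
theorem principal_type [Fintype G] {p : ℕ} [hp : Fact p.Prime] {M : Ideal AlgInt}
    (hM : IsPModular p M) (K L : Subgroup G) [hK : K.Normal] [hL : L.Normal] [Fintype K]
    (hKL : K ≤ L) (hpK : ¬ p ∣ Nat.card K) (s : ℕ) (hLs : Nat.card L = Nat.card K * p ^ s)
    (hHH : ∀ x : G, ¬ p ∣ orderOf x → x ∉ K → ∃ m ∈ L, x * m * x⁻¹ * m⁻¹ ∉ K)
    (θ : IrrCharacter K) (hθ : ∀ g : G, IsConjCharOf K g (θ : K → ℂ) (θ : K → ℂ))
    (B : Set (IrrCharacter G)) (hB : IsPBlock M B)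
    (hBdef : ∀ χ : IrrCharacter G, χ ∈ B ↔
      classInner (fun k : K => (χ : G → ℂ) k) (θ : K → ℂ) ≠ 0)
    (R : Subgroup G) (hR : IsPGroup p R) :
    ∃! f : Set (IrrCharacter (centralizer (R : Set G))),
      IsInducedBlock M (centralizer (R : Set G)) f B := by
  classical
  have hMp := isPrime_of_isPModular hM
  obtain ⟨H, hH⟩ : ∃ H : Subgroup G, H = centralizer (R : Set G) := ⟨_, rfl⟩
  rw [← hH]
  haveI : Fintype H := Fintype.ofFinite _
  haveI : Fintype (IrrCharacter G) := Fintype.ofFinite _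
  haveI : Fintype (IrrCharacter H) := Fintype.ofFinite _
  haveI hNn : (K.subgroupOf H).Normal := hK.subgroupOf H
  haveI hLn : (L.subgroupOf H).Normal := hL.subgroupOf H
  haveI : Fintype (K.subgroupOf H) := Fintype.ofFinite _
  have hinv : ∀ (g : G) (n : K),
      (θ : K → ℂ) ⟨g * n * g⁻¹, hK.conj_mem n n.2 g⟩ = (θ : K → ℂ) n :=
    fun g n => hθ g n _ rfl
  have hpN : ¬ p ∣ Nat.card (K.subgroupOf H) := by
    intro h
    apply hpK
    have h1 : Nat.card (K.subgroupOf H) = Nat.card (K ⊓ H : Subgroup G) :=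
      Nat.card_congr (infEquiv K H).toEquiv
    have h2 : Nat.card (K ⊓ H : Subgroup G) ∣ Nat.card K := Subgroup.card_dvd_of_le inf_le_left
    rw [h1] at h
    exact dvd_trans h h2
  obtain ⟨s', hs'⟩ := card_subgroupOf_eq (p := p) K L H hKL s hLs
  have hNL : K.subgroupOf H ≤ L.subgroupOf H := fun n hn => hKL hn
  have hHH' : ∀ x : H, ¬ p ∣ orderOf x → x ∉ K.subgroupOf H →
      ∃ m ∈ L.subgroupOf H, x * m * x⁻¹ * m⁻¹ ∉ K.subgroupOf H := by
    intro x hx hxN
    have hxR : (x : G) ∈ centralizer (R : Set G) := hH ▸ x.2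
    obtain ⟨m, hm, hxm⟩ := hHH_centralizer K L hKL hpK s hLs hHH R hR (x : G) hxR
      (by rwa [Subgroup.orderOf_coe]) hxN
    refine ⟨⟨m, hH ▸ hm.2⟩, hm.1, ?_⟩
    exact hxm
  obtain ⟨β, m, hm, hβ, huniq⟩ := exists_glauberman p K R hpK hR θ hθ H hH
  have hβinv := glauberman_invariant p K H θ hθ β m hm hβ huniq
  obtain ⟨f, hf, hfmem, -, -⟩ := FongCover.fong_cover (K.subgroupOf H) hM hpN (L.subgroupOf H)
    hNL s' hs' hHH' β hβinv
  have hcoeff : blockCoeff B = idem K θ := blockCoeff_eq_idem K θ hinv B hBdef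
  have hdθ : ¬ p ∣ irrDeg θ := fun h => hpK (dvd_trans h (irrDeg_dvd_card θ))
  -- the criterion
  have hcrit : ∀ (ξ : IrrCharacter H) (β' : IrrCharacter (K.subgroupOf H)),
      classInner (fun n : K.subgroupOf H => (ξ : H → ℂ) n) (β' : K.subgroupOf H → ℂ) ≠ 0 →
      (IsInducedBlock M H (blockOf M (ξ : H → ℂ)) B ↔ ¬ p ∣ m β') := by
    intro ξ β' hcon
    have hdβ : ¬ p ∣ irrDeg β' := fun h => hpN (dvd_trans h (irrDeg_dvd_card β'))
    rw [isInducedBlock_iff_act hM R hR H hH.le hH.ge B hB ξ, hcoeff,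
      act_res_idem K H θ hinv ξ β' hcon (m β') (hm β'), irrDeg_spec θ, irrDeg_spec β',
      li_scalar_iff hM hpK hdθ hpN hdβ]
  refine ⟨f, ?_, ?_⟩
  · obtain ⟨ξ₀, hξ₀⟩ := IsPBlock.nonempty hMp hf
    rw [IsPBlock_eq_blockOf hMp hf hξ₀]
    exact (hcrit ξ₀ β ((hfmem ξ₀).mp hξ₀)).mpr hβ
  · intro f' hf'
    obtain ⟨ξ, hξ⟩ := IsPBlock.nonempty hMp hf'.1
    have hf'eq := IsPBlock_eq_blockOf hMp hf'.1 hξ
    obtain ⟨β', hβ'⟩ := exists_constituent_restrict (K.subgroupOf H) ξ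
    rw [hf'eq] at hf'
    have h1 := (hcrit ξ β' hβ').mp hf'
    have h2 := huniq β' h1
    rw [h2] at hβ'
    have hξf : ξ ∈ f := (hfmem ξ).mpr hβ'
    rw [hf'eq, IsPBlock_eq_blockOf hMp hf hξf]

end Cfsg.Agent.Helper5.PrinType
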