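import Mathlib
import Cfsg.Prelude.Def_Blocks
import Cfsg.Agent.Helper23.PrincipalBlock
import Cfsg.Agent.Helper5.BlockGalois
import Cfsg.Agent.Helper5.QuotPPrime
import Cfsg.Agent.Helper5.QuotP
import Cfsg.Agent.Helper5.ThirdMain
import Cfsg.Agent.Helper8.RationalValue
import Cfsg.Agent.Helper24.Product
import Cfsg.Agent.Helper24.RealChar
import Cfsg.Agent.Helper24.ColumnOrth
import Cfsg.Agent.Helper24.Abelian

set_option autoImplicit false
set_option linter.unusedSectionVars false
set_option linter.unusedVariables false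

/-!
# Sums of squared character values over the principal block
-/

namespace Cfsg.Agent.Helper5.PL

open Cfsg Cfsg.Agent.Helper24 Cfsg.Agent.Helper5 Cfsg.Agent.Helper5.Loc Cfsg.Agent.Helper5.CC
open Cfsg.Agent.Helper5.BG

theorem finsum_mem_eq_sum_filter {ι α : Type*} [Fintype ι] [AddCommMonoid α] (B : Set ι)
    [DecidablePred (· ∈ B)] (f : ι → α) :
    ∑ᶠ i ∈ B, f i = ∑ i ∈ Finset.univ.filter (· ∈ B), f i := by
  rw [finsum_mem_eq_finite_toFinset_sum f (Set.toFinite B)]
  congr 1
  ext i
  simp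

variable {G : Type*} [Group G] [Fintype G] [Fintype (IrrCharacter G)] {M : Ideal AlgInt}

/-- The principal block is stable under the Galois conjugations `χ ↦ χ(· ^ k)`. -/
theorem powIrr_mem_principalBlock {p : ℕ} [Fact p.Prime] (hM : IsPModular p M) (k : ℕ)
    (hk : k.Coprime (Nat.card G)) (χ : IrrCharacter G) (hχ : χ ∈ principalBlock M G) :
    powIrr k hk χ ∈ principalBlock M G := by
  have h1 : SameBlock M ((trivIrr G : IrrCharacter G) : G → ℂ) (χ : G → ℂ) := hχ
  have h2 := sameBlock_powIrr hM k hk (trivIrr G) χ h1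
  exact h2

/-- **The sum of `|χ(x)|²` over the principal block is an integer.** -/
theorem exists_int_sum_principal {p : ℕ} [Fact p.Prime] (hM : IsPModular p M)
    [DecidablePred (· ∈ principalBlock M G)] (x : G) :
    ∃ n : ℤ, ∑ χ ∈ Finset.univ.filter (· ∈ principalBlock M G),
      (χ : G → ℂ) x * (starRingEnd ℂ) ((χ : G → ℂ) x) = n := by
  classical
  have : Finite G := Finite.of_fintype G
  set s := Finset.univ.filter (fun χ : IrrCharacter G => χ ∈ principalBlock M G) with hs
  set Ψ : G → ℂ := ∑ χ ∈ s, ((χ : G → ℂ) * fun g => (starRingEnd ℂ) ((χ : G → ℂ) g)) with hΨ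
  have hΨc : IsCharacter G Ψ := by
    apply isCharacter_sum
    intro χ _
    exact IsCharacter.mul (IsIrrCharacter.isCharacter χ.2)
      (isCharacter_star (IsIrrCharacter.isCharacter χ.2))
  have hΨa : ∀ g : G, Ψ g = ∑ χ ∈ s, (χ : G → ℂ) g * (starRingEnd ℂ) ((χ : G → ℂ) g) := by
    intro g
    rw [hΨ, Finset.sum_apply]
    rfl
  have hinv : ∀ k : ℕ, k.Coprime (Nat.card G) → Ψ (x ^ k) = Ψ x := by
    intro k hk
    rw [hΨa, hΨa]
    have himg : s.image (powIrr k hk) = s := by
      apply Finset.eq_of_subset_of_card_le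
      · intro χ' hχ'
        obtain ⟨χ, hχ, rfl⟩ := Finset.mem_image.mp hχ'
        rw [hs, Finset.mem_filter] at hχ ⊢
        exact ⟨Finset.mem_univ _, powIrr_mem_principalBlock hM k hk χ hχ.2⟩
      · rw [Finset.card_image_of_injective _ (powIrr_injective k hk)]
    conv_rhs => rw [← himg]
    rw [Finset.sum_image (fun a _ b _ h => powIrr_injective k hk h)]
    rfl
  obtain ⟨n, hn⟩ := Cfsg.Agent.Helper8.char_int_of_pow_invariant hΨc x hinv
  exact ⟨n, by rw [← hΨa, hn]⟩

section Quot

variable (N : Subgroup G) [hN : N.Normal]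

theorem infl_injective : Function.Injective (infl N) := by
  intro ψ ψ' h
  apply Subtype.ext
  funext q
  obtain ⟨g, rfl⟩ := QuotientGroup.mk_surjective q
  have := congrFun (congrArg Subtype.val h) g
  exact this

theorem infl_trivIrr : infl N (trivIrr (G ⧸ N)) = trivIrr G := by
  apply Subtype.ext
  funext g
  rfl

end Quot

/-- Inflation is a bijection between the principal blocks of `G ⧸ O_{p'}(G)` and `G`. -/
theorem bijOn_infl_principalBlock {p : ℕ} [hp : Fact p.Prime] (hM : IsPModular p M)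
    [hN : (pPrimeCore p G).Normal] :
    Set.BijOn (infl (pPrimeCore p G)) (principalBlock M (G ⧸ pPrimeCore p G))
      (principalBlock M G) := by
  classical
  have hMp := isPrime_of_isPModular hM
  have : Finite G := Finite.of_fintype G
  have : Fintype (G ⧸ pPrimeCore p G) := Fintype.ofFinite _
  have hcop : (Nat.card (pPrimeCore p G)).Coprime p := Cfsg.Agent.Helper19.pPrimeCore_coprime p
  have hpN : ¬ p ∣ Nat.card (pPrimeCore p G) := by
    intro hdvd
    have h1 : p ∣ Nat.gcd (Nat.card (pPrimeCore p G)) p := Nat.dvd_gcd hdvd dvd_rfl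
    rw [hcop] at h1
    exact hp.out.one_lt.ne' (Nat.dvd_one.mp h1)
  refine ⟨?_, (infl_injective _).injOn, ?_⟩
  · intro ψ hψ
    exact Cfsg.Agent.Helper23.PB.inflation_mem_principalBlock hMp (pPrimeCore p G) ψ hψ
      (infl (pPrimeCore p G) ψ) (fun g => rfl)
  · intro χ hχ
    have hker := Cfsg.Agent.Helper23.PB.eq_one_of_mem_principalBlock hM χ hχ
    obtain ⟨ψ, hψ⟩ := Cfsg.Agent.Helper23.PB.exists_irr_quotient (pPrimeCore p G) χ hker
    have hinfl : infl (pPrimeCore p G) ψ = χ := by
      apply Subtype.ext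
      funext g
      exact hψ g
    refine ⟨ψ, ?_, hinfl⟩
    have h1 : SameBlock M ((infl (pPrimeCore p G) (trivIrr (G ⧸ pPrimeCore p G)) :
        IrrCharacter G) : G → ℂ) ((infl (pPrimeCore p G) ψ : IrrCharacter G) : G → ℂ) := by
      rw [infl_trivIrr, hinfl]
      exact hχ
    exact sameBlock_of_infl (pPrimeCore p G) hM hpN (trivIrr _) ψ h1

end Cfsg.Agent.Helper5.PL
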