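import Mathlib
import Cfsg.Prelude.Def_Blocks
import Cfsg.Agent.Helper5.PrincipalNormal
import Cfsg.Agent.Helper5.CenterFunctional

set_option autoImplicit false
set_option linter.unusedSectionVars false
set_option linter.unusedVariables false

/-!
# Characters of degree prime to `p` in the principal block over a given character
-/

namespace Cfsg.Agent.Helper5.PN

open Cfsg Cfsg.Agent.Helper24 Cfsg.Agent.Helper5 Cfsg.Agent.Helper5.Loc Cfsg.Agent.Helper5.CC

variable {G : Type*} [Group G] [Fintype G] {M : Ideal AlgInt}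

omit [Fintype G] in
theorem regInd_conj (p : ℕ) (t : G) : (starRingEnd ℂ) (regInd p t) = regInd p t := by
  unfold regInd; split_ifs <;> simp

/-- If `H` has index prime to `p` and the sum of `η ∈ Irr(H)` over the `p`-regular elements of `H`
is a unit of the local ring, then the induced character `η^G` has a constituent of degree prime to
`p` in the principal block. -/
theorem exists_principal_pprime_constituent {p : ℕ} [hp : Fact p.Prime] (hM : IsPModular p M)
    (H : Subgroup G) [Fintype H] (hidx : ¬ p ∣ H.index) (η : IrrCharacter H)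
    (hη : ¬ MemLocalIdeal M (∑ h : H, regInd p h * (η : H → ℂ) h)) :
    ∃ χ : IrrCharacter G, χ ∈ principalBlock M G ∧ ¬ p ∣ irrDeg χ ∧
      classInner (indFun H (η : H → ℂ)) (χ : G → ℂ) ≠ 0 := by
  classical
  have hMp := isPrime_of_isPModular hM
  have : Finite G := Finite.of_fintype G
  have : Fintype (IrrCharacter G) := Fintype.ofFinite _
  have hGne : (Nat.card G : ℂ) ≠ 0 := by
    have : 0 < Nat.card G := Nat.card_pos
    exact_mod_cast this.ne'
  have hHne : (Nat.card H : ℂ) ≠ 0 := by
    have : 0 < Nat.card H := Nat.card_pos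
    exact_mod_cast this.ne'
  set A : ℂ := ∑ h : H, regInd p h * (η : H → ℂ) h with hA
  have hcfr : IsClassFunction G (regInd p) := isClassFunction_regInd p
  have hfrob := Cfsg.Agent.Helper8.frobenius_reciprocity H (η : H → ℂ) (regInd p) hcfr
  have hrhs : classInner (η : H → ℂ) (fun h : H => regInd p (h : G)) = (Nat.card H : ℂ)⁻¹ * A := by
    rw [classInner, hA]
    congr 1
    refine Finset.sum_congr rfl fun h _ => ?_
    rw [regInd_conj, regInd_coe, mul_comm]
  have hind : IsCharacter G (indFun H (η : H → ℂ)) :=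
    isCharacter_indFun H (IsIrrCharacter.isCharacter η.2)
  obtain ⟨a, ha⟩ := IsCharacter.exists_nat_coeff hind
  have hcoef : ∀ χ : IrrCharacter G, classInner (indFun H (η : H → ℂ)) (χ : G → ℂ) = a χ := by
    intro χ
    rw [ha]
    exact classInner_sum_irr _ χ
  have hinner : ∀ χ : IrrCharacter G, classInner (χ : G → ℂ) (regInd p) =
      (Nat.card G : ℂ)⁻¹ * ((χ : G → ℂ) 1 * act (regInd p) χ) := by
    intro χ
    rw [classInner, act, mul_div_cancel₀ _ (irr_one_ne_zero χ)]
    congr 1
    refine Finset.sum_congr rfl fun g _ => ?_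
    rw [regInd_conj, mul_comm]
  have hlhs : classInner (indFun H (η : H → ℂ)) (regInd p) = (Nat.card G : ℂ)⁻¹ *
      ∑ χ : IrrCharacter G, (a χ : ℂ) * ((χ : G → ℂ) 1 * act (regInd p) χ) := by
    nth_rewrite 1 [ha]
    rw [classInner_sum_left, Finset.mul_sum]
    refine Finset.sum_congr rfl fun χ _ => ?_
    rw [classInner_smul_left, hinner χ]
    ring
  -- the key identity
  have hkey : (H.index : ℂ) * A =
      ∑ χ : IrrCharacter G, (a χ : ℂ) * ((χ : G → ℂ) 1 * act (regInd p) χ) := by
    have h1 : (Nat.card G : ℂ) = (H.index : ℂ) * (Nat.card H : ℂ) := by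
      rw [← Nat.cast_mul, mul_comm, Subgroup.card_mul_index]
    have h2 := hfrob
    rw [hlhs, hrhs] at h2
    have h3 : (∑ χ : IrrCharacter G, (a χ : ℂ) * ((χ : G → ℂ) 1 * act (regInd p) χ)) =
        (Nat.card G : ℂ) * ((Nat.card H : ℂ)⁻¹ * A) := by
      rw [← h2, ← mul_assoc, mul_inv_cancel₀ hGne, one_mul]
    rw [h3, h1]
    field_simp
  by_contra hcon
  push Not at hcon
  apply hη
  have hidxli : ¬ MemLocalIdeal M (H.index : ℂ) := fun h =>
    hidx ((memLocalIdeal_natCast_iff hM _).mp h)
  have hAR : MemLocalRing M A := by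
    apply lr_sum hMp
    intro h _
    exact lr_mul hMp (lr_regInd hMp p h) (memLocalRing_of_isIntegral hMp (irr_isIntegral η h))
  have hli : MemLocalIdeal M ((H.index : ℂ) * A) := by
    rw [hkey]
    apply li_sum hMp
    intro χ _
    by_cases hχ : χ ∈ principalBlock M G
    · by_cases ha0 : a χ = 0
      · rw [ha0]; simp only [Nat.cast_zero, zero_mul]; exact memLocalIdeal_zero hMp
      · have hne : classInner (indFun H (η : H → ℂ)) (χ : G → ℂ) ≠ 0 := by
          rw [hcoef χ]; exact_mod_cast ha0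
        have hp : p ∣ irrDeg χ := by
          by_contra hnp
          exact hne (hcon χ hχ hnp)
        apply li_mul_left hMp (memLocalRing_natCast hMp _)
        apply li_mul_right hMp _ (act_lr hMp (isClassFunction_regInd p) (lr_regInd hMp p) χ)
        rw [irrDeg_spec, memLocalIdeal_natCast_iff hM]
        exact hp
    · rw [act_regInd_eq_zero_of_not_mem hM χ hχ, mul_zero, mul_zero]
      exact memLocalIdeal_zero hMp
  rcases li_of_mul hMp (memLocalRing_natCast hMp _) hAR hli with h | h
  · exact absurd h hidxli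
  · exact h

/-- **A character of degree prime to `p` in the principal block over an extendible character.** -/
theorem exists_principal_pprime_over' {p : ℕ} [hp : Fact p.Prime] (hM : IsPModular p M)
    (N : Subgroup G) [hN : N.Normal] [Fintype N] (P : Sylow p G) (θ : IrrCharacter N)
    (hθ : θ ∈ principalBlock M N) (hdeg : ¬ p ∣ irrDeg θ)
    (H : Subgroup G) (hNle : N ≤ H) (hPle : (P : Subgroup G) ≤ H)
    (hNH : ∃ k : ℕ, (N.subgroupOf H).index = p ^ k)
    (η : IrrCharacter H)
    (hext : ∀ n : N, (η : H → ℂ) (Subgroup.inclusion hNle n) = (θ : N → ℂ) n) :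
    ∃ χ : IrrCharacter G, χ ∈ principalBlock M G ∧ ¬ p ∣ irrDeg χ ∧
      classInner (fun n : N => (χ : G → ℂ) n) (θ : N → ℂ) ≠ 0 := by
  classical
  have hMp := isPrime_of_isPModular hM
  have : Finite G := Finite.of_fintype G
  have : Fintype H := Fintype.ofFinite H
  have : Fintype (IrrCharacter H) := Fintype.ofFinite _
  have : Fintype (IrrCharacter N) := Fintype.ofFinite _
  set ι : N →* H := Subgroup.inclusion hNle with hι
  have hιinj : Function.Injective ι := Subgroup.inclusion_injective _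
  have hιcoe : ∀ n : N, ((ι n : H) : G) = (n : G) := fun n => rfl
  -- the index of `H`
  have hidxH : ¬ p ∣ H.index := by
    intro h
    have h1 : H.index ∣ (P : Subgroup G).index := Subgroup.index_dvd_of_le hPle
    exact P.not_dvd_index (h.trans h1)
  have hregN : ∀ h : H, ¬ p ∣ orderOf h → (h : G) ∈ N := by
    intro h hh
    have := mem_of_regular_of_index_pow (N.subgroupOf H) hNH h hh
    exact Subgroup.mem_subgroupOf.mp this
  -- Step 1
  have hA : ∑ h : H, regInd p h * (η : H → ℂ) h = ∑ n : N, regInd p n * (θ : N → ℂ) n := by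
    have e1 : ∑ n : N, regInd p n * (θ : N → ℂ) n =
        ∑ n : N, regInd p (ι n) * (η : H → ℂ) (ι n) := by
      refine Finset.sum_congr rfl fun n _ => ?_
      rw [hext n]
      congr 1
      rw [← regInd_coe p H (ι n), hιcoe, regInd_coe]
    rw [e1]
    have e2 : ∑ n : N, regInd p (ι n) * (η : H → ℂ) (ι n) =
        ∑ h ∈ Finset.univ.map ⟨ι, hιinj⟩, regInd p h * (η : H → ℂ) h := by
      rw [Finset.sum_map]
      rfl
    rw [e2]
    symm
    apply Finset.sum_subset (Finset.subset_univ _)
    intro h _ hh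
    by_cases hreg : p ∣ orderOf h
    · rw [regInd_of_dvd hreg, zero_mul]
    · exfalso
      apply hh
      rw [Finset.mem_map]
      exact ⟨⟨(h : G), hregN h hreg⟩, Finset.mem_univ _, Subtype.ext rfl⟩
  -- Step 2
  have hθ1 : (θ : N → ℂ) 1 ≠ 0 := irr_one_ne_zero θ
  have hact : ¬ MemLocalIdeal M (act (regInd p) θ) := by
    intro h
    have h2 := act_sub_act_memLocalIdeal hMp (isClassFunction_regInd (G := N) p)
      (fun t => lr_regInd hMp p t) (χ := trivIrr N) (ψ := θ) hθ
    have h3 := li_add hMp h2 h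
    rw [sub_add_cancel, act_regInd_trivIrr] at h3
    exact not_memLocalIdeal_sum_regInd hM h3
  have hAN : ¬ MemLocalIdeal M (∑ n : N, regInd p n * (θ : N → ℂ) n) := by
    have e : ∑ n : N, regInd p n * (θ : N → ℂ) n = (θ : N → ℂ) 1 * act (regInd p) θ := by
      rw [act, mul_div_cancel₀ _ hθ1]
    rw [e]
    intro h
    rcases li_of_mul hMp (by rw [irrDeg_spec]; exact memLocalRing_natCast hMp _)
      (act_lr hMp (isClassFunction_regInd p) (lr_regInd hMp p) θ) h with h1 | h1
    · rw [irrDeg_spec, memLocalIdeal_natCast_iff hM] at h1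
      exact hdeg h1
    · exact hact h1
  rw [← hA] at hAN
  -- Step 3
  obtain ⟨χ, hχ, hχdeg, hχη⟩ := exists_principal_pprime_constituent hM H hidxH η hAN
  refine ⟨χ, hχ, hχdeg, ?_⟩
  -- Step 4
  have hres : IsCharacter H (fun h : H => (χ : G → ℂ) h) :=
    Cfsg.Agent.Helper8.isCharacter_restrict H (IsIrrCharacter.isCharacter χ.2)
  obtain ⟨m, hm⟩ := IsCharacter.exists_nat_coeff hres
  have hmη : m η ≠ 0 := by
    intro h0
    apply hχη
    rw [Cfsg.Agent.Helper8.frobenius_reciprocity H (η : H → ℂ) (χ : G → ℂ)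
      (isClassFunction_irr χ), ← classInner_conj_symm, hm, classInner_sum_irr, h0]
    simp
  have hk : ∀ ξ : IrrCharacter H, ∃ k : ℕ,
      classInner (fun n : N => (ξ : H → ℂ) (ι n)) (θ : N → ℂ) = k := fun ξ =>
    IsCharacter.classInner_irr_nat
      (Cfsg.Agent.Helper8.isCharacter_comp ι (IsIrrCharacter.isCharacter ξ.2)) θ
  choose k hk using hk
  have hkη : k η = 1 := by
    have h1 : (fun n : N => (η : H → ℂ) (ι n)) = (θ : N → ℂ) := funext hext
    have h2 := hk η
    rw [h1, classInner_irr_self] at h2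
    exact_mod_cast h2.symm
  have hfun : (fun n : N => (χ : G → ℂ) n) =
      ∑ ξ : IrrCharacter H, (m ξ : ℂ) • (fun n : N => (ξ : H → ℂ) (ι n)) := by
    funext n
    have h1 := congrFun hm (ι n)
    rw [Finset.sum_apply] at h1 ⊢
    simp only [Pi.smul_apply, smul_eq_mul] at h1 ⊢
    rw [← h1, hιcoe]
  rw [hfun, classInner_sum_left]
  have e3 : ∑ ξ : IrrCharacter H, classInner ((m ξ : ℂ) • fun n : N => (ξ : H → ℂ) (ι n))
      (θ : N → ℂ) = ((∑ ξ : IrrCharacter H, m ξ * k ξ : ℕ) : ℂ) := by
    push_cast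
    refine Finset.sum_congr rfl fun ξ _ => ?_
    rw [classInner_smul_left, hk ξ]
  rw [e3]
  have hpos : 0 < ∑ ξ : IrrCharacter H, m ξ * k ξ := by
    have h1 : m η * k η ≤ ∑ ξ : IrrCharacter H, m ξ * k ξ :=
      Finset.single_le_sum (f := fun ξ : IrrCharacter H => m ξ * k ξ)
        (fun _ _ => Nat.zero_le _) (Finset.mem_univ η)
    rw [hkη, mul_one] at h1
    exact lt_of_lt_of_le (Nat.pos_of_ne_zero hmη) h1
  exact_mod_cast hpos.ne'

/-- The version for `H = N ⊔ P`. -/
theorem exists_principal_pprime_over {p : ℕ} [hp : Fact p.Prime] (hM : IsPModular p M)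
    (N : Subgroup G) [hN : N.Normal] [Fintype N] (P : Sylow p G) (θ : IrrCharacter N)
    (hθ : θ ∈ principalBlock M N) (hdeg : ¬ p ∣ irrDeg θ)
    (η : IrrCharacter ↥(N ⊔ (P : Subgroup G)))
    (hext : ∀ n : N, (η : ↥(N ⊔ (P : Subgroup G)) → ℂ) (Subgroup.inclusion le_sup_left n) =
      (θ : N → ℂ) n) :
    ∃ χ : IrrCharacter G, χ ∈ principalBlock M G ∧ ¬ p ∣ irrDeg χ ∧
      classInner (fun n : N => (χ : G → ℂ) n) (θ : N → ℂ) ≠ 0 := by
  have : Finite G := Finite.of_fintype G
  have hNH : ∃ k : ℕ, (N.subgroupOf (N ⊔ (P : Subgroup G))).index = p ^ k := by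
    have h1 : (N.subgroupOf (N ⊔ (P : Subgroup G))).index = N.relIndex (P : Subgroup G) := by
      show N.relIndex (N ⊔ (P : Subgroup G)) = _
      rw [Subgroup.relIndex_sup_left]
    rw [h1]
    have h2 : N.relIndex (P : Subgroup G) ∣ Nat.card (P : Subgroup G) :=
      Subgroup.relIndex_dvd_card _ _
    obtain ⟨n, hn⟩ := IsPGroup.iff_card.mp P.isPGroup'
    rw [hn] at h2
    obtain ⟨k, -, hk⟩ := (Nat.dvd_prime_pow hp.out).mp h2
    exact ⟨k, hk⟩
  exact exists_principal_pprime_over' hM N P θ hθ hdeg (N ⊔ (P : Subgroup G)) le_sup_left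
    le_sup_right hNH η hext

end Cfsg.Agent.Helper5.PN
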