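import Mathlib
import Cfsg.Agent.S4435
import Cfsg.Agent.S4436
import Cfsg.Agent.S0970
import Cfsg.Agent.S0906
import Cfsg.Agent.Helper23.BlockTransport
import Cfsg.Agent.Helper5.DefectOrder

set_option autoImplicit false
set_option linter.unusedSectionVars false
set_option linter.unusedVariables false

/-!
# Defect of a covering block of maximal defect, in terms of the stabilizer index

For `N ⊴ G`, a block `b` of `N` with stabilizer `T`, a block `B` of `G` covering `b` and of maximal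
defect among those has defect `d(b) + ν_p |T : N|`.
-/

namespace Cfsg.Agent.Helper5.SI

open Cfsg Cfsg.Agent.Helper24 Cfsg.Agent.Helper5 Cfsg.Agent.Helper5.Loc Cfsg.Agent.Helper5.CC
open Cfsg.Agent.Helper23.BT

section Transport

variable {X Y : Type*} [Group X] [Group Y]

theorem charDegree_pullIrr (φ : X ≃* Y) (χ : IrrCharacter Y) :
    charDegree (pullIrr φ χ : X → ℂ) = charDegree (χ : Y → ℂ) := by
  unfold charDegree
  rw [pullIrr_apply, map_one]

theorem blockDefect_pullBlock (p : ℕ) (φ : X ≃* Y) (b : Set (IrrCharacter Y)) :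
    blockDefect p (pullBlock φ b) = blockDefect p b := by
  unfold blockDefect
  rw [Nat.card_congr φ.toEquiv]
  congr 2
  ext n
  constructor
  · rintro ⟨ξ, hξ, rfl⟩
    refine ⟨pullIrr φ.symm ξ, hξ, ?_⟩
    simp only [charDegree_pullIrr]
  · rintro ⟨χ, hχ, rfl⟩
    refine ⟨pullIrr φ χ, (pullIrr_mem_pullBlock_iff φ b χ).mpr hχ, ?_⟩
    simp only [charDegree_pullIrr]

end Transport

variable {G : Type*} [Group G] [Fintype G]

theorem le_of_isStab (N : Subgroup G) [hN : N.Normal] (b : Set (IrrCharacter N)) (T : Subgroup G)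
    (hT : ∀ g : G, g ∈ T ↔ ∀ θ ∈ b, ∀ θ' : IrrCharacter N,
      (∀ n : N, (θ' : N → ℂ) n = (θ : N → ℂ) ⟨g * n * g⁻¹, hN.conj_mem n n.2 g⟩) → θ' ∈ b) :
    N ≤ T := by
  intro g hg
  rw [hT g]
  intro θ hθ θ' h
  have : θ' = θ := by
    apply Subtype.ext
    funext n
    rw [h n]
    exact isClassFunction_irr θ n ⟨g, hg⟩
  rw [this]
  exact hθ

/-- Restriction to `N` computed inside `T ≥ N`. -/
theorem classInner_subgroupOf (N T : Subgroup G) [Fintype N] [Fintype T] (hNT : N ≤ T)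
    [Fintype ↥(N.subgroupOf T)]
    (ψ : T → ℂ) (θ : IrrCharacter N) :
    classInner (fun n : ↥(N.subgroupOf T) => ψ (n : T))
      (pullIrr (Subgroup.subgroupOfEquivOfLe hNT) θ : ↥(N.subgroupOf T) → ℂ) =
    classInner (fun n : N => ψ ⟨(n : G), hNT n.2⟩) (θ : N → ℂ) := by
  unfold classInner
  rw [Nat.card_congr (Subgroup.subgroupOfEquivOfLe hNT).toEquiv]
  congr 1
  rw [← Equiv.sum_comp (Subgroup.subgroupOfEquivOfLe hNT).toEquiv]
  refine Finset.sum_congr rfl fun n _ => ?_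
  rfl

/-- **Defect of covering blocks via the stabilizer.**  If `B` covers the block `b` of `N ⊴ G` and
has maximal defect among the blocks covering `b`, then `d(B) = d(b) + ν_p |T : N|` where `T` is
the stabilizer of `b`. -/
theorem defect_eq_add_stab (p : ℕ) [Fact p.Prime] (M : Ideal AlgInt)
    (hM : IsPModular p M) (N : Subgroup G) [hN : N.Normal] [Fintype N] (b : Set (IrrCharacter N))
    (hb : IsPBlock M b) (T : Subgroup G) [Fintype T]
    (hT : ∀ g : G, g ∈ T ↔ ∀ θ ∈ b, ∀ θ' : IrrCharacter N,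
      (∀ n : N, (θ' : N → ℂ) n = (θ : N → ℂ) ⟨g * n * g⁻¹, hN.conj_mem n n.2 g⟩) → θ' ∈ b)
    (B : Set (IrrCharacter G)) (hB : IsPBlock M B)
    (hcov : ∃ χ ∈ B, ∃ θ ∈ b, classInner (fun n : N => (χ : G → ℂ) n) (θ : N → ℂ) ≠ 0)
    (hmax : ∀ B' : Set (IrrCharacter G), IsPBlock M B' →
      (∃ χ ∈ B', ∃ θ ∈ b, classInner (fun n : N => (χ : G → ℂ) n) (θ : N → ℂ) ≠ 0) →
      blockDefect p B' ≤ blockDefect p B) :
    blockDefect p B = blockDefect p b + (N.relIndex T).factorization p := by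
  classical
  have hMp := isPrime_of_isPModular hM
  have hp : p.Prime := Fact.out
  have hNT : N ≤ T := le_of_isStab N b T hT
  have : Fintype (IrrCharacter G) := Fintype.ofFinite _
  have : Fintype (IrrCharacter T) := Fintype.ofFinite _
  obtain ⟨h1, h2, h3⟩ := Cfsg.Agent.S4435.result p M hM N b hb T hT hNT
  obtain ⟨B', hB', hcov', hind⟩ := h3 B hB hcov
  -- existence of defect groups
  have hexD : ∀ (B'' : Set (IrrCharacter T)), IsPBlock M B'' →
      ∃ D : Subgroup T, IsDefectGroup p M B'' D := by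
    intro B'' hB''
    obtain ⟨y, hy⟩ := Cfsg.Agent.S0906.result p M hM B'' hB''
    obtain ⟨S⟩ : Nonempty (Sylow p (Subgroup.centralizer ({y} : Set T))) := inferInstance
    exact ⟨_, y, hy, S, rfl⟩
  -- induction preserves defects
  have hdef : ∀ (B'' : Set (IrrCharacter T)), IsPBlock M B'' →
      (∃ ψ ∈ B'', ∃ θ ∈ b, classInner (fun n : N => (ψ : T → ℂ) ⟨(n : G), hNT n.2⟩)
        (θ : N → ℂ) ≠ 0) → ∀ B₂ : Set (IrrCharacter G), IsInducedBlock M T B'' B₂ →
      blockDefect p B'' = blockDefect p B₂ := by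
    intro B'' hB'' hc B₂ hi
    obtain ⟨D, hD⟩ := hexD B'' hB''
    have hD2 := (Cfsg.Agent.S4436.result p M hM N b hb T hT hNT B'' hB'' hc B₂ hi).1 _ hD
    have c1 := card_defectGroup hM hB'' hD
    have c2 := card_defectGroup hM hi.2.1 hD2
    rw [Subgroup.card_map_of_injective (Subgroup.subtype_injective T)] at c2
    exact Nat.pow_right_injective hp.two_le (c1.symm.trans c2)
  -- Fong's theorem inside `T`
  have hN' : (N.subgroupOf T).Normal := inferInstance
  have : Fintype ↥(N.subgroupOf T) := Fintype.ofFinite _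
  set e : ↥(N.subgroupOf T) ≃* ↥N := Subgroup.subgroupOfEquivOfLe hNT with he
  have hb' : IsPBlock M (pullBlock e b) := isPBlock_pullBlock e hb
  have hinv' : ∀ g : T, ∀ θ ∈ pullBlock e b, ∀ θ' : IrrCharacter ↥(N.subgroupOf T),
      (∀ n : ↥(N.subgroupOf T), (θ' : ↥(N.subgroupOf T) → ℂ) n =
        (θ : ↥(N.subgroupOf T) → ℂ) ⟨g * n * g⁻¹, hN'.conj_mem n n.2 g⟩) →
      θ' ∈ pullBlock e b := by
    intro g θ hθ θ' h
    rw [mem_pullBlock_iff] at hθ ⊢
    refine (hT (g : G)).mp g.2 _ hθ _ ?_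
    intro n
    rw [pullIrr_apply, pullIrr_apply, h]
    rfl
  have hcovT : ∀ B'' : Set (IrrCharacter T),
      (∃ ψ ∈ B'', ∃ θ ∈ pullBlock e b, classInner (fun n : ↥(N.subgroupOf T) => (ψ : T → ℂ) n)
        (θ : ↥(N.subgroupOf T) → ℂ) ≠ 0) ↔
      (∃ ψ ∈ B'', ∃ θ ∈ b, classInner (fun n : N => (ψ : T → ℂ) ⟨(n : G), hNT n.2⟩)
        (θ : N → ℂ) ≠ 0) := by
    intro B''
    constructor
    · rintro ⟨ψ, hψ, θ, hθ, h⟩
      refine ⟨ψ, hψ, pullIrr e.symm θ, hθ, ?_⟩
      rw [← classInner_subgroupOf N T hNT (ψ : T → ℂ) (pullIrr e.symm θ)]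
      rw [← he, pullIrr_pullIrr_symm]
      exact h
    · rintro ⟨ψ, hψ, θ, hθ, h⟩
      refine ⟨ψ, hψ, pullIrr e θ, (pullIrr_mem_pullBlock_iff e b θ).mpr hθ, ?_⟩
      rw [he, classInner_subgroupOf N T hNT (ψ : T → ℂ) θ]
      exact h
  have hmax' : ∀ B'' : Set (IrrCharacter T), IsPBlock M B'' →
      (∃ ψ ∈ B'', ∃ θ ∈ pullBlock e b, classInner (fun n : ↥(N.subgroupOf T) => (ψ : T → ℂ) n)
        (θ : ↥(N.subgroupOf T) → ℂ) ≠ 0) → blockDefect p B'' ≤ blockDefect p B' := by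
    intro B'' hB'' hc
    have hc' := (hcovT B'').mp hc
    obtain ⟨B₂, hi₂, hcov₂, -, -⟩ := h1 B'' hB'' hc'
    rw [hdef B'' hB'' hc' B₂ hi₂, hdef B' hB' hcov' B hind]
    exact hmax B₂ hi₂.2.1 hcov₂
  obtain ⟨D, hD⟩ := hexD B' hB'
  have hF := (Cfsg.Agent.S0970.result p M hM (N.subgroupOf T) (pullBlock e b) hb' hinv' B' hB'
    ((hcovT B').mpr hcov') hmax' D hD).2.2
  rw [← hdef B' hB' hcov' B hind, hF, blockDefect_pullBlock]
  rfl

end Cfsg.Agent.Helper5.SI
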