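import Mathlib
import Cfsg.Agent.Helper5.StabIndex
import Cfsg.Agent.Helper5.ExtFirstMain
import Cfsg.Agent.Helper5.CentralProduct3
import Cfsg.Agent.Helper24.GoingDown
import Cfsg.Agent.Helper24.Abelian
import Cfsg.Agent.Helper24.SmallDegree

set_option autoImplicit false
set_option linter.unusedSectionVars false
set_option linter.unusedVariables false

/-!
# Reynolds' theorem: blocks with a normal defect group

`P` abelian iff all heights are zero.
-/

namespace Cfsg.Agent.Helper5.Rey

open Cfsg Cfsg.Agent.Helper24 Cfsg.Agent.Helper5 Cfsg.Agent.Helper5.Loc Cfsg.Agent.Helper5.CC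
open Cfsg.Agent.Helper23.BT

variable {G : Type*} [Group G] [Fintype G] {M : Ideal AlgInt}

section Stab

variable (N : Subgroup G) [hN : N.Normal] [Fintype N] (b : Set (IrrCharacter N))

/-- The stabilizer of a set of irreducible characters of a normal subgroup. -/
def stab : Subgroup G where
  carrier := {g | ∀ θ, conjIrr N g θ ∈ b ↔ θ ∈ b}
  one_mem' := by
    intro θ
    rw [conjIrr_one]
  mul_mem' := by
    intro x y hx hy θ
    rw [← conjIrr_conjIrr, hy, hx]
  inv_mem' := by
    intro x hx θ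
    have := hx (conjIrr N x⁻¹ θ)
    rw [conjIrr_conjIrr, inv_mul_cancel, conjIrr_one] at this
    exact this.symm

theorem isStab_stab (hMp : M.IsPrime) (hb : IsPBlock M b) : FR.IsStab hN b (stab N b) := by
  intro g
  constructor
  · intro hg θ hθ θ' h
    have e : θ' = conjIrr N g θ := Subtype.ext (funext h)
    rw [e]
    exact (hg θ).mpr hθ
  · intro h θ
    constructor
    · intro hθ
      obtain ⟨θ₀, hθ₀⟩ := IsPBlock.nonempty hMp hb
      have h0 : conjIrr N g θ₀ ∈ b := h θ₀ hθ₀ _ (fun n => rfl)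
      have hs := sameBlock_conjIrr N g⁻¹ (sameBlock_of_mem hMp hb h0 hθ)
      rw [conjIrr_conjIrr, conjIrr_conjIrr, mul_inv_cancel, conjIrr_one, conjIrr_one] at hs
      rw [IsPBlock_eq_blockOf hMp hb hθ₀]
      exact hs
    · intro hθ
      exact h θ hθ _ (fun n => rfl)

end Stab

section Clifford

variable (N : Subgroup G) [hN : N.Normal] [Fintype N]

/-- Degrees in Clifford's theorem. -/
theorem clifford_degree (χ : IrrCharacter G) (ξ : IrrCharacter N)
    (hcon : classInner (fun n : N => (χ : G → ℂ) n) (ξ : N → ℂ) ≠ 0) :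
    ∃ e : ℕ, irrDeg χ = e * (inertiaSubgroup N (ξ : N → ℂ)).index * irrDeg ξ := by
  classical
  have : Fintype (IrrCharacter N) := Fintype.ofFinite _
  have hcl := clifford_finset N χ.2 ξ.2 hcon
  obtain ⟨e, he⟩ := IsCharacter.classInner_irr_nat
    (Cfsg.Agent.Helper8.isCharacter_restrict N (IsIrrCharacter.isCharacter χ.2)) ξ
  have : Fintype (⊤ : Subgroup G) := Fintype.ofFinite _
  have hcard := Cfsg.Agent.Helper24.GoingDown.card_image_conjFun (⊤ : Subgroup G) N (ξ : N → ℂ)
  rw [Subgroup.relIndex_top_right] at hcard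
  have himg : (Finset.univ : Finset ↥(⊤ : Subgroup G)).image
      (fun k : ↥(⊤ : Subgroup G) => Cfsg.Agent.Helper24.conjFun N (ξ : N → ℂ) (k : G)) =
      Finset.univ.image (Cfsg.Agent.Helper24.conjFun N (ξ : N → ℂ)) := by
    ext ψ
    simp only [Finset.mem_image, Finset.mem_univ, true_and]
    constructor
    · rintro ⟨k, rfl⟩
      exact ⟨k, rfl⟩
    · rintro ⟨g, rfl⟩
      exact ⟨⟨g, Subgroup.mem_top g⟩, rfl⟩
  rw [himg] at hcard
  refine ⟨e, ?_⟩
  have h1 := congrFun hcl 1
  rw [he] at h1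
  simp only [OneMemClass.coe_one, Pi.smul_apply, Finset.sum_apply, smul_eq_mul] at h1
  have h2 : ∀ ψ ∈ Finset.univ.image (Cfsg.Agent.Helper24.conjFun N (ξ : N → ℂ)), ψ 1 = (irrDeg ξ : ℂ) := by
    intro ψ hψ
    obtain ⟨g, -, rfl⟩ := Finset.mem_image.mp hψ
    rw [Cfsg.Agent.Helper24.conjFun_apply, ← irrDeg_spec]
    refine congrArg (ξ : N → ℂ) ?_
    apply Subtype.ext
    simp
  rw [Finset.sum_congr rfl h2, Finset.sum_const, hcard, irrDeg_spec] at h1
  have h3 : ((irrDeg χ : ℕ) : ℂ) =
      ((e * (inertiaSubgroup N (ξ : N → ℂ)).index * irrDeg ξ : ℕ) : ℂ) := by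
    rw [h1]
    push_cast
    simp only [nsmul_eq_mul]
    ring
  exact_mod_cast h3

end Clifford

section Part1

open Cfsg.Agent.Helper5.CP

variable {X : Type*} [Group X] [Fintype X]

/-- In a block of `X = P·C_X(P)` with a non-abelian defect group `P` some character has positive
height: its degree is divisible by `p·|X : P|_p`. -/
theorem exists_large_degree {p : ℕ} [hp : Fact p.Prime] (hM : IsPModular p M) (P : Subgroup X)
    (hP : IsPGroup p P) (hX : P ⊔ Cen P = ⊤) {b : Set (IrrCharacter X)} (hb : IsPBlock M b)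
    (hbD : IsDefectGroup p M b P) (hna : ¬ ∀ a ∈ P, ∀ c ∈ P, a * c = c * a) :
    ∃ ξ ∈ b, P.index.factorization p + 1 ≤ (irrDeg ξ).factorization p := by
  classical
  have hMp := isPrime_of_isPModular hM
  have : Finite X := Finite.of_fintype X
  have : Fintype (IrrCharacter X) := Fintype.ofFinite _
  have : Fintype (Cen P) := Fintype.ofFinite _
  have : Fintype (IrrCharacter (Cen P)) := Fintype.ofFinite _
  have : Fintype P := Fintype.ofFinite _
  -- a non-linear character of `P`
  obtain ⟨ζ, hζ⟩ : ∃ ζ : IrrCharacter P, (ζ : P → ℂ) 1 ≠ 1 := by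
    by_contra hcon
    push Not at hcon
    apply hna
    intro a ha c hc
    have := (comm_iff_forall_irr_one (G := P)).mpr hcon ⟨a, ha⟩ ⟨c, hc⟩
    exact congrArg Subtype.val this
  have hζ1 : irrDeg ζ ≠ 1 := fun h => hζ ((irrDeg_eq_one_iff ζ).mp h)
  have hζd : irrDeg ζ ∣ Nat.card P := irrDeg_dvd_card ζ
  obtain ⟨k, hk⟩ := IsPGroup.iff_card.mp hP
  rw [hk] at hζd
  obtain ⟨j, hj, hζj⟩ := (Nat.dvd_prime_pow hp.out).mp hζd
  have hj1 : 1 ≤ j := by
    rcases Nat.eq_zero_or_pos j with h | h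
    · rw [h, pow_zero] at hζj
      exact absurd hζj hζ1
    · exact h
  obtain ⟨ξ, hξb, φ, hdec⟩ := exists_of_zeta hM hP hX hb hbD ζ
  have hdef := isDefectGroup_cen hM hP hX hb hbD ξ hξb ζ φ hdec
  have hφ := Cfsg.Agent.Helper5.CD.factorization_degree_of_central_defect hM (isPBlock_blockOf φ) hdef zc_le_center φ
    (mem_blockOf_self hMp φ)
  rw [zc_index hX, charDegree_eq_irrDeg] at hφ
  have h1 := hdec 1 1
  simp only [OneMemClass.coe_one, mul_one] at h1
  rw [irrDeg_spec, irrDeg_spec, irrDeg_spec] at h1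
  have h2 : irrDeg ξ = irrDeg ζ * irrDeg φ := by exact_mod_cast h1
  refine ⟨ξ, hξb, ?_⟩
  rw [h2, Nat.factorization_mul (irrDeg_pos ζ).ne' (irrDeg_pos φ).ne', Finsupp.add_apply, hφ,
    hζj, Nat.Prime.factorization_pow hp.out]
  simp only [Finsupp.single_eq_same]
  omega

end Part1

section Main

open Cfsg.Agent.Helper5.CP

variable {p : ℕ} [hp : Fact p.Prime]

/-- **Reynolds, hard half**: if all characters in a block with normal defect group `P` have height
zero then `P` is abelian. -/
theorem abelian_of_heights_zero (hM : IsPModular p M) (B : Set (IrrCharacter G))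
    (hB : IsPBlock M B) (P : Subgroup G) [hPn : P.Normal] (hPD : IsDefectGroup p M B P)
    (hht : ∀ χ ∈ B, blockHeight p B (χ : G → ℂ) = 0) : ∀ a ∈ P, ∀ c ∈ P, a * c = c * a := by
  classical
  by_contra hna
  have hMp := isPrime_of_isPModular hM
  have hpp : p.Prime := hp.out
  have : Finite G := Finite.of_fintype G
  have : Fintype (IrrCharacter G) := Fintype.ofFinite _
  have hP : IsPGroup p P := by
    obtain ⟨y, hy, S, rfl⟩ := hPD
    exact S.2.map _
  have : Fintype ↥(P ⊔ Subgroup.centralizer (P : Set G)) := Fintype.ofFinite _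
  have : Fintype (IrrCharacter ↥(P ⊔ Subgroup.centralizer (P : Set G))) := Fintype.ofFinite _
  have hHn : (P ⊔ Subgroup.centralizer (P : Set G)).Normal := inferInstance
  have hPH : P ≤ P ⊔ Subgroup.centralizer (P : Set G) := le_sup_left
  have hCH : Subgroup.centralizer (P : Set G) ≤ P ⊔ Subgroup.centralizer (P : Set G) :=
    le_sup_right
  obtain ⟨χ₀, hχ₀⟩ := IsPBlock.nonempty hMp hB
  have hres : IsCharacter ↥(P ⊔ Subgroup.centralizer (P : Set G))
      (fun n : ↥(P ⊔ Subgroup.centralizer (P : Set G)) => (χ₀ : G → ℂ) n) :=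
    Cfsg.Agent.Helper8.isCharacter_restrict _ (IsIrrCharacter.isCharacter χ₀.2)
  have hne : (fun n : ↥(P ⊔ Subgroup.centralizer (P : Set G)) => (χ₀ : G → ℂ) n) ≠ 0 := by
    intro h
    exact irr_one_ne_zero χ₀ (congrFun h 1)
  obtain ⟨ξ₀, hξ₀⟩ := IsCharacter.exists_irr_constituent hres hne
  have hb : IsPBlock M (blockOf M (ξ₀ : ↥(P ⊔ Subgroup.centralizer (P : Set G)) → ℂ)) :=
    isPBlock_blockOf ξ₀
  have h971 := (Cfsg.Agent.S0971.result p M hM P hP _ hb).2
  have hcov : ∃ χ ∈ B, ∃ θ ∈ blockOf M (ξ₀ : ↥(P ⊔ Subgroup.centralizer (P : Set G)) → ℂ),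
      classInner (fun n : ↥(P ⊔ Subgroup.centralizer (P : Set G)) => (χ : G → ℂ) n)
        (θ : ↥(P ⊔ Subgroup.centralizer (P : Set G)) → ℂ) ≠ 0 :=
    ⟨χ₀, hχ₀, ξ₀, mem_blockOf_self hMp ξ₀, hξ₀⟩
  have hind := h971 B hB hcov
  have huniq : ∀ B' : Set (IrrCharacter G), IsPBlock M B' →
      (∃ χ ∈ B', ∃ θ ∈ blockOf M (ξ₀ : ↥(P ⊔ Subgroup.centralizer (P : Set G)) → ℂ),
      classInner (fun n : ↥(P ⊔ Subgroup.centralizer (P : Set G)) => (χ : G → ℂ) n)
        (θ : ↥(P ⊔ Subgroup.centralizer (P : Set G)) → ℂ) ≠ 0) → B' = B := fun B' hB' hc =>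
    Cfsg.Agent.Helper23.IC.induced_unique hMp _ (h971 B' hB' hc) hind
  have hbD := Cfsg.Agent.Helper5.EFM.isDefectGroup_of_induced' hM B P _ hPD hP hPH
    (by rw [Subgroup.normalizer_eq_top]; exact le_top) _ hind
  -- inside `H = P C_G(P)`
  have hX : (P.subgroupOf (P ⊔ Subgroup.centralizer (P : Set G))) ⊔
      Cen (P.subgroupOf (P ⊔ Subgroup.centralizer (P : Set G))) = ⊤ := by
    apply Subgroup.map_injective (Subgroup.subtype_injective (P ⊔ Subgroup.centralizer (P : Set G)))
    rw [Cfsg.Agent.Helper5.EFM.map_sup_centralizer_subgroupOf P _ hPH hCH,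
      ← MonoidHom.range_eq_map, Subgroup.range_subtype]
  have hna' : ¬ ∀ a ∈ P.subgroupOf (P ⊔ Subgroup.centralizer (P : Set G)),
      ∀ c ∈ P.subgroupOf (P ⊔ Subgroup.centralizer (P : Set G)), a * c = c * a := by
    intro h
    apply hna
    intro a ha c hc
    have := h ⟨a, hPH ha⟩ (Subgroup.mem_subgroupOf.mpr ha) ⟨c, hPH hc⟩
      (Subgroup.mem_subgroupOf.mpr hc)
    exact congrArg Subtype.val this
  obtain ⟨ξ, hξb, hξdeg'⟩ := exists_large_degree hM _ hP.comap_subtype hX hb hbD hna'
  have hξdeg : (P.subgroupOf (P ⊔ Subgroup.centralizer (P : Set G))).index.factorization p + 1 ≤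
      (irrDeg ξ).factorization p := hξdeg'
  clear hξdeg'
  -- a character of `G` above `ξ`
  obtain ⟨χ, hχ⟩ := Cfsg.Agent.S0963.exists_irr_over (P ⊔ Subgroup.centralizer (P : Set G)) ξ
  have hχB : χ ∈ B := by
    rw [← huniq _ (isPBlock_blockOf χ) ⟨χ, mem_blockOf_self hMp χ, ξ, hξb, hχ⟩]
    exact mem_blockOf_self hMp χ
  -- the stabilizer
  have : Fintype ↥(stab (P ⊔ Subgroup.centralizer (P : Set G))
      (blockOf M (ξ₀ : ↥(P ⊔ Subgroup.centralizer (P : Set G)) → ℂ))) := Fintype.ofFinite _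
  have hstab := isStab_stab (P ⊔ Subgroup.centralizer (P : Set G)) _ hMp hb
  have hA := Cfsg.Agent.Helper5.SI.defect_eq_add_stab p M hM _ _ hb _ hstab B hB hcov
    (fun B' hB' hc => le_of_eq (congrArg (blockDefect p) (huniq B' hB' hc)))
  -- cardinalities
  have hcB := card_defectGroup hM hB hPD
  have hcb := card_defectGroup hM hb hbD
  have hc0 : Nat.card (P.subgroupOf (P ⊔ Subgroup.centralizer (P : Set G))) = Nat.card P := by
    rw [← Subgroup.card_map_of_injective (Subgroup.subtype_injective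
      (P ⊔ Subgroup.centralizer (P : Set G))),
      Cfsg.Agent.Helper14.map_subtype_subgroupOf hPH]
  rw [hc0, hcB] at hcb
  have hdd := Nat.pow_right_injective hpp.two_le hcb
  -- Clifford degrees
  obtain ⟨e, he⟩ := clifford_degree (P ⊔ Subgroup.centralizer (P : Set G)) χ ξ hχ
  have hHI : P ⊔ Subgroup.centralizer (P : Set G) ≤
      inertiaSubgroup (P ⊔ Subgroup.centralizer (P : Set G))
        (ξ : ↥(P ⊔ Subgroup.centralizer (P : Set G)) → ℂ) :=
    le_inertiaSubgroup _ _ (isClassFunction_irr ξ)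
  have hIT : inertiaSubgroup (P ⊔ Subgroup.centralizer (P : Set G))
        (ξ : ↥(P ⊔ Subgroup.centralizer (P : Set G)) → ℂ) ≤
      stab (P ⊔ Subgroup.centralizer (P : Set G))
      (blockOf M (ξ₀ : ↥(P ⊔ Subgroup.centralizer (P : Set G)) → ℂ)) := by
    intro g hg
    by_contra hgT
    have hcj : conjIrr (P ⊔ Subgroup.centralizer (P : Set G)) g ξ = ξ := Subtype.ext hg
    exact FR.IsStab.disj hMp hb hstab g hgT ξ hξb (by rw [hcj]; exact hξb)
  have h3 := Subgroup.relIndex_mul_relIndex _ _ _ hHI hIT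
  have h4 := Subgroup.relIndex_mul_index hHI
  have hTne : (P ⊔ Subgroup.centralizer (P : Set G)).relIndex
      (stab (P ⊔ Subgroup.centralizer (P : Set G))
      (blockOf M (ξ₀ : ↥(P ⊔ Subgroup.centralizer (P : Set G)) → ℂ))) ≠ 0 :=
    Subgroup.index_ne_zero_of_finite
  have hIne : (P ⊔ Subgroup.centralizer (P : Set G)).relIndex
      (inertiaSubgroup (P ⊔ Subgroup.centralizer (P : Set G))
        (ξ : ↥(P ⊔ Subgroup.centralizer (P : Set G)) → ℂ)) ≠ 0 :=
    Subgroup.index_ne_zero_of_finite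
  have hIine : (inertiaSubgroup (P ⊔ Subgroup.centralizer (P : Set G))
        (ξ : ↥(P ⊔ Subgroup.centralizer (P : Set G)) → ℂ)).index ≠ 0 :=
    Subgroup.index_ne_zero_of_finite
  have hITne : (inertiaSubgroup (P ⊔ Subgroup.centralizer (P : Set G))
        (ξ : ↥(P ⊔ Subgroup.centralizer (P : Set G)) → ℂ)).relIndex
      (stab (P ⊔ Subgroup.centralizer (P : Set G))
      (blockOf M (ξ₀ : ↥(P ⊔ Subgroup.centralizer (P : Set G)) → ℂ))) ≠ 0 :=
    Subgroup.index_ne_zero_of_finite
  have f3 := congrArg (fun n => n.factorization p) h3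
  simp only [Nat.factorization_mul hIne hITne, Finsupp.add_apply] at f3
  have f4 := congrArg (fun n => n.factorization p) h4
  simp only [Nat.factorization_mul hIne hIine, Finsupp.add_apply] at f4
  have hχpos := irrDeg_pos χ
  have hene : e ≠ 0 := by
    rintro rfl
    rw [zero_mul, zero_mul] at he
    omega
  have f5 := congrArg (fun n => n.factorization p) he
  simp only [Nat.factorization_mul (mul_ne_zero hene hIine) (irrDeg_pos ξ).ne',
    Nat.factorization_mul hene hIine, Finsupp.add_apply] at f5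
  -- orders
  have hG1 := Subgroup.card_mul_index (P ⊔ Subgroup.centralizer (P : Set G))
  have hH1 := Subgroup.card_mul_index (P.subgroupOf (P ⊔ Subgroup.centralizer (P : Set G)))
  have f6 := congrArg (fun n => n.factorization p) hG1
  simp only [Nat.factorization_mul (Nat.card_pos (α := ↥(P ⊔ Subgroup.centralizer (P : Set G)))).ne'
    Subgroup.index_ne_zero_of_finite, Finsupp.add_apply] at f6
  have f7 := congrArg (fun n => n.factorization p) hH1
  simp only [Nat.factorization_mul (Nat.card_pos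
    (α := ↥(P.subgroupOf (P ⊔ Subgroup.centralizer (P : Set G))))).ne'
    Subgroup.index_ne_zero_of_finite, Finsupp.add_apply] at f7
  rw [hc0, hcB, Nat.Prime.factorization_pow hpp] at f7
  simp only [Finsupp.single_eq_same] at f7
  -- heights
  have hh := hht χ hχB
  have hdB : blockDefect p B = (Nat.card G).factorization p -
      sInf ((fun χ : IrrCharacter G => (charDegree (χ : G → ℂ)).factorization p) '' B) := rfl
  unfold blockHeight at hh
  have hs : sInf ((fun χ : IrrCharacter G => (charDegree (χ : G → ℂ)).factorization p) '' B) ≤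
      (charDegree (χ : G → ℂ)).factorization p := Nat.sInf_le ⟨χ, hχB, rfl⟩
  have hle : (charDegree (χ : G → ℂ)).factorization p ≤ (Nat.card G).factorization p := by
    rw [charDegree_eq_irrDeg]
    exact (Nat.factorization_le_iff_dvd (irrDeg_pos χ).ne' (Nat.card_pos (α := G)).ne').mpr
      (irrDeg_dvd_card χ) p
  rw [charDegree_eq_irrDeg] at hh hs hle
  omega

/-- **Reynolds, easy half** (via Itô's theorem). -/
theorem heights_zero_of_abelian (hM : IsPModular p M) (B : Set (IrrCharacter G))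
    (hB : IsPBlock M B) (P : Subgroup G) [hPn : P.Normal] (hPD : IsDefectGroup p M B P)
    (hab : ∀ a ∈ P, ∀ c ∈ P, a * c = c * a) :
    ∀ χ ∈ B, blockHeight p B (χ : G → ℂ) = 0 := by
  classical
  intro χ hχB
  have hpp : p.Prime := hp.out
  have : Finite G := Finite.of_fintype G
  have : Fintype (IrrCharacter G) := Fintype.ofFinite _
  obtain ⟨d, hd, hdvd⟩ := ito_character P hab (χ : G → ℂ) χ.2
  have hdeg : irrDeg χ = d := by
    have := irrDeg_spec χ
    rw [hd] at this
    exact_mod_cast this.symm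
  have hcB := card_defectGroup hM hB hPD
  have hG1 := Subgroup.card_mul_index P
  have f1 := congrArg (fun n => n.factorization p) hG1
  simp only [Nat.factorization_mul (Nat.card_pos (α := ↥P)).ne'
    Subgroup.index_ne_zero_of_finite, Finsupp.add_apply] at f1
  rw [hcB, Nat.Prime.factorization_pow hpp] at f1
  simp only [Finsupp.single_eq_same] at f1
  have f2 : (irrDeg χ).factorization p ≤ P.index.factorization p := by
    rw [hdeg]
    exact (Nat.factorization_le_iff_dvd (by rw [← hdeg]; exact (irrDeg_pos χ).ne')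
      Subgroup.index_ne_zero_of_finite).mpr hdvd p
  have hdB : blockDefect p B = (Nat.card G).factorization p -
      sInf ((fun χ : IrrCharacter G => (charDegree (χ : G → ℂ)).factorization p) '' B) := rfl
  unfold blockHeight
  have hs : sInf ((fun χ : IrrCharacter G => (charDegree (χ : G → ℂ)).factorization p) '' B) ≤
      (charDegree (χ : G → ℂ)).factorization p := Nat.sInf_le ⟨χ, hχB, rfl⟩
  rw [charDegree_eq_irrDeg] at hs ⊢
  omega

end Main

end Cfsg.Agent.Helper5.Rey
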