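import Cfsg.Agent.Helper5.S0518Defs

/-! # S0518 board, piece BASE (hedge copy by helper5, theorem `BASEh`): first consequences of maximality. -/

set_option autoImplicit false
universe u
namespace Cfsg.Agent.S0518P
open Cfsg Subgroup
variable {G : Type u} [Group G]

theorem BASEh_aux_ne_bot {A : Subgroup G} {n : ℕ} (h : Nat.card ↥A = n) (hn : 1 < n) : A ≠ ⊥ := by
  intro h0
  rw [h0] at h
  simp at h
  omega

theorem BASEh_aux_cent [Finite G] {P T : Subgroup G} {c : G} {Q K V : Subgroup G} (b : B48 P T c Q K V)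
    (m : MaxN P) : ∀ x : G, x * c = c * x → x ∈ P := by
  have hz2 : ∀ y ∈ zpowers c, y = 1 ∨ y = c := by
    intro y hy
    obtain ⟨k, hk⟩ := Subgroup.mem_zpowers_iff.mp hy
    rw [← hk]
    rcases Int.emod_two_eq_zero_or_one k with h | h
    · left
      have : k = 2 * (k / 2) := by omega
      rw [this, zpow_mul, zpow_ofNat, pow_two, b.c_sq, one_zpow]
    · right
      have : k = 2 * (k / 2) + 1 := by omega
      rw [this, zpow_add, zpow_mul, zpow_ofNat, pow_two, b.c_sq, one_zpow, one_mul, zpow_one]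
  have hp : IsPGroup 2 ↥(zpowers c) := by
    rintro ⟨y, hy⟩
    refine ⟨1, ?_⟩
    apply Subtype.ext
    simp only [pow_one, SubmonoidClass.mk_pow, OneMemClass.coe_one]
    rcases hz2 y hy with rfl | rfl
    · simp
    · rw [pow_two]; exact b.c_sq
  have hne : zpowers c ≠ ⊥ := by
    intro h
    exact b.c_ne (Subgroup.zpowers_eq_bot.mp h)
  have hnorm : ∀ x : G, x * c = c * x → x ∈ normalizer ((zpowers c : Subgroup G) : Set G) := by
    intro x hx
    rw [mem_normalizer_iff]
    intro y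
    have hxy : ∀ y ∈ zpowers c, x * y * x⁻¹ = y := by
      intro y hy
      rcases hz2 y hy with rfl | rfl
      · simp
      · rw [hx]; group
    constructor
    · intro hy
      have hy' : y ∈ zpowers c := hy
      show x * y * x⁻¹ ∈ zpowers c
      rw [hxy y hy']; exact hy'
    · intro hy
      have hy' : x * y * x⁻¹ ∈ zpowers c := hy
      show y ∈ zpowers c
      have := hxy _ hy'
      have e : y = x⁻¹ * (x * y * x⁻¹) * x := by group
      have hx' : x⁻¹ * c = c * x⁻¹ := by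
        have := congrArg (fun t => x⁻¹ * t * x⁻¹) hx
        simp only [mul_assoc, inv_mul_cancel_left, mul_inv_cancel, mul_one] at this
        exact this.symm
      rcases hz2 _ hy' with h1 | h1
      · rw [e, h1]; simp
      · rw [e, h1, hx']; simp [mem_zpowers]
  have hP : P ≤ normalizer ((zpowers c : Subgroup G) : Set G) := fun x hx => hnorm x (b.c_central x hx)
  have := m (zpowers c) hp hne hP
  intro x hx
  rw [← this]
  exact hnorm x hx

theorem BASEh [Finite G] {C : Cfg G} (h : TBase C) : TD0 C := by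
  have b₁ := h.b₁
  have b₂ := h.b₂
  have hQ₁2 : IsPGroup 2 ↥C.Q₁ := IsPGroup.of_card (n := 3) (by rw [b₁.card_Q]; norm_num)
  have hQ₂2 : IsPGroup 2 ↥C.Q₂ := IsPGroup.of_card (n := 3) (by rw [b₂.card_Q]; norm_num)
  have hV₁2 : IsPGroup 2 ↥C.V₁ := IsPGroup.of_card (n := 2) (by rw [b₁.card_V]; norm_num)
  have hV₂2 : IsPGroup 2 ↥C.V₂ := IsPGroup.of_card (n := 2) (by rw [b₂.card_V]; norm_num)
  have nQ₁ := h.max₁ C.Q₁ hQ₁2 (BASEh_aux_ne_bot b₁.card_Q (by norm_num)) b₁.Q_normal
  have nQ₂ := h.max₂ C.Q₂ hQ₂2 (BASEh_aux_ne_bot b₂.card_Q (by norm_num)) b₂.Q_normal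
  have nV₁ := h.max₁ C.V₁ hV₁2 (BASEh_aux_ne_bot b₁.card_V (by norm_num)) b₁.V_normal
  have nV₂ := h.max₂ C.V₂ hV₂2 (BASEh_aux_ne_bot b₂.card_V (by norm_num)) b₂.V_normal
  have cc₁ := BASEh_aux_cent b₁ h.max₁
  have cc₂ := BASEh_aux_cent b₂ h.max₂
  refine ⟨cc₁, cc₂, nQ₁, nQ₂, nV₁, nV₂, ?_, ?_, ?_⟩
  · intro e; apply h.ne; rw [← nQ₁, ← nQ₂, e]
  · intro e; apply h.ne; rw [← nV₁, ← nV₂, e]
  · intro e
    apply h.ne
    apply le_antisymm
    · intro x hx
      apply cc₂
      rw [← e]; exact b₁.c_central x hx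
    · intro x hx
      apply cc₁
      rw [e]; exact b₂.c_central x hx

end Cfsg.Agent.S0518P
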