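import Cfsg.Agent.Helper5.S0518BMAX2

/-! # S0518 board, piece BFIN (modulo SYMM): the two maximal 2-locals `O^2(G) ∩ P_i` of `O^2(G)`. -/

set_option autoImplicit false

universe u

namespace Cfsg.Agent.S0518P

open Cfsg Subgroup

variable {G : Type u} [Group G]

theorem BFIN_aux [Finite G] {C : Cfg G} {z : G} (d : TData C z) (ds : TData C.swap z)
    (hc₁ : C.c₁ ∉ O2 G) (hc₂ : C.c₂ ∉ O2 G) : GConcl (O2 G) := by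
  obtain ⟨m₁, i₁, k₁, t₁⟩ := BMAX2 d hc₁
  obtain ⟨m₂, i₂, k₂, t₂⟩ := BMAX2 ds hc₂
  have b := d.base.b₁
  have b' := d.base.b₂
  have hsw : C.swap.T₀ = C.T₀ := sup_comm _ _
  rw [hsw] at t₂
  change IsMaxTwoLocalIn (O2 G) (O2 G ⊓ C.P₂) at m₂
  change Nonempty (↥(O2 G ⊓ C.P₂ : Subgroup G) ≃* Equiv.Perm (Fin 4)) at i₂
  change Nat.card ↥(O2 G ⊓ C.P₂ : Subgroup G) = 24 at k₂
  change C.T₀ ≤ O2 G ⊓ C.P₂ at t₂
  have hc₁P₁ : C.c₁ ∈ C.P₁ := b.T_le (b.Q_le b.c_mem)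
  have hc₁P₂ : C.c₁ ∈ C.P₂ := b'.T_le (b.Q_le b.c_mem)
  have hne : O2 G ⊓ C.P₁ ≠ O2 G ⊓ C.P₂ := by
    intro heq
    have hM : O2 G ⊓ C.P₁ ≤ C.P₁ ⊓ C.P₂ := le_inf inf_le_right (heq ▸ inf_le_right)
    have h1 : 24 ∣ Nat.card ↥(C.P₁ ⊓ C.P₂ : Subgroup G) := by
      rw [← k₁]; exact Subgroup.card_dvd_of_le hM
    have h2 : Nat.card ↥(C.P₁ ⊓ C.P₂ : Subgroup G) ∣ 48 := by
      rw [← b.card_P]; exact Subgroup.card_dvd_of_le inf_le_left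
    have h3 : Nat.card ↥(C.P₁ ⊓ C.P₂ : Subgroup G) ≠ 24 := by
      intro h
      have : O2 G ⊓ C.P₁ = C.P₁ ⊓ C.P₂ := by
        apply Subgroup.eq_of_le_of_card_ge hM
        rw [h, k₁]
      have hc : C.c₁ ∈ O2 G ⊓ C.P₁ := by rw [this]; exact ⟨hc₁P₁, hc₁P₂⟩
      exact hc₁ hc.1
    have h4 : Nat.card ↥(C.P₁ ⊓ C.P₂ : Subgroup G) = 48 := by
      obtain ⟨k, hk⟩ := h1
      have hle := Nat.le_of_dvd (by norm_num) h2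
      have hpos : 0 < Nat.card ↥(C.P₁ ⊓ C.P₂ : Subgroup G) := Nat.card_pos
      omega
    have h5 : C.P₁ ⊓ C.P₂ = C.P₁ := by
      apply Subgroup.eq_of_le_of_card_ge inf_le_left
      rw [h4, b.card_P]
    have h6 : C.P₁ ≤ C.P₂ := by rw [← h5]; exact inf_le_right
    have hV₂2 : IsPGroup 2 ↥C.V₂ := IsPGroup.of_card (n := 2) (by rw [b'.card_V]; norm_num)
    have hV₂ne : C.V₂ ≠ ⊥ := by
      intro h
      have := b'.card_V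
      rw [h] at this
      simp at this
    have := d.base.max₁ C.V₂ hV₂2 hV₂ne (h6.trans b'.V_normal)
    rw [d.d0.norm_V₂] at this
    exact d.base.ne this.symm
  refine ⟨O2 G ⊓ C.P₁, O2 G ⊓ C.P₂, hne, m₁, m₂, i₁, i₂, ?_⟩
  have hT : C.T₀ ≤ (O2 G ⊓ C.P₁) ⊓ (O2 G ⊓ C.P₂) := le_inf t₁ t₂
  have h1 : 8 ∣ Nat.card ↥((O2 G ⊓ C.P₁) ⊓ (O2 G ⊓ C.P₂) : Subgroup G) := by
    rw [← d.d2.card_T₀]; exact Subgroup.card_dvd_of_le hT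
  have h2 : Nat.card ↥((O2 G ⊓ C.P₁) ⊓ (O2 G ⊓ C.P₂) : Subgroup G) ∣ 24 := by
    rw [← k₁]; exact Subgroup.card_dvd_of_le inf_le_left
  have h3 : Nat.card ↥((O2 G ⊓ C.P₁) ⊓ (O2 G ⊓ C.P₂) : Subgroup G) ≠ 24 := by
    intro h
    have h5 : (O2 G ⊓ C.P₁) ⊓ (O2 G ⊓ C.P₂) = O2 G ⊓ C.P₁ := by
      apply Subgroup.eq_of_le_of_card_ge inf_le_left
      rw [h, k₁]
    have h6 : O2 G ⊓ C.P₁ ≤ O2 G ⊓ C.P₂ := by rw [← h5]; exact inf_le_right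
    apply hne
    apply Subgroup.eq_of_le_of_card_ge h6
    rw [k₁, k₂]
  obtain ⟨k, hk⟩ := h1
  have hle := Nat.le_of_dvd (by norm_num) h2
  have hpos : 0 < Nat.card ↥((O2 G ⊓ C.P₁) ⊓ (O2 G ⊓ C.P₂) : Subgroup G) := Nat.card_pos
  have hk3 : k = 1 ∨ k = 2 ∨ k = 3 := by omega
  rcases hk3 with rfl | rfl | rfl
  · omega
  · exfalso
    rw [hk] at h2
    norm_num at h2
  · omega

end Cfsg.Agent.S0518P
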