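import Cfsg.Agent.Helper5.S0518Defs
import Cfsg.Agent.Helper14.PCore
import Cfsg.Agent.Helper19.Sylow

/-! # S0518 board, piece BMAX1: every maximal 2-local containing a complement `R ⊇ K₁` of `⟨c₁⟩` in `P₁`
is `P₁`. -/

set_option autoImplicit false

universe u

namespace Cfsg.Agent.S0518P

open Cfsg Subgroup

variable {G : Type u} [Group G]

theorem BMAX1_aux_mem_norm {A : Subgroup G} {x : G} :
    x ∈ normalizer (A : Set G) ↔ cj x A = A := by
  rw [mem_normalizer_iff]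
  constructor
  · intro h
    ext y
    constructor
    · rintro ⟨a, ha, rfl⟩
      exact (h a).1 ha
    · intro hy
      refine ⟨x⁻¹ * y * x, ?_, ?_⟩
      · apply (h _).2
        have : x * (x⁻¹ * y * x) * x⁻¹ = y := by group
        rw [this]; exact hy
      · simp only [MulEquiv.coe_toMonoidHom, MulAut.conj_apply]; group
  · intro h a
    constructor
    · intro ha
      rw [← h]
      exact ⟨a, ha, rfl⟩
    · intro ha
      rw [← h] at ha
      obtain ⟨a', ha', hh⟩ := ha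
      simp only [MulEquiv.coe_toMonoidHom, MulAut.conj_apply] at hh
      have : a' = a := by
        have := congrArg (fun t => x⁻¹ * t * x) hh
        simpa [mul_assoc] using this
      rw [← this]; exact ha'

theorem BMAX1_aux_norm_sup {A B : Subgroup G} {x : G} (hA : x ∈ normalizer (A : Set G))
    (hB : x ∈ normalizer (B : Set G)) : x ∈ normalizer ((A ⊔ B : Subgroup G) : Set G) := by
  rw [BMAX1_aux_mem_norm] at *
  show (A ⊔ B).map _ = _
  rw [Subgroup.map_sup]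
  change cj x A ⊔ cj x B = A ⊔ B
  rw [hA, hB]

theorem BMAX1_aux_norm_inf {A B : Subgroup G} {x : G} (hA : x ∈ normalizer (A : Set G))
    (hB : x ∈ normalizer (B : Set G)) : x ∈ normalizer ((A ⊓ B : Subgroup G) : Set G) := by
  rw [mem_normalizer_iff] at *
  intro h
  have h1 := hA h
  have h2 := hB h
  simp only [Subgroup.mem_inf] at *
  rw [h1, h2]

/-- every maximal 2-local containing a complement `R ⊇ K₁` of `⟨c₁⟩` in `P₁` is `P₁` -/
theorem BMAX1 [Finite G] {C : Cfg G} {z : G} (d : TData C z) (R : Subgroup G) (hR : R ≤ C.P₁)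
    (hK : C.K₁ ≤ R) (hcard : Nat.card ↥R = 24) (hc : C.c₁ ∉ R) (L : Subgroup G) (hL : IsMaximalTwoLocal L)
    (hRL : R ≤ L) : L = C.P₁ := by
  have : Fact (Nat.Prime 2) := ⟨Nat.prime_two⟩
  have b := d.base.b₁
  -- `Y = O₂(L)`
  have hYp : IsPGroup 2 ↥(pCoreOf 2 L) := Cfsg.Agent.Helper14.pCoreOf_isPGroup 2 L
  have hYL : pCoreOf 2 L ≤ L := Cfsg.Agent.Helper14.pCoreOf_le 2 L
  have hLY : L ≤ normalizer (pCoreOf 2 L : Set G) := Cfsg.Agent.Helper14.le_normalizer_pCoreOf 2 L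
  have hYne : pCoreOf 2 L ≠ ⊥ := by
    obtain ⟨X, hX2, hXne, hLX⟩ := hL.1
    have hXL : X ≤ L := by rw [hLX]; exact le_normalizer
    have hXY : X ≤ pCoreOf 2 L := Cfsg.Agent.Helper14.le_pCoreOf 2 hXL (by rw [hLX]) hX2
    intro h0
    apply hXne
    rw [eq_bot_iff, ← h0]
    exact hXY
  have hNY : normalizer (pCoreOf 2 L : Set G) = L :=
    hL.2 _ ⟨pCoreOf 2 L, hYp, hYne, rfl⟩ hLY
  generalize pCoreOf 2 L = Y at hYp hYL hLY hYne hNY
  -- `P₁ = R ∪ c₁R`
  have hc₁P : C.c₁ ∈ C.P₁ := b.T_le (b.Q_le b.c_mem)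
  have hcov : ∀ x ∈ C.P₁, x ∈ R ∨ C.c₁ * x ∈ R := by
    intro x hx
    have hidx : (R.subgroupOf C.P₁).index = 2 := by
      have h1 : Nat.card ↥(R.subgroupOf C.P₁) = 24 := by
        rw [← hcard]
        exact Nat.card_congr (Subgroup.subgroupOfEquivOfLe hR).toEquiv
      have h2 := Subgroup.card_mul_index (R.subgroupOf C.P₁)
      rw [h1, b.card_P] at h2
      omega
    have := Subgroup.mul_mem_iff_of_index_two hidx (a := ⟨C.c₁, hc₁P⟩) (b := ⟨x, hx⟩)
    simp only [Subgroup.mem_subgroupOf, Subgroup.coe_mul] at this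
    by_cases hxR : x ∈ R
    · exact Or.inl hxR
    · right
      rw [this]
      constructor
      · intro h; exact absurd h hc
      · intro h; exact absurd h hxR
  have hV₁K : C.V₁ ≤ C.K₁ := by rw [b.V_eq]; exact inf_le_right
  have hV₁Q : C.V₁ ≤ C.Q₁ := by rw [b.V_eq]; exact inf_le_left
  have hV₁R : C.V₁ ≤ R := hV₁K.trans hK
  have hV₁P : C.V₁ ≤ C.P₁ := hV₁R.trans hR
  have hV₁L : C.V₁ ≤ L := hV₁R.trans hRL
  -- `W = Y V₁`
  have hWp : IsPGroup 2 ↥(Y ⊔ C.V₁) := by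
    have hV2 : IsPGroup 2 ↥C.V₁ := IsPGroup.of_card (n := 2) (by rw [b.card_V]; norm_num)
    exact IsPGroup.to_sup_of_normal_left' hYp hV2 (hV₁L.trans hLY)
  have hWL : Y ⊔ C.V₁ ≤ L := sup_le hYL hV₁L
  -- `D = W ∩ P₁`
  have hDp : IsPGroup 2 ↥((Y ⊔ C.V₁) ⊓ C.P₁ : Subgroup G) := hWp.to_le inf_le_left
  have hRD : R ≤ normalizer (((Y ⊔ C.V₁) ⊓ C.P₁ : Subgroup G) : Set G) := by
    intro x hx
    apply BMAX1_aux_norm_inf
    · exact BMAX1_aux_norm_sup (hLY (hRL hx)) (b.V_normal (hR hx))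
    · exact le_normalizer (hR hx)
  have hcD : C.c₁ ∈ normalizer (((Y ⊔ C.V₁) ⊓ C.P₁ : Subgroup G) : Set G) := by
    rw [mem_normalizer_iff]
    intro h
    constructor
    · intro hh
      have h1 : h * C.c₁ = C.c₁ * h := b.c_central h hh.2
      have : C.c₁ * h * C.c₁⁻¹ = h := by rw [← h1]; group
      rw [this]; exact hh
    · intro hh
      have hhP : h ∈ C.P₁ := by
        have := C.P₁.mul_mem (C.P₁.mul_mem (C.P₁.inv_mem hc₁P) hh.2) hc₁P
        have e : C.c₁⁻¹ * (C.c₁ * h * C.c₁⁻¹) * C.c₁ = h := by group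
        rwa [e] at this
      have h1 : h * C.c₁ = C.c₁ * h := b.c_central h hhP
      have : C.c₁ * h * C.c₁⁻¹ = h := by rw [← h1]; group
      rwa [this] at hh
  have hPD : C.P₁ ≤ normalizer (((Y ⊔ C.V₁) ⊓ C.P₁ : Subgroup G) : Set G) := by
    intro x hx
    rcases hcov x hx with h | h
    · exact hRD h
    · have := (normalizer _).mul_mem ((normalizer _).inv_mem hcD) (hRD h)
      have e : C.c₁⁻¹ * (C.c₁ * x) = x := by group
      rwa [e] at this
  have hDQ : (Y ⊔ C.V₁) ⊓ C.P₁ ≤ C.Q₁ := b.Q_core _ inf_le_right hPD hDp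
  by_cases hcD' : C.c₁ ∈ (Y ⊔ C.V₁) ⊓ C.P₁
  · -- `c₁ ∈ L`, so `P₁ ≤ L`
    have hcL : C.c₁ ∈ L := hWL hcD'.1
    have hPL : C.P₁ ≤ L := by
      intro x hx
      rcases hcov x hx with h | h
      · exact hRL h
      · have := L.mul_mem (L.inv_mem hcL) (hRL h)
        have e : C.c₁⁻¹ * (C.c₁ * x) = x := by group
        rwa [e] at this
    have := d.base.max₁ Y hYp hYne (hPL.trans hLY)
    rw [← hNY, this]
  · -- `D = V₁`
    have hDV : (Y ⊔ C.V₁) ⊓ C.P₁ ≤ C.V₁ := by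
      intro x hx
      rcases b.Q_cover x (hDQ hx) with h | h
      · exact h
      · exfalso
        apply hcD'
        have h1 : C.c₁ * x ∈ (Y ⊔ C.V₁) ⊓ C.P₁ := ⟨le_sup_right (a := Y) h, hV₁P h⟩
        have := ((Y ⊔ C.V₁) ⊓ C.P₁).mul_mem h1 (((Y ⊔ C.V₁) ⊓ C.P₁).inv_mem hx)
        have e : C.c₁ * x * x⁻¹ = C.c₁ := by group
        rwa [e] at this
    -- `W = V₁`
    have hWV : Y ⊔ C.V₁ = C.V₁ := by
      by_contra hne
      have hlt : C.V₁ < Y ⊔ C.V₁ := lt_of_le_of_ne le_sup_right (Ne.symm hne)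
      obtain ⟨x, hxW, hxN, hxV⟩ := Cfsg.Agent.Helper19.exists_mem_normalizer_not_mem hWp hlt
      rw [d.d0.norm_V₁] at hxN
      exact hxV (hDV ⟨hxW, hxN⟩)
    have hYV : Y ≤ C.V₁ := by rw [← hWV]; exact le_sup_left
    -- `Y = V₁`
    obtain ⟨y, hy1⟩ := (Subgroup.ne_bot_iff_exists_ne_one.mp hYne)
    have hVY : C.V₁ ≤ Y := by
      intro w hw
      by_cases hw1 : w = 1
      · rw [hw1]; exact Y.one_mem
      · have hy1' : (y : G) ≠ 1 := fun h => hy1 (Subtype.ext h)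
        obtain ⟨k, hk, hkw⟩ := b.K_trans y (hYV y.2) w hw hy1' hw1
        have hkN : k ∈ normalizer (Y : Set G) := hLY (hRL (hK hk))
        rw [← hkw]
        exact (mem_normalizer_iff.mp hkN _).1 y.2
    have hYeq : Y = C.V₁ := le_antisymm hYV hVY
    rw [← hNY, hYeq, d.d0.norm_V₁]

end Cfsg.Agent.S0518P
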