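import Cfsg.Agent.Helper5.S0518BMAX1

/-! # S0518 board, piece BMAX2: `R₁ = O^2(G) ∩ P₁` is a maximal 2-local subgroup of `O^2(G)`, `≅ S₄`. -/

set_option autoImplicit false

universe u

namespace Cfsg.Agent.S0518P

open Cfsg Subgroup

variable {G : Type u} [Group G]

theorem BMAX2_aux_oddGen_le (P : Subgroup G) : oddGen P ≤ O2 G := by
  apply Subgroup.closure_mono
  intro g hg
  exact hg.2

theorem BMAX2_aux_exists_ge [Finite G] {L : Subgroup G} (h : IsTwoLocal L) :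
    ∃ P : Subgroup G, IsMaximalTwoLocal P ∧ L ≤ P := by
  obtain ⟨b, hLb, hb⟩ := Finite.exists_le_maximal (p := fun N : Subgroup G => IsTwoLocal N) h
  exact ⟨b, ⟨hb.1, fun N hN hbN => le_antisymm (hb.2 hN hbN) hbN⟩, hLb⟩

theorem BMAX2 [Finite G] {C : Cfg G} {z : G} (d : TData C z) (hc₁ : C.c₁ ∉ O2 G) :
    IsMaxTwoLocalIn (O2 G) (O2 G ⊓ C.P₁) ∧ Nonempty (↥(O2 G ⊓ C.P₁ : Subgroup G) ≃* Equiv.Perm (Fin 4)) ∧
      Nat.card ↥(O2 G ⊓ C.P₁ : Subgroup G) = 24 ∧ C.T₀ ≤ O2 G ⊓ C.P₁ := by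
  have b := d.base.b₁
  have b' := d.base.b₂
  have hK₁H : C.K₁ ≤ O2 G := by rw [b.K_eq]; exact BMAX2_aux_oddGen_le _
  have hK₂H : C.K₂ ≤ O2 G := by rw [b'.K_eq]; exact BMAX2_aux_oddGen_le _
  have hV₁K : C.V₁ ≤ C.K₁ := by rw [b.V_eq]; exact inf_le_right
  have hV₂K : C.V₂ ≤ C.K₂ := by rw [b'.V_eq]; exact inf_le_right
  have hT₀H : C.T₀ ≤ O2 G := sup_le (hV₁K.trans hK₁H) (hV₂K.trans hK₂H)
  have hT₀R : C.T₀ ≤ O2 G ⊓ C.P₁ := le_inf hT₀H (d.d2.T₀_le.trans b.T_le)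
  have hK₁R : C.K₁ ≤ O2 G ⊓ C.P₁ := le_inf hK₁H b.K_le
  have hcR : C.c₁ ∉ O2 G ⊓ C.P₁ := fun h => hc₁ h.1
  have hc₁P : C.c₁ ∈ C.P₁ := b.T_le (b.Q_le b.c_mem)
  -- the order of `R₁`
  have hcard : Nat.card ↥(O2 G ⊓ C.P₁ : Subgroup G) = 24 := by
    have h1 : 12 ∣ Nat.card ↥(O2 G ⊓ C.P₁ : Subgroup G) := by
      rw [← b.card_K]; exact Subgroup.card_dvd_of_le hK₁R
    have h2 : 8 ∣ Nat.card ↥(O2 G ⊓ C.P₁ : Subgroup G) := by
      rw [← d.d2.card_T₀]; exact Subgroup.card_dvd_of_le hT₀R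
    have h3 : Nat.card ↥(O2 G ⊓ C.P₁ : Subgroup G) ∣ 48 := by
      rw [← b.card_P]; exact Subgroup.card_dvd_of_le inf_le_right
    have h4 : Nat.card ↥(O2 G ⊓ C.P₁ : Subgroup G) ≠ 48 := by
      intro h
      have : O2 G ⊓ C.P₁ = C.P₁ := by
        apply Subgroup.eq_of_le_of_card_ge inf_le_right
        rw [h, b.card_P]
      exact hcR (by rw [this]; exact hc₁P)
    have h5 : 24 ∣ Nat.card ↥(O2 G ⊓ C.P₁ : Subgroup G) := by
      have := Nat.lcm_dvd h1 h2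
      have e : Nat.lcm 12 8 = 24 := by decide
      rwa [e] at this
    obtain ⟨k, hk⟩ := h5
    have hle := Nat.le_of_dvd (by norm_num) h3
    have hpos : 0 < Nat.card ↥(O2 G ⊓ C.P₁ : Subgroup G) := Nat.card_pos
    omega
  have hV₁2 : IsPGroup 2 ↥C.V₁ := IsPGroup.of_card (n := 2) (by rw [b.card_V]; norm_num)
  have hV₁ne : C.V₁ ≠ ⊥ := by
    intro h
    have := b.card_V
    rw [h] at this
    simp at this
  refine ⟨⟨⟨C.V₁, hV₁K.trans hK₁H, hV₁2, hV₁ne, ?_⟩, ?_⟩, b.compl _ inf_le_right hcR hcard, hcard, hT₀R⟩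
  · rw [d.d0.norm_V₁, inf_comm]
  · rintro N ⟨X, hXH, hX2, hXne, rfl⟩ hRN
    obtain ⟨L, hL, hXL⟩ := BMAX2_aux_exists_ge (L := normalizer (X : Set G)) ⟨X, hX2, hXne, rfl⟩
    have hLP : L = C.P₁ :=
      BMAX1 d (O2 G ⊓ C.P₁) inf_le_right hK₁R hcard hcR L hL ((hRN.trans inf_le_left).trans hXL)
    apply le_antisymm _ hRN
    rw [inf_comm]
    exact inf_le_inf_left _ (hXL.trans hLP.le)

end Cfsg.Agent.S0518P
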