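import Cfsg.Agent.Helper5.S0518BFINa
import Cfsg.Agent.Helper9.S0518MAXLOC
import Cfsg.Agent.Helper28.S0518LIB48
import Cfsg.Agent.Helper5.S0518BASEh
import Cfsg.Agent.Helper20.S0518PAIR1
import Cfsg.Agent.Helper20.S0518PAIR2
import Cfsg.Agent.Helper15.S0518PAIR3
import Cfsg.Agent.Helper15.S0518SYMM
import Cfsg.Agent.Helper23.S0518TS
import Cfsg.Agent.Helper23.S0518LT3
import Cfsg.Agent.Helper1.S0518LT5

/-! # S0518 board, pieces NOTIN, BFIN, CASEB: case B of S0518 (both maximal 2-locals `≅ S₄ × C₂`). -/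

set_option autoImplicit false

universe u

namespace Cfsg.Agent.S0518P

open Cfsg Subgroup

variable {G : Type u} [Group G]

theorem NOTIN_aux [Finite G] (hZ : ZN G) {C : Cfg G} {z : G} (d : TData C z) : C.c₁ ∉ O2 G := by
  have h2 : IsPGroup 2 ↥C.T := IsPGroup.of_card (n := 4) (by rw [d.base.b₁.card_T]; norm_num)
  obtain ⟨S, hTS⟩ := h2.exists_le_sylow
  by_cases hne : C.T = (S : Subgroup G)
  · exact TS d S hne.symm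
  · exact LT5 d S (LT3 hZ d S hTS hne)

theorem NOTIN [Finite G] (hZ : ZN G) {C : Cfg G} {z : G} (d : TData C z) : C.c₁ ∉ O2 G ∧ C.c₂ ∉ O2 G :=
  ⟨NOTIN_aux hZ d, NOTIN_aux hZ (SYMM d)⟩

theorem BFIN [Finite G] {C : Cfg G} {z : G} (d : TData C z) (hc₁ : C.c₁ ∉ O2 G) (hc₂ : C.c₂ ∉ O2 G) :
    GConcl (O2 G) := BFIN_aux d (SYMM d) hc₁ hc₂

theorem CASEB [Finite G] (hZ : ZN G) {P₁ P₂ T : Subgroup G} (hne : P₁ ≠ P₂) (m₁ : IsMaximalTwoLocal P₁)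
    (m₂ : IsMaximalTwoLocal P₂) (s₁ : IsSylowTwoIn T P₁) (s₂ : IsSylowTwoIn T P₂)
    (e₁ : Nonempty (↥P₁ ≃* Equiv.Perm (Fin 4) × Multiplicative (ZMod 2)))
    (e₂ : Nonempty (↥P₂ ≃* Equiv.Perm (Fin 4) × Multiplicative (ZMod 2))) : GConcl (O2 G) := by
  obtain ⟨c₁, Q₁, K₁, V₁, b₁⟩ := LIB48 s₁ e₁
  obtain ⟨c₂, Q₂, K₂, V₂, b₂⟩ := LIB48 s₂ e₂
  let C : Cfg G := ⟨P₁, P₂, T, c₁, c₂, Q₁, Q₂, K₁, K₂, V₁, V₂⟩
  have hb : TBase C := ⟨b₁, b₂, hne, MAXLOC_maxN m₁, MAXLOC_maxN m₂⟩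
  have h0 := BASEh hb
  have h1 := PAIR1 hb h0
  obtain ⟨z, h2⟩ := PAIR2 hb h0 h1
  have h3 := PAIR3 hb h0 h1 h2
  have d : TData C z := ⟨hb, h0, h1, h2, h3⟩
  obtain ⟨hc₁, hc₂⟩ := NOTIN hZ d
  exact BFIN d hc₁ hc₂

end Cfsg.Agent.S0518P
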