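import Cfsg.Agent.Helper5.S0518Defs
import Cfsg.Agent.Helper15.JComp15
import Cfsg.Agent.S2954
import Cfsg.Agent.S2947

/-! # S0518 board, piece GLUE (hedge copy by helper5, theorem `GLUEh`): S2947 + S2954 + existence of a
lexicographically maximal straddling 2-subgroup. -/

set_option autoImplicit false

universe u

namespace Cfsg.Agent.S0518P

open Cfsg Subgroup

variable {G : Type u} [Group G]

theorem GLUEh_aux_exists_max [Finite G] (M : Subgroup G) (hne : straddlingTwoSubgroups M ≠ ∅) :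
    ∃ T : Subgroup G, T ∈ maxStraddlingTwoSubgroups M := by
  classical
  have hfin : (straddlingTwoSubgroups M).Finite := Set.toFinite _
  obtain ⟨T₁, hT₁⟩ := Set.nonempty_iff_ne_empty.mpr hne
  let f : Subgroup G → ℕ ×ₗ (ℕ ×ₗ ℕ) := fun T =>
    toLex (maxElemAbelianOrder T, toLex (Nat.card ↥(thompsonSubgroupOf 2 T), Nat.card ↥T))
  obtain ⟨T₀, hT₀, hmax⟩ := Finset.exists_max_image hfin.toFinset f ⟨T₁, hfin.mem_toFinset.mpr hT₁⟩
  refine ⟨T₀, hfin.mem_toFinset.mp hT₀, fun T hT => ?_⟩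
  have h := hmax T (hfin.mem_toFinset.mpr hT)
  simp only [f, Prod.Lex.toLex_le_toLex] at h
  rcases h with h | ⟨h1, h | ⟨h2, h3⟩⟩
  · exact ⟨h.le, fun e => absurd e h.ne⟩
  · exact ⟨h1.le, fun _ => ⟨h.le, fun e => absurd e h.ne⟩⟩
  · exact ⟨h1.le, fun _ => ⟨h2.le, fun _ => h3⟩⟩

theorem GLUEh_aux_hZ (hZ : ZN G) (S : Sylow 2 G) :
    centralizer (omegaCenterOf (S : Subgroup G) : Set G) ≤ normalizer ((S : Subgroup G) : Set G) := by
  refine le_trans ?_ (hZ S)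
  apply Subgroup.centralizer_le
  intro z hz
  apply Subgroup.subset_closure
  have hzc : z ∈ centralizer ((S : Subgroup G) : Set G) := by
    rw [mem_centralizer_iff]
    intro s hs
    exact hz.2.2 s hs
  exact ⟨⟨hz.1, hzc⟩, hz.2.1⟩

/-- S2947 + S2954 + existence of a maximal straddler -/
theorem GLUEh [Finite G] (hL : IsCharacteristicTwoType G)
    (hO : pCore 2 G = ⊥) (hN : ∀ N : Subgroup G, IsTwoLocal N → Group.IsSolvable ↥N) (hZ : ZN G) :
    (∃ K : Subgroup G, IsStronglyEmbedded K) ∨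
      ∃ P₁ P₂ T : Subgroup G, P₁ ≠ P₂ ∧ IsMaximalTwoLocal P₁ ∧ IsMaximalTwoLocal P₂ ∧
        IsSylowTwoIn T P₁ ∧ IsSylowTwoIn T P₂ ∧
        ((Nonempty (↥P₁ ≃* Equiv.Perm (Fin 4)) ∧ Nonempty (↥P₂ ≃* Equiv.Perm (Fin 4))) ∨
          (Nonempty (↥P₁ ≃* Equiv.Perm (Fin 4) × Multiplicative (ZMod 2)) ∧
            Nonempty (↥P₂ ≃* Equiv.Perm (Fin 4) × Multiplicative (ZMod 2)))) := by
  have : Fact (Nat.Prime 2) := ⟨Nat.prime_two⟩
  have hZ' := GLUEh_aux_hZ hZ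
  let S : Sylow 2 G := default
  have hS2 : IsPGroup 2 ↥(S : Subgroup G) := S.isPGroup'
  have hSne : (S : Subgroup G) ≠ ⊥ := S.ne_bot_of_dvd_card (even_iff_two_dvd.mp hL.1)
  have hJne := Cfsg.Agent.Helper15.JComp.thompsonSubgroupOf_ne_bot hS2 hSne
  have hJle : thompsonSubgroupOf 2 (S : Subgroup G) ≤ (S : Subgroup G) := by
    unfold thompsonSubgroupOf
    exact Subgroup.map_subtype_le _
  have hM : IsTwoLocal (normalizer (thompsonSubgroupOf 2 (S : Subgroup G) : Set G)) :=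
    ⟨_, hS2.to_le hJle, hJne, rfl⟩
  by_cases hse : IsStronglyEmbedded (normalizer (thompsonSubgroupOf 2 (S : Subgroup G) : Set G))
  · exact Or.inl ⟨_, hse⟩
  · right
    have hne : straddlingTwoSubgroups (normalizer (thompsonSubgroupOf 2 (S : Subgroup G) : Set G)) ≠ ∅ :=
      fun h => hse ((Cfsg.Agent.S2947.result hL hN hZ' hO S _ hM le_rfl).2 h)
    obtain ⟨T, hT⟩ := GLUEh_aux_exists_max _ hne
    obtain ⟨P₁, P₂, h⟩ := Cfsg.Agent.S2954.result hL hN hZ' hO S _ hM le_rfl T hT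
    exact ⟨P₁, P₂, T, h⟩

end Cfsg.Agent.S0518P
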