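import Mathlib
import Cfsg.Agent.Helper18.S0679BR
import Cfsg.Agent.Helper4.S0679J
import Cfsg.Agent.Helper25.S0679CT
import Cfsg.Agent.Helper16.S0679FIXONLY
import Cfsg.Agent.Helper20.S0679NO33Core

set_option autoImplicit false
set_option linter.unusedSectionVars false
set_option linter.unusedVariables false

/-! # S0679 (insoluble transitive groups of degree 11), chapter (4) (designer helper18), piece 4-TRANS3:
a 2-transitive group of degree 11 and order 95040 not containing `A_11` is 3-transitive. -/

namespace Cfsg.Agent.S0679P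

open Equiv MulAction

variable {α : Type*} [Fintype α] [DecidableEq α] {G : Subgroup (Equiv.Perm α)}

/-- the stabiliser of a triple has order 96 -/
theorem FOUR.TRANS3.aux_card (h11 : Fintype.card α = 11) (h2 : IsMultiplyPretransitive G α 2)
    (hA : ¬ alternatingGroup α ≤ G) (hord : Nat.card G = 95040) (x : Fin 3 ↪ α) :
    Nat.card (stabilizer G x) = 96 := by
  classical
  have hcardE : Fintype.card (Fin 3 ↪ α) = 990 := by
    rw [Fintype.card_embedding_eq, h11, Fintype.card_fin]; rfl
  set x2 : Fin 2 ↪ α := (Fin.castSuccEmb (n := 2)).trans x with hx2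
  have hle : stabilizer G x ≤ stabilizer G x2 := by
    intro k hk
    rw [mem_stabilizer_iff] at hk ⊢
    ext i
    have := DFunLike.congr_fun hk (Fin.castSucc i)
    exact this
  have h864 : Nat.card (stabilizer G x2) = 864 := by
    have := BR.card_stab h2 x2
    rw [h11, hord] at this
    have h110 : (11 : ℕ).descFactorial 2 = 110 := by decide
    rw [h110] at this
    omega
  have hdvd : Nat.card (stabilizer G x) ∣ 864 := by
    rw [← h864]; exact Subgroup.card_dvd_of_le hle
  have h9 : ¬ 9 ∣ Nat.card (stabilizer G x) := by
    intro hd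
    have : Fact (Nat.Prime 3) := ⟨Nat.prime_three⟩
    have hd' : 3 ^ 2 ∣ Nat.card (stabilizer G x) := by
      have : (3 : ℕ) ^ 2 = 9 := by norm_num
      rw [this]; exact hd
    obtain ⟨K', hK'⟩ := Sylow.exists_subgroup_card_pow_prime 3 hd'
    set T : Subgroup (Perm α) := (K'.map (stabilizer G x).subtype).map G.subtype with hT
    have hTG : T ≤ G := by
      rw [hT]; exact Subgroup.map_subtype_le _
    have hTc : Nat.card T = 9 := by
      rw [hT, Subgroup.card_map_of_injective (Subgroup.subtype_injective _),
        Subgroup.card_map_of_injective (Subgroup.subtype_injective _), hK']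
      norm_num
    have hfix : ∀ t ∈ T, ∀ i, t (x i) = x i := by
      intro t ht i
      rw [hT] at ht
      obtain ⟨g, hg, rfl⟩ := Subgroup.mem_map.mp ht
      obtain ⟨k, hk, rfl⟩ := Subgroup.mem_map.mp hg
      exact (BR.mem_stab _ x).mp k.2 i
    have h01 : x 0 ≠ x 1 := x.injective.ne (by decide)
    have h02 : x 0 ≠ x 2 := x.injective.ne (by decide)
    have h12 : x 1 ≠ x 2 := x.injective.ne (by decide)
    obtain ⟨t, ht, htw⟩ := FIXONLY h11 h2 hA T hTG hTc h01 h02 h12
      (fun t ht => hfix t ht 0) (fun t ht => hfix t ht 1)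
    exact htw (hfix t ht 2)
  -- orbit-stabiliser
  have hidx : Nat.card (stabilizer G x) * (stabilizer G x).index = 95040 := by
    rw [Subgroup.card_mul_index, hord]
  have hix : (stabilizer G x).index = (orbit G x).ncard := MulAction.index_stabilizer (↥G) x
  have hole : (orbit G x).ncard ≤ 990 := by
    have := Set.ncard_le_ncard (Set.subset_univ (orbit G x)) Set.finite_univ
    rw [Set.ncard_univ, Nat.card_eq_fintype_card, hcardE] at this
    exact this
  have hpos : 0 < Nat.card (stabilizer G x) := Nat.card_pos
  obtain ⟨m, hm⟩ := hdvd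
  generalize Nat.card (stabilizer G x) = c at *
  generalize (stabilizer G x).index = o at *
  have ho : o = 110 * m := by
    have : c * o = c * (110 * m) := by
      rw [hidx]
      have : c * (110 * m) = 110 * (c * m) := by ring
      rw [this, ← hm]
    exact Nat.eq_of_mul_eq_mul_left hpos this
  have hm9 : m ≤ 9 := by omega
  have hm1 : 1 ≤ m := by
    rcases Nat.eq_zero_or_pos m with h0 | h0
    · rw [h0] at hm; omega
    · exact h0
  interval_cases m <;> omega

theorem FOUR.TRANS3 (h11 : Fintype.card α = 11) (h2 : IsMultiplyPretransitive G α 2)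
    (hA : ¬ alternatingGroup α ≤ G) (hord : Nat.card G = 95040) :
    IsMultiplyPretransitive G α 3 := by
  classical
  apply BR.of_card
  intro x
  rw [h11, hord, FOUR.TRANS3.aux_card h11 h2 hA hord x]
  decide

end Cfsg.Agent.S0679P
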