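import Mathlib
import Cfsg.Agent.Helper24.S2536MAXHALL
import Cfsg.Agent.Helper19.S2536ATMOSTONE
import Cfsg.Agent.Helper5.S2536HALLSTRUCT
import Cfsg.Agent.Helper11.S2536SNCONJ

set_option autoImplicit false

/-! S2536 project, Stage 2, piece ACONJ: the Hall subgroups of the alternating group are conjugate. -/

namespace Cfsg.Agent.S2536P

open Equiv Nat

universe u

namespace ACONJ

variable {α : Type u} [Fintype α] [DecidableEq α]

theorem prime_le_of_dvd_card_alt {p : ℕ} (hp : p.Prime)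
    (h : p ∣ Nat.card ↥(alternatingGroup α)) : p ≤ Fintype.card α := by
  have h1 : p ∣ Nat.card (Perm α) := h.trans (Subgroup.card_subgroup_dvd_card _)
  rw [Nat.card_eq_fintype_card, Fintype.card_perm] at h1
  exact (Nat.Prime.dvd_factorial hp).mp h1

/-- conjugating by an even permutation commutes with intersecting with the alternating group -/
theorem subgroupOf_map_conj (M₀ : Subgroup (Perm α)) (g : Perm α) (hg : g ∈ alternatingGroup α) :
    (M₀.map (MulAut.conj g).toMonoidHom).subgroupOf (alternatingGroup α) =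
      (M₀.subgroupOf (alternatingGroup α)).map
        (MulAut.conj (⟨g, hg⟩ : alternatingGroup α)).toMonoidHom := by
  ext k
  rw [Subgroup.mem_subgroupOf]
  constructor
  · rintro ⟨m, hm, hmk⟩
    have hmk' : g * m * g⁻¹ = (k : Perm α) := hmk
    have hmA : m ∈ alternatingGroup α := by
      have : m = g⁻¹ * (k : Perm α) * g := by
        rw [← hmk']
        group
      rw [this]
      exact (alternatingGroup α).mul_mem ((alternatingGroup α).mul_mem
        ((alternatingGroup α).inv_mem hg) k.2) hg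
    refine ⟨⟨m, hmA⟩, ?_, ?_⟩
    · show (⟨m, hmA⟩ : alternatingGroup α) ∈ M₀.subgroupOf (alternatingGroup α)
      rw [Subgroup.mem_subgroupOf]
      exact hm
    · apply Subtype.ext
      exact hmk'
  · rintro ⟨a, ha, hak⟩
    rw [SetLike.mem_coe, Subgroup.mem_subgroupOf] at ha
    refine ⟨(a : Perm α), ha, ?_⟩
    have := congrArg Subtype.val hak
    exact this

end ACONJ

open ACONJ in
/-- ACONJ -/
theorem alt_isCPiGroup_of_isEPiGroup {α : Type u} [Fintype α] [DecidableEq α] {π : Set ℕ}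
    (hext : ∀ M : Subgroup (alternatingGroup α), Cfsg.IsPiHall π M →
      ∃ M₀ : Subgroup (Perm α), Cfsg.IsPiHall π M₀ ∧ M = M₀.subgroupOf (alternatingGroup α))
    (h : Cfsg.IsEPiGroup π (alternatingGroup α)) : Cfsg.IsCPiGroup π (alternatingGroup α) := by
  have hcard : Nat.card α = Fintype.card α := Nat.card_eq_fintype_card
  by_cases hall : AllLE π (Fintype.card α)
  · exact isCPiGroup_of_isDPiGroup (isDPiGroup_of_all' fun r hr hrd =>
      hall r hr (prime_le_of_dvd_card_alt hr hrd))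
  by_cases hTwo : Two π (Fintype.card α)
  swap
  · refine isCPiGroup_of_isDPiGroup (isDPiGroup_of_atMostOne' fun r s hr hs hrπ hsπ hrd hsd => ?_)
    by_contra hne
    exact hTwo ⟨r, s, hr, hs, hne, hrπ, hsπ, prime_le_of_dvd_card_alt hr hrd,
      prime_le_of_dvd_card_alt hs hsd⟩
  have hNot : NotAll π (Fintype.card α) := by
    unfold AllLE at hall
    push Not at hall
    obtain ⟨r, hr, hrn, hrπ⟩ := hall
    exact ⟨r, hr, hrn, hrπ⟩
  refine ⟨h, fun M M' hM hM' => ?_⟩
  obtain ⟨M₀, hM₀, rfl⟩ := hext M hM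
  obtain ⟨M₀', hM₀', rfl⟩ := hext M' hM'
  obtain ⟨g, hg⟩ := (perm_isCPiGroup_of_isEPiGroup ⟨M₀, hM₀⟩).2 M₀ M₀' hM₀ hM₀'
  have hn3 : 3 ≤ Fintype.card α := by
    obtain ⟨r, s, hr, hs, hrs, -, -, hrn, hsn⟩ := hTwo
    have := hr.two_le
    have := hs.two_le
    omega
  -- `2 ∈ π`
  have h2 : 2 ∈ π := by
    rcases hall_struct hM₀ (hcard ▸ hTwo) (hcard ▸ hNot) with ⟨-, hπ, -⟩ | ⟨-, h23, -⟩ | ⟨-, h23, -⟩
    · exact (hπ 2 Nat.prime_two (by omega)).mpr (by omega)
    · exact (h23 2 Nat.prime_two (by norm_num)).mpr (Or.inl rfl)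
    · exact (h23 2 Nat.prime_two (by norm_num)).mpr (Or.inl rfl)
  -- an odd element of `M₀`
  have hodd : ∃ h₀ ∈ M₀, h₀ ∉ alternatingGroup α := by
    by_contra hcon
    push Not at hcon
    have hle : M₀ ≤ alternatingGroup α := hcon
    have hnt : Nontrivial α := Fintype.one_lt_card_iff_nontrivial.mp (by omega)
    have h2i : 2 ∣ M₀.index := by
      have := Subgroup.index_dvd_of_le hle
      rwa [alternatingGroup.index_eq_two] at this
    exact hM₀.2 2 Nat.prime_two h2 h2i
  obtain ⟨h₀, hh₀, hh₀A⟩ := hodd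
  -- an even conjugating element
  have hex : ∃ g' ∈ alternatingGroup α, M₀' = M₀.map (MulAut.conj g').toMonoidHom := by
    by_cases hgA : g ∈ alternatingGroup α
    · exact ⟨g, hgA, hg⟩
    · refine ⟨g * h₀, ?_, ?_⟩
      · rw [Perm.mem_alternatingGroup] at hgA hh₀A ⊢
        have e1 : Perm.sign g = -1 := (Int.units_eq_one_or _).resolve_left hgA
        have e2 : Perm.sign h₀ = -1 := (Int.units_eq_one_or _).resolve_left hh₀A
        rw [map_mul, e1, e2]
        rfl
      · rw [hg]
        ext k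
        constructor
        · rintro ⟨m, hm, rfl⟩
          refine ⟨h₀⁻¹ * m * h₀, M₀.mul_mem (M₀.mul_mem (M₀.inv_mem hh₀) hm) hh₀, ?_⟩
          simp only [MulEquiv.coe_toMonoidHom, MulAut.conj_apply]
          group
        · rintro ⟨m, hm, rfl⟩
          refine ⟨h₀ * m * h₀⁻¹, M₀.mul_mem (M₀.mul_mem hh₀ hm) (M₀.inv_mem hh₀), ?_⟩
          simp only [MulEquiv.coe_toMonoidHom, MulAut.conj_apply]
          group
  obtain ⟨g', hg'A, hg'⟩ := hex
  refine ⟨⟨g', hg'A⟩, ?_⟩
  rw [hg', subgroupOf_map_conj M₀ g' hg'A]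

end Cfsg.Agent.S2536P
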