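import Mathlib
import Cfsg.Agent.Helper5.S2536DefsA

set_option autoImplicit false

/-! S2536 project, Stage 2, piece BASEPROD: the "product of the restrictions" `baseProd f N`. -/

namespace Cfsg.Agent.S2536P

open Equiv

universe u v

section

set_option linter.unusedSectionVars false

variable {α : Type u} [Fintype α] [DecidableEq α]

/-- BASEPROD1 -/
theorem piNum_card_baseProd {β : Type v} {π : Set ℕ} (f : α → β) (N : Subgroup (Perm α))
    (hN : ∀ g ∈ N, ∀ x, f (g x) = f x) (hπ : PiNum π (Nat.card N)) :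
    PiNum π (Nat.card (baseProd f N)) := by
  intro q hq hqd
  have : Fact q.Prime := ⟨hq⟩
  obtain ⟨⟨g, hgP⟩, hgo⟩ := exists_prime_orderOf_dvd_card' q hqd
  have hgo' : orderOf g = q := by
    rw [← hgo]
    exact (Subgroup.orderOf_mk g hgP).symm
  obtain ⟨hgf, hgN⟩ := hgP
  -- a point moved by `g`
  have hg1 : g ≠ 1 := by
    rintro rfl
    rw [orderOf_one] at hgo'
    exact hq.one_lt.ne' hgo'.symm
  obtain ⟨x, hx⟩ : ∃ x, g x ≠ x := by
    by_contra hcon
    push Not at hcon
    exact hg1 (Equiv.ext hcon)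
  obtain ⟨n, hnN, hgn⟩ := hgN (f x)
  -- the restrictions to the fibre of `f x`
  set p : α → Prop := fun y => f y = f x with hp
  have hginv : ∀ y, p (g y) ↔ p y := fun y => by simp only [hp, hgf]
  have hninv : ∀ y, p (n y) ↔ p y := fun y => by simp only [hp, hN n hnN]
  have hres : g.subtypePerm hginv = n.subtypePerm hninv := by
    ext y
    simp only [Perm.subtypePerm_apply]
    exact hgn y.1 y.2
  have hpow : (g.subtypePerm hginv) ^ q = 1 := by
    rw [Perm.subtypePerm_pow]
    have : g ^ q = 1 := by rw [← hgo']; exact pow_orderOf_eq_one g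
    ext y
    simp [Perm.subtypePerm_apply, this]
  have hne : g.subtypePerm hginv ≠ 1 := by
    intro h
    have := congrArg (fun σ : Perm {y // p y} => (σ ⟨x, rfl⟩ : α)) h
    exact hx this
  have hord : orderOf (g.subtypePerm hginv) = q := by
    have hdvd := orderOf_dvd_of_pow_eq_one hpow
    rcases (Nat.dvd_prime hq).mp hdvd with h1 | h1
    · exact absurd (orderOf_eq_one_iff.mp h1) hne
    · exact h1
  have hdvd : orderOf (n.subtypePerm hninv) ∣ orderOf n := by
    apply orderOf_dvd_of_pow_eq_one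
    rw [Perm.subtypePerm_pow]
    ext y
    simp [Perm.subtypePerm_apply, pow_orderOf_eq_one]
  rw [← hres, hord] at hdvd
  exact hπ q hq (hdvd.trans (Subgroup.orderOf_dvd_natCard N hnN))

/-- BASEPROD2 -/
theorem conj_mem_baseProd {β : Type v} (f : α → β) (N : Subgroup (Perm α)) {m : Perm α}
    {σ : Perm β} (hm : ∀ x, f (m x) = σ (f x)) (hmN : ∀ g ∈ N, m * g * m⁻¹ ∈ N) :
    ∀ g ∈ baseProd f N, m * g * m⁻¹ ∈ baseProd f N := by
  rintro g ⟨hgf, hgN⟩
  have hminv : ∀ x, f (m⁻¹ x) = σ⁻¹ (f x) := fun x => by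
    have := hm (m⁻¹ x)
    rw [show m (m⁻¹ x) = x by simp] at this
    rw [this]
    simp
  refine ⟨fun x => ?_, fun c => ?_⟩
  · simp only [Perm.mul_apply]
    rw [hm, hgf, hminv]
    simp
  · obtain ⟨n, hnN, hgn⟩ := hgN (σ⁻¹ c)
    refine ⟨m * n * m⁻¹, hmN n hnN, fun x hx => ?_⟩
    simp only [Perm.mul_apply]
    rw [hgn (m⁻¹ x) (by rw [hminv, hx])]

/-- BASEPROD3 -/
theorem two_mul_card_dvd_of_baseProd_le {β : Type v} (f : α → β) (N : Subgroup (Perm α))
    (hP : baseProd f N ≤ alternatingGroup α) (c : β) (hc : 2 ≤ Nat.card {x // f x = c})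
    (K : Subgroup (Perm {x // f x = c}))
    (hK : ∀ σ ∈ K, ∃ n ∈ N, ∀ x : {x // f x = c}, ((σ x : {x // f x = c}) : α) = n x) :
    2 * Nat.card K ∣ (Nat.card {x // f x = c}).factorial := by
  classical
  have hKalt : K ≤ alternatingGroup {x // f x = c} := by
    intro σ hσ
    obtain ⟨n, hnN, hσn⟩ := hK σ hσ
    have hmem : Perm.ofSubtype σ ∈ baseProd f N := by
      refine ⟨fun x => ?_, fun c' => ?_⟩
      · by_cases hx : f x = c
        · rw [Perm.ofSubtype_apply_of_mem σ hx]
          rw [(σ ⟨x, hx⟩).2, hx]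
        · rw [Perm.ofSubtype_apply_of_not_mem σ hx]
      · by_cases hcc : c' = c
        · subst hcc
          refine ⟨n, hnN, fun x hx => ?_⟩
          rw [Perm.ofSubtype_apply_of_mem σ hx]
          exact hσn ⟨x, hx⟩
        · refine ⟨1, N.one_mem, fun x hx => ?_⟩
          rw [Perm.ofSubtype_apply_of_not_mem σ (by rw [hx]; exact hcc)]
          rfl
    have := hP hmem
    rw [Perm.mem_alternatingGroup, Perm.sign_ofSubtype] at this
    exact Perm.mem_alternatingGroup.mpr this
  have h1 : Nat.card K ∣ Nat.card (alternatingGroup {x // f x = c}) := Subgroup.card_dvd_of_le hKalt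
  have h2 : 2 * Nat.card (alternatingGroup {x // f x = c}) =
      (Nat.card {x // f x = c}).factorial := by
    rw [Nat.card_eq_fintype_card (α := {x // f x = c})]
    exact two_mul_card_alt (by rw [← Nat.card_eq_fintype_card]; exact hc)
  rw [← h2]
  exact Nat.mul_dvd_mul_left 2 h1

end

end Cfsg.Agent.S2536P
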