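import Mathlib
import Cfsg.Agent.Helper5.S2536BASEPROD
import Cfsg.Agent.Helper5.S2536FIBER4
import Cfsg.Agent.Helper21.S2536BLOCKSYS
import Cfsg.Agent.Helper21.S2536WNUM
import Cfsg.Agent.Helper3.S2536PISUP

set_option autoImplicit false

/-! S2536 project, Stage 2, piece EXTIMPRIM: a transitive imprimitive Hall subgroup of the alternating
group extends to a Hall subgroup of the symmetric group. -/

namespace Cfsg.Agent.S2536P

open Equiv Nat

universe u

open FIBER4 in
/-- EXTIMPRIM -/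
theorem ext_imprim {α : Type u} [Fintype α] [DecidableEq α] {π : Set ℕ} {M : Subgroup (Perm α)}
    (hM : AHall π M) (h2 : 2 ∈ π)
    (htr : MulAction.IsPretransitive M α) (hnp : ¬ MulAction.IsPreprimitive M α) :
    ∃ M₀ : Subgroup (Perm α), M ≤ M₀ ∧ Nat.card M₀ = 2 * Nat.card M := by
  classical
  obtain ⟨β, hβ, f, ρ, hsurj, hf, hprim, hb2, hblt⟩ := blocksys htr hnp
  have := Fintype.ofFinite β
  have hβne : Nonempty β := by
    have : 0 < Nat.card β := by omega
    exact (Nat.card_pos_iff.mp this).1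
  obtain ⟨c₀⟩ := hβne
  have htrβ : MulAction.IsPretransitive ρ.range β := hprim.toIsPretransitive
  have hn : 2 ≤ Fintype.card α := by
    rw [← Nat.card_eq_fintype_card]
    omega
  -- the kernel
  have hNf : ∀ g ∈ kerSub ρ, ∀ x, f (g x) = f x := by
    intro g hg x
    obtain ⟨hgM, hg1⟩ := (mem_kerSub ρ g).mp hg
    have := hf ⟨g, hgM⟩ x
    rw [hg1] at this
    exact this
  have hNM : kerSub ρ ≤ M := fun g hg => ((mem_kerSub ρ g).mp hg).1
  have hNP : kerSub ρ ≤ baseProd f (kerSub ρ) := le_baseProd f _ hNf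
  -- `M` normalizes `P`
  have hconj : ∀ m ∈ M, ∀ g ∈ baseProd f (kerSub ρ), m * g * m⁻¹ ∈ baseProd f (kerSub ρ) := by
    intro m hm
    refine conj_mem_baseProd f (kerSub ρ) (σ := ρ ⟨m, hm⟩) (fun x => hf ⟨m, hm⟩ x) ?_
    intro g hg
    obtain ⟨hgM, hg1⟩ := (mem_kerSub ρ g).mp hg
    rw [mem_kerSub]
    refine ⟨M.mul_mem (M.mul_mem hm hgM) (M.inv_mem hm), ?_⟩
    have : (⟨m * g * m⁻¹, M.mul_mem (M.mul_mem hm hgM) (M.inv_mem hm)⟩ : M) =
        ⟨m, hm⟩ * ⟨g, hgM⟩ * ⟨m, hm⟩⁻¹ := rfl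
    rw [this, map_mul, map_mul, hg1, mul_one, ← map_mul, mul_inv_cancel, map_one]
  have hnorm : M ≤ Subgroup.normalizer (baseProd f (kerSub ρ) : Set (Perm α)) := by
    intro m hm
    rw [Subgroup.mem_normalizer_iff]
    intro g
    constructor
    · exact hconj m hm g
    · intro hg
      have := hconj m⁻¹ (M.inv_mem hm) _ hg
      simpa [mul_assoc] using this
  -- the extension
  have hNπ : PiNum π (Nat.card (kerSub ρ)) := piNum_of_dvd hM.2.1 (Subgroup.card_dvd_of_le hNM)
  have hPπ : PiNum π (Nat.card (baseProd f (kerSub ρ))) := piNum_card_baseProd f _ hNf hNπ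
  have hM₀π : PiNum π (Nat.card (M ⊔ baseProd f (kerSub ρ) : Subgroup (Perm α))) :=
    piNum_of_dvd (piNum_mul hM.2.1 hPπ) (card_sup_dvd_mul hnorm)
  have hd := hM.card_dvd hn hM₀π
  obtain ⟨j, hj⟩ := Subgroup.card_dvd_of_le (le_sup_left : M ≤ M ⊔ baseProd f (kerSub ρ))
  have hMpos : 0 < Nat.card M := Nat.card_pos
  have hj2 : j ∣ 2 := by
    rw [hj, mul_comm 2] at hd
    exact (Nat.mul_dvd_mul_iff_left hMpos).mp hd
  have hj' : j = 1 ∨ j = 2 := (Nat.dvd_prime Nat.prime_two).mp hj2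
  rcases hj' with rfl | rfl
  swap
  · exact ⟨M ⊔ baseProd f (kerSub ρ), le_sup_left, by rw [hj, mul_comm]⟩
  exfalso
  have hM₀M : M ⊔ baseProd f (kerSub ρ) = M := by
    symm
    exact Subgroup.eq_of_le_of_card_ge le_sup_left (by rw [hj, mul_one])
  have hPalt : baseProd f (kerSub ρ) ≤ alternatingGroup α := by
    refine le_trans ?_ hM.1
    have : baseProd f (kerSub ρ) ≤ M ⊔ baseProd f (kerSub ρ) := le_sup_right
    exact this.trans hM₀M.le
  -- counting
  have hab : Nat.card α = Nat.card {x // f x = c₀} * Nat.card β := card_eq_fiber_mul f ρ hf htrβ c₀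
  have ha2 : 2 ≤ Nat.card {x // f x = c₀} := by
    by_contra hlt
    have : Nat.card {x // f x = c₀} ≤ 1 := by omega
    have : Nat.card {x // f x = c₀} * Nat.card β ≤ 1 * Nat.card β := Nat.mul_le_mul_right _ this
    omega
  set a := Nat.card {x // f x = c₀} with ha
  set b := Nat.card β with hb
  have hR : ∀ c, 2 * Nat.card (R f ρ hf c) ∣ a ! := by
    intro c
    have hc : Nat.card {x // f x = c} = a := card_fiber_eq f ρ hf htrβ c c₀
    have := two_mul_card_dvd_of_baseProd_le f (kerSub ρ) hPalt c (by omega) (R f ρ hf c) (by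
      rintro σ ⟨n, rfl⟩
      exact ⟨n.1, n.2, fun x => rfl⟩)
    rwa [hc] at this
  have hN : 2 ^ b * Nat.card (kerSub ρ) ∣ a ! ^ b := by
    have h1 := card_kerSub_dvd f ρ hf
    rw [Nat.card_pi] at h1
    have h3 : ∏ c : β, (2 * Nat.card (R f ρ hf c)) ∣ ∏ _c : β, a ! :=
      Finset.prod_dvd_prod_of_dvd _ _ fun c _ => hR c
    rw [Finset.prod_const, Finset.card_univ, ← Nat.card_eq_fintype_card (α := β),
      Finset.prod_mul_distrib, Finset.prod_const, Finset.card_univ,
      ← Nat.card_eq_fintype_card (α := β)] at h3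
    exact (Nat.mul_dvd_mul_left _ h1).trans h3
  have hMcard : Nat.card M = Nat.card (kerSub ρ) * Nat.card ρ.range := by
    rw [card_kerSub, ← Subgroup.index_ker, Subgroup.card_mul_index]
  have hrange : Nat.card ρ.range ∣ b ! := by
    rw [← card_perm_nat]
    exact Subgroup.card_subgroup_dvd_card ρ.range
  obtain ⟨i, hi, hiπ⟩ := hM.factorial hn
  have hfact : a ! ^ b * b ! ∣ (Fintype.card α)! := by
    rw [← Nat.card_eq_fintype_card, hab, factorial_mul_eq_wnum (by omega : 1 ≤ a) b]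
    exact Dvd.intro_left _ rfl
  have h4 : 2 ^ b * Nat.card M ∣ 2 * Nat.card M * i := by
    rw [← hi, hMcard, ← mul_assoc]
    exact (Nat.mul_dvd_mul hN hrange).trans hfact
  have h5 : 2 ∣ i := by
    obtain ⟨b', hb'⟩ : ∃ b', b = b' + 2 := ⟨b - 2, by omega⟩
    have e : 2 ^ b * Nat.card M = 2 * Nat.card M * (2 * 2 ^ b') := by
      rw [hb', pow_add]
      ring
    rw [e] at h4
    have := (Nat.mul_dvd_mul_iff_left (by omega : 0 < 2 * Nat.card M)).mp h4
    exact (Dvd.intro _ rfl).trans this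
  exact hiπ 2 Nat.prime_two h2 h5

end Cfsg.Agent.S2536P
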