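import Mathlib
import Cfsg.Agent.Helper5.S2536BASEPROD

set_option autoImplicit false

/-! S2536 project, Stage 2, piece EXTINTRANS: an intransitive Hall subgroup of the alternating group
either extends to a Hall subgroup of the symmetric group or fixes a point. -/

namespace Cfsg.Agent.S2536P

open Equiv Nat

universe u

namespace EXTINTRANS

set_option linter.unusedSectionVars false

variable {α : Type u} [Fintype α] [DecidableEq α]

theorem card_true_add_card_false (p : α → Prop) :
    Nat.card {x // p x = True} + Nat.card {x // p x = False} = Fintype.card α := by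
  classical
  have h1 : Nat.card {x // p x = True} = Nat.card {x // p x} :=
    Nat.card_congr (Equiv.subtypeEquivRight fun x => by simp)
  have h2 : Nat.card {x // p x = False} = Nat.card {x // ¬ p x} :=
    Nat.card_congr (Equiv.subtypeEquivRight fun x => by simp)
  rw [h1, h2, ← Nat.card_sum, Nat.card_congr (Equiv.sumCompl p), Nat.card_eq_fintype_card]

/-- a subgroup of `Perm α` leaving `p` invariant embeds in the product of its two restrictions -/
theorem card_dvd_mul_res (M : Subgroup (Perm α)) (p : α → Prop)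
    (h1 : Inv (fun x => p x = True) M) (h2 : Inv (fun x => p x = False) M) :
    Nat.card M ∣ Nat.card (resGroup (fun x => p x = True) M h1) *
      Nat.card (resGroup (fun x => p x = False) M h2) := by
  rw [← Nat.card_prod]
  let Φ : M →* resGroup (fun x => p x = True) M h1 × resGroup (fun x => p x = False) M h2 :=
    MonoidHom.prod (resHom _ M h1).rangeRestrict (resHom _ M h2).rangeRestrict
  apply Subgroup.card_dvd_of_injective Φ
  rw [injective_iff_map_eq_one]
  intro g hg
  apply Subtype.ext
  ext x
  have hg1 : resHom (fun x => p x = True) M h1 g = 1 := by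
    have := congrArg Prod.fst hg
    exact congrArg Subtype.val this
  have hg2 : resHom (fun x => p x = False) M h2 g = 1 := by
    have := congrArg Prod.snd hg
    exact congrArg Subtype.val this
  by_cases hx : p x
  · have := congrArg (fun σ : Perm {y // p y = True} => (σ ⟨x, eq_true hx⟩ : α)) hg1
    exact this
  · have := congrArg (fun σ : Perm {y // p y = False} => (σ ⟨x, eq_false hx⟩ : α)) hg2
    exact this

end EXTINTRANS

open EXTINTRANS in
/-- EXTINTRANS -/
theorem ext_intrans {α : Type u} [Fintype α] [DecidableEq α] {π : Set ℕ} {M : Subgroup (Perm α)}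
    (hM : AHall π M) (h2 : 2 ∈ π)
    (p : α → Prop) (hp : Inv p M) (hp1 : ∃ x, p x) (hp2 : ∃ x, ¬ p x) :
    (∃ M₀ : Subgroup (Perm α), M ≤ M₀ ∧ Nat.card M₀ = 2 * Nat.card M) ∨
      (∃ x : α, ∀ g ∈ M, g x = x) := by
  obtain ⟨x₁, hx₁⟩ := hp1
  obtain ⟨x₂, hx₂⟩ := hp2
  have hn : 2 ≤ Fintype.card α := by
    have hne : x₁ ≠ x₂ := fun h => hx₂ (h ▸ hx₁)
    exact Fintype.one_lt_card_iff.mpr ⟨x₁, x₂, hne⟩
  have hMf : ∀ g ∈ M, ∀ x, p (g x) = p x := fun g hg x => propext (hp g hg x)
  have hMP : M ≤ baseProd p M := le_baseProd p M hMf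
  have hPπ : PiNum π (Nat.card (baseProd p M)) := piNum_card_baseProd p M hMf hM.2.1
  have hPd : Nat.card (baseProd p M) ∣ 2 * Nat.card M := hM.card_dvd hn hPπ
  obtain ⟨j, hj⟩ := Subgroup.card_dvd_of_le hMP
  have hMpos : 0 < Nat.card M := Nat.card_pos
  have hj2 : j ∣ 2 := by
    rw [hj, mul_comm 2] at hPd
    exact (Nat.mul_dvd_mul_iff_left hMpos).mp hPd
  have hj' : j = 1 ∨ j = 2 := (Nat.dvd_prime Nat.prime_two).mp hj2
  rcases hj' with rfl | rfl
  swap
  · exact Or.inl ⟨baseProd p M, hMP, by rw [hj, mul_comm]⟩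
  -- `baseProd p M = M ≤ Alt`
  right
  have hPM : baseProd p M = M := by
    symm
    exact Subgroup.eq_of_le_of_card_ge hMP (by rw [hj, mul_one])
  have hPalt : baseProd p M ≤ alternatingGroup α := by
    rw [hPM]
    exact hM.1
  have h1 : Inv (fun x => p x = True) M := fun g hg x => by
    show p (g x) = True ↔ p x = True
    rw [hMf g hg x]
  have h0 : Inv (fun x => p x = False) M := fun g hg x => by
    show p (g x) = False ↔ p x = False
    rw [hMf g hg x]
  have hsum := card_true_add_card_false p
  have ha1 : 1 ≤ Nat.card {x // p x = True} := by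
    have : Nonempty {x // p x = True} := ⟨⟨x₁, eq_true hx₁⟩⟩
    exact Nat.card_pos
  have hb1 : 1 ≤ Nat.card {x // p x = False} := by
    have : Nonempty {x // p x = False} := ⟨⟨x₂, eq_false hx₂⟩⟩
    exact Nat.card_pos
  by_cases ha : Nat.card {x // p x = True} = 1
  · refine ⟨x₁, fun g hg => ?_⟩
    have hsub : Subsingleton {x // p x = True} := (Nat.card_eq_one_iff_unique.mp ha).1
    have h3 : p (g x₁) = True := by rw [hMf g hg x₁]; exact eq_true hx₁
    have := Subsingleton.elim (⟨g x₁, h3⟩ : {x // p x = True}) ⟨x₁, eq_true hx₁⟩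
    exact congrArg Subtype.val this
  by_cases hb : Nat.card {x // p x = False} = 1
  · refine ⟨x₂, fun g hg => ?_⟩
    have hsub : Subsingleton {x // p x = False} := (Nat.card_eq_one_iff_unique.mp hb).1
    have h3 : p (g x₂) = False := by rw [hMf g hg x₂]; exact eq_false hx₂
    have := Subsingleton.elim (⟨g x₂, h3⟩ : {x // p x = False}) ⟨x₂, eq_false hx₂⟩
    exact congrArg Subtype.val this
  exfalso
  have hK : ∀ (c : Prop) (hc : Inv (fun x => p x = c) M), ∀ σ ∈ resGroup (fun x => p x = c) M hc,
      ∃ n ∈ M, ∀ x : {x // p x = c}, ((σ x : {x // p x = c}) : α) = n x := by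
    rintro c hc σ ⟨n, rfl⟩
    exact ⟨n.1, n.2, fun x => rfl⟩
  have ht := two_mul_card_dvd_of_baseProd_le p M hPalt True (by omega) _ (hK True h1)
  have hf := two_mul_card_dvd_of_baseProd_le p M hPalt False (by omega) _ (hK False h0)
  have hdvd := card_dvd_mul_res M p h1 h0
  obtain ⟨i, hi, hiπ⟩ := hM.factorial hn
  have hfact : (Nat.card {x // p x = True})! * (Nat.card {x // p x = False})! ∣ (Fintype.card α)! := by
    rw [← hsum]
    exact Nat.factorial_mul_factorial_dvd_factorial_add _ _
  have h4 : 4 * Nat.card M ∣ 2 * Nat.card M * i := by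
    rw [← hi]
    refine Dvd.dvd.trans ?_ hfact
    refine Dvd.dvd.trans ?_ (Nat.mul_dvd_mul ht hf)
    have : 4 * Nat.card M ∣ 4 * (Nat.card (resGroup (fun x => p x = True) M h1) *
        Nat.card (resGroup (fun x => p x = False) M h0)) := Nat.mul_dvd_mul_left 4 hdvd
    refine this.trans ?_
    exact Dvd.intro 1 (by ring)
  have h5 : 2 ∣ i := by
    have e : 4 * Nat.card M = 2 * Nat.card M * 2 := by ring
    rw [e] at h4
    exact (Nat.mul_dvd_mul_iff_left (by omega)).mp h4
  exact hiπ 2 Nat.prime_two h2 h5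

end Cfsg.Agent.S2536P
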