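import Mathlib
import Cfsg.Agent.Helper5.S2536TRANS
import Cfsg.Agent.Helper5.S2536EXTINTRANS
import Cfsg.Agent.Helper5.S2536EXTIMPRIM
import Cfsg.Agent.Helper20.S2536ORBRES
import Cfsg.Agent.Helper14.S2536EXTFIX
import Cfsg.Agent.Helper25.S2536EXTALL
import Cfsg.Agent.Helper25.S2536EXTSYL
import Cfsg.Agent.Helper20.S2536PRIMA

set_option autoImplicit false

/-! S2536 project, Stage 2, assembly EXT: a Hall `π`-subgroup `M` of the alternating group (`2 ∈ π`) lies in
a subgroup of `Perm α` of twice its order. -/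

namespace Cfsg.Agent.S2536P

open Equiv Nat

universe u

theorem ext_hall_aux (π : Set ℕ) (h2 : 2 ∈ π) (n : ℕ) :
    ∀ (α : Type u) [Fintype α] [DecidableEq α] (M : Subgroup (Perm α)), Fintype.card α = n →
      AHall π M → 2 ≤ n → ∃ M₀ : Subgroup (Perm α), M ≤ M₀ ∧ Nat.card M₀ = 2 * Nat.card M := by
  induction n using Nat.strong_induction_on with
  | _ n ih =>
    intro α _ _ M hcard hM hn2
    subst hcard
    by_cases hall : AllLE π (Fintype.card α)
    · exact ext_of_allLE hM hn2 hall
    by_cases hTwo : Two π (Fintype.card α)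
    swap
    · exact ext_of_not_two h2 hM hn2 hTwo
    have hNot : NotAll π (Fintype.card α) := notAll_of_not_allLE hall
    have hn3 : 3 ≤ Fintype.card α := by
      obtain ⟨r, s, hr, hs, hrs, -, -, hrn, hsn⟩ := hTwo
      have := hr.two_le
      have := hs.two_le
      omega
    by_cases htr : MulAction.IsPretransitive M α
    · by_cases hprim : MulAction.IsPreprimitive M α
      · exact (ahall_prim_false hM h2 hprim hTwo hNot).elim
      · exact ext_imprim hM h2 htr hprim
    · -- intransitive
      have hex : ∃ x y : α, y ∉ MulAction.orbit M x := by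
        by_contra hcon
        push Not at hcon
        exact htr ⟨fun x y => hcon x y⟩
      obtain ⟨x, y, hy⟩ := hex
      rcases ext_intrans hM h2 _ (inv_orbit M x) ⟨x, MulAction.mem_orbit_self x⟩ ⟨y, hy⟩ with
        h | ⟨x₀, hx₀⟩
      · exact h
      · refine ext_fix h2 hM x₀ hx₀ hn3 ?_
        intro M' hM'
        have hc : Fintype.card {x // x ≠ x₀} = Fintype.card α - 1 := by
          rw [Fintype.card_subtype_compl, Fintype.card_subtype_eq]
        exact ih _ (by omega) {x // x ≠ x₀} M' rfl hM' (by omega)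

/-- EXT -/
theorem ext_hall {α : Type u} [Fintype α] [DecidableEq α] {π : Set ℕ} (h2 : 2 ∈ π)
    {M : Subgroup (Perm α)} (hM : AHall π M) (hn : 2 ≤ Fintype.card α) :
    ∃ M₀ : Subgroup (Perm α), M ≤ M₀ ∧ Nat.card M₀ = 2 * Nat.card M :=
  ext_hall_aux π h2 _ α M rfl hM hn

end Cfsg.Agent.S2536P
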