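import Mathlib
import Cfsg.Agent.Helper5.S2536EXT

set_option autoImplicit false

/-! S2536 project, Stage 2: every Hall subgroup of the alternating group is the intersection with a Hall
subgroup of the symmetric group (assembly ALTEXT). -/

namespace Cfsg.Agent.S2536P

open Equiv

theorem exists_hall_of_alt {α : Type*} [Fintype α] [DecidableEq α] {π : Set ℕ}
    {M : Subgroup (alternatingGroup α)} (hM : Cfsg.IsPiHall π M) :
    ∃ M₀ : Subgroup (Perm α), Cfsg.IsPiHall π M₀ ∧ M = M₀.subgroupOf (alternatingGroup α) := by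
  have hM' : AHall π (M.map (alternatingGroup α).subtype) := (ahall_map_subtype_iff M).mpr hM
  have hsub : ∀ M₀ : Subgroup (Perm α), M₀ ⊓ alternatingGroup α = M.map (alternatingGroup α).subtype →
      M = M₀.subgroupOf (alternatingGroup α) := by
    intro M₀ h
    ext k
    rw [Subgroup.mem_subgroupOf]
    constructor
    · intro hk
      have : (k : Perm α) ∈ M.map (alternatingGroup α).subtype := ⟨k, hk, rfl⟩
      rw [← h] at this
      exact this.1
    · intro hk
      have : (k : Perm α) ∈ M₀ ⊓ alternatingGroup α := ⟨hk, k.2⟩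
      rw [h] at this
      obtain ⟨k', hk', hkk'⟩ := this
      have : k' = k := Subtype.ext hkk'
      rwa [this] at hk'
  rcases Nat.lt_or_ge (Fintype.card α) 2 with hn | hn
  · -- trivial group
    have hsub1 : Subsingleton (Perm α) := by
      rw [← Fintype.card_le_one_iff_subsingleton, Fintype.card_perm]
      have : Fintype.card α = 0 ∨ Fintype.card α = 1 := by omega
      rcases this with h | h <;> rw [h] <;> simp
    refine ⟨⊤, ⟨?_, ?_⟩, Subsingleton.elim _ _⟩
    · have : Nat.card (⊤ : Subgroup (Perm α)) = 1 := by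
        rw [Subgroup.card_top]
        exact Nat.card_of_subsingleton 1
      rw [this]
      exact piNum_one π
    · rw [Subgroup.index_top]
      exact piPrime_one π
  by_cases h2 : 2 ∈ π
  · obtain ⟨M₀, hle, hc⟩ := ext_hall h2 hM' hn
    obtain ⟨hH, hinf⟩ := hM'.isPiHall_of_card_eq h2 hn hle hc
    exact ⟨M₀, hH, hsub M₀ hinf⟩
  · refine ⟨M.map (alternatingGroup α).subtype, ?_, hsub _ ?_⟩
    · obtain ⟨i, hi, hiπ⟩ := hM'.factorial hn
      refine isPiHall_of_card (h := Nat.card (M.map (alternatingGroup α).subtype)) (i := 2 * i)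
        ?_ hM'.2.1 ?_ rfl
      · rw [Nat.card_eq_fintype_card, Fintype.card_perm, hi]
        ring
      · apply piPrime_mul _ hiπ
        intro p hp hpπ hpd
        rw [(Nat.prime_dvd_prime_iff_eq hp Nat.prime_two).mp hpd] at hpπ
        exact h2 hpπ
    · exact inf_eq_left.mpr hM'.1


end Cfsg.Agent.S2536P
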