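import Mathlib

set_option autoImplicit false

/-! S2607 drive, piece AG2: a normal subgroup of order two with a cyclic complement gives
`C₂ × C_f`. (Contains an independent proof of the statement of AG1 in the sub-namespace `AG2`.) -/

namespace Cfsg.Agent.S2607P

namespace AG2

/-- the homomorphism `Multiplicative (ZMod f) →* O`, `k ↦ φ ^ k`, for `φ ^ f = 1` -/
noncomputable def powHom {O : Type*} [Group O] (φ : O) (f : ℕ) (hord : φ ^ f = 1) :
    Multiplicative (ZMod f) →* O :=
  AddMonoidHom.toMultiplicativeLeft (ZMod.lift f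
    ⟨zmultiplesHom (Additive O) (Additive.ofMul φ), by
      rw [zmultiplesHom_apply, natCast_zsmul, ← ofMul_pow, hord, ofMul_one]⟩)

theorem powHom_intCast {O : Type*} [Group O] (φ : O) (f : ℕ) (hord : φ ^ f = 1) (k : ℤ) :
    powHom φ f hord (Multiplicative.ofAdd (k : ZMod f)) = φ ^ k := by
  unfold powHom
  rw [AddMonoidHom.coe_toMultiplicativeLeft]
  simp only [Function.comp_apply, toAdd_ofAdd, ZMod.lift_coe]
  rfl

theorem powHom_natCast {O : Type*} [Group O] (φ : O) (f : ℕ) (hord : φ ^ f = 1) (k : ℕ) :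
    powHom φ f hord (Multiplicative.ofAdd (k : ZMod f)) = φ ^ k := by
  have := powHom_intCast φ f hord (k : ℤ)
  rw [Int.cast_natCast, zpow_natCast] at this
  exact this

/-- (the statement of AG1) a normal subgroup centralised by a cyclic complement gives a direct
product -/
theorem prod_of_central' {O : Type*} [Group O] (N : Subgroup O) [N.Normal] (φ : O) (f : ℕ)
    (hf : 1 ≤ f) (hord : φ ^ f = 1) (hint : ∀ k : ℕ, φ ^ k ∈ N → f ∣ k)
    (hgen : ∀ x : O, ∃ k : ℕ, x * φ ^ k ∈ N)
    (hcent : ∀ n ∈ N, φ * n = n * φ) :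
    Nonempty (O ≃* ↥N × Multiplicative (ZMod f)) := by
  have hNZ : NeZero f := ⟨by omega⟩
  have hcomm : ∀ (n : ↥N) (a : Multiplicative (ZMod f)),
      Commute (N.subtype n) (powHom φ f hord a) := by
    intro n a
    obtain ⟨k, rfl⟩ : ∃ k : ℕ, a = Multiplicative.ofAdd (k : ZMod f) :=
      ⟨(Multiplicative.toAdd a).val, by rw [ZMod.natCast_zmod_val]; rfl⟩
    rw [powHom_natCast]
    have h1 : Commute φ (n : O) := hcent n n.2
    exact (h1.pow_left k).symm
  let Ψ : ↥N × Multiplicative (ZMod f) →* O := N.subtype.noncommCoprod (powHom φ f hord) hcomm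
  have hΨ : ∀ (n : ↥N) (a : Multiplicative (ZMod f)), Ψ (n, a) = (n : O) * powHom φ f hord a := by
    intro n a
    rfl
  have hinj : Function.Injective Ψ := by
    rw [injective_iff_map_eq_one]
    rintro ⟨n, a⟩ h
    obtain ⟨k, rfl⟩ : ∃ k : ℕ, a = Multiplicative.ofAdd (k : ZMod f) :=
      ⟨(Multiplicative.toAdd a).val, by rw [ZMod.natCast_zmod_val]; rfl⟩
    rw [hΨ, powHom_natCast] at h
    have h1 : φ ^ k = (n : O)⁻¹ := by
      rw [eq_inv_iff_mul_eq_one, ((show Commute φ (n : O) from hcent n n.2).pow_left k).eq]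
      exact h
    have h2 : φ ^ k ∈ N := by rw [h1]; exact N.inv_mem n.2
    have h3 : f ∣ k := hint k h2
    have h4 : ((k : ℕ) : ZMod f) = 0 := (ZMod.natCast_eq_zero_iff k f).mpr h3
    have h5 : φ ^ k = 1 := by
      obtain ⟨m, rfl⟩ := h3
      rw [pow_mul, hord, one_pow]
    rw [h5, mul_one] at h
    rw [Prod.mk_eq_one]
    refine ⟨Subtype.ext h, ?_⟩
    rw [h4]
    rfl
  have hsurj : Function.Surjective Ψ := by
    intro x
    obtain ⟨k, hk⟩ := hgen x
    refine ⟨(⟨x * φ ^ k, hk⟩, Multiplicative.ofAdd (((-(k : ℤ) : ℤ)) : ZMod f)), ?_⟩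
    rw [hΨ, powHom_intCast]
    simp
  exact ⟨(MulEquiv.ofBijective Ψ ⟨hinj, hsurj⟩).symm⟩

end AG2

/-- AG2: the case `|N| = 2` -/
theorem prod_of_card_two {O : Type*} [Group O] (N : Subgroup O) [N.Normal]
    (hN : Nat.card ↥N = 2) (φ : O) (f : ℕ)
    (hf : 1 ≤ f) (hord : φ ^ f = 1) (hint : ∀ k : ℕ, φ ^ k ∈ N → f ∣ k)
    (hgen : ∀ x : O, ∃ k : ℕ, x * φ ^ k ∈ N) :
    Nonempty (O ≃* Multiplicative (ZMod 2 × ZMod f)) := by
  classical
  have hfin : Finite ↥N := Nat.finite_of_card_ne_zero (by rw [hN]; norm_num)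
  let _ : Fintype ↥N := Fintype.ofFinite _
  -- `φ` centralises `N`
  have hcent : ∀ n ∈ N, φ * n = n * φ := by
    intro n hn
    by_cases h1 : n = 1
    · rw [h1, mul_one, one_mul]
    · have hc : φ * n * φ⁻¹ ∈ N := Subgroup.Normal.conj_mem inferInstance n hn φ
      have hc1 : φ * n * φ⁻¹ ≠ 1 := by
        intro h
        apply h1
        have : n = φ⁻¹ * (φ * n * φ⁻¹) * φ := by group
        rw [this, h]
        group
      -- three elements 1, n, φ n φ⁻¹ in a group of order 2
      by_contra hne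
      have hne' : φ * n * φ⁻¹ ≠ n := by
        intro h
        apply hne
        have : φ * n = (φ * n * φ⁻¹) * φ := by group
        rw [this, h]
      have h3 : 3 ≤ Nat.card ↥N := by
        let s : Finset ↥N := {(1 : ↥N), (⟨n, hn⟩ : ↥N), (⟨φ * n * φ⁻¹, hc⟩ : ↥N)}
        have hs : s.card = 3 := by
          rw [Finset.card_insert_of_notMem, Finset.card_insert_of_notMem, Finset.card_singleton]
          · rw [Finset.mem_singleton]
            intro h
            exact hne' (congrArg Subtype.val h).symm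
          · rw [Finset.mem_insert, Finset.mem_singleton]
            rintro (h | h)
            · exact h1 (congrArg Subtype.val h).symm
            · exact hc1 (congrArg Subtype.val h).symm
        rw [← hs, Nat.card_eq_fintype_card]
        exact Finset.card_le_univ s
      omega
  obtain ⟨e⟩ := AG2.prod_of_central' N φ f hf hord hint hgen hcent
  have hcyc : IsCyclic ↥N := by
    have : Fact (Nat.Prime 2) := ⟨Nat.prime_two⟩
    exact isCyclic_of_prime_card hN
  have e2 : Multiplicative (ZMod 2) ≃* ↥N := by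
    have := zmodCyclicMulEquiv hcyc
    rw [hN] at this
    exact this
  have e3 : ↥N × Multiplicative (ZMod f) ≃* Multiplicative (ZMod 2) × Multiplicative (ZMod f) :=
    MulEquiv.prodCongr e2.symm (MulEquiv.refl _)
  have e4 : Multiplicative (ZMod 2 × ZMod f) ≃* Multiplicative (ZMod 2) × Multiplicative (ZMod f) :=
    MulEquiv.prodMultiplicative _ _
  exact ⟨e.trans (e3.trans e4.symm)⟩

end Cfsg.Agent.S2607P
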