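import Mathlib

set_option autoImplicit false

/-! S2607 drive, piece AG5: the image in `A ⧸ I` of a subgroup `P ≥ I` with `P / I ≅ H`. -/

namespace Cfsg.Agent.S2607P

/-- AG5: the image in `A ⧸ I` of a subgroup `P ≥ I` with `P / I ≅ H` -/
theorem map_mk_equiv {A : Type*} [Group A] (I : Subgroup A) [I.Normal] (P : Subgroup A)
    (hIP : I ≤ P) {H : Type*} [Group H] (ψ : ↥P →* H) (hψ : Function.Surjective ψ)
    (hker : ψ.ker = I.subgroupOf P) :
    Nonempty (↥(P.map (QuotientGroup.mk' I)) ≃* H) := by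
  let θ : ↥P →* A ⧸ I := (QuotientGroup.mk' I).comp P.subtype
  have hrange : θ.range = P.map (QuotientGroup.mk' I) := by
    rw [MonoidHom.range_comp, Subgroup.range_subtype]
  have hkerθ : θ.ker = ψ.ker := by
    rw [hker]
    ext x
    rw [MonoidHom.mem_ker, Subgroup.mem_subgroupOf]
    show (QuotientGroup.mk' I) (x : A) = 1 ↔ (x : A) ∈ I
    rw [QuotientGroup.mk'_apply, QuotientGroup.eq_one_iff]
  have e1 : ↥P ⧸ θ.ker ≃* θ.range := QuotientGroup.quotientKerEquivRange θ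
  have e2 : ↥P ⧸ ψ.ker ≃* H := QuotientGroup.quotientKerEquivOfSurjective ψ hψ
  have e3 : ↥P ⧸ θ.ker ≃* ↥P ⧸ ψ.ker := QuotientGroup.quotientMulEquivOfEq hkerθ
  have e4 : θ.range ≃* ↥(P.map (QuotientGroup.mk' I)) := MulEquiv.subgroupCongr hrange
  exact ⟨e4.symm.trans (e1.symm.trans (e3.trans e2))⟩

end Cfsg.Agent.S2607P
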