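import Mathlib
import Cfsg.Prelude.Def_LieTypeDatum
import Cfsg.Agent.Helper7.FieldPlus0

/-!
# S2715 piece A (helper5): the class character is invariant under base change

`cls k = (rank of the lower-left block of k : ZMod 2)` over any field, and the rank of a square
matrix is invariant under a field homomorphism.
-/

set_option autoImplicit false
set_option linter.unusedSectionVars false
set_option linter.unusedVariables false

namespace Cfsg.Agent.S2715P

open Module Submodule Matrix Cfsg.Agent.Helper28.QPlus Cfsg.Agent.Helper28.IDP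
  Cfsg.Agent.Helper28.Spin Cfsg.Agent.Helper28.PG Cfsg.Agent.Helper28.FO
  Cfsg.Agent.Helper28.SSim Cfsg.Agent.Helper28.GC Cfsg.Agent.Helper28.Sg
  Cfsg.Agent.Helper28.PA Cfsg.Agent.Helper7.PlusF Cfsg.Agent.Helper7.PlusG
  Cfsg.Agent.Helper28.IsoTransport Cfsg.Agent.Helper7.FieldPlus
open Cfsg.Agent.Helper7.FieldPSL (FDesc)

namespace A

/-- the rank of the normal form -/
theorem rank_normal_form {R : Type*} [Field R] {n : Type*} [Fintype n] [DecidableEq n] (r s : ℕ)
    (e : n ≃ Fin r ⊕ Fin s) :
    ((fromBlocks (1 : Matrix (Fin r) (Fin r) R) 0 0 (0 : Matrix (Fin s) (Fin s) R)).submatrix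
      e e).rank = r := by
  classical
  rw [rank_submatrix, ← diagonal_one, ← diagonal_zero, fromBlocks_diagonal, rank_diagonal]
  have : Fintype.card {i : Fin r ⊕ Fin s // Sum.elim (fun _ => (1 : R)) (fun _ => (0 : R)) i ≠ 0}
      = Fintype.card (Fin r) := by
    apply Fintype.card_congr
    refine ⟨fun x => ?_, fun a => ⟨Sum.inl a, by simp⟩, ?_, ?_⟩
    · rcases x with ⟨x | x, hx⟩
      · exact x
      · exact absurd rfl hx
    · rintro ⟨x | x, hx⟩
      · rfl
      · exact absurd rfl hx
    · intro a
      rfl
  rw [this, Fintype.card_fin]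

/-- the rank of a square matrix is invariant under a homomorphism of fields -/
theorem rank_map_field {K L : Type*} [Field K] [Field L] (j : K →+* L) {n : Type*} [Fintype n]
    [DecidableEq n] (M : Matrix n n K) : (M.map j).rank = M.rank := by
  classical
  obtain ⟨V, U, e, hV, hU, h⟩ := Matrix.exists_rank_normal_form M
  have hV' : IsUnit (V.map j).det := by
    have h1 : (V.map j).det = j V.det := (RingHom.map_det j V).symm
    rw [h1]
    exact ((isUnit_iff_isUnit_det _).1 hV).map j
  have hU' : IsUnit (U.map j).det := by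
    have h1 : (U.map j).det = j U.det := (RingHom.map_det j U).symm
    rw [h1]
    exact ((isUnit_iff_isUnit_det _).1 hU).map j
  have h' : V.map j * M.map j * U.map j =
      (fromBlocks (1 : Matrix (Fin M.rank) (Fin M.rank) L) 0 0
        (0 : Matrix (Fin (Fintype.card n - M.rank)) (Fin (Fintype.card n - M.rank)) L)).submatrix
        e e := by
    rw [← Matrix.map_mul, ← Matrix.map_mul, h]
    ext a b
    simp only [Matrix.map_apply, Matrix.submatrix_apply]
    rcases e a with x | x <;> rcases e b with y | y <;>
      simp [Matrix.fromBlocks, Matrix.one_apply, apply_ite]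
  rw [← rank_mul_eq_right_of_isUnit_det (V.map j) (M.map j) hV',
    ← rank_mul_eq_left_of_isUnit_det (U.map j) _ hU', h', rank_normal_form]

variable {F : Type*} [Field F] {m : ℕ}

theorem iotaE_inj : Function.Injective (iotaE m F) := by
  intro x y h
  funext i
  exact congrFun h (Sum.inl i)

/-- `E ∩ M E` has dimension `m - rank C`, `C` the lower-left block -/
theorem finrank_inf_add_rank (M : Matrix (Fin m ⊕ Fin m) (Fin m ⊕ Fin m) F)
    (hM : Function.Injective (Matrix.toLin' M)) :
    finrank F ↥(E m F ⊓ Cfsg.imageSubmodule M (E m F)) + M.toBlocks₂₁.rank = m := by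
  have h1 : E m F ⊓ Cfsg.imageSubmodule M (E m F) =
      ((LinearMap.ker M.toBlocks₂₁.mulVecLin).map (iotaE m F)).map (Matrix.toLin' M) := by
    ext v
    simp only [Submodule.mem_inf, Cfsg.imageSubmodule, Submodule.mem_map, LinearMap.mem_ker]
    constructor
    · rintro ⟨hv, u, ⟨a, rfl⟩, rfl⟩
      refine ⟨_, ⟨a, ?_, rfl⟩, rfl⟩
      rw [mem_E_iff] at hv
      funext i
      have := hv i
      simp only [Matrix.toLin'_apply, Matrix.mulVec, dotProduct, Fintype.sum_sum_type] at this
      simp only [Matrix.mulVecLin_apply, Matrix.mulVec, dotProduct, Matrix.toBlocks₂₁,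
        Matrix.of_apply, Pi.zero_apply]
      simpa [iotaE] using this
    · rintro ⟨u, ⟨a, ha, rfl⟩, rfl⟩
      refine ⟨?_, _, ⟨a, rfl⟩, rfl⟩
      rw [mem_E_iff]
      intro i
      have := congrFun ha i
      simp only [Matrix.mulVecLin_apply, Matrix.mulVec, dotProduct, Matrix.toBlocks₂₁,
        Matrix.of_apply, Pi.zero_apply] at this
      simp only [Matrix.toLin'_apply, Matrix.mulVec, dotProduct, Fintype.sum_sum_type]
      simpa [iotaE] using this
  rw [h1, (Submodule.equivMapOfInjective _ hM _).finrank_eq.symm,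
    (Submodule.equivMapOfInjective _ iotaE_inj _).finrank_eq.symm, Matrix.rank, add_comm,
    LinearMap.finrank_range_add_finrank_ker, Module.finrank_fin_fun]

theorem cls_eq_rank (g : ↥(GO (QfPlus m F))) : cls g = ((gm g).toBlocks₂₁.rank : ZMod 2) := by
  have h := finrank_inf_add_rank (gm g) (toLin_inj g.1)
  unfold cls par
  congr 1
  omega

end A

variable {F : Type*} [Field F] {F₀ : Type*} [Field F₀] {m : ℕ}

/-- PIECE A (CLSJ): the class character is invariant under base change -/
theorem cls_jGO (E : FDesc F F₀) (k : ↥(GO (QfPlus m F₀))) :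
    cls (jGO E (compat_plus E m) k) = cls k := by
  rw [A.cls_eq_rank, A.cls_eq_rank]
  have h1 : gm (jGO E (compat_plus E m) k) = (gm k).map E.j := rfl
  rw [h1]
  have h2 : ((gm k).map E.j).toBlocks₂₁ = (gm k).toBlocks₂₁.map E.j := by
    ext i l
    rfl
  rw [h2, A.rank_map_field]

end Cfsg.Agent.S2715P

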