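import Mathlib
import Cfsg.Agent.Helper16.S3174Defs
import Cfsg.Agent.Helper23.S3174MSUB
import Cfsg.Agent.Helper6.S3174PHICOREa

/-!
# S3174 board, piece PHI (core)

`PHI_aux_core` (= `phi` with the CCARD bound as a hypothesis): `⁅⁅x, t⁆, ⁅x', t'⁆⁆ ∈ Z_2` for `x, x' ∈ W` and `t, t' ∈ M = C_T(Z_2)`.
Blueprint: `departures/helper16_S3174_blueprint.md`.
-/

set_option autoImplicit false

namespace Cfsg.Agent.S3174P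

open scoped commutatorElement

/-- abstract form: `V` normal in `Q`, commutators and squares of `V` central in `Q` -/
theorem PHI_aux_abs {Q : Type*} [Group Q] (V : Subgroup Q) [hV : V.Normal]
    (hc : ∀ u ∈ V, ∀ v ∈ V, ∀ g : Q, g * ⁅u, v⁆ = ⁅u, v⁆ * g)
    (hs : ∀ u ∈ V, ∀ g : Q, g * (u * u) = (u * u) * g)
    (x x' : Q) (hx : x ∈ V) (hx' : x' ∈ V) (t t' : Q) :
    ⁅⁅x, t⁆, ⁅x', t'⁆⁆ =
      ⁅x, x' * (t⁻¹ * x' * t⁻¹⁻¹) * (t' * x' * t'⁻¹) * (t⁻¹ * t' * x' * (t⁻¹ * t')⁻¹)⁆ := by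
  have conjc : ∀ u ∈ V, ∀ v ∈ V, ∀ g : Q, g * ⁅u, v⁆ * g⁻¹ = ⁅u, v⁆ := by
    intro u hu v hv g
    rw [hc u hu v hv g, mul_inv_cancel_right]
  have B1 : ∀ u ∈ V, ∀ u' ∈ V, ∀ v ∈ V, ⁅u * u', v⁆ = ⁅u, v⁆ * ⁅u', v⁆ := by
    intro u hu u' hu' v hv
    have h : ⁅u * u', v⁆ = u * ⁅u', v⁆ * u⁻¹ * ⁅u, v⁆ := by
      simp only [commutatorElement_def]; group
    rw [h, conjc u' hu' v hv u]
    exact hc u hu v hv _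
  have B2 : ∀ u ∈ V, ∀ v ∈ V, ∀ v' ∈ V, ⁅u, v * v'⁆ = ⁅u, v⁆ * ⁅u, v'⁆ := by
    intro u hu v hv v' hv'
    have h : ⁅u, v * v'⁆ = ⁅u, v⁆ * (v * ⁅u, v'⁆ * v⁻¹) := by
      simp only [commutatorElement_def]; group
    rw [h, conjc u hu v' hv' v]
  have B5 : ∀ u ∈ V, ∀ v ∈ V, ⁅u, v⁆ * ⁅u, v⁆ = 1 := by
    intro u hu v hv
    rw [← B1 u hu u hu v hv, commutatorElement_eq_one_iff_mul_comm]
    exact (hs u hu v).symm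
  have B5' : ∀ u ∈ V, ∀ v ∈ V, (⁅u, v⁆)⁻¹ = ⁅u, v⁆ := by
    intro u hu v hv
    exact inv_eq_of_mul_eq_one_right (B5 u hu v hv)
  have B3 : ∀ u ∈ V, ∀ v ∈ V, ⁅u⁻¹, v⁆ = ⁅u, v⁆ := by
    intro u hu v hv
    have h : ⁅u⁻¹, v⁆ * ⁅u, v⁆ = 1 := by
      rw [← B1 u⁻¹ (V.inv_mem hu) u hu v hv, inv_mul_cancel, commutatorElement_one_left]
    rw [← B5' u hu v hv]
    exact eq_inv_of_mul_eq_one_left h
  have B3' : ∀ u ∈ V, ∀ v ∈ V, ⁅u, v⁻¹⁆ = ⁅u, v⁆ := by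
    intro u hu v hv
    have h : ⁅u, v⁻¹⁆ * ⁅u, v⁆ = 1 := by
      rw [← B2 u hu v⁻¹ (V.inv_mem hv) v hv, inv_mul_cancel, commutatorElement_one_right]
    rw [← B5' u hu v hv]
    exact eq_inv_of_mul_eq_one_left h
  have B4 : ∀ u ∈ V, ∀ v ∈ V, ∀ g : Q, ⁅g * u * g⁻¹, g * v * g⁻¹⁆ = ⁅u, v⁆ := by
    intro u hu v hv g
    have h : ⁅g * u * g⁻¹, g * v * g⁻¹⁆ = g * ⁅u, v⁆ * g⁻¹ := by
      simp only [commutatorElement_def]; group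
    rw [h, conjc u hu v hv g]
  have cj : ∀ v ∈ V, ∀ g : Q, g * v * g⁻¹ ∈ V := fun v hv g => hV.conj_mem v hv g
  -- the pieces
  have hy : t * x⁻¹ * t⁻¹ ∈ V := cj _ (V.inv_mem hx) t
  have hy' : t' * x'⁻¹ * t'⁻¹ ∈ V := cj _ (V.inv_mem hx') t'
  have ha : ⁅x, t⁆ = x * (t * x⁻¹ * t⁻¹) := by
    simp only [commutatorElement_def]; group
  have hb : ⁅x', t'⁆ = x' * (t' * x'⁻¹ * t'⁻¹) := by
    simp only [commutatorElement_def]; group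
  have hbV : ⁅x', t'⁆ ∈ V := by rw [hb]; exact V.mul_mem hx' hy'
  have hcb : t⁻¹ * ⁅x', t'⁆ * t⁻¹⁻¹ ∈ V := cj _ hbV t⁻¹
  have s1 : ⁅⁅x, t⁆, ⁅x', t'⁆⁆ = ⁅x, ⁅x', t'⁆⁆ * ⁅t * x⁻¹ * t⁻¹, ⁅x', t'⁆⁆ := by
    conv_lhs => rw [ha]
    exact B1 x hx _ hy _ hbV
  have s2 : ⁅t * x⁻¹ * t⁻¹, ⁅x', t'⁆⁆ = ⁅x, t⁻¹ * ⁅x', t'⁆ * t⁻¹⁻¹⁆ := by
    have h : ⁅x', t'⁆ = t * (t⁻¹ * ⁅x', t'⁆ * t⁻¹⁻¹) * t⁻¹ := by group
    conv_lhs => rw [h]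
    rw [B4 _ (V.inv_mem hx) _ hcb t, B3 x hx _ hcb]
  have s3 : ⁅⁅x, t⁆, ⁅x', t'⁆⁆ = ⁅x, ⁅x', t'⁆ * (t⁻¹ * ⁅x', t'⁆ * t⁻¹⁻¹)⁆ := by
    rw [s1, s2, B2 x hx _ hbV _ hcb]
  have hp : x' ∈ V := hx'
  have hq : t' * x' * t'⁻¹ ∈ V := cj _ hx' t'
  have hr : t⁻¹ * x' * t⁻¹⁻¹ ∈ V := cj _ hx' t⁻¹
  have hs' : t⁻¹ * t' * x' * (t⁻¹ * t')⁻¹ ∈ V := cj _ hx' (t⁻¹ * t')
  have s4 : ⁅x', t'⁆ * (t⁻¹ * ⁅x', t'⁆ * t⁻¹⁻¹) =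
      x' * (t' * x' * t'⁻¹)⁻¹ * (t⁻¹ * x' * t⁻¹⁻¹) * (t⁻¹ * t' * x' * (t⁻¹ * t')⁻¹)⁻¹ := by
    simp only [commutatorElement_def]; group
  rw [s3, s4]
  rw [B2 x hx _ (V.mul_mem (V.mul_mem hp (V.inv_mem hq)) hr) _ (V.inv_mem hs'),
    B2 x hx _ (V.mul_mem hp (V.inv_mem hq)) _ hr,
    B2 x hx _ hp _ (V.inv_mem hq),
    B3' x hx _ hq, B3' x hx _ hs',
    B2 x hx _ (V.mul_mem (V.mul_mem hp hr) hq) _ hs',
    B2 x hx _ (V.mul_mem hp hr) _ hq,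
    B2 x hx _ hp _ hr]
  have hcomm : ⁅x, t' * x' * t'⁻¹⁆ * ⁅x, t⁻¹ * x' * t⁻¹⁻¹⁆ =
      ⁅x, t⁻¹ * x' * t⁻¹⁻¹⁆ * ⁅x, t' * x' * t'⁻¹⁆ := hc x hx _ hr _
  rw [mul_assoc ⁅x, x'⁆ ⁅x, t' * x' * t'⁻¹⁆, hcomm, ← mul_assoc]

variable {T : Type*} [Group T] [Finite T]

/-- `Z_3` is centralized by `W` -/
theorem PHI_aux_cen {W : Subgroup T} (c : Cfg T W) :
    ∀ w ∈ W, ∀ z ∈ Zi T 3, z * w = w * z := by
  intro w hw z hz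
  have h := c.hW ▸ hw
  rw [Subgroup.mem_centralizer_iff] at h
  exact h z hz

omit [Finite T] in
/-- commutators of `Z_3` with anything lie in `Z_2` -/
theorem PHI_aux_Z2 : ∀ z ∈ Zi T 3, ∀ g : T, ⁅z, g⁆ ∈ Zi T 2 := by
  intro z hz g
  have h := (Subgroup.mem_upperCentralSeries_succ_iff (G := T) (n := 2) (x := z)).1 hz g
  rwa [commutatorElement_def]

omit [Finite T] in
/-- the image of `Z_3` in `T ⧸ Z_2` is central -/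
theorem PHI_aux_cenQ : ∀ z ∈ Zi T 3, ∀ g : T ⧸ Zi T 2,
    g * (QuotientGroup.mk' (Zi T 2) z) = (QuotientGroup.mk' (Zi T 2) z) * g := by
  intro z hz g
  obtain ⟨g0, rfl⟩ := QuotientGroup.mk'_surjective (Zi T 2) g
  rw [← map_mul, ← map_mul]
  show (QuotientGroup.mk (g0 * z) : T ⧸ Zi T 2) = QuotientGroup.mk (z * g0)
  rw [QuotientGroup.eq]
  have h := PHI_aux_Z2 z⁻¹ ((Zi T 3).inv_mem hz) g0⁻¹
  have e : (g0 * z)⁻¹ * (z * g0) = ⁅z⁻¹, g0⁻¹⁆ := by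
    simp only [commutatorElement_def]; group
  rw [e]; exact h

/-- PHI, with the bound of CCARD as a hypothesis -/
theorem PHI_aux_core {W : Subgroup T} (c : Cfg T W)
    (hC32 : Nat.card ↥(fixMod W (Zi T 3) (Mc T)) ≤ 32) (n : T) (hn4 : n ∈ Zi T 4) (hn3 : n ∉ Zi T 3) (hnW : n ∈ W)
    (hnc : ∀ y ∈ W, ⁅n, y⁆ ∈ Zi T 2)
    (x x' : T) (hx : x ∈ W) (hx' : x' ∈ W) (t t' : T) (ht : t ∈ Mc T) (ht' : t' ∈ Mc T) :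
    ⁅⁅x, t⁆, ⁅x', t'⁆⁆ ∈ Zi T 2 := by
  have hWn : W.Normal := c.nW
  have hcen := PHI_aux_cen c
  have cj : ∀ v ∈ W, ∀ g : T, g * v * g⁻¹ ∈ W := fun v hv g => hWn.conj_mem v hv g
  have haW : ∀ y ∈ W, ∀ g : T, ⁅y, g⁆ ∈ W := by
    intro y hy g
    have e : ⁅y, g⁆ = y * (g * y⁻¹ * g⁻¹) := by
      simp only [commutatorElement_def]; group
    rw [e]; exact W.mul_mem hy (cj _ (W.inv_mem hy) g)
  by_cases htW : t ∈ W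
  · have hz : ⁅x, t⁆ ∈ Zi T 3 := c.cm x hx t htW
    have h1 : ⁅⁅x, t⁆, ⁅x', t'⁆⁆ = 1 := by
      rw [commutatorElement_eq_one_iff_mul_comm]
      exact hcen _ (haW x' hx' t') _ hz
    rw [h1]; exact Subgroup.one_mem _
  by_cases htW' : t' ∈ W
  · have hz : ⁅x', t'⁆ ∈ Zi T 3 := c.cm x' hx' t' htW'
    have h1 : ⁅⁅x, t⁆, ⁅x', t'⁆⁆ = 1 := by
      rw [commutatorElement_eq_one_iff_mul_comm]
      exact (hcen _ (haW x hx t) _ hz).symm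
    rw [h1]; exact Subgroup.one_mem _
  -- the general case: pass to `T ⧸ Z_2`
  set π := QuotientGroup.mk' (Zi T 2) with hπ
  have hsurj : Function.Surjective π := QuotientGroup.mk'_surjective _
  have hVn : (W.map π).Normal := hWn.map π hsurj
  have hcQ : ∀ u ∈ W.map π, ∀ v ∈ W.map π, ∀ g : T ⧸ Zi T 2, g * ⁅u, v⁆ = ⁅u, v⁆ * g := by
    rintro u ⟨u0, hu0, rfl⟩ v ⟨v0, hv0, rfl⟩ g
    rw [← map_commutatorElement]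
    exact PHI_aux_cenQ _ (c.cm u0 hu0 v0 hv0) g
  have hsQ : ∀ u ∈ W.map π, ∀ g : T ⧸ Zi T 2, g * (u * u) = (u * u) * g := by
    rintro u ⟨u0, hu0, rfl⟩ g
    rw [← map_mul]
    refine PHI_aux_cenQ _ ?_ g
    have := c.sq u0 hu0
    rwa [pow_two] at this
  have key := PHI_aux_abs (W.map π) hcQ hsQ (π x) (π x') (Subgroup.mem_map_of_mem π hx)
    (Subgroup.mem_map_of_mem π hx') (π t) (π t')
  have key2 : π ⁅⁅x, t⁆, ⁅x', t'⁆⁆ =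
      π ⁅x, x' * (t⁻¹ * x' * t⁻¹⁻¹) * (t' * x' * t'⁻¹) * (t⁻¹ * t' * x' * (t⁻¹ * t')⁻¹)⁆ := by
    simp only [map_commutatorElement, map_mul, map_inv]
    simpa only [map_mul, map_inv] using key
  suffices hE : ⁅x, x' * (t⁻¹ * x' * t⁻¹⁻¹) * (t' * x' * t'⁻¹) * (t⁻¹ * t' * x' * (t⁻¹ * t')⁻¹)⁆
      ∈ Zi T 2 by
    have h1 : π ⁅x, x' * (t⁻¹ * x' * t⁻¹⁻¹) * (t' * x' * t'⁻¹) * (t⁻¹ * t' * x' * (t⁻¹ * t')⁻¹)⁆
        = 1 := (QuotientGroup.eq_one_iff _).2 hE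
    rw [h1] at key2
    exact (QuotientGroup.eq_one_iff _).1 key2
  obtain ⟨hWM, -, hsqM, -, -, -⟩ := msub c
  by_cases hs : t⁻¹ * t' ∈ W
  · -- the second argument lies in `Z_3`
    set ρ := QuotientGroup.mk' (Zi T 3) with hρ
    have keyρ : ∀ w ∈ W, ∀ v ∈ W, ρ (w * v * w⁻¹) = ρ v := by
      intro w hw v hv
      show (QuotientGroup.mk (w * v * w⁻¹) : T ⧸ Zi T 3) = QuotientGroup.mk v
      rw [QuotientGroup.eq]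
      have e : (w * v * w⁻¹)⁻¹ * v = ⁅w, v⁻¹⁆ := by
        simp only [commutatorElement_def]; group
      rw [e]; exact c.cm w hw _ (W.inv_mem hv)
    have sqρ : ∀ v ∈ W, ρ v * ρ v = 1 := by
      intro v hv
      rw [← map_mul]
      refine (QuotientGroup.eq_one_iff _).2 ?_
      have := c.sq v hv
      rwa [pow_two] at this
    have e1 : ρ (t⁻¹ * t' * x' * (t⁻¹ * t')⁻¹) = ρ x' := keyρ _ hs x' hx'
    have e2 : ρ (t' * x' * t'⁻¹) = ρ (t * x' * t⁻¹) := by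
      have h : t' * x' * t'⁻¹ = t * (t⁻¹ * t' * x' * (t⁻¹ * t')⁻¹) * t⁻¹ := by group
      rw [h, map_mul, map_mul, e1, ← map_mul, ← map_mul]
    have e3 : ρ (t⁻¹ * x' * t⁻¹⁻¹) = ρ (t * x' * t⁻¹) := by
      have h : t * x' * t⁻¹ = (t * t) * (t⁻¹ * x' * t⁻¹⁻¹) * (t * t)⁻¹ := by group
      rw [h, keyρ _ (hsqM t ht) _ (cj x' hx' t⁻¹)]
    have hA : x' * (t⁻¹ * x' * t⁻¹⁻¹) * (t' * x' * t'⁻¹) * (t⁻¹ * t' * x' * (t⁻¹ * t')⁻¹) ∈ Zi T 3 := by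
      refine (QuotientGroup.eq_one_iff _).1 ?_
      show ρ _ = 1
      rw [map_mul, map_mul, map_mul, e1, e2, e3, mul_assoc (ρ x'), sqρ _ (cj x' hx' t), mul_one,
        sqρ x' hx']
    have h1 : ⁅x, x' * (t⁻¹ * x' * t⁻¹⁻¹) * (t' * x' * t'⁻¹) * (t⁻¹ * t' * x' * (t⁻¹ * t')⁻¹)⁆ = 1 := by
      rw [commutatorElement_eq_one_iff_mul_comm]
      exact (hcen x hx _ hA).symm
    rw [h1]; exact Subgroup.one_mem _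
  · have htinv : t⁻¹ ∉ W := fun h => htW (by simpa using W.inv_mem h)
    have h3 : t⁻¹⁻¹ * t' ∉ W := by
      intro h
      rw [inv_inv] at h
      apply hs
      have e : t⁻¹ * t' = (t * t)⁻¹ * (t * t') := by group
      rw [e]; exact W.mul_mem (W.inv_mem (hsqM t ht)) h
    exact PHICORE_aux_core c hC32 n hn4 hn3 hnW hnc t⁻¹ t' ((Mc T).inv_mem ht) ht' htinv htW' h3 x x' hx hx'

end Cfsg.Agent.S3174P
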