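import Mathlib
import Cfsg.Agent.Helper16.S3174Defs
import Cfsg.Agent.Helper5.S3174PHIa
import Cfsg.Agent.Helper8.S3174CCARD

/-!
# S3174 board, piece PHI

`phi`: `⁅⁅x, t⁆, ⁅x', t'⁆⁆ ∈ Z_2` for `x, x' ∈ W` and `t, t' ∈ M = C_T(Z_2)`
(`PHI_aux_core` with the bound `cM_card` of CCARD).
-/

set_option autoImplicit false

namespace Cfsg.Agent.S3174P

open scoped commutatorElement

variable {T : Type*} [Group T] [Finite T]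

/-- PHI -/
theorem phi {W : Subgroup T} (c : Cfg T W) (n : T) (hn4 : n ∈ Zi T 4) (hn3 : n ∉ Zi T 3) (hnW : n ∈ W)
    (hnc : ∀ y ∈ W, ⁅n, y⁆ ∈ Zi T 2)
    (x x' : T) (hx : x ∈ W) (hx' : x' ∈ W) (t t' : T) (ht : t ∈ Mc T) (ht' : t' ∈ Mc T) :
    ⁅⁅x, t⁆, ⁅x', t'⁆⁆ ∈ Zi T 2 :=
  PHI_aux_core c (cM_card c) n hn4 hn3 hnW hnc x x' hx hx' t t' ht ht'

end Cfsg.Agent.S3174P
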