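import Mathlib
import Cfsg.Agent.Helper16.S3174Defs
import Cfsg.Agent.Helper3.S3174FI
import Cfsg.Agent.Helper5.S3174PHIa

/-!
# S3174 board, piece UHSQ (core)

`UHSQ_aux_core` (= `uh_sq` with the CCARD bound as a hypothesis): all squares of `Uh W = Z_3 · [W, M]` lie in `Z_2`.
Blueprint: `departures/helper16_S3174_blueprint.md`.
-/

set_option autoImplicit false

namespace Cfsg.Agent.S3174P

open scoped commutatorElement

variable {T : Type*} [Group T] [Finite T]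

/-- UHSQ, with the bound of CCARD as a hypothesis -/
theorem UHSQ_aux_core {W : Subgroup T} (c : Cfg T W)
    (hC32 : Nat.card ↥(fixMod W (Zi T 3) (Mc T)) ≤ 32) (n : T) (hn4 : n ∈ Zi T 4) (hn3 : n ∉ Zi T 3) (hnW : n ∈ W)
    (hnc : ∀ y ∈ W, ⁅n, y⁆ ∈ Zi T 2) : ∀ y ∈ Uh W, y ^ 2 ∈ Zi T 2 := by
  have hWn : W.Normal := c.nW
  have hcen := PHI_aux_cen c
  have h23 : Zi T 2 ≤ Zi T 3 := Subgroup.upperCentralSeries_mono T (by norm_num)
  have cj : ∀ v ∈ W, ∀ g : T, g * v * g⁻¹ ∈ W := fun v hv g => hWn.conj_mem v hv g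
  have haW : ∀ y ∈ W, ∀ g : T, ⁅y, g⁆ ∈ W := by
    intro y hy g
    have e : ⁅y, g⁆ = y * (g * y⁻¹ * g⁻¹) := by
      simp only [commutatorElement_def]; group
    rw [e]; exact W.mul_mem hy (cj _ (W.inv_mem hy) g)
  -- the generating set
  set S : Set T := {y | ∃ x ∈ W, ∃ t ∈ Mc T, y = ⁅x, t⁆} with hS
  set S' : Set T := (Zi T 3 : Set T) ∪ S with hS'
  have hUh : Uh W = Subgroup.closure S' := by
    rw [hS', Subgroup.closure_union, Subgroup.closure_eq]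
    rfl
  have hS'W : S' ⊆ (W : Set T) := by
    rintro y (hy | ⟨x, hx, t, -, rfl⟩)
    · exact c.ZW hy
    · exact haW x hx t
  have hUW : Subgroup.closure S' ≤ W := (Subgroup.closure_le W).2 hS'W
  -- generators commute modulo `Z_2`
  have hgen : ∀ s ∈ S', ∀ s' ∈ S', ⁅s, s'⁆ ∈ Zi T 2 := by
    intro s hs s' hs'
    rcases hs with hs | ⟨x, hx, t, ht, rfl⟩
    · have h1 : ⁅s, s'⁆ = 1 := by
        rw [commutatorElement_eq_one_iff_mul_comm]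
        exact hcen _ (hS'W hs') _ hs
      rw [h1]; exact Subgroup.one_mem _
    · rcases hs' with hs' | ⟨x', hx', t', ht', rfl⟩
      · have h1 : ⁅⁅x, t⁆, s'⁆ = 1 := by
          rw [commutatorElement_eq_one_iff_mul_comm]
          exact (hcen _ (haW x hx t) _ hs').symm
        rw [h1]; exact Subgroup.one_mem _
      · exact PHI_aux_core c hC32 n hn4 hn3 hnW hnc x x' hx hx' t t' ht ht'
  -- hence all of `Uh W` commutes modulo `Z_2`
  have hcomm1 : ∀ a ∈ Subgroup.closure S', ∀ s ∈ S', ⁅a, s⁆ ∈ Zi T 2 := by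
    intro a ha s hs
    have hle : Subgroup.closure S' ≤ commIn (Zi T 2) s := by
      rw [Subgroup.closure_le]
      intro s' hs'
      exact hgen s' hs' s hs
    exact hle ha
  have hcomm : ∀ a ∈ Subgroup.closure S', ∀ b ∈ Subgroup.closure S', ⁅b, a⁆ ∈ Zi T 2 := by
    intro a ha b hb
    have hle : Subgroup.closure S' ≤ commIn (Zi T 2) a := by
      rw [Subgroup.closure_le]
      intro s hs
      show ⁅s, a⁆ ∈ Zi T 2
      rw [← commutatorElement_inv]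
      exact (Zi T 2).inv_mem (hcomm1 a ha s hs)
    exact hle hb
  -- squares of the generators
  have hsqgen : ∀ s ∈ S', s ^ 2 ∈ Zi T 2 := by
    rintro s (hs | ⟨x, hx, t, ht, rfl⟩)
    · rw [c.ex s hs]; exact Subgroup.one_mem _
    · -- `⁅x,t⁆ = x * u`, `u = t x⁻¹ t⁻¹`
      have hu : t * x⁻¹ * t⁻¹ ∈ W := cj _ (W.inv_mem hx) t
      have e : ⁅x, t⁆ = x * (t * x⁻¹ * t⁻¹) := by
        simp only [commutatorElement_def]; group
      -- the commutator `⁅u⁻¹, x⁻¹⁆`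
      have hc1 : ⁅(t * x⁻¹ * t⁻¹)⁻¹, x⁻¹⁆ ∈ Zi T 2 := by
        have h1 := fi2 c x⁻¹ (W.inv_mem hx) t ht
        have e2 : ⁅(t * x⁻¹ * t⁻¹)⁻¹, x⁻¹⁆ =
            (t * x⁻¹ * t⁻¹)⁻¹ * ⁅x⁻¹, t * x⁻¹ * t⁻¹⁆ * (t * x⁻¹ * t⁻¹)⁻¹⁻¹ := by
          simp only [commutatorElement_def]; group
        rw [e2]
        exact (inferInstance : (Zi T 2).Normal).conj_mem _ h1 _
      have hc3 : ⁅(t * x⁻¹ * t⁻¹)⁻¹, x⁻¹⁆ ∈ Zi T 3 := h23 hc1
      have hx2 : x ^ 2 ∈ Zi T 3 := c.sq x hx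
      have h2 : ⁅x ^ 2, t⁆ ∈ Zi T 2 := PHI_aux_Z2 _ hx2 t
      have e3 : ⁅x, t⁆ ^ 2 = ⁅x ^ 2, t⁆ * ⁅(t * x⁻¹ * t⁻¹)⁻¹, x⁻¹⁆ := by
        -- (x u)^2 = x (u x) u = x (x u c) u = x^2 u c u = x^2 u^2 c
        have hcu : ⁅(t * x⁻¹ * t⁻¹)⁻¹, x⁻¹⁆ * (t * x⁻¹ * t⁻¹) =
            (t * x⁻¹ * t⁻¹) * ⁅(t * x⁻¹ * t⁻¹)⁻¹, x⁻¹⁆ := hcen _ hu _ hc3
        have e4 : ⁅x, t⁆ ^ 2 = x ^ 2 * (t * x⁻¹ * t⁻¹) *
            (⁅(t * x⁻¹ * t⁻¹)⁻¹, x⁻¹⁆ * (t * x⁻¹ * t⁻¹)) := by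
          rw [e]
          simp only [commutatorElement_def, pow_two]; group
        rw [e4, hcu]
        simp only [commutatorElement_def, pow_two]; group
      rw [e3]
      exact (Zi T 2).mul_mem h2 hc1
  -- closure induction
  intro y hy
  rw [hUh] at hy
  induction hy using Subgroup.closure_induction with
  | mem s hs => exact hsqgen s hs
  | one => rw [one_pow]; exact Subgroup.one_mem _
  | mul a b ha hb iha ihb =>
    have hc1 : ⁅b⁻¹, a⁻¹⁆ ∈ Zi T 2 :=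
      hcomm a⁻¹ (Subgroup.inv_mem _ ha) b⁻¹ (Subgroup.inv_mem _ hb)
    have hcb : ⁅b⁻¹, a⁻¹⁆ * b = b * ⁅b⁻¹, a⁻¹⁆ := hcen _ (hUW hb) _ (h23 hc1)
    have e : (a * b) ^ 2 = a ^ 2 * b ^ 2 * ⁅b⁻¹, a⁻¹⁆ := by
      have e4 : (a * b) ^ 2 = a ^ 2 * b * (⁅b⁻¹, a⁻¹⁆ * b) := by
        simp only [commutatorElement_def, pow_two]; group
      rw [e4, hcb]
      simp only [commutatorElement_def, pow_two]; group
    rw [e]
    exact (Zi T 2).mul_mem ((Zi T 2).mul_mem iha ihb) hc1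
  | inv a ha iha =>
    rw [inv_pow]; exact (Zi T 2).inv_mem iha

end Cfsg.Agent.S3174P
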