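import Mathlib
import Cfsg.Agent.Helper16.S3174Defs
import Cfsg.Agent.Helper5.S3174UHSQa
import Cfsg.Agent.Helper8.S3174CCARD

/-!
# S3174 board, piece UHSQ

`uh_sq`: all squares of `Uh W = Z_3 · [W, M]` lie in `Z_2`
(`UHSQ_aux_core` with the bound `cM_card` of CCARD).
-/

set_option autoImplicit false

namespace Cfsg.Agent.S3174P

open scoped commutatorElement

variable {T : Type*} [Group T] [Finite T]

/-- UHSQ -/
theorem uh_sq {W : Subgroup T} (c : Cfg T W) (n : T) (hn4 : n ∈ Zi T 4) (hn3 : n ∉ Zi T 3) (hnW : n ∈ W)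
    (hnc : ∀ y ∈ W, ⁅n, y⁆ ∈ Zi T 2) : ∀ y ∈ Uh W, y ^ 2 ∈ Zi T 2 :=
  UHSQ_aux_core c (cM_card c) n hn4 hn3 hnW hnc

end Cfsg.Agent.S3174P
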