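import Mathlib
import Cfsg.Agent.Helper12.S3222Defs

/-!
# S3222, piece S4C (driver helper12): the case `M ≅ S₄`
-/

set_option autoImplicit false

namespace Cfsg.Agent.S3222P

theorem S4C {G : Type*} [Group G] [Finite G] (t : G) (T : Sylow 2 G)
    (L : Local t T) (M : Subgroup G) (hM : M.index = 2)
    (f : ↥M ≃* Equiv.Perm (Fin 4)) :
    Subgroup.centralizer ({t} : Set G) = ⊤ ∧ Group.IsSolvable G := by
  have hcardM : Nat.card ↥M = 24 := by
    rw [Nat.card_congr f.toEquiv, Nat.card_eq_fintype_card, Fintype.card_perm, Fintype.card_fin]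
    rfl
  have hcardG : Nat.card G = 48 := by
    rw [← M.card_mul_index, hcardM, hM]
  have hC : Subgroup.centralizer ({t} : Set G) = ⊤ :=
    Subgroup.eq_top_of_card_eq _ (by rw [L.cardC, hcardG])
  refine ⟨hC, ?_⟩
  have hs : Group.IsSolvable ↥(Subgroup.centralizer ({t} : Set G)) := L.solvC
  exact Group.isSolvable_of_surjective (f := (Subgroup.centralizer ({t} : Set G)).subtype)
    (fun g => ⟨⟨g, by rw [hC]; trivial⟩, rfl⟩)

end Cfsg.Agent.S3222P
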