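import Mathlib
import Cfsg.Prelude.Def_Classical
import Cfsg.Agent.Helper12.SpCountA

/-! S3439 piece PSPUP (driver helper6): every element of `PSp₄(3)` has order dividing 5, 9 or 12. -/

set_option autoImplicit false

namespace Cfsg.Agent.S3439P

open Polynomial

namespace PSPUP

variable {F : Type*} [Field F]

/-- Cayley–Hamilton: a multiple of the characteristic polynomial kills the matrix -/
theorem aeval_of_mul {ι : Type*} [Fintype ι] [DecidableEq ι] (M : Matrix ι ι F) (Q T : F[X])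
    (h : M.charpoly * Q = T) : aeval M T = 0 := by
  rw [← h, map_mul, Matrix.aeval_self_charpoly, zero_mul]

theorem pow_eq_one_of_mul {ι : Type*} [Fintype ι] [DecidableEq ι] (M : Matrix ι ι F) (Q : F[X])
    (k : ℕ) (h : M.charpoly * Q = X ^ k - 1) : M ^ k = 1 := by
  have := aeval_of_mul M Q _ h
  rw [map_sub, map_pow, aeval_X, map_one, sub_eq_zero] at this
  exact this

theorem pow_eq_neg_one_of_mul {ι : Type*} [Fintype ι] [DecidableEq ι] (M : Matrix ι ι F)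
    (Q : F[X]) (k : ℕ) (h : M.charpoly * Q = X ^ k + 1) : M ^ k = -1 := by
  have := aeval_of_mul M Q _ h
  rw [map_add, map_pow, aeval_X, map_one] at this
  exact eq_neg_of_add_eq_zero_left this

/-- `±1` is central, so a power that is `±1` dies in `PSp` -/
theorem mk_pow_eq_one (m : ℕ) (A : Matrix.symplecticGroup (Fin m) F) (k : ℕ)
    (h : (A : Matrix (Fin m ⊕ Fin m) (Fin m ⊕ Fin m) F) ^ k = 1 ∨
      (A : Matrix (Fin m ⊕ Fin m) (Fin m ⊕ Fin m) F) ^ k = -1) :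
    (QuotientGroup.mk A : Cfsg.PSp m F) ^ k = 1 := by
  have hcen : A ^ k ∈ Subgroup.center (Matrix.symplecticGroup (Fin m) F) := by
    rw [Subgroup.mem_center_iff]
    intro B
    apply Subtype.ext
    show (B : Matrix (Fin m ⊕ Fin m) (Fin m ⊕ Fin m) F) *
        ((A ^ k : Matrix.symplecticGroup (Fin m) F) : Matrix (Fin m ⊕ Fin m) (Fin m ⊕ Fin m) F) =
      ((A ^ k : Matrix.symplecticGroup (Fin m) F) : Matrix (Fin m ⊕ Fin m) (Fin m ⊕ Fin m) F) *
        (B : Matrix (Fin m ⊕ Fin m) (Fin m ⊕ Fin m) F)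
    rw [SubmonoidClass.coe_pow]
    rcases h with h | h <;> rw [h] <;> simp
  rw [← QuotientGroup.mk_pow, QuotientGroup.eq_one_iff]
  exact hcen

/-- a field with three elements -/
theorem three_cases [Fintype F] (hF : Fintype.card F = 3) (x : F) : x = 0 ∨ x = 1 ∨ x = -1 := by
  have h := FiniteField.pow_card x
  rw [hF] at h
  have h2 : x * (x - 1) * (x + 1) = 0 := by linear_combination h
  rcases mul_eq_zero.mp h2 with h3 | h3
  · rcases mul_eq_zero.mp h3 with h4 | h4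
    · exact Or.inl h4
    · exact Or.inr (Or.inl (by linear_combination h4))
  · exact Or.inr (Or.inr (by linear_combination h3))

theorem three_eq_zero [Fintype F] (hF : Fintype.card F = 3) : (3 : F[X]) = 0 := by
  have h : ((Fintype.card F : ℕ) : F) = 0 := Nat.cast_card_eq_zero F
  rw [hF] at h
  have h2 : (3 : F[X]) = C ((3 : ℕ) : F) := by
    rw [Polynomial.C_eq_natCast]
    norm_num
  rw [h2, h, map_zero]

/-- the characteristic polynomial of a symplectic `4 × 4` matrix is palindromic -/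
theorem charpoly_form (A : Matrix.symplecticGroup (Fin 2) F) :
    (A : Matrix (Fin 2 ⊕ Fin 2) (Fin 2 ⊕ Fin 2) F).charpoly =
      X ^ 4 + C ((A : Matrix (Fin 2 ⊕ Fin 2) (Fin 2 ⊕ Fin 2) F).charpoly.coeff 1) * X ^ 3 +
        C ((A : Matrix (Fin 2 ⊕ Fin 2) (Fin 2 ⊕ Fin 2) F).charpoly.coeff 2) * X ^ 2 +
        C ((A : Matrix (Fin 2 ⊕ Fin 2) (Fin 2 ⊕ Fin 2) F).charpoly.coeff 1) * X + 1 := by
  set χ := (A : Matrix (Fin 2 ⊕ Fin 2) (Fin 2 ⊕ Fin 2) F).charpoly with hχ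
  have hmonic : χ.Monic := Matrix.charpoly_monic _
  have hdeg : χ.natDegree = 4 := by
    rw [hχ, Matrix.charpoly_natDegree_eq_dim]
    simp
  have hrev : χ.reverse = χ := Cfsg.Agent.Helper12.SpCount.charpoly_reverse A
  have hfc : ∀ i, i ≤ 4 → χ.coeff (4 - i) = χ.coeff i := by
    intro i hi
    conv_rhs => rw [← hrev, coeff_reverse, hdeg, revAt_le hi]
  have h4 : χ.coeff 4 = 1 := by
    have := hmonic.coeff_natDegree
    rwa [hdeg] at this
  have h0 : χ.coeff 0 = 1 := by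
    have := hfc 0 (by norm_num)
    rw [← this]
    exact h4
  have h31 : χ.coeff 3 = χ.coeff 1 := hfc 1 (by norm_num)
  ext i
  simp only [coeff_add, coeff_X_pow, coeff_C_mul, coeff_X, coeff_one]
  by_cases hi : 4 < i
  · rw [coeff_eq_zero_of_natDegree_lt (by rw [hdeg]; exact hi)]
    have e1 : ¬ i = 4 := by omega
    have e2 : ¬ i = 3 := by omega
    have e3 : ¬ i = 2 := by omega
    have e4 : ¬ 1 = i := by omega
    have e5 : ¬ i = 0 := by omega
    simp [e1, e2, e3, e4, e5]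
  · have : i = 0 ∨ i = 1 ∨ i = 2 ∨ i = 3 ∨ i = 4 := by omega
    rcases this with rfl | rfl | rfl | rfl | rfl
    · simp [h0]
    · simp
    · simp
    · simp [h31]
    · simp [h4]

end PSPUP

/-- PSPUP (M-L): every element of `PSp₄(3)` has order dividing 5, 9 or 12. -/
theorem psp_cover {F : Type*} [Field F] [Fintype F] (hF : Fintype.card F = 3) (x : Cfsg.PSp 2 F) :
    x ^ 5 = 1 ∨ x ^ 9 = 1 ∨ x ^ 12 = 1 := by
  classical
  obtain ⟨A, rfl⟩ := QuotientGroup.mk_surjective x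
  have hχ := PSPUP.charpoly_form A
  have h3 : (3 : F[X]) = 0 := PSPUP.three_eq_zero hF
  set M := (A : Matrix (Fin 2 ⊕ Fin 2) (Fin 2 ⊕ Fin 2) F) with hM
  rcases PSPUP.three_cases hF (M.charpoly.coeff 1) with ha | ha | ha <;>
  rcases PSPUP.three_cases hF (M.charpoly.coeff 2) with hb | hb | hb <;>
  rw [ha, hb] at hχ <;>
  simp only [map_zero, map_one, map_neg, zero_mul, add_zero, one_mul, neg_mul] at hχ
  · -- (0, 0): `X^4 + 1 ∣ X^12 + 1`
    right; right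
    apply PSPUP.mk_pow_eq_one 2 A 12
    right
    apply PSPUP.pow_eq_neg_one_of_mul M (1 - X ^ 4 + X ^ 8)
    rw [hχ]
    ring
  · -- (0, 1): `(X^2 - 1)^2 ∣ X^12 - 1`
    right; right
    apply PSPUP.mk_pow_eq_one 2 A 12
    left
    apply PSPUP.pow_eq_one_of_mul M (-1 - 2 * X ^ 2 + 2 * X ^ 6 + X ^ 8)
    rw [hχ]
    linear_combination (-X ^ 2 - X ^ 4 + X ^ 8 + X ^ 10) * h3
  · -- (0, -1): `(X^2 + 1)^2 ∣ X^12 - 1`
    right; right
    apply PSPUP.mk_pow_eq_one 2 A 12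
    left
    apply PSPUP.pow_eq_one_of_mul M (-1 + 2 * X ^ 2 - 2 * X ^ 6 + X ^ 8)
    rw [hχ]
    linear_combination (X ^ 2 - X ^ 4 + X ^ 8 - X ^ 10) * h3
  · -- (1, 0): `(X + 1)^4 ∣ X^9 + 1`
    right; left
    apply PSPUP.mk_pow_eq_one 2 A 9
    right
    apply PSPUP.pow_eq_neg_one_of_mul M (1 + 5 * X + 10 * X ^ 2 + 10 * X ^ 3 + 5 * X ^ 4 + X ^ 5)
    rw [hχ]
    linear_combination (2 * X + 5 * X ^ 2 + 7 * X ^ 3 + 7 * X ^ 4 + 7 * X ^ 5 + 7 * X ^ 6 +
      5 * X ^ 7 + 2 * X ^ 8) * h3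
  · -- (1, 1): `∣ X^5 - 1`
    left
    apply PSPUP.mk_pow_eq_one 2 A 5
    left
    apply PSPUP.pow_eq_one_of_mul M (X - 1)
    rw [hχ]
    ring
  · -- (1, -1): `(X^2+1)(X-1)^2 ∣ X^12 - 1`
    right; right
    apply PSPUP.mk_pow_eq_one 2 A 12
    left
    apply PSPUP.pow_eq_one_of_mul M (-1 - 2 * X - 2 * X ^ 2 - 2 * X ^ 3 + 2 * X ^ 5 + 2 * X ^ 6 +
      2 * X ^ 7 + X ^ 8)
    rw [hχ]
    linear_combination (-X - X ^ 2 - X ^ 3 - X ^ 4 + X ^ 8 + X ^ 9 + X ^ 10 + X ^ 11) * h3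
  · -- (-1, 0): `(X - 1)^4 ∣ X^9 - 1`
    right; left
    apply PSPUP.mk_pow_eq_one 2 A 9
    left
    apply PSPUP.pow_eq_one_of_mul M (-1 + 5 * X - 10 * X ^ 2 + 10 * X ^ 3 - 5 * X ^ 4 + X ^ 5)
    rw [hχ]
    linear_combination (2 * X - 5 * X ^ 2 + 7 * X ^ 3 - 7 * X ^ 4 + 7 * X ^ 5 - 7 * X ^ 6 +
      5 * X ^ 7 - 2 * X ^ 8) * h3
  · -- (-1, 1): `∣ X^5 + 1`
    left
    apply PSPUP.mk_pow_eq_one 2 A 5
    right
    apply PSPUP.pow_eq_neg_one_of_mul M (X + 1)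
    rw [hχ]
    ring
  · -- (-1, -1): `(X^2+1)(X+1)^2 ∣ X^12 - 1`
    right; right
    apply PSPUP.mk_pow_eq_one 2 A 12
    left
    apply PSPUP.pow_eq_one_of_mul M (-1 + 2 * X - 2 * X ^ 2 + 2 * X ^ 3 - 2 * X ^ 5 + 2 * X ^ 6 -
      2 * X ^ 7 + X ^ 8)
    rw [hχ]
    linear_combination (X - X ^ 2 + X ^ 3 - X ^ 4 + X ^ 8 - X ^ 9 + X ^ 10 - X ^ 11) * h3

end Cfsg.Agent.S3439P
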