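import Mathlib
import Cfsg.Agent.Lead.S3556CENT
import Cfsg.Agent.Helper29.S3501DER

set_option autoImplicit false
set_option linter.unusedSectionVars false
set_option linter.unusedVariables false

namespace Cfsg.Agent.S3520P

open MulAction

variable {G : Type*} [Group G] [Finite G] {Ω : Type*} [Fintype Ω] [MulAction G Ω]

/-- Conjugate elements have the same order. -/
theorem B1.aux_orderOf_eq {H : Type*} [Group H] {x y : H} (h : IsConj x y) :
    orderOf x = orderOf y := by
  obtain ⟨c, hc⟩ := isConj_iff.1 h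
  have : SemiconjBy c x y := by
    unfold SemiconjBy
    rw [← hc]; group
  exact this.orderOf_eq

/-- A finite group which is not a `q`-group has an element of prime order `p ≠ q`. -/
theorem B1.aux_prime_ne {H : Type*} [Group H] [Finite H] (q : ℕ) (hq : q.Prime)
    (h : ¬ IsPGroup q H) : ∃ (p : ℕ) (x : H), p.Prime ∧ p ≠ q ∧ orderOf x = p := by
  have : Fact q.Prime := ⟨hq⟩
  by_contra hcon
  apply h
  rw [IsPGroup.iff_card]
  have hpos : Nat.card H ≠ 0 := Nat.card_pos.ne'
  refine ⟨(Nat.card H).primeFactorsList.length, ?_⟩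
  apply Nat.eq_prime_pow_of_unique_prime_dvd hpos
  intro p hp hpd
  by_contra hpq
  have : Fact p.Prime := ⟨hp⟩
  obtain ⟨x, hx⟩ := exists_prime_orderOf_dvd_card' (G := H) p hpd
  exact hcon ⟨p, x, hp, hpq, hx⟩

/-- B1: if there are no three pairwise non-conjugate derangements, a non-trivial normal subgroup that is not
of prime power order has trivial centraliser. -/
theorem B1 [FaithfulSMul G Ω] (hprim : IsPreprimitive G Ω) (hΩ : 2 ≤ Fintype.card Ω)
    (h3 : ∀ x y z : G, (∀ ω : Ω, x • ω ≠ ω) → (∀ ω : Ω, y • ω ≠ ω) → (∀ ω : Ω, z • ω ≠ ω) →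
      ¬ IsConj x y → ¬ IsConj x z → ¬ IsConj y z → False)
    (N : Subgroup G) [N.Normal] (hN : N ≠ ⊥) (hnp : ∀ p : ℕ, p.Prime → ¬ IsPGroup p N) :
    Subgroup.centralizer (N : Set G) = ⊥ := by
  by_contra hC
  set C : Subgroup G := Subgroup.centralizer (N : Set G) with hCdef
  have hCn : C.Normal := inferInstance
  have hCtr : IsPretransitive C Ω := Cfsg.Agent.S3501P.DER.normal_transitive C hC
  have hNtr : IsPretransitive N Ω := Cfsg.Agent.S3501P.DER.normal_transitive N hN
  -- elementwise commutation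
  have hcomm : ∀ n ∈ N, ∀ c ∈ C, c * n = n * c := by
    intro n hn c hc
    exact (hc n hn).symm
  -- semiregularity
  have hNsr : ∀ n ∈ N, n ≠ 1 → ∀ ω : Ω, n • ω ≠ ω := by
    intro n hn hn1 ω hfix
    exact hn1 (Cfsg.Agent.S3556P.CENT.semiregular C n (fun c hc => hcomm n hn c hc) ω hfix)
  have hCsr : ∀ c ∈ C, c ≠ 1 → ∀ ω : Ω, c • ω ≠ ω := by
    intro c hc hc1 ω hfix
    exact hc1 (Cfsg.Agent.S3556P.CENT.semiregular N c (fun n hn => (hcomm n hn c hc).symm) ω hfix)
  -- a prime `q` dividing `|C|`, an element `y ∈ C` of order `q`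
  have hCcard : Nat.card C ≠ 1 := by
    intro h
    exact hC (Subgroup.card_eq_one.1 h)
  set q := (Nat.card C).minFac with hqdef
  have hq : q.Prime := Nat.minFac_prime hCcard
  have : Fact q.Prime := ⟨hq⟩
  obtain ⟨y, hy⟩ := exists_prime_orderOf_dvd_card' (G := C) q (Nat.minFac_dvd _)
  -- a prime `p ≠ q` and `x ∈ N` of order `p`
  obtain ⟨p, x, hp, hpq, hx⟩ := B1.aux_prime_ne (H := N) q hq (hnp q hq)
  have hxG : orderOf (x : G) = p := by rw [Subgroup.orderOf_coe]; exact hx
  have hyG : orderOf (y : G) = q := by rw [Subgroup.orderOf_coe]; exact hy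
  have hx1 : (x : G) ≠ 1 := by
    intro h
    rw [h, orderOf_one] at hxG
    exact hp.one_lt.ne hxG
  have hy1 : (y : G) ≠ 1 := by
    intro h
    rw [h, orderOf_one] at hyG
    exact hq.one_lt.ne hyG
  have hxy : Commute (x : G) (y : G) := (hcomm x x.2 y y.2).symm
  have hcop : Nat.Coprime (orderOf (x : G)) (orderOf (y : G)) := by
    rw [hxG, hyG]
    exact (Nat.coprime_primes hp hq).2 hpq
  have hxyord : orderOf ((x : G) * (y : G)) = p * q := by
    rw [hxy.orderOf_mul_eq_mul_orderOf_of_coprime hcop, hxG, hyG]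
  -- derangements
  have hdx : ∀ ω : Ω, (x : G) • ω ≠ ω := hNsr x x.2 hx1
  have hdy : ∀ ω : Ω, (y : G) • ω ≠ ω := hCsr y y.2 hy1
  have hdxy : ∀ ω : Ω, ((x : G) * (y : G)) • ω ≠ ω := by
    intro ω hfix
    have hpow : ∀ k : ℕ, (((x : G) * (y : G)) ^ k) • ω = ω := by
      intro k
      induction k with
      | zero => simp
      | succ k ih => rw [pow_succ, mul_smul, hfix, ih]
    have h1 := hpow q
    rw [hxy.mul_pow, ← hyG, pow_orderOf_eq_one, mul_one, hyG] at h1
    have hxq1 : (x : G) ^ q ≠ 1 := by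
      intro h
      have : orderOf (x : G) ∣ q := orderOf_dvd_of_pow_eq_one h
      rw [hxG] at this
      exact hpq ((Nat.prime_dvd_prime_iff_eq hp hq).1 this)
    exact hNsr _ (N.pow_mem x.2 q) hxq1 ω h1
  -- pairwise non-conjugate (orders `p`, `q`, `p * q`)
  have hp1 : 1 < p := hp.one_lt
  have hq1 : 1 < q := hq.one_lt
  apply h3 (x : G) (y : G) ((x : G) * (y : G)) hdx hdy hdxy
  · intro h
    have := B1.aux_orderOf_eq h
    rw [hxG, hyG] at this
    exact hpq this
  · intro h
    have := B1.aux_orderOf_eq h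
    rw [hxG, hxyord] at this
    have : p * 1 = p * q := by rw [mul_one]; exact this
    have := Nat.eq_of_mul_eq_mul_left hp.pos this
    omega
  · intro h
    have := B1.aux_orderOf_eq h
    rw [hyG, hxyord] at this
    have : 1 * q = p * q := by rw [one_mul]; exact this
    have := Nat.eq_of_mul_eq_mul_right hq.pos this
    omega

end Cfsg.Agent.S3520P
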