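import Mathlib
import Cfsg.Agent.Helper22.ConjCover

set_option autoImplicit false
open Pointwise

namespace Cfsg.Agent.S3556P

/-- Conjugating `mulSingle i t0` inside `Fin m → T`. -/
theorem SINGLE.conj {T : Type*} [Group T] {m : ℕ} (i : Fin m) (t0 : T) (f : Fin m → T) :
    f⁻¹ * Pi.mulSingle i t0 * f = Pi.mulSingle i ((f i)⁻¹ * t0 * f i) := by
  funext j
  by_cases h : j = i
  · subst h; simp
  · simp [Pi.mulSingle_eq_of_ne h]

/-- If `N` is transitive and `n⁻¹ t n` never fixes `a`, then `t` is a derangement. -/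
theorem SINGLE.der_of_conj {G Ω : Type*} [Group G] [MulAction G Ω] (N : Subgroup G)
    [hNt : MulAction.IsPretransitive N Ω] (a : Ω) (t : N)
    (h : ∀ n : N, ((n⁻¹ * t * n : N) : G) ∉ MulAction.stabilizer G a) :
    ∀ ω : Ω, (t : G) • ω ≠ ω := by
  intro ω hω
  obtain ⟨n, rfl⟩ := MulAction.exists_smul_eq N a ω
  apply h n
  rw [MulAction.mem_stabilizer_iff]
  have h1 : (t : G) • ((n : G) • a) = (n : G) • a := hω
  push_cast
  rw [mul_smul, mul_smul, h1, inv_smul_smul]

/-- The common shape for S3556 / S3501: in both O'Nan–Scott shapes of the point stabiliser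
of `N ≃* T^m` (as delivered by `BRIDGE`), either (A) there are `i`, `t0 ≠ 1` such that every
`f` with `f i = t0` gives a derangement `e.symm f`, or (B) there are `i ≠ j` such that every
`f` with `f i`, `f j` not conjugate in `T` gives a derangement `e.symm f`. -/
theorem SINGLE.shape {G Ω : Type*} [Group G] [MulAction G Ω] (N : Subgroup G)
    [hNt : MulAction.IsPretransitive N Ω] (a : Ω) {T : Type} [Group T] [Finite T]
    {m : ℕ} (e : N ≃* (Fin m → T)) (hm : 0 < m)
    (hcase : (∃ K : Fin m → Subgroup T, (∀ i, K i ≠ ⊤) ∧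
        ∀ n : N, (n : G) ∈ MulAction.stabilizer G a ↔ ∀ i, e n i ∈ K i) ∨
      (∃ (k : ℕ) (c : Fin m → Fin m), 2 ≤ k ∧
        (∀ j : Fin m, Nat.card {i : Fin m // c i = j} = k ∨
          Nat.card {i : Fin m // c i = j} = 0) ∧
        ∀ n : N, (n : G) ∈ MulAction.stabilizer G a ↔
          ∀ i j : Fin m, c i = c j → e n i = e n j)) :
    (∃ (i : Fin m) (t0 : T), t0 ≠ 1 ∧ ∀ f : Fin m → T, f i = t0 →
        ∀ ω : Ω, ((e.symm f : N) : G) • ω ≠ ω) ∨
    (∃ (i j : Fin m), i ≠ j ∧ ∀ f : Fin m → T, ¬ IsConj (f i) (f j) →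
        ∀ ω : Ω, ((e.symm f : N) : G) • ω ≠ ω) := by
  classical
  have hconj : ∀ (f : Fin m → T) (n : N),
      e (n⁻¹ * e.symm f * n) = (e n)⁻¹ * f * e n := by
    intro f n
    rw [map_mul, map_mul, map_inv, MulEquiv.apply_symm_apply]
  rcases hcase with ⟨K, hK, hst⟩ | ⟨k, c, hk, hblk, hst⟩
  · left
    obtain ⟨t0, ht0⟩ := Cfsg.Agent.Helper22.exists_not_mem_conj (K ⟨0, hm⟩) (hK ⟨0, hm⟩)
    refine ⟨⟨0, hm⟩, t0, ?_, ?_⟩
    · rintro rfl
      apply ht0 1
      exact Subgroup.one_mem _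
    · intro f hf
      apply SINGLE.der_of_conj N a
      intro n hn
      rw [hst, hconj] at hn
      have h1 := hn ⟨0, hm⟩
      simp only [Pi.mul_apply, Pi.inv_apply, hf] at h1
      apply ht0 (e n ⟨0, hm⟩)
      rw [Subgroup.mem_pointwise_smul_iff_inv_smul_mem]
      simpa [MulAut.smul_def, mul_assoc] using h1
  · right
    set i : Fin m := ⟨0, hm⟩ with hi
    -- another index in the block of `i`
    have hcard : Nat.card {i' : Fin m // c i' = c i} = k := by
      rcases hblk (c i) with h | h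
      · exact h
      · exfalso
        have : Nonempty {i' : Fin m // c i' = c i} := ⟨⟨i, rfl⟩⟩
        have := Nat.card_pos (α := {i' : Fin m // c i' = c i})
        omega
    have hex : ∃ j : Fin m, j ≠ i ∧ c j = c i := by
      by_contra hne
      have hne' : ∀ j : Fin m, c j = c i → j = i := by
        intro j hj
        by_contra h
        exact hne ⟨j, h, hj⟩
      have hsub : Subsingleton {i' : Fin m // c i' = c i} := by
        constructor
        rintro ⟨x, hx⟩ ⟨y, hy⟩
        simp [hne' x hx, hne' y hy]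
      have : Nat.card {i' : Fin m // c i' = c i} ≤ 1 := by
        rw [Nat.card_eq_fintype_card]
        exact Fintype.card_le_one_iff_subsingleton.2 hsub
      omega
    obtain ⟨j, hji, hcj⟩ := hex
    refine ⟨i, j, hji.symm, ?_⟩
    intro f hf
    apply SINGLE.der_of_conj N a
    intro n hn
    rw [hst, hconj] at hn
    have h1 := hn i j hcj.symm
    simp only [Pi.mul_apply, Pi.inv_apply] at h1
    apply hf
    rw [isConj_iff]
    refine ⟨e n j * (e n i)⁻¹, ?_⟩
    have : f j = e n j * ((e n i)⁻¹ * f i * e n i) * (e n j)⁻¹ := by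
      rw [h1]; group
    rw [this]; group

/-- Corollary (the S3556 form): for a nontrivial `T`, some `single i t0` with `t0 ≠ 1` is a
derangement, and so is every `single i t0 * single j u` with `j ≠ i` in case (A) ... here only
the plain `single` form. -/
theorem SINGLE.exists_der {G Ω : Type*} [Group G] [MulAction G Ω] (N : Subgroup G)
    [hNt : MulAction.IsPretransitive N Ω] (a : Ω) {T : Type} [Group T] [Finite T]
    [Nontrivial T] {m : ℕ} (e : N ≃* (Fin m → T)) (hm : 0 < m)
    (hcase : (∃ K : Fin m → Subgroup T, (∀ i, K i ≠ ⊤) ∧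
        ∀ n : N, (n : G) ∈ MulAction.stabilizer G a ↔ ∀ i, e n i ∈ K i) ∨
      (∃ (k : ℕ) (c : Fin m → Fin m), 2 ≤ k ∧
        (∀ j : Fin m, Nat.card {i : Fin m // c i = j} = k ∨
          Nat.card {i : Fin m // c i = j} = 0) ∧
        ∀ n : N, (n : G) ∈ MulAction.stabilizer G a ↔
          ∀ i j : Fin m, c i = c j → e n i = e n j)) :
    ∃ (i : Fin m) (t0 : T), t0 ≠ 1 ∧
      ∀ ω : Ω, ((e.symm (Pi.mulSingle i t0) : N) : G) • ω ≠ ω := by
  classical
  rcases SINGLE.shape N a e hm hcase with ⟨i, t0, ht0, h⟩ | ⟨i, j, hij, h⟩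
  · exact ⟨i, t0, ht0, h _ (by rw [Pi.mulSingle_eq_same])⟩
  · obtain ⟨t0, ht0⟩ := exists_ne (1 : T)
    refine ⟨i, t0, ht0, h _ ?_⟩
    rw [Pi.mulSingle_eq_same, Pi.mulSingle_eq_of_ne hij.symm, isConj_one_left]
    exact ht0

end Cfsg.Agent.S3556P
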