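import Mathlib
import Cfsg.Agent.Helper5.S3556SINGLE
import Cfsg.Agent.Lead.S3556LEMA

set_option autoImplicit false

namespace Cfsg.Agent.S3556P

/-- A finite non-abelian simple group has an element of prime order `s ≠ p`. -/
theorem M2.exists_prime_ne {T : Type*} [Group T] [Finite T] (hT : IsSimpleGroup T)
    (hnabT : ¬ IsMulCommutative T) (p : ℕ) (hp : p.Prime) :
    ∃ (s : ℕ) (u : T), s.Prime ∧ s ≠ p ∧ orderOf u = s := by
  classical
  have := hT
  have : Fact p.Prime := ⟨hp⟩
  by_contra hcon
  -- then `T` is a `p`-group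
  have hpg : IsPGroup p T := by
    intro g
    -- every prime factor of `orderOf g` is `p`
    have hall : ∀ q : ℕ, q.Prime → q ∣ orderOf g → q = p := by
      intro q hq hqd
      by_contra hqp
      have : Fact q.Prime := ⟨hq⟩
      obtain ⟨u, hu⟩ := exists_prime_orderOf_dvd_card' (G := T) q
        (dvd_trans hqd (orderOf_dvd_natCard g))
      exact hcon ⟨q, u, hq, hqp, hu⟩
    have hpos : orderOf g ≠ 0 := (orderOf_pos g).ne'
    refine ⟨(orderOf g).primeFactorsList.length, ?_⟩
    have h1 : orderOf g = p ^ (orderOf g).primeFactorsList.length := by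
      apply Nat.eq_prime_pow_of_unique_prime_dvd hpos
      intro q hq hqd
      exact hall q hq hqd
    calc g ^ p ^ (orderOf g).primeFactorsList.length = g ^ orderOf g := by rw [← h1]
      _ = 1 := pow_orderOf_eq_one g
  have : Nontrivial T := IsSimpleGroup.toNontrivial
  have hc : Nontrivial (Subgroup.center T) := hpg.center_nontrivial
  have hct : Subgroup.center T = ⊤ := by
    rcases IsSimpleGroup.eq_bot_or_eq_top_of_normal (Subgroup.center T) inferInstance with h | h
    · exfalso
      rw [Subgroup.nontrivial_iff_ne_bot] at hc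
      exact hc h
    · exact h
  apply hnabT
  refine ⟨⟨fun x y => ?_⟩⟩
  have hy : y ∈ Subgroup.center T := by rw [hct]; trivial
  exact Subgroup.mem_center_iff.1 hy x

/-- S3556, the case `m ≥ 2` is impossible: a derangement `single i t0` commutes with
`single j u1`, `j ≠ i`, `u1` of prime order `s ≠ p`. -/
theorem M2 {G Ω : Type*} [Group G] [Finite G] [MulAction G Ω] (p : ℕ) (hp : p.Prime)
    (hder : ∀ g : G, (∀ ω : Ω, g • ω ≠ ω) → ∃ k : ℕ, orderOf g = p ^ k)
    (N : Subgroup G) [hNt : MulAction.IsPretransitive N Ω] (a : Ω)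
    {T : Type} [Group T] (hT : IsSimpleGroup T) (hnabT : ¬ IsMulCommutative T)
    {m : ℕ} (e : N ≃* (Fin m → T)) (hm : 2 ≤ m)
    (hcase : (∃ K : Fin m → Subgroup T, (∀ i, K i ≠ ⊤) ∧
        ∀ n : N, (n : G) ∈ MulAction.stabilizer G a ↔ ∀ i, e n i ∈ K i) ∨
      (∃ (k : ℕ) (c : Fin m → Fin m), 2 ≤ k ∧
        (∀ j : Fin m, Nat.card {i : Fin m // c i = j} = k ∨
          Nat.card {i : Fin m // c i = j} = 0) ∧
        ∀ n : N, (n : G) ∈ MulAction.stabilizer G a ↔
          ∀ i j : Fin m, c i = c j → e n i = e n j)) : False := by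
  have hm0 : 0 < m := by omega
  have : Finite (Fin m → T) := Finite.of_equiv N e.toEquiv
  have : Finite T :=
    Finite.of_surjective (fun f : Fin m → T => f ⟨0, hm0⟩) (fun t => ⟨fun _ => t, rfl⟩)
  have := hT
  have : Nontrivial T := IsSimpleGroup.toNontrivial
  obtain ⟨i, t0, ht0, hd⟩ := SINGLE.exists_der N a e hm0 hcase
  obtain ⟨s, u1, hs, hsp, hu1⟩ := M2.exists_prime_ne hT hnabT p hp
  -- an index `j ≠ i`
  obtain ⟨j, hji⟩ : ∃ j : Fin m, j ≠ i := by
    by_cases h0 : i = ⟨0, hm0⟩
    · refine ⟨⟨1, by omega⟩, ?_⟩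
      rw [h0]; intro h; simp [Fin.ext_iff] at h
    · exact ⟨⟨0, hm0⟩, fun h => h0 h.symm⟩
  set t : N := e.symm (Pi.mulSingle i t0) with htdef
  set u : N := e.symm (Pi.mulSingle j u1) with hudef
  have hcomm : Commute t u := by
    have : Commute (Pi.mulSingle i t0 : Fin m → T) (Pi.mulSingle j u1) :=
      Pi.mulSingle_commute (f := fun _ : Fin m => T) (fun h => hji h.symm) t0 u1
    rw [htdef, hudef]
    exact this.map e.symm
  have hcommG : Commute (t : G) (u : G) := by
    have := hcomm.map N.subtype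
    simpa using this
  have hordu : orderOf (u : G) = s := by
    rw [Subgroup.orderOf_coe, hudef, MulEquiv.orderOf_eq e.symm]
    have hinj : Function.Injective (MonoidHom.mulSingle (fun _ : Fin m => T) j) :=
      Pi.mulSingle_injective (M := fun _ : Fin m => T) j
    have := orderOf_injective (MonoidHom.mulSingle (fun _ : Fin m => T) j) hinj u1
    rw [← hu1, ← this]
    rfl
  exact LEMA p hp hder (t : G) (u : G) hd hcommG s hs hsp hordu

end Cfsg.Agent.S3556P
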