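import Mathlib
import Cfsg.Prelude.Def_Classical
import Cfsg.Agent.Helper5.S3590Defs
import Cfsg.Agent.Helper24.S3590ATRANSP
import Cfsg.Agent.Helper1.S5973STD
import Cfsg.Agent.Helper28.Spin6
import Cfsg.Agent.Helper28.LocBal23

/-! S3590 piece AID (driver helper5): the identity on a plane of either type with a nonzero vector. -/

set_option autoImplicit false

namespace Cfsg.Agent.S3590P

open Module Polynomial Matrix
open Cfsg.Agent.S5973P Cfsg.Agent.S3589P
open scoped Classical

noncomputable section

namespace AID

variable {F : Type*} [Field F] [Fintype F] [CharP F 2]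

/-- the identity with a nonzero vector on any ND plane -/
theorem id_block {V : Type*} [AddCommGroup V] [Module F V] [FiniteDimensional F V]
    (Q : QuadraticForm F V) (hND : ND Q) (hdim : finrank F V = 2 * 1) (hyp : Bool)
    (hhyp : IsHyp Q ↔ hyp = true) : HasABlock F 1 hyp 2 true := by
  have hnt : Nontrivial V := by
    apply Module.nontrivial_of_finrank_pos (R := F)
    rw [hdim]; norm_num
  obtain ⟨v, hv⟩ := exists_ne (0 : V)
  refine hasABlock_of_space Q 1 v 1 hyp 2 true hND hdim hhyp (fun w => rfl) ?_ ?_
  · rw [sub_self, LinearMap.range_zero, finrank_bot]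
    simp
  · intro j
    have h1 : (nsum (1 : Module.End F V) j) v = (j : F) • v := by
      unfold nsum
      simp only [one_pow, Finset.sum_const, Finset.card_range, LinearMap.smul_apply,
        Module.End.one_apply]
      exact (Nat.cast_smul_eq_nsmul F j v).symm
    rw [h1]
    constructor
    · rintro ⟨-, h⟩
      rcases smul_eq_zero.1 h with h | h
      · exact (CharP.cast_eq_zero_iff F 2 j).1 h
      · exact absurd h hv
    · intro h
      refine ⟨one_pow j, ?_⟩
      rw [(CharP.cast_eq_zero_iff F 2 j).2 h, zero_smul]

end AID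

/-- AID -/
theorem hasABlock_id {F : Type*} [Field F] [Fintype F] [CharP F 2] (hyp : Bool) :
    HasABlock F 1 hyp 2 true := by
  cases hyp with
  | true =>
    have hstd := std_plus (F := F) 1
    refine AID.id_block (Cfsg.Agent.Helper28.Spin.QfPlus 1 F) hstd.1 ?_ true ?_
    · rw [Module.finrank_fintype_fun_eq_card]; simp
    · simp [hstd.2]
  | false =>
    obtain ⟨a, b, han⟩ := Cfsg.Agent.Helper28.LB.exists_aniso_binary (K := F)
    have hstd := std_minus (F := F) 0 a b han
    refine AID.id_block (Cfsg.Agent.Helper28.Spin.QfMinus 0 F a b) hstd.1 ?_ false ?_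
    · rw [Module.finrank_fintype_fun_eq_card]; simp
    · simp [hstd.2]

end

end Cfsg.Agent.S3590P
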