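import Mathlib
import Cfsg.Prelude.Def_Classical
import Cfsg.Agent.Helper5.S3590Defs
import Cfsg.Agent.Helper16.S3589REAL
import Cfsg.Agent.Helper28.CD2b

/-! S3590 piece AREAL (driver helper5): an affine minus block of dimension 8 and even Dickson invariant gives an
element of `V ⋊ Ω_8^-(q)` of that order. -/

set_option autoImplicit false

namespace Cfsg.Agent.S3590P

open Module Polynomial Matrix
open Cfsg.Agent.S5973P Cfsg.Agent.S3589P
open scoped Classical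

noncomputable section

namespace AREAL

variable {F V : Type*} [Field F] [AddCommGroup V] [Module F V] {ι : Type} [Fintype ι]
  [DecidableEq ι]

/-- the rank of `x - 1` is the rank of `y - 1` -/
theorem rank_transport (y : Module.End F V) (X : Matrix ι ι F) (e : V ≃ₗ[F] (ι → F))
    (h : ∀ v, e (y v) = Matrix.toLin' X (e v)) :
    (X - 1).rank = finrank F (LinearMap.range (y - 1)) := by
  have hmap : LinearMap.range (X - 1).mulVecLin =
      (LinearMap.range (y - 1)).map (e : V →ₗ[F] (ι → F)) := by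
    ext w
    constructor
    · rintro ⟨u, rfl⟩
      obtain ⟨v, rfl⟩ := e.surjective u
      refine ⟨(y - 1) v, ⟨v, rfl⟩, ?_⟩
      show e ((y - 1) v) = (X - 1).mulVecLin (e v)
      rw [LinearMap.sub_apply, map_sub, h, Matrix.mulVecLin_apply, Matrix.sub_mulVec,
        Matrix.one_mulVec, Matrix.toLin'_apply]
      rfl
    · rintro ⟨u, ⟨v, rfl⟩, rfl⟩
      refine ⟨e v, ?_⟩
      show (X - 1).mulVecLin (e v) = e ((y - 1) v)
      rw [LinearMap.sub_apply, map_sub, h, Matrix.mulVecLin_apply, Matrix.sub_mulVec,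
        Matrix.one_mulVec, Matrix.toLin'_apply]
      rfl
  rw [Matrix.rank, hmap, LinearEquiv.finrank_map_eq]

/-- the norm sums correspond -/
theorem nsum_transport (y : Module.End F V) (x : GL ι F) (e : V ≃ₗ[F] (ι → F))
    (h : ∀ v, e (y v) = Matrix.toLin' (x : Matrix ι ι F) (e v)) (j : ℕ) (v : V) :
    nsum (x : Matrix ι ι F) j *ᵥ e v = e (nsum y j v) := by
  unfold nsum
  rw [Matrix.sum_mulVec, LinearMap.sum_apply, map_sum]
  apply Finset.sum_congr rfl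
  intro i _
  rw [REAL.pow_transport y x e h i v, Matrix.toLin'_apply, Units.val_pow_eq_pow_val]

end AREAL

/-- AREAL -/
theorem exists_aff_of_hasABlock {F : Type*} [Field F] [Fintype F] [CharP F 2] (a b : F)
    (han : ∀ z₁ z₂ : F, z₁ ^ 2 + a * z₁ * z₂ + b * z₂ ^ 2 = 0 → z₁ = 0 ∧ z₂ = 0) (M : ℕ)
    (H : HasABlock F 4 false M true) :
    ∃ (g : ↥(Cfsg.Omega F (Cfsg.quadFormMinus 3 F a b))) (v : (Fin 3 ⊕ Fin 3) ⊕ Fin 2 → F),
      ∀ j : ℕ, (g ^ j = 1 ∧ nsum (rhoO F (Cfsg.quadFormMinus 3 F a b) g) j *ᵥ v = 0) ↔ M ∣ j := by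
  obtain ⟨Q, y, v, hND, hhyp, hiso, hev, hord⟩ := H
  have hstd := std_minus (F := F) 3 a b han
  have h2 : (2 : F) = 0 := CharTwo.two_eq_zero
  have hYO : IsYO Q y M := ⟨hND, hiso, ((hord M).2 dvd_rfl).1⟩
  have hdim : finrank F (Fin (2 * 4) → F) = Fintype.card ((Fin 3 ⊕ Fin 3) ⊕ Fin 2) := by
    rw [Module.finrank_fintype_fun_eq_card]
    simp
  have hevc : Even (Fintype.card ((Fin 3 ⊕ Fin 3) ⊕ Fin 2)) := by
    simp only [Fintype.card_sum, Fintype.card_fin]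
    decide
  have htype : IsHyp Q ↔ IsHyp (Cfsg.Agent.Helper28.Spin.QfMinus 3 F a b) := by
    constructor
    · intro h
      have := hhyp.1 h
      exact absurd this (by simp)
    · intro h
      exact absurd h hstd.2
  obtain ⟨x, e, hx, _, hxe, _⟩ := exists_matrix_of_isYO Q y M hYO
    (Cfsg.Agent.Helper28.Spin.QfMinus 3 F a b) hstd.1 hdim hevc htype
  have hx' : x ∈ Cfsg.isometryGroup F (Cfsg.quadFormMinus 3 F a b) := hx
  -- membership in `Ω`
  have hrank : Even ((x : Matrix ((Fin 3 ⊕ Fin 3) ⊕ Fin 2) ((Fin 3 ⊕ Fin 3) ⊕ Fin 2) F) - 1).rank := by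
    rw [AREAL.rank_transport y _ e hxe]
    exact hev.2 rfl
  have hcard : Fintype.card F ≠ 2 ∨ Fintype.card ((Fin 3 ⊕ Fin 3) ⊕ Fin 2) ≠ 4 := by
    right
    simp only [Fintype.card_sum, Fintype.card_fin]
    decide
  have hΩ : (⟨x, hx'⟩ : ↥(Cfsg.isometryGroup F (Cfsg.quadFormMinus 3 F a b))) ∈
      Cfsg.Omega F (Cfsg.quadFormMinus 3 F a b) :=
    (Cfsg.Agent.Helper28.CD2.mem_Omega_iff_even_rank (Cfsg.Agent.Helper28.Spin.QfMinus 3 F a b) h2
      hstd.1 hcard ⟨x, hx⟩).2 hrank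
  refine ⟨⟨⟨x, hx'⟩, hΩ⟩, e v, ?_⟩
  intro j
  rw [← hord j]
  have h1 : ((⟨⟨x, hx'⟩, hΩ⟩ : ↥(Cfsg.Omega F (Cfsg.quadFormMinus 3 F a b))) ^ j = 1) ↔ x ^ j = 1 := by
    rw [Subtype.ext_iff, Subtype.ext_iff]
    rfl
  have h3 : rhoO F (Cfsg.quadFormMinus 3 F a b) ⟨⟨x, hx'⟩, hΩ⟩ =
      (x : Matrix ((Fin 3 ⊕ Fin 3) ⊕ Fin 2) ((Fin 3 ⊕ Fin 3) ⊕ Fin 2) F) := rfl
  rw [h1, h3, REAL.pow_eq_one_iff y x e hxe j, AREAL.nsum_transport y x e hxe j v,
    LinearEquiv.map_eq_zero_iff]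

end

end Cfsg.Agent.S3590P
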