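import Mathlib
import Cfsg.Prelude.Def_Classical
import Cfsg.Agent.Helper5.S3590Defs
import Cfsg.Agent.Helper1.S5973STD
import Cfsg.Agent.Helper28.CD2b
import Cfsg.Agent.Helper28.RankMinpoly

/-! S3590 piece CYCOM (driver helper5): an element of `Ω_8^-(q)`, `q` even, with eigenvalue 1 is not cyclic. -/

set_option autoImplicit false

namespace Cfsg.Agent.S3590P

open Module Polynomial Matrix
open Cfsg.Agent.S5973P Cfsg.Agent.S3589P
open scoped Classical

noncomputable section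

/-- CYCOM -/
theorem not_cyclic_of_mem_Omega {F : Type*} [Field F] [Fintype F] [CharP F 2] (a b : F)
    (han : ∀ z₁ z₂ : F, z₁ ^ 2 + a * z₁ * z₂ + b * z₂ ^ 2 = 0 → z₁ = 0 ∧ z₂ = 0)
    (g : ↥(Cfsg.Omega F (Cfsg.quadFormMinus 3 F a b)))
    (hdeg : (minpoly F (rhoO F (Cfsg.quadFormMinus 3 F a b) g)).natDegree = 8)
    (h1 : (X - 1 : F[X]) ∣ minpoly F (rhoO F (Cfsg.quadFormMinus 3 F a b) g)) : False := by
  have hstd := std_minus (F := F) 3 a b han
  have h2 : (2 : F) = 0 := CharTwo.two_eq_zero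
  have hc8 : Fintype.card ((Fin 3 ⊕ Fin 3) ⊕ Fin 2) = 8 := by
    simp only [Fintype.card_sum, Fintype.card_fin]
  have hcard : Fintype.card F ≠ 2 ∨ Fintype.card ((Fin 3 ⊕ Fin 3) ⊕ Fin 2) ≠ 4 := by
    right
    rw [hc8]
    decide
  have hev := (Cfsg.Agent.Helper28.CD2.mem_Omega_iff_even_rank
    (Cfsg.Agent.Helper28.Spin.QfMinus 3 F a b) h2 hstd.1 hcard
    (g : ↥(Cfsg.isometryGroup F (Cfsg.quadFormMinus 3 F a b)))).1 g.2
  have hr := Cfsg.Agent.Helper28.RankMinpoly.rank_eq_of_natDegree_eq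
    (rhoO F (Cfsg.quadFormMinus 3 F a b) g) h1 (by rw [hdeg, hc8])
  rw [hc8] at hr
  have h7 : (rhoO F (Cfsg.quadFormMinus 3 F a b) g - 1).rank = 7 := by omega
  rw [rhoO_apply] at h7
  rw [h7] at hev
  revert hev
  decide

end

end Cfsg.Agent.S3590P
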