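import Mathlib
import Cfsg.Prelude.Def_Classical
import Cfsg.Agent.Helper5.S3590Defs
import Cfsg.Agent.Helper28.Spin5
import Cfsg.Agent.Helper21.S2264MINREV

/-! S3590 piece GOOD (driver helper5): the minimal polynomial of an isometry is self-reciprocal. -/

set_option autoImplicit false

namespace Cfsg.Agent.S3590P

open Module Polynomial Matrix
open Cfsg.Agent.S5973P Cfsg.Agent.S2264P Cfsg.Agent.S3589P
open scoped Classical

noncomputable section

namespace GOOD

variable {F : Type*} [Field F] {ι : Type} [Fintype ι] [DecidableEq ι]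

theorem matrix_ext_bil {A B : Matrix ι ι F} (h : ∀ u v : ι → F, u ⬝ᵥ A *ᵥ v = u ⬝ᵥ B *ᵥ v) :
    A = B := by
  ext i j
  have := h (Pi.single i 1) (Pi.single j 1)
  simpa using this

theorem det_gram0_ne_zero (Q : QuadraticForm F (ι → F))
    (hQ : (QuadraticMap.polarBilin Q).Nondegenerate) :
    (Cfsg.Agent.Helper28.Spin.gram0 Q).det ≠ 0 := by
  rw [← Matrix.nondegenerate_iff_det_ne_zero, Matrix.nondegenerate_def]
  constructor
  · intro v hv
    apply hQ.1
    intro w
    rw [QuadraticMap.polarBilin_apply_apply, Cfsg.Agent.Helper28.Spin.polar_eq_gram0]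
    exact hv w
  · intro w hw
    apply hQ.2
    intro v
    rw [QuadraticMap.polarBilin_apply_apply, Cfsg.Agent.Helper28.Spin.polar_eq_gram0]
    exact hw v

end GOOD

theorem good_minpoly_isom {F : Type*} [Field F] {ι : Type} [Fintype ι] [DecidableEq ι]
    (Q : QuadraticForm F (ι → F)) (hQ : (QuadraticMap.polarBilin Q).Nondegenerate)
    (g : ↥(Cfsg.isometryGroup F ⇑Q)) :
    Good (minpoly F ((g : Matrix.GeneralLinearGroup ι F) : Matrix ι ι F)) := by
  set A : Matrix ι ι F := ((g : Matrix.GeneralLinearGroup ι F) : Matrix ι ι F) with hA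
  apply good_minpoly A (Cfsg.Agent.Helper28.Spin.gram0 Q)
    (isUnit_iff_ne_zero.2 (GOOD.det_gram0_ne_zero Q hQ))
  apply GOOD.matrix_ext_bil
  intro u v
  have h1 := Cfsg.Agent.Helper28.Spin.polar_isom Q
    (fun x => Cfsg.Agent.Helper28.Spin.isom_apply Q g x) u v
  rw [Cfsg.Agent.Helper28.Spin.polar_eq_gram0, Cfsg.Agent.Helper28.Spin.polar_eq_gram0] at h1
  rw [← h1, ← Matrix.mulVec_mulVec, ← Matrix.mulVec_mulVec, Matrix.dotProduct_mulVec,
    Matrix.vecMul_transpose]

end

end Cfsg.Agent.S3590P
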