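import Mathlib
import Cfsg.Prelude.Def_Classical
import Cfsg.Agent.Helper5.S3590Defs
import Cfsg.Agent.Helper28.S3589ASM
import Cfsg.Agent.Helper28.CD2b
import Cfsg.Agent.Helper28.LocBal23
import Cfsg.Agent.Helper23.S3590SEMIPOW
import Cfsg.Agent.Helper19.S3590CARD
import Cfsg.Agent.Helper5.S3590CYCOM
import Cfsg.Agent.Helper5.S3590AREAL
import Cfsg.Agent.Helper20.S3590AODD
import Cfsg.Agent.Helper5.S3590GOOD
import Cfsg.Agent.Helper5.S3590SPEC
import Cfsg.Agent.Helper17.S3590APROD
import Cfsg.Agent.Helper5.S3590AID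
import Cfsg.Agent.Lead.S3590AU2
import Cfsg.Agent.Lead.S3590AU4
import Cfsg.Agent.Helper28.S3589GOODDVD

/-! S3590 assembly (helper5). -/

set_option autoImplicit false

namespace Cfsg.Agent.S3590P

open Module Polynomial Matrix
open Cfsg.Agent.S5973P Cfsg.Agent.S2264P Cfsg.Agent.S3589P
open scoped Classical

namespace ASM

section blocks

variable {F : Type*} [Field F] [Fintype F] [CharP F 2]

theorem even_card : Even (Fintype.card F) := by
  rw [Nat.even_iff]
  exact FiniteField.even_card_iff_char_two.mp (ringChar.eq F 2)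

theorem odd_pow_sub (d : ℕ) (hd : 1 ≤ d) : Odd (Fintype.card F ^ d - 1) := by
  have hev : Even (Fintype.card F ^ d) := (even_card (F := F)).pow_of_ne_zero (by omega)
  have hpos : 1 ≤ Fintype.card F ^ d := Nat.one_le_pow _ _ Fintype.card_pos
  exact Nat.Even.sub_odd hpos hev odd_one

theorem odd_pow_add (d : ℕ) (hd : 1 ≤ d) : Odd (Fintype.card F ^ d + 1) := by
  have hev : Even (Fintype.card F ^ d) := (even_card (F := F)).pow_of_ne_zero (by omega)
  exact hev.add_one

theorem odd_lcm {m n : ℕ} (hm : Odd m) (hn : Odd n) : Odd (Nat.lcm m n) := by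
  rw [← Nat.not_even_iff_odd] at *
  intro h
  have h2 : (2 : ℕ) ∣ Nat.lcm m n := even_iff_two_dvd.mp h
  have hdvd : Nat.lcm m n ∣ m * n := Nat.lcm_dvd_mul m n
  have := (Nat.Prime.dvd_mul Nat.prime_two).mp (h2.trans hdvd)
  rcases this with h | h
  · exact hm (even_iff_two_dvd.mpr h)
  · exact hn (even_iff_two_dvd.mpr h)

/-- BLOCKS: each of the twelve orders is realised by an affine minus-type block of dimension 8 with even
Dickson invariant -/
theorem hasABlock_of_mem_ords (M : ℕ) (hM : M ∈ ords (Fintype.card F)) :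
    HasABlock F 4 false M true := by
  have tp1 : HasBlock F 1 true (Fintype.card F - 1) := by
    simpa using hasBlock_torus_plus (F := F) 1 le_rfl
  have tm1 : HasBlock F 1 false (Fintype.card F + 1) := by
    simpa using hasBlock_torus_minus (F := F) 1 le_rfl
  have tp2 := hasBlock_torus_plus (F := F) 2 (by norm_num)
  have tm2 := hasBlock_torus_minus (F := F) 2 (by norm_num)
  have tp3 := hasBlock_torus_plus (F := F) 3 (by norm_num)
  have tm3 := hasBlock_torus_minus (F := F) 3 (by norm_num)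
  have tm4 := hasBlock_torus_minus (F := F) 4 (by norm_num)
  have op1 : Odd (Fintype.card F - 1) := by simpa using odd_pow_sub (F := F) 1 le_rfl
  have om1 : Odd (Fintype.card F + 1) := by simpa using odd_pow_add (F := F) 1 le_rfl
  have op2 := odd_pow_sub (F := F) 2 (by norm_num)
  have om2 := odd_pow_add (F := F) 2 (by norm_num)
  have op3 := odd_pow_sub (F := F) 3 (by norm_num)
  have om3 := odd_pow_add (F := F) 3 (by norm_num)
  have om4 := odd_pow_add (F := F) 4 (by norm_num)
  have idp := hasABlock_id (F := F) true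
  have idm := hasABlock_id (F := F) false
  obtain ⟨u2p, u2m, u2v⟩ := hasABlock_u2 (F := F)
  have u4 := hasABlock_u4 (F := F)
  have u22 : HasABlock F 2 true 4 true := by
    have := u2v.prod u2v
    simpa using this
  simp only [ords, List.mem_cons, List.not_mem_nil, or_false] at hM
  rcases hM with rfl | rfl | rfl | rfl | rfl | rfl | rfl | rfl | rfl | rfl | rfl | rfl
  · exact hasABlock_of_odd tm4 om4
  · exact hasABlock_of_odd (tp2.prod tm2) (odd_lcm op2 om2)
  · exact hasABlock_of_odd (tp3.prod tm1) (odd_lcm op3 om1)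
  · exact hasABlock_of_odd (tm3.prod tp1) (odd_lcm om3 op1)
  · exact (hasABlock_of_odd (tm2.prod tp1) (odd_lcm om2 op1)).prod idp
  · exact (hasABlock_of_odd (tm2.prod tm1) (odd_lcm om2 om1)).prod idm
  · exact (hasABlock_of_odd tp3 op3).prod idm
  · exact (hasABlock_of_odd tm3 om3).prod idp
  · exact (hasABlock_of_odd (tp1.prod tm1) (odd_lcm op1 om1)).prod u22
  · exact (hasABlock_of_odd tm2 om2).prod u22
  · have h := (hasABlock_of_odd tp1 op1).prod (u4.prod u2m)
    have h82 : Nat.lcm 8 2 = 8 := by decide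
    rw [h82] at h
    simpa using h
  · have h := (hasABlock_of_odd tm1 om1).prod (u4.prod u2p)
    have h82 : Nat.lcm 8 2 = 8 := by decide
    rw [h82] at h
    simpa using h

end blocks

section upper

variable {F : Type*} [Field F] [Fintype F] [CharP F 2]

theorem ords_pos {q : ℕ} (hq : 2 ≤ q) (M : ℕ) (hM : M ∈ ords q) : 0 < M := by
  have h1 : 0 < q - 1 := by omega
  have h2 : 0 < q ^ 2 - 1 := by
    have : 2 ^ 2 ≤ q ^ 2 := Nat.pow_le_pow_left hq 2
    omega
  have h3 : 0 < q ^ 3 - 1 := by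
    have : 2 ^ 3 ≤ q ^ 3 := Nat.pow_le_pow_left hq 3
    omega
  simp only [ords, List.mem_cons, List.not_mem_nil, or_false] at hM
  rcases hM with rfl | rfl | rfl | rfl | rfl | rfl | rfl | rfl | rfl | rfl | rfl | rfl <;>
    first
      | positivity
      | (repeat' apply Nat.lcm_pos) <;> first | assumption | positivity

theorem rhoO_injective {ι : Type} [Fintype ι] [DecidableEq ι] (Q : (ι → F) → F) :
    Function.Injective (rhoO F Q) := by
  intro g h hgh
  apply Subtype.ext
  apply Subtype.ext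
  apply Units.ext
  exact hgh

theorem aeval_nsum {ι : Type} [Fintype ι] [DecidableEq ι] (A : Matrix ι ι F) (M : ℕ) :
    aeval A (∑ i ∈ Finset.range M, (X : F[X]) ^ i) = nsum A M := by
  simp [nsum, map_sum]

/-- UPPER: every element of `V^k ⋊ Ω_8^-(q)` is killed by one of the twelve numbers (route of helper28: `(X - 1) μ` is
again self-reciprocal) -/
theorem upper (a b : F)
    (han : ∀ z₁ z₂ : F, z₁ ^ 2 + a * z₁ * z₂ + b * z₂ ^ 2 = 0 → z₁ = 0 ∧ z₂ = 0)
    (g : ↥(Cfsg.Omega F (Cfsg.quadFormMinus 3 F a b))) :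
    ∃ M ∈ ords (Fintype.card F), g ^ M = 1 ∧ nsum (rhoO F (Cfsg.quadFormMinus 3 F a b) g) M = 0 := by
  set A := rhoO F (Cfsg.quadFormMinus 3 F a b) g with hA
  set μ := minpoly F A with hμdef
  have hstd := std_minus (F := F) 3 a b han
  have hμ : Good μ :=
    good_minpoly_isom (Cfsg.Agent.Helper28.Spin.QfMinus 3 F a b) hstd.1
      (g : ↥(Cfsg.isometryGroup F (Cfsg.quadFormMinus 3 F a b)))
  have hint : IsIntegral F A := Matrix.isIntegral A
  have hd1 : 1 ≤ μ.natDegree := minpoly.natDegree_pos hint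
  have hdeg : μ.natDegree ≤ 8 := by
    have hdvd : μ ∣ A.charpoly := Matrix.minpoly_dvd_charpoly A
    have hne : A.charpoly ≠ 0 := (Matrix.charpoly_monic A).ne_zero
    have := Polynomial.natDegree_le_of_dvd hdvd hne
    rw [Matrix.charpoly_natDegree_eq_dim] at this
    simpa using this
  have hX1 : (X - 1 : F[X]) ≠ 0 := by
    have := X_sub_C_ne_zero (1 : F)
    simpa using this
  have hgeom : ∀ M : ℕ, (X - 1 : F[X]) * ∑ i ∈ Finset.range M, X ^ i = X ^ M - 1 :=
    fun M => mul_geom_sum X M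
  -- the polynomial statement
  have hkey : ∃ M ∈ ords (Fintype.card F), μ ∣ X ^ M - 1 ∧ μ ∣ ∑ i ∈ Finset.range M, X ^ i := by
    by_cases h1 : (X - 1 : F[X]) ∣ μ
    · have hne8 : μ.natDegree ≠ 8 := fun h8 => not_cyclic_of_mem_Omega a b han g h8 h1
      have hμ' : Good ((X - 1) * μ) := good_X_sub_one_mul hμ
      have hdeg' : ((X - 1) * μ).natDegree = μ.natDegree + 1 := by
        rw [natDegree_mul hX1 hμ.monic.ne_zero]
        have : (X - 1 : F[X]).natDegree = 1 := by
          have := natDegree_X_sub_C (1 : F)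
          simpa using this
        rw [this]; ring
      obtain ⟨M, hM, hdvd⟩ := good_dvd hμ' (by omega) (by omega)
      refine ⟨M, hM, dvd_trans (dvd_mul_left _ _) hdvd, ?_⟩
      rw [← hgeom M] at hdvd
      exact (mul_dvd_mul_iff_left hX1).1 hdvd
    · obtain ⟨M, hM, hdvd⟩ := good_dvd hμ hd1 hdeg
      refine ⟨M, hM, hdvd, ?_⟩
      have hirr : Irreducible (X - 1 : F[X]) := by
        have := irreducible_X_sub_C (1 : F)
        simpa using this
      have hcop : IsCoprime μ (X - 1 : F[X]) := (hirr.coprime_iff_not_dvd.2 h1).symm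
      rw [← hgeom M] at hdvd
      exact hcop.dvd_of_dvd_mul_left hdvd
  obtain ⟨M, hM, hdvd, hnu⟩ := hkey
  refine ⟨M, hM, ?_, ?_⟩
  · apply rhoO_injective
    rw [map_pow, map_one]
    obtain ⟨r, hr⟩ := hdvd
    have := congrArg (aeval A) hr
    rw [map_mul, minpoly.aeval, zero_mul, map_sub, map_pow, aeval_X, map_one, sub_eq_zero] at this
    exact this
  · obtain ⟨r, hr⟩ := hnu
    have := congrArg (aeval A) hr
    rw [map_mul, minpoly.aeval, zero_mul, aeval_nsum] at this
    exact this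

end upper

section spech

variable {F : Type*} [Field F] [Fintype F] [CharP F 2]

/-- SPECH: the spectrum of `V^k ⋊ Ω_8^-(q)` -/
theorem spec_aff (a b : F)
    (han : ∀ z₁ z₂ : F, z₁ ^ 2 + a * z₁ * z₂ + b * z₂ ^ 2 = 0 → z₁ = 0 ∧ z₂ = 0) (κ : Type*)
    [Nonempty κ] [Finite (Aff (rhoO F (Cfsg.quadFormMinus 3 F a b)) κ)] :
    Set.range (orderOf : Aff (rhoO F (Cfsg.quadFormMinus 3 F a b)) κ → ℕ) =
      spec (Fintype.card F) := by
  apply Set.eq_of_subset_of_subset
  · rintro n ⟨h, rfl⟩
    obtain ⟨C, g⟩ := h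
    obtain ⟨M, hM, hg, hn⟩ := upper a b han g
    refine ⟨orderOf_pos _, M, hM, ?_⟩
    apply orderOf_dvd_of_pow_eq_one
    have := (aff_pow_eq_one_iff (rhoO F (Cfsg.quadFormMinus 3 F a b)) κ g
      (Multiplicative.toAdd C) M).2 ⟨hg, fun l => by rw [hn, Matrix.zero_mulVec]⟩
    exact this
  · rintro n ⟨hn0, M, hM, hnM⟩
    obtain ⟨g, v, hgv⟩ := exists_aff_of_hasABlock a b han M (hasABlock_of_mem_ords M hM)
    have hq : 2 ≤ Fintype.card F := Fintype.one_lt_card
    have hM0 : 0 < M := ords_pos hq M hM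
    set x : Aff (rhoO F (Cfsg.quadFormMinus 3 F a b)) κ :=
      ⟨Multiplicative.ofAdd fun _ => v, g⟩ with hx
    have hxpow : ∀ j : ℕ, x ^ j = 1 ↔ M ∣ j := by
      intro j
      rw [hx, aff_pow_eq_one_iff, ← hgv j]
      constructor
      · rintro ⟨h1, h2⟩
        exact ⟨h1, h2 (Classical.arbitrary κ)⟩
      · rintro ⟨h1, h2⟩
        exact ⟨h1, fun _ => h2⟩
    have hxo : orderOf x = M :=
      Nat.dvd_antisymm (orderOf_dvd_of_pow_eq_one ((hxpow M).2 dvd_rfl))
        ((hxpow _).1 (pow_orderOf_eq_one x))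
    obtain ⟨k, hk⟩ := hnM
    have hk0 : k ≠ 0 := by
      rintro rfl
      rw [mul_zero] at hk; omega
    refine ⟨x ^ k, ?_⟩
    have : orderOf (x ^ k) = orderOf x / k := by
      apply orderOf_pow_of_dvd hk0
      rw [hxo, hk]; exact dvd_mul_left k _
    rw [this, hxo, hk, Nat.mul_div_cancel _ (Nat.pos_of_ne_zero hk0)]

end spech

end ASM

end Cfsg.Agent.S3590P
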