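import Mathlib

set_option autoImplicit false
set_option linter.unusedSectionVars false
set_option linter.unusedVariables false

namespace Cfsg.Agent.S3641P

open Subgroup MulAction

/-- product formula: for `K` normal, `|H ⊔ K| * |H ⊓ K| = |H| * |K|`. -/
theorem NO519.aux_card_sup {G : Type*} [Group G] [Finite G] (H K : Subgroup G) [K.Normal] :
    Nat.card (H ⊔ K : Subgroup G) * Nat.card (H ⊓ K : Subgroup G) = Nat.card H * Nat.card K := by
  have h1 : K.relIndex (H ⊔ K) = K.relIndex H := relIndex_sup_right H K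
  have h2 : Nat.card K * K.relIndex (H ⊔ K) = Nat.card (H ⊔ K : Subgroup G) := by
    rw [← relIndex_bot_left, ← relIndex_bot_left]
    exact relIndex_mul_relIndex ⊥ K (H ⊔ K) bot_le le_sup_right
  have h3 : Nat.card (H ⊓ K : Subgroup G) * K.relIndex H = Nat.card H := by
    rw [← inf_relIndex_left, ← relIndex_bot_left, ← relIndex_bot_left]
    exact relIndex_mul_relIndex ⊥ (H ⊓ K) H bot_le inf_le_left
  rw [← h2, ← h3, h1]; ring

/-- `K ⊓ P` is normal in `G` when `K` is normal and normalises every Sylow `p`-subgroup. -/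
theorem NO519.aux_normal {G : Type*} [Group G] [Finite G] (p : ℕ) [Fact p.Prime]
    (K : Subgroup G) [K.Normal]
    (hK : ∀ P : Sylow p G, K ≤ Subgroup.normalizer ((P : Subgroup G) : Set G))
    (P : Sylow p G) : (K ⊓ (P : Subgroup G)).Normal := by
  refine ⟨fun x hx g => ?_⟩
  have hxK : g * x * g⁻¹ ∈ K := ‹K.Normal›.conj_mem x hx.1 g
  refine ⟨hxK, ?_⟩
  -- `g x g⁻¹ ∈ K ⊓ (g • P)`, a `p`-subgroup normalising `P`
  have hmem : g * x * g⁻¹ ∈ ((g • P : Sylow p G) : Subgroup G) := by
    rw [Sylow.coe_subgroup_smul, Subgroup.mem_pointwise_smul_iff_inv_smul_mem]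
    simp only [MulAut.smul_def, MulAut.conj_inv_apply]
    have : g⁻¹ * (g * x * g⁻¹) * g = x := by group
    rw [this]; exact hx.2
  have hpg : IsPGroup p (K ⊓ ((g • P : Sylow p G) : Subgroup G) : Subgroup G) :=
    (g • P : Sylow p G).2.to_le inf_le_right
  have h1 := hpg.inf_normalizer_sylow P
  have h2 : (K ⊓ ((g • P : Sylow p G) : Subgroup G) : Subgroup G)
      = K ⊓ ((g • P : Sylow p G) : Subgroup G) ⊓ (P : Subgroup G) := by
    rw [← h1]
    exact (inf_eq_left.2 (inf_le_left.trans (hK P))).symm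
  have h3 : g * x * g⁻¹ ∈ (K ⊓ ((g • P : Sylow p G) : Subgroup G) : Subgroup G) := ⟨hxK, hmem⟩
  rw [h2] at h3
  exact h3.2

/-- A normal `17`-subgroup normalises every Sylow `r`-subgroup (`r = 5, 19`) when `n_r ≤ 153`. -/
theorem NO519.aux_le_normalizer {G : Type*} [Group G] [Finite G] (P0 : Subgroup G) [P0.Normal]
    (hP0 : IsPGroup 17 P0) (r : ℕ) [Fact r.Prime] (hr : r = 5 ∨ r = 19)
    (hn : Nat.card (Sylow r G) ≤ 153) (R : Sylow r G) :
    P0 ≤ normalizer ((R : Subgroup G) : Set G) := by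
  classical
  have : Fact (Nat.Prime 17) := ⟨by norm_num⟩
  have hrp : r.Prime := Fact.out
  set L : Subgroup G := P0 ⊔ (R : Subgroup G) with hL
  have hRL : (R : Subgroup G) ≤ L := le_sup_right
  set R' : Subgroup ↥L := (R : Subgroup G).subgroupOf L with hR'
  have hR'p : IsPGroup r R' := R.2.comap_subtype
  -- the orbit of `R` under `L`
  have hfix : fixedPoints R' (orbit ↥L R) = {⟨R, mem_orbit_self R⟩} := by
    ext S
    constructor
    · intro hS
      have h1 : S.1 ∈ fixedPoints (R : Subgroup G) (Sylow r G) := by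
        intro x
        have hx : (⟨⟨x.1, hRL x.2⟩, by rw [hR', mem_subgroupOf]; exact x.2⟩ : R') • S = S := hS _
        have := congrArg Subtype.val hx
        exact this
      have h2 : (R : Subgroup G) ≤ S.1 := R.2.sylow_mem_fixedPoints_iff.1 h1
      have h3 : ((S.1 : Sylow r G) : Subgroup G) = R := R.3 S.1.2 h2
      rw [Set.mem_singleton_iff]
      exact Subtype.ext (Sylow.ext h3)
    · intro hS
      rw [Set.mem_singleton_iff] at hS
      subst hS
      intro x
      apply Subtype.ext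
      have hx : (x.1 : G) ∈ (R : Subgroup G) := by
        have h0 : (x.1 : ↥L) ∈ (R : Subgroup G).subgroupOf L := x.2
        exact mem_subgroupOf.1 h0
      show (x.1 : G) • R = R
      rw [Sylow.smul_eq_iff_mem_normalizer]
      exact le_normalizer hx
  have hmod : Nat.card (orbit ↥L R) ≡ 1 [MOD r] := by
    have h := hR'p.card_modEq_card_fixedPoints (orbit ↥L R)
    rw [hfix] at h
    simpa using h
  -- the orbit has `17`-power size
  have hstab : R' ≤ stabilizer ↥L R := by
    intro x hx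
    rw [hR', mem_subgroupOf] at hx
    rw [mem_stabilizer_iff]
    show (x : G) • R = R
    rw [Sylow.smul_eq_iff_mem_normalizer]
    exact le_normalizer hx
  have hcardorb : Nat.card (orbit ↥L R) = (stabilizer ↥L R).index := by
    rw [index_stabilizer, Nat.card_coe_set_eq]
  have hdvd1 : (stabilizer ↥L R).index ∣ R'.index := index_dvd_of_le hstab
  have hinf : (R : Subgroup G) ⊓ P0 = ⊥ := by
    apply Disjoint.eq_bot
    apply Subgroup.disjoint_of_coprime_natCard
    obtain ⟨a, ha⟩ := R.2.exists_card_eq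
    obtain ⟨b, hb⟩ := hP0.exists_card_eq
    rw [ha, hb]
    apply Nat.Coprime.pow
    rw [Nat.coprime_primes hrp (by norm_num)]
    rcases hr with rfl | rfl <;> norm_num
  have hprod := NO519.aux_card_sup (R : Subgroup G) P0
  rw [hinf, Subgroup.card_bot, mul_one, sup_comm] at hprod
  have hRidx : R'.index * Nat.card (R : Subgroup G) = Nat.card L := by
    have := relIndex_mul_relIndex ⊥ (R : Subgroup G) L bot_le hRL
    rw [relIndex_bot_left, relIndex_bot_left] at this
    rw [mul_comm]; exact this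
  have hR'idx : R'.index = Nat.card P0 := by
    have hpos : 0 < Nat.card (R : Subgroup G) := Nat.card_pos
    have : R'.index * Nat.card (R : Subgroup G) = Nat.card P0 * Nat.card (R : Subgroup G) := by
      rw [hRidx, ← hL] at *
      rw [hprod]; ring
    exact Nat.eq_of_mul_eq_mul_right hpos this
  obtain ⟨b, hb⟩ := hP0.exists_card_eq
  have hpow : ∃ j, Nat.card (orbit ↥L R) = 17 ^ j := by
    have : Nat.card (orbit ↥L R) ∣ 17 ^ b := by
      rw [hcardorb, ← hb, ← hR'idx]; exact hdvd1
    obtain ⟨j, _, hj⟩ := (Nat.dvd_prime_pow (by norm_num)).1 this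
    exact ⟨j, hj⟩
  have hle : Nat.card (orbit ↥L R) ≤ 153 :=
    le_trans (Nat.card_le_card_of_injective Subtype.val Subtype.val_injective) hn
  have hone : Nat.card (orbit ↥L R) = 1 := by
    obtain ⟨j, hj⟩ := hpow
    rw [hj] at hle hmod ⊢
    have hj1 : j ≤ 1 := by
      by_contra hcon
      rw [not_le] at hcon
      have : 17 ^ 2 ≤ 17 ^ j := Nat.pow_le_pow_right (by norm_num) hcon
      omega
    interval_cases j
    · rfl
    · exfalso
      rcases hr with rfl | rfl
      · exact absurd hmod (by decide)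
      · exact absurd hmod (by decide)
  -- conclusion
  intro x hx
  have hxL : x ∈ L := le_sup_left (a := P0) hx
  have hsub : Subsingleton (orbit ↥L R) := (Nat.card_eq_one_iff_unique.1 hone).1
  have h1 : (⟨(⟨x, hxL⟩ : ↥L) • R, mem_orbit _ _⟩ : orbit ↥L R) = ⟨R, mem_orbit_self R⟩ :=
    Subsingleton.elim _ _
  have h2 : (⟨x, hxL⟩ : ↥L) • R = R := congrArg Subtype.val h1
  have h3 : x • R = R := h2
  exact Sylow.smul_eq_iff_mem_normalizer.1 h3

/-- NO519: a prime `r ∈ {5, 19}` cannot divide `|G|`: a Sylow `r`-subgroup lies in `K`, `K` has a normal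
Sylow 17-subgroup, so the 17-part of `n_r(G) = [K : N_K(R)]` is `≡ 1 (mod r)`; but it is 17. -/
theorem NO519 {G : Type*} [Group G] [Finite G] (K : Subgroup G) [K.Normal]
    (hK17 : ∀ P : Sylow 17 G, K ≤ Subgroup.normalizer ((P : Subgroup G) : Set G))
    (r : ℕ) [Fact r.Prime] (hr : r = 5 ∨ r = 19) (hrK : ¬ r ∣ K.index)
    (hn : Nat.card (Sylow r G) = 136 ∨ Nat.card (Sylow r G) = 153) : False := by
  classical
  have : Fact (Nat.Prime 17) := ⟨by norm_num⟩
  have hrp : r.Prime := Fact.out
  obtain ⟨R⟩ : Nonempty (Sylow r G) := inferInstance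
  obtain ⟨P⟩ : Nonempty (Sylow 17 G) := inferInstance
  -- `R ≤ K`
  have hRK : (R : Subgroup G) ≤ K := by
    rw [← relIndex_eq_one]
    obtain ⟨k, hk⟩ := R.2.exists_card_eq
    have hcop : (K.index).Coprime (Nat.card (R : Subgroup G)) := by
      rw [hk]; exact hrp.coprime_pow_of_not_dvd hrK
    exact Nat.eq_one_of_dvd_coprimes hcop (K.relIndex_dvd_index_of_normal R)
      (relIndex_dvd_card K R)
  set N : Subgroup G := normalizer ((R : Subgroup G) : Set G) with hN
  have hidx : N.index = Nat.card (Sylow r G) := (Sylow.card_eq_index_normalizer R).symm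
  have hFr : N ⊔ K = ⊤ := Sylow.normalizer_sup_eq_top' R hRK
  set P0 : Subgroup G := K ⊓ (P : Subgroup G) with hP0
  have hP0n : P0.Normal := NO519.aux_normal 17 K hK17 P
  have hP0p : IsPGroup 17 P0 := P.2.to_le inf_le_right
  have hP0N : P0 ≤ N :=
    NO519.aux_le_normalizer P0 hP0p r hr (by rcases hn with h | h <;> omega) R
  -- `N.index * |N ⊓ K| = |K|`
  have h1 := NO519.aux_card_sup N K
  rw [hFr, Subgroup.card_top, ← N.card_mul_index] at h1
  have h2 : N.index * Nat.card (N ⊓ K : Subgroup G) = Nat.card K := by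
    have hpos : 0 < Nat.card N := Nat.card_pos
    apply Nat.eq_of_mul_eq_mul_left hpos
    rw [← h1]; ring
  -- `ρ * |P0| = |K|` with `17 ∤ ρ`
  have h3 := NO519.aux_card_sup (P : Subgroup G) K
  have h4 : Nat.card (P : Subgroup G) * (P : Subgroup G).relIndex ((P : Subgroup G) ⊔ K)
      = Nat.card ((P : Subgroup G) ⊔ K : Subgroup G) := by
    have := relIndex_mul_relIndex ⊥ (P : Subgroup G) ((P : Subgroup G) ⊔ K) bot_le le_sup_left
    rw [relIndex_bot_left, relIndex_bot_left] at this
    exact this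
  set ρ := (P : Subgroup G).relIndex ((P : Subgroup G) ⊔ K) with hρ
  have hρdvd : ρ ∣ (P : Subgroup G).index := relIndex_dvd_index_of_le le_sup_left
  have hρ17 : ¬ 17 ∣ ρ := fun h => P.not_dvd_index (h.trans hρdvd)
  have hP0eq : (P : Subgroup G) ⊓ K = P0 := inf_comm _ _
  have h5 : ρ * Nat.card P0 = Nat.card K := by
    have hpos : 0 < Nat.card (P : Subgroup G) := Nat.card_pos
    apply Nat.eq_of_mul_eq_mul_left hpos
    rw [← h3, ← h4, hP0eq]; ring
  -- `|P0|` divides `|N ⊓ K|`
  have h6 : Nat.card P0 ∣ Nat.card (N ⊓ K : Subgroup G) :=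
    Subgroup.card_dvd_of_le (le_inf hP0N inf_le_left)
  obtain ⟨t, ht⟩ := h6
  have h7 : N.index * t = ρ := by
    have hpos : 0 < Nat.card P0 := Nat.card_pos
    apply Nat.eq_of_mul_eq_mul_right hpos
    rw [h5, ← h2, ht]; ring
  have h8 : (17 : ℕ) ∣ N.index := by
    rw [hidx]
    rcases hn with h | h <;> rw [h] <;> norm_num
  exact hρ17 (h7 ▸ Dvd.dvd.mul_right h8 t)

end Cfsg.Agent.S3641P
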