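import Mathlib
import Cfsg.Agent.Helper5.S4330Defs
import Cfsg.Agent.Helper6.S4330PROJ
import Cfsg.Agent.Helper6.S4330P4
import Cfsg.Agent.Helper19.S4330MAXFIX
import Cfsg.Agent.Helper10.S4330GEN
import Cfsg.Agent.Helper14.S4330L2

/-!
# S4330 board, piece CASEB : `x` normalizes every member of `MaxFix E`
-/

set_option autoImplicit false
open Pointwise

namespace Cfsg.Agent.Helper5.S4330

universe u

variable {V : Type u} [CommGroup V] [Finite V]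

theorem good_of_normalizes {p : ℕ} [Fact p.Prime] {𝓛 D E : Subgroup (MulAut V)}
    (hirr : Irr 𝓛) (hD𝓛 : D ≤ 𝓛) (hDn : NormBy 𝓛 D) (hDp : IsPGroup p D) (hE : Comm E)
    (hEn : NormBy 𝓛 E) (hcop : (Nat.card E).Coprime (Nat.card V))
    (hcopV : (Nat.card V).Coprime p) (hnsr : ¬ SemiReg E)
    (IH : ∀ (W : Type u) [CommGroup W] [Finite W], Nat.card W < Nat.card V →
      (Nat.card W).Coprime p → StarHom p W)
    {x : MulAut V} (hx : x ∈ D) (hx1 : x ≠ 1) (hxK : ∀ K ∈ MaxFix E, cj x K = K) :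
    Good 𝓛 x := by
  classical
  obtain ⟨K₁, hK₁, w₀, hw₀, hxw₀⟩ := exists_MaxFix_moved hirr hEn hx1
  have hWtop : Fix (K₁ : Set (MulAut V)) ≠ ⊤ := Fix_ne_top_of_mem_MaxFix hnsr hK₁
  have hlt : Nat.card (Fix (K₁ : Set (MulAut V))) < Nat.card V := by
    refine lt_of_le_of_ne (Subgroup.card_le_card_group _) fun h => hWtop ?_
    exact (Subgroup.card_eq_iff_eq_top _).mp h
  have hcopW : (Nat.card (Fix (K₁ : Set (MulAut V)))).Coprime p :=
    Nat.Coprime.coprime_dvd_left (Subgroup.card_subgroup_dvd_card _) hcopV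
  -- the data for the induction hypothesis
  set φ := resFix 𝓛 K₁ with hφ
  set D' : Subgroup (NL 𝓛 K₁) := D.subgroupOf (NL 𝓛 K₁) with hD'
  have hD'n : D'.Normal := by
    constructor
    intro d hd l
    rw [hD', Subgroup.mem_subgroupOf] at hd ⊢
    have := hDn l.1 l.2.1 d.1 hd
    simpa using this
  have hD'p : IsPGroup p (D'.map φ) := (hDp.comap_subtype).map φ
  let x' : NL 𝓛 K₁ := ⟨x, hD𝓛 hx, hxK K₁ hK₁⟩
  have hx'D : x' ∈ D' := by
    rw [hD', Subgroup.mem_subgroupOf]; exact hx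
  have hφx' : φ x' ≠ 1 := by
    intro h
    have h1 : ((φ x' ⟨w₀, hw₀⟩ : Fix (K₁ : Set (MulAut V))) : V) = x w₀ := rfl
    rw [h] at h1
    exact hxw₀ h1.symm
  have hirr' : Irr φ.range := irr_resFix hirr hEn hE hcop hK₁
  obtain ⟨w, hw⟩ := IH (Fix (K₁ : Set (MulAut V))) hlt hcopW (NL 𝓛 K₁) φ D' hirr' hD'n hD'p
    x' hx'D hφx'
  -- the orbit of `K₁` and the chosen conjugating elements
  let 𝒪 : Set (Subgroup (MulAut V)) := {K | ∃ g ∈ 𝓛, cj g K₁ = K}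
  have h𝒪fin : 𝒪.Finite := Set.toFinite _
  let gK : Subgroup (MulAut V) → MulAut V := fun K =>
    if h : ∃ g ∈ 𝓛, cj g K₁ = K then h.choose else 1
  have hgK : ∀ K ∈ 𝒪, gK K ∈ 𝓛 ∧ cj (gK K) K₁ = K := by
    intro K hK
    have h : ∃ g ∈ 𝓛, cj g K₁ = K := hK
    simp only [gK, dif_pos h]
    exact h.choose_spec
  have h𝒪max : ∀ K ∈ 𝒪, K ∈ MaxFix E := by
    rintro K ⟨g, hg, rfl⟩
    exact cj_mem_MaxFix hEn hg hK₁
  have hgw : ∀ K ∈ 𝒪, gK K (w : V) ∈ Fix (K : Set (MulAut V)) := by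
    intro K hK
    have := apply_mem_Fix_cj (a := gK K) w.2
    rwa [(hgK K hK).2] at this
  refine ⟨∏ K ∈ h𝒪fin.toFinset, gK K (w : V), fun l hl hfix => ?_⟩
  set v := ∏ K ∈ h𝒪fin.toFinset, gK K (w : V) with hv
  set y := l * x * l⁻¹ with hy
  set K := cj l K₁ with hKdef
  have hK𝒪 : K ∈ 𝒪 := ⟨l, hl, rfl⟩
  have hKmax : K ∈ MaxFix E := h𝒪max K hK𝒪
  obtain ⟨hg𝓛, hgK₁⟩ := hgK K hK𝒪
  set g := gK K with hg
  -- `y` normalizes `K`
  have hyK : cj y K = K := by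
    have h1 : cj l⁻¹ K ∈ MaxFix E := cj_mem_MaxFix hEn (𝓛.inv_mem hl) hKmax
    rw [hy, cj_mul, cj_mul, hxK _ h1, cj_cj_inv]
  -- the `K`-component of `v`
  have hcopK : (Nat.card K).Coprime (Nat.card V) :=
    Nat.Coprime.coprime_dvd_left (Subgroup.card_dvd_of_le hKmax.1) hcop
  have hprojv : proj K v = g (w : V) := by
    rw [hv, map_prod]
    rw [Finset.prod_eq_single K]
    · exact proj_of_mem_Fix hcopK (hgw K hK𝒪)
    · intro K' hK' hne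
      have hK'𝒪 : K' ∈ 𝒪 := (Set.Finite.mem_toFinset _).mp hK'
      exact proj_eq_one hE hKmax (h𝒪max K' hK'𝒪) hne.symm (hgw K' hK'𝒪)
    · intro hnot
      exact absurd ((Set.Finite.mem_toFinset _).mpr hK𝒪) hnot
  have hygw : y (g (w : V)) = g (w : V) := by
    have h1 := proj_cj y K v
    rw [hyK, hfix, hprojv] at h1
    exact h1
  -- `l₁ = g⁻¹ l` normalizes `K₁`
  have hl₁ : g⁻¹ * l ∈ NL 𝓛 K₁ := by
    refine ⟨𝓛.mul_mem (𝓛.inv_mem hg𝓛) hl, ?_⟩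
    rw [cj_mul, ← hKdef]
    conv_lhs => rw [← hgK₁]
    exact cj_inv_cj g K₁
  apply hw ⟨g⁻¹ * l, hl₁⟩
  apply Subtype.ext
  rw [hφ, resFix_apply]
  have h2 : ((⟨g⁻¹ * l, hl₁⟩ * x' * (⟨g⁻¹ * l, hl₁⟩ : NL 𝓛 K₁)⁻¹ : NL 𝓛 K₁) : MulAut V)
      = g⁻¹ * y * g := by
    simp only [Subgroup.coe_mul, Subgroup.coe_inv, x', hy]
    group
  rw [h2]
  simp only [MulAut.mul_apply]
  rw [hygw]
  simp

end Cfsg.Agent.Helper5.S4330
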