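import Mathlib
import Cfsg.Agent.Helper5.S4330Defs
import Cfsg.Agent.Helper21.S4330B0
import Cfsg.Agent.Helper21.S4330B1M
import Cfsg.Agent.Helper11.S4330B2
import Cfsg.Agent.Helper3.S4330B4A
import Cfsg.Agent.Helper3.S4330B4B
import Cfsg.Agent.Helper15.S4330CASEA
import Cfsg.Agent.Helper5.S4330CASEB
import Cfsg.Agent.Helper15.S4330R0
import Cfsg.Agent.Helper11.S4330RQ
import Cfsg.Agent.Helper8.S4330RT
import Cfsg.Agent.Helper14.PCore
import Cfsg.Agent.Helper1.MinNormal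

/-!
# S4330 : assembly of the board pieces (HOM, BASE, STEP, STAR, AMB, RMIN, RIND)
-/

set_option autoImplicit false
set_option linter.style.haveILetI false
set_option linter.unusedSectionVars false
open Pointwise
open scoped commutatorElement

namespace Cfsg.Agent.Helper5.S4330

universe u


/-! ## HOM -/

theorem starHom_of_star {p : ℕ} {V : Type u} [CommGroup V] (h : Star p V) : StarHom p V := by
  intro L _ φ D hirr hDn hDp x hx hx1
  have hle : D.map φ ≤ φ.range := by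
    rintro _ ⟨d, _, rfl⟩; exact ⟨d, rfl⟩
  have hnorm : NormBy φ.range (D.map φ) := by
    rintro _ ⟨a, rfl⟩ _ ⟨d, hd, rfl⟩
    refine ⟨a * d * a⁻¹, hDn.conj_mem d hd a, ?_⟩
    simp
  obtain ⟨v, hv⟩ := h φ.range (D.map φ) hirr hle hnorm hDp (φ x) ⟨x, hx, rfl⟩ hx1
  refine ⟨v, fun l => ?_⟩
  have := hv (φ l) ⟨l, rfl⟩
  simpa using this



section
variable {V : Type*} [CommGroup V] [Finite V]

/-- a non-identity element of a `p`-subgroup has a power of order `p` -/
theorem exists_pow_order_p {p : ℕ} [Fact p.Prime] {D : Subgroup (MulAut V)} (hDp : IsPGroup p D)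
    {y : MulAut V} (hy : y ∈ D) (hy1 : y ≠ 1) : ∃ m : ℕ, y ^ m ≠ 1 ∧ (y ^ m) ^ p = 1 := by
  classical
  have hex : ∃ k : ℕ, y ^ p ^ k = 1 := by
    obtain ⟨k, hk⟩ := hDp ⟨y, hy⟩
    refine ⟨k, ?_⟩
    have := congrArg Subtype.val hk
    simpa using this
  have hk0 : Nat.find hex ≠ 0 := by
    intro h0
    have := Nat.find_spec hex
    rw [h0, pow_zero, pow_one] at this
    exact hy1 this
  obtain ⟨k, hk⟩ := Nat.exists_eq_succ_of_ne_zero hk0
  refine ⟨p ^ k, ?_, ?_⟩
  · intro h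
    have := Nat.find_min hex (m := k) (by omega)
    exact this h
  · have := Nat.find_spec hex
    rw [hk, pow_succ, pow_mul] at this
    exact this

/-- the elements of `D` of order dividing `p` -/
def omegaSub {p : ℕ} (D : Subgroup (MulAut V))
    (hmul : ∀ a ∈ D, ∀ b ∈ D, (a * b) ^ p = a ^ p * b ^ p) : Subgroup (MulAut V) where
  carrier := {g | g ∈ D ∧ g ^ p = 1}
  one_mem' := ⟨D.one_mem, one_pow p⟩
  mul_mem' := fun {a b} ha hb => ⟨D.mul_mem ha.1 hb.1, by
    rw [hmul a ha.1 b hb.1, ha.2, hb.2, one_mul]⟩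
  inv_mem' := fun {a} ha => ⟨D.inv_mem ha.1, by rw [inv_pow, ha.2, inv_one]⟩

/-- the centre of a subgroup, as a subgroup of the ambient group -/
def centerSub (Ω : Subgroup (MulAut V)) : Subgroup (MulAut V) where
  carrier := {c | c ∈ Ω ∧ ∀ g ∈ Ω, g * c = c * g}
  one_mem' := ⟨Ω.one_mem, fun g _ => by simp⟩
  mul_mem' := fun {a b} ha hb => ⟨Ω.mul_mem ha.1 hb.1, fun g hg => by
    rw [← mul_assoc, ha.2 g hg, mul_assoc, hb.2 g hg, mul_assoc]⟩
  inv_mem' := fun {a} ha => ⟨Ω.inv_mem ha.1, fun g hg => by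
    have := ha.2 g hg
    calc g * a⁻¹ = a⁻¹ * (a * g) * a⁻¹ := by group
      _ = a⁻¹ * (g * a) * a⁻¹ := by rw [this]
      _ = a⁻¹ * g := by group⟩

/-! ## BASE -/

theorem good_of_all_semiReg {p : ℕ} [Fact p.Prime] (hp : p ≠ 2)
    {𝓛 D : Subgroup (MulAut V)} (hirr : Irr 𝓛) (hcop : (Nat.card V).Coprime p) (hD𝓛 : D ≤ 𝓛)
    (hDn : NormBy 𝓛 D) (hDp : IsPGroup p D)
    (hSR : ∀ E : Subgroup (MulAut V), E ≤ D → NormBy 𝓛 E → Comm E → SemiReg E)
    {x : MulAut V} (hx : x ∈ D) (hx1 : x ≠ 1) : Good 𝓛 x := by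
  haveI : Nontrivial V := hirr.1
  have hcl := class_two_of_semiReg hp hcop hD𝓛 hDn hDp hSR
  have hmul := mul_pow_p_of_class_two hp D hcl
  set Ω := omegaSub D hmul with hΩdef
  have hΩD : Ω ≤ D := fun g hg => hg.1
  have hΩexp : ∀ g ∈ Ω, g ^ p = 1 := fun g hg => hg.2
  have hΩn : NormBy 𝓛 Ω := by
    intro l hl g hg
    refine ⟨hDn l hl g hg.1, ?_⟩
    rw [conj_pow, hg.2, mul_one, mul_inv_cancel]
  -- conjugates of `x` are non-identity elements of `D`
  have hconj : ∀ l ∈ 𝓛, l * x * l⁻¹ ∈ D ∧ l * x * l⁻¹ ≠ 1 := by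
    intro l hl
    refine ⟨hDn l hl x hx, fun h => hx1 ?_⟩
    have : x = l⁻¹ * (l * x * l⁻¹) * l := by group
    rw [this, h]; group
  -- it suffices to find a vector moved by all non-identity elements of `Ω`
  have key : (∃ v : V, ∀ g ∈ Ω, g ≠ 1 → g v ≠ v) → Good 𝓛 x := by
    rintro ⟨v, hv⟩
    refine ⟨v, fun l hl hfix => ?_⟩
    obtain ⟨hyD, hy1⟩ := hconj l hl
    obtain ⟨m, hm1, hmp⟩ := exists_pow_order_p hDp hyD hy1
    refine hv _ ⟨D.pow_mem hyD m, hmp⟩ hm1 ?_
    have : ∀ n : ℕ, ((l * x * l⁻¹) ^ n) v = v := by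
      intro n
      induction n with
      | zero => simp
      | succ n ih => rw [pow_succ, MulAut.mul_apply, hfix, ih]
    exact this m
  by_cases hΩc : Comm Ω
  · -- `Ω` abelian: semiregular
    have hsr := hSR Ω hΩD hΩn hΩc
    obtain ⟨v, hv⟩ := exists_ne (1 : V)
    exact key ⟨v, fun g hg hg1 hfix => hv (hsr g hg hg1 v hfix)⟩
  · -- `Ω` nonabelian
    set Z := centerSub Ω with hZdef
    have hZΩ : Z ≤ Ω := fun c hc => hc.1
    have hZc : Comm Z := fun a ha b hb => hb.2 a ha.1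
    have hZn : NormBy 𝓛 Z := by
      intro l hl c hc
      refine ⟨hΩn l hl c hc.1, fun g hg => ?_⟩
      have h1 := hc.2 (l⁻¹ * g * l) (by
        have := hΩn l⁻¹ (𝓛.inv_mem hl) g hg
        simpa using this)
      calc g * (l * c * l⁻¹) = l * ((l⁻¹ * g * l) * c) * l⁻¹ := by group
        _ = l * (c * (l⁻¹ * g * l)) * l⁻¹ := by rw [h1]
        _ = l * c * l⁻¹ * g := by group
    have hZsr := hSR Z (hZΩ.trans hΩD) hZn hZc
    have hZp : IsPGroup p Z := hDp.to_le (hZΩ.trans hΩD)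
    haveI hZcyc : IsCyclic Z := isCyclic_of_semiReg hZc hZp hZsr hcop
    -- `Z ≠ 1`
    have hΩnt : Nontrivial Ω := by
      by_contra hnt
      rw [not_nontrivial_iff_subsingleton] at hnt
      apply hΩc
      intro a ha b hb
      have h1 : (⟨a, ha⟩ : Ω) = ⟨b, hb⟩ := Subsingleton.elim _ _
      have : a = b := congrArg Subtype.val h1
      rw [this]
    have hΩp : IsPGroup p Ω := hDp.to_le hΩD
    obtain ⟨c, hc⟩ : ∃ c : Subgroup.center Ω, c ≠ 1 := by
      haveI := hΩp.center_nontrivial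
      exact exists_ne 1
    have hcZ : (c : Ω).1 ∈ Z := by
      refine ⟨(c : Ω).2, fun g hg => ?_⟩
      have := (Subgroup.mem_center_iff.mp c.2) ⟨g, hg⟩
      exact congrArg Subtype.val this
    have hc1 : ((c : Ω) : MulAut V) ≠ 1 := by
      intro h
      apply hc
      apply Subtype.ext; apply Subtype.ext; exact h
    obtain ⟨z, hz⟩ := hZcyc.exists_generator
    have hzZ : ∀ c' ∈ Z, c' ∈ Subgroup.zpowers (z : MulAut V) := by
      intro c' hc'
      obtain ⟨k, hk⟩ := Subgroup.mem_zpowers_iff.mp (hz ⟨c', hc'⟩)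
      refine Subgroup.mem_zpowers_iff.mpr ⟨k, ?_⟩
      have := congrArg Subtype.val hk
      simpa using this
    have hz1 : (z : MulAut V) ≠ 1 := by
      intro h
      obtain ⟨k, hk⟩ := Subgroup.mem_zpowers_iff.mp (hzZ _ hcZ)
      rw [h, one_zpow] at hk
      exact hc1 hk.symm
    have hzfix : ∀ v : V, (z : MulAut V) v = v → v = 1 := hZsr z z.2 hz1
    have hcomm : ∀ a ∈ Ω, ∀ b ∈ Ω, a * b * a⁻¹ * b⁻¹ ∈ Subgroup.zpowers (z : MulAut V) := by
      intro a ha b hb
      apply hzZ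
      refine ⟨Ω.mul_mem (Ω.mul_mem (Ω.mul_mem ha hb) (Ω.inv_mem ha)) (Ω.inv_mem hb), fun g hg => ?_⟩
      exact ((hcl a ha.1 b hb.1).1 g hg.1).symm
    have hnab : ∃ a ∈ Ω, ∃ b ∈ Ω, a * b ≠ b * a := by
      unfold Comm at hΩc
      push Not at hΩc
      exact hΩc
    obtain ⟨A, K₀, hAΩ, hA, hAn, hzA, hK₀, hNK, hgA⟩ :=
      exists_maxAbelian_structure hcop hΩexp (hZΩ z.2) (fun g hg => z.2.2 g hg) hcomm hzfix hnab
    exact key (exists_regular_vector_aux hp hcop hΩexp (hZΩ z.2) (fun g hg => z.2.2 g hg)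
      (fun c hc hcc => hzZ c ⟨hc, hcc⟩) hcomm hzfix hAΩ hA hAn hzA hK₀ hNK hgA)

end



/-! ## STEP -/

theorem star_step {p : ℕ} [Fact p.Prime] (hp : p ≠ 2) (V : Type u) [CommGroup V] [Finite V]
    (hcop : (Nat.card V).Coprime p)
    (IH : ∀ (W : Type u) [CommGroup W] [Finite W], Nat.card W < Nat.card V →
      (Nat.card W).Coprime p → StarHom p W) : Star p V := by
  intro 𝓛 D hirr hD𝓛 hDn hDp x hx hx1
  by_cases hSR : ∀ E : Subgroup (MulAut V), E ≤ D → NormBy 𝓛 E → Comm E → SemiReg E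
  · exact good_of_all_semiReg hp hirr hcop hD𝓛 hDn hDp hSR hx hx1
  · push Not at hSR
    obtain ⟨E, hED, hEn, hE, hnsr⟩ := hSR
    have hEp : IsPGroup p E := hDp.to_le hED
    have hcopE : (Nat.card E).Coprime (Nat.card V) := by
      obtain ⟨n, hn⟩ := IsPGroup.iff_card.mp hEp
      rw [hn]
      exact (Nat.Coprime.pow_left n hcop.symm)
    by_cases hxK : ∀ K ∈ MaxFix E, cj x K = K
    · exact good_of_normalizes hirr hD𝓛 hDn hDp hE hEn hcopE hcop hnsr IH hx hx1 hxK
    · push Not at hxK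
      obtain ⟨K, hK, hxK⟩ := hxK
      exact good_of_moves hp hD𝓛 hDn hDp hE hEn hcopE hx hK hxK

/-! ## STAR -/

theorem starHom_all {p : ℕ} [Fact p.Prime] (hp : p ≠ 2) :
    ∀ (n : ℕ) (V : Type u) [CommGroup V] [Finite V], Nat.card V = n →
      (Nat.card V).Coprime p → StarHom p V := by
  intro n
  induction n using Nat.strong_induction_on with
  | _ n ih =>
    intro V _ _ hn hcop
    apply starHom_of_star
    apply star_step hp V hcop
    intro W _ _ hlt hWcop
    exact ih (Nat.card W) (hn ▸ hlt) W rfl hWcop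



/-! ## AMB : ambient form of (*) -/

theorem ambient_star {p : ℕ} [Fact p.Prime] (hp : p ≠ 2) {G : Type u} [Group G] [Finite G]
    (V K : Subgroup G) [hVn : V.Normal] [hKn : K.Normal]
    (hVc : ∀ a ∈ V, ∀ b ∈ V, a * b = b * a) (hVcop : (Nat.card V).Coprime p) (hV1 : V ≠ ⊥)
    (hmin : ∀ W : Subgroup G, W.Normal → W ≤ V → W = ⊥ ∨ W = V)
    (hK : ∀ k ∈ K, ∃ n : ℕ, k ^ p ^ n ∈ V) {x : G} (hx : x ∈ K)
    (hxV : ∃ v ∈ V, x * v ≠ v * x) :
    ∃ v ∈ V, ∀ h : G, (h * x * h⁻¹) * v ≠ v * (h * x * h⁻¹) := by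
  letI : CommGroup ↥V :=
    { (inferInstance : Group ↥V) with mul_comm := fun a b => Subtype.ext (hVc a a.2 b b.2) }
  set φ : G →* MulAut ↥V := MulAut.conjNormal with hφ
  have hφapp : ∀ (g : G) (v : ↥V), ((φ g v : ↥V) : G) = g * v * g⁻¹ := fun g v => by
    rw [hφ, MulAut.conjNormal_apply]
  have hirr : Irr φ.range := by
    constructor
    · exact (Subgroup.nontrivial_iff_ne_bot V).mpr hV1
    · intro W hW
      have hWn : (W.map V.subtype).Normal := by
        constructor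
        rintro _ ⟨w, hw, rfl⟩ g
        refine ⟨φ g w, hW (φ g) ⟨g, rfl⟩ w hw, ?_⟩
        rw [Subgroup.coe_subtype, hφapp]
      have hle : W.map V.subtype ≤ V := by
        rintro _ ⟨w, _, rfl⟩; exact w.2
      rcases hmin _ hWn hle with h | h
      · left
        rw [eq_bot_iff]
        intro w hw
        have : (w : G) ∈ W.map V.subtype := ⟨w, hw, rfl⟩
        rw [h, Subgroup.mem_bot] at this
        rw [Subgroup.mem_bot]; exact Subtype.ext this
      · right
        rw [eq_top_iff]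
        intro w _
        have : (w : G) ∈ W.map V.subtype := by rw [h]; exact w.2
        obtain ⟨w', hw', hww⟩ := this
        have : w' = w := Subtype.ext hww
        rw [← this]; exact hw'
  have hVker : ∀ u ∈ V, φ u = 1 := by
    intro u hu
    ext v
    rw [hφapp]
    simp only [MulAut.one_apply]
    rw [hVc u hu v v.2]; group
  have hKp : IsPGroup p (K.map φ) := by
    rintro ⟨_, k, hk, rfl⟩
    obtain ⟨n, hn⟩ := hK k hk
    refine ⟨n, ?_⟩
    apply Subtype.ext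
    simp only [Subgroup.coe_pow, Subgroup.coe_one]
    rw [← map_pow]; exact hVker _ hn
  have hφx : φ x ≠ 1 := by
    obtain ⟨v, hv, hne⟩ := hxV
    intro h
    have h1 := hφapp x ⟨v, hv⟩
    rw [h] at h1
    simp only [MulAut.one_apply] at h1
    apply hne
    calc x * v = (x * v * x⁻¹) * x := by group
      _ = v * x := by rw [← h1]
  obtain ⟨v, hv⟩ := starHom_all hp _ ↥V rfl hVcop G φ K hirr hKn hKp x hx hφx
  refine ⟨v, v.2, fun h heq => hv h ?_⟩
  apply Subtype.ext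
  rw [hφapp, heq]; group

/-! ## RMIN : the minimal configuration is impossible -/

theorem min_case {p : ℕ} [Fact p.Prime] (hp : p ≠ 2) {G : Type u} [Group G] [Finite G]
    (hsolv : Group.IsSolvable G) (hcore : Cfsg.pCore p G = ⊥) (V : Subgroup G) [hVn : V.Normal]
    (hV1 : V ≠ ⊥) (hmin : ∀ W : Subgroup G, W.Normal → W ≤ V → W = ⊥ ∨ W = V)
    {A : Subgroup G} (hA1 : A ≠ ⊥)
    (hyp : ∀ c : G, ∃ g : G, IsConj c g ∧ IsPGroup p ↥(A ⊔ MulAut.conj g • A))
    (hAV : A.map (QuotientGroup.mk' V) ≤ Cfsg.pCore p (G ⧸ V)) : False := by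
  haveI := hsolv
  obtain ⟨hc, q, hq, hexp⟩ := Cfsg.Agent.Helper1.minNormal_elementary V hV1 inferInstance hmin
  haveI : Fact q.Prime := ⟨hq⟩
  have hVq : IsPGroup q V := by
    intro v
    refine ⟨1, ?_⟩
    rw [pow_one]
    exact Subtype.ext (hexp v v.2)
  have hqp : q ≠ p := by
    intro h
    subst h
    exact hV1 (le_bot_iff.mp (hcore ▸ Cfsg.Agent.Helper14.le_pCore q hVn hVq))
  have hVcop : (Nat.card V).Coprime p := by
    obtain ⟨n, hn⟩ := IsPGroup.iff_card.mp hVq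
    rw [hn]
    exact Nat.Coprime.pow_left n ((Nat.coprime_primes hq (Fact.out)).mpr hqp)
  have hVc : ∀ a ∈ V, ∀ b ∈ V, a * b = b * a := by
    intro a ha b hb
    have := hc.is_comm.comm ⟨a, ha⟩ ⟨b, hb⟩
    exact congrArg Subtype.val this
  have hA : IsPGroup p A := by
    obtain ⟨g, _, hg⟩ := hyp 1
    exact hg.to_le le_sup_left |>.to_le le_rfl
  obtain ⟨x, hxA, hxV⟩ := exists_not_commute_of_pCore_eq_bot hcore V hVc hVcop hA hA1 hAV
  set K : Subgroup G := (Cfsg.pCore p (G ⧸ V)).comap (QuotientGroup.mk' V) with hKdef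
  haveI hKn : K.Normal := Subgroup.Normal.comap (Cfsg.Agent.Helper14.pCore_normal p) _
  have hK : ∀ k ∈ K, ∃ n : ℕ, k ^ p ^ n ∈ V := by
    intro k hk
    have hk' : QuotientGroup.mk' V k ∈ Cfsg.pCore p (G ⧸ V) := hk
    obtain ⟨n, hn⟩ := (Cfsg.Agent.Helper14.pCore_isPGroup (G := G ⧸ V) p) ⟨_, hk'⟩
    refine ⟨n, ?_⟩
    have h1 := congrArg Subtype.val hn
    simp only [Subgroup.coe_pow, Subgroup.coe_one] at h1
    rw [← map_pow] at h1
    exact (QuotientGroup.eq_one_iff _).mp h1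
  have hxK : x ∈ K := hAV ⟨x, hxA, rfl⟩
  obtain ⟨v, hvV, hv⟩ := ambient_star hp V K hVc hVcop hV1 hmin hK hxK hxV
  obtain ⟨g, hconj, hT⟩ := hyp v
  obtain ⟨c, hc⟩ := isConj_iff.mp hconj
  have hgV : g ∈ V := by rw [← hc]; exact hVn.conj_mem v hvV c
  -- the commutator `g x g⁻¹ x⁻¹` lies in `V` and in the `p`-group `T`
  have hu1 : g * x * g⁻¹ * x⁻¹ ∈ A ⊔ MulAut.conj g • A := by
    refine Subgroup.mul_mem _ ?_ (Subgroup.inv_mem _ (Subgroup.mem_sup_left hxA))
    apply Subgroup.mem_sup_right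
    have : g * x * g⁻¹ = MulAut.conj g • x := by simp [MulAut.smul_def]
    rw [this]
    exact Subgroup.smul_mem_pointwise_smul _ _ _ hxA
  have hu2 : g * x * g⁻¹ * x⁻¹ ∈ V := by
    have : g * x * g⁻¹ * x⁻¹ = g * (x * g⁻¹ * x⁻¹) := by group
    rw [this]
    exact V.mul_mem hgV (hVn.conj_mem _ (V.inv_mem hgV) x)
  have hu : g * x * g⁻¹ * x⁻¹ = 1 := by
    obtain ⟨n, hn⟩ := hT ⟨_, hu1⟩
    have hn' : (g * x * g⁻¹ * x⁻¹) ^ p ^ n = 1 := by
      have := congrArg Subtype.val hn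
      simpa using this
    have hq' : (g * x * g⁻¹ * x⁻¹) ^ q = 1 := hexp _ hu2
    have h1 : orderOf (g * x * g⁻¹ * x⁻¹) ∣ p ^ n := orderOf_dvd_of_pow_eq_one hn'
    have h2 : orderOf (g * x * g⁻¹ * x⁻¹) ∣ q := orderOf_dvd_of_pow_eq_one hq'
    have h3 : Nat.Coprime (p ^ n) q :=
      Nat.Coprime.pow_left n ((Nat.coprime_primes Fact.out hq).mpr hqp.symm)
    exact orderOf_eq_one_iff.mp (Nat.eq_one_of_dvd_coprimes h3 h1 h2)
  apply hv c⁻¹
  have hgx : g * x = x * g := by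
    calc g * x = (g * x * g⁻¹ * x⁻¹) * x * g := by group
      _ = x * g := by rw [hu, one_mul]
  rw [← hc] at hgx
  calc c⁻¹ * x * c⁻¹⁻¹ * v = c⁻¹ * (x * (c * v * c⁻¹)) * c := by group
    _ = c⁻¹ * ((c * v * c⁻¹) * x) * c := by rw [hgx]
    _ = v * (c⁻¹ * x * c⁻¹⁻¹) := by group

/-- `O_p(G / O_p(G)) = 1` -/
theorem pCore_quotient_pCore_bot {G : Type*} [Group G] (p : ℕ) [Fact p.Prime] :
    Cfsg.pCore p (G ⧸ Cfsg.pCore p G) = ⊥ := by
  set H := Cfsg.pCore p G with hH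
  set N := (Cfsg.pCore p (G ⧸ H)).comap (QuotientGroup.mk' H) with hN
  have hNn : N.Normal := Subgroup.Normal.comap (Cfsg.Agent.Helper14.pCore_normal p) _
  have hNp : IsPGroup p N := by
    apply IsPGroup.comap_of_ker_isPGroup (Cfsg.Agent.Helper14.pCore_isPGroup p)
    rw [QuotientGroup.ker_mk']
    exact Cfsg.Agent.Helper14.pCore_isPGroup p
  have hNH : N ≤ H := Cfsg.Agent.Helper14.le_pCore p hNn hNp
  rw [eq_bot_iff]
  intro y hy
  obtain ⟨g, rfl⟩ := QuotientGroup.mk_surjective y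
  rw [Subgroup.mem_bot]
  exact (QuotientGroup.eq_one_iff g).mpr (hNH hy)

/-! ## RIND : the theorem in `p`-group form -/

theorem le_pCore_of_class_reps {p : ℕ} [Fact p.Prime] (hp : p ≠ 2) :
    ∀ (n : ℕ) (G : Type u) [Group G] [Finite G], Nat.card G = n → Group.IsSolvable G →
      ∀ A : Subgroup G,
        (∀ c : G, ∃ g : G, IsConj c g ∧ IsPGroup p ↥(A ⊔ MulAut.conj g • A)) →
        A ≤ Cfsg.pCore p G := by
  intro n
  induction n using Nat.strong_induction_on with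
  | _ n ih =>
    intro G _ _ hn hsolv A hyp
    haveI := hsolv
    by_cases hcore : Cfsg.pCore p G = ⊥
    · by_cases hA1 : A = ⊥
      · rw [hA1]; exact bot_le
      exfalso
      haveI : Nontrivial G := by
        by_contra h
        rw [not_nontrivial_iff_subsingleton] at h
        exact hA1 (Subsingleton.elim _ _)
      let S : Set (Subgroup G) := {N | N.Normal ∧ N ≠ ⊥}
      have hS : S.Nonempty := ⟨⊤, inferInstance, top_ne_bot⟩
      obtain ⟨V, ⟨hVn, hV1⟩, hVmin⟩ := wellFounded_lt.has_min S hS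
      haveI := hVn
      have hmin : ∀ M : Subgroup G, M.Normal → M ≤ V → M = ⊥ ∨ M = V := by
        intro M hMn hMV
        by_cases hM : M = ⊥
        · exact Or.inl hM
        · right
          by_contra hne
          exact hVmin M ⟨hMn, hM⟩ (lt_of_le_of_ne hMV hne)
      have hlt : Nat.card (G ⧸ V) < n := by
        rw [← hn, ← Subgroup.index_eq_card, ← Subgroup.card_mul_index V]
        have h1 : 1 < Nat.card V := by
          rw [Subgroup.one_lt_card_iff_ne_bot]; exact hV1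
        have h2 : 0 < V.index := Nat.pos_of_ne_zero Subgroup.index_ne_zero_of_finite
        nlinarith
      have hAV := ih _ hlt (G ⧸ V) rfl inferInstance (A.map (QuotientGroup.mk' V))
        (hyp_quotient V A hyp)
      exact min_case hp hsolv hcore V hV1 hmin hA1 hyp hAV
    · have hlt : Nat.card (G ⧸ Cfsg.pCore p G) < n := by
        rw [← hn, ← Subgroup.index_eq_card, ← Subgroup.card_mul_index (Cfsg.pCore p G)]
        have h1 : 1 < Nat.card (Cfsg.pCore p G) := by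
          rw [Subgroup.one_lt_card_iff_ne_bot]; exact hcore
        have h2 : 0 < (Cfsg.pCore p G).index := Nat.pos_of_ne_zero Subgroup.index_ne_zero_of_finite
        nlinarith
      have hAN := ih _ hlt (G ⧸ Cfsg.pCore p G) rfl inferInstance
        (A.map (QuotientGroup.mk' (Cfsg.pCore p G))) (hyp_quotient (Cfsg.pCore p G) A hyp)
      rw [pCore_quotient_pCore_bot] at hAN
      intro a ha
      have : QuotientGroup.mk' (Cfsg.pCore p G) a ∈ (⊥ : Subgroup (G ⧸ Cfsg.pCore p G)) :=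
        hAN ⟨a, ha, rfl⟩
      rw [Subgroup.mem_bot] at this
      exact (QuotientGroup.eq_one_iff a).mp this

end Cfsg.Agent.Helper5.S4330
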