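import Mathlib
import Cfsg.Prelude.Def_Blocks
import Cfsg.Prelude.Def_BlockRank
import Cfsg.Agent.Helper5.S4607Defs
import Cfsg.Agent.Helper5.BlockBasic
import Cfsg.Agent.Helper5.Osima
import Cfsg.Agent.Helper3.S4607GCENTER
import Cfsg.Agent.Helper3.S4607RED
import Cfsg.Agent.Helper7.S4607REDCEN
import Cfsg.Agent.Helper7.S4607EPS
import Cfsg.Agent.Helper8.S4607NILA

set_option autoImplicit false

/-!
# S4607 piece NILB (helper5): a block with two characters has a nonzero nilpotent element in the
centre of its algebra.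

With `B = {χ₁, χ₂}` and `z_g = red (classIndicator g - ω_{χ₁}(g) • δ₁)`: `ω_{χ₁} ≡ ω_{χ₂}` modulo `M`,
so NILA gives `z_g² ε = 0`.  If every `ε z_g = 0` then `ε Z(kG) ⊆ k ε`, against `dim ε Z(kG) = 2`.
-/

namespace Cfsg.Agent.S4607P

open Cfsg Cfsg.Agent.Helper5.Res Cfsg.Agent.Helper5.CC Cfsg.Agent.Helper24 Cfsg.Agent.Helper5.Loc

namespace NILB

variable {M : Ideal AlgInt} {G : Type*} [Group G]

theorem isClassFunction_sub_smul (g : G) (c : ℂ) :
    IsClassFunction G (classIndicator g - c • deltaOne) := by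
  intro h x
  have h1 := isClassFunction_classIndicator g h x
  have h2 := isClassFunction_classIndicator (1 : G) h x
  simp only [Pi.sub_apply, Pi.smul_apply, deltaOne, h1, h2]

theorem lr_classIndicator (hM : M.IsPrime) (g h : G) : MemLocalRing M (classIndicator g h) := by
  by_cases hc : IsConj g h
  · rw [classIndicator_of_isConj hc]; exact memLocalRing_one hM
  · rw [classIndicator_of_not_isConj hc]; exact memLocalRing_zero hM

theorem lr_sub_smul (hM : M.IsPrime) (g : G) (c : ℂ) (hc : MemLocalRing M c) (h : G) :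
    MemLocalRing M ((classIndicator g - c • deltaOne : G → ℂ) h) := by
  simp only [Pi.sub_apply, Pi.smul_apply, smul_eq_mul]
  exact lr_sub hM (lr_classIndicator hM g h) (lr_mul hM hc (lr_classIndicator hM 1 h))

end NILB

section

variable {M : Ideal AlgInt} [hMax : M.IsMaximal] {G : Type*} [Group G] [Fintype G]

set_option synthInstance.maxHeartbeats 400000 in
/-- central elements are combinations of the reduced class indicators -/
theorem NILB.center_eq_sum (c : MonoidAlgebra (AlgInt ⧸ M) G)
    (hc : c ∈ Subalgebra.center (AlgInt ⧸ M) (MonoidAlgebra (AlgInt ⧸ M) G))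
    [Fintype (ConjClasses G)] :
    c = ∑ K : ConjClasses G, c.coeff (rep K) • red M (classIndicator (rep K)) := by
  classical
  rw [mem_center_iff] at hc
  ext h
  rw [MonoidAlgebra.coeff_sum, Finsupp.finsetSum_apply]
  rw [Finset.sum_eq_single (ConjClasses.mk h)]
  · rw [MonoidAlgebra.coeff_smul_apply, red_coeff]
    have hconj : IsConj (rep (ConjClasses.mk h)) h := by
      rw [← ConjClasses.mk_eq_mk_iff_isConj, mk_rep]
    rw [classIndicator_of_isConj hconj, res_one, smul_eq_mul, mul_one]
    obtain ⟨x, hx⟩ := isConj_iff.mp hconj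
    have h3 := hc (rep (ConjClasses.mk h)) x
    rw [hx] at h3
    exact h3
  · intro K _ hK
    rw [MonoidAlgebra.coeff_smul_apply, red_coeff]
    have hconj : ¬ IsConj (rep K) h := by
      rw [← ConjClasses.mk_eq_mk_iff_isConj, mk_rep]
      exact hK
    rw [classIndicator_of_not_isConj hconj, res_zero, smul_zero]
  · intro h'
    exact absurd (Finset.mem_univ _) h'

end

section Block

variable {M : Ideal AlgInt} [hMax : M.IsMaximal] {G : Type*} [Group G] [Fintype G]
  [Fintype (IrrCharacter G)]

set_option synthInstance.maxHeartbeats 400000 in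
/-- NILB: a block with two characters has a nonzero nilpotent element in the centre of its algebra -/
theorem exists_nilpotent_center (B : Set (IrrCharacter G)) (hB : IsPBlock M B)
    (hcard : Nat.card B = 2)
    (hZ : Module.finrank (AlgInt ⧸ M)
      ((Subalgebra.toSubmodule (Subalgebra.center (AlgInt ⧸ M) (MonoidAlgebra (AlgInt ⧸ M) G))).map
        (LinearMap.mulLeft (AlgInt ⧸ M) (eps M B))) = 2) :
    ∃ z ∈ Subalgebra.center (AlgInt ⧸ M) (MonoidAlgebra (AlgInt ⧸ M) G),
      eps M B * z ≠ 0 ∧ IsNilpotent (eps M B * z) := by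
  classical
  let _ : Fintype (ConjClasses G) := Fintype.ofFinite _
  have hMp : M.IsPrime := hMax.isPrime
  obtain ⟨χ₁, χ₂, hne, hB2⟩ : ∃ χ₁ χ₂ : IrrCharacter G, χ₁ ≠ χ₂ ∧ B = {χ₁, χ₂} := by
    rw [Nat.card_coe_set_eq] at hcard
    exact Set.ncard_eq_two.mp hcard
  have hχ₁ : χ₁ ∈ B := by rw [hB2]; simp
  have hχ₂ : χ₂ ∈ B := by rw [hB2]; simp
  have hsame := sameBlock_of_mem hMp hB hχ₁ hχ₂
  have hlra : ∀ g h, MemLocalRing M
      ((classIndicator g - centralChar (χ₁ : G → ℂ) g • deltaOne : G → ℂ) h) :=
    fun g h => NILB.lr_sub_smul hMp g _ (memLocalRing_centralChar hMp χ₁ g) h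
  have hlrb : ∀ g h, MemLocalRing M
      ((classIndicator g - centralChar (χ₂ : G → ℂ) g • deltaOne : G → ℂ) h) :=
    fun g h => NILB.lr_sub_smul hMp g _ (memLocalRing_centralChar hMp χ₂ g) h
  have hab : ∀ g : G, red M (classIndicator g - centralChar (χ₁ : G → ℂ) g • deltaOne) =
      red M (classIndicator g - centralChar (χ₂ : G → ℂ) g • deltaOne) := by
    intro g
    ext h
    rw [red_coeff, red_coeff]
    apply res_eq_of_li (hlra g h) (hlrb g h)
    have : (classIndicator g - centralChar (χ₁ : G → ℂ) g • deltaOne : G → ℂ) h -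
        (classIndicator g - centralChar (χ₂ : G → ℂ) g • deltaOne : G → ℂ) h =
        -((centralChar (χ₁ : G → ℂ) g - centralChar (χ₂ : G → ℂ) g) * deltaOne h) := by
      simp only [Pi.sub_apply, Pi.smul_apply, smul_eq_mul]
      ring
    rw [this]
    exact li_neg (li_mul_right hMp (hsame g) (NILB.lr_classIndicator hMp 1 h))
  have hzero : ∀ g : G, red M (classIndicator g - centralChar (χ₁ : G → ℂ) g • deltaOne) *
      red M (classIndicator g - centralChar (χ₁ : G → ℂ) g • deltaOne) * eps M B = 0 := by
    intro g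
    have h1 := conv_sub_sub_blockCoeff B χ₁ χ₂ hB2 g
    have h2 := congrArg (red M) h1
    rw [red_conv _ _ (lr_conv _ _ (hlra g) (hlrb g)) (osima hMp B hB),
      red_conv _ _ (hlra g) (hlrb g), red_zero, ← hab g] at h2
    exact h2
  have hεc := eps_mem_center (M := M) B
  have hεε := eps_mul_eps (M := M) B hB
  by_cases hex : ∃ g : G,
      eps M B * red M (classIndicator g - centralChar (χ₁ : G → ℂ) g • deltaOne) ≠ 0
  · obtain ⟨g, hg⟩ := hex
    refine ⟨_, red_mem_center _ (NILB.isClassFunction_sub_smul g _), hg, 2, ?_⟩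
    have hcomm := Subalgebra.mem_center_iff.mp hεc
      (red M (classIndicator g - centralChar (χ₁ : G → ℂ) g • deltaOne))
    rw [pow_two]
    set z := red M (classIndicator g - centralChar (χ₁ : G → ℂ) g • deltaOne) with hz
    calc eps M B * z * (eps M B * z) = eps M B * (z * eps M B) * z := by simp only [mul_assoc]
      _ = eps M B * (eps M B * z) * z := by rw [hcomm]
      _ = (eps M B * eps M B) * z * z := by simp only [mul_assoc]
      _ = eps M B * z * z := by rw [hεε]
      _ = z * eps M B * z := by rw [hcomm]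
      _ = z * (eps M B * z) := by rw [mul_assoc]
      _ = z * (z * eps M B) := by rw [hcomm]
      _ = z * z * eps M B := by rw [mul_assoc]
      _ = 0 := hzero g
  · exfalso
    push Not at hex
    have hcls : ∀ g : G, eps M B * red M (classIndicator g) =
        res M (centralChar (χ₁ : G → ℂ) g) • eps M B := by
      intro g
      have h1 := hex g
      rw [red_sub (classIndicator g) (centralChar (χ₁ : G → ℂ) g • deltaOne)
        (fun h => NILB.lr_classIndicator hMp g h)
        (fun h => lr_mul hMp (memLocalRing_centralChar hMp χ₁ g) (NILB.lr_classIndicator hMp 1 h)),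
        red_smul _ deltaOne (memLocalRing_centralChar hMp χ₁ g)
          (fun h => NILB.lr_classIndicator hMp 1 h),
        red_deltaOne, mul_sub, sub_eq_zero, mul_smul_comm, mul_one] at h1
      exact h1
    have hle : (Subalgebra.toSubmodule
        (Subalgebra.center (AlgInt ⧸ M) (MonoidAlgebra (AlgInt ⧸ M) G))).map
        (LinearMap.mulLeft (AlgInt ⧸ M) (eps M B)) ≤ Submodule.span (AlgInt ⧸ M) {eps M B} := by
      rintro _ ⟨c, hc, rfl⟩
      have hc' : c ∈ Subalgebra.center (AlgInt ⧸ M) (MonoidAlgebra (AlgInt ⧸ M) G) := hc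
      rw [NILB.center_eq_sum c hc', LinearMap.mulLeft_apply, Finset.mul_sum]
      refine Submodule.sum_mem _ (fun K _ => ?_)
      rw [mul_smul_comm, hcls, smul_smul]
      exact Submodule.smul_mem _ _ (Submodule.subset_span rfl)
    have h1 := Submodule.finrank_mono hle
    have h2 : Module.finrank (AlgInt ⧸ M) (Submodule.span (AlgInt ⧸ M) {eps M B}) ≤ 1 :=
      (finrank_span_le_card ({eps M B} : Set (MonoidAlgebra (AlgInt ⧸ M) G))).trans (by simp)
    omega

end Block

end Cfsg.Agent.S4607P
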