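import Mathlib
import Cfsg.Prelude.Def_Blocks
import Cfsg.Prelude.Def_BlockRank
import Cfsg.Agent.Helper5.S4607Defs
import Cfsg.Agent.Helper5.BlockOrth
import Cfsg.Agent.Helper23.KleinPerfA
import Cfsg.Agent.Helper23.KleinLocalA
import Cfsg.Agent.Helper24.RealChar

/-!
# S4607 piece RANK1 (helper5): a block with two irreducible characters has one Brauer character
-/

set_option autoImplicit false
set_option linter.unusedSectionVars false

namespace Cfsg.Agent.S4607P

open Cfsg Cfsg.Agent.Helper5.Res Cfsg.Agent.Helper5.CC Cfsg.Agent.Helper24 Cfsg.Agent.Helper5.Loc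

namespace RANK1

variable {M : Ideal AlgInt} {G : Type*} [Group G] [Fintype G] [Fintype (IrrCharacter G)]
  {p : ℕ} [hp : Fact p.Prime]

/-- a character vanishing on the `p`-singular elements is alone in its block -/
theorem eq_of_vanish (hM : IsPModular p M) (B : Set (IrrCharacter G)) (hB : IsPBlock M B)
    (χ ψ : IrrCharacter G) (hχ : χ ∈ B) (hψ : ψ ∈ B)
    (hvan : ∀ g : G, p ∣ orderOf g → (χ : G → ℂ) g = 0) : χ = ψ := by
  classical
  have hMp := isPrime_of_isPModular hM
  by_contra hne
  -- `χ(1)/|G|` is a local integer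
  have h1 := Cfsg.Agent.Helper23.KPA.lr_div_card_centralizer hM ({()} : Finset Unit)
    (fun _ => (1 : ℂ)) (fun _ => χ) (fun _ _ => memLocalRing_one hMp)
    (fun g hg => by simp [hvan g hg]) 1
  have hcent : Nat.card (Subgroup.centralizer ({1} : Set G)) = Nat.card G := by
    have : Subgroup.centralizer ({1} : Set G) = ⊤ := by
      rw [Subgroup.eq_top_iff']
      intro x
      rw [Subgroup.mem_centralizer_iff]
      intro y hy
      rw [Set.mem_singleton_iff] at hy
      rw [hy, one_mul, mul_one]
    rw [this, Subgroup.card_top]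
  rw [hcent] at h1
  simp only [Finset.sum_singleton, one_mul] at h1
  -- the idempotent of `{χ}` has local-integer values
  have hlr : ∀ t : G, MemLocalRing M (blockCoeff ({χ} : Set (IrrCharacter G)) t) := by
    intro t
    rw [blockCoeff_eq]
    have : (∑ θ : IrrCharacter G, (if θ ∈ ({χ} : Set (IrrCharacter G)) then (1 : ℂ) else 0) *
        ((θ : G → ℂ) 1 * (starRingEnd ℂ) ((θ : G → ℂ) t))) =
        (χ : G → ℂ) 1 * (starRingEnd ℂ) ((χ : G → ℂ) t) := by
      rw [Finset.sum_eq_single χ]
      · rw [if_pos (Set.mem_singleton χ), one_mul]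
      · intro θ _ hθ
        rw [if_neg (by simpa using hθ), zero_mul]
      · intro h; exact absurd (Finset.mem_univ _) h
    rw [this, ← mul_assoc]
    apply lr_mul hMp
    · rw [mul_comm, ← div_eq_mul_inv]
      exact h1
    · apply memLocalRing_of_isIntegral hMp
      have := irr_isIntegral χ t
      exact (map_isIntegral_int (starRingEnd ℂ) this)
  have h2 := act_sub_act_memLocalIdeal hMp (isClassFunction_blockCoeff ({χ} : Set (IrrCharacter G)))
    hlr (sameBlock_of_mem hMp hB hχ hψ)
  rw [act_blockCoeff, act_blockCoeff, if_pos (Set.mem_singleton χ),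
    if_neg (by simpa using (Ne.symm hne)), sub_zero] at h2
  exact not_memLocalIdeal_one hMp h2

end RANK1

variable {M : Ideal AlgInt} [hMax : M.IsMaximal] {G : Type*} [Group G] [Fintype G]
  [Fintype (IrrCharacter G)]

variable {p : ℕ} [hp : Fact p.Prime]

/-- RANK1: a block with two characters has one Brauer character -/
theorem blockRank_eq_one_of_card_two (hM : IsPModular p M) (B : Set (IrrCharacter G))
    (hB : IsPBlock M B) (hcard : Nat.card B = 2) : blockRank p B = 1 := by
  classical
  have hMp := isPrime_of_isPModular hM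
  -- the two members
  have hB2 : ∃ χ₁ χ₂ : IrrCharacter G, χ₁ ≠ χ₂ ∧ B = {χ₁, χ₂} := by
    have h1 : (Finset.univ.filter (· ∈ B)).card = 2 := by
      rw [← hcard, Nat.card_eq_fintype_card, Fintype.card_subtype]
    obtain ⟨χ₁, χ₂, hne, h2⟩ := Finset.card_eq_two.mp h1
    refine ⟨χ₁, χ₂, hne, ?_⟩
    ext θ
    have := congrArg (fun s => θ ∈ s) h2
    simpa using this
  obtain ⟨χ₁, χ₂, hne, rfl⟩ := hB2
  have hpos : 0 < blockRank p ({χ₁, χ₂} : Set (IrrCharacter G)) :=
    Cfsg.Agent.Helper23.KLA.blockRank_pos p ⟨χ₁, by simp⟩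
  set v₁ : G → ℂ := pRegularPart p (χ₁ : G → ℂ) with hv₁
  set v₂ : G → ℂ := pRegularPart p (χ₂ : G → ℂ) with hv₂
  have himg : (fun χ : IrrCharacter G => pRegularPart p (χ : G → ℂ)) '' ({χ₁, χ₂} : Set _) =
      {v₁, v₂} := by
    rw [Set.image_pair]
  by_contra hne1
  -- the rank is two, so the two restrictions are independent
  have hle : blockRank p ({χ₁, χ₂} : Set (IrrCharacter G)) ≤ 2 := by
    unfold blockRank
    rw [himg]
    have := finrank_span_finset_le_card (R := ℂ) ({v₁, v₂} : Finset (G → ℂ))
    rw [Set.finrank, Finset.coe_insert, Finset.coe_singleton] at this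
    exact this.trans Finset.card_le_two
  have h2 : blockRank p ({χ₁, χ₂} : Set (IrrCharacter G)) = 2 := by omega
  have hli : LinearIndependent ℂ ![v₁, v₂] := by
    rw [linearIndependent_iff_card_eq_finrank_span]
    have hr : Set.range ![v₁, v₂] = {v₁, v₂} := by
      ext x
      simp only [Set.mem_range, Set.mem_insert_iff, Set.mem_singleton_iff]
      constructor
      · rintro ⟨i, rfl⟩
        fin_cases i <;> simp
      · rintro (rfl | rfl)
        · exact ⟨0, rfl⟩
        · exact ⟨1, rfl⟩
    rw [hr]
    unfold blockRank at h2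
    rw [himg] at h2
    rw [Set.finrank, h2]
    simp
  -- block orthogonality forces vanishing on the `p`-singular elements
  have hvan : ∀ y : G, p ∣ orderOf y → (χ₁ : G → ℂ) y = 0 := by
    intro y hy
    have h5 : (starRingEnd ℂ) ((χ₁ : G → ℂ) y) • v₁ + (starRingEnd ℂ) ((χ₂ : G → ℂ) y) • v₂ = 0 := by
      funext x
      simp only [Pi.add_apply, Pi.smul_apply, smul_eq_mul, Pi.zero_apply, hv₁, hv₂]
      unfold pRegularPart IsPRegular
      by_cases hx : ¬ p ∣ orderOf x
      · rw [if_pos hx, if_pos hx]
        have h6 := block_orthogonality hM hB x y hx hy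
        simp only [ite_mul, one_mul, zero_mul] at h6
        rw [← Finset.sum_filter] at h6
        have h7 : Finset.univ.filter (fun χ : IrrCharacter G => χ ∈ ({χ₁, χ₂} : Set _)) =
            {χ₁, χ₂} := by
          ext θ; simp
        rw [h7, Finset.sum_pair hne] at h6
        linear_combination h6
      · rw [if_neg hx, if_neg hx, mul_zero, mul_zero, add_zero]
    have h8 := LinearIndependent.pair_iff.mp hli _ _ h5
    have := h8.1
    simpa using this
  exact hne (RANK1.eq_of_vanish hM _ hB χ₁ χ₂ (by simp) (by simp) hvan)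

end Cfsg.Agent.S4607P

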