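import Mathlib
import Cfsg.Agent.Helper5.S4607Defs
import Cfsg.Agent.Helper20.S4607DUAL
import Cfsg.Agent.Helper20.S4607ONE
import Cfsg.Agent.Helper1.S4607LIFT
import Cfsg.Agent.Helper26.S4607PEIRCE
import Cfsg.Agent.Helper14.S4607TRACE
import Cfsg.Agent.Helper26.S4607LOCAL

set_option autoImplicit false

/-!
# S4607, assembly RT (helper5): a finite-dimensional symmetric algebra over an algebraically closed
field whose centre is two-dimensional and contains a nonzero nilpotent has dimension `2 n²`.

Pieces used: DUAL (helper20), ONE (helper20), LIFT (helper1), PEIRCE (helper26), TRACE (helper14),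
LOCAL (helper26).
-/

namespace Cfsg.Agent.S4607P

section Ring

universe u v

variable {k : Type u} {B : Type v} [Field k] [Ring B] [Algebra k B]

/-- RT (assembly, helper5): a finite-dimensional symmetric algebra over an algebraically closed field
whose centre is two-dimensional and contains a nonzero nilpotent has dimension `2 n²` -/
theorem finrank_eq_two_mul_sq [IsAlgClosed k] [FiniteDimensional k B] (lam : B →ₗ[k] k)
    (h : IsSymForm lam) (hZ : Module.finrank k (Subalgebra.center k B) = 2)
    (z : B) (hz : z ∈ Subalgebra.center k B) (hz0 : z ≠ 0) (hznil : IsNilpotent z) :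
    ∃ n : ℕ, Module.finrank k B = 2 * n ^ 2 := by
  obtain ⟨n, f, hf, m, hm⟩ := exists_surj_matrix lam h hZ z hz hz0 hznil
  have hnil : ∀ x : B, f x = 0 → IsNilpotent x := by
    intro x hx
    refine ⟨m, ?_⟩
    have := hm (List.replicate m x) (fun y hy => by rw [List.eq_of_mem_replicate hy]; exact hx)
      (List.length_replicate ..)
    rwa [List.prod_replicate] at this
  obtain ⟨e, u, v, hsys, hsplit⟩ := exists_unitSystem n f hf hnil
  have h1 := finrank_center_add_finrank_commSpace lam h
  have h2 := finrank_corner_add_commSpace k e u v hsys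
  have h3 := finrank_eq_sq_mul_corner k e u v hsys
  have he0 : e 0 * e 0 = e 0 := by
    have := hsys.orth 0 0
    rwa [if_pos rfl] at this
  -- the radical of the corner
  let N : Submodule k B := corner k (e 0) ⊓ LinearMap.ker f.toLinearMap
  have hcodim : Module.finrank k (corner k (e 0)) = Module.finrank k (cornerComm k (e 0)) + 2 := by
    omega
  have h4 : Module.finrank k (corner k (e 0)) = 2 := by
    refine finrank_corner_eq_two (e 0) he0 N inf_le_left ?_ ?_ ?_ hcodim
    · intro a ha
      obtain ⟨c, hc⟩ := hsplit a ha
      refine ⟨c, ⟨?_, hc⟩⟩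
      refine Submodule.sub_mem _ ha (Submodule.smul_mem _ _ ?_)
      show e 0 * e 0 * e 0 = e 0
      rw [he0, he0]
    · intro x hx y hy
      refine ⟨?_, ?_⟩
      · show e 0 * (x * y) * e 0 = x * y
        have hx1 : e 0 * x * e 0 = x := hx.1
        have hy1 : e 0 * y * e 0 = y := hy.1
        have hxl : e 0 * x = x := by
          calc e 0 * x = e 0 * (e 0 * x * e 0) := by rw [hx1]
            _ = e 0 * e 0 * x * e 0 := by simp only [mul_assoc]
            _ = x := by rw [he0, hx1]
        have hyr : y * e 0 = y := by
          calc y * e 0 = e 0 * y * e 0 * e 0 := by rw [hy1]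
            _ = e 0 * y * (e 0 * e 0) := by simp only [mul_assoc]
            _ = y := by rw [he0, hy1]
        calc e 0 * (x * y) * e 0 = (e 0 * x) * (y * e 0) := by simp only [mul_assoc]
          _ = x * y := by rw [hxl, hyr]
      · show f (x * y) = 0
        have hx2 : f x = 0 := hx.2
        rw [map_mul, hx2, zero_mul]
    · refine ⟨m, fun L hL hlen => hm L (fun x hx => (hL x hx).2) hlen⟩
  exact ⟨n + 1, by rw [h3, h4]; ring⟩

end Ring

end Cfsg.Agent.S4607P
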