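import Mathlib
import Cfsg.Prelude.Def_Blocks
import Cfsg.Prelude.Def_BlockRank
import Cfsg.Agent.Helper5.S4607Defs
import Cfsg.Agent.Helper5.S4607RT
import Cfsg.Agent.Helper5.S4607RANK1
import Cfsg.Agent.Helper5.S4607NILB
import Cfsg.Agent.Helper1.S4607CEN
import Cfsg.Agent.Helper7.S4607ALGCL
import Cfsg.Agent.Helper7.S4607EPS
import Cfsg.Agent.Helper7.S4607DIMB
import Cfsg.Agent.Helper8.S4607CARTAN2
import Cfsg.Agent.Helper8.S4607ARITH
import Cfsg.Agent.Helper14.S4607CORNER
import Cfsg.Agent.Helper20.S4607GFORM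

set_option autoImplicit false

/-!
# S4607, assembly DEG (helper5): a block with two irreducible characters has defect `d` with
`p ^ d = 2`.

`k(B) = 2` gives `l(B) = 1` (RANK1), hence degrees `d₁ f, d₂ f` with `d₁² + d₂² = p^d` (CARTAN2).
The block algebra `ε k[G]` over the algebraically closed residue field is symmetric (GFORM, CORNER),
its centre has dimension `k(B) = 2` (CEN) and contains a nonzero nilpotent (NILB), so its dimension
`(d₁ f)² + (d₂ f)²` (DIMB) is of the form `2 n²` (RT); ARITH concludes.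
-/

namespace Cfsg.Agent.S4607P

open Cfsg Cfsg.Agent.Helper5.Res Cfsg.Agent.Helper5.CC Cfsg.Agent.Helper24

section Block

variable {M : Ideal AlgInt} [hMax : M.IsMaximal] {G : Type*} [Group G] [Fintype G]
  [Fintype (IrrCharacter G)]

variable {p : ℕ} [hp : Fact p.Prime]

open Classical in
/-- DEG (assembly, helper5) -/
theorem pow_blockDefect_eq_two (hM : IsPModular p M) (B : Set (IrrCharacter G))
    (hB : IsPBlock M B) (hcard : Nat.card B = 2) : p ^ blockDefect p B = 2 := by
  have hl := blockRank_eq_one_of_card_two hM B hB hcard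
  obtain ⟨χ₁, χ₂, d₁, d₂, f, hne, hB2, hf, hcop, h1, h2, h3⟩ :=
    exists_degree_data hM B hB hcard hl
  haveI := isAlgClosed_quot (M := M)
  have hZ := finrank_center_eps (M := M) B hB
  rw [hcard] at hZ
  obtain ⟨z, hz, hz0, hznil⟩ := exists_nilpotent_center B hB hcard hZ
  obtain ⟨n, hn⟩ := finrank_range_eq_two_mul_sq_of
    (fun B' _ _ _ lam' h' hZ' z' hz' hz0' hznil' =>
      finrank_eq_two_mul_sq lam' h' hZ' z' hz' hz0' hznil')
    (lamG (AlgInt ⧸ M) G) (isSymForm_lamG _ G) (eps M B) (eps_mul_eps B hB) (eps_mem_center B)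
    hZ z hz hz0 hznil
  rw [finrank_range_eps B hB] at hn
  have hsum : (∑ χ : IrrCharacter G, if χ ∈ B then irrDeg χ ^ 2 else 0) =
      irrDeg χ₁ ^ 2 + irrDeg χ₂ ^ 2 := by
    rw [← Finset.sum_filter]
    have : Finset.univ.filter (fun χ : IrrCharacter G => χ ∈ B) = {χ₁, χ₂} := by
      ext χ
      simp [hB2]
    rw [this, Finset.sum_pair hne]
  refine pow_eq_two_of_sq_add_sq hp.out _ d₁ d₂ f n hf hcop h3 ?_
  rw [← h1, ← h2, ← hsum]
  exact hn

end Block

end Cfsg.Agent.S4607P
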