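import Mathlib
import Cfsg.Prelude.Def_Characters
import Cfsg.Prelude.Def_Blocks
import Cfsg.Agent.Helper24.Abelian
import Cfsg.Agent.Helper24.Linear
import Cfsg.Agent.Helper24.ColumnOrth
import Cfsg.Agent.Helper1.W2pDefs
import Cfsg.Agent.Lead.S4705Defs
import Cfsg.Agent.Helper15.O7920n
import Cfsg.Agent.Helper8.PrincipalParity

set_option autoImplicit false
set_option maxHeartbeats 800000
set_option linter.unusedSectionVars false

/-! S4705 piece IDH, part a: group theory in `N(Q)` (dihedral of order `2p`). -/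

namespace Cfsg.Agent.Helper5.S4705IDH

open Cfsg Cfsg.Agent.Helper24 Cfsg.Agent.Helper1.W2p
open scoped ComplexConjugate

universe u
variable {H : Type u} [Group H] [Finite H]

theorem comm_of_centralizer (Q : Subgroup H)
    (hC : Subgroup.centralizer (Q : Set H) = Q) : ∀ a ∈ Q, ∀ b ∈ Q, a * b = b * a := by
  intro a ha b hb
  have hb' : b ∈ Subgroup.centralizer (Q : Set H) := by rw [hC]; exact hb
  exact Subgroup.mem_centralizer_iff.mp hb' a ha

theorem mul_self_of_orderOf_two {t : H} (ht : orderOf t = 2) : t * t = 1 := by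
  rw [← pow_two, ← ht]; exact pow_orderOf_eq_one t

theorem inv_of_orderOf_two {t : H} (ht : orderOf t = 2) : t⁻¹ = t :=
  inv_eq_of_mul_eq_one_left (mul_self_of_orderOf_two ht)

/-- every element of `Q` is a power of a nontrivial element -/
theorem exists_pow_eq (p : ℕ) [Fact p.Prime] (Q : Subgroup H) (hQ : Nat.card Q = p)
    {w : H} (hw : w ∈ Q) (hw1 : w ≠ 1) {q : H} (hq : q ∈ Q) : ∃ k : ℤ, w ^ k = q := by
  have hne : (⟨w, hw⟩ : Q) ≠ 1 := by
    intro h; exact hw1 (congrArg Subtype.val h)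
  have htop := zpowers_eq_top_of_prime_card hQ hne
  have hmem : (⟨q, hq⟩ : Q) ∈ Subgroup.zpowers (⟨w, hw⟩ : Q) := by rw [htop]; trivial
  obtain ⟨k, hk⟩ := Subgroup.mem_zpowers_iff.mp hmem
  refine ⟨k, ?_⟩
  have := congrArg Subtype.val hk
  simpa using this

theorem not_mem_of_orderOf_two (p : ℕ) [Fact p.Prime] (hp2 : p ≠ 2) (Q : Subgroup H)
    (hQ : Nat.card Q = p) {t : H} (ht : orderOf t = 2) : t ∉ Q := by
  intro h
  have h1 := orderOf_dvd_natCard (⟨t, h⟩ : Q)
  rw [Subgroup.orderOf_mk, hQ, ht] at h1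
  have := (Nat.prime_dvd_prime_iff_eq Nat.prime_two (Fact.out : p.Prime)).mp h1
  exact hp2 this.symm

/-- an involution normalizing `Q` inverts it -/
theorem inverts (p : ℕ) [Fact p.Prime] (hp2 : p ≠ 2) (Q : Subgroup H) (hQ : Nat.card Q = p)
    (hC : Subgroup.centralizer (Q : Set H) = Q) (t : H) (ht : orderOf t = 2)
    (htN : t ∈ Subgroup.normalizer (Q : Set H)) : ∀ y ∈ Q, t * y * t⁻¹ = y⁻¹ := by
  intro y hy
  have hty : t * y * t⁻¹ ∈ Q := (Subgroup.mem_normalizer_iff.mp htN y).mp hy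
  have ht2 := mul_self_of_orderOf_two ht
  have htinv := inv_of_orderOf_two ht
  have hcomm := comm_of_centralizer Q hC
  by_contra hne
  have hwQ : y * (t * y * t⁻¹) ∈ Q := Q.mul_mem hy hty
  have hw1 : y * (t * y * t⁻¹) ≠ 1 := by
    intro h
    exact hne (eq_inv_of_mul_eq_one_right h)
  have hfix : t * (y * (t * y * t⁻¹)) = (y * (t * y * t⁻¹)) * t := by
    have h1 : t * (y * (t * y * t⁻¹)) = (t * y * t⁻¹) * (t * t) * y * t⁻¹ := by group
    rw [h1, ht2, mul_one, htinv]
    have h2 := hcomm _ hty _ hy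
    rw [htinv] at h2
    rw [h2]
  -- t centralizes Q
  have htC : t ∈ Subgroup.centralizer (Q : Set H) := by
    rw [Subgroup.mem_centralizer_iff]
    intro q hq
    obtain ⟨k, hk⟩ := exists_pow_eq p Q hQ hwQ hw1 hq
    rw [← hk]
    have : Commute t (y * (t * y * t⁻¹)) := hfix
    exact (this.zpow_right k).eq.symm
  rw [hC] at htC
  exact not_mem_of_orderOf_two p hp2 Q hQ ht htC

/-- `t y` is conjugate to `t` for `y ∈ Q` -/
theorem isConj_mul (p : ℕ) [Fact p.Prime] (hp2 : p ≠ 2) (Q : Subgroup H) (hQ : Nat.card Q = p)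
    (t : H) (hinv : ∀ y ∈ Q, t * y * t⁻¹ = y⁻¹) : ∀ y ∈ Q, IsConj t (t * y) := by
  intro y hy
  have hodd : p % 2 = 1 := by
    rcases (Fact.out : p.Prime).eq_two_or_odd with h | h
    · exact absurd h hp2
    · exact h
  have hyp : y ^ p = 1 := by
    have h1 := orderOf_dvd_natCard (⟨y, hy⟩ : Q)
    rw [Subgroup.orderOf_mk, hQ] at h1
    exact orderOf_dvd_iff_pow_eq_one.mp h1
  set u := y ^ ((p - 1) / 2) with hu
  have huQ : u ∈ Q := Q.pow_mem hy _
  have hu2 : u * u * y = 1 := by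
    rw [hu, ← pow_add, ← pow_succ]
    have : (p - 1) / 2 + (p - 1) / 2 + 1 = p := by omega
    rw [this, hyp]
  have h1 := hinv u huQ
  rw [isConj_iff]
  refine ⟨u, ?_⟩
  -- t u t⁻¹ = u⁻¹ → u t u⁻¹ = t u⁻¹ u⁻¹ = t y
  have h2 : t * u = u⁻¹ * t := by
    have := congrArg (· * t) h1
    simpa [mul_assoc] using this
  have h3 : u * t = t * u⁻¹ := by
    have : u * (t * u) * u⁻¹ = u * (u⁻¹ * t) * u⁻¹ := by rw [h2]
    have h4 : u * (t * u) * u⁻¹ = u * t := by group
    have h5 : u * (u⁻¹ * t) * u⁻¹ = t * u⁻¹ := by group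
    rw [h4, h5] at this
    exact this
  have h6 : u⁻¹ * u⁻¹ = y := by
    have : y = (u * u)⁻¹ := eq_inv_of_mul_eq_one_right hu2
    rw [this, mul_inv_rev]
  rw [h3, mul_assoc, h6]

/-- the number of factorizations of `x ∈ Q ∖ 1` as a product of two conjugates of `t` -/
theorem card_pairs (p : ℕ) [Fact p.Prime] (hp2 : p ≠ 2) (Q : Subgroup H) (hQ : Nat.card Q = p)
    (hC : Subgroup.centralizer (Q : Set H) = Q) (he : eN Q = 2)
    (t : H) (ht : orderOf t = 2) (htN : t ∈ Subgroup.normalizer (Q : Set H))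
    (x : H) (hx : x ∈ Q) (hx1 : x ≠ 1) :
    Nat.card {s : H // IsConj t s ∧ IsConj t (s⁻¹ * x)} = p := by
  have hinv := inverts p hp2 Q hQ hC t ht htN
  have hconj := isConj_mul p hp2 Q hQ t hinv
  have ht2 := mul_self_of_orderOf_two ht
  have htinv := inv_of_orderOf_two ht
  have hcomm := comm_of_centralizer Q hC
  have htQ : t ∉ Q := not_mem_of_orderOf_two p hp2 Q hQ ht
  -- squares of conjugates of t
  have hsq : ∀ s : H, IsConj t s → s * s = 1 := by
    intro s hs
    obtain ⟨c, hc⟩ := isConj_iff.mp hs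
    rw [← hc]
    have : c * t * c⁻¹ * (c * t * c⁻¹) = c * (t * t) * c⁻¹ := by group
    rw [this, ht2]; group
  have hs1 : ∀ s : H, IsConj t s → s ≠ 1 := by
    intro s hs h
    rw [h] at hs
    have := isConj_one_left.mp hs
    rw [this, orderOf_one] at ht
    omega
  rw [← hQ]
  symm
  refine Nat.card_congr (Equiv.ofBijective
    (fun y : Q => (⟨t * (y : H), ?_⟩ : {s : H // IsConj t s ∧ IsConj t (s⁻¹ * x)})) ⟨?_, ?_⟩)
  · refine ⟨hconj y y.2, ?_⟩
    -- (t y)⁻¹ x = t (x y)
    have h1 : (t * (y : H))⁻¹ * x = t * (x * y) := by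
      have hxy : x * (y : H) ∈ Q := Q.mul_mem hx y.2
      have h2 := hinv _ hxy
      -- t (x y) t⁻¹ = (x y)⁻¹ → t (x y) = (x y)⁻¹ t = y⁻¹ x⁻¹ t
      have h3 : t * (x * y) = (x * (y : H))⁻¹ * t := by
        have := congrArg (· * t) h2
        simpa [mul_assoc] using this
      -- want y⁻¹ t⁻¹ x = (xy)⁻¹ t ; t⁻¹ x = t x = x⁻¹ t
      have h4 := hinv x hx
      have h5 : t * x = x⁻¹ * t := by
        have := congrArg (· * t) h4
        simpa [mul_assoc] using this
      rw [h3, mul_inv_rev, htinv, mul_assoc, h5, mul_inv_rev]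
      have := hcomm _ (Q.inv_mem y.2) _ (Q.inv_mem hx)
      rw [← mul_assoc, this, mul_assoc]
    rw [h1]
    exact hconj _ (Q.mul_mem hx y.2)
  · intro y y' hyy'
    have := congrArg Subtype.val hyy'
    simp only [mul_right_inj] at this
    exact Subtype.ext this
  · rintro ⟨s, hs, hs'⟩
    have hss := hsq s hs
    have hsinv : s⁻¹ = s := inv_eq_of_mul_eq_one_left hss
    have hss' := hsq _ hs'
    rw [hsinv] at hss'
    -- s x s⁻¹ = x⁻¹
    have hsx : s * x * s⁻¹ = x⁻¹ := by
      rw [hsinv]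
      have : s * x * s * x = 1 := by rw [← hss']; group
      exact eq_inv_of_mul_eq_one_left this
    -- s normalizes Q
    have hfwd : ∀ h ∈ Q, s * h * s⁻¹ ∈ Q := by
      intro h hh
      obtain ⟨k, hk⟩ := exists_pow_eq p Q hQ hx hx1 hh
      rw [← hk]
      have : s * x ^ k * s⁻¹ = (s * x * s⁻¹) ^ k := by
        rw [conj_zpow]
      rw [this, hsx]
      exact Q.zpow_mem (Q.inv_mem hx) k
    have hsN : s ∈ Subgroup.normalizer (Q : Set H) := by
      rw [Subgroup.mem_normalizer_iff]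
      intro h
      refine ⟨hfwd h, ?_⟩
      intro hh
      have := hfwd _ hh
      rw [hsinv] at this
      have h2 : s * (s * h * s) * s = (s * s) * h * (s * s) := by group
      rw [h2, hss, one_mul, mul_one] at this
      exact this
    have hsQ : s ∉ Q := by
      intro h
      have h1 := hcomm s h x hx
      have h2 : s * x * s⁻¹ = x := by rw [h1]; group
      rw [hsx] at h2
      have h3 : x * x = 1 := by
        nth_rewrite 1 [← h2]; group
      have h4 : orderOf x ∣ 2 := orderOf_dvd_of_pow_eq_one (by rw [pow_two]; exact h3)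
      have h5 := orderOf_dvd_natCard (⟨x, hx⟩ : Q)
      rw [Subgroup.orderOf_mk, hQ] at h5
      have hpr : p.Prime := Fact.out
      rcases (Nat.dvd_prime hpr).mp h5 with h6 | h6
      · exact hx1 (orderOf_eq_one_iff.mp h6)
      · rw [h6] at h4
        have := (Nat.prime_dvd_prime_iff_eq hpr Nat.prime_two).mp h4
        exact hp2 this
    -- index two
    have hidx : (Q.subgroupOf (Subgroup.normalizer (Q : Set H))).index = 2 := he
    have key := Subgroup.mul_mem_iff_of_index_two hidx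
      (a := (⟨t⁻¹, (Subgroup.normalizer (Q : Set H)).inv_mem htN⟩ :
        Subgroup.normalizer (Q : Set H)))
      (b := (⟨s, hsN⟩ : Subgroup.normalizer (Q : Set H)))
    simp only [Subgroup.mem_subgroupOf, Subgroup.coe_mul] at key
    have hy : t⁻¹ * s ∈ Q := by
      rw [key]
      constructor
      · intro h; exact absurd (by simpa using Q.inv_mem h) htQ
      · intro h; exact absurd h hsQ
    refine ⟨⟨t⁻¹ * s, hy⟩, ?_⟩
    apply Subtype.ext
    simp

end Cfsg.Agent.Helper5.S4705IDH
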