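import Cfsg.Agent.Helper5.S4705IDHa

set_option autoImplicit false
set_option maxHeartbeats 1000000
set_option linter.unusedSectionVars false
set_option linter.style.haveILetI false

/-! S4705 piece IDH, part b: the class multiplication identity with `BrauerData`. -/

namespace Cfsg.Agent.Helper5.S4705IDH

open Cfsg Cfsg.Agent.Helper24 Cfsg.Agent.Helper1.W2p
open scoped ComplexConjugate

universe u
variable {H : Type u} [Group H] [Finite H]

theorem exists_X (p : ℕ) (Q : Subgroup H) (he : eN Q = 2) (D : BrauerData p Q) :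
    ∃ χ : IrrCharacter H, χ ∈ D.X ∧ χ ≠ trivIrr H ∧ D.X = {trivIrr H, χ} := by
  have hX2 : (D.X).ncard = 2 := by
    rw [← _root_.Nat.card_coe_set_eq, D.card_X, he]
  obtain ⟨x1, x2, hx12, hXeq⟩ := Set.ncard_eq_two.mp hX2
  have ht := D.triv_mem
  rw [hXeq] at ht
  rcases ht with h | h
  · refine ⟨x2, ?_, ?_, ?_⟩
    · rw [hXeq]; exact Set.mem_insert_of_mem _ rfl
    · rw [h]; exact fun h' => hx12 h'.symm
    · rw [hXeq, h]
  · have h' : trivIrr H = x2 := h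
    refine ⟨x1, ?_, ?_, ?_⟩
    · rw [hXeq]; exact Set.mem_insert _ _
    · rw [h']; exact hx12
    · rw [hXeq, h', Set.pair_comm]

theorem exists_Y (p : ℕ) (hp5 : 5 ≤ p) (Q : Subgroup H) (he : eN Q = 2) (D : BrauerData p Q) :
    ∃ ψ : IrrCharacter H, ψ ∈ D.Y := by
  have h := D.card_Y
  rw [he] at h
  have hpos : 0 < Nat.card D.Y := by omega
  haveI : Nonempty D.Y := (Nat.card_pos_iff.mp hpos).1
  obtain ⟨ψ⟩ := (inferInstance : Nonempty D.Y)
  exact ⟨ψ.1, ψ.2⟩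

/-- the relation for two non-exceptional characters -/
theorem rel_two (p : ℕ) (Q : Subgroup H) (D : BrauerData p Q) (χ₁ : IrrCharacter H)
    (hχ1 : χ₁ ≠ trivIrr H) (hXeq : D.X = {trivIrr H, χ₁}) (ψ : IrrCharacter H) (hψ : ψ ∈ D.Y)
    (g : H) (hg : ¬ p ∣ orderOf g) :
    (ψ : H → ℂ) g = (D.ε : ℂ) * (1 + (D.δ χ₁ : ℂ) * (χ₁ : H → ℂ) g) := by
  have h := D.rel ψ hψ g hg
  rw [hXeq, finsum_mem_pair hχ1.symm, D.δ_triv, trivIrr_apply] at h
  have hee : (D.ε : ℂ) * (D.ε : ℂ) = 1 := by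
    rcases D.ε_pm with h | h <;> rw [h] <;> norm_num
  have : (ψ : H → ℂ) g = (D.ε : ℂ) * ((D.ε : ℂ) * (ψ : H → ℂ) g) := by
    rw [← mul_assoc, hee, one_mul]
  rw [this, ← h]
  push_cast
  ring

open Classical in
theorem finsum_split (Q : Subgroup H) [Fintype Q] (f : H → ℂ) :
    ∑ᶠ y : Q, f (y : H) = f 1 + ∑ y ∈ (Finset.univ.erase (1 : Q)), f (y : H) := by
  classical
  rw [finsum_eq_sum_of_fintype]
  rw [← Finset.add_sum_erase Finset.univ (fun y : Q => f (y : H)) (Finset.mem_univ (1 : Q))]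
  rfl

theorem not_dvd_two (p : ℕ) (hp5 : 5 ≤ p) {t : H} (ht : orderOf t = 2) : ¬ p ∣ orderOf t := by
  rw [ht]
  intro h
  have := Nat.le_of_dvd (by norm_num) h
  omega

/-- pure algebra -/
theorem algebra_aux (b c d e SY S : ℂ) (hd : d = 1 ∨ d = -1) (hee : e * e = 1)
    (hc0 : c ≠ 0) (h1dc : 1 + d * c ≠ 0)
    (hcol : 1 + c * d + e * (1 + d * c) * SY = 0)
    (hS : S = 1 + d * b * b / c + e * (1 + d * b) ^ 2 / (1 + d * c) * SY) :
    S * (c * (c + d)) = (c - b) ^ 2 := by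
  have hSY : SY = -e := by
    have h1 : (1 + d * c) * (SY + e) = 0 := by
      have : (1 + d * c) * (SY + e) = e * (1 + c * d + e * (1 + d * c) * SY)
          + (1 - e * e) * (1 + d * c) * SY := by ring
      rw [this, hcol, hee]; ring
    rcases mul_eq_zero.mp h1 with h | h
    · exact absurd h h1dc
    · linear_combination h
  have h3 : e * (1 + d * b) ^ 2 / (1 + d * c) * (-e) = -((1 + d * b) ^ 2 / (1 + d * c)) := by
    rw [show e * (1 + d * b) ^ 2 / (1 + d * c) * (-e) =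
      -((e * e) * ((1 + d * b) ^ 2 / (1 + d * c))) by ring, hee, one_mul]
  rw [hS, hSY, h3]
  rcases hd with hd | hd
  · subst hd
    have h2 : (1 : ℂ) + c ≠ 0 := by simpa using h1dc
    simp only [one_mul]
    field_simp
    ring
  · subst hd
    have h2 : (1 : ℂ) - c ≠ 0 := by
      intro h; apply h1dc; linear_combination h
    have h4 : (1 : ℂ) + -1 * c = 1 - c := by ring
    rw [h4]
    field_simp
    ring

theorem main_identity (p : ℕ) [Fact p.Prime] (hp5 : 5 ≤ p) (Q : Subgroup H)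
    (hQ : Nat.card Q = p) (hC : Subgroup.centralizer (Q : Set H) = Q) (he : eN Q = 2)
    (D : BrauerData p Q) (t : H) (ht : orderOf t = 2)
    (htN : t ∈ Subgroup.normalizer (Q : Set H))
    (χ₁ : IrrCharacter H) (hχX : χ₁ ∈ D.X) (hχ1 : χ₁ ≠ trivIrr H)
    (hXeq : D.X = {trivIrr H, χ₁}) (b : ℤ) (hb : (χ₁ : H → ℂ) t = (b : ℂ)) :
    (p : ℤ) * (Nat.card (Subgroup.centralizer ({t} : Set H)) : ℤ) ^ 2 * (irrDeg χ₁ : ℤ) *
        ((irrDeg χ₁ : ℤ) + D.δ χ₁) = (Nat.card H : ℤ) * ((irrDeg χ₁ : ℤ) - b) ^ 2 := by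
  classical
  haveI : Fintype H := Fintype.ofFinite H
  haveI : Fintype (IrrCharacter H) := Fintype.ofFinite _
  have hp2 : p ≠ 2 := by omega
  -- a nontrivial element of Q
  obtain ⟨x, hx, hx1⟩ : ∃ x : H, x ∈ Q ∧ x ≠ 1 := by
    haveI : Nontrivial Q := by
      rw [← Finite.one_lt_card_iff_nontrivial, hQ]; omega
    obtain ⟨y, hy⟩ := exists_ne (1 : Q)
    exact ⟨y, y.2, fun h => hy (Subtype.ext h)⟩
  have hN := card_pairs p hp2 Q hQ hC he t ht htN x hx hx1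
  have key := Cfsg.Agent.Helper15.O7920.card_factorizations_gen t t x
  rw [hN] at key
  have hcol := sum_irr_mul_conj (1 : H) x
  rw [if_neg (by rw [isConj_one_right]; exact hx1)] at hcol
  -- notation
  have hδ := D.δ_pm χ₁ hχX
  have hd : (D.δ χ₁ : ℂ) = 1 ∨ (D.δ χ₁ : ℂ) = -1 := by
    rcases hδ with h | h <;> rw [h] <;> norm_num
  have hee : (D.ε : ℂ) * (D.ε : ℂ) = 1 := by
    rcases D.ε_pm with h | h <;> rw [h] <;> norm_num
  have hcpos := irrDeg_pos χ₁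
  have hc0 : (irrDeg χ₁ : ℂ) ≠ 0 := by exact_mod_cast hcpos.ne'
  have hreg1 : ¬ p ∣ orderOf (1 : H) := by
    rw [orderOf_one]; intro h; have := Nat.le_of_dvd (by norm_num) h; omega
  have hregt := not_dvd_two p hp5 ht
  have htrivY : trivIrr H ∉ D.Y := fun h => (Set.disjoint_left.mp D.disj D.triv_mem) h
  have hχY : χ₁ ∉ D.Y := fun h => (Set.disjoint_left.mp D.disj hχX) h
  have hdeg1 : ((irrDeg χ₁ : ℤ)) ≡ D.δ χ₁ [ZMOD p] := D.deg_X χ₁ hχX
  have h1dc : (1 : ℂ) + (D.δ χ₁ : ℂ) * (irrDeg χ₁ : ℂ) ≠ 0 := by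
    rcases hδ with h | h
    · rw [h]
      have : (1 : ℤ) + 1 * (irrDeg χ₁ : ℤ) ≠ 0 := by omega
      exact_mod_cast this
    · rw [h]
      rw [h] at hdeg1
      have h3 : (p : ℤ) ∣ -1 - (irrDeg χ₁ : ℤ) := hdeg1.dvd
      have : (1 : ℤ) + (-1) * (irrDeg χ₁ : ℤ) ≠ 0 := by
        intro h4
        have h5 : (irrDeg χ₁ : ℤ) = 1 := by omega
        rw [h5] at h3
        have h6 : (p : ℤ) ∣ 2 := by
          have : (-1 - 1 : ℤ) = -2 := by norm_num
          rw [this] at h3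
          exact (dvd_neg).mp h3
        have := Int.le_of_dvd (by norm_num) h6
        omega
      exact_mod_cast this
  -- values on Y
  have hYt : ∀ ψ ∈ D.Y, (ψ : H → ℂ) t = (D.ε : ℂ) * (1 + (D.δ χ₁ : ℂ) * (b : ℂ)) := by
    intro ψ hψ
    rw [rel_two p Q D χ₁ hχ1 hXeq ψ hψ t hregt, hb]
  have hY1 : ∀ ψ ∈ D.Y, (ψ : H → ℂ) 1 = (D.ε : ℂ) * (1 + (D.δ χ₁ : ℂ) * (irrDeg χ₁ : ℂ)) := by
    intro ψ hψ
    rw [rel_two p Q D χ₁ hχ1 hXeq ψ hψ 1 hreg1, irrDeg_spec]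
  have hχx : (χ₁ : H → ℂ) x = (D.δ χ₁ : ℂ) := D.val_X χ₁ hχX x hx hx1
  have hconjd : conj ((D.δ χ₁ : ℂ)) = (D.δ χ₁ : ℂ) := by
    rw [← Complex.ofReal_intCast, Complex.conj_ofReal]
  have hnotX : ∀ ψ : IrrCharacter H, ψ ≠ trivIrr H → ψ ≠ χ₁ → ψ ∉ D.X := by
    intro ψ h1 h2 h
    rw [hXeq] at h
    rcases h with h | h
    · exact h1 h
    · exact h2 h
  set d : ℂ := (D.δ χ₁ : ℂ) with hd_def
  set e : ℂ := (D.ε : ℂ) with he_def
  set c : ℂ := (irrDeg χ₁ : ℂ) with hc_def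
  -- termwise formulas
  have hF : ∀ ψ : IrrCharacter H, (ψ : H → ℂ) t * (ψ : H → ℂ) t * conj ((ψ : H → ℂ) x) /
      (ψ : H → ℂ) 1 = (if ψ = trivIrr H then (1 : ℂ) else 0)
        + (if ψ = χ₁ then d * b * b / c else 0)
        + (if ψ ∈ D.Y then e * (1 + d * b) ^ 2 / (1 + d * c) * conj ((ψ : H → ℂ) x) else 0) := by
    intro ψ
    by_cases h1 : ψ = trivIrr H
    · rw [if_pos h1, if_neg (by rw [h1]; exact hχ1.symm), if_neg (by rw [h1]; exact htrivY), h1]
      simp [trivIrr_apply]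
    · by_cases h2 : ψ = χ₁
      · rw [if_neg h1, if_pos h2, if_neg (by rw [h2]; exact hχY), h2, hb, hχx, hconjd, irrDeg_spec]
        ring
      · by_cases h3 : ψ ∈ D.Y
        · rw [if_neg h1, if_neg h2, if_pos h3, hYt ψ h3, hY1 ψ h3]
          have hene : e ≠ 0 := by
            intro h; rw [h] at hee; simp at hee
          field_simp
          ring
        · rw [if_neg h1, if_neg h2, if_neg h3,
            D.val_other ψ (hnotX ψ h1 h2) h3 x hx hx1]
          simp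
  have hG : ∀ ψ : IrrCharacter H, (ψ : H → ℂ) 1 * conj ((ψ : H → ℂ) x) =
      (if ψ = trivIrr H then (1 : ℂ) else 0)
        + (if ψ = χ₁ then c * d else 0)
        + (if ψ ∈ D.Y then e * (1 + d * c) * conj ((ψ : H → ℂ) x) else 0) := by
    intro ψ
    by_cases h1 : ψ = trivIrr H
    · rw [if_pos h1, if_neg (by rw [h1]; exact hχ1.symm), if_neg (by rw [h1]; exact htrivY), h1]
      simp [trivIrr_apply]
    · by_cases h2 : ψ = χ₁
      · rw [if_neg h1, if_pos h2, if_neg (by rw [h2]; exact hχY), h2, hχx, hconjd, irrDeg_spec,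
          ← hc_def]
        ring
      · by_cases h3 : ψ ∈ D.Y
        · rw [if_neg h1, if_neg h2, if_pos h3, hY1 ψ h3]
          simp
        · rw [if_neg h1, if_neg h2, if_neg h3,
            D.val_other ψ (hnotX ψ h1 h2) h3 x hx hx1]
          simp
  set SY : ℂ := ∑ ψ : IrrCharacter H, (if ψ ∈ D.Y then conj ((ψ : H → ℂ) x) else 0) with hSY
  have hcol' : 1 + c * d + e * (1 + d * c) * SY = 0 := by
    rw [← hcol, Finset.sum_congr rfl fun ψ _ => hG ψ, Finset.sum_add_distrib,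
      Finset.sum_add_distrib, Finset.sum_ite_eq' Finset.univ (trivIrr H),
      Finset.sum_ite_eq' Finset.univ χ₁, hSY, Finset.mul_sum]
    simp only [Finset.mem_univ, if_true, mul_ite, mul_zero]
  have hsum : ∑ ψ : IrrCharacter H, (ψ : H → ℂ) t * (ψ : H → ℂ) t * conj ((ψ : H → ℂ) x) /
      (ψ : H → ℂ) 1 = 1 + d * b * b / c + e * (1 + d * b) ^ 2 / (1 + d * c) * SY := by
    rw [Finset.sum_congr rfl fun ψ _ => hF ψ, Finset.sum_add_distrib,
      Finset.sum_add_distrib, Finset.sum_ite_eq' Finset.univ (trivIrr H),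
      Finset.sum_ite_eq' Finset.univ χ₁, hSY, Finset.mul_sum]
    simp only [Finset.mem_univ, if_true, mul_ite, mul_zero]
  have hS := algebra_aux (b : ℂ) c d e SY _ hd hee hc0 h1dc hcol' hsum
  set S : ℂ := ∑ ψ : IrrCharacter H, (ψ : H → ℂ) t * (ψ : H → ℂ) t * conj ((ψ : H → ℂ) x) /
      (ψ : H → ℂ) 1 with hSdef
  -- index
  set m := Nat.card (Subgroup.centralizer ({t} : Set H)) with hm
  set idx := (Subgroup.centralizer ({t} : Set H)).index with hidx
  have hidxm : (idx : ℂ) * (m : ℂ) = (Nat.card H : ℂ) := by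
    have := Subgroup.index_mul_card (Subgroup.centralizer ({t} : Set H))
    rw [← hidx, ← hm] at this
    exact_mod_cast this
  have hHne : (Nat.card H : ℂ) ≠ 0 := by
    exact_mod_cast (Nat.card_pos (α := H)).ne'
  have hfinal : (p : ℂ) * (m : ℂ) ^ 2 * c * (c + d) = (Nat.card H : ℂ) * (c - (b : ℂ)) ^ 2 := by
    have h1 : (Nat.card H : ℂ) * ((p : ℂ) * (m : ℂ) ^ 2 * c * (c + d)) =
        (Nat.card H : ℂ) * ((Nat.card H : ℂ) * (c - (b : ℂ)) ^ 2) := by
      linear_combination ((m : ℂ) ^ 2 * (c * (c + d))) * key + ((idx : ℂ) ^ 2 * (m : ℂ) ^ 2) * hS +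
        ((c - (b : ℂ)) ^ 2 * ((idx : ℂ) * (m : ℂ) + (Nat.card H : ℂ))) * hidxm
    exact mul_left_cancel₀ hHne h1
  rw [hd_def, hc_def] at hfinal
  exact_mod_cast hfinal

end Cfsg.Agent.Helper5.S4705IDH
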