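import Mathlib
import Cfsg.Agent.Helper7.S5655.Defs
import Cfsg.Agent.Helper7.S5655.MonoLib
import Cfsg.Agent.Helper7.S5655.Defs2
import Cfsg.Agent.Helper28.S5655QR
import Cfsg.Agent.Helper15.S5655BDefs

/-! # S5655 `k = 1`, chapter (B), piece RE -/

set_option autoImplicit false

namespace Cfsg.Agent.S5655K1

open Matrix
open Cfsg.Agent.S2644 Cfsg.Agent.Helper2.SUGen Cfsg.Agent.Helper28.SimMax Cfsg.Agent.MonoP

variable {K : Type*} [Field K] {q n : ℕ}

local notation "h" => Cfsg.hermForm n K q
local notation "T" => Cfsg.unitaryTransvection n q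

namespace RE

theorem h_single_single (s : Fin n) : h (Pi.single s (1 : K)) (Pi.single s (1 : K)) = 1 := by
  unfold Cfsg.hermForm
  rw [Finset.sum_eq_single s]
  · simp
  · intro i _ hi
    rw [Pi.single_eq_of_ne hi, zero_mul]
  · intro hs
    exact absurd (Finset.mem_univ s) hs

theorem T_single_isMono (hq : q ≠ 0) (s : Fin n) (c : K) : IsMono (T (Pi.single s (1 : K)) c) := by
  refine ⟨1, fun i j hij => ?_⟩
  rw [Equiv.Perm.one_apply] at hij
  unfold Cfsg.unitaryTransvection
  rw [Matrix.add_apply, Matrix.smul_apply, Matrix.vecMulVec_apply, Matrix.one_apply_ne hij, zero_add]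
  by_cases hi : i = s
  · have hj : j ≠ s := fun hj => hij (hi.trans hj.symm)
    rw [Pi.single_eq_of_ne hj, zero_pow hq, mul_zero, smul_zero]
  · rw [Pi.single_eq_of_ne hi, zero_mul, smul_zero]

end RE

/-- RE (S-M): the quasi-reflections at a coordinate vector are diagonal matrices, hence in `H`. -/
theorem RE.hasR (D : Frob K q) (hq : q ≠ 0) (H : Subgroup (Matrix.GeneralLinearGroup (Fin n) K))
    (A : Finset (Fin n)) (hfull : FullOn q H A) (s : Fin n) (hs : s ∈ A) :
    HasR D H (Pi.single s (1 : K)) := by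
  intro c hc
  apply hfull
  · exact RE.T_single_isMono hq s c
  · apply QR.pres D
    rw [RE.h_single_single]
    unfold IsU at hc
    rw [map_add, map_one] at hc
    linear_combination hc
  · apply SUPPT.suppOn_T hq
    intro i hi
    have : i ≠ s := fun h' => hi (h' ▸ hs)
    rw [Pi.single_eq_of_ne this]

end Cfsg.Agent.S5655K1
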