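import Mathlib
import Cfsg.Agent.Helper7.S5655.Defs3
import Cfsg.Agent.Helper7.S5655.MonoLib

/-! # S5655 `k = 1`, chapter SEC, piece SECDET -/

set_option autoImplicit false

namespace Cfsg.Agent.S5655K1

open Matrix
open Cfsg.Agent.S2644 Cfsg.Agent.Helper2.SUGen Cfsg.Agent.Helper28.SimMax Cfsg.Agent.MonoP

variable {K : Type*} [Field K] {q n : ℕ}

local notation "h" => Cfsg.hermForm n K q
local notation "T" => Cfsg.unitaryTransvection n q

namespace SECDET

theorem d1m_det (o : Fin n) (ε : K) : (d1m o ε).det = ε := by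
  unfold d1m
  rw [Matrix.det_diagonal, Finset.prod_update_of_mem (Finset.mem_univ o)]
  simp

theorem d1m_one (o : Fin n) : d1m o (1 : K) = 1 := by
  unfold d1m
  rw [Function.update_eq_self_iff.mpr rfl]
  exact Matrix.diagonal_one

end SECDET

theorem SECDET.hasSU2 (D : Frob K q) (M : Subgroup (Matrix.GeneralLinearGroup (Fin n) K))
    (hM : M ≤ SUG n K q) (o : Fin n) (H : Subgroup (Matrix.GeneralLinearGroup (Fin n) K))
    (hH : ∀ g : Matrix.GeneralLinearGroup (Fin n) K, g ∈ H ↔ IsSec D M o (g : Matrix (Fin n) (Fin n) K))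
    (a b : Fin n) (h2 : HasSU2 q H a b) : HasSU2 q M a b := by
  intro B hP hdet hsupp
  obtain ⟨g, hg, rfl⟩ := h2 B hP hdet hsupp
  obtain ⟨_, _, ε, hε, hmem⟩ := (hH g).1 hg
  have h1 := Cfsg.Agent.S5658P.det_of_MS hM hmem
  rw [Matrix.det_mul, hdet, one_mul, SECDET.d1m_det] at h1
  rw [h1, SECDET.d1m_one, Matrix.mul_one] at hmem
  exact hmem

end Cfsg.Agent.S5655K1
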