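import Mathlib
import Cfsg.Prelude.Def_GeometricClasses
import Cfsg.Agent.Helper29.S5965Defs
import Cfsg.Agent.Helper2.SubfInvB

/-!
# S5965 piece SLFIX (helper5): a rational element with enough centralizer determinants is
`SL`-conjugate into the subfield subgroup
-/

set_option autoImplicit false

namespace Cfsg.Agent.S5965P

namespace SLFIX

open Matrix

variable {F : Type*} [Field F]

/-- the change of basis relation in matrix form -/
theorem mul_basis_eq {n : ℕ} (y : Module.End F (Fin n → F))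
    (b : Module.Basis (Fin n) F (Fin n → F)) :
    LinearMap.toMatrix' y * (Pi.basisFun F (Fin n)).toMatrix b =
      (Pi.basisFun F (Fin n)).toMatrix b * LinearMap.toMatrix b b y := by
  rw [basis_toMatrix_mul_linearMap_toMatrix, ← LinearMap.toMatrix_eq_toMatrix',
    linearMap_toMatrix_mul_basis_toMatrix]

theorem det_basis_ne_zero {n : ℕ} (b : Module.Basis (Fin n) F (Fin n → F)) :
    ((Pi.basisFun F (Fin n)).toMatrix b).det ≠ 0 := by
  intro h
  have h1 := Module.Basis.toMatrix_mul_toMatrix_flip (Pi.basisFun F (Fin n)) b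
  have h2 := congrArg Matrix.det h1
  rw [Matrix.det_mul, h, zero_mul, Matrix.det_one] at h2
  exact zero_ne_one h2

end SLFIX

open Matrix in
/-- SLFIX -/
theorem conj_of_isRat {F : Type*} [Field F] [Fintype F] (n : ℕ) (F₀ : Subfield F)
    (X : Matrix.SpecialLinearGroup (Fin n) F) (μ : F) (hμ : μ ≠ 0)
    (hrat : IsRat F₀ (μ⁻¹ • Matrix.toLin' (X : Matrix (Fin n) (Fin n) F)))
    (hcent : ∀ δ : F, δ ≠ 0 → ∃ c : Module.End F (Fin n → F),
      c * Matrix.toLin' (X : Matrix (Fin n) (Fin n) F) =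
        Matrix.toLin' (X : Matrix (Fin n) (Fin n) F) * c ∧ LinearMap.det c = δ) :
    ∃ P : Matrix.SpecialLinearGroup (Fin n) F, P⁻¹ * X * P ∈
      ((Cfsg.Geo.subfieldSubgroup F₀ 1).comap (Matrix.SpecialLinearGroup.toGL :
        Matrix.SpecialLinearGroup (Fin n) F →* GL (Fin n) F)) := by
  classical
  obtain ⟨ι, hι, hd, b, M₀, hM⟩ := hrat
  have hcard : Fintype.card ι = Fintype.card (Fin n) := by
    have h1 := Module.finrank_eq_card_basis b
    rw [Module.finrank_fin_fun] at h1
    rw [Fintype.card_fin, ← h1]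
  let e : ι ≃ Fin n := Fintype.equivOfCardEq hcard
  set b' : Module.Basis (Fin n) F (Fin n → F) := b.reindex e with hb'
  set M₁ : Matrix (Fin n) (Fin n) F₀ := M₀.submatrix e.symm e.symm with hM₁
  set y : Module.End F (Fin n → F) := μ⁻¹ • Matrix.toLin' (X : Matrix (Fin n) (Fin n) F) with hy
  have hM' : LinearMap.toMatrix b' b' y = M₁.map F₀.subtype := by
    ext i j
    have h1 := congrFun (congrFun hM (e.symm i)) (e.symm j)
    rw [LinearMap.toMatrix_apply] at h1 ⊢
    rw [hb', Module.Basis.reindex_apply, Module.Basis.repr_reindex_apply, h1]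
    rfl
  set P0 : Matrix (Fin n) (Fin n) F := (Pi.basisFun F (Fin n)).toMatrix b' with hP0
  have hP0det : P0.det ≠ 0 := SLFIX.det_basis_ne_zero b'
  have hrel : X.1 * P0 = P0 * (μ • M₁.map F₀.subtype) := by
    have h1 := SLFIX.mul_basis_eq y b'
    rw [hM'] at h1
    have h2 : LinearMap.toMatrix' y = μ⁻¹ • X.1 := by
      rw [hy, map_smul, LinearMap.toMatrix'_toLin']
    rw [h2, Matrix.smul_mul] at h1
    rw [Matrix.mul_smul, ← h1, smul_smul, mul_inv_cancel₀ hμ, one_smul]
  obtain ⟨c, hc1, hc2⟩ := hcent (P0.det)⁻¹ (inv_ne_zero hP0det)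
  set Cm : Matrix (Fin n) (Fin n) F := LinearMap.toMatrix' c with hCm
  have hCX : Cm * X.1 = X.1 * Cm := by
    have h1 := congrArg LinearMap.toMatrix' hc1
    rw [Module.End.mul_eq_comp, Module.End.mul_eq_comp, LinearMap.toMatrix'_comp,
      LinearMap.toMatrix'_comp, LinearMap.toMatrix'_toLin'] at h1
    exact h1
  have hCdet : Cm.det = (P0.det)⁻¹ := by
    rw [hCm, LinearMap.det_toMatrix', hc2]
  apply Cfsg.Agent.Helper2.SubfInv.conj_mem_of_mul_eq F₀ X (Cm * P0) ?_ M₁ μ hμ
  · rw [← Matrix.mul_assoc, ← hCX, Matrix.mul_assoc, hrel, Matrix.mul_assoc]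
  · rw [Matrix.det_mul, hCdet, inv_mul_cancel₀ hP0det]

end Cfsg.Agent.S5965P

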