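import Mathlib
import Cfsg.Prelude.Def_Classical
import Cfsg.Prelude.Def_GeometricClasses
import Cfsg.Agent.Helper5.S5973Defs
import Cfsg.Agent.Helper5.S5973CNSPLIT
import Cfsg.Agent.Helper13.S5973TSEX
import Cfsg.Agent.Helper22.S5973NFPF

set_option autoImplicit false
open scoped MatrixGroups

/-! S5973 + S5987, piece SUFFV: an invariant totally singular subspace from one of the fixed space and
one of `[V, y]`. -/

universe u

namespace Cfsg.Agent.S5973P

open Module Polynomial Cfsg.Agent.S5955P Cfsg.Agent.S5961P Cfsg.Agent.Helper2.SympInvol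
  Cfsg.Agent.Helper2.SympUnits

/-- SUFFV: an invariant totally singular subspace from one of the fixed space and one of `[V, y]` -/
theorem exists_ts_invariant {F V : Type*} [Field F] [Fintype F] [AddCommGroup V] [Module F V]
    [FiniteDimensional F V] {p : ℕ} [Fact p.Prime] [CharP F p] (r : ℕ) [Fact r.Prime]
    (hr2 : r ≠ 2) (hrp : r ≠ p) (Q : QuadraticForm F V) (y : Module.End F V) (h : IsYO Q y r)
    (a' s : ℕ)
    (ha : 2 * a' + 2 ≤ finrank F (LinearMap.ker (y - 1)) ∨
      (IsHyp (resQ Q (LinearMap.ker (y - 1))) ∧ 2 * a' ≤ finrank F (LinearMap.ker (y - 1))))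
    (hodd : Odd (orderOf ((Fintype.card F : ℕ) : ZMod r)) →
      2 * orderOf ((Fintype.card F : ℕ) : ZMod r) * s ≤ finrank F (LinearMap.range (y - 1)))
    (hev : Even (orderOf ((Fintype.card F : ℕ) : ZMod r)) → s = 0 ∨
      (r - 1) + 2 * s * orderOf ((Fintype.card F : ℕ) : ZMod r) ≤
        finrank F (LinearMap.range (y - 1)) + orderOf ((Fintype.card F : ℕ) : ZMod r)) :
    ∃ W : Submodule F V, finrank F W = a' + orderOf ((Fintype.card F : ℕ) : ZMod r) * s ∧
      IsTS Q W ∧ W.map y ≤ W := by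
  obtain ⟨hcompl, horth, hndC, -, hN, hYN, hfixN⟩ := cn_split (p := p) r hrp Q y h
  obtain ⟨U₀, hU₀ts, hU₀fr⟩ := exists_ts (resQ Q (LinearMap.ker (y - 1))) hndC a' ha
  obtain ⟨U', hU'inv, hU'ts, hU'fr⟩ := exists_ts_fpf (p := p) r hr2 hrp
    (resQ Q (LinearMap.range (y - 1))) (y.restrict hN) hYN hfixN s hodd hev
  set A : Submodule F V := U₀.map (LinearMap.ker (y - 1)).subtype with hA
  set B : Submodule F V := U'.map (LinearMap.range (y - 1)).subtype with hB
  have hAC : A ≤ LinearMap.ker (y - 1) := by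
    rintro _ ⟨u, -, rfl⟩; exact u.2
  have hBN : B ≤ LinearMap.range (y - 1) := by
    rintro _ ⟨u, -, rfl⟩; exact u.2
  have hAts : ∀ a ∈ A, Q a = 0 := by
    rintro _ ⟨u, hu, rfl⟩
    exact hU₀ts u hu
  have hBts : ∀ b ∈ B, Q b = 0 := by
    rintro _ ⟨u, hu, rfl⟩
    exact hU'ts u hu
  have hAfr : finrank F A = a' := by rw [hA, Submodule.finrank_map_subtype_eq, hU₀fr]
  have hBfr : finrank F B = orderOf ((Fintype.card F : ℕ) : ZMod r) * s := by
    rw [hB, Submodule.finrank_map_subtype_eq, hU'fr]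
  have hdisj : A ⊓ B = ⊥ := by
    rw [eq_bot_iff, ← hcompl.inf_eq_bot]
    exact inf_le_inf hAC hBN
  refine ⟨A ⊔ B, ?_, ?_, ?_⟩
  · have := Submodule.finrank_sup_add_finrank_inf_eq A B
    rw [hdisj, finrank_bot, add_zero] at this
    rw [this, hAfr, hBfr]
  · intro w hw
    obtain ⟨a, ha, b, hb, rfl⟩ := Submodule.mem_sup.mp hw
    have h1 : Q (a + b) = Q a + Q b + QuadraticMap.polar Q a b := by
      rw [QuadraticMap.polar]; ring
    rw [h1, hAts a ha, hBts b hb, horth a (hAC ha) b (hBN hb)]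
    ring
  · rw [Submodule.map_sup]
    apply sup_le_sup
    · rintro _ ⟨a, ha, rfl⟩
      have hfixa : y a = a := by
        have := hAC ha
        rw [LinearMap.mem_ker, LinearMap.sub_apply, Module.End.one_apply, sub_eq_zero] at this
        exact this
      rw [hfixa]
      exact ha
    · rintro _ ⟨_, ⟨u, hu, rfl⟩, rfl⟩
      refine ⟨(y.restrict hN) u, hU'inv ⟨u, hu, rfl⟩, ?_⟩
      simp

end Cfsg.Agent.S5973P
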