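import Mathlib
import Cfsg.Prelude.Def_Classical
import Cfsg.Prelude.Def_GeometricClasses
import Cfsg.Agent.Helper5.S5973Defs
import Cfsg.Agent.Helper5.S5973SHAPE
import Cfsg.Agent.Helper5.S5973SUFFV

set_option autoImplicit false
open scoped MatrixGroups

/-! S5973 + S5987, piece GENSUFF: the criterion is sufficient (matrix level). -/

universe u

namespace Cfsg.Agent.S5973P

open Module Polynomial Cfsg.Agent.S5955P Cfsg.Agent.S5961P Cfsg.Agent.Helper2.SympInvol
  Cfsg.Agent.Helper2.SympUnits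

namespace GENSUFF

/-- a nondegenerate form on a nonzero space takes a nonzero value -/
theorem exists_ne_zero {F : Type*} [Field F] {ι : Type} [Fintype ι] [DecidableEq ι] [Nonempty ι]
    (Q : QuadraticForm F (ι → F)) (hQ : ND Q) : ∃ v, Q v ≠ 0 := by
  by_contra hcon
  push Not at hcon
  obtain ⟨a⟩ := ‹Nonempty ι›
  have hv : (Pi.single a (1 : F) : ι → F) ≠ 0 := by
    intro h
    have := congrFun h a
    simp at this
  have h0 : ∀ w, QuadraticMap.polarBilin Q (Pi.single a (1 : F)) w = 0 := by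
    intro w
    rw [QuadraticMap.polarBilin_apply_apply, QuadraticMap.polar, hcon, hcon, hcon]
    ring
  exact hv (hQ.1 _ h0)

/-- normalising an isometry with `x ^ r` scalar to one with `y ^ r = 1` -/
theorem exists_scalar {F : Type*} [Field F] {ι : Type} [Fintype ι] [DecidableEq ι]
    (Q : QuadraticForm F (ι → F)) (hQ : ND Q) (r : ℕ) (hr : Odd r) (x : GL ι F)
    (hx : x ∈ Cfsg.isometryGroup F ⇑Q) (z : F)
    (hxr : ((x ^ r : GL ι F) : Matrix ι ι F) = z • (1 : Matrix ι ι F)) :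
    ∃ c : F, c * c = 1 ∧ (c • Matrix.toLin' (x : Matrix ι ι F)) ^ r = 1 := by
  have hpow : (Matrix.toLin' (x : Matrix ι ι F)) ^ r = z • (1 : Module.End F (ι → F)) := by
    have h1 : (Matrix.toLin' (x : Matrix ι ι F)) ^ r =
        Matrix.toLin' (((x ^ r : GL ι F) : Matrix ι ι F)) := by
      rw [Units.val_pow_eq_pow_val, Matrix.toLin'_pow]
    rw [h1, hxr, map_smul, Matrix.toLin'_one]
    rfl
  rcases isEmpty_or_nonempty ι with hem | hne
  · refine ⟨1, one_mul 1, ?_⟩
    apply LinearMap.ext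
    intro v
    exact Subsingleton.elim _ _
  · obtain ⟨v, hv⟩ := exists_ne_zero Q hQ
    have hxr_mem : x ^ r ∈ Cfsg.isometryGroup F ⇑Q := Subgroup.pow_mem _ hx r
    have h1 : Q (((x ^ r : GL ι F) : Matrix ι ι F).mulVec v) = Q v := hxr_mem v v
    rw [hxr, Matrix.smul_mulVec, Matrix.one_mulVec, QuadraticMap.map_smul, smul_eq_mul] at h1
    have hz2 : z * z = 1 := by
      have : (z * z - 1) * Q v = 0 := by linear_combination h1
      rcases mul_eq_zero.mp this with h | h
      · linear_combination h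
      · exact absurd h hv
    refine ⟨z, hz2, ?_⟩
    obtain ⟨k, hk⟩ := hr
    have hzr : z ^ r = z := by
      rw [hk, pow_succ, pow_mul, sq, hz2, one_pow, one_mul]
    rw [_root_.smul_pow, hpow, hzr, smul_smul, hz2, one_smul]

end GENSUFF

open GENSUFF in
/-- GENSUFF: the criterion is sufficient (matrix level; `x` any isometry with `x ^ r` scalar) -/
theorem gen_suff {F : Type*} [Field F] [Fintype F] {p : ℕ} [Fact p.Prime] [CharP F p] (r : ℕ)
    [Fact r.Prime] (hr2 : r ≠ 2) (hrp : r ≠ p) {ι : Type} [Fintype ι] [DecidableEq ι]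
    (Q : QuadraticForm F (ι → F)) (hQ : ND Q) (d : ℕ) (hcard : Fintype.card ι = 2 * d)
    (hyp : Bool) (hhyp : IsHyp Q ↔ hyp = true) (m : ℕ)
    (hcrit : Crit hyp (orderOf ((Fintype.card F : ℕ) : ZMod r))
      ((r - 1) / orderOf ((Fintype.card F : ℕ) : ZMod r)) d m)
    (x : GL ι F) (hx : x ∈ Cfsg.isometryGroup F ⇑Q) (z : F)
    (hxr : ((x ^ r : GL ι F) : Matrix ι ι F) = z • (1 : Matrix ι ι F)) :
    ∃ W : Submodule F (ι → F), finrank F W = m ∧ (∀ w ∈ W, Q w = 0) ∧
      W.map (Matrix.toLin' (x : Matrix ι ι F)) ≤ W := by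
  have hr : r.Prime := Fact.out
  have hrodd : Odd r := hr.odd_of_ne_two hr2
  obtain ⟨hi0, -, -, hicc, hccr, -, -, -⟩ := cc_arith (F := F) (p := p) r hr2 hrp
  have hir : orderOf ((Fintype.card F : ℕ) : ZMod r) ∣ r - 1 := hicc.trans hccr
  obtain ⟨c, hc2, hcr⟩ := exists_scalar Q hQ r hrodd x hx z hxr
  set y : Module.End F (ι → F) := c • Matrix.toLin' (x : Matrix ι ι F) with hy
  have hisom : ∀ v, Q (y v) = Q v := by
    intro v
    have h1 : Q ((x : Matrix ι ι F).mulVec v) = Q v := hx v v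
    rw [hy, LinearMap.smul_apply, QuadraticMap.map_smul, Matrix.toLin'_apply, h1, smul_eq_mul,
      hc2, one_mul]
  have hY : IsYO Q y r := ⟨hQ, hisom, hcr⟩
  have hfin : finrank F (ι → F) = 2 * d := by
    rw [Module.finrank_fintype_fun_eq_card, hcard]
  obtain ⟨b, hbN, hsum, htypeC⟩ := shape (p := p) r hr2 hrp Q y hY d hfin hyp hhyp
  set i := orderOf ((Fintype.card F : ℕ) : ZMod r) with hi
  have h0 : finrank F (LinearMap.ker (y - 1)) = 0 → typeC hyp i b := by
    intro hk0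
    rw [← htypeC]
    refine ⟨⊥, fun w hw => ?_, ?_⟩
    · rw [(Submodule.mem_bot F).mp hw, map_zero]
    · rw [finrank_bot, hk0]
  obtain ⟨a', s, hm, ha, hso, hse⟩ := hcrit b _ hsum h0
  have ha' : 2 * a' + 2 ≤ finrank F (LinearMap.ker (y - 1)) ∨
      (IsHyp (resQ Q (LinearMap.ker (y - 1))) ∧ 2 * a' ≤ finrank F (LinearMap.ker (y - 1))) := by
    rcases ha with ha | ⟨ht, ha⟩
    · exact Or.inl ha
    · exact Or.inr ⟨htypeC.mpr ht, ha⟩
  have hodd' : Odd i → 2 * i * s ≤ finrank F (LinearMap.range (y - 1)) := by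
    intro ho
    rw [hbN, if_neg (Nat.not_even_iff_odd.mpr ho)]
    exact Nat.mul_le_mul_left _ (hso ho)
  have hev' : Even i → s = 0 ∨ (r - 1) + 2 * s * i ≤ finrank F (LinearMap.range (y - 1)) + i := by
    intro he
    rcases hse he with h | h
    · exact Or.inl h
    · right
      rw [hbN, if_pos he]
      have ht : (r - 1) / i * i = r - 1 := Nat.div_mul_cancel hir
      calc (r - 1) + 2 * s * i = ((r - 1) / i + 2 * s) * i := by rw [add_mul, ht]
        _ ≤ (b + 1) * i := Nat.mul_le_mul_right _ h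
        _ = i * b + i := by ring
  obtain ⟨W, hWfr, hWts, hWinv⟩ := exists_ts_invariant (p := p) r hr2 hrp Q y hY a' s ha' hodd' hev'
  refine ⟨W, by rw [hWfr, hm], hWts, ?_⟩
  rintro _ ⟨w, hw, rfl⟩
  have h1 : Matrix.toLin' (x : Matrix ι ι F) w = c • y w := by
    rw [hy, LinearMap.smul_apply, smul_smul, hc2, one_smul]
  rw [h1]
  exact W.smul_mem c (hWinv ⟨w, hw, rfl⟩)

end Cfsg.Agent.S5973P
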