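import Mathlib
import Cfsg.Prelude.Def_Classical
import Cfsg.Prelude.Def_GeometricClasses
import Cfsg.Agent.Helper5.S5973Defs
import Cfsg.Agent.Helper18.S5961ARITH
import Cfsg.Agent.Helper3.S5973ARITHSO
import Cfsg.Agent.Helper3.S5973ARITHSE
import Cfsg.Agent.Helper3.S5973ARITHNO
import Cfsg.Agent.Helper3.S5973ARITHNE
import Cfsg.Agent.Helper3.S5973NT2
import Cfsg.Agent.Helper5.S5973GENSUFF
import Cfsg.Agent.Helper15.S5973GENNEC

set_option autoImplicit false
open scoped MatrixGroups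

/-! S5973 + S5987: the main theorem for odd `r ≠ p` (assembly, helper5). -/

universe u

namespace Cfsg.Agent.S5973P

open Module Cfsg.Agent.S5961P

namespace ODDMAIN

theorem mem_isometryGroup_of_mem_omegaGL {F : Type*} [Field F] {ι : Type} [Fintype ι]
    [DecidableEq ι] (Q : (ι → F) → F) {x : GL ι F} (hx : x ∈ Cfsg.Geo.omegaGL Q) :
    x ∈ Cfsg.isometryGroup F Q := by
  obtain ⟨g, -, rfl⟩ := Subgroup.mem_map.mp hx
  exact g.2

/-- a nondegenerate form on a nonzero space takes a nonzero value -/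
theorem exists_ne_zero {F : Type*} [Field F] {ι : Type} [Fintype ι] [DecidableEq ι] [Nonempty ι]
    (Q : QuadraticForm F (ι → F)) (hQ : ND Q) : ∃ v, Q v ≠ 0 := by
  by_contra hcon
  push Not at hcon
  obtain ⟨a⟩ := ‹Nonempty ι›
  have hv : (Pi.single a (1 : F) : ι → F) ≠ 0 := by
    intro h
    have := congrFun h a
    simp at this
  have h0 : ∀ w, QuadraticMap.polarBilin Q (Pi.single a (1 : F)) w = 0 := by
    intro w
    rw [QuadraticMap.polarBilin_apply_apply, QuadraticMap.polar, hcon, hcon, hcon]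
    ring
  exact hv (hQ.1 _ h0)

/-- a scalar isometry `z • 1` with `z ^ r = 1`, `r` odd, is trivial -/
theorem scalar_eq_one {F : Type*} [Field F] {ι : Type} [Fintype ι] [DecidableEq ι] [Nonempty ι]
    (Q : QuadraticForm F (ι → F)) (hQ : ND Q) (r : ℕ) (hr : Odd r) (x : GL ι F)
    (hx : x ∈ Cfsg.isometryGroup F ⇑Q) (hxr : x ^ r = 1) (z : F)
    (hz : (x : Matrix ι ι F) = z • (1 : Matrix ι ι F)) : x = 1 := by
  obtain ⟨v, hv⟩ := exists_ne_zero Q hQ
  have h1 : Q ((x : Matrix ι ι F).mulVec v) = Q v := hx v v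
  rw [hz, Matrix.smul_mulVec, Matrix.one_mulVec, QuadraticMap.map_smul, smul_eq_mul] at h1
  have hz2 : z * z = 1 := by
    have : (z * z - 1) * Q v = 0 := by linear_combination h1
    rcases mul_eq_zero.mp this with h | h
    · linear_combination h
    · exact absurd h hv
  have hzr : z ^ r = 1 := by
    have h2 : ((x ^ r : GL ι F) : Matrix ι ι F) = 1 := by rw [hxr]; rfl
    rw [Units.val_pow_eq_pow_val, hz, smul_pow, one_pow] at h2
    obtain ⟨a⟩ := ‹Nonempty ι›
    have := congrFun (congrFun h2 a) a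
    simpa using this
  obtain ⟨k, hk⟩ := hr
  have hz1 : z = 1 := by
    rw [hk, pow_succ, pow_mul, sq, hz2, one_pow, one_mul] at hzr
    exact hzr
  apply Units.ext
  rw [hz, hz1, one_smul]
  rfl

end ODDMAIN

open ODDMAIN in
/-- ODDMAIN: the main theorem for odd `r ≠ p` -/
theorem odd_main {F : Type u} [Field F] [Fintype F] {p : ℕ} [Fact p.Prime] [CharP F p] (r : ℕ)
    [Fact r.Prime] (hr2 : r ≠ 2) (hrp : r ≠ p) {ι : Type} [Fintype ι] [DecidableEq ι]
    (Q₀ : QuadraticForm F (ι → F)) (hQ₀ : ND Q₀) (d : ℕ) (hd : 1 ≤ d)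
    (hcard : Fintype.card ι = 2 * d) (hΩ : (2 : F) ≠ 0 ∨ Cfsg.Agent.Helper2.OInv.HOm Q₀)
    (hyp : Bool) (hhyp : IsHyp Q₀ ↔ hyp = true) (m : ℕ) (hm : 1 ≤ m) (hmd : m + 1 ≤ d)
    (hnt : ∃ j, j < m ∧ r ∣ nsing hyp (Fintype.card F) (d - j))
    (i c : ℕ) (hi : i = orderOf ((Fintype.card F : ℕ) : ZMod r))
    (hc : c = if Even i then i else 2 * i) :
    (∀ x : GL ι F, x ∈ Cfsg.Geo.omegaGL ⇑Q₀ →
      (∃ z : F, ((x ^ r : GL ι F) : Matrix ι ι F) = z • (1 : Matrix ι ι F)) →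
      (∀ z : F, (x : Matrix ι ι F) ≠ z • (1 : Matrix ι ι F)) →
      ∃ W : Submodule F (ι → F), finrank F W = m ∧ (∀ w ∈ W, Q₀ w = 0) ∧
        W.map (Matrix.toLin' (x : Matrix ι ι F)) ≤ W) ↔
    Frz hyp i c ((r - 1) / i) d m := by
  classical
  have hr : r.Prime := Fact.out
  have hp : p.Prime := Fact.out
  obtain ⟨hi0, -, -, hicc, hccr, -, -, -⟩ := cc_arith (F := F) (p := p) r hr2 hrp
  rw [← hi] at hi0 hicc
  have hir : i ∣ r - 1 := hicc.trans hccr
  have hr1 : 1 ≤ r - 1 := by have := hr.two_le; omega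
  have ht : 1 ≤ (r - 1) / i := by
    obtain ⟨t, ht⟩ := hir
    rw [ht, Nat.mul_div_cancel_left _ hi0]
    rcases Nat.eq_zero_or_pos t with h0 | h0
    · rw [h0, mul_zero] at ht; omega
    · exact h0
  have hrodd : Odd r := hr.odd_of_ne_two hr2
  haveI : Nonempty ι := by
    apply Fintype.card_pos_iff.mp
    omega
  constructor
  · -- necessity
    intro hall
    have hall' : ∀ x : GL ι F, x ∈ Cfsg.Geo.omegaGL ⇑Q₀ → x ^ r = 1 → x ≠ 1 →
        ∃ W : Submodule F (ι → F), finrank F W = m ∧ (∀ w ∈ W, Q₀ w = 0) ∧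
          W.map (Matrix.toLin' (x : Matrix ι ι F)) ≤ W := by
      intro x hx hxr hx1
      refine hall x hx ⟨1, by rw [hxr, one_smul]; rfl⟩ ?_
      intro z hz
      exact hx1 (scalar_eq_one Q₀ hQ₀ r hrodd x (mem_isometryGroup_of_mem_omegaGL _ hx) hxr z hz)
    have hcrit := gen_nec (p := p) r hr2 hrp Q₀ hQ₀ d hd hcard hΩ hyp hhyp m hm hmd hall'
    rw [← hi] at hcrit
    have hq : ¬ r ∣ Fintype.card F := by
      obtain ⟨n, -, hn⟩ := FiniteField.card F p
      rw [hn]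
      intro h
      exact hrp ((Nat.prime_dvd_prime_iff_eq hr hp).mp (hr.dvd_of_dvd_pow h))
    have hnt' : ∃ j, j < m ∧ NTc hyp i (d - j) := by
      obtain ⟨j, hj, hdvd⟩ := hnt
      refine ⟨j, hj, ?_⟩
      have := (dvd_nsing_iff r hr hr2 (Fintype.card F) hq hyp (d - j)).mp hdvd
      rw [← hi] at this
      exact this
    rcases Nat.even_or_odd i with hev | hodd
    · exact frz_of_crit_even hyp i c _ d m hi0 hev (by rw [hc, if_pos hev]) ht hm hmd hnt' hcrit
    · exact frz_of_crit_odd hyp i c _ d m hodd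
        (by rw [hc, if_neg (Nat.not_even_iff_odd.mpr hodd)]) hm hmd hnt' hcrit
  · -- sufficiency
    intro hfrz x hx hz _
    obtain ⟨z, hz⟩ := hz
    have hcrit : Crit hyp i ((r - 1) / i) d m := by
      rcases Nat.even_or_odd i with hev | hodd
      · exact crit_of_frz_even hyp i c _ d m hi0 hev (by rw [hc, if_pos hev]) ht hm hmd hfrz
      · exact crit_of_frz_odd hyp i c _ d m hodd
          (by rw [hc, if_neg (Nat.not_even_iff_odd.mpr hodd)]) hm hmd hfrz
    rw [hi] at hcrit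
    exact gen_suff (p := p) r hr2 hrp Q₀ hQ₀ d hcard hyp hhyp m hcrit x
      (mem_isometryGroup_of_mem_omegaGL _ hx) z hz

end Cfsg.Agent.S5973P
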