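import Mathlib
import Cfsg.Prelude.Def_Classical
import Cfsg.Prelude.Def_GeometricClasses
import Cfsg.Agent.Helper5.S5973Defs
import Cfsg.Agent.Helper5.S5973ODDMAIN
import Cfsg.Agent.Helper3.S5973NT
import Cfsg.Agent.Helper10.S5973COUNT
import Cfsg.Agent.Helper15.S5973R2NEC
import Cfsg.Agent.Helper15.S5973R2SUFF

set_option autoImplicit false
open scoped MatrixGroups

/-! S5973 + S5987: the generic main theorem (assembly, helper5). -/

universe u

namespace Cfsg.Agent.S5973P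

open Module

/-- MAIN: the generic form of S5973 (`hyp = true`) and S5987 (`hyp = false`) -/
theorem main_generic {F : Type u} [Field F] [Fintype F] {p : ℕ} [Fact p.Prime] [CharP F p]
    {ι : Type} [Fintype ι] [DecidableEq ι] (Q₀ : QuadraticForm F (ι → F)) (hQ₀ : ND Q₀) (d : ℕ)
    (hd : 4 ≤ d) (hcard : Fintype.card ι = 2 * d)
    (hΩ : (2 : F) ≠ 0 ∨ Cfsg.Agent.Helper2.OInv.HOm Q₀) (hyp : Bool)
    (hhyp : IsHyp Q₀ ↔ hyp = true) (m : ℕ) (hm : 1 ≤ m) (hmd : m + 1 ≤ d) (r : ℕ)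
    [Fact r.Prime]
    (hrΩ : r ∣ Nat.card {W : Submodule F (ι → F) // finrank F W = m ∧ IsTS Q₀ W})
    (i c : ℕ) (hi : i = orderOf ((Fintype.card F : ℕ) : ZMod r))
    (hc : c = if Even i then i else 2 * i) :
    (∀ x : GL ι F, x ∈ Cfsg.Geo.omegaGL ⇑Q₀ →
      (∃ z : F, ((x ^ r : GL ι F) : Matrix ι ι F) = z • (1 : Matrix ι ι F)) →
      (∀ z : F, (x : Matrix ι ι F) ≠ z • (1 : Matrix ι ι F)) →
      ∃ W : Submodule F (ι → F), finrank F W = m ∧ (∀ w ∈ W, Q₀ w = 0) ∧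
        W.map (Matrix.toLin' (x : Matrix ι ι F)) ≤ W) ↔
    ((r = 2 ∧ p ≠ 2 ∧
        (if hyp = true then
          (Fintype.card F % 4 = 1 ∨
            (Fintype.card F % 4 = 3 ∧ m + 2 ≤ d ∧ (Even m ∨ Odd d)))
        else (Even d ∨ Even m ∨ Fintype.card F % 8 ≠ 7))) ∨
     (r ≠ p ∧ 2 < r ∧ Frz hyp i c ((r - 1) / i) d m)) := by
  classical
  have hr : r.Prime := Fact.out
  have hp : p.Prime := Fact.out
  have hfin : finrank F (ι → F) = 2 * d := by
    rw [Module.finrank_fintype_fun_eq_card, hcard]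
  -- number theory
  obtain ⟨n, -, hn⟩ := FiniteField.card F p
  have hN := card_ts_mul Q₀ hQ₀ d hfin hyp hhyp m (by omega)
  obtain ⟨hrp, hnt⟩ := nt_of_card_ts hp (Fintype.card F) n hn n.pos d m _ hyp hm hmd hN r hr hrΩ
  by_cases hr2 : r = 2
  · subst hr2
    have hp2 : p ≠ 2 := fun h => hrp h.symm
    have h2 : (2 : F) ≠ 0 := by
      intro h
      have h2' : ((2 : ℕ) : F) = 0 := by exact_mod_cast h
      have hdvd : p ∣ 2 := (CharP.cast_eq_zero_iff F p 2).mp h2'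
      exact hp2 ((Nat.prime_dvd_prime_iff_eq hp Nat.prime_two).mp hdvd)
    constructor
    · intro hall
      left
      exact ⟨rfl, hp2, r2_nec h2 Q₀ hQ₀ d (by omega) hcard hyp hhyp m hm hmd hall⟩
    · rintro (⟨-, -, hcond⟩ | ⟨-, h, -⟩)
      · intro x hx ⟨z, hz⟩ _
        exact r2_suff h2 Q₀ hQ₀ d (by omega) hcard hyp hhyp m hm hmd hcond x hx z hz
      · omega
  · have h2r : 2 < r := by have := hr.two_le; omega
    have key := odd_main (p := p) r hr2 hrp Q₀ hQ₀ d (by omega) hcard hΩ hyp hhyp m hm hmd hnt i c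
      hi hc
    rw [key]
    constructor
    · intro h
      exact Or.inr ⟨hrp, h2r, h⟩
    · rintro (⟨h, -, -⟩ | ⟨-, -, h⟩)
      · exact absurd h hr2
      · exact h

end Cfsg.Agent.S5973P
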