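import Mathlib
import Cfsg.Agent.Helper3.ES2Iso

set_option autoImplicit false

/-! Piece H of S3157: a nonabelian group of order 8 is dihedral or quaternion. -/

namespace Cfsg.Agent.Helper5.S64

open Cfsg.Agent.Helper3

/-- A nonabelian group of order 8 is an `ES2` group. -/
theorem exists_es2_of_card_eight {G : Type*} [Group G] (h8 : Nat.card G = 8)
    (hna : ∃ a b : G, a * b ≠ b * a) : ∃ z : G, ES2 G z := by
  have : Fact (Nat.Prime 2) := ⟨Nat.prime_two⟩
  have hfin : Finite G := Nat.finite_of_card_ne_zero (by rw [h8]; norm_num)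
  have hnt : Nontrivial G := by
    obtain ⟨a, b, hab⟩ := hna
    refine ⟨⟨a, b, ?_⟩⟩
    rintro rfl
    exact hab rfl
  have hp : IsPGroup 2 G := IsPGroup.of_card (n := 3) (by rw [h8]; norm_num)
  have hZnt : Nontrivial (Subgroup.center G) := hp.center_nontrivial
  have hmul := Subgroup.card_eq_card_quotient_mul_card_subgroup (Subgroup.center G)
  rw [h8] at hmul
  have hZdvd : Nat.card (Subgroup.center G) ∣ 2 ^ 3 := ⟨Nat.card (G ⧸ Subgroup.center G), by
    rw [mul_comm]; norm_num; exact hmul⟩
  obtain ⟨k, hk, hZk⟩ := (Nat.dvd_prime_pow Nat.prime_two).1 hZdvd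
  have hZ1 : 1 < Nat.card (Subgroup.center G) := Finite.one_lt_card
  -- the centre has order 2
  have hZ2 : Nat.card (Subgroup.center G) = 2 := by
    interval_cases k
    · rw [hZk] at hZ1; norm_num at hZ1
    · rw [hZk]; norm_num
    · -- order 4: quotient of order 2, cyclic
      exfalso
      rw [hZk] at hmul
      have hq : Nat.card (G ⧸ Subgroup.center G) = 2 := by omega
      have hcyc : IsCyclic (G ⧸ Subgroup.center G) := isCyclic_of_prime_card hq
      have hc := MonoidHom.isMulCommutative_of_isCyclic_of_ker_le_center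
        (QuotientGroup.mk' (Subgroup.center G)) (by rw [QuotientGroup.ker_mk'])
      obtain ⟨a, b, hab⟩ := hna
      exact hab (hc.is_comm.comm a b)
    · -- order 8: abelian
      exfalso
      have htop : Subgroup.center G = ⊤ := by
        apply Subgroup.eq_top_of_card_eq
        rw [hZk, h8]; norm_num
      obtain ⟨a, b, hab⟩ := hna
      have ha : a ∈ Subgroup.center G := by rw [htop]; trivial
      exact hab ((Subgroup.mem_center_iff.1 ha b).symm)
  rw [hZ2] at hmul
  have hq4 : Nat.card (G ⧸ Subgroup.center G) = 2 ^ 2 := by omega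
  -- pick `z`
  obtain ⟨⟨z, hzZ⟩, hz1, hzuniq⟩ := (Nat.card_eq_two_iff' (1 : Subgroup.center G)).1 hZ2
  have hz1' : z ≠ 1 := fun h => hz1 (Subtype.ext h)
  have hZmem : ∀ g : G, g ∈ Subgroup.center G → g = 1 ∨ g = z := by
    intro g hg
    by_cases h1 : g = 1
    · exact Or.inl h1
    · right
      have := hzuniq ⟨g, hg⟩ (fun h => h1 (congrArg Subtype.val h))
      exact congrArg Subtype.val this
  -- the quotient is abelian
  have hqc : IsMulCommutative (G ⧸ Subgroup.center G) :=
    IsPGroup.isMulCommutative_of_card_eq_prime_sq hq4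
  -- the quotient is not cyclic
  have hqnc : ¬ IsCyclic (G ⧸ Subgroup.center G) := by
    intro hcyc
    have hc := MonoidHom.isMulCommutative_of_isCyclic_of_ker_le_center
      (QuotientGroup.mk' (Subgroup.center G)) (by rw [QuotientGroup.ker_mk'])
    obtain ⟨a, b, hab⟩ := hna
    exact hab (hc.is_comm.comm a b)
  have hqsq : ∀ q : G ⧸ Subgroup.center G, q ^ 2 = 1 := by
    intro q
    have hd : orderOf q ∣ 2 ^ 2 := by rw [← hq4]; exact orderOf_dvd_natCard q
    obtain ⟨j, hj, hoj⟩ := (Nat.dvd_prime_pow Nat.prime_two).1 hd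
    interval_cases j
    · rw [pow_zero, orderOf_eq_one_iff] at hoj
      rw [hoj, one_pow]
    · rw [pow_one] at hoj
      rw [← hoj]; exact pow_orderOf_eq_one q
    · exfalso
      apply hqnc
      apply isCyclic_of_orderOf_eq_card q
      rw [hoj, hq4]
  refine ⟨z, ?_⟩
  refine
    { ne_one := hz1'
      central := fun g => (Subgroup.mem_center_iff.1 hzZ g)
      center_sub := ?_
      sq := ?_
      comm := ?_
      nonab := hna }
  · intro g hg
    apply hZmem
    rw [Subgroup.mem_center_iff]
    intro h
    exact (hg h).symm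
  · intro x
    have h1 : ((x ^ 2 : G) : G ⧸ Subgroup.center G) = 1 := by
      rw [QuotientGroup.mk_pow]; exact hqsq _
    rw [QuotientGroup.eq_one_iff] at h1
    exact hZmem _ h1
  · intro x y
    have h1 : ((y * x : G) : G ⧸ Subgroup.center G) = ((x * y : G) : G ⧸ Subgroup.center G) := by
      rw [QuotientGroup.mk_mul, QuotientGroup.mk_mul]
      exact hqc.is_comm.comm _ _
    rw [QuotientGroup.eq] at h1
    rcases hZmem _ h1 with h2 | h2
    · left
      have := congrArg (fun t => y * x * t) h2
      simpa [mul_assoc] using this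
    · right
      have := congrArg (fun t => y * x * t) h2
      simpa [mul_assoc] using this

theorem d8_or_q8 {G : Type*} [Group G] (h8 : Nat.card G = 8) (hna : ∃ a b : G, a * b ≠ b * a) :
    Nonempty (G ≃* DihedralGroup 4) ∨ Nonempty (G ≃* QuaternionGroup 2) := by
  have hfin : Finite G := Nat.finite_of_card_ne_zero (by rw [h8]; norm_num)
  obtain ⟨z, hz⟩ := exists_es2_of_card_eight h8 hna
  by_cases hj : 2 < ES2.jj G
  · left
    obtain ⟨x, y, hx, hy, hxy⟩ := hz.exists_pair hj
    have hb := hz.dih_bijective hx hy hxy (le_of_eq h8)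
    exact ⟨(MulEquiv.ofBijective _ hb).symm⟩
  · right
    exact hz.nonempty_mulEquiv_quaternion h8 hj

end Cfsg.Agent.Helper5.S64
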