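import Mathlib
import Cfsg.Agent.Helper8.SelfCentCount

/-!
Self-centralizing subgroups of prime order: the T.I. property, and a cyclic 2-subgroup of the
normalizer.
-/

set_option autoImplicit false

namespace Cfsg.Agent.Helper5.SCT

open Subgroup Cfsg.Agent.Helper8

section TI

variable {G : Type*} [Group G] [Finite G] {p : ℕ} [hp : Fact p.Prime] {x : G}

theorem conj_zpow (g x : G) (i : ℤ) : g * x ^ i * g⁻¹ = (g * x * g⁻¹) ^ i := by
  have := map_zpow (MulAut.conj g) x i
  simpa [MulAut.conj_apply] using this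

/-- `⟨x⟩` is a T.I. subgroup -/
theorem ti (hx : orderOf x = p) (g : G)
    (hg : g ∉ normalizer ((zpowers x : Subgroup G) : Set G)) (k : G) (hk : k ∈ zpowers x)
    (hgk : g * k * g⁻¹ ∈ zpowers x) : k = 1 := by
  by_contra hk1
  apply hg
  have hxk := mem_zpowers_of_mem_zpowers_prime hp.out hx hk hk1
  obtain ⟨j, hj⟩ := mem_zpowers_iff.mp hxk
  have hy : g * x * g⁻¹ ∈ zpowers x := by
    have h0 : g * x * g⁻¹ = (g * k * g⁻¹) ^ j := by rw [← conj_zpow, hj]
    rw [h0]
    exact zpow_mem hgk j
  have hy1 : g * x * g⁻¹ ≠ 1 := by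
    intro h
    have h2 : x = 1 := by
      have := congrArg (fun t => g⁻¹ * t * g) h
      simpa [mul_assoc] using this
    exact ne_one_of_orderOf_eq_prime hp.out hx h2
  have hxy := mem_zpowers_of_mem_zpowers_prime hp.out hx hy hy1
  rw [mem_normalizer_iff]
  intro h
  constructor
  · intro hh
    obtain ⟨i, rfl⟩ := mem_zpowers_iff.mp hh
    rw [conj_zpow]
    exact zpow_mem hy i
  · intro hh
    have h3 : g * h * g⁻¹ ∈ zpowers (g * x * g⁻¹) := (zpowers_le.mpr hxy) hh
    obtain ⟨i, hi⟩ := mem_zpowers_iff.mp h3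
    rw [← conj_zpow] at hi
    have h4 : h = x ^ i := by
      have := congrArg (fun t => g⁻¹ * t * g) hi
      simp only [mul_assoc, inv_mul_cancel_left, inv_mul_cancel, mul_one] at this
      exact this.symm
    rw [h4]
    exact zpow_mem (mem_zpowers x) i

theorem cent (hx : orderOf x = p) (hC : centralizer ({x} : Set G) = zpowers x)
    (k : G) (hk : k ∈ zpowers x) (hk1 : k ≠ 1) :
    centralizer ({k} : Set G) ≤ zpowers x := by
  rw [centralizer_eq_of_mem_zpowers hp.out hx hk hk1, hC]

omit [Finite G] in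
theorem comm (a : G) (ha : a ∈ zpowers x) (b : G) (hb : b ∈ zpowers x) : a * b = b * a := by
  obtain ⟨i, rfl⟩ := mem_zpowers_iff.mp ha
  obtain ⟨j, rfl⟩ := mem_zpowers_iff.mp hb
  rw [← zpow_add, ← zpow_add, add_comm]

end TI

section Two

variable {N : Type*} [Group N] [Finite N] (K : Subgroup N) [hK : K.Normal] {p : ℕ}
  [hp : Fact p.Prime]

/-- a Frobenius group with kernel of odd prime order `p` and complement of order `e`,
`(p - 1)/e` odd, contains a cyclic 2-subgroup of order the 2-part of `p - 1` meeting the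
kernel trivially -/
theorem exists_two_elt (hcard : Nat.card K = p) (hp2 : p ≠ 2)
    (hF : ∀ n : N, n ∉ K → ∀ k ∈ K, k * n = n * k → k = 1)
    (t : ℕ) (ht : Odd t) (hte : t * K.index = p - 1) :
    ∃ (y : N) (n m : ℕ), 0 < n ∧ Even n ∧ Odd m ∧ p - 1 = m * n ∧ y ^ n = 1 ∧
      ∀ i, 0 < i → i < n → y ^ i ∉ K := by
  classical
  haveI : Fact (Nat.card K).Prime := ⟨hcard ▸ hp.out⟩
  haveI : Fact (2 : ℕ).Prime := ⟨Nat.prime_two⟩
  have hpodd : Odd p := hp.out.odd_of_ne_two hp2
  have hp1 : p - 1 ≠ 0 := by have := hp.out.two_le; omega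
  have he0 : K.index ≠ 0 := Subgroup.index_ne_zero_of_finite
  have ht0 : t ≠ 0 := by rintro rfl; simp at ht
  set a := (p - 1).factorization 2 with ha
  obtain ⟨Q⟩ : Nonempty (Sylow 2 N) := inferInstance
  -- the order of `Q`
  have hQcard : Nat.card Q = 2 ^ a := by
    rw [Q.card_eq_multiplicity, ← K.card_mul_index, hcard, ha, ← hte,
      Nat.factorization_mul hp.out.ne_zero he0, Nat.factorization_mul ht0 he0]
    have h1 : p.factorization 2 = 0 :=
      Nat.factorization_eq_zero_of_not_dvd (fun h => by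
        rcases hpodd with ⟨k, hk⟩; omega)
    have h2 : t.factorization 2 = 0 :=
      Nat.factorization_eq_zero_of_not_dvd (fun h => by
        rcases ht with ⟨k, hk⟩; omega)
    simp [h1, h2]
  -- the action on `K`
  let φ : N →* MulAut K := MulAut.conjNormal
  have hinj : Function.Injective (φ.comp (Q : Subgroup N).subtype) := by
    rw [injective_iff_map_eq_one]
    intro q hq
    have hq' : ∀ k : K, (q : N) * k * (q : N)⁻¹ = k := by
      intro k
      have := congrArg (fun σ : MulAut K => ((σ k : K) : N)) hq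
      simpa [φ, MulAut.conjNormal_apply] using this
    have hqK : (q : N) ∈ K := by
      by_contra hqK
      have hall : ∀ k ∈ K, k = 1 := by
        intro k hk
        apply hF (q : N) hqK k hk
        have := hq' ⟨k, hk⟩
        simp only at this
        calc k * (q : N) = ((q : N) * k * (q : N)⁻¹) * (q : N) := by rw [this]
          _ = (q : N) * k := by group
      have : Nat.card K = 1 := by
        rw [Nat.card_eq_one_iff_unique]
        refine ⟨⟨fun a b => ?_⟩, ⟨1⟩⟩
        apply Subtype.ext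
        rw [hall a a.2, hall b b.2]
      rw [hcard] at this
      exact hp.out.one_lt.ne' this
    have h1 : orderOf (q : N) ∣ p := by
      have := Subgroup.orderOf_dvd_natCard K hqK
      rwa [hcard] at this
    have h2 : orderOf (q : N) ∣ 2 ^ a := by
      rw [← hQcard, Subgroup.orderOf_coe]
      exact orderOf_dvd_natCard q
    have h3 : Nat.Coprime p (2 ^ a) :=
      Nat.Coprime.pow_right _ ((Nat.coprime_primes hp.out Nat.prime_two).mpr hp2)
    have h4 : orderOf (q : N) = 1 := Nat.eq_one_of_dvd_coprimes h3 h1 h2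
    apply Subtype.ext
    exact orderOf_eq_one_iff.mp h4
  haveI : IsCyclic K := isCyclic_of_prime_card (p := Nat.card K) rfl
  haveI : IsCyclic (MulAut K) :=
    isCyclic_of_injective (IsCyclic.mulAutMulEquiv K).toMonoidHom
      (IsCyclic.mulAutMulEquiv K).injective
  haveI : IsCyclic (Q : Subgroup N) := isCyclic_of_injective _ hinj
  obtain ⟨y, hy⟩ := IsCyclic.exists_generator (α := (Q : Subgroup N))
  have hyo : orderOf y = 2 ^ a := by
    rw [orderOf_eq_card_of_forall_mem_zpowers hy, hQcard]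
  have hdvd : 2 ∣ p - 1 := by
    rcases hpodd with ⟨k, hk⟩; omega
  have ha1 : 1 ≤ a := by
    rw [ha]
    exact (Nat.Prime.dvd_iff_one_le_factorization Nat.prime_two hp1).mp hdvd
  refine ⟨(y : N), 2 ^ a, (p - 1) / 2 ^ a, pow_pos (by norm_num) a, ?_, ?_, ?_, ?_, ?_⟩
  · exact (Nat.even_pow.mpr ⟨even_two, by omega⟩)
  · rw [← Nat.not_even_iff_odd, even_iff_two_dvd]
    exact Nat.not_dvd_ordCompl Nat.prime_two hp1
  · rw [mul_comm]
    exact (Nat.ordProj_mul_ordCompl_eq_self (p - 1) 2).symm
  · have : (y : N) ^ (2 ^ a) = ((y ^ (2 ^ a) : (Q : Subgroup N)) : N) := by simp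
    rw [this, ← hyo, pow_orderOf_eq_one]
    rfl
  · intro i hi0 hilt hmem
    have h1 : orderOf ((y : N) ^ i) ∣ p := by
      have := Subgroup.orderOf_dvd_natCard K hmem
      rwa [hcard] at this
    have h2 : orderOf ((y : N) ^ i) ∣ 2 ^ a := by
      have h5 : orderOf ((y : N) ^ i) ∣ orderOf (y : N) := orderOf_pow_dvd i
      rw [Subgroup.orderOf_coe, hyo] at h5
      exact h5
    have h3 : Nat.Coprime p (2 ^ a) :=
      Nat.Coprime.pow_right _ ((Nat.coprime_primes hp.out Nat.prime_two).mpr hp2)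
    have h4 : orderOf ((y : N) ^ i) = 1 := Nat.eq_one_of_dvd_coprimes h3 h1 h2
    have h5 : (y : N) ^ i = 1 := orderOf_eq_one_iff.mp h4
    have h6 : orderOf (y : N) ∣ i := orderOf_dvd_of_pow_eq_one h5
    rw [Subgroup.orderOf_coe, hyo] at h6
    exact absurd (Nat.le_of_dvd hi0 h6) (not_le.mpr hilt)

end Two

end Cfsg.Agent.Helper5.SCT
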