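import Mathlib
import Cfsg.Prelude.Def_Characters
import Cfsg.Agent.Helper24.Decomp

/-!
Rationality of characters, part A: the subtraction principle.  Over a field `K` of
characteristic zero, if a `K`-valued function `f` pairs to a natural number with every
`K`-character and `ψ_U = f + ψ_V` for two `K`-representations `U`, `V`, then `f` itself is the
character of a `K`-representation.
-/

namespace Cfsg.Agent.Helper5.Split

open Representation Module

universe u v w

section General

variable {G : Type u} [Group G] {k : Type*} [Field k]
variable {V : Type v} [AddCommGroup V] [Module k V]
variable {W : Type w} [AddCommGroup W] [Module k W]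

theorem character_eq_zero_of_subsingleton [Subsingleton V] (ρ : Representation k G V) :
    ρ.character = 0 := by
  ext g
  have : ρ g = 0 := by ext v; exact Subsingleton.elim _ _
  simp [Representation.character, this]

/-- An injective intertwining map gives an equivalence onto its range. -/
noncomputable def equivRange {τ : Representation k G V} {σ : Representation k G W}
    (f : IntertwiningMap τ σ) (hf : Function.Injective f) :
    τ.Equiv f.range.toRepresentation :=
  Representation.Equiv.mk (LinearEquiv.ofInjective f.toLinearMap hf) (by
    intro g
    apply LinearMap.ext
    intro v
    apply Subtype.ext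
    exact IntertwiningMap.isIntertwining _ _ f g v)

/-- The inclusion of a subrepresentation as an intertwining map. -/
def inclusion (τ : Representation k G V) (S : Subrepresentation τ) :
    IntertwiningMap S.toRepresentation τ where
  toLinearMap := S.toSubmodule.subtype
  isIntertwining' := by
    intro g
    rfl

end General

section Core

variable {G : Type u} [Group G] [Fintype G] {K : Type} [Field K] [CharZero K]

theorem core (f : G → K)
    (hf : ∀ (W : Type) [AddCommGroup W] [Module K W] [FiniteDimensional K W]
      (σ : Representation K G W), ∃ n : ℕ,
        (Nat.card G : K)⁻¹ * ∑ g : G, f g * σ.character g⁻¹ = n) :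
    ∀ n : ℕ, ∀ (U V : Type) [AddCommGroup U] [Module K U] [FiniteDimensional K U]
      [AddCommGroup V] [Module K V] [FiniteDimensional K V]
      (ρ : Representation K G U) (τ : Representation K G V), finrank K V = n →
      (∀ g, ρ.character g = f g + τ.character g) →
      ∃ (m : ℕ) (σ : Representation K G (Fin m → K)), σ.character = f := by
  classical
  haveI : NeZero (Nat.card G : K) := ⟨by
    have : 0 < Nat.card G := Nat.card_pos
    exact_mod_cast this.ne'⟩
  haveI : Invertible (Nat.card G : K) := invertibleOfNonzero (NeZero.ne _)
  intro n
  induction n using Nat.strong_induction_on with
  | _ n ih =>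
    intro U V _ _ _ _ _ _ ρ τ hn hchar
    by_cases h0 : n = 0
    · subst h0
      haveI : Subsingleton V := Module.finrank_zero_iff.mp hn
      have hτ : τ.character = 0 := character_eq_zero_of_subsingleton τ
      have hρ : ρ.character = f := by
        funext g
        rw [hchar g, hτ]
        simp
      refine ⟨finrank K U, Cfsg.Agent.Helper24.repConj ρ (Module.finBasis K U).equivFun, ?_⟩
      rw [Cfsg.Agent.Helper24.character_repConj, hρ]
    · have hpos : 0 < finrank K V := by omega
      haveI : Nontrivial V := Module.nontrivial_of_finrank_pos hpos
      obtain ⟨S, hS, hirr⟩ := Cfsg.Agent.Helper24.exists_irreducible_subrepresentation τ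
      obtain ⟨S', hc⟩ := exists_isCompl S
      have hc' : IsCompl S.toSubmodule S'.toSubmodule := by
        constructor
        · rw [disjoint_iff]
          exact congrArg Subrepresentation.toSubmodule hc.inf_eq_bot
        · rw [codisjoint_iff]
          exact congrArg Subrepresentation.toSubmodule hc.sup_eq_top
      have hτ := Cfsg.Agent.Helper24.character_eq_add_of_isCompl τ S S' hc'
      have hdim : finrank K S.toSubmodule + finrank K S'.toSubmodule = finrank K V :=
        Submodule.finrank_add_eq_of_isCompl hc'
      have hSpos : 0 < finrank K S.toSubmodule := by
        haveI : Nontrivial S.toSubmodule := Submodule.nontrivial_iff_ne_bot.mpr hS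
        exact Module.finrank_pos
      -- intertwining numbers
      have e1 := card_inv_mul_sum_char_mul_char_eq_finrank S.toRepresentation ρ
      have e2 := card_inv_mul_sum_char_mul_char_eq_finrank S.toRepresentation τ
      obtain ⟨n₀, hn₀⟩ := hf S.toSubmodule S.toRepresentation
      have hsum : (finrank K (IntertwiningMap S.toRepresentation ρ) : K) =
          ((n₀ + finrank K (IntertwiningMap S.toRepresentation τ) : ℕ) : K) := by
        rw [← e1]
        push_cast
        rw [← e2, ← hn₀, ← mul_add, ← Finset.sum_add_distrib]
        congr 1
        apply Finset.sum_congr rfl
        intro g _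
        rw [hchar g, add_mul]
      have hsum' := Nat.cast_injective hsum
      -- inclusion is a nonzero intertwining map
      have hincl : inclusion τ S ≠ 0 := by
        intro h
        apply hS
        rw [Submodule.eq_bot_iff]
        intro x hx
        have := congrArg (fun φ : IntertwiningMap S.toRepresentation τ => φ ⟨x, hx⟩) h
        exact this
      have hpos2 : 0 < finrank K (IntertwiningMap S.toRepresentation τ) :=
        Module.finrank_pos_iff_exists_ne_zero.mpr ⟨_, hincl⟩
      have hpos1 : 0 < finrank K (IntertwiningMap S.toRepresentation ρ) := by omega
      obtain ⟨φ, hφ⟩ := Module.finrank_pos_iff_exists_ne_zero.mp hpos1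
      haveI : S.toRepresentation.IsIrreducible := hirr
      have hinj : Function.Injective φ :=
        (Representation.IsIrreducible.injective_or_eq_zero φ).resolve_right hφ
      have hS1 : S.toRepresentation.character = φ.range.toRepresentation.character :=
        char_iso (equivRange φ hinj)
      obtain ⟨U', hcU⟩ := exists_isCompl φ.range
      have hcU' : IsCompl φ.range.toSubmodule U'.toSubmodule := by
        constructor
        · rw [disjoint_iff]
          exact congrArg Subrepresentation.toSubmodule hcU.inf_eq_bot
        · rw [codisjoint_iff]
          exact congrArg Subrepresentation.toSubmodule hcU.sup_eq_top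
      have hρ := Cfsg.Agent.Helper24.character_eq_add_of_isCompl ρ φ.range U' hcU'
      have hnew : ∀ g, U'.toRepresentation.character g =
          f g + S'.toRepresentation.character g := by
        intro g
        have h1 := hchar g
        rw [hρ, hτ, ← hS1] at h1
        simp only [Pi.add_apply] at h1
        linear_combination h1
      exact ih (finrank K S'.toSubmodule) (by omega) U'.toSubmodule S'.toSubmodule
        U'.toRepresentation S'.toRepresentation rfl hnew

end Core

end Cfsg.Agent.Helper5.Split
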