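import Mathlib
import Cfsg.Prelude.Def_Characters
import Cfsg.Agent.Helper24.Rep

/-!
Rationality of characters, part B: the representation induced from a linear character
`μ : E →* K` of a subgroup, realised over `K` inside the space of functions `G → K`, and its
character.
-/

namespace Cfsg.Agent.Helper5.Split

open Representation Module

universe u

section Ind

variable {G : Type u} [Group G] [Fintype G] {K : Type} [Field K] [CharZero K]
variable (E : Subgroup G) (μ : E →* K)

/-- extension by zero of `μ` to `G`. -/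
noncomputable def ez (y : G) : K := by
  classical
  exact if h : y ∈ E then μ ⟨y, h⟩ else 0

theorem ez_mul_ez (y w : G) :
    ez E μ y * ez E μ (y⁻¹ * w) = by
      classical
      exact if y ∈ E then ez E μ w else 0 := by
  classical
  unfold ez
  by_cases hy : y ∈ E
  · by_cases hw : w ∈ E
    · have hyw : y⁻¹ * w ∈ E := E.mul_mem (E.inv_mem hy) hw
      rw [dif_pos hy, dif_pos hyw, dif_pos hw, if_pos hy, ← map_mul]
      congr 1
      apply Subtype.ext
      simp
    · have hyw : y⁻¹ * w ∉ E := by
        intro h
        apply hw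
        have := E.mul_mem hy h
        simpa using this
      rw [dif_pos hy, dif_neg hyw, dif_neg hw, if_pos hy, mul_zero]
  · rw [dif_neg hy, if_neg hy, zero_mul]

theorem sum_ez_mul_ez (w : G) :
    ∑ y : G, ez E μ y * ez E μ (y⁻¹ * w) = (Nat.card E : K) * ez E μ w := by
  classical
  simp_rw [ez_mul_ez]
  rw [Finset.sum_ite, Finset.sum_const_zero, add_zero, Finset.sum_const, nsmul_eq_mul]
  congr 2
  rw [Nat.card_eq_fintype_card, Fintype.card_subtype]

/-- left translation on functions -/
def ltr : Representation K G (G → K) where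
  toFun g :=
    { toFun := fun f x => f (g⁻¹ * x)
      map_add' := fun _ _ => rfl
      map_smul' := fun _ _ => rfl }
  map_one' := by
    ext f x
    simp
  map_mul' g h := by
    ext f x
    simp [mul_assoc]

omit [Fintype G] in
@[simp] theorem ltr_apply (g : G) (f : G → K) (x : G) : ltr (K := K) g f x = f (g⁻¹ * x) := rfl

/-- the projection onto the induced module -/
noncomputable def proj : (G → K) →ₗ[K] (G → K) where
  toFun f x := (Nat.card E : K)⁻¹ * ∑ y : G, ez E μ y * f (x * y)
  map_add' f f' := by
    funext x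
    simp only [Pi.add_apply, mul_add, Finset.sum_add_distrib]
  map_smul' c f := by
    funext x
    simp only [Pi.smul_apply, smul_eq_mul, RingHom.id_apply, Finset.mul_sum]
    apply Finset.sum_congr rfl
    intro y _
    ring

theorem proj_apply (f : G → K) (x : G) :
    proj E μ f x = (Nat.card E : K)⁻¹ * ∑ y : G, ez E μ y * f (x * y) := rfl

theorem card_ne_zero : (Nat.card E : K) ≠ 0 := by
  have : 0 < Nat.card E := Nat.card_pos
  exact_mod_cast this.ne'

theorem proj_proj (f : G → K) : proj E μ (proj E μ f) = proj E μ f := by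
  classical
  funext x
  rw [proj_apply]
  simp_rw [proj_apply]
  have h1 : ∀ y : G, ez E μ y * ((Nat.card E : K)⁻¹ * ∑ z : G, ez E μ z * f (x * y * z)) =
      (Nat.card E : K)⁻¹ * ∑ w : G, (ez E μ y * ez E μ (y⁻¹ * w)) * f (x * w) := by
    intro y
    rw [mul_left_comm, Finset.mul_sum]
    congr 1
    rw [← Equiv.sum_comp (Equiv.mulLeft y⁻¹)]
    apply Finset.sum_congr rfl
    intro w _
    simp only [Equiv.coe_mulLeft]
    rw [mul_assoc x y, mul_inv_cancel_left]
    ring
  simp_rw [h1]
  rw [← Finset.mul_sum, Finset.sum_comm]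
  simp_rw [← Finset.sum_mul, sum_ez_mul_ez]
  congr 1
  rw [Finset.mul_sum]
  apply Finset.sum_congr rfl
  intro w _
  rw [← mul_assoc, ← mul_assoc, inv_mul_cancel₀ (card_ne_zero E), one_mul]

theorem ltr_proj (g : G) (f : G → K) : ltr g (proj E μ f) = proj E μ (ltr g f) := by
  funext x
  simp only [ltr_apply, proj_apply, mul_assoc]

/-- the induced module as a subrepresentation of the function space. -/
noncomputable def indSub : Subrepresentation (ltr (G := G) (K := K)) where
  toSubmodule := LinearMap.range (proj E μ)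
  apply_mem_toSubmodule := by
    rintro g v ⟨f, rfl⟩
    exact ⟨ltr g f, (ltr_proj E μ g f).symm⟩

theorem trace_ltr_proj (g : G) :
    LinearMap.trace K (G → K) (ltr g ∘ₗ proj E μ) =
      (Nat.card E : K)⁻¹ * ∑ x : G, ez E μ (x⁻¹ * g * x) := by
  classical
  rw [LinearMap.trace_eq_matrix_trace K (Pi.basisFun K G), Matrix.trace, Finset.mul_sum]
  apply Finset.sum_congr rfl
  intro x _
  rw [Matrix.diag_apply, LinearMap.toMatrix_apply]
  simp only [Pi.basisFun_apply, Pi.basisFun_repr, LinearMap.comp_apply, ltr_apply, proj_apply]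
  congr 1
  rw [Finset.sum_eq_single (x⁻¹ * g * x)]
  · have : g⁻¹ * x * (x⁻¹ * g * x) = x := by group
    rw [this, Pi.single_eq_same, mul_one]
  · intro y _ hy
    have : g⁻¹ * x * y ≠ x := by
      intro h
      apply hy
      have : y = x⁻¹ * g * x := by
        calc y = (g⁻¹ * x)⁻¹ * (g⁻¹ * x * y) := by group
          _ = (g⁻¹ * x)⁻¹ * x := by rw [h]
          _ = x⁻¹ * g * x := by group
      exact this
    rw [Pi.single_eq_of_ne this, mul_zero]
  · intro h
    exact absurd (Finset.mem_univ _) h

theorem character_indSub (g : G) :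
    (indSub E μ).toRepresentation.character g =
      (Nat.card E : K)⁻¹ * ∑ x : G, ez E μ (x⁻¹ * g * x) := by
  rw [← trace_ltr_proj]
  unfold Representation.character
  set ι : (indSub E μ).toSubmodule →ₗ[K] (G → K) := (indSub E μ).toSubmodule.subtype with hι
  set π : (G → K) →ₗ[K] (indSub E μ).toSubmodule := (proj E μ).rangeRestrict with hπ
  have h1 : (indSub E μ).toRepresentation g = π ∘ₗ (ltr g ∘ₗ ι) := by
    apply LinearMap.ext
    intro v
    apply Subtype.ext
    obtain ⟨f, hf⟩ := v.2
    change ltr g (v : G → K) = proj E μ (ltr g (v : G → K))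
    rw [← ltr_proj, ← hf, proj_proj]
  have h2 : (ltr g ∘ₗ ι) ∘ₗ π = ltr g ∘ₗ proj E μ := by
    apply LinearMap.ext
    intro f
    rfl
  rw [h1, LinearMap.trace_comp_comm', h2]

theorem exists_rep_ind :
    ∃ (m : ℕ) (σ : Representation K G (Fin m → K)), ∀ g : G,
      σ.character g = (Nat.card E : K)⁻¹ * ∑ x : G, ez E μ (x⁻¹ * g * x) := by
  refine ⟨finrank K (indSub E μ).toSubmodule,
    Cfsg.Agent.Helper24.repConj (indSub E μ).toRepresentation
      (Module.finBasis K (indSub E μ).toSubmodule).equivFun, ?_⟩
  intro g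
  rw [Cfsg.Agent.Helper24.character_repConj, character_indSub]

end Ind

end Cfsg.Agent.Helper5.Split
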