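import Mathlib
import Cfsg.Prelude.Def_Characters
import Cfsg.Agent.Helper5.SplitA
import Cfsg.Agent.Helper5.SplitB
import Cfsg.Agent.Helper5.PermChar
import Cfsg.Agent.Helper24.BrauerList
import Cfsg.Agent.Helper24.EquivOfChar

/-!
Rationality of characters, part C: base change from an intermediate field `K ≤ ℂ`, the
predicate `IsKChar`, and Brauer's splitting field theorem in the form: if `K` contains the
values of all linear characters of subgroups, every character of `G` is afforded by a
`K`-representation.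
-/

namespace Cfsg.Agent.Helper5.Split

open Representation Module

universe u

section BaseChange

variable {G : Type u} [Group G] (K : IntermediateField ℚ ℂ) {m : ℕ}

/-- base change of a coordinate representation from `K` to `ℂ`. -/
noncomputable def bc (σ : Representation K G (Fin m → K)) : Representation ℂ G (Fin m → ℂ) where
  toFun g := Matrix.toLin' ((LinearMap.toMatrix' (σ g)).map (algebraMap K ℂ))
  map_one' := by
    rw [map_one, LinearMap.toMatrix'_one, Matrix.map_one _ (map_zero _) (map_one _),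
      Matrix.toLin'_one]
    rfl
  map_mul' g h := by
    rw [map_mul, LinearMap.toMatrix'_mul, Matrix.map_mul, Matrix.toLin'_mul]
    rfl

theorem bc_toMatrix' (σ : Representation K G (Fin m → K)) (g : G) (i j : Fin m) :
    LinearMap.toMatrix' (bc K σ g) i j = ((LinearMap.toMatrix' (σ g) i j : K) : ℂ) := by
  change LinearMap.toMatrix' (Matrix.toLin' ((LinearMap.toMatrix' (σ g)).map (algebraMap K ℂ)))
    i j = _
  rw [LinearMap.toMatrix'_toLin']
  rfl

theorem bc_character (σ : Representation K G (Fin m → K)) (g : G) :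
    (bc K σ).character g = ((σ.character g : K) : ℂ) := by
  unfold Representation.character
  change LinearMap.trace ℂ _
    (Matrix.toLin' ((LinearMap.toMatrix' (σ g)).map (algebraMap K ℂ))) = _
  rw [Matrix.trace_toLin'_eq, LinearMap.trace_eq_matrix_trace K (Pi.basisFun K (Fin m)),
    LinearMap.toMatrix_eq_toMatrix']
  simp only [Matrix.trace, Matrix.diag_apply, Matrix.map_apply]
  rw [← IntermediateField.algebraMap_apply, map_sum]

end BaseChange

section KChar

variable {G : Type u} [Group G] (K : IntermediateField ℚ ℂ)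

/-- `φ` is afforded by a representation over `K`. -/
def IsKChar (φ : G → ℂ) : Prop :=
  ∃ (m : ℕ) (σ : Representation K G (Fin m → K)), ∀ g, ((σ.character g : K) : ℂ) = φ g

theorem isKChar_of_rep {V : Type} [AddCommGroup V] [Module K V] [FiniteDimensional K V]
    (ρ : Representation K G V) : IsKChar K (fun g => ((ρ.character g : K) : ℂ)) := by
  refine ⟨finrank K V, Cfsg.Agent.Helper24.repConj ρ (Module.finBasis K V).equivFun, ?_⟩
  intro g
  rw [Cfsg.Agent.Helper24.character_repConj]

theorem isKChar_zero : IsKChar K (0 : G → ℂ) := by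
  refine ⟨0, 1, ?_⟩
  intro g
  have : (1 : Representation K G (Fin 0 → K)).character = 0 :=
    character_eq_zero_of_subsingleton _
  rw [this]
  simp

theorem IsKChar.add {φ ψ : G → ℂ} (hφ : IsKChar K φ) (hψ : IsKChar K ψ) :
    IsKChar K (φ + ψ) := by
  obtain ⟨m₁, σ₁, h₁⟩ := hφ
  obtain ⟨m₂, σ₂, h₂⟩ := hψ
  have := isKChar_of_rep K (σ₁.prod σ₂)
  convert this using 1
  funext g
  rw [Cfsg.Agent.Helper24.character_prod]
  simp only [Pi.add_apply]
  push_cast
  rw [h₁, h₂]

theorem IsKChar.nsmul {φ : G → ℂ} (hφ : IsKChar K φ) (n : ℕ) :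
    IsKChar K ((n : ℂ) • φ) := by
  induction n with
  | zero => simpa using isKChar_zero (G := G) K
  | succ n ih =>
    have : ((n + 1 : ℕ) : ℂ) • φ = (n : ℂ) • φ + φ := by
      push_cast
      rw [add_smul, one_smul]
    rw [this]
    exact ih.add K hφ

end KChar

section Ind

variable {G : Type u} [Group G] [Fintype G] (K : IntermediateField ℚ ℂ)

theorem isKChar_indFun (E : Subgroup G) (lam : E →* ℂˣ) (hlam : ∀ e : E, ((lam e : ℂˣ) : ℂ) ∈ K) :
    IsKChar K (indFun E (fun e => ((lam e : ℂˣ) : ℂ))) := by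
  classical
  let μ : E →* K :=
    { toFun := fun e => ⟨((lam e : ℂˣ) : ℂ), hlam e⟩
      map_one' := by
        apply Subtype.ext
        simp
      map_mul' := by
        intro a b
        apply Subtype.ext
        simp }
  obtain ⟨m, σ, hσ⟩ := exists_rep_ind (K := K) E μ
  refine ⟨m, σ, ?_⟩
  intro g
  rw [hσ]
  unfold indFun
  push_cast
  congr 1
  apply Finset.sum_congr rfl
  intro x _
  rw [Cfsg.Agent.Helper5.extendByZero_apply]
  unfold ez
  split_ifs with h
  · rfl
  · rfl

end Ind

section Main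

variable {G : Type u} [Group G] [Fintype G] (K : IntermediateField ℚ ℂ)

theorem natPaired {n : ℕ} (ρ : Representation ℂ G (Fin n → ℂ)) (f : G → K)
    (hf : ∀ g, ((f g : K) : ℂ) = ρ.character g)
    (W : Type) [AddCommGroup W] [Module K W] [FiniteDimensional K W]
    (σ : Representation K G W) : ∃ k : ℕ,
      (Nat.card G : K)⁻¹ * ∑ g : G, f g * σ.character g⁻¹ = k := by
  classical
  haveI : Invertible (Nat.card G : ℂ) := invertibleOfNonzero (by
    have : 0 < Nat.card G := Nat.card_pos
    exact_mod_cast this.ne')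
  set σ' := Cfsg.Agent.Helper24.repConj σ (Module.finBasis K W).equivFun with hσ'
  have hc : σ'.character = σ.character := Cfsg.Agent.Helper24.character_repConj _ _
  have key := card_inv_mul_sum_char_mul_char_eq_finrank (bc K σ') ρ
  refine ⟨finrank ℂ (IntertwiningMap (bc K σ') ρ), ?_⟩
  apply Subtype.val_injective
  rw [← hc]
  push_cast
  rw [← key]
  congr 1
  apply Finset.sum_congr rfl
  intro g _
  rw [hf, bc_character]

theorem list_split (hK : ∀ (E : Subgroup G) (lam : E →* ℂˣ) (e : E), ((lam e : ℂˣ) : ℂ) ∈ K)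
    (l : List ((E : Subgroup G) × ((E →* ℂˣ) × ℤ))) :
    ∃ φ₁ φ₂ : G → ℂ, IsKChar K φ₁ ∧ IsKChar K φ₂ ∧
      (l.map fun t => (t.2.2 : ℂ) • indFun t.1 (fun e => (t.2.1 e : ℂ))).sum = φ₁ - φ₂ := by
  induction l with
  | nil => exact ⟨0, 0, isKChar_zero K, isKChar_zero K, by simp⟩
  | cons t l ih =>
    obtain ⟨φ₁, φ₂, h₁, h₂, h⟩ := ih
    have hind := isKChar_indFun K t.1 t.2.1 (hK t.1 t.2.1)
    rcases le_or_gt 0 t.2.2 with hz | hz
    · refine ⟨(t.2.2.toNat : ℂ) • indFun t.1 (fun e => (t.2.1 e : ℂ)) + φ₁, φ₂,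
        (hind.nsmul K _).add K h₁, h₂, ?_⟩
      rw [List.map_cons, List.sum_cons, h]
      have : ((t.2.2.toNat : ℕ) : ℂ) = (t.2.2 : ℂ) := by
        have := Int.toNat_of_nonneg hz
        exact_mod_cast this
      rw [this, add_sub_assoc]
    · refine ⟨φ₁, ((-t.2.2).toNat : ℂ) • indFun t.1 (fun e => (t.2.1 e : ℂ)) + φ₂,
        h₁, (hind.nsmul K _).add K h₂, ?_⟩
      rw [List.map_cons, List.sum_cons, h]
      have : (((-t.2.2).toNat : ℕ) : ℂ) = -(t.2.2 : ℂ) := by
        have := Int.toNat_of_nonneg (by omega : 0 ≤ -t.2.2)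
        exact_mod_cast this
      rw [this, neg_smul]
      abel

/-- **Brauer's splitting field theorem**, abstract form. -/
theorem isKChar_of_isCharacter
    (hK : ∀ (E : Subgroup G) (lam : E →* ℂˣ) (e : E), ((lam e : ℂˣ) : ℂ) ∈ K)
    {n : ℕ} (ρ : Representation ℂ G (Fin n → ℂ)) : IsKChar K ρ.character := by
  obtain ⟨l, _, hl⟩ := Cfsg.Agent.Helper24.brauer_induction ρ.character ⟨n, ρ, rfl⟩
  obtain ⟨φ₁, φ₂, ⟨m₁, σ₁, h₁⟩, ⟨m₂, σ₂, h₂⟩, h⟩ := list_split K hK l
  set f : G → K := fun g => σ₁.character g - σ₂.character g with hf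
  have hfχ : ∀ g, ((f g : K) : ℂ) = ρ.character g := by
    intro g
    rw [hl, h, hf]
    push_cast
    rw [h₁, h₂]
    rfl
  obtain ⟨m, σ, hσ⟩ := core f (natPaired K ρ f hfχ) _ (Fin m₁ → K) (Fin m₂ → K) σ₁ σ₂ rfl
    (by intro g; rw [hf]; ring)
  refine ⟨m, σ, ?_⟩
  intro g
  rw [hσ, hfχ]

end Main

end Cfsg.Agent.Helper5.Split
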