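import Mathlib
import Cfsg.Agent.Helper8.TIFN4
import Cfsg.Agent.Helper8.FpfRestrict
import Cfsg.Agent.Helper8.PosDef

/-!
T.I. subgroups with Frobenius normalizer: the basic inequality
`∑_{k ∈ K ∖ 1} |χ(k)|² ≤ |N|` for an irreducible character `χ` of `G`.
-/

set_option autoImplicit false

namespace Cfsg.Agent.Helper5.TID

open Cfsg Cfsg.Agent.Helper24 Cfsg.Agent.Helper8 Cfsg.Agent.Helper8.FrobKer
  Cfsg.Agent.Helper8.TIFN

variable {G : Type*} [Group G] [Fintype G] {K N : Subgroup G}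

open Classical in
/-- the truncation of a function on `G` to `K ∖ 1`, as a function on `N` -/
noncomputable def trunc (K N : Subgroup G) (χ : G → ℂ) : N → ℂ :=
  fun n => if (n : G) ∈ K ∧ n ≠ 1 then χ n else 0

theorem trunc_of_mem (χ : G → ℂ) {n : N} (h1 : (n : G) ∈ K) (h2 : n ≠ 1) :
    trunc K N χ n = χ n := by
  classical
  rw [trunc, if_pos ⟨h1, h2⟩]

theorem trunc_of_not_mem (χ : G → ℂ) {n : N} (h1 : (n : G) ∉ K) :
    trunc K N χ n = 0 := by
  classical
  rw [trunc, if_neg (fun h => h1 h.1)]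

theorem trunc_one (χ : G → ℂ) : trunc K N χ 1 = 0 := by
  classical
  rw [trunc, if_neg (fun h => h.2 rfl)]

theorem trunc_isClassFunction (h : Hyp K N) (χ : G → ℂ) (hχ : IsClassFunction G χ) :
    IsClassFunction N (trunc K N χ) := by
  classical
  haveI := h.normal
  intro n m
  have hK : ((m * n * m⁻¹ : N) : G) ∈ K ↔ (n : G) ∈ K := by
    constructor
    · intro hh
      have h1 : m⁻¹ * (m * n * m⁻¹) * m⁻¹⁻¹ ∈ K.subgroupOf N :=
        h.normal.conj_mem _ (Subgroup.mem_subgroupOf.mpr hh) m⁻¹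
      have h2 : m⁻¹ * (m * n * m⁻¹) * m⁻¹⁻¹ = n := by group
      rw [h2] at h1
      exact Subgroup.mem_subgroupOf.mp h1
    · intro hh
      exact Subgroup.mem_subgroupOf.mp
        (h.normal.conj_mem _ (Subgroup.mem_subgroupOf.mpr hh) m)
  have h1 : (m * n * m⁻¹ = 1) ↔ n = 1 := by
    constructor
    · intro hh
      have : n = m⁻¹ * (m * n * m⁻¹) * m := by group
      rw [this, hh]; group
    · intro hh; rw [hh]; group
  unfold trunc
  by_cases hc : (n : G) ∈ K ∧ n ≠ 1
  · rw [if_pos hc, if_pos ⟨hK.mpr hc.1, fun hh => hc.2 (h1.mp hh)⟩]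
    have : ((m * n * m⁻¹ : N) : G) = (m : G) * (n : G) * (m : G)⁻¹ := by simp
    rw [this]
    exact hχ _ _
  · rw [if_neg hc, if_neg]
    rintro ⟨ha, hb⟩
    exact hc ⟨hK.mp ha, fun hh => hb (h1.mpr hh)⟩

variable [Fintype N]

theorem indFun_trunc (h : Hyp K N) (χ : G → ℂ) (hχ : IsClassFunction G χ) (n : N) :
    indFun N (trunc K N χ) n = trunc K N χ n :=
  Cfsg.Agent.S0850.part2 K N h.ti h.fus (trunc K N χ) (trunc_isClassFunction h χ hχ)
    (fun x hx => trunc_of_not_mem χ hx) (trunc_one χ) n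

theorem classInner_res_trunc (χ : G → ℂ) :
    classInner (fun n : N => χ n) (trunc K N χ) = classInner (trunc K N χ) (trunc K N χ) := by
  classical
  unfold classInner
  congr 1
  refine Finset.sum_congr rfl fun n _ => ?_
  unfold trunc
  by_cases hc : (n : G) ∈ K ∧ n ≠ 1
  · rw [if_pos hc]
  · rw [if_neg hc, map_zero, mul_zero, mul_zero]

/-- the basic T.I. inequality -/
theorem ti_bound (h : Hyp K N) (χ : IrrCharacter G) :
    ∃ r : ℝ, 0 ≤ r ∧ r ≤ 1 ∧ classInner (trunc K N (χ : G → ℂ)) (trunc K N (χ : G → ℂ)) = (r : ℂ) := by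
  classical
  haveI : Fintype (IrrCharacter G) := Fintype.ofFinite _
  have hχ : IsClassFunction G (χ : G → ℂ) := isClassFunction_irr χ
  set α := trunc K N (χ : G → ℂ) with hα
  set β := indFun N α with hβ
  obtain ⟨r, hr0, hr⟩ := classInner_self_eq_ofReal α
  refine ⟨r, hr0, ?_, hr⟩
  have hβcf : IsClassFunction G β := indFun_isClassFunction N α
  -- [χ, β] = r
  have h1 : classInner (χ : G → ℂ) β = (r : ℂ) := by
    rw [hβ, ← classInner_restrict (χ : G → ℂ) hχ α, classInner_res_trunc, hr]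
  -- [β, β] = r
  have h2 : classInner β β = (r : ℂ) := by
    rw [hβ, ← classInner_restrict (indFun N α) hβcf α]
    have : (fun n : N => indFun N α n) = α := by
      funext n
      exact indFun_trunc h (χ : G → ℂ) hχ n
    rw [this, hr]
  have h3 := Cfsg.Agent.Helper8.Fpf.classInner_self_eq_sum hβcf
  rw [h2] at h3
  have h4 : classInner β (χ : G → ℂ) = (r : ℂ) := by
    rw [← Cfsg.Agent.Helper24.classInner_conj_symm, h1, Complex.conj_ofReal]
  have h5 : ∀ γ : IrrCharacter G, classInner β (γ : G → ℂ) * (starRingEnd ℂ) (classInner β (γ : G → ℂ))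
      = ((Complex.normSq (classInner β (γ : G → ℂ)) : ℝ) : ℂ) := fun γ => Complex.mul_conj _
  simp_rw [h5] at h3
  have h6 : r = ∑ γ : IrrCharacter G, Complex.normSq (classInner β (γ : G → ℂ)) := by
    exact_mod_cast h3
  have h7 : Complex.normSq (classInner β (χ : G → ℂ)) ≤
      ∑ γ : IrrCharacter G, Complex.normSq (classInner β (γ : G → ℂ)) :=
    Finset.single_le_sum (f := fun γ : IrrCharacter G => Complex.normSq (classInner β (γ : G → ℂ)))
      (fun γ _ => Complex.normSq_nonneg _) (Finset.mem_univ χ)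
  rw [← h6, h4, Complex.normSq_ofReal] at h7
  by_contra hcon
  push Not at hcon
  nlinarith

end Cfsg.Agent.Helper5.TID
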