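import Mathlib
import Cfsg.Agent.Helper8.FrobKernel3

/-!
Frobenius kernels: norm of the restriction to the (abelian) kernel of a character of `N`.
-/

set_option autoImplicit false

namespace Cfsg.Agent.Helper5.TID

open Cfsg Cfsg.Agent.Helper24 Cfsg.Agent.Helper8.FrobKer

variable {N : Type*} [Group N] [Fintype N] (K : Subgroup N) [Fintype (IrrCharacter N)]

open Classical in
/-- the part of the degree of `∑ c ψ` coming from the characters constant on `K` -/
noncomputable def dPart (c : IrrCharacter N → ℕ) : ℕ :=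
  ∑ ψ : IrrCharacter N, if NonConst K (ψ : N → ℂ) then 0 else c ψ * irrDeg ψ

open Classical in
/-- the sum of the multiplicities of the characters not constant on `K` -/
noncomputable def s1 (c : IrrCharacter N → ℕ) : ℕ :=
  ∑ ψ : IrrCharacter N, if NonConst K (ψ : N → ℂ) then c ψ else 0

open Classical in
/-- the sum of the squares of the multiplicities of the characters not constant on `K` -/
noncomputable def s2 (c : IrrCharacter N → ℕ) : ℕ :=
  ∑ ψ : IrrCharacter N, if NonConst K (ψ : N → ℂ) then c ψ ^ 2 else 0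

open Classical in
/-- the nonconstant part -/
noncomputable def bPart (c : IrrCharacter N → ℕ) : N → ℂ :=
  ∑ ψ : IrrCharacter N, (if NonConst K (ψ : N → ℂ) then (c ψ : ℂ) else 0) • (ψ : N → ℂ)

open Classical in
/-- the constant part -/
noncomputable def aPart (c : IrrCharacter N → ℕ) : N → ℂ :=
  ∑ ψ : IrrCharacter N, (if NonConst K (ψ : N → ℂ) then 0 else (c ψ : ℂ)) • (ψ : N → ℂ)

omit [Fintype N] in
theorem sum_eq_aPart_add_bPart (c : IrrCharacter N → ℕ) :
    ∑ ψ : IrrCharacter N, (c ψ : ℂ) • (ψ : N → ℂ) = aPart K c + bPart K c := by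
  classical
  unfold aPart bPart
  rw [← Finset.sum_add_distrib]
  refine Finset.sum_congr rfl fun ψ _ => ?_
  by_cases h : NonConst K (ψ : N → ℂ)
  · rw [if_pos h, if_pos h, zero_smul, zero_add]
  · rw [if_neg h, if_neg h, zero_smul, add_zero]

omit [Fintype N] in
theorem aPart_apply_of_mem (c : IrrCharacter N → ℕ) {n : N} (hn : n ∈ K) :
    aPart K c n = (dPart K c : ℂ) := by
  classical
  unfold aPart dPart
  rw [Finset.sum_apply]
  push_cast
  refine Finset.sum_congr rfl fun ψ _ => ?_
  by_cases h : NonConst K (ψ : N → ℂ)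
  · rw [if_pos h, if_pos h, Pi.smul_apply, zero_smul]
  · rw [if_neg h, if_neg h, Pi.smul_apply, smul_eq_mul]
    unfold NonConst at h
    push Not at h
    rw [h n hn, irrDeg_spec]

theorem bPart_apply_of_not_mem [hK : K.Normal]
    (hF : ∀ n : N, n ∉ K → ∀ k ∈ K, k * n = n * k → k = 1)
    (c : IrrCharacter N → ℕ) {n : N} (hn : n ∉ K) :
    bPart K c n = 0 := by
  classical
  unfold bPart
  rw [Finset.sum_apply]
  refine Finset.sum_eq_zero fun ψ _ => ?_
  by_cases h : NonConst K (ψ : N → ℂ)
  · rw [if_pos h, Pi.smul_apply, vanish_off K hF ψ h hn, smul_zero]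
  · rw [if_neg h, Pi.smul_apply, zero_smul]

theorem bPart_one [hK : K.Normal]
    (hF : ∀ n : N, n ∉ K → ∀ k ∈ K, k * n = n * k → k = 1)
    (hab : ∀ a b : K, a * b = b * a) (c : IrrCharacter N → ℕ) :
    bPart K c 1 = (K.index : ℂ) * (s1 K c : ℂ) := by
  classical
  unfold bPart s1
  rw [Finset.sum_apply]
  push_cast
  rw [Finset.mul_sum]
  refine Finset.sum_congr rfl fun ψ _ => ?_
  by_cases h : NonConst K (ψ : N → ℂ)
  · rw [if_pos h, Pi.smul_apply, smul_eq_mul, deg_of_abelian K hF hab ψ h, mul_comm]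
  · rw [if_neg h, Pi.smul_apply, zero_smul, mul_zero]

/-- the degree formula -/
theorem sum_apply_one [hK : K.Normal]
    (hF : ∀ n : N, n ∉ K → ∀ k ∈ K, k * n = n * k → k = 1)
    (hab : ∀ a b : K, a * b = b * a) (c : IrrCharacter N → ℕ) :
    (∑ ψ : IrrCharacter N, (c ψ : ℂ) • (ψ : N → ℂ)) 1
      = (dPart K c : ℂ) + (K.index : ℂ) * (s1 K c : ℂ) := by
  rw [sum_eq_aPart_add_bPart K, Pi.add_apply, aPart_apply_of_mem K c K.one_mem,
    bPart_one K hF hab]

theorem classInner_indK_irr [hK : K.Normal] (ψ : IrrCharacter N)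
    (h : NonConst K (ψ : N → ℂ)) : classInner (indK K) (ψ : N → ℂ) = 0 := by
  classical
  have h1 := classInner_indK K ψ
  rw [if_pos h, classInner_smul_left] at h1
  have hI0 : (K.index : ℂ) ≠ 0 := by
    have : K.index ≠ 0 := Subgroup.index_ne_zero_of_finite
    exact_mod_cast this
  rcases mul_eq_zero.mp h1 with h2 | h2
  · exact absurd h2 hI0
  · exact h2

theorem classInner_indK_bPart [hK : K.Normal] (c : IrrCharacter N → ℕ) :
    classInner (indK K) (bPart K c) = 0 := by
  classical
  unfold bPart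
  rw [classInner_sum_right]
  refine Finset.sum_eq_zero fun ψ _ => ?_
  rw [classInner_smul_right]
  by_cases h : NonConst K (ψ : N → ℂ)
  · rw [classInner_indK_irr K ψ h, mul_zero]
  · rw [if_neg h, map_zero, zero_mul]

theorem classInner_indK_indK :
    classInner (indK K) (indK K) = (Nat.card N : ℂ)⁻¹ * (Nat.card K : ℂ) := by
  unfold classInner
  congr 1
  rw [← sum_indK K]
  refine Finset.sum_congr rfl fun n _ => ?_
  rw [conj_indK]
  by_cases hn : n ∈ K
  · rw [indK_mem K hn, mul_one]
  · rw [indK_not_mem K hn, mul_zero]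

theorem classInner_bPart_bPart (c : IrrCharacter N → ℕ) :
    classInner (bPart K c) (bPart K c) = (s2 K c : ℂ) := by
  classical
  unfold bPart s2
  rw [classInner_sum_sum]
  push_cast
  refine Finset.sum_congr rfl fun ψ _ => ?_
  by_cases h : NonConst K (ψ : N → ℂ)
  · rw [if_pos h, if_pos h, Complex.conj_natCast, sq]
  · rw [if_neg h, if_neg h, zero_mul]

/-- `indK · θ = D · indK + B` -/
theorem indK_mul_eq [hK : K.Normal]
    (hF : ∀ n : N, n ∉ K → ∀ k ∈ K, k * n = n * k → k = 1) (c : IrrCharacter N → ℕ) :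
    (fun n : N => indK K n * (∑ ψ : IrrCharacter N, (c ψ : ℂ) • (ψ : N → ℂ)) n)
      = (dPart K c : ℂ) • indK K + bPart K c := by
  funext n
  rw [sum_eq_aPart_add_bPart K, Pi.add_apply, Pi.add_apply, Pi.smul_apply, smul_eq_mul]
  by_cases hn : n ∈ K
  · rw [indK_mem K hn, aPart_apply_of_mem K c hn]
    ring
  · rw [indK_not_mem K hn, bPart_apply_of_not_mem K hF c hn]
    ring

/-- the norm of `indK · θ` -/
theorem classInner_indK_mul [hK : K.Normal]
    (hF : ∀ n : N, n ∉ K → ∀ k ∈ K, k * n = n * k → k = 1) (c : IrrCharacter N → ℕ) :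
    classInner (fun n : N => indK K n * (∑ ψ : IrrCharacter N, (c ψ : ℂ) • (ψ : N → ℂ)) n)
        (fun n : N => indK K n * (∑ ψ : IrrCharacter N, (c ψ : ℂ) • (ψ : N → ℂ)) n)
      = (dPart K c : ℂ) ^ 2 * ((Nat.card N : ℂ)⁻¹ * (Nat.card K : ℂ)) + (s2 K c : ℂ) := by
  rw [indK_mul_eq K hF c, classInner_add_left, classInner_add_right, classInner_add_right,
    classInner_smul_left, classInner_smul_left, classInner_smul_right, classInner_smul_right,
    classInner_indK_indK, classInner_indK_bPart, classInner_bPart_bPart,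
    ← Cfsg.Agent.Helper24.classInner_conj_symm (indK K) (bPart K c), classInner_indK_bPart,
    Complex.conj_natCast, map_zero]
  ring

open Classical in
/-- the number of characters not constant on `K` -/
noncomputable def numRel : ℕ :=
  (Finset.univ.filter (fun ψ : IrrCharacter N => NonConst K (ψ : N → ℂ))).card

theorem numRel_mul_index [hK : K.Normal]
    (hF : ∀ n : N, n ∉ K → ∀ k ∈ K, k * n = n * k → k = 1)
    (hab : ∀ a b : K, a * b = b * a) :
    numRel K * K.index + 1 = Nat.card K := by
  classical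
  have h1 := sum_irrDeg_sq (G := N)
  have h2 : ∑ ψ : IrrCharacter N, irrDeg ψ ^ 2
      = (∑ ψ : IrrCharacter N, if NonConst K (ψ : N → ℂ) then K.index ^ 2 else 0)
        + ∑ ψ : IrrCharacter N, if NonConst K (ψ : N → ℂ) then 0 else irrDeg ψ ^ 2 := by
    rw [← Finset.sum_add_distrib]
    refine Finset.sum_congr rfl fun ψ _ => ?_
    by_cases h : NonConst K (ψ : N → ℂ)
    · rw [if_pos h, if_pos h, add_zero]
      have := deg_of_abelian K hF hab ψ h
      rw [irrDeg_spec] at this
      have h3 : irrDeg ψ = K.index := by exact_mod_cast this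
      rw [h3]
    · rw [if_neg h, if_neg h, zero_add]
  have h3 : (∑ ψ : IrrCharacter N, if NonConst K (ψ : N → ℂ) then 0 else irrDeg ψ ^ 2)
      = K.index := by
    have h4 := sum_const K (1 : N)
    rw [indK_mem K K.one_mem, mul_one] at h4
    have h5 : ((∑ ψ : IrrCharacter N, if NonConst K (ψ : N → ℂ) then 0 else irrDeg ψ ^ 2 : ℕ) : ℂ)
        = (K.index : ℂ) := by
      rw [← h4]
      push_cast
      refine Finset.sum_congr rfl fun ψ _ => ?_
      by_cases h : NonConst K (ψ : N → ℂ)
      · rw [if_pos h, if_pos h]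
      · rw [if_neg h, if_neg h, irrDeg_spec, sq]
    exact_mod_cast h5
  have h6 : (∑ ψ : IrrCharacter N, if NonConst K (ψ : N → ℂ) then K.index ^ 2 else 0)
      = numRel K * K.index ^ 2 := by
    unfold numRel
    rw [← Finset.sum_filter, Finset.sum_const, smul_eq_mul]
  rw [h2, h3, h6, ← K.card_mul_index] at h1
  have hpos : 0 < K.index := Nat.pos_of_ne_zero Subgroup.index_ne_zero_of_finite
  have h7 : K.index * (numRel K * K.index + 1) = K.index * Nat.card K := by
    rw [mul_comm K.index (Nat.card K), ← h1]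
    ring
  exact Nat.eq_of_mul_eq_mul_left hpos h7

end Cfsg.Agent.Helper5.TID
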