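import Mathlib
import Cfsg.Agent.Helper5.TIDegA
import Cfsg.Agent.Helper5.TIDegB
import Cfsg.Agent.Helper8.CharComp

/-!
T.I. subgroups with Frobenius normalizer and abelian kernel: numerical constraints on the
restriction of an irreducible character of `G` to `N`.
-/

set_option autoImplicit false

namespace Cfsg.Agent.Helper5.TID

open Cfsg Cfsg.Agent.Helper24 Cfsg.Agent.Helper8.FrobKer Cfsg.Agent.Helper8.TIFN

variable {G : Type*} [Group G] [Fintype G] {K N : Subgroup G} [Fintype N]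
  [Fintype (IrrCharacter N)]

omit [Fintype G] in
theorem exists_coeff (χ : IrrCharacter G) :
    ∃ c : IrrCharacter N → ℕ,
      (fun n : N => (χ : G → ℂ) n) = ∑ ψ : IrrCharacter N, (c ψ : ℂ) • (ψ : N → ℂ) :=
  IsCharacter.exists_nat_coeff
    (Cfsg.Agent.Helper8.isCharacter_restrict N (IsIrrCharacter.isCharacter χ.2))

omit [Fintype (IrrCharacter N)] in
theorem sum_indK_mul_eq (χ : G → ℂ) :
    ∑ n : N, (indK (K.subgroupOf N) n * χ n) * (starRingEnd ℂ) (indK (K.subgroupOf N) n * χ n)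
      = (∑ n : N, trunc K N χ n * (starRingEnd ℂ) (trunc K N χ n))
        + χ 1 * (starRingEnd ℂ) (χ 1) := by
  classical
  have h1 : ∀ n : N, (indK (K.subgroupOf N) n * χ n)
        * (starRingEnd ℂ) (indK (K.subgroupOf N) n * χ n)
      = trunc K N χ n * (starRingEnd ℂ) (trunc K N χ n)
        + (if n = 1 then χ 1 * (starRingEnd ℂ) (χ 1) else 0) := by
    intro n
    by_cases hn1 : n = 1
    · subst hn1
      rw [if_pos rfl, trunc_one, zero_mul, zero_add,
        indK_mem _ (Subgroup.one_mem _), one_mul, Subgroup.coe_one]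
    · rw [if_neg hn1, add_zero]
      by_cases hnK : (n : G) ∈ K
      · rw [indK_mem _ (Subgroup.mem_subgroupOf.mpr hnK), one_mul, trunc_of_mem χ hnK hn1]
      · rw [indK_not_mem _ (fun hh => hnK (Subgroup.mem_subgroupOf.mp hh)), zero_mul, zero_mul,
          trunc_of_not_mem χ hnK, zero_mul]
  simp_rw [h1]
  rw [Finset.sum_add_distrib, Finset.sum_ite_eq' Finset.univ (1 : N), if_pos (Finset.mem_univ _)]

/-- the numerical constraints -/
theorem constraints (h : Hyp K N) (hab : ∀ a ∈ K, ∀ b ∈ K, a * b = b * a) (χ : IrrCharacter G)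
    (c : IrrCharacter N → ℕ)
    (hc : (fun n : N => (χ : G → ℂ) n) = ∑ ψ : IrrCharacter N, (c ψ : ℂ) • (ψ : N → ℂ)) :
    irrDeg χ = dPart (K.subgroupOf N) c + (K.subgroupOf N).index * s1 (K.subgroupOf N) c ∧
    Nat.card (K.subgroupOf N) * (dPart (K.subgroupOf N) c ^ 2
        + (K.subgroupOf N).index * s2 (K.subgroupOf N) c) ≤ irrDeg χ ^ 2 + Nat.card N := by
  classical
  haveI := h.normal
  have hab' : ∀ a b : K.subgroupOf N, a * b = b * a := by
    intro a b
    apply Subtype.ext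
    apply Subtype.ext
    exact hab _ a.2 _ b.2
  have hF := frob h
  constructor
  · have h1 := sum_apply_one (K.subgroupOf N) hF hab' c
    rw [← hc] at h1
    have h2 : (χ : G → ℂ) ((1 : N) : G) = (irrDeg χ : ℂ) := by
      rw [Subgroup.coe_one, irrDeg_spec]
    have h1' : (χ : G → ℂ) ((1 : N) : G) = (dPart (K.subgroupOf N) c : ℂ)
        + ((K.subgroupOf N).index : ℂ) * (s1 (K.subgroupOf N) c : ℂ) := h1
    rw [h2] at h1'
    exact_mod_cast h1'
  · obtain ⟨r, hr0, hr1, hr⟩ := ti_bound (N := N) h χ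
    have h1 := classInner_indK_mul (K.subgroupOf N) hF c
    rw [← hc] at h1
    have hN0 : (Nat.card N : ℂ) ≠ 0 := by exact_mod_cast (Nat.card_pos (α := N)).ne'
    -- unfold the inner products
    have h2 : (Nat.card N : ℂ) * classInner
        (fun n : N => indK (K.subgroupOf N) n * (χ : G → ℂ) n)
        (fun n : N => indK (K.subgroupOf N) n * (χ : G → ℂ) n)
        = (Nat.card N : ℂ) * (r : ℂ) + (irrDeg χ : ℂ) ^ 2 := by
      rw [← hr]
      unfold classInner
      rw [sum_indK_mul_eq, irrDeg_spec, Complex.conj_natCast]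
      field_simp
    rw [h1] at h2
    have h3 : (Nat.card (K.subgroupOf N) : ℂ) * ((K.subgroupOf N).index : ℂ) = (Nat.card N : ℂ) :=
      card_mul_index_complex (K.subgroupOf N)
    have h4 : (dPart (K.subgroupOf N) c : ℂ) ^ 2 * (Nat.card (K.subgroupOf N) : ℂ)
        + (Nat.card N : ℂ) * (s2 (K.subgroupOf N) c : ℂ)
        = (Nat.card N : ℂ) * (r : ℂ) + (irrDeg χ : ℂ) ^ 2 := by
      rw [← h2]
      field_simp
    have h5 : (dPart (K.subgroupOf N) c : ℝ) ^ 2 * (Nat.card (K.subgroupOf N) : ℝ)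
        + (Nat.card N : ℝ) * (s2 (K.subgroupOf N) c : ℝ)
        = (Nat.card N : ℝ) * r + (irrDeg χ : ℝ) ^ 2 := by
      exact_mod_cast h4
    have h6 : (Nat.card (K.subgroupOf N) : ℝ) * ((K.subgroupOf N).index : ℝ) = (Nat.card N : ℝ) := by
      exact_mod_cast h3
    have hNpos : (0 : ℝ) ≤ (Nat.card N : ℝ) := Nat.cast_nonneg _
    have h7 : ((Nat.card (K.subgroupOf N) * (dPart (K.subgroupOf N) c ^ 2
        + (K.subgroupOf N).index * s2 (K.subgroupOf N) c) : ℕ) : ℝ)
        ≤ ((irrDeg χ ^ 2 + Nat.card N : ℕ) : ℝ) := by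
      push_cast
      nlinarith
    exact_mod_cast h7

end Cfsg.Agent.Helper5.TID
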