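import Mathlib
import Cfsg.Agent.Helper5.TIDegC

/-!
T.I. subgroups with Frobenius normalizer `N` and kernel `K` of odd prime order `q`:
an irreducible character of `G` of degree `q - 1` vanishes on `N ∖ K`, or the number of
characters of `N` not constant on `K` is even.
-/

set_option autoImplicit false

namespace Cfsg.Agent.Helper5.TID

open Cfsg Cfsg.Agent.Helper24 Cfsg.Agent.Helper8.FrobKer Cfsg.Agent.Helper8.TIFN

theorem arithA (q e r D b : ℤ) (hq : 3 ≤ q) (he : 1 ≤ e) (hr : 1 ≤ r) (hD : 0 ≤ D) (hb : 0 ≤ b)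
    (her : r * e + 1 = q)
    (hdeg : q - 1 = D + e * (r * b))
    (hineq : q * (D ^ 2 + e * (r * b ^ 2)) ≤ (q - 1) ^ 2 + q * e) : D = 0 := by
  have hn : r * e = q - 1 := by linarith
  have h1 : e * (r * b) = (q - 1) * b := by rw [← hn]; ring
  rw [h1] at hdeg
  rcases lt_or_ge b 1 with hb1 | hb1
  · have hb0 : b = 0 := by omega
    subst hb0
    have hDq : D = q - 1 := by linarith
    subst hDq
    exfalso
    have he' : e ≤ q - 1 := by nlinarith
    nlinarith
  · nlinarith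

theorem arithB (q e r D b c₀ ε : ℤ) (hq : 3 ≤ q) (he : 1 ≤ e) (hr : 1 ≤ r) (hD : 0 ≤ D)
    (hε : ε = 1 ∨ ε = -1) (hc : c₀ = b + ε) (hc0 : 0 ≤ c₀) (hb : 2 ≤ r → 0 ≤ b)
    (her : r * e + 1 = q)
    (hdeg : q - 1 = D + e * ((r - 1) * b + c₀))
    (hineq : q * (D ^ 2 + e * ((r - 1) * b ^ 2 + c₀ ^ 2)) ≤ (q - 1) ^ 2 + q * e) :
    D = 0 ∨ r = 2 ∨ e = 1 := by
  have hn : r * e = q - 1 := by linarith
  rcases lt_or_ge r 2 with hr2 | hr2
  · have hr1 : r = 1 := by omega
    subst hr1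
    have he' : e = q - 1 := by linarith
    subst he'
    simp only [sub_self, zero_mul, zero_add] at hdeg hineq
    left
    rcases lt_or_ge c₀ 1 with h0 | h0
    · have : c₀ = 0 := by omega
      subst this
      exfalso
      have hDq : D = q - 1 := by linarith
      subst hDq
      nlinarith
    · nlinarith
  · have hb0 := hb hr2
    rcases hε with rfl | rfl
    · -- ε = 1
      have h1 : e * ((r - 1) * b + c₀) = (q - 1) * b + e := by
        rw [hc, ← hn]; ring
      rw [h1] at hdeg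
      have hb' : b = 0 := by
        by_contra hne
        have : 1 ≤ b := by omega
        nlinarith
      subst hb'
      have hc1 : c₀ = 1 := by linarith
      subst hc1
      have hDe : D = e * (r - 1) := by
        have : D = q - 1 - e := by linarith
        rw [this, ← hn]; ring
      right; left
      rw [hDe] at hineq
      have h2 : q * (e ^ 2 * (r - 1) ^ 2) ≤ e ^ 2 * r ^ 2 := by
        have : (q - 1) ^ 2 = e ^ 2 * r ^ 2 := by rw [← hn]; ring
        nlinarith
      have h3 : q * (r - 1) ^ 2 ≤ r ^ 2 := by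
        have he2 : 0 < e ^ 2 := by positivity
        have : e ^ 2 * (q * (r - 1) ^ 2) ≤ e ^ 2 * r ^ 2 := by nlinarith
        exact le_of_mul_le_mul_left this he2
      by_contra hne
      have hr3 : 3 ≤ r := by omega
      nlinarith
    · -- ε = -1
      have hb1 : 1 ≤ b := by linarith
      have h1 : e * ((r - 1) * b + c₀) = (q - 1) * b - e := by
        rw [hc, ← hn]; ring
      rw [h1] at hdeg
      have he2 : 2 * e ≤ q - 1 := by nlinarith
      have hb' : b = 1 := by
        by_contra hne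
        have : 2 ≤ b := by omega
        nlinarith
      subst hb'
      have hc1 : c₀ = 0 := by linarith
      subst hc1
      have hDe : D = e := by linarith
      subst hDe
      right; right
      have h2 : q * (D - 1) ^ 2 ≤ 1 := by
        have : (r - 1) * D = q - 1 - D := by rw [← hn]; ring
        nlinarith
      by_contra hne
      have : 2 ≤ D := by omega
      nlinarith

variable {G : Type*} [Group G] [Fintype G] {K N : Subgroup G} [Fintype N]
  [Fintype (IrrCharacter N)]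

omit [Fintype (IrrCharacter N)] in
/-- the coefficient relation coming from coherence -/
theorem coeff_relation (χ : IrrCharacter G) (c : IrrCharacter N → ℕ)
    [Fintype (IrrCharacter N)]
    (hc : (fun n : N => (χ : G → ℂ) n) = ∑ ψ : IrrCharacter N, (c ψ : ℂ) • (ψ : N → ℂ))
    (ε : ℂ) (hε : ε = 1 ∨ ε = -1) (ψ ξ : IrrCharacter N) (θ₁ θ₂ : IrrCharacter G)
    (hind : indFun N ((ψ : N → ℂ) - (ξ : N → ℂ)) = ε • ((θ₁ : G → ℂ) - (θ₂ : G → ℂ))) :
    (c ψ : ℂ) - (c ξ : ℂ)
      = ε * ((if θ₁ = χ then 1 else 0) - (if θ₂ = χ then 1 else 0)) := by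
  classical
  have h1 : classInner (fun n : N => (χ : G → ℂ) n) ((ψ : N → ℂ) - (ξ : N → ℂ))
      = (c ψ : ℂ) - (c ξ : ℂ) := by
    rw [hc, classInner_sub_right, classInner_sum_irr (fun ψ => (c ψ : ℂ)),
      classInner_sum_irr (fun ψ => (c ψ : ℂ))]
  rw [← h1, classInner_restrict (χ : G → ℂ) (isClassFunction_irr χ), hind, classInner_smul_right,
    classInner_sub_right, classInner_irr, classInner_irr]
  have hεc : (starRingEnd ℂ) ε = ε := by
    rcases hε with rfl | rfl
    · simp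
    · simp
  rw [hεc]
  congr 2
  · by_cases h : χ = θ₁
    · rw [if_pos h, if_pos h.symm]
    · rw [if_neg h, if_neg (fun hh => h hh.symm)]
  · by_cases h : χ = θ₂
    · rw [if_pos h, if_pos h.symm]
    · rw [if_neg h, if_neg (fun hh => h hh.symm)]

omit [Fintype G] [Fintype N] in
theorem nonConst_iff (ψ : IrrCharacter N) :
    NonConst (K.subgroupOf N) (ψ : N → ℂ)
      ↔ ∃ k : N, (k : G) ∈ K ∧ (ψ : N → ℂ) k ≠ (ψ : N → ℂ) 1 := by
  constructor
  · rintro ⟨k, hk, hne⟩
    exact ⟨k, Subgroup.mem_subgroupOf.mp hk, hne⟩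
  · rintro ⟨k, hk, hne⟩
    exact ⟨k, Subgroup.mem_subgroupOf.mpr hk, hne⟩

/-- the main dichotomy -/
theorem main_dichotomy (h : Hyp K N) (hab : ∀ a ∈ K, ∀ b ∈ K, a * b = b * a)
    (hq3 : 3 ≤ Nat.card (K.subgroupOf N)) (hodd : Odd (Nat.card (K.subgroupOf N)))
    (χ : IrrCharacter G) (hd : irrDeg χ + 1 = Nat.card (K.subgroupOf N)) :
    Even (numRel (K.subgroupOf N)) ∨ ∀ n : N, (n : G) ∉ K → (χ : G → ℂ) n = 0 := by
  classical
  haveI := h.normal
  have hab' : ∀ a b : K.subgroupOf N, a * b = b * a := by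
    intro a b
    apply Subtype.ext
    apply Subtype.ext
    exact hab _ a.2 _ b.2
  have hF := frob h
  obtain ⟨c, hc⟩ := exists_coeff (N := N) χ
  obtain ⟨hdeg, hineq⟩ := constraints h hab χ c hc
  have hre := numRel_mul_index (K.subgroupOf N) hF hab'
  obtain ⟨ε, f, hε, hf, hcoh⟩ := main851 h hab
  set q := Nat.card (K.subgroupOf N) with hq
  set e := (K.subgroupOf N).index with he
  set r := numRel (K.subgroupOf N) with hr
  set D := dPart (K.subgroupOf N) c with hD
  have hNqe : Nat.card N = q * e := ((K.subgroupOf N).card_mul_index).symm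
  have hepos : 1 ≤ e := Nat.pos_of_ne_zero Subgroup.index_ne_zero_of_finite
  have hrpos : 1 ≤ r := by
    rcases Nat.eq_zero_or_pos r with h0 | h0
    · rw [h0] at hre; omega
    · exact h0
  set R := Finset.univ.filter (fun ψ : IrrCharacter N => NonConst (K.subgroupOf N) (ψ : N → ℂ))
    with hR
  have hRcard : R.card = r := rfl
  have hs1 : s1 (K.subgroupOf N) c = ∑ ψ ∈ R, c ψ := by
    unfold s1; rw [hR, Finset.sum_filter]
  have hs2 : s2 (K.subgroupOf N) c = ∑ ψ ∈ R, c ψ ^ 2 := by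
    unfold s2; rw [hR, Finset.sum_filter]
  have hmemR : ∀ ψ, ψ ∈ R ↔ NonConst (K.subgroupOf N) (ψ : N → ℂ) := by
    intro ψ; rw [hR, Finset.mem_filter]; simp
  -- integer forms
  have hdegZ : (q : ℤ) - 1 = (D : ℤ) + (e : ℤ) * (s1 (K.subgroupOf N) c : ℤ) := by
    have : (irrDeg χ : ℤ) = (q : ℤ) - 1 := by
      have := hd
      omega
    rw [← this]
    exact_mod_cast hdeg
  have hineqZ : (q : ℤ) * ((D : ℤ) ^ 2 + (e : ℤ) * (s2 (K.subgroupOf N) c : ℤ))
      ≤ ((q : ℤ) - 1) ^ 2 + (q : ℤ) * (e : ℤ) := by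
    have h1 : (irrDeg χ : ℤ) = (q : ℤ) - 1 := by
      have := hd
      omega
    rw [← h1]
    have h2 := hineq
    rw [hNqe] at h2
    exact_mod_cast h2
  have key : D = 0 ∨ Even r := by
    by_cases hex : ∃ ψ₀ : {χ : IrrCharacter N // ∃ k : N, (k : G) ∈ K ∧
        (χ : N → ℂ) k ≠ (χ : N → ℂ) 1}, f ψ₀ = χ
    · -- the exceptional case
      obtain ⟨ψ₀, hψ₀⟩ := hex
      obtain ⟨εz, hεz, hεzc⟩ : ∃ εz : ℤ, (εz = 1 ∨ εz = -1) ∧ (εz : ℂ) = ε := by
        rcases hε with rfl | rfl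
        · exact ⟨1, Or.inl rfl, by simp⟩
        · exact ⟨-1, Or.inr rfl, by simp⟩
      have hψ₀R : ψ₀.1 ∈ R := (hmemR _).mpr ((nonConst_iff ψ₀.1).mpr ψ₀.2)
      set b : ℤ := (c ψ₀.1 : ℤ) - εz with hb
      have hcξ : ∀ ξ ∈ R.erase ψ₀.1, (c ξ : ℤ) = b := by
        intro ξ hξ
        rw [Finset.mem_erase] at hξ
        have hξ' := (nonConst_iff ξ).mp ((hmemR ξ).mp hξ.2)
        have hne : f ⟨ξ, hξ'⟩ ≠ χ := by
          intro hh
          have := hf (hh.trans hψ₀.symm)
          exact hξ.1 (congrArg Subtype.val this)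
        have h1 := coeff_relation χ c hc ε hε ψ₀.1 ξ (f ψ₀) (f ⟨ξ, hξ'⟩) (hcoh ψ₀ ⟨ξ, hξ'⟩)
        rw [if_pos hψ₀, if_neg hne, sub_zero, mul_one, ← hεzc] at h1
        have h2 : ((c ψ₀.1 : ℤ) : ℂ) - ((c ξ : ℤ) : ℂ) = ((εz : ℤ) : ℂ) := by
          push_cast
          exact h1
        have h3 : (c ψ₀.1 : ℤ) - (c ξ : ℤ) = εz := by exact_mod_cast h2
        rw [hb]; linarith
      have hcardE : ((R.erase ψ₀.1).card : ℤ) = (r : ℤ) - 1 := by
        rw [Finset.card_erase_of_mem hψ₀R, hRcard]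
        have := hrpos
        omega
      have hs1Z : (s1 (K.subgroupOf N) c : ℤ) = ((r : ℤ) - 1) * b + (c ψ₀.1 : ℤ) := by
        rw [hs1, ← Finset.add_sum_erase R _ hψ₀R]
        push_cast
        rw [Finset.sum_congr rfl hcξ, Finset.sum_const, nsmul_eq_mul, hcardE]
        ring
      have hs2Z : (s2 (K.subgroupOf N) c : ℤ) = ((r : ℤ) - 1) * b ^ 2 + (c ψ₀.1 : ℤ) ^ 2 := by
        rw [hs2, ← Finset.add_sum_erase R _ hψ₀R]
        push_cast
        have : ∀ ξ ∈ R.erase ψ₀.1, (c ξ : ℤ) ^ 2 = b ^ 2 := fun ξ hξ => by rw [hcξ ξ hξ]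
        rw [Finset.sum_congr rfl this, Finset.sum_const, nsmul_eq_mul, hcardE]
        ring
      have hbnn : (2 : ℤ) ≤ (r : ℤ) → 0 ≤ b := by
        intro h2
        have hcard2 : 0 < (R.erase ψ₀.1).card := by
          have : ((R.erase ψ₀.1).card : ℤ) ≥ 1 := by rw [hcardE]; linarith
          exact_mod_cast this
        obtain ⟨ξ, hξ⟩ := Finset.card_pos.mp hcard2
        rw [← hcξ ξ hξ]
        exact Int.natCast_nonneg _
      rw [hs1Z] at hdegZ
      rw [hs2Z] at hineqZ
      have hres := arithB (q : ℤ) (e : ℤ) (r : ℤ) (D : ℤ) b (c ψ₀.1 : ℤ) εz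
        (by exact_mod_cast hq3) (by exact_mod_cast hepos) (by exact_mod_cast hrpos)
        (Int.natCast_nonneg _) hεz (by rw [hb]; ring) (Int.natCast_nonneg _) hbnn
        (by exact_mod_cast hre) hdegZ hineqZ
      rcases hres with h1 | h1 | h1
      · left; exact_mod_cast h1
      · right
        have : r = 2 := by exact_mod_cast h1
        rw [this]; exact even_two
      · right
        have he1 : e = 1 := by exact_mod_cast h1
        rw [he1, mul_one] at hre
        obtain ⟨m, hm⟩ := hodd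
        exact ⟨m, by omega⟩
    · -- the non-exceptional case
      push Not at hex
      left
      obtain ⟨ψ₁, hψ₁⟩ : R.Nonempty := by
        rw [← Finset.card_pos, hRcard]; exact hrpos
      have hcξ : ∀ ξ ∈ R, c ξ = c ψ₁ := by
        intro ξ hξ
        have hξ' := (nonConst_iff ξ).mp ((hmemR ξ).mp hξ)
        have hψ₁' := (nonConst_iff ψ₁).mp ((hmemR ψ₁).mp hψ₁)
        have h1 := coeff_relation χ c hc ε hε ξ ψ₁ (f ⟨ξ, hξ'⟩) (f ⟨ψ₁, hψ₁'⟩)
          (hcoh ⟨ξ, hξ'⟩ ⟨ψ₁, hψ₁'⟩)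
        rw [if_neg (hex _), if_neg (hex _), sub_zero, mul_zero] at h1
        have h2 : (c ξ : ℂ) = (c ψ₁ : ℂ) := sub_eq_zero.mp h1
        exact_mod_cast h2
      have hs1' : s1 (K.subgroupOf N) c = r * c ψ₁ := by
        rw [hs1, Finset.sum_congr rfl hcξ, Finset.sum_const, smul_eq_mul, hRcard]
      have hs2' : s2 (K.subgroupOf N) c = r * c ψ₁ ^ 2 := by
        have : ∀ ξ ∈ R, c ξ ^ 2 = c ψ₁ ^ 2 := fun ξ hξ => by rw [hcξ ξ hξ]
        rw [hs2, Finset.sum_congr rfl this, Finset.sum_const, smul_eq_mul, hRcard]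
      rw [hs1'] at hdegZ
      rw [hs2'] at hineqZ
      push_cast at hdegZ hineqZ
      have hres := arithA (q : ℤ) (e : ℤ) (r : ℤ) (D : ℤ) (c ψ₁ : ℤ)
        (by exact_mod_cast hq3) (by exact_mod_cast hepos) (by exact_mod_cast hrpos)
        (Int.natCast_nonneg _) (Int.natCast_nonneg _) (by exact_mod_cast hre) hdegZ hineqZ
      exact_mod_cast hres
  rcases key with hD0 | hev
  · right
    intro n hn
    have h0 : ∀ ψ : IrrCharacter N, ¬ NonConst (K.subgroupOf N) (ψ : N → ℂ) → c ψ = 0 := by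
      intro ψ hψ
      have h1 : dPart (K.subgroupOf N) c = 0 := hD0
      unfold dPart at h1
      have h2 := (Finset.sum_eq_zero_iff.mp h1) ψ (Finset.mem_univ _)
      rw [if_neg hψ] at h2
      rcases Nat.mul_eq_zero.mp h2 with h3 | h3
      · exact h3
      · exfalso
        have h4 := irr_one_ne_zero ψ
        rw [irrDeg_spec, h3] at h4
        exact h4 (by simp)
    have hn' : n ∉ K.subgroupOf N := fun hh => hn (Subgroup.mem_subgroupOf.mp hh)
    have h1 : (χ : G → ℂ) n = (∑ ψ : IrrCharacter N, (c ψ : ℂ) • (ψ : N → ℂ)) n := congrFun hc n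
    rw [h1, sum_eq_aPart_add_bPart (K.subgroupOf N), Pi.add_apply,
      bPart_apply_of_not_mem (K.subgroupOf N) hF c hn', add_zero]
    unfold aPart
    rw [Finset.sum_apply]
    refine Finset.sum_eq_zero fun ψ _ => ?_
    by_cases hψ : NonConst (K.subgroupOf N) (ψ : N → ℂ)
    · rw [if_pos hψ, Pi.smul_apply, zero_smul]
    · rw [if_neg hψ, h0 ψ hψ, Pi.smul_apply, Nat.cast_zero, zero_smul]
  · left; exact hev

end Cfsg.Agent.Helper5.TID
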