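import Mathlib
import Cfsg.Prelude.Def_Local
import Cfsg.Agent.Helper7.PPrimeCore
import Cfsg.Agent.Helper23.PSeries
import Cfsg.Agent.Helper21.ExpSix
import Cfsg.Agent.Helper13.ThHOMO

/-!
# S3797 piece FINAL (helper5): from `main_core` (in `H = G / O(G)`) and HOMO to the statement of S3797
-/

set_option autoImplicit false

open Cfsg

namespace Cfsg.Agent.Helper5.Th

universe u

/-- the statement of piece CORE (`main_core`), for all groups in a fixed universe -/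
def CoreStmt : Prop :=
  ∀ (H : Type u) [Group H] [Finite H], Group.IsSolvable H → Cfsg.pPrimeCore 2 H = ⊥ →
    (∃ x y : H, x ≠ y ∧ x ≠ 1 ∧ x ^ 2 = 1 ∧ y ≠ 1 ∧ y ^ 2 = 1) →
    (∀ x y : H, x ≠ 1 → x ^ 2 = 1 → y ≠ 1 → y ^ 2 = 1 → IsConj x y) →
    (Cfsg.pCore 2 H).index.Coprime 2 ∧
    ∀ S : Sylow 2 H, ∀ x ∈ (S : Subgroup H), x ^ 2 = 1 →
      ∀ s ∈ (S : Subgroup H), x * s = s * x

/-- conjugation action of the normalizer of `S` on `S` -/
noncomputable def normAut {G : Type*} [Group G] (S : Subgroup G) :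
    Subgroup.normalizer (S : Set G) →* MulAut S :=
  (MulAut.congr (Subgroup.subgroupOfEquivOfLe (Subgroup.le_normalizer (H := S)))).toMonoidHom.comp
    (MulAut.conjNormal (H := S.subgroupOf (Subgroup.normalizer (S : Set G))))

theorem normAut_apply {G : Type*} [Group G] (S : Subgroup G)
    (n : Subgroup.normalizer (S : Set G)) (s : S) :
    ((normAut S n s : S) : G) = (n : G) * s * (n : G)⁻¹ := by
  simp [normAut, MulAut.congr]

theorem final_of_core (hcore : CoreStmt.{u}) {G : Type u} [Group G] [Finite G]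
    (hG : Group.IsSolvable G) (S : Sylow 2 G)
    (htwo : ∃ x y : G, x ∈ (S : Subgroup G) ∧ y ∈ (S : Subgroup G) ∧ x ≠ y ∧ x ≠ 1 ∧ x ^ 2 = 1 ∧
      y ≠ 1 ∧ y ^ 2 = 1)
    (hconj : ∀ x y : G, x ≠ 1 → x ^ 2 = 1 → y ≠ 1 → y ^ 2 = 1 → IsConj x y) :
    Cfsg.PLengthLE 2 1 G ∧
    ((∃ m r : ℕ, Nonempty (↥(S : Subgroup G) ≃* (Fin r → Multiplicative (ZMod (2 ^ m))))) ∨
      (¬ IsMulCommutative (S : Subgroup G) ∧ ∃ Y : Subgroup (MulAut ↥(S : Subgroup G)),
        Group.IsSolvable Y ∧ ∀ x y : ↥(S : Subgroup G), x ≠ 1 → x ^ 2 = 1 → y ≠ 1 → y ^ 2 = 1 →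
          ∃ a ∈ Y, a x = y)) := by
  classical
  have : Fact (Nat.Prime 2) := ⟨Nat.prime_two⟩
  set O : Subgroup G := Cfsg.pPrimeCore 2 G with hOdef
  have hOcop : (Nat.card O).Coprime 2 := Cfsg.Agent.Helper23.pPrimeCore_card_coprime 2 G
  have hOodd : Odd (Nat.card O) := Nat.Coprime.odd_of_right hOcop
  -- S ∩ O = 1
  have hSO : ∀ g : G, g ∈ (S : Subgroup G) → g ∈ O → g = 1 := by
    intro g hgS hgO
    obtain ⟨k, hk⟩ := (IsPGroup.iff_orderOf.mp S.isPGroup') ⟨g, hgS⟩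
    have h1 : orderOf g = 2 ^ k := by
      rw [← hk]
      exact (Subgroup.orderOf_mk g hgS).symm
    have h2 : orderOf g ∣ Nat.card O := by
      have := orderOf_dvd_natCard (⟨g, hgO⟩ : O)
      rwa [Subgroup.orderOf_mk] at this
    rw [h1] at h2
    have h3 : (2 ^ k).Coprime (Nat.card O) := (Nat.Coprime.pow_left k hOcop.symm)
    have h4 : 2 ^ k = 1 := Nat.Coprime.eq_one_of_dvd h3 h2
    rw [← orderOf_eq_one_iff, h1, h4]
  -- the quotient map is injective on S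
  have hinj : ∀ a b : G, a ∈ (S : Subgroup G) → b ∈ (S : Subgroup G) →
      (QuotientGroup.mk a : G ⧸ O) = QuotientGroup.mk b → a = b := by
    intro a b ha hb hab
    have h1 : a⁻¹ * b ∈ O := QuotientGroup.eq.mp hab
    have h2 := hSO _ (mul_mem (inv_mem ha) hb) h1
    exact (inv_mul_eq_one.mp h2)
  have hmk1 : ∀ a : G, a ∈ (S : Subgroup G) → a ≠ 1 → (QuotientGroup.mk a : G ⧸ O) ≠ 1 := by
    intro a ha ha1 h
    apply ha1
    apply hinj a 1 ha (one_mem _)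
    rw [h, QuotientGroup.mk_one]
  -- lifting involutions
  have hlift : ∀ x : G ⧸ O, x ≠ 1 → x ^ 2 = 1 →
      ∃ g : G, g ≠ 1 ∧ g ^ 2 = 1 ∧ (QuotientGroup.mk g : G ⧸ O) = x := by
    intro x hx1 hx2
    obtain ⟨g, rfl⟩ := QuotientGroup.mk_surjective x
    have hg2 : g ^ 2 ∈ O := by
      rw [← QuotientGroup.eq_one_iff, QuotientGroup.mk_pow]
      exact hx2
    obtain ⟨j, hj⟩ := hOodd
    have h1 : (g ^ 2) ^ (Nat.card O) = 1 := by
      have := pow_card_eq_one' (G := O) (x := ⟨g ^ 2, hg2⟩)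
      exact congrArg Subtype.val this
    have h2 : (QuotientGroup.mk (g ^ Nat.card O) : G ⧸ O) = QuotientGroup.mk g := by
      rw [QuotientGroup.mk_pow, hj, pow_succ, pow_mul, hx2, one_pow, one_mul]
    refine ⟨g ^ Nat.card O, ?_, ?_, h2⟩
    · intro h
      rw [h, QuotientGroup.mk_one] at h2
      exact hx1 h2.symm
    · rw [← pow_mul, mul_comm, pow_mul]
      exact h1
  -- hypotheses of main_core for H = G ⧸ O
  have hHsol : Group.IsSolvable (G ⧸ O) :=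
    Group.isSolvable_of_surjective (QuotientGroup.mk'_surjective O)
  have hHO : Cfsg.pPrimeCore 2 (G ⧸ O) = ⊥ := Cfsg.Agent.Helper7.pPrimeCore_quotient_eq_bot 2
  have hHtwo : ∃ x y : G ⧸ O, x ≠ y ∧ x ≠ 1 ∧ x ^ 2 = 1 ∧ y ≠ 1 ∧ y ^ 2 = 1 := by
    obtain ⟨x, y, hxS, hyS, hxy, hx1, hx2, hy1, hy2⟩ := htwo
    refine ⟨QuotientGroup.mk x, QuotientGroup.mk y, fun h => hxy (hinj x y hxS hyS h),
      hmk1 x hxS hx1, ?_, hmk1 y hyS hy1, ?_⟩
    · rw [← QuotientGroup.mk_pow, hx2, QuotientGroup.mk_one]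
    · rw [← QuotientGroup.mk_pow, hy2, QuotientGroup.mk_one]
  have hHconj : ∀ x y : G ⧸ O, x ≠ 1 → x ^ 2 = 1 → y ≠ 1 → y ^ 2 = 1 → IsConj x y := by
    intro x y hx1 hx2 hy1 hy2
    obtain ⟨g, hg1, hg2, rfl⟩ := hlift x hx1 hx2
    obtain ⟨h, hh1, hh2, rfl⟩ := hlift y hy1 hy2
    obtain ⟨c, hc⟩ := isConj_iff.mp (hconj g h hg1 hg2 hh1 hh2)
    rw [isConj_iff]
    refine ⟨QuotientGroup.mk c, ?_⟩
    rw [← hc]
    rfl
  obtain ⟨hidx, hcent⟩ := hcore (G ⧸ O) hHsol hHO hHtwo hHconj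
  refine ⟨Cfsg.Agent.Helper21.ExpSix.pLengthLE_one_of_index 2 hidx, ?_⟩
  -- involutions of S are central in S
  have hScent : ∀ x ∈ (S : Subgroup G), x ^ 2 = 1 → ∀ s ∈ (S : Subgroup G), x * s = s * x := by
    intro x hx hx2 s hs
    have h := hcent (S.mapSurjective (QuotientGroup.mk'_surjective O)) (QuotientGroup.mk x)
      (by rw [Sylow.coe_mapSurjective]; exact ⟨x, hx, rfl⟩)
      (by rw [← QuotientGroup.mk_pow, hx2, QuotientGroup.mk_one]) (QuotientGroup.mk s)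
      (by rw [Sylow.coe_mapSurjective]; exact ⟨s, hs, rfl⟩)
    exact hinj _ _ (mul_mem hx hs) (mul_mem hs hx) h
  -- Burnside fusion
  have hfus : ∀ x y : G, x ∈ (S : Subgroup G) → y ∈ (S : Subgroup G) → x ≠ 1 → x ^ 2 = 1 →
      y ≠ 1 → y ^ 2 = 1 →
      ∃ n ∈ Subgroup.normalizer ((S : Subgroup G) : Set G), n * x * n⁻¹ = y := by
    intro x y hxS hyS hx1 hx2 hy1 hy2
    obtain ⟨c, hc⟩ := isConj_iff.mp (hconj x y hx1 hx2 hy1 hy2)
    have hxC : x ∈ Subgroup.centralizer ((S : Subgroup G) : Set G) := by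
      rw [Subgroup.mem_centralizer_iff]
      intro s hs
      exact (hScent x hxS hx2 s hs).symm
    have hyC : (c⁻¹)⁻¹ * x * c⁻¹ ∈ Subgroup.centralizer ((S : Subgroup G) : Set G) := by
      rw [inv_inv, hc, Subgroup.mem_centralizer_iff]
      intro s hs
      exact (hScent y hyS hy2 s hs).symm
    obtain ⟨n, hn, hn2⟩ := Sylow.conj_eq_normalizer_conj_of_mem_centralizer S x c⁻¹ hxC hyC
    refine ⟨n⁻¹, inv_mem hn, ?_⟩
    rw [inv_inv, ← hn2, inv_inv, hc]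
  -- the automorphism group induced by N_G(S)
  set Y : Subgroup (MulAut ↥(S : Subgroup G)) := (normAut (S : Subgroup G)).range with hY
  have hYsol : Group.IsSolvable Y :=
    Group.isSolvable_of_surjective (normAut (S : Subgroup G)).rangeRestrict_surjective
  have htr : ∀ x y : ↥(S : Subgroup G), x ≠ 1 → x ^ 2 = 1 → y ≠ 1 → y ^ 2 = 1 →
      ∃ a ∈ Y, a x = y := by
    intro x y hx1 hx2 hy1 hy2
    obtain ⟨n, hn, hn2⟩ := hfus x y x.2 y.2 (fun h => hx1 (Subtype.ext h))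
      (by have := congrArg Subtype.val hx2; simpa using this)
      (fun h => hy1 (Subtype.ext h))
      (by have := congrArg Subtype.val hy2; simpa using this)
    refine ⟨normAut (S : Subgroup G) ⟨n, hn⟩, ⟨⟨n, hn⟩, rfl⟩, ?_⟩
    apply Subtype.ext
    rw [normAut_apply]
    exact hn2
  by_cases hab : IsMulCommutative (S : Subgroup G)
  · left
    exact Cfsg.Agent.Helper13.Th.homocyclic_of_transitive S.isPGroup'
      (fun a b => hab.is_comm.comm a b) Y htr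
  · right
    exact ⟨hab, Y, hYsol, htr⟩

end Cfsg.Agent.Helper5.Th
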