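import Mathlib
import Cfsg.Prelude.Def_Characters
import Cfsg.Prelude.Def_Blocks
import Cfsg.Prelude.Def_Transfer
import Cfsg.Agent.Helper8.PrincipalParity
import Cfsg.Agent.Helper8.RealBlock2b
import Cfsg.Agent.Helper23.GaloisCyclic
import Cfsg.Agent.Helper23.PrincipalCover
import Cfsg.Agent.Helper29.PrincipalDegrees
import Cfsg.Agent.Helper9.NPC
import Cfsg.Agent.Helper24.RealOrbits
import Cfsg.Agent.Helper5.LinChar

/-!
# Normal `2`-complements and Galois-fixed odd-degree characters of the principal `2`-block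

`G` has a normal `2`-complement iff every odd-degree member of the principal `2`-block fixed by the
Galois automorphism cubing `2`-power roots of unity (and fixing odd-order roots) is linear.
-/

set_option autoImplicit false
set_option linter.unusedSectionVars false
set_option linter.style.haveILetI false
set_option linter.unusedVariables false

namespace Cfsg.Agent.Helper5.TCG

open Cfsg Cfsg.Agent.Helper24 Cfsg.Agent.Helper5 Cfsg.Agent.Helper5.Loc Cfsg.Agent.Helper5.CC

universe u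

section Linear

variable {H : Type u} [Group H] [Finite H]

/-- A linear character of odd order is fixed by a power map that fixes the elements of odd
order. -/
theorem linear_pow_fixed (k : ℕ) (hk₂ : ∀ g : H, Odd (orderOf g) → g ^ k = g)
    {lam : H → ℂ} (hc : IsCharacter H lam) (h1 : lam 1 = 1) (hodd : ¬ 2 ∣ orderOf lam) (g : H) :
    lam (g ^ k) = lam g := by
  have hn0 : orderOf g ≠ 0 := (orderOf_pos g).ne'
  obtain ⟨s, n', hn'odd, hn⟩ := Nat.exists_eq_two_pow_mul_odd hn0
  have ho : orderOf (g ^ (2 ^ s)) = n' := by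
    rw [orderOf_pow_of_dvd (pow_ne_zero _ two_ne_zero) ⟨n', hn⟩, hn,
      Nat.mul_div_cancel_left _ (pow_pos two_pos _)]
  have h2 := hk₂ (g ^ (2 ^ s)) (by rw [ho]; exact hn'odd)
  obtain ⟨h, hh⟩ : ∃ h : H, h = g ^ k * g⁻¹ := ⟨_, rfl⟩
  have hpow : h ^ (2 ^ s) = 1 := by
    have hcomm : Commute (g ^ k) g⁻¹ := ((Commute.refl g).pow_left k).inv_right
    rw [hh, hcomm.mul_pow, ← pow_mul, mul_comm k, pow_mul, h2, inv_pow, mul_inv_cancel]
  have hl1 : lam h ^ (2 ^ s) = 1 := by rw [← linChar_pow hc h1, hpow, h1]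
  have hl2 : lam h ^ (orderOf lam) = 1 := by
    have := congrFun (pow_orderOf_eq_one lam) h
    simpa using this
  have hcop : Nat.Coprime (2 ^ s) (orderOf lam) :=
    Nat.Coprime.pow_left s ((Nat.Prime.coprime_iff_not_dvd Nat.prime_two).mpr hodd)
  have hl3 : lam h = 1 := by
    have := (pow_gcd_eq_one (a := lam h) (m := 2 ^ s) (n := orderOf lam)).mpr ⟨hl1, hl2⟩
    rwa [Nat.Coprime.gcd_eq_one hcop, pow_one] at this
  have hg : g ^ k = h * g := by rw [hh]; group
  rw [hg, linChar_mul hc h1, hl3, one_mul]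

/-- A real linear character of a group all of whose linear characters have odd order is
trivial. -/
theorem linear_real_eq_triv
    (hLP : ∀ lam : H → ℂ, IsCharacter H lam → lam 1 = 1 → ¬ 2 ∣ orderOf lam)
    (ψ : IrrCharacter H) (h1 : (ψ : H → ℂ) 1 = 1) (hreal : irrStar ψ = ψ) : ψ = trivIrr H := by
  have hc : IsCharacter H (ψ : H → ℂ) := IsIrrCharacter.isCharacter ψ.2
  have hsq : (ψ : H → ℂ) ^ 2 = 1 := by
    funext g
    rw [Pi.pow_apply, Pi.one_apply, sq]
    have h2 : (ψ : H → ℂ) g⁻¹ = (ψ : H → ℂ) g := by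
      rw [irr_inv]
      exact congrFun (congrArg Subtype.val hreal) g
    have h3 := linChar_mul hc h1 g g⁻¹
    rw [mul_inv_cancel, h1, h2] at h3
    exact h3.symm
  have hdvd : orderOf (ψ : H → ℂ) ∣ 2 := orderOf_dvd_of_pow_eq_one hsq
  have hnd := hLP _ hc h1
  have ho : orderOf (ψ : H → ℂ) = 1 := by
    rcases (Nat.dvd_prime Nat.prime_two).mp hdvd with h | h
    · exact h
    · exact absurd (by rw [h]) hnd
  apply Subtype.ext
  show (ψ : H → ℂ) = fun _ => 1
  exact orderOf_eq_one_iff.mp ho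

/-- If all linear characters have odd order, the principal block contains an odd number of linear
characters. -/
theorem odd_card_linear_principal (M : Ideal AlgInt) (hMp : M.IsPrime)
    (hLP : ∀ lam : H → ℂ, IsCharacter H lam → lam 1 = 1 → ¬ 2 ∣ orderOf lam) :
    Odd (Nat.card {ψ : IrrCharacter H //
      ψ ∈ principalBlock M H ∧ charDegree (ψ : H → ℂ) = 1}) := by
  classical
  haveI : Fintype H := Fintype.ofFinite H
  haveI : Fintype (IrrCharacter H) := Fintype.ofFinite _
  have hdeg1 : ∀ ψ : IrrCharacter H, charDegree (ψ : H → ℂ) = 1 ↔ (ψ : H → ℂ) 1 = 1 := by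
    intro ψ
    rw [charDegree_irr]
    constructor
    · intro h
      rw [irrDeg_spec, h, Nat.cast_one]
    · intro h
      have := irrDeg_spec ψ
      rw [h] at this
      exact_mod_cast this.symm
  set L : Finset (IrrCharacter H) := Finset.univ.filter
    (fun ψ => ψ ∈ principalBlock M H ∧ charDegree (ψ : H → ℂ) = 1) with hL
  have hcard : Nat.card {ψ : IrrCharacter H //
      ψ ∈ principalBlock M H ∧ charDegree (ψ : H → ℂ) = 1} = L.card := by
    rw [Nat.card_eq_fintype_card, Fintype.card_subtype]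
  rw [hcard]
  have htrivL : trivIrr H ∈ L := by
    rw [hL, Finset.mem_filter]
    refine ⟨Finset.mem_univ _, trivIrr_mem_principalBlock hMp, ?_⟩
    rw [hdeg1]
    rfl
  have hstar_triv : irrStar (trivIrr H) = trivIrr H := by
    apply Subtype.ext
    funext g
    show (starRingEnd ℂ) (1 : ℂ) = 1
    rw [map_one]
  have heven : Even (L.erase (trivIrr H)).card := by
    have hsum : ∑ ψ ∈ L.erase (trivIrr H), (1 : ZMod 2) = 0 := by
      refine Finset.sum_involution (fun ψ _ => irrStar ψ) ?_ ?_ ?_ ?_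
      · intro ψ _
        rfl
      · intro ψ hψ _ hfix
        rw [Finset.mem_erase, hL, Finset.mem_filter] at hψ
        exact hψ.1 (linear_real_eq_triv hLP ψ ((hdeg1 ψ).mp hψ.2.2.2) hfix)
      · intro ψ hψ
        rw [Finset.mem_erase, hL, Finset.mem_filter] at hψ ⊢
        refine ⟨?_, Finset.mem_univ _,
          Cfsg.Agent.Helper8.RealBlock2.irrStar_mem_principalBlock hψ.2.2.1, ?_⟩
        · intro h
          apply hψ.1
          rw [← irrStar_irrStar ψ, h, hstar_triv]
        · rw [hdeg1]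
          show (starRingEnd ℂ) ((ψ : H → ℂ) 1) = 1
          rw [(hdeg1 ψ).mp hψ.2.2.2, map_one]
      · intro ψ _
        exact irrStar_irrStar ψ
    rw [Finset.sum_const, nsmul_one] at hsum
    exact even_iff_two_dvd.mpr ((ZMod.natCast_eq_zero_iff _ 2).mp hsum)
  have h1 : L.card = (L.erase (trivIrr H)).card + 1 := by
    rw [Finset.card_erase_of_mem htrivL]
    have : 0 < L.card := Finset.card_pos.mpr ⟨_, htrivL⟩
    omega
  rw [h1]
  exact heven.add_one

end Linear

section Count

theorem card_subtype_and_not {α : Type*} [Finite α] (p q : α → Prop) :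
    Nat.card {a // p a} = Nat.card {a // p a ∧ q a} + Nat.card {a // p a ∧ ¬ q a} := by
  classical
  haveI := Fintype.ofFinite α
  rw [Nat.card_eq_fintype_card, Nat.card_eq_fintype_card, Nat.card_eq_fintype_card,
    Fintype.card_subtype, Fintype.card_subtype, Fintype.card_subtype]
  rw [← Finset.filter_filter, ← Finset.filter_filter]
  exact (Finset.card_filter_add_card_filter_not q).symm

end Count

section Main

variable {G : Type u} [Group G] [Finite G]

/-- The reverse direction: if every Galois-fixed odd-degree member of the principal `2`-block is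
linear, then `G` has a normal `2`-complement. -/
theorem hasNormalPComplement_of_fixed_linear (M : Ideal AlgInt) (hM : IsPModular 2 M) (k : ℕ)
    (hk₁ : ∀ g : G, (∃ j : ℕ, orderOf g = 2 ^ j) → g ^ k = g ^ 3)
    (hk₂ : ∀ g : G, Odd (orderOf g) → g ^ k = g)
    (Hyp : ∀ χ ∈ principalBlock M G, Odd (charDegree (χ : G → ℂ)) →
      (∀ g : G, (χ : G → ℂ) (g ^ k) = (χ : G → ℂ) g) → charDegree (χ : G → ℂ) = 1) :
    HasNormalPComplement 2 G := by
  classical
  haveI hp2 : Fact (Nat.Prime 2) := ⟨Nat.prime_two⟩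
  haveI : Fintype G := Fintype.ofFinite G
  have hMp := isPrime_of_isPModular hM
  obtain ⟨N, hNdef⟩ : ∃ N : Subgroup G, N = pResidual 2 G := ⟨_, rfl⟩
  haveI hNn : N.Normal := by rw [hNdef]; infer_instance
  haveI : Fintype N := Fintype.ofFinite N
  haveI : Fintype (IrrCharacter N) := Fintype.ofFinite _
  let P : Sylow 2 G := default
  rw [Cfsg.Agent.Helper9.hasNormalPComplement_iff_inf_pResidual P, ← hNdef]
  by_cases hev : Even (Nat.card N)
  swap
  · -- `|N|` odd
    rw [eq_bot_iff]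
    rintro x ⟨hxP, hxN⟩
    rw [Subgroup.mem_bot]
    obtain ⟨j, hj⟩ := (IsPGroup.iff_orderOf.mp P.2) ⟨x, hxP⟩
    have hj' : orderOf x = 2 ^ j := by rw [← hj]; exact (Subgroup.orderOf_mk x hxP).symm
    have hdvd : orderOf x ∣ Nat.card N := by
      have := orderOf_dvd_natCard (⟨x, hxN⟩ : N)
      rwa [Subgroup.orderOf_mk] at this
    rcases Nat.eq_zero_or_pos j with h0 | hpos
    · rw [h0, pow_zero] at hj'
      exact orderOf_eq_one_iff.mp hj'
    · exfalso
      apply hev
      exact even_iff_two_dvd.mpr (dvd_trans (by rw [hj']; exact dvd_pow_self 2 hpos.ne') hdvd)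
  · exfalso
    have hLP : ∀ lam : N → ℂ, IsCharacter N lam → lam 1 = 1 → ¬ 2 ∣ orderOf lam := by
      subst hNdef
      exact not_dvd_orderOf_linear_pResidual (G := G) 2 Nat.prime_two
    have hk₁N : ∀ g : N, (∃ j : ℕ, orderOf g = 2 ^ j) → g ^ k = g ^ 3 := by
      rintro g ⟨j, hj⟩
      apply Subtype.ext
      rw [Subgroup.coe_pow, Subgroup.coe_pow]
      exact hk₁ (g : G) ⟨j, by rw [Subgroup.orderOf_coe]; exact hj⟩
    have hk₂N : ∀ g : N, Odd (orderOf g) → g ^ k = g := by
      intro g hg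
      apply Subtype.ext
      rw [Subgroup.coe_pow]
      exact hk₂ (g : G) (by rw [Subgroup.orderOf_coe]; exact hg)
    have hSeven := Cfsg.Agent.Helper8.even_card_fixed_odd_principal (G := N) M hM hev k hk₁N hk₂N
    have hLodd := odd_card_linear_principal (H := N) M hMp hLP
    -- the nonlinear fixed odd-degree members of the principal block of `N`
    have hsplit := card_subtype_and_not
      (fun ψ : IrrCharacter N => ψ ∈ principalBlock M N ∧ Odd (charDegree (ψ : N → ℂ)) ∧
        ∀ g : N, (ψ : N → ℂ) (g ^ k) = (ψ : N → ℂ) g)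
      (fun ψ : IrrCharacter N => charDegree (ψ : N → ℂ) = 1)
    have hLeq : Nat.card {ψ : IrrCharacter N // (ψ ∈ principalBlock M N ∧
        Odd (charDegree (ψ : N → ℂ)) ∧ ∀ g : N, (ψ : N → ℂ) (g ^ k) = (ψ : N → ℂ) g) ∧
        charDegree (ψ : N → ℂ) = 1} = Nat.card {ψ : IrrCharacter N //
        ψ ∈ principalBlock M N ∧ charDegree (ψ : N → ℂ) = 1} := by
      apply Nat.card_congr
      apply Equiv.subtypeEquivRight
      intro ψ
      constructor
      · rintro ⟨⟨hB, -, -⟩, hd⟩
        exact ⟨hB, hd⟩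
      · rintro ⟨hB, hd⟩
        refine ⟨⟨hB, by rw [hd]; exact odd_one, ?_⟩, hd⟩
        have hc : IsCharacter N (ψ : N → ℂ) := IsIrrCharacter.isCharacter ψ.2
        have h1 : (ψ : N → ℂ) 1 = 1 := by
          rw [charDegree_irr] at hd
          rw [irrDeg_spec, hd, Nat.cast_one]
        exact linear_pow_fixed k hk₂N hc h1 (hLP _ hc h1)
    rw [hLeq] at hsplit
    set F := {ψ : IrrCharacter N // (ψ ∈ principalBlock M N ∧
        Odd (charDegree (ψ : N → ℂ)) ∧ ∀ g : N, (ψ : N → ℂ) (g ^ k) = (ψ : N → ℂ) g) ∧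
        ¬ charDegree (ψ : N → ℂ) = 1} with hFdef
    have hFodd : ¬ 2 ∣ Nat.card F := by
      intro h2
      have h3 : Even (Nat.card F) := even_iff_two_dvd.mpr h2
      rw [hsplit] at hSeven
      have := (Nat.even_add.mp hSeven).mpr h3
      exact (Nat.not_even_iff_odd.mpr hLodd) this
    -- the action of `P`
    letI actG : MulAction G (IrrCharacter N) := irrConjAction N
    have hsmul_apply : ∀ (g : G) (θ : IrrCharacter N) (n : N),
        ((g • θ : IrrCharacter N) : N → ℂ) n = (θ : N → ℂ) (MulAut.conjNormal g⁻¹ n) :=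
      fun _ _ _ => rfl
    have hstable : ∀ (g : G) (θ : IrrCharacter N),
        ((θ ∈ principalBlock M N ∧ Odd (charDegree (θ : N → ℂ)) ∧
          ∀ n : N, (θ : N → ℂ) (n ^ k) = (θ : N → ℂ) n) ∧ ¬ charDegree (θ : N → ℂ) = 1) →
        (((g • θ : IrrCharacter N) ∈ principalBlock M N ∧
          Odd (charDegree ((g • θ : IrrCharacter N) : N → ℂ)) ∧
          ∀ n : N, ((g • θ : IrrCharacter N) : N → ℂ) (n ^ k) =
            ((g • θ : IrrCharacter N) : N → ℂ) n) ∧
          ¬ charDegree ((g • θ : IrrCharacter N) : N → ℂ) = 1) := by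
      rintro g θ ⟨⟨hB, hodd, hfix⟩, hnl⟩
      have hdeg : charDegree ((g • θ : IrrCharacter N) : N → ℂ) = charDegree (θ : N → ℂ) := by
        unfold charDegree
        rw [hsmul_apply, map_one]
      refine ⟨⟨?_, by rw [hdeg]; exact hodd, ?_⟩, by rw [hdeg]; exact hnl⟩
      · exact (Cfsg.Agent.Helper23.BT.sameBlock_comp_iff (M := M) (MulAut.conjNormal g⁻¹ : N ≃* N)
          (fun _ => (1 : ℂ)) (θ : N → ℂ)).mpr hB
      · intro n
        rw [hsmul_apply, hsmul_apply, map_pow, hfix]
    letI actF : MulAction (P : Subgroup G) F :=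
      { smul := fun u ψ => ⟨(u : G) • ψ.1, hstable (u : G) ψ.1 ψ.2⟩
        one_smul := fun ψ => Subtype.ext (one_smul G ψ.1)
        mul_smul := fun u v ψ => Subtype.ext (mul_smul (u : G) (v : G) ψ.1) }
    obtain ⟨ψ', hψ'fix⟩ := IsPGroup.nonempty_fixed_point_of_prime_not_dvd_card P.2 F hFodd
    obtain ⟨ψ, ⟨⟨hψB, hψodd, hψk⟩, hψnl⟩⟩ := ψ'
    -- `ψ` is `P`-invariant
    have hψP : ∀ x ∈ (P : Subgroup G), ∀ n : N,
        (ψ : N → ℂ) ⟨x * n * x⁻¹, hNn.conj_mem n n.2 x⟩ = (ψ : N → ℂ) n := by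
      intro x hx n
      have h1 := hψ'fix ⟨x⁻¹, (P : Subgroup G).inv_mem hx⟩
      have h2 : ((x⁻¹ : G) • ψ : IrrCharacter N) = ψ := congrArg Subtype.val h1
      have h3 := congrFun (congrArg Subtype.val h2) n
      rw [← h3]
      show (ψ : N → ℂ) _ = (ψ : N → ℂ) (MulAut.conjNormal (x⁻¹)⁻¹ n)
      refine congrArg _ ?_
      apply Subtype.ext
      rw [MulAut.conjNormal_apply, inv_inv]
    -- `G = N P`
    obtain ⟨a, ha⟩ := (IsPGroup.iff_card).mp
      (Cfsg.Agent.Helper18.isPGroup_quotient_pResidual (G := G) 2)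
    have hKa : N.index = 2 ^ a := by
      subst hNdef
      rw [Subgroup.index_eq_card]; exact ha
    have hsup : N ⊔ (P : Subgroup G) = ⊤ := by
      rw [← Subgroup.index_eq_one]
      have h1 : (N ⊔ (P : Subgroup G)).index ∣ N.index := Subgroup.index_dvd_of_le le_sup_left
      have h2 : (N ⊔ (P : Subgroup G)).index ∣ (P : Subgroup G).index :=
        Subgroup.index_dvd_of_le le_sup_right
      rw [hKa] at h1
      obtain ⟨j, -, hj⟩ := (Nat.dvd_prime_pow Nat.prime_two).mp h1
      rcases Nat.eq_zero_or_pos j with h0 | hpos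
      · rw [hj, h0, pow_zero]
      · exfalso
        apply P.not_dvd_index
        refine dvd_trans ?_ h2
        rw [hj]
        exact dvd_pow_self 2 hpos.ne'
    have hdecomp : ∀ g : G, ∃ n ∈ N, ∃ u ∈ (P : Subgroup G), g = n * u := by
      intro g
      have hg : g ∈ N ⊔ (P : Subgroup G) := by rw [hsup]; exact Subgroup.mem_top g
      obtain ⟨n, hn, u, hu, h⟩ := Subgroup.mem_sup_of_normal_left.mp hg
      exact ⟨n, hn, u, hu, h.symm⟩
    have hinv : ∀ (g : G) (n : N),
        (ψ : N → ℂ) ⟨g * n * g⁻¹, hNn.conj_mem (n : G) n.2 g⟩ = (ψ : N → ℂ) n := by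
      intro g n
      obtain ⟨m, hm, u, hu, rfl⟩ := hdecomp g
      have h1 := hψP u hu n
      have h2 := isClassFunction_irr ψ ⟨u * n * u⁻¹, hNn.conj_mem (n : G) n.2 u⟩ ⟨m, hm⟩
      rw [← h1, ← h2]
      refine congrArg _ ?_
      apply Subtype.ext
      show m * u * (n : G) * (m * u)⁻¹ = m * (u * (n : G) * u⁻¹) * m⁻¹
      group
    -- coprimality of `k`
    have hpow : ∀ g : G, g ^ (k ^ (2 ^ Nat.card G)) = g :=
      Cfsg.Agent.Helper8.pow_pow_two_pow_eq k hk₁ hk₂
    have hk : Nat.Coprime k (Nat.card G) :=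
      Cfsg.Agent.Helper8.coprime_of_pow_pow_eq k (2 ^ Nat.card G) (pow_pos two_pos _) hpow
    -- canonical extension
    have hpψ : ¬ 2 ∣ irrDeg ψ := by
      rw [← charDegree_irr]
      exact fun h => (Nat.not_even_iff_odd.mpr hψodd) (even_iff_two_dvd.mpr h)
    obtain ⟨χ₀f, ⟨hχ₀irr, hχ₀N, hχ₀o⟩, huniq⟩ := exists_ext_pprime N 2 Nat.prime_two a hKa hLP
      (ψ : N → ℂ) ψ.2 hinv (irrDeg ψ) (irrDeg_spec ψ) hpψ
    have hχ₀k : ∀ g : G, χ₀f (g ^ k) = χ₀f g := by
      have h1 := huniq (fun g => χ₀f (g ^ k))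
        (Cfsg.Agent.Helper8.isIrrCharacter_pow_of_coprime k hk hχ₀irr)
        (fun n => by
          show χ₀f ((n : G) ^ k) = (ψ : N → ℂ) n
          rw [← Subgroup.coe_pow, hχ₀N, hψk])
        (fun h => hχ₀o (dvd_trans h (Cfsg.Agent.Helper23.GC.detOrder_pow_dvd k hk hχ₀irr)))
      intro g
      exact congrFun h1 g
    set χ₀ : IrrCharacter G := ⟨χ₀f, hχ₀irr⟩ with hχ₀def
    have hres : (fun n : N => (χ₀ : G → ℂ) n) = (ψ : N → ℂ) := funext hχ₀N
    obtain ⟨hdown, hup⟩ := Cfsg.Agent.Helper23.PCov.principal_cover hM N ⟨a, hKa⟩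
    have hχ₀B : χ₀ ∈ principalBlock M G := by
      apply hup
      intro θ hθ
      rw [hres] at hθ
      have : θ = ψ := by
        by_contra hne
        exact hθ (classInner_irr_ne (fun h => hne h.symm))
      rw [this]
      exact hψB
    have hdeg : charDegree (χ₀ : G → ℂ) = charDegree (ψ : N → ℂ) := by
      unfold charDegree
      have := hχ₀N 1
      rw [Subgroup.coe_one] at this
      show ⌊(χ₀f 1).re⌋₊ = _
      rw [this]
    have := Hyp χ₀ hχ₀B (by rw [hdeg]; exact hψodd) hχ₀k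
    rw [hdeg] at this
    exact hψnl this

/-- **S4549** -/
theorem normal_two_complement_iff (M : Ideal AlgInt) (hM : IsPModular 2 M) (k : ℕ)
    (hk₁ : ∀ g : G, (∃ j : ℕ, orderOf g = 2 ^ j) → g ^ k = g ^ 3)
    (hk₂ : ∀ g : G, Odd (orderOf g) → g ^ k = g) :
    HasNormalPComplement 2 G ↔ ∀ χ ∈ principalBlock M G, Odd (charDegree (χ : G → ℂ)) →
      (∀ g : G, (χ : G → ℂ) (g ^ k) = (χ : G → ℂ) g) → charDegree (χ : G → ℂ) = 1 := by
  haveI hp2 : Fact (Nat.Prime 2) := ⟨Nat.prime_two⟩
  constructor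
  · intro h χ hχ hodd _
    apply Cfsg.Agent.Helper29.PrincipalDegrees.linear_of_hasNormalPComplement hM h χ hχ
    exact fun h2 => (Nat.not_even_iff_odd.mpr hodd) (even_iff_two_dvd.mpr h2)
  · exact hasNormalPComplement_of_fixed_linear M hM k hk₁ hk₂

end Main

end Cfsg.Agent.Helper5.TCG
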