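import Mathlib
import Cfsg.Agent.Helper5.VL.Defs
import Cfsg.Agent.Helper27.S3777CLPTLOW
import Cfsg.Agent.Helper5.VLCLPTUP
import Cfsg.Agent.Helper27.S3777KER
import Cfsg.Agent.Helper1.VLHOMCOUNT

set_option autoImplicit false
set_option linter.style.haveILetI false
set_option linter.unusedSectionVars false

namespace Cfsg.Agent.Helper5.VL

open Subgroup
open scoped commutatorElement

universe u
variable {p : ℕ} [Fact p.Prime] {G : Type u} [Group G] [Finite G]

private theorem clpt_aux_card_filter {α : Type*} [Fintype α] (P : α → Prop) [DecidablePred P] :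
    Nat.card {a // P a} = (Finset.univ.filter P).card := by
  rw [Nat.card_eq_fintype_card, Fintype.card_subtype]

/-- CLPT (C) -/
theorem exists_closed_point (hG : IsPGroup p G) {φ0 : Fn p G} (hφ0 : φ0 ≠ 1)
    (hstep : ∀ φ : Fn p G, ¬ φ0.ker ≤ φ.ker → ⁅φ.ker, φ.ker⁆ ≠ commutator G) :
    ∃ y : G, φ0 y ≠ 1 ∧ ∀ y' ∈ Phi p G ⊔ zpowers y, φ0 y' ≠ 1 →
      centralizer ({y'} : Set G) ≤ Phi p G ⊔ zpowers y := by
  classical
  by_contra hcon
  push Not at hcon
  have hp : p.Prime := Fact.out
  haveI : Fintype G := Fintype.ofFinite G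
  haveI : Fintype (Fn p G) := Fintype.ofFinite _
  set N := Nat.card G with hN
  have hNpos : 0 < N := Nat.card_pos
  set D := (Phi p G).index with hD
  set X : Finset G := Finset.univ.filter (fun y => φ0 y ≠ 1) with hX
  set F : Finset (Fn p G) := Finset.univ.filter (fun φ => ¬ φ0.ker ≤ φ.ker) with hF
  set a : G → ℕ := fun y => (F.filter (fun φ => y ∈ Zs φ ⊔ Phi p G)).card with ha
  set s : Fn p G → ℕ := fun φ => (X.filter (fun y => y ∈ Zs φ ⊔ Phi p G)).card with hs
  have hsum : ∑ y ∈ X, a y = ∑ φ ∈ F, s φ :=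
    Finset.sum_card_bipartiteAbove_eq_sum_card_bipartiteBelow (fun y φ => y ∈ Zs φ ⊔ Phi p G)
  -- cardinalities
  have hXcard : X.card * p = N * (p - 1) := by
    have h1 := card_affine_eq φ0 (⊤ : Subgroup G) (by
      intro h
      apply hφ0
      ext g
      exact MonoidHom.mem_ker.mp (h (Subgroup.mem_top g)))
    rw [clpt_aux_card_filter, Subgroup.card_top] at h1
    have h2 : Finset.univ.filter (fun w : G => w ∈ (⊤ : Subgroup G) ∧ φ0 w ≠ 1) = X := by
      ext w
      simp only [hX, Finset.mem_filter, Finset.mem_univ, true_and, Subgroup.mem_top]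
    rwa [h2] at h1
  have hFcard : F.card + p = D := by
    have h1 := homcount (Phi p G) le_rfl
    rw [clpt_aux_card_filter] at h1
    have h2 := homcount φ0.ker (Phi_le_ker φ0)
    rw [clpt_aux_card_filter, index_ker hφ0] at h2
    have h3 : Finset.univ.filter (fun φ : Fn p G => Phi p G ≤ φ.ker) = Finset.univ := by
      ext φ
      simp only [Finset.mem_filter, Finset.mem_univ, true_and, iff_true]
      exact Phi_le_ker φ
    rw [h3] at h1
    have h4 := Finset.card_filter_add_card_filter_not (s := (Finset.univ : Finset (Fn p G)))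
      (fun φ : Fn p G => φ0.ker ≤ φ.ker)
    rw [h2, h1] at h4
    rw [hD, ← h4, add_comm]
  -- lower bound
  have hlow : ∀ y ∈ X, D * (p - 1) ≤ p ^ 2 * a y := by
    intro y hy
    simp only [hX, Finset.mem_filter, Finset.mem_univ, true_and] at hy
    have h1 := clpt_lower hy (hcon y hy)
    rw [clpt_aux_card_filter] at h1
    have h2 : (Finset.univ.filter (fun φ : Fn p G => ¬ φ0.ker ≤ φ.ker ∧ y ∈ Zs φ ⊔ Phi p G)).card
        = a y := by
      simp only [ha, hF]
      rw [Finset.filter_filter]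
    rwa [h2] at h1
  -- upper bound
  have hup : ∀ φ ∈ F, s φ * p ^ 3 ≤ N * (p - 1) := by
    intro φ hφF
    simp only [hF, Finset.mem_filter, Finset.mem_univ, true_and] at hφF
    have hφ1 : φ ≠ 1 := by
      rintro rfl
      apply hφF
      intro g _
      exact MonoidHom.mem_ker.mpr rfl
    have h1 := clpt_upper hG φ0 hφ1 (hstep φ hφF)
    rw [clpt_aux_card_filter] at h1
    have h2 : (Finset.univ.filter (fun y : G => φ0 y ≠ 1 ∧ y ∈ Zs φ ⊔ Phi p G)).card = s φ := by
      simp only [hs, hX]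
      rw [Finset.filter_filter]
    rwa [h2] at h1
  -- sums
  set S := ∑ y ∈ X, a y with hS
  have hS1 : X.card * (D * (p - 1)) ≤ p ^ 2 * S := by
    rw [hS, Finset.mul_sum, ← smul_eq_mul, ← Finset.sum_const]
    exact Finset.sum_le_sum fun y hy => hlow y hy
  have hS2 : S * p ^ 3 ≤ F.card * (N * (p - 1)) := by
    rw [hsum, Finset.sum_mul, ← smul_eq_mul, ← Finset.sum_const]
    exact Finset.sum_le_sum fun φ hφ => hup φ hφ
  have hp1 : 0 < p - 1 := by have := hp.two_le; omega
  have hkey : N * (p - 1) * (D * (p - 1)) ≤ F.card * (N * (p - 1)) := by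
    calc N * (p - 1) * (D * (p - 1)) = X.card * p * (D * (p - 1)) := by rw [hXcard]
      _ = X.card * (D * (p - 1)) * p := by ring
      _ ≤ p ^ 2 * S * p := Nat.mul_le_mul_right _ hS1
      _ = S * p ^ 3 := by ring
      _ ≤ F.card * (N * (p - 1)) := hS2
  have h1 : (N * (p - 1)) * (D * (p - 1)) ≤ (N * (p - 1)) * F.card := by
    rw [mul_comm (N * (p - 1)) F.card]; exact hkey
  have h2 := Nat.le_of_mul_le_mul_left h1 (Nat.mul_pos hNpos hp1)
  have h3 : D * 1 ≤ D * (p - 1) := Nat.mul_le_mul_left _ hp1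
  have := hp.pos
  omega

end Cfsg.Agent.Helper5.VL
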