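import Mathlib
import Cfsg.Agent.Helper5.VL.Defs
import Cfsg.Agent.Helper1.VLHOMCOUNT
import Cfsg.Agent.Helper9.VL.COST

set_option autoImplicit false
set_option linter.style.haveILetI false
set_option linter.unusedSectionVars false

namespace Cfsg.Agent.Helper5.VL

open Subgroup
open scoped commutatorElement

universe u
variable {p : ℕ} [Fact p.Prime] {G : Type u} [Group G] [Finite G]

private theorem dichlow_aux_card_filter {α : Type*} [Fintype α] (P : α → Prop) [DecidablePred P] :
    Nat.card {a // P a} = (Finset.univ.filter P).card := by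
  rw [Nat.card_eq_fintype_card, Fintype.card_subtype]

/-- DICHLOW -/
theorem dich_lower {K : Subgroup G} (hK : Phi p G ≤ K) (x : G) :
    (K ⊔ zpowers x).index
      ≤ Nat.card {φ : Fn p G // φ ≠ 1 ∧ K ≤ φ.ker ∧ x ∈ Zs φ}
        + (K ⊔ centralizer ({x} : Set G)).index := by
  classical
  haveI : Fintype (Fn p G) := Fintype.ofFinite _
  have hA := homcount (K ⊔ zpowers x) (hK.trans le_sup_left)
  have hB := homcount (K ⊔ centralizer ({x} : Set G)) (hK.trans le_sup_left)
  rw [dichlow_aux_card_filter] at hA hB ⊢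
  rw [← hA, ← hB, ← Finset.card_union_add_card_inter]
  refine le_trans (Finset.card_le_card ?_) (Nat.le_add_right _ _)
  intro φ hφ
  simp only [Finset.mem_filter, Finset.mem_univ, true_and, Finset.mem_union] at hφ ⊢
  by_cases hB' : K ⊔ centralizer ({x} : Set G) ≤ φ.ker
  · exact Or.inr hB'
  · left
    have hKφ : K ≤ φ.ker := le_sup_left.trans hφ
    have hxφ : x ∈ φ.ker := hφ (le_sup_right (α := Subgroup G) (mem_zpowers x))
    have hc : ∃ c ∈ centralizer ({x} : Set G), c ∉ φ.ker := by
      by_contra h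
      push Not at h
      exact hB' (sup_le hKφ h)
    obtain ⟨c, hcC, hcφ⟩ := hc
    refine ⟨?_, hKφ, ?_⟩
    · rintro rfl
      exact hcφ (MonoidHom.mem_ker.mpr rfl)
    · exact mem_Zs_of_comm hxφ hcφ (Subgroup.mem_centralizer_singleton_iff.mp hcC)

end Cfsg.Agent.Helper5.VL
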