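import Mathlib
import Cfsg.Agent.Helper5.VL.Defs
import Cfsg.Agent.Helper5.VLDICHLOW
import Cfsg.Agent.Helper11.VLAFFLE
import Cfsg.Agent.Helper10.VLXCARD
import Cfsg.Agent.Helper1.VLHOMCOUNT
import Cfsg.Agent.Helper19.VLZLE
import Cfsg.Agent.Helper6.VLSEP
import Cfsg.Agent.Helper9.VL.COST
import Cfsg.Agent.Helper18.VLIDX
import Cfsg.Agent.Helper27.S3777KER

set_option autoImplicit false
set_option linter.style.haveILetI false
set_option linter.unusedSectionVars false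

namespace Cfsg.Agent.Helper5.VL

open Subgroup
open scoped commutatorElement

universe u
variable {p : ℕ} [Fact p.Prime] {G : Type u} [Group G] [Finite G]

private theorem dich_aux_card_filter {α : Type*} [Fintype α] (P : α → Prop) [DecidablePred P] :
    Nat.card {a // P a} = (Finset.univ.filter P).card := by
  rw [Nat.card_eq_fintype_card, Fintype.card_subtype]

/-- two subgroups of the same finite index, one inside the other, are equal -/
private theorem dich_aux_eq_of_le_of_index {H K : Subgroup G} (h : H ≤ K) (hi : H.index = K.index) :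
    K ≤ H := by
  have h1 := Subgroup.relIndex_mul_index h
  have hK : K.index ≠ 0 := Subgroup.index_ne_zero_of_finite
  have : H.relIndex K = 1 := by
    rw [hi] at h1
    exact Nat.eq_of_mul_eq_mul_right (Nat.pos_of_ne_zero hK) (by rw [h1, one_mul])
  exact Subgroup.relIndex_eq_one.mp this

/-- the index of `K ⊔ C(x)` when `x` is not `K`-free -/
private theorem dich_aux_index_sup_centralizer (hG : IsPGroup p G) {K : Subgroup G} (hK : Phi p G ≤ K)
    {m : ℕ} (hm : K.index = p ^ m) {x : G} (hxK : x ∉ K)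
    (hx : ¬ centralizer ({x} : Set G) ≤ K ⊔ zpowers x) :
    (K ⊔ zpowers x).index * p = p ^ m ∧
      (K ⊔ centralizer ({x} : Set G)).index * p ≤ (K ⊔ zpowers x).index := by
  have hp : p.Prime := Fact.out
  have h1 := index_sup_zpowers hK hxK
  rw [hm] at h1
  refine ⟨h1, ?_⟩
  have hle : K ⊔ zpowers x ≤ K ⊔ centralizer ({x} : Set G) := by
    apply sup_le_sup_left
    rw [zpowers_le]
    exact Subgroup.mem_centralizer_singleton_iff.mpr rfl
  have h2 := Subgroup.relIndex_mul_index hle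
  have hne1 : (K ⊔ zpowers x).relIndex (K ⊔ centralizer ({x} : Set G)) ≠ 1 := by
    intro h
    exact hx (le_sup_right.trans (Subgroup.relIndex_eq_one.mp h))
  obtain ⟨n, hn⟩ := IsPGroup.iff_card.mp hG
  have hdvd : (K ⊔ zpowers x).relIndex (K ⊔ centralizer ({x} : Set G)) ∣ p ^ n := by
    rw [← hn]
    exact (Subgroup.relIndex_dvd_card _ _).trans (Subgroup.card_subgroup_dvd_card _)
  obtain ⟨k, _, hk⟩ := (Nat.dvd_prime_pow hp).mp hdvd
  have hk0 : k ≠ 0 := by
    rintro rfl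
    exact hne1 (by rw [hk, pow_zero])
  have hpk : p ∣ (K ⊔ zpowers x).relIndex (K ⊔ centralizer ({x} : Set G)) := by
    rw [hk]; exact dvd_pow_self p hk0
  obtain ⟨r, hr⟩ := hpk
  rw [← h2, hr]
  have hr0 : 0 < r := by
    rcases Nat.eq_zero_or_pos r with h | h
    · exfalso
      rw [h, mul_zero] at hr
      have : (K ⊔ zpowers x).index ≠ 0 := Subgroup.index_ne_zero_of_finite
      rw [← h2, hr, zero_mul] at this
      exact this rfl
    · exact h
  calc (K ⊔ centralizer ({x} : Set G)).index * p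
      = p * 1 * (K ⊔ centralizer ({x} : Set G)).index := by ring
    _ ≤ p * r * (K ⊔ centralizer ({x} : Set G)).index :=
        Nat.mul_le_mul_right _ (Nat.mul_le_mul_left _ hr0)

/-- The counting core of DICH. -/
private theorem dich_aux_core (hG : IsPGroup p G) {φ0 : Fn p G} (hφ0 : φ0 ≠ 1)
    (hstep : ∀ φ : Fn p G, ¬ φ0.ker ≤ φ.ker → ⁅φ.ker, φ.ker⁆ ≠ commutator G)
    {K : Subgroup G} (hK : Phi p G ≤ K) (hK0 : ¬ K ≤ φ0.ker) {m : ℕ} (hm : K.index = p ^ m)
    (hm2 : 2 ≤ m)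
    (hno : ∀ x : G, φ0 x ≠ 1 → x ∉ K → ¬ centralizer ({x} : Set G) ≤ K ⊔ zpowers x) :
    p = 2 ∧
      (∀ φ : Fn p G, φ ≠ 1 → K ≤ φ.ker → Nat.card (Zs φ) * 4 = Nat.card G ∧
        ∀ x ∈ Zs φ, φ0 x ≠ 1 → x ∉ K) ∧
      (∀ x : G, φ0 x ≠ 1 → x ∉ K →
        (K ⊔ centralizer ({x} : Set G)).index * 2 = (K ⊔ zpowers x).index) := by
  classical
  have hp : p.Prime := Fact.out
  haveI : Fintype G := Fintype.ofFinite G
  haveI : Fintype (Fn p G) := Fintype.ofFinite _
  set N := Nat.card G with hN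
  have hNpos : 0 < N := Nat.card_pos
  -- the two finsets
  set X : Finset G := Finset.univ.filter (fun x => φ0 x ≠ 1 ∧ x ∉ K) with hX
  set F : Finset (Fn p G) := Finset.univ.filter (fun φ => φ ≠ 1 ∧ K ≤ φ.ker) with hF
  set a : G → ℕ := fun x => (F.filter (fun φ => x ∈ Zs φ)).card with ha
  set s : Fn p G → ℕ := fun φ => (X.filter (fun x => x ∈ Zs φ)).card with hs
  have hsum : ∑ x ∈ X, a x = ∑ φ ∈ F, s φ :=
    Finset.sum_card_bipartiteAbove_eq_sum_card_bipartiteBelow (fun x φ => x ∈ Zs φ)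
  -- cardinalities of X and F
  have hXcard : X.card * p * p ^ m = N * (p - 1) * (p ^ m - 1) := by
    have := card_affine_compl (φ0 := φ0) hK0 hm
    rwa [dich_aux_card_filter] at this
  have hFcard : F.card = p ^ m - 1 := by
    have h1 := homcount K hK
    rw [dich_aux_card_filter, hm] at h1
    have h2 : F = (Finset.univ.filter (fun φ : Fn p G => K ≤ φ.ker)).erase 1 := by
      ext φ
      simp only [hF, Finset.mem_filter, Finset.mem_univ, true_and, Finset.mem_erase]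
    rw [h2, Finset.card_erase_of_mem, h1]
    simp only [Finset.mem_filter, Finset.mem_univ, true_and]
    intro k _
    simp
  -- lower bound
  have hlow : ∀ x ∈ X, p ^ (m - 1) * (p - 1) ≤ a x * p ∧
      (K ⊔ zpowers x).index ≤ a x + (K ⊔ centralizer ({x} : Set G)).index ∧
      (K ⊔ zpowers x).index * p = p ^ m ∧
      (K ⊔ centralizer ({x} : Set G)).index * p ≤ (K ⊔ zpowers x).index := by
    intro x hx
    simp only [hX, Finset.mem_filter, Finset.mem_univ, true_and] at hx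
    obtain ⟨hx0, hxK⟩ := hx
    obtain ⟨h1, h2⟩ := dich_aux_index_sup_centralizer hG hK hm hxK (hno x hx0 hxK)
    have h3 := dich_lower hK x
    rw [dich_aux_card_filter] at h3
    have h4 : (Finset.univ.filter (fun φ : Fn p G => φ ≠ 1 ∧ K ≤ φ.ker ∧ x ∈ Zs φ)).card = a x := by
      simp only [ha, hF]
      rw [Finset.filter_filter]
      congr 1
      ext φ
      simp only [Finset.mem_filter, Finset.mem_univ, true_and, and_assoc]
    rw [h4] at h3
    refine ⟨?_, h3, h1, h2⟩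
    have h5 : p ^ m = p ^ (m - 1) * p := by
      rw [← pow_succ]; congr 1; omega
    have h6 : (K ⊔ zpowers x).index = p ^ (m - 1) := by
      have : (K ⊔ zpowers x).index * p = p ^ (m - 1) * p := by rw [h1, h5]
      exact Nat.eq_of_mul_eq_mul_right hp.pos this
    rw [h6] at h3 h2
    -- a x + u ≥ P, u * p ≤ P  ⇒  a x * p ≥ P * (p - 1)
    have h7 : p ^ (m - 1) * p ≤ a x * p + (K ⊔ centralizer ({x} : Set G)).index * p := by
      rw [← Nat.add_mul]; exact Nat.mul_le_mul_right _ h3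
    have h8 : p ^ (m - 1) * (p - 1) = p ^ (m - 1) * p - p ^ (m - 1) := by
      rw [Nat.mul_sub, mul_one]
    rw [h8]
    omega
  -- upper bound
  have hup : ∀ φ ∈ F, s φ * p ^ 3 ≤ N * (p - 1) ∧
      s φ ≤ Nat.card {w : G // w ∈ Zs φ ∧ φ0 w ≠ 1} ∧
      Nat.card {w : G // w ∈ Zs φ ∧ φ0 w ≠ 1} * p ≤ Nat.card (Zs φ) * (p - 1) ∧
      Nat.card (Zs φ) * p ^ 2 ≤ N := by
    intro φ hφF
    simp only [hF, Finset.mem_filter, Finset.mem_univ, true_and] at hφF
    obtain ⟨hφ1, hKφ⟩ := hφF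
    have hindep : ¬ φ0.ker ≤ φ.ker := by
      intro hle
      have : φ.ker ≤ φ0.ker := dich_aux_eq_of_le_of_index hle (by rw [index_ker hφ0, index_ker hφ1])
      exact hK0 (hKφ.trans this)
    have h1 := Zs_card_le hG hφ1 (hstep φ hindep)
    have h2 := card_affine_le φ0 (Zs φ)
    have h3 : s φ ≤ Nat.card {w : G // w ∈ Zs φ ∧ φ0 w ≠ 1} := by
      rw [dich_aux_card_filter]
      apply Finset.card_le_card
      intro x hx
      simp only [hX, Finset.mem_filter, Finset.mem_univ, true_and] at hx ⊢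
      exact ⟨hx.2, hx.1.1⟩
    refine ⟨?_, h3, h2, h1⟩
    calc s φ * p ^ 3 ≤ Nat.card {w : G // w ∈ Zs φ ∧ φ0 w ≠ 1} * p ^ 3 := Nat.mul_le_mul_right _ h3
      _ = (Nat.card {w : G // w ∈ Zs φ ∧ φ0 w ≠ 1} * p) * p ^ 2 := by ring
      _ ≤ (Nat.card (Zs φ) * (p - 1)) * p ^ 2 := Nat.mul_le_mul_right _ h2
      _ = (Nat.card (Zs φ) * p ^ 2) * (p - 1) := by ring
      _ ≤ N * (p - 1) := Nat.mul_le_mul_right _ h1
  -- sums
  set S := ∑ x ∈ X, a x with hS
  have hS1 : X.card * (p ^ (m - 1) * (p - 1)) ≤ S * p := by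
    rw [hS, Finset.sum_mul, ← smul_eq_mul, ← Finset.sum_const]
    exact Finset.sum_le_sum fun x hx => (hlow x hx).1
  have hS2 : S * p ^ 3 ≤ (p ^ m - 1) * (N * (p - 1)) := by
    rw [hsum, Finset.sum_mul, ← hFcard, ← smul_eq_mul, ← Finset.sum_const]
    exact Finset.sum_le_sum fun φ hφ => (hup φ hφ).1
  have hpm : p ^ m = p ^ (m - 1) * p := by
    rw [← pow_succ]; congr 1; omega
  have hpm1 : 0 < p ^ m - 1 := by
    have := Nat.one_lt_pow (n := m) (by omega) hp.one_lt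
    omega
  have hp1 : 0 < p - 1 := by have := hp.two_le; omega
  -- the key inequality
  have hkey : N * (p - 1) * (p ^ m - 1) * (p - 1) ≤ (p ^ m - 1) * (N * (p - 1)) := by
    calc N * (p - 1) * (p ^ m - 1) * (p - 1)
        = X.card * p * p ^ m * (p - 1) := by rw [hXcard]
      _ = X.card * (p ^ (m - 1) * (p - 1)) * p ^ 2 := by rw [hpm]; ring
      _ ≤ S * p * p ^ 2 := Nat.mul_le_mul_right _ hS1
      _ = S * p ^ 3 := by ring
      _ ≤ (p ^ m - 1) * (N * (p - 1)) := hS2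
  have hp2 : p = 2 := by
    have h1 : (p ^ m - 1) * (N * (p - 1)) * (p - 1) ≤ (p ^ m - 1) * (N * (p - 1)) * 1 := by
      calc (p ^ m - 1) * (N * (p - 1)) * (p - 1) = N * (p - 1) * (p ^ m - 1) * (p - 1) := by ring
        _ ≤ (p ^ m - 1) * (N * (p - 1)) := hkey
        _ = (p ^ m - 1) * (N * (p - 1)) * 1 := by ring
    have h2 : 0 < (p ^ m - 1) * (N * (p - 1)) := Nat.mul_pos hpm1 (Nat.mul_pos hNpos hp1)
    have h3 := Nat.le_of_mul_le_mul_left h1 h2
    have := hp.two_le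
    omega
  refine ⟨hp2, ?_⟩
  subst hp2
  simp only [show (2 : ℕ) - 1 = 1 from rfl, mul_one] at hlow hup hS1 hS2 hXcard hkey
  -- exact values of the sums
  have hE1 : S * 2 ^ 3 = (2 ^ m - 1) * N := by
    apply le_antisymm hS2
    calc (2 ^ m - 1) * N = X.card * 2 * 2 ^ m := by rw [hXcard]; ring
      _ = X.card * 2 ^ (m - 1) * 2 ^ 2 := by rw [hpm]; ring
      _ ≤ S * 2 * 2 ^ 2 := Nat.mul_le_mul_right _ hS1
      _ = S * 2 ^ 3 := by ring
  have hE2 : X.card * 2 ^ (m - 1) = S * 2 := by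
    apply le_antisymm hS1
    have : S * 2 * 2 ^ 2 ≤ X.card * 2 ^ (m - 1) * 2 ^ 2 := by
      apply le_of_eq
      calc S * 2 * 2 ^ 2 = S * 2 ^ 3 := by ring
        _ = (2 ^ m - 1) * N := hE1
        _ = X.card * 2 * 2 ^ m := by rw [hXcard]; ring
        _ = X.card * 2 ^ (m - 1) * 2 ^ 2 := by rw [hpm]; ring
    exact Nat.le_of_mul_le_mul_right this (by norm_num)
  -- termwise equalities
  have hTs : ∀ φ ∈ F, s φ * 2 ^ 3 = N := by
    have h1 : ∑ φ ∈ F, s φ * 2 ^ 3 = ∑ φ ∈ F, N := by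
      rw [← Finset.sum_mul, ← hsum, hE1, Finset.sum_const, smul_eq_mul, hFcard]
    exact (Finset.sum_eq_sum_iff_of_le fun φ hφ => (hup φ hφ).1).mp h1
  have hTa : ∀ x ∈ X, 2 ^ (m - 1) = a x * 2 := by
    have h1 : ∑ x ∈ X, 2 ^ (m - 1) = ∑ x ∈ X, a x * 2 := by
      rw [← Finset.sum_mul, ← hS, ← hE2, Finset.sum_const, smul_eq_mul]
    exact (Finset.sum_eq_sum_iff_of_le fun x hx => (hlow x hx).1).mp h1
  refine ⟨?_, ?_⟩
  · intro φ hφ1 hKφ
    have hφF : φ ∈ F := by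
      simp only [hF, Finset.mem_filter, Finset.mem_univ, true_and]
      exact ⟨hφ1, hKφ⟩
    obtain ⟨_, h3, h2, h1⟩ := hup φ hφF
    have h0 := hTs φ hφF
    -- N = 8 s ≤ 8 z ≤ 4 |Zs| ≤ N
    have hz : s φ = Nat.card {w : G // w ∈ Zs φ ∧ φ0 w ≠ 1} := by omega
    refine ⟨by omega, ?_⟩
    intro x hxZ hx0 hxK
    -- the filter sets are equal
    rw [dich_aux_card_filter] at hz
    have hsub : X.filter (fun x => x ∈ Zs φ) ⊆ Finset.univ.filter (fun w : G => w ∈ Zs φ ∧ φ0 w ≠ 1) := by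
      intro y hy
      simp only [hX, Finset.mem_filter, Finset.mem_univ, true_and] at hy ⊢
      exact ⟨hy.2, hy.1.1⟩
    have heq := Finset.eq_of_subset_of_card_le hsub (le_of_eq hz.symm)
    have hxin : x ∈ Finset.univ.filter (fun w : G => w ∈ Zs φ ∧ φ0 w ≠ 1) := by
      simp only [Finset.mem_filter, Finset.mem_univ, true_and]
      exact ⟨hxZ, hx0⟩
    rw [← heq] at hxin
    simp only [hX, Finset.mem_filter, Finset.mem_univ, true_and] at hxin
    exact hxin.1.2 hxK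
  · intro x hx0 hxK
    have hxX : x ∈ X := by
      simp only [hX, Finset.mem_filter, Finset.mem_univ, true_and]
      exact ⟨hx0, hxK⟩
    obtain ⟨_, h3, h1, h2⟩ := hlow x hxX
    have h0 := hTa x hxX
    have h6 : (K ⊔ zpowers x).index = 2 ^ (m - 1) := by
      have : (K ⊔ zpowers x).index * 2 = 2 ^ (m - 1) * 2 := by rw [h1, hpm]
      exact Nat.eq_of_mul_eq_mul_right (by norm_num) this
    omega

/-- DICH (D) -/
theorem dichotomy (hG : IsPGroup p G) {φ0 : Fn p G} (hφ0 : φ0 ≠ 1)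
    (hstep : ∀ φ : Fn p G, ¬ φ0.ker ≤ φ.ker → ⁅φ.ker, φ.ker⁆ ≠ commutator G)
    {K : Subgroup G} (hK : Phi p G ≤ K) (hK0 : ¬ K ≤ φ0.ker) {m : ℕ} (hm : K.index = p ^ m)
    (hm2 : 2 ≤ m)
    (hno : ∀ x : G, φ0 x ≠ 1 → x ∉ K → ¬ centralizer ({x} : Set G) ≤ K ⊔ zpowers x) :
    p = 2 ∧ (∀ y ∈ K, φ0 y ≠ 1 → centralizer ({y} : Set G) ≤ K) ∧
      (∀ φ : Fn p G, φ ≠ 1 → K ≤ φ.ker → Nat.card (Zs φ) * 4 = Nat.card G) ∧
      (∀ x : G, φ0 x ≠ 1 → x ∉ K →
        (K ⊔ centralizer ({x} : Set G)).index * 2 = (K ⊔ zpowers x).index) := by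
  obtain ⟨hp2, hZ, hU⟩ := dich_aux_core hG hφ0 hstep hK hK0 hm hm2 hno
  refine ⟨hp2, ?_, fun φ hφ1 hKφ => (hZ φ hφ1 hKφ).1, hU⟩
  intro y hyK hy0 c hc
  by_contra hcK
  obtain ⟨φ, hKφ, hφc⟩ := exists_sep hK hcK
  have hφ1 : φ ≠ 1 := by
    rintro rfl
    exact hφc rfl
  have hcomm : c * y = y * c := Subgroup.mem_centralizer_singleton_iff.mp hc
  have hyZ : y ∈ Zs φ :=
    mem_Zs_of_comm (hKφ hyK) (fun h => hφc (MonoidHom.mem_ker.mp h)) hcomm
  exact (hZ φ hφ1 hKφ).2 y hyZ hy0 hyK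

end Cfsg.Agent.Helper5.VL
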