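import Mathlib

/-!
# Quaternion frames in a noncommutative ring

`i j k : E` with the quaternion relations; the centraliser `E'` of the frame; every element of `E`
is uniquely `r₀ + i r₁ + j r₂ + k r₃` with `r_m ∈ E'` (when `4` is cancellable).
-/

set_option autoImplicit false

namespace Cfsg.Agent.Helper5.Zas.Alg

variable {E : Type*} [Ring E]

/-- A quaternion frame. -/
structure Frame (i j k : E) : Prop where
  ii : i * i = -1
  jj : j * j = -1
  ij : i * j = k
  ji : j * i = -k

namespace Frame

variable {i j k : E} (F : Frame i j k)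
include F

theorem ik : i * k = -j := by rw [← F.ij, ← mul_assoc, F.ii, neg_one_mul]
theorem kj : k * j = -i := by rw [← F.ij, mul_assoc, F.jj, mul_neg_one]
theorem jk : j * k = i := by rw [← F.ij, ← mul_assoc, F.ji, neg_mul, F.kj, neg_neg]
theorem ki : k * i = j := by
  have h : k = -(j * i) := by rw [F.ji, neg_neg]
  rw [h, neg_mul, mul_assoc, F.ii, mul_neg_one, neg_neg]
theorem kk : k * k = -1 := by
  have h := F.ki
  calc k * k = k * (i * j) := by rw [F.ij]
    _ = (k * i) * j := by rw [mul_assoc]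
    _ = -1 := by rw [F.ki, F.jj]

theorem ii' (x : E) : i * (i * x) = -x := by rw [← mul_assoc, F.ii, neg_one_mul]
theorem jj' (x : E) : j * (j * x) = -x := by rw [← mul_assoc, F.jj, neg_one_mul]
theorem kk' (x : E) : k * (k * x) = -x := by rw [← mul_assoc, F.kk, neg_one_mul]
theorem ij' (x : E) : i * (j * x) = k * x := by rw [← mul_assoc, F.ij]
theorem ji' (x : E) : j * (i * x) = -(k * x) := by rw [← mul_assoc, F.ji, neg_mul]
theorem jk' (x : E) : j * (k * x) = i * x := by rw [← mul_assoc, F.jk]
theorem kj' (x : E) : k * (j * x) = -(i * x) := by rw [← mul_assoc, F.kj, neg_mul]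
theorem ki' (x : E) : k * (i * x) = j * x := by rw [← mul_assoc, F.ki]
theorem ik' (x : E) : i * (k * x) = -(j * x) := by rw [← mul_assoc, F.ik, neg_mul]

end Frame

/-- The centraliser of the frame. -/
def InC (i j : E) (x : E) : Prop := x * i = i * x ∧ x * j = j * x

namespace InC

variable {i j k : E} {x y : E}

theorem comm_k (F : Frame i j k) (hx : InC i j x) : x * k = k * x := by
  rw [← F.ij, ← mul_assoc, hx.1, mul_assoc, hx.2, mul_assoc]

theorem i' (hx : InC i j x) (y : E) : x * (i * y) = i * (x * y) := by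
  rw [← mul_assoc, hx.1, mul_assoc]
theorem j' (hx : InC i j x) (y : E) : x * (j * y) = j * (x * y) := by
  rw [← mul_assoc, hx.2, mul_assoc]
theorem k' (F : Frame i j k) (hx : InC i j x) (y : E) : x * (k * y) = k * (x * y) := by
  rw [← mul_assoc, hx.comm_k F, mul_assoc]

theorem zero : InC i j (0 : E) := ⟨by simp, by simp⟩
theorem one : InC i j (1 : E) := ⟨by simp, by simp⟩
theorem add (hx : InC i j x) (hy : InC i j y) : InC i j (x + y) :=
  ⟨by rw [add_mul, mul_add, hx.1, hy.1], by rw [add_mul, mul_add, hx.2, hy.2]⟩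
theorem neg (hx : InC i j x) : InC i j (-x) :=
  ⟨by rw [neg_mul, mul_neg, hx.1], by rw [neg_mul, mul_neg, hx.2]⟩
theorem sub (hx : InC i j x) (hy : InC i j y) : InC i j (x - y) := by
  rw [sub_eq_add_neg]; exact hx.add hy.neg
theorem mul (hx : InC i j x) (hy : InC i j y) : InC i j (x * y) :=
  ⟨by rw [mul_assoc, hy.1, ← mul_assoc, hx.1, mul_assoc],
   by rw [mul_assoc, hy.2, ← mul_assoc, hx.2, mul_assoc]⟩
theorem natCast (n : ℕ) : InC i j (n : E) := ⟨Nat.cast_comm n i, Nat.cast_comm n j⟩
theorem ofNat (n : ℕ) [n.AtLeastTwo] : InC i j (OfNat.ofNat n : E) := by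
  rw [← Nat.cast_ofNat]; exact natCast n

end InC

end Cfsg.Agent.Helper5.Zas.Alg
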