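import Cfsg.Agent.Helper5.ZasIndex
import Cfsg.Agent.Helper5.ZasCoreDefs
import Cfsg.Agent.Helper3.ZasPair2
import Cfsg.Agent.Helper16.FCS4
import Cfsg.Agent.Helper5.ZasFinal

set_option autoImplicit false
set_option linter.unusedSectionVars false

namespace Cfsg.Agent.Helper5.Zas

variable {p : ℕ} [Fact p.Prime] {G : Type*} [Group G] [Finite G] {V : Type*} [AddCommGroup V]
  [Module (ZMod p) V] [Finite V] [Nontrivial V]


namespace W3

/-- a group of exponent two is commutative -/
theorem comm_of_sq {H : Type*} [Group H] (h : ∀ g : H, g * g = 1) (a b : H) : a * b = b * a := by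
  have ha : a⁻¹ = a := inv_eq_of_mul_eq_one_left (h a)
  have hb : b⁻¹ = b := inv_eq_of_mul_eq_one_left (h b)
  have hab : (a * b)⁻¹ = a * b := inv_eq_of_mul_eq_one_left (h (a * b))
  rw [mul_inv_rev, ha, hb] at hab
  exact hab.symm

/-- no element of `2`-power order `≥ 4` centralises two non-cyclic elements of order three -/
theorem sq_eq_one_of_centralizer (S : Setup p G V) {x w : G} (hx : orderOf x = 3)
    (hw : orderOf w = 3) (hxw : w ∉ Subgroup.zpowers x) {g : G} {k : ℕ}
    (hg : orderOf g = 2 ^ k) (hgx : g * x = x * g) (hgw : g * w = w * g) : g * g = 1 := by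
  rcases Nat.lt_or_ge k 2 with hk | hk
  · have h2 : g ^ 2 = 1 := by
      apply orderOf_dvd_iff_pow_eq_one.mp
      rw [hg]
      interval_cases k
      · norm_num
      · norm_num
    rwa [pow_two] at h2
  · exfalso
    obtain ⟨m, rfl⟩ : ∃ m, k = m + 2 := ⟨k - 2, by omega⟩
    set q := g ^ (2 ^ m) with hq
    have hqo : orderOf q = 4 := by
      rw [hq, orderOf_pow' _ (by positivity), hg, pow_add]
      rw [Nat.gcd_eq_right (Dvd.intro _ rfl)]
      rw [Nat.mul_div_cancel_left _ (by positivity)]
      norm_num
    have c1 : Commute g x := hgx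
    have c2 : Commute g w := hgw
    exact no_central_four S hx hw hxw hqo (c1.pow_left _).eq (c2.pow_left _).eq

/-- the Sylow subgroups of the centraliser are cyclic -/
theorem sylow_centralizer (S : Setup p G V)
    (hAC : ∀ A : Subgroup G, IsMulCommutative A → IsCyclic A) (N : Subgroup G) {x w : G}
    (hxN : x ∈ N) (hwN : w ∈ N) (hx : orderOf x = 3)
    (hw : orderOf w = 3) (hxw : w ∉ Subgroup.zpowers x) (C : Subgroup G)
    (hC : C ≤ Subgroup.centralizer (N : Set G)) (q : ℕ) [Fact q.Prime]
    (P : Sylow q C) : IsCyclic P := by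
  set P' : Subgroup G := (P : Subgroup C).map C.subtype with hP'
  have hP'q : IsPGroup q P' := P.isPGroup'.map _
  have hP'le : P' ≤ C := Subgroup.map_subtype_le _
  have e := Subgroup.equivMapOfInjective (P : Subgroup C) C.subtype C.subtype_injective
  suffices h : IsCyclic P' from isCyclic_of_surjective e.symm e.symm.surjective
  by_cases hq2 : q = 2
  · subst hq2
    apply hAC
    have hsq : ∀ g : P', g * g = 1 := by
      intro g
      obtain ⟨k, hk⟩ := (IsPGroup.iff_orderOf.mp hP'q) g
      have hgC : (g : G) ∈ Subgroup.centralizer (N : Set G) := hC (hP'le g.2)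
      have h1 := Subgroup.mem_centralizer_iff.mp hgC x hxN
      have h2 := Subgroup.mem_centralizer_iff.mp hgC w hwN
      have hk' : orderOf (g : G) = 2 ^ k := by rw [Subgroup.orderOf_coe, hk]
      apply Subtype.ext
      exact sq_eq_one_of_centralizer S hx hw hxw hk' h1.symm h2.symm
    exact ⟨⟨fun a b => comm_of_sq hsq a b⟩⟩
  · rcases Cfsg.Agent.Helper16.FCS4.pgroup_structure q (fun B _ hc => hAC B hc) P' hP'q with
      h | ⟨h, -⟩
    · exact h
    · exact absurd h hq2

section Hom

variable {G : Type*} [Group G] (N : Subgroup G) [hNn : N.Normal]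
  (π : N →* alternatingGroup (Fin 5)) (hπ : Function.Surjective π) (hker : Nat.card π.ker = 2)

/-- `Aut(A₅) ≃ S₅` -/
noncomputable def autEquiv : Equiv.Perm (Fin 5) ≃* MulAut (alternatingGroup (Fin 5)) :=
  MulEquiv.ofBijective _ (Cfsg.Agent.S2119.result 5 (by norm_num) (by norm_num))

theorem autEquiv_apply (σ : Equiv.Perm (Fin 5)) (a : alternatingGroup (Fin 5)) :
    ((autEquiv σ a : alternatingGroup (Fin 5)) : Equiv.Perm (Fin 5)) = σ * a * σ⁻¹ := by
  unfold autEquiv
  rw [MulEquiv.ofBijective_apply, MulAut.conjNormal_apply]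

/-- the permutation representation of degree five -/
noncomputable def perm5 : G →* Equiv.Perm (Fin 5) :=
  (autEquiv.symm : MulAut (alternatingGroup (Fin 5)) →* Equiv.Perm (Fin 5)).comp
    (Y4.Theta N π hπ hker)

theorem perm5_ker (hN : N = Subgroup.closure {g : G | orderOf g = 3}) :
    (perm5 N π hπ hker).ker = Subgroup.centralizer (N : Set G) := by
  rw [← Y4.ker_Theta N π hπ hker hN]
  ext g
  rw [MonoidHom.mem_ker, MonoidHom.mem_ker]
  unfold perm5
  rw [MonoidHom.comp_apply]
  constructor
  · intro h
    have := congrArg autEquiv h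
    rwa [MonoidHom.coe_coe, MulEquiv.apply_symm_apply, map_one] at this
  · intro h
    rw [h, map_one]

theorem perm5_apply_mem (s : N) : perm5 N π hπ hker (s : G) = ((π s : alternatingGroup (Fin 5)) :
    Equiv.Perm (Fin 5)) := by
  unfold perm5
  rw [MonoidHom.comp_apply, MonoidHom.coe_coe, MulEquiv.symm_apply_eq]
  apply MulEquiv.ext
  intro a
  obtain ⟨t, rfl⟩ := hπ a
  rw [Y4.Theta_apply N π hπ hker]
  apply Subtype.ext
  rw [autEquiv_apply]
  have e : MulAut.conjNormal (s : G) t = s * t * s⁻¹ := by
    apply Subtype.ext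
    rw [MulAut.conjNormal_apply]
    rfl
  rw [e, map_mul, map_mul, map_inv]
  rfl

end Hom

end W3

/-- **W3.** the core of a nonsolvable Frobenius complement -/
theorem exists_isCore_of_nonsolvable (S : Setup p G V)
    (hAC : ∀ A : Subgroup G, IsMulCommutative A → IsCyclic A)
    (hns : ¬ Group.IsSolvable G) : ∃ N : Subgroup G, IsCore N := by
  obtain ⟨hcard, hNn, ⟨π, hπ, hker⟩, -⟩ := Cfsg.Agent.Helper5.ZasFin.nonsolvable_closure S hns
  obtain ⟨x, w, hx, hw, hxw⟩ :
      ∃ x w : G, orderOf x = 3 ∧ orderOf w = 3 ∧ w ∉ Subgroup.zpowers x := by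
    by_contra hcon
    push Not at hcon
    by_cases hD : ∃ x : G, orderOf x = 3
    · obtain ⟨x, hx⟩ := hD
      have hle : Subgroup.closure {g : G | orderOf g = 3} ≤ Subgroup.zpowers x := by
        rw [Subgroup.closure_le]
        intro w hw
        exact hcon x w hx hw
      have h1 := Subgroup.card_le_of_le hle
      rw [hcard, Nat.card_zpowers, hx] at h1
      omega
    · push Not at hD
      have he : {g : G | orderOf g = 3} = ∅ := by
        ext g
        simp only [Set.mem_ofPred_eq, Set.mem_empty_iff_false, iff_false]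
        exact hD g
      rw [he, Subgroup.closure_empty, Subgroup.card_bot] at hcard
      omega
  have hxN : x ∈ Subgroup.closure {g : G | orderOf g = 3} := Subgroup.subset_closure hx
  have hwN : w ∈ Subgroup.closure {g : G | orderOf g = 3} := Subgroup.subset_closure hw
  refine ⟨Subgroup.centralizer ((Subgroup.closure {g : G | orderOf g = 3} : Subgroup G) : Set G),
    Subgroup.normal_centralizer,
    fun q _ P => W3.sylow_centralizer S hAC _ hxN hwN hx hw hxw _ le_rfl q P, ?_⟩
  right; right; right; right
  have hkerf := W3.perm5_ker (Subgroup.closure {g : G | orderOf g = 3}) π hπ hker rfl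
  by_cases hsurj : Function.Surjective
      (W3.perm5 (Subgroup.closure {g : G | orderOf g = 3}) π hπ hker)
  · right
    exact ⟨_, hsurj, hkerf⟩
  · left
    set f := W3.perm5 (Subgroup.closure {g : G | orderOf g = 3}) π hπ hker with hf
    have hle : alternatingGroup (Fin 5) ≤ f.range := by
      intro σ hσ
      obtain ⟨s, hs⟩ := hπ ⟨σ, hσ⟩
      refine ⟨s, ?_⟩
      rw [hf, W3.perm5_apply_mem, hs]
    have hrange : f.range = alternatingGroup (Fin 5) := by
      have h1 : f.range.index ∣ 2 := by
        rw [← alternatingGroup.index_eq_two (α := Fin 5)]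
        exact Subgroup.index_dvd_of_le hle
      have h2 : f.range.index ≠ 1 := by
        rw [Ne, Subgroup.index_eq_one, MonoidHom.range_eq_top]
        exact hsurj
      have h3 : f.range.index = 2 := by
        rcases (Nat.dvd_prime Nat.prime_two).mp h1 with h | h
        · exact absurd h h2
        · exact h
      exact Equiv.Perm.eq_alternatingGroup_of_index_eq_two h3
    have hmem : ∀ g : G, f g ∈ alternatingGroup (Fin 5) := by
      intro g
      rw [← hrange]
      exact ⟨g, rfl⟩
    refine ⟨f.codRestrict (alternatingGroup (Fin 5)) hmem, ?_, ?_⟩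
    · rintro ⟨σ, hσ⟩
      have : σ ∈ f.range := by rw [hrange]; exact hσ
      obtain ⟨g, hg⟩ := this
      exact ⟨g, Subtype.ext hg⟩
    · rw [MonoidHom.ker_codRestrict]
      exact hkerf

end Cfsg.Agent.Helper5.Zas
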